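import Mathlib
import Cfsg.Agent.Lib.L0.CharOps
import Cfsg.Agent.Lib.L0.CharInner
import Cfsg.Agent.Lib.H24.CharSchur
import Cfsg.Agent.Lib.H24.CharOrth

set_option autoImplicit false

/-!
# Clifford theory along an injective homomorphism with normal image

For an injective homomorphism `ι : N →* G` of finite groups:

* `exists_irr_over` : every irreducible character of `N` is a constituent of `π ∘ ι` for some
  irreducible character `π` of `G`.
* `exists_conj_of_constituents` : if `c x` realises conjugation by `x : G` on `N`, any two irreducible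
  constituents of `π ∘ ι` are conjugate under `G`.
* `exists_two_irr_of_norm_two` : a character of norm `2` is the sum of two distinct irreducibles.
-/

namespace Cfsg.Agent.Lib.H12

open Cfsg Cfsg.Agent.Lib.L0 Cfsg.Agent.Lib.H24
open scoped ComplexConjugate

section general

variable {G N : Type*} [Group G] [Fintype G] [Group N] [Fintype N] (ι : N →* G)

/-- Every irreducible character of `N` lies under some irreducible character of `G`. -/
theorem exists_irr_over (hι : Function.Injective ι) {χ : N → ℂ} (hχ : IsIrrCharacter N χ) :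
    ∃ π : G → ℂ, IsIrrCharacter G π ∧ classInner (π ∘ ι) χ ≠ 0 := by
  classical
  have : Fintype (IrrCharacter G) := Fintype.ofFinite _
  by_contra hcon0
  have hcon : ∀ π : G → ℂ, IsIrrCharacter G π → classInner (π ∘ ι) χ = 0 := by
    intro π hπ
    by_contra h
    exact hcon0 ⟨π, hπ, h⟩
  have h0 : ∑ π : IrrCharacter G, (π : G → ℂ) 1 * classInner ((π : G → ℂ) ∘ ι) χ = 0 := by
    apply Finset.sum_eq_zero
    intro π _
    rw [hcon π π.2, mul_zero]
  have h1 : ∑ π : IrrCharacter G, (π : G → ℂ) 1 * classInner ((π : G → ℂ) ∘ ι) χ =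
      (Nat.card N : ℂ)⁻¹ * ((Nat.card G : ℂ) * conj (χ 1)) := by
    unfold classInner
    simp only [Finset.mul_sum]
    rw [Finset.sum_comm]
    have h2 : ∀ n : N, ∑ π : IrrCharacter G,
        (π : G → ℂ) 1 * ((Nat.card N : ℂ)⁻¹ * (((π : G → ℂ) ∘ ι) n * conj (χ n))) =
        (Nat.card N : ℂ)⁻¹ * ((if n = 1 then (Nat.card G : ℂ) else 0) * conj (χ n)) := by
      intro n
      have h3 := sum_irr_one_mul (G := G) (ι n)
      have h4 : (ι n = 1) ↔ n = 1 := by
        constructor
        · intro h
          apply hι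
          rw [h, map_one]
        · intro h
          rw [h, map_one]
      simp only [h4] at h3
      rw [← h3, Finset.sum_mul, Finset.mul_sum]
      apply Finset.sum_congr rfl
      intro π _
      simp only [Function.comp_apply]
      ring
    rw [Finset.sum_congr rfl (fun n _ => h2 n), ← Finset.mul_sum]
    congr 1
    rw [Finset.sum_eq_single (1 : N)]
    · rw [if_pos rfl]
    · intro n _ hn
      rw [if_neg hn, zero_mul]
    · intro h
      exact absurd (Finset.mem_univ _) h
  rw [h0] at h1
  have hN : (Nat.card N : ℂ) ≠ 0 := by exact_mod_cast (Nat.card_pos (α := N)).ne'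
  have hG : (Nat.card G : ℂ) ≠ 0 := by exact_mod_cast (Nat.card_pos (α := G)).ne'
  obtain ⟨k, hk, hk1⟩ := irr_one_eq ⟨χ, hχ⟩
  have hχ1 : conj (χ 1) ≠ 0 := by
    rw [show χ 1 = (k : ℂ) from hk1, Complex.conj_natCast]
    exact_mod_cast hk.ne'
  have := h1.symm
  rw [mul_eq_zero] at this
  rcases this with h | h
  · exact hN (inv_eq_zero.mp h)
  · rcases mul_eq_zero.mp h with h | h
    · exact hG h
    · exact hχ1 h

/-- The averaged function `g ↦ ∑ x, χ (x⁻¹ g x)` (extension by zero along `ι`). -/
noncomputable def avgFun (χ : N → ℂ) : G → ℂ := by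
  classical
  exact fun g => ∑ x : G, ∑ n : N, if ι n = x⁻¹ * g * x then χ n else 0

theorem avgFun_apply [DecidableEq G] (χ : N → ℂ) (g : G) :
    avgFun ι χ g = ∑ x : G, ∑ n : N, if ι n = x⁻¹ * g * x then χ n else 0 := by
  unfold avgFun
  apply Finset.sum_congr rfl
  intro x _
  apply Finset.sum_congr rfl
  intro n _
  congr

theorem isClassFunction_avgFun (χ : N → ℂ) : IsClassFunction G (avgFun ι χ) := by
  classical
  intro g h
  rw [avgFun_apply, avgFun_apply]
  apply Fintype.sum_equiv (Equiv.mulLeft h⁻¹)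
  intro x
  apply Finset.sum_congr rfl
  intro n _
  have : ((Equiv.mulLeft h⁻¹) x)⁻¹ * g * (Equiv.mulLeft h⁻¹) x = x⁻¹ * (h * g * h⁻¹) * x := by
    simp only [Equiv.coe_mulLeft]
    group
  rw [this]

/-- Inner products with the averaged function. -/
theorem classInner_avgFun (χ : N → ℂ) (ψ : G → ℂ) (hψ : IsClassFunction G ψ) :
    classInner (avgFun ι χ) ψ = (Nat.card N : ℂ) * classInner χ (ψ ∘ ι) := by
  classical
  unfold classInner
  have hN : (Nat.card N : ℂ) ≠ 0 := by exact_mod_cast (Nat.card_pos (α := N)).ne'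
  have hG : (Nat.card G : ℂ) ≠ 0 := by exact_mod_cast (Nat.card_pos (α := G)).ne'
  have h1 : ∑ g : G, avgFun ι χ g * conj (ψ g) =
      (Nat.card G : ℂ) * ∑ n : N, χ n * conj ((ψ ∘ ι) n) := by
    simp only [avgFun_apply, Finset.sum_mul]
    rw [Finset.sum_comm]
    have h2 : ∀ x : G, ∑ g : G, ∑ n : N, (if ι n = x⁻¹ * g * x then χ n else 0) * conj (ψ g) =
        ∑ n : N, χ n * conj ((ψ ∘ ι) n) := by
      intro x
      rw [Finset.sum_comm]
      apply Finset.sum_congr rfl
      intro n _
      rw [Finset.sum_eq_single (x * ι n * x⁻¹)]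
      · rw [if_pos (by group), hψ, Function.comp_apply]
      · intro g _ hg
        rw [if_neg, zero_mul]
        intro h
        apply hg
        rw [h]
        group
      · intro h
        exact absurd (Finset.mem_univ _) h
    rw [Finset.sum_congr rfl (fun x _ => h2 x), Finset.sum_const, Finset.card_univ, nsmul_eq_mul,
      Nat.card_eq_fintype_card]
  rw [h1]
  field_simp

theorem avgFun_comp (hι : Function.Injective ι) (c : G → N → N)
    (hc : ∀ x n, ι (c x n) = x * ι n * x⁻¹) (χ : N → ℂ) (m : N) :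
    avgFun ι χ (ι m) = ∑ x : G, χ (c x⁻¹ m) := by
  classical
  rw [avgFun_apply]
  apply Finset.sum_congr rfl
  intro x _
  rw [Finset.sum_eq_single (c x⁻¹ m)]
  · rw [if_pos]
    rw [hc, inv_inv]
  · intro n _ hn
    rw [if_neg]
    intro h
    apply hn
    apply hι
    rw [h, hc, inv_inv]
  · intro h
    exact absurd (Finset.mem_univ _) h

/-- Clifford: two irreducible constituents of the restriction of an irreducible character of `G`
are conjugate under `G`. -/
theorem exists_conj_of_constituents (hι : Function.Injective ι) (c : G → N → N)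
    (hc : ∀ x n, ι (c x n) = x * ι n * x⁻¹) {π : G → ℂ} (hπ : IsIrrCharacter G π)
    {χ₁ χ₂ : N → ℂ} (h₁ : IsIrrCharacter N χ₁) (h₂ : IsIrrCharacter N χ₂)
    (hc₁ : classInner (π ∘ ι) χ₁ ≠ 0) (hc₂ : classInner (π ∘ ι) χ₂ ≠ 0) :
    ∃ x : G, ∀ n, χ₂ (c x n) = χ₁ n := by
  classical
  have : Fintype (IrrCharacter G) := Fintype.ofFinite _
  -- `c x` is a surjective endomorphism
  have hc1 : ∀ x, c x 1 = 1 := by
    intro x
    apply hι
    rw [hc, map_one]
    group
  have hcm : ∀ x n m, c x (n * m) = c x n * c x m := by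
    intro x n m
    apply hι
    rw [hc, map_mul, map_mul, hc, hc]
    group
  have hcc : ∀ x y n, c x (c y n) = c (x * y) n := by
    intro x y n
    apply hι
    rw [hc, hc, hc]
    group
  have hcone : ∀ n, c 1 n = n := by
    intro n
    apply hι
    rw [hc]
    group
  let cHom : G → (N →* N) := fun x =>
    { toFun := c x
      map_one' := hc1 x
      map_mul' := hcm x }
  have hsurj : ∀ x, Function.Surjective (cHom x) := by
    intro x n
    refine ⟨c x⁻¹ n, ?_⟩
    show c x (c x⁻¹ n) = n
    rw [hcc, mul_inv_cancel, hcone]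
  -- expansion of the averaged function
  set Φ := avgFun ι χ₁ with hΦ
  have hexp := classFunction_expansion Φ (isClassFunction_avgFun ι χ₁)
  have hcoef : ∀ π' : IrrCharacter G, classInner Φ (π' : G → ℂ) =
      (Nat.card N : ℂ) * classInner χ₁ ((π' : G → ℂ) ∘ ι) := by
    intro π'
    exact classInner_avgFun ι χ₁ _ (isClassFunction_of_isCharacter (isCharacter_of_irr π'.2))
  have hres : Φ ∘ ι = ∑ π' : IrrCharacter G,
      ((Nat.card N : ℂ) * classInner χ₁ ((π' : G → ℂ) ∘ ι)) • ((π' : G → ℂ) ∘ ι) := by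
    funext m
    have := congrFun hexp (ι m)
    rw [Function.comp_apply, this]
    simp only [Finset.sum_apply, Pi.smul_apply, Function.comp_apply, hcoef]
  have hinner : classInner (Φ ∘ ι) χ₂ = ∑ π' : IrrCharacter G,
      ((Nat.card N : ℂ) * classInner χ₁ ((π' : G → ℂ) ∘ ι)) * classInner ((π' : G → ℂ) ∘ ι) χ₂ := by
    rw [hres, classInner_sum_left]
    apply Finset.sum_congr rfl
    intro π' _
    rw [classInner_smul_left]
  -- every term is a natural number
  have hnat : ∀ π' : IrrCharacter G, ∃ k : ℕ,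
      ((Nat.card N : ℂ) * classInner χ₁ ((π' : G → ℂ) ∘ ι)) * classInner ((π' : G → ℂ) ∘ ι) χ₂ = k := by
    intro π'
    have hch : IsCharacter N ((π' : G → ℂ) ∘ ι) := isCharacter_comp ι (isCharacter_of_irr π'.2)
    obtain ⟨a, ha⟩ := classInner_irr_char_nat hch h₁
    obtain ⟨b, hb⟩ := classInner_char_irr_nat hch h₂
    refine ⟨Nat.card N * a * b, ?_⟩
    rw [ha, hb]
    push_cast
    ring
  choose k hk using hnat
  have hch : IsCharacter N (π ∘ ι) := isCharacter_comp ι (isCharacter_of_irr hπ)
  have hkπ : k ⟨π, hπ⟩ ≠ 0 := by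
    intro h0
    have h := hk ⟨π, hπ⟩
    rw [h0, Nat.cast_zero] at h
    have hN : (Nat.card N : ℂ) ≠ 0 := by exact_mod_cast (Nat.card_pos (α := N)).ne'
    rcases mul_eq_zero.mp h with h | h
    · rcases mul_eq_zero.mp h with h | h
      · exact hN h
      · apply hc₁
        rw [← classInner_conj_symm, h, map_zero]
    · exact hc₂ h
  have hne : classInner (Φ ∘ ι) χ₂ ≠ 0 := by
    rw [hinner, Finset.sum_congr rfl (fun π' _ => hk π'), ← Nat.cast_sum]
    have : 0 < ∑ π' : IrrCharacter G, k π' := by
      apply Finset.sum_pos'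
      · intro i _
        exact Nat.zero_le _
      · exact ⟨⟨π, hπ⟩, Finset.mem_univ _, Nat.pos_of_ne_zero hkπ⟩
    exact_mod_cast this.ne'
  -- so some conjugate of `χ₁` is not orthogonal to `χ₂`
  have hsum : Φ ∘ ι = ∑ x : G, fun m => χ₁ (c x⁻¹ m) := by
    funext m
    rw [Function.comp_apply, hΦ, avgFun_comp ι hι c hc, Finset.sum_apply]
  rw [hsum, classInner_sum_left] at hne
  obtain ⟨x, -, hx⟩ := Finset.exists_ne_zero_of_sum_ne_zero hne
  have hirr : IsIrrCharacter N (fun m => χ₁ (c x⁻¹ m)) :=
    isIrrCharacter_comp_of_surjective (cHom x⁻¹) (hsurj x⁻¹) h₁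
  have heq : (fun m => χ₁ (c x⁻¹ m)) = χ₂ := by
    by_contra hne'
    exact hx (irr_classInner_ne hirr h₂ hne')
  refine ⟨x, fun n => ?_⟩
  rw [← heq]
  show χ₁ (c x⁻¹ (c x n)) = χ₁ n
  rw [hcc, inv_mul_cancel, hcone]

end general

section normtwo

variable {N : Type*} [Group N] [Fintype N]

/-- A character of norm two is the sum of two distinct irreducible characters. -/
theorem exists_two_irr_of_norm_two {ψ : N → ℂ} (hψ : IsCharacter N ψ) (h2 : classInner ψ ψ = 2) :
    ∃ χ₁ χ₂ : N → ℂ, IsIrrCharacter N χ₁ ∧ IsIrrCharacter N χ₂ ∧ χ₁ ≠ χ₂ ∧ ψ = χ₁ + χ₂ := by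
  classical
  obtain ⟨l, hl, rfl⟩ := isCharacter_exists_irr_decomp hψ
  have hnorm : classInner l.sum l.sum = ((l.map fun a => l.count a).sum : ℕ) := by
    rw [classInner_list_sum_right]
    have : ∀ l' : List (N → ℂ), (∀ a ∈ l', a ∈ l) →
        (l'.map fun a => classInner l.sum a).sum = ((l'.map fun a => l.count a).sum : ℕ) := by
      intro l' hl'
      induction l' with
      | nil => simp
      | cons a l' ih =>
        rw [List.map_cons, List.sum_cons, List.map_cons, List.sum_cons, Nat.cast_add,
          ih (fun b hb => hl' b (List.mem_cons_of_mem _ hb)),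
          classInner_irr_list_sum hl (hl a (hl' a List.mem_cons_self))]
    exact this l (fun a ha => ha)
  rw [hnorm] at h2
  have h2' : (l.map fun a => l.count a).sum = 2 := by exact_mod_cast h2
  match l, hl, h2' with
  | [], _, h => simp at h
  | [a], _, h => simp at h
  | [a, b], hl, h =>
    refine ⟨a, b, hl a (by simp), hl b (by simp), ?_, by simp⟩
    intro hab
    subst hab
    simp at h
  | a :: b :: c :: l', _, h =>
    exfalso
    have h1 : 1 ≤ (a :: b :: c :: l').count a := List.count_pos_iff.mpr (by simp)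
    have h2 : 1 ≤ (a :: b :: c :: l').count b := List.count_pos_iff.mpr (by simp)
    have h3 : 1 ≤ (a :: b :: c :: l').count c := List.count_pos_iff.mpr (by simp)
    simp only [List.map_cons, List.sum_cons] at h
    omega

end normtwo

end Cfsg.Agent.Lib.H12
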