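import Cfsg.Prelude.Def_Blocks

/-!
# Arithmetic in the local ring at a modular maximal ideal of the algebraic integers

(helper12) Closure properties of `Cfsg.MemLocalRing`, `Cfsg.MemLocalIdeal` for an ideal `M` with
`Cfsg.IsPModular p M`; the predicate `InM M x` ("the complex number `x` is an algebraic integer
lying in `M`"); `SameBlock` is an equivalence relation.
-/

set_option autoImplicit false

namespace Cfsg.Agent.Lib.H12

open Cfsg

variable {p : ℕ} {M : Ideal AlgInt}

theorem isPrime_of_isPModular (hM : IsPModular p M) : M.IsPrime := hM.2.1.isPrime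

theorem one_notMem_of_isPModular (hM : IsPModular p M) : (1 : AlgInt) ∉ M :=
  (Ideal.ne_top_iff_one M).mp hM.2.1.ne_top

theorem coe_ne_zero_of_notMem {b : AlgInt} (hb : b ∉ M) : (b : ℂ) ≠ 0 := by
  intro h
  apply hb
  have : b = 0 := Subtype.ext h
  rw [this]
  exact M.zero_mem

theorem mul_notMem (hM : IsPModular p M) {b d : AlgInt} (hb : b ∉ M) (hd : d ∉ M) : b * d ∉ M := by
  intro h
  rcases (isPrime_of_isPModular hM).mem_or_mem h with h | h
  · exact hb h
  · exact hd h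

theorem natCast_mem_iff (hM : IsPModular p M) (n : ℕ) : ((n : AlgInt) ∈ M) ↔ p ∣ n := by
  constructor
  · intro hn
    by_contra hdvd
    have hcop : Nat.Coprime p n := (Nat.Prime.coprime_iff_not_dvd hM.1).mpr hdvd
    have hbez := Nat.gcd_eq_gcd_ab p n
    rw [hcop] at hbez
    apply one_notMem_of_isPModular hM
    have h1 : (1 : AlgInt) = (p : AlgInt) * ((Nat.gcdA p n : ℤ) : AlgInt) +
        (n : AlgInt) * ((Nat.gcdB p n : ℤ) : AlgInt) := by
      have : ((1 : ℕ) : ℤ) = (p : ℤ) * Nat.gcdA p n + (n : ℤ) * Nat.gcdB p n := hbez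
      have h2 := congrArg (fun z : ℤ => (z : AlgInt)) this
      push_cast at h2
      exact h2
    rw [h1]
    exact M.add_mem (M.mul_mem_right _ hM.2.2) (M.mul_mem_right _ hn)
  · rintro ⟨k, rfl⟩
    rw [Nat.cast_mul]
    exact M.mul_mem_right _ hM.2.2

/-! ### The local ideal and local ring -/

theorem memLocalIdeal_of_mem (hM : IsPModular p M) {a : AlgInt} (ha : a ∈ M) :
    MemLocalIdeal M (a : ℂ) :=
  ⟨a, 1, ha, one_notMem_of_isPModular hM, by simp⟩

theorem memLocalIdeal_zero (hM : IsPModular p M) : MemLocalIdeal M 0 := by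
  have := memLocalIdeal_of_mem hM M.zero_mem
  simpa using this

theorem memLocalRing_coe (hM : IsPModular p M) (a : AlgInt) : MemLocalRing M (a : ℂ) :=
  ⟨a, 1, one_notMem_of_isPModular hM, by simp⟩

theorem memLocalRing_of_memLocalIdeal {z : ℂ} (hz : MemLocalIdeal M z) : MemLocalRing M z := by
  obtain ⟨a, b, -, hb, h⟩ := hz
  exact ⟨a, b, hb, h⟩

theorem memLocalIdeal_add (hM : IsPModular p M) {z w : ℂ} (hz : MemLocalIdeal M z)
    (hw : MemLocalIdeal M w) : MemLocalIdeal M (z + w) := by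
  obtain ⟨a, b, ha, hb, rfl⟩ := hz
  obtain ⟨c, d, hc, hd, rfl⟩ := hw
  refine ⟨a * d + c * b, b * d, M.add_mem (M.mul_mem_right _ ha) (M.mul_mem_right _ hc),
    mul_notMem hM hb hd, ?_⟩
  have hb0 := coe_ne_zero_of_notMem hb
  have hd0 := coe_ne_zero_of_notMem hd
  push_cast
  field_simp

theorem memLocalIdeal_neg {z : ℂ} (hz : MemLocalIdeal M z) : MemLocalIdeal M (-z) := by
  obtain ⟨a, b, ha, hb, rfl⟩ := hz
  refine ⟨-a, b, M.neg_mem ha, hb, ?_⟩
  push_cast
  ring

theorem memLocalIdeal_sub (hM : IsPModular p M) {z w : ℂ} (hz : MemLocalIdeal M z)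
    (hw : MemLocalIdeal M w) : MemLocalIdeal M (z - w) := by
  rw [sub_eq_add_neg]
  exact memLocalIdeal_add hM hz (memLocalIdeal_neg hw)

theorem memLocalIdeal_mul_left (hM : IsPModular p M) {z w : ℂ} (hz : MemLocalRing M z)
    (hw : MemLocalIdeal M w) : MemLocalIdeal M (z * w) := by
  obtain ⟨a, b, hb, rfl⟩ := hz
  obtain ⟨c, d, hc, hd, rfl⟩ := hw
  refine ⟨a * c, b * d, M.mul_mem_left _ hc, mul_notMem hM hb hd, ?_⟩
  push_cast
  rw [div_mul_div_comm]

theorem memLocalIdeal_mul_right (hM : IsPModular p M) {z w : ℂ} (hz : MemLocalIdeal M z)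
    (hw : MemLocalRing M w) : MemLocalIdeal M (z * w) := by
  rw [mul_comm]
  exact memLocalIdeal_mul_left hM hw hz

theorem memLocalRing_add (hM : IsPModular p M) {z w : ℂ} (hz : MemLocalRing M z)
    (hw : MemLocalRing M w) : MemLocalRing M (z + w) := by
  obtain ⟨a, b, hb, rfl⟩ := hz
  obtain ⟨c, d, hd, rfl⟩ := hw
  refine ⟨a * d + c * b, b * d, mul_notMem hM hb hd, ?_⟩
  have hb0 := coe_ne_zero_of_notMem hb
  have hd0 := coe_ne_zero_of_notMem hd
  push_cast
  field_simp

theorem memLocalRing_neg {z : ℂ} (hz : MemLocalRing M z) : MemLocalRing M (-z) := by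
  obtain ⟨a, b, hb, rfl⟩ := hz
  refine ⟨-a, b, hb, ?_⟩
  push_cast
  ring

theorem memLocalRing_sub (hM : IsPModular p M) {z w : ℂ} (hz : MemLocalRing M z)
    (hw : MemLocalRing M w) : MemLocalRing M (z - w) := by
  rw [sub_eq_add_neg]
  exact memLocalRing_add hM hz (memLocalRing_neg hw)

theorem memLocalRing_mul (hM : IsPModular p M) {z w : ℂ} (hz : MemLocalRing M z)
    (hw : MemLocalRing M w) : MemLocalRing M (z * w) := by
  obtain ⟨a, b, hb, rfl⟩ := hz
  obtain ⟨c, d, hd, rfl⟩ := hw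
  refine ⟨a * c, b * d, mul_notMem hM hb hd, ?_⟩
  push_cast
  rw [div_mul_div_comm]

/-- A quotient of two algebraic integers outside `M` is not in the local ideal. -/
theorem not_memLocalIdeal_div (hM : IsPModular p M) {a b : AlgInt} (ha : a ∉ M) (hb : b ∉ M) :
    ¬ MemLocalIdeal M ((a : ℂ) / (b : ℂ)) := by
  rintro ⟨c, d, hc, hd, h⟩
  have hb0 := coe_ne_zero_of_notMem hb
  have hd0 := coe_ne_zero_of_notMem hd
  have h1 : (c : ℂ) * (b : ℂ) = (a : ℂ) * (d : ℂ) := by
    field_simp at h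
    linear_combination h
  have h2 : c * b = a * d := by
    apply Subtype.ext
    push_cast
    exact h1
  have h3 : a * d ∈ M := by
    rw [← h2]
    exact M.mul_mem_right _ hc
  exact mul_notMem hM ha hd h3

theorem memLocalIdeal_coe_iff (hM : IsPModular p M) (a : AlgInt) :
    MemLocalIdeal M (a : ℂ) ↔ a ∈ M := by
  constructor
  · intro h
    by_contra ha
    have := not_memLocalIdeal_div hM ha (one_notMem_of_isPModular hM)
    apply this
    simpa using h
  · exact memLocalIdeal_of_mem hM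

theorem not_memLocalIdeal_one (hM : IsPModular p M) : ¬ MemLocalIdeal M 1 := by
  have := (memLocalIdeal_coe_iff hM 1).not.mpr (one_notMem_of_isPModular hM)
  simpa using this

/-! ### Algebraic integers in `M`, as complex numbers -/

/-- The complex number `x` is an algebraic integer lying in `M`. -/
def InM (M : Ideal AlgInt) (x : ℂ) : Prop := ∃ h : IsIntegral ℤ x, (⟨x, h⟩ : AlgInt) ∈ M

theorem InM.isIntegral {x : ℂ} (h : InM M x) : IsIntegral ℤ x := h.1

theorem inM_coe_iff (a : AlgInt) : InM M (a : ℂ) ↔ a ∈ M := by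
  constructor
  · rintro ⟨h, hm⟩
    exact hm
  · intro h
    exact ⟨a.2, h⟩

theorem inM_zero : InM M 0 := by
  have := (inM_coe_iff (M := M) 0).mpr M.zero_mem
  simpa using this

theorem InM.add {x y : ℂ} (hx : InM M x) (hy : InM M y) : InM M (x + y) := by
  obtain ⟨hx, hxm⟩ := hx
  obtain ⟨hy, hym⟩ := hy
  exact ⟨hx.add hy, M.add_mem hxm hym⟩

theorem InM.neg {x : ℂ} (hx : InM M x) : InM M (-x) := by
  obtain ⟨hx, hxm⟩ := hx
  exact ⟨hx.neg, M.neg_mem hxm⟩

theorem InM.sub {x y : ℂ} (hx : InM M x) (hy : InM M y) : InM M (x - y) := by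
  rw [sub_eq_add_neg]
  exact hx.add hy.neg

theorem InM.mul_left {x y : ℂ} (hx : IsIntegral ℤ x) (hy : InM M y) : InM M (x * y) := by
  obtain ⟨hy, hym⟩ := hy
  exact ⟨hx.mul hy, M.mul_mem_left ⟨x, hx⟩ hym⟩

theorem InM.mul_right {x y : ℂ} (hx : InM M x) (hy : IsIntegral ℤ y) : InM M (x * y) := by
  rw [mul_comm]
  exact hx.mul_left hy

theorem inM_natCast_iff (hM : IsPModular p M) (n : ℕ) : InM M (n : ℂ) ↔ p ∣ n := by
  have := inM_coe_iff (M := M) (n : AlgInt)
  rw [natCast_mem_iff hM] at this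
  simpa using this

theorem inM_natCast_self (hM : IsPModular p M) : InM M (p : ℂ) :=
  (inM_natCast_iff hM p).mpr dvd_rfl

/-- `M` is prime: a product of algebraic integers in `M` has a factor in `M`. -/
theorem inM_or_of_mul (hM : IsPModular p M) {x y : ℂ} (hx : IsIntegral ℤ x) (hy : IsIntegral ℤ y)
    (h : InM M (x * y)) : InM M x ∨ InM M y := by
  obtain ⟨hxy, hm⟩ := h
  have : (⟨x, hx⟩ : AlgInt) * ⟨y, hy⟩ ∈ M := hm
  rcases (isPrime_of_isPModular hM).mem_or_mem this with h | h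
  · exact Or.inl ⟨hx, h⟩
  · exact Or.inr ⟨hy, h⟩

theorem inM_of_sq (hM : IsPModular p M) {x : ℂ} (hx : IsIntegral ℤ x) (h : InM M (x ^ 2)) :
    InM M x := by
  rw [sq] at h
  rcases inM_or_of_mul hM hx hx h with h | h <;> exact h

theorem inM_of_natCast_mul (hM : IsPModular p M) {n : ℕ} (hn : ¬ p ∣ n) {x : ℂ}
    (hx : IsIntegral ℤ x) (h : InM M ((n : ℂ) * x)) : InM M x := by
  rcases inM_or_of_mul hM (isIntegral_natCast n) hx h with h | h
  · exact absurd ((inM_natCast_iff hM n).mp h) hn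
  · exact h

theorem InM.memLocalIdeal (hM : IsPModular p M) {x : ℂ} (hx : InM M x) : MemLocalIdeal M x := by
  obtain ⟨hx, hm⟩ := hx
  exact memLocalIdeal_of_mem hM hm

theorem memLocalRing_of_isIntegral (hM : IsPModular p M) {x : ℂ} (hx : IsIntegral ℤ x) :
    MemLocalRing M x :=
  memLocalRing_coe hM ⟨x, hx⟩

/-- `x / n` is in the local ideal when `x ∈ M` and `p ∤ n`. -/
theorem InM.memLocalIdeal_div (hM : IsPModular p M) {x : ℂ} (hx : InM M x) {n : ℕ} (hn : ¬ p ∣ n) :
    MemLocalIdeal M (x / (n : ℂ)) := by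
  obtain ⟨hx, hm⟩ := hx
  refine ⟨⟨x, hx⟩, (n : AlgInt), hm, (natCast_mem_iff hM n).not.mpr hn, ?_⟩
  simp

theorem memLocalRing_div (hM : IsPModular p M) {x : ℂ} (hx : IsIntegral ℤ x) {n : ℕ} (hn : ¬ p ∣ n) :
    MemLocalRing M (x / (n : ℂ)) := by
  refine ⟨⟨x, hx⟩, (n : AlgInt), (natCast_mem_iff hM n).not.mpr hn, ?_⟩
  simp

/-- `x / n` is outside the local ideal when `x ∉ M` is an algebraic integer and `p ∤ n`. -/
theorem not_memLocalIdeal_div_natCast (hM : IsPModular p M) {x : ℂ} (hx : IsIntegral ℤ x)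
    (hxM : ¬ InM M x) {n : ℕ} (hn : ¬ p ∣ n) : ¬ MemLocalIdeal M (x / (n : ℂ)) := by
  have h1 : (⟨x, hx⟩ : AlgInt) ∉ M := fun h => hxM ⟨hx, h⟩
  have h2 : (n : AlgInt) ∉ M := (natCast_mem_iff hM n).not.mpr hn
  have := not_memLocalIdeal_div hM h1 h2
  simpa using this

/-- A quotient of natural numbers `m / n` with `p ∤ m`, `p ∤ n` is outside the local ideal. -/
theorem not_memLocalIdeal_natCast_div (hM : IsPModular p M) {m n : ℕ} (hm : ¬ p ∣ m) (hn : ¬ p ∣ n) :
    ¬ MemLocalIdeal M ((m : ℂ) / (n : ℂ)) :=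
  not_memLocalIdeal_div_natCast hM (isIntegral_natCast m) ((inM_natCast_iff hM m).not.mpr hm) hn

theorem memLocalIdeal_iff_inM (hM : IsPModular p M) {z : ℂ} (hz : IsIntegral ℤ z) :
    MemLocalIdeal M z ↔ InM M z := by
  have h1 := memLocalIdeal_coe_iff hM (⟨z, hz⟩ : AlgInt)
  have h2 := inM_coe_iff (M := M) (⟨z, hz⟩ : AlgInt)
  exact h1.trans h2.symm

theorem not_inM_one (hM : IsPModular p M) : ¬ InM M 1 := by
  intro h
  have := (inM_natCast_iff hM 1).mp (by simpa using h)
  exact hM.1.one_lt.ne' (Nat.dvd_one.mp this)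

/-! ### `SameBlock` is an equivalence relation -/

section sameBlock

variable {G : Type*} [Group G]

theorem sameBlock_refl (hM : IsPModular p M) (χ : G → ℂ) : SameBlock M χ χ := by
  intro g
  rw [sub_self]
  exact memLocalIdeal_zero hM

theorem sameBlock_symm {χ ψ : G → ℂ} (h : SameBlock M χ ψ) : SameBlock M ψ χ := by
  intro g
  have := memLocalIdeal_neg (h g)
  rwa [neg_sub] at this

theorem sameBlock_trans (hM : IsPModular p M) {χ ψ φ : G → ℂ} (h1 : SameBlock M χ ψ)
    (h2 : SameBlock M ψ φ) : SameBlock M χ φ := by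
  intro g
  have := memLocalIdeal_add hM (h1 g) (h2 g)
  rwa [sub_add_sub_cancel] at this

theorem mem_blockOf {χ : G → ℂ} {ψ : IrrCharacter G} :
    ψ ∈ blockOf M χ ↔ SameBlock M χ (ψ : G → ℂ) := Iff.rfl

theorem blockOf_eq_of_sameBlock (hM : IsPModular p M) {χ ψ : G → ℂ} (h : SameBlock M χ ψ) :
    blockOf M χ = blockOf M ψ := by
  ext φ
  constructor
  · intro hφ
    exact sameBlock_trans hM (sameBlock_symm h) hφ
  · intro hφ
    exact sameBlock_trans hM h hφ

end sameBlock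

end Cfsg.Agent.Lib.H12
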