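import Mathlib

set_option autoImplicit false

namespace Cfsg.Agent.Lib.H12

open Matrix

/-- The determinant `GL n F → Fˣ` is surjective when `n` is nonempty. -/
theorem gl_det_surjective {n : Type*} [Fintype n] [DecidableEq n] [Nonempty n] {F : Type*} [Field F] :
    Function.Surjective (Matrix.GeneralLinearGroup.det : GL n F →* Fˣ) := by
  intro u
  obtain ⟨i⟩ := ‹Nonempty n›
  have hdet : (Matrix.diagonal (Function.update (1 : n → F) i (u : F))).det = u := by
    rw [Matrix.det_diagonal, Finset.prod_update_of_mem (Finset.mem_univ i)]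
    simp
  refine ⟨Matrix.GeneralLinearGroup.mkOfDetNeZero
    (Matrix.diagonal (Function.update (1 : n → F) i (u : F))) (by rw [hdet]; exact u.ne_zero), ?_⟩
  apply Units.ext
  rw [Matrix.GeneralLinearGroup.val_det_apply]
  exact hdet

/-- `|GL n F| = |SL n F| * (q - 1)`. -/
theorem card_GL_eq_card_SL_mul {n : Type*} [Fintype n] [DecidableEq n] [Nonempty n]
    {F : Type*} [Field F] [Fintype F] :
    Nat.card (GL n F) = Nat.card (Matrix.SpecialLinearGroup n F) * (Fintype.card F - 1) := by
  classical
  let d : GL n F →* Fˣ := Matrix.GeneralLinearGroup.det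
  have hsurj : Function.Surjective d := gl_det_surjective
  have hker : Nat.card d.ker = Nat.card (Matrix.SpecialLinearGroup n F) := by
    apply Nat.card_congr
    symm
    refine Equiv.ofBijective (fun g => ⟨Matrix.SpecialLinearGroup.toGL g, ?_⟩) ⟨?_, ?_⟩
    · rw [MonoidHom.mem_ker]
      apply Units.ext
      rw [Matrix.GeneralLinearGroup.val_det_apply]
      simp
    · intro g h hgh
      exact Matrix.SpecialLinearGroup.toGL_injective (Subtype.mk.inj hgh)
    · rintro ⟨g, hg⟩
      rw [MonoidHom.mem_ker] at hg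
      have hg' : (g : Matrix n n F).det = 1 := by
        have := congrArg Units.val hg
        rwa [Matrix.GeneralLinearGroup.val_det_apply] at this
      refine ⟨⟨(g : Matrix n n F), hg'⟩, ?_⟩
      apply Subtype.ext
      apply Units.ext
      rfl
  rw [← Subgroup.card_mul_index d.ker, hker, Subgroup.index_ker, MonoidHom.range_eq_top.mpr hsurj,
    Subgroup.card_top, Nat.card_units, Nat.card_eq_fintype_card (α := F)]

/-- `(q - 1) * |SL n F| = ∏ i, (q ^ n - q ^ i)`. -/
theorem card_SL_mul {F : Type*} [Field F] [Fintype F] (n : ℕ) (hn : 1 ≤ n) :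
    (Fintype.card F - 1) * Nat.card (Matrix.SpecialLinearGroup (Fin n) F) =
      ∏ i : Fin n, (Fintype.card F ^ n - Fintype.card F ^ (i : ℕ)) := by
  have : Nonempty (Fin n) := ⟨⟨0, hn⟩⟩
  rw [mul_comm, ← card_GL_eq_card_SL_mul, Matrix.card_GL_field]

/-- `|SL₂(F)| = q (q² - 1)`. -/
theorem card_SL2 {F : Type*} [Field F] [Fintype F] :
    Nat.card (Matrix.SpecialLinearGroup (Fin 2) F) = Fintype.card F * (Fintype.card F ^ 2 - 1) := by
  have h := card_SL_mul (F := F) 2 (by norm_num)
  rw [Fin.prod_univ_two] at h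
  simp only [Fin.val_zero, Fin.val_one, pow_zero, pow_one] at h
  have hq : 1 < Fintype.card F := Fintype.one_lt_card
  have h1 : Fintype.card F ^ 2 - Fintype.card F = Fintype.card F * (Fintype.card F - 1) := by
    rw [Nat.mul_sub, mul_one, pow_two]
  rw [h1] at h
  have hpos : 0 < Fintype.card F - 1 := by omega
  apply Nat.eq_of_mul_eq_mul_left hpos
  rw [h]; ring

end Cfsg.Agent.Lib.H12
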