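import Mathlib

set_option autoImplicit false

namespace Cfsg.Agent.Lib.H12

open Matrix

variable {F : Type*} [Field F]

/-- The matrix with columns `v = (x, y)` and `A v`. -/
def cycMat (A : Matrix (Fin 2) (Fin 2) F) (x y : F) : Matrix (Fin 2) (Fin 2) F :=
  !![x, A 0 0 * x + A 0 1 * y; y, A 1 0 * x + A 1 1 * y]

/-- The companion matrix with trace `t` and determinant `d`. -/
def compMat (t d : F) : Matrix (Fin 2) (Fin 2) F := !![0, -d; 1, t]

theorem det_cycMat (A : Matrix (Fin 2) (Fin 2) F) (x y : F) :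
    (cycMat A x y).det = A 1 0 * x ^ 2 + (A 1 1 - A 0 0) * x * y - A 0 1 * y ^ 2 := by
  simp [cycMat, Matrix.det_fin_two]; ring

theorem mul_cycMat (A : Matrix (Fin 2) (Fin 2) F) (x y : F) :
    A * cycMat A x y = cycMat A x y * compMat A.trace A.det := by
  ext i j
  fin_cases i <;> fin_cases j <;>
    simp [cycMat, compMat, Matrix.mul_apply, Fin.sum_univ_two, Matrix.det_fin_two, Matrix.trace_fin_two] <;>
    ring

theorem trace_compMat (t d : F) : (compMat t d).trace = t := by
  simp [compMat, Matrix.trace_fin_two]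

theorem det_compMat (t d : F) : (compMat t d).det = d := by
  simp [compMat, Matrix.det_fin_two]

/-- A `2 × 2` matrix which is not scalar has a cyclic vector. -/
theorem exists_cycMat_det_ne_zero (A : Matrix (Fin 2) (Fin 2) F)
    (hA : ¬ (A 0 1 = 0 ∧ A 1 0 = 0 ∧ A 0 0 = A 1 1)) : ∃ x y : F, (cycMat A x y).det ≠ 0 := by
  by_cases h10 : A 1 0 = 0
  · by_cases h01 : A 0 1 = 0
    · have h : A 0 0 ≠ A 1 1 := fun h => hA ⟨h01, h10, h⟩
      refine ⟨1, 1, ?_⟩
      rw [det_cycMat, h10, h01]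
      simp only [one_pow, mul_one, zero_add, sub_zero]
      exact sub_ne_zero.mpr (Ne.symm h)
    · refine ⟨0, 1, ?_⟩
      rw [det_cycMat]
      simpa using h01
  · refine ⟨1, 0, ?_⟩
    rw [det_cycMat]
    simpa using h10

/-- Being a scalar matrix, in coordinates. -/
theorem eq_smul_one_iff (A : Matrix (Fin 2) (Fin 2) F) :
    (∃ a : F, A = a • (1 : Matrix (Fin 2) (Fin 2) F)) ↔ (A 0 1 = 0 ∧ A 1 0 = 0 ∧ A 0 0 = A 1 1) := by
  constructor
  · rintro ⟨a, rfl⟩
    simp
  · rintro ⟨h1, h2, h3⟩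
    refine ⟨A 0 0, ?_⟩
    ext i j
    fin_cases i <;> fin_cases j <;> simp [h1, h2, h3]

end Cfsg.Agent.Lib.H12

namespace Cfsg.Agent.Lib.H12

open Matrix

variable {F : Type*} [Field F]

/-- Non-scalar in coordinates, for elements of `GL₂`. -/
def NonScalar (A : Matrix (Fin 2) (Fin 2) F) : Prop := ¬ (A 0 1 = 0 ∧ A 1 0 = 0 ∧ A 0 0 = A 1 1)

/-- A non-scalar element of `GL₂` is conjugated to the companion matrix by an explicit element. -/
theorem gl2_exists_conj_compMat (g : GL (Fin 2) F)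
    (hg : NonScalar (g : Matrix (Fin 2) (Fin 2) F)) :
    ∃ c : GL (Fin 2) F, ((c⁻¹ * g * c : GL (Fin 2) F) : Matrix (Fin 2) (Fin 2) F) =
      compMat (g : Matrix (Fin 2) (Fin 2) F).trace (g : Matrix (Fin 2) (Fin 2) F).det := by
  obtain ⟨x, y, hxy⟩ := exists_cycMat_det_ne_zero (g : Matrix (Fin 2) (Fin 2) F) hg
  refine ⟨Matrix.GeneralLinearGroup.mkOfDetNeZero (cycMat (g : Matrix (Fin 2) (Fin 2) F) x y) hxy, ?_⟩
  set c := Matrix.GeneralLinearGroup.mkOfDetNeZero (cycMat (g : Matrix (Fin 2) (Fin 2) F) x y) hxy with hc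
  have hcval : (c : Matrix (Fin 2) (Fin 2) F) = cycMat (g : Matrix (Fin 2) (Fin 2) F) x y := rfl
  have h1 : (g : Matrix (Fin 2) (Fin 2) F) * (c : Matrix (Fin 2) (Fin 2) F) =
      (c : Matrix (Fin 2) (Fin 2) F) * compMat (g : Matrix (Fin 2) (Fin 2) F).trace (g : Matrix (Fin 2) (Fin 2) F).det := by
    rw [hcval]; exact mul_cycMat _ x y
  have h2 : ((c⁻¹ : GL (Fin 2) F) : Matrix (Fin 2) (Fin 2) F) * (c : Matrix (Fin 2) (Fin 2) F) = 1 := by
    rw [← Units.val_mul, inv_mul_cancel, Units.val_one]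
  rw [Units.val_mul, Units.val_mul, mul_assoc, h1, ← mul_assoc, h2, one_mul]

/-- Two non-scalar elements of `GL₂` with the same trace and determinant are conjugate. -/
theorem gl2_isConj_of_trace_det (g h : GL (Fin 2) F)
    (hg : NonScalar (g : Matrix (Fin 2) (Fin 2) F)) (hh : NonScalar (h : Matrix (Fin 2) (Fin 2) F))
    (ht : (g : Matrix (Fin 2) (Fin 2) F).trace = (h : Matrix (Fin 2) (Fin 2) F).trace)
    (hd : (g : Matrix (Fin 2) (Fin 2) F).det = (h : Matrix (Fin 2) (Fin 2) F).det) : IsConj g h := by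
  obtain ⟨c, hc⟩ := gl2_exists_conj_compMat g hg
  obtain ⟨d, hd'⟩ := gl2_exists_conj_compMat h hh
  rw [ht, hd, ← hd'] at hc
  have h3 : c⁻¹ * g * c = d⁻¹ * h * d := Units.ext hc
  rw [isConj_iff]
  refine ⟨d * c⁻¹, ?_⟩
  have : g = c * (d⁻¹ * h * d) * c⁻¹ := by rw [← h3]; group
  rw [this]; group

/-- Conjugation in `GL₂` preserves trace. -/
theorem gl2_trace_conj (g c : GL (Fin 2) F) :
    ((c * g * c⁻¹ : GL (Fin 2) F) : Matrix (Fin 2) (Fin 2) F).trace = (g : Matrix (Fin 2) (Fin 2) F).trace := by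
  rw [Units.val_mul, Units.val_mul, Matrix.trace_mul_comm, ← mul_assoc, ← Units.val_mul, inv_mul_cancel,
    Units.val_one, one_mul]

/-- Conjugation in `GL₂` preserves determinant. -/
theorem gl2_det_conj (g c : GL (Fin 2) F) :
    ((c * g * c⁻¹ : GL (Fin 2) F) : Matrix (Fin 2) (Fin 2) F).det = (g : Matrix (Fin 2) (Fin 2) F).det := by
  have h1 : ((c * g * c⁻¹ : GL (Fin 2) F) : Matrix (Fin 2) (Fin 2) F).det =
      Matrix.GeneralLinearGroup.det (c * g * c⁻¹) := rfl
  have h2 : (g : Matrix (Fin 2) (Fin 2) F).det = Matrix.GeneralLinearGroup.det g := rfl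
  rw [h1, h2, map_mul, map_mul, map_inv, mul_comm, ← mul_assoc, inv_mul_cancel, one_mul]

end Cfsg.Agent.Lib.H12

namespace Cfsg.Agent.Lib.H12

open Matrix

variable {F : Type*} [Field F]

/-- A non-identity `2 × 2` matrix `A` with `(A - 1) ^ 2 = 0` is non-scalar of trace `2` and determinant `1`. -/
theorem unipotent_two_facts (A : Matrix (Fin 2) (Fin 2) F) (h2 : (A - 1) ^ 2 = 0) (h1 : A ≠ 1) :
    NonScalar A ∧ A.trace = 2 ∧ A.det = 1 := by
  have e00 := congrFun (congrFun h2 0) 0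
  have e01 := congrFun (congrFun h2 0) 1
  have e10 := congrFun (congrFun h2 1) 0
  have e11 := congrFun (congrFun h2 1) 1
  simp only [pow_two, Matrix.mul_apply, Fin.sum_univ_two, Matrix.sub_apply, Matrix.one_apply_eq,
    Matrix.zero_apply, Matrix.one_apply_ne, ne_eq, Fin.isValue, zero_ne_one, one_ne_zero,
    not_false_eq_true, sub_zero] at e00 e01 e10 e11
  have htr : A 0 0 + A 1 1 = 2 := by
    by_contra hne
    have hne' : A 0 0 + A 1 1 - 2 ≠ 0 := sub_ne_zero.mpr hne
    have hb : A 0 1 = 0 := by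
      have : A 0 1 * (A 0 0 + A 1 1 - 2) = 0 := by linear_combination e01
      exact (mul_eq_zero.mp this).resolve_right hne'
    have hc : A 1 0 = 0 := by
      have : A 1 0 * (A 0 0 + A 1 1 - 2) = 0 := by linear_combination e10
      exact (mul_eq_zero.mp this).resolve_right hne'
    have ha : (A 0 0 - 1) ^ 2 = 0 := by rw [hb] at e00; linear_combination e00
    have hd : (A 1 1 - 1) ^ 2 = 0 := by rw [hb] at e11; linear_combination e11
    have ha' : A 0 0 = 1 := by
      have := pow_eq_zero_iff (two_ne_zero) |>.mp ha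
      exact sub_eq_zero.mp this
    have hd' : A 1 1 = 1 := by
      have := pow_eq_zero_iff (two_ne_zero) |>.mp hd
      exact sub_eq_zero.mp this
    apply hne
    rw [ha', hd']; norm_num
  refine ⟨?_, ?_, ?_⟩
  · rintro ⟨hb, hc, had⟩
    apply h1
    have ha : (A 0 0 - 1) ^ 2 = 0 := by rw [hb] at e00; linear_combination e00
    have ha' : A 0 0 = 1 := by
      have := pow_eq_zero_iff (two_ne_zero) |>.mp ha
      exact sub_eq_zero.mp this
    ext i j
    fin_cases i <;> fin_cases j <;> simp [hb, hc, ha', ← had]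
  · rw [Matrix.trace_fin_two]; exact htr
  · rw [Matrix.det_fin_two]
    have hd : A 1 1 = 2 - A 0 0 := by linear_combination htr
    rw [hd]
    linear_combination (-1 : F) * e00

end Cfsg.Agent.Lib.H12

namespace Cfsg.Agent.Lib.H12

open Matrix

variable {F : Type*} [Field F]

/-- The scalar element `a • 1` of `GL₂`. -/
noncomputable def gl2Scalar (a : Fˣ) : GL (Fin 2) F :=
  Matrix.GeneralLinearGroup.mkOfDetNeZero ((a : F) • (1 : Matrix (Fin 2) (Fin 2) F))
    (by simp)

/-- The companion element of `GL₂` with trace `t` and determinant `d`. -/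
noncomputable def gl2Comp (t : F) (d : Fˣ) : GL (Fin 2) F :=
  Matrix.GeneralLinearGroup.mkOfDetNeZero (compMat t (d : F)) (by rw [det_compMat]; exact d.ne_zero)

@[simp] theorem gl2Scalar_val (a : Fˣ) :
    ((gl2Scalar a : GL (Fin 2) F) : Matrix (Fin 2) (Fin 2) F) = (a : F) • (1 : Matrix (Fin 2) (Fin 2) F) := rfl

@[simp] theorem gl2Comp_val (t : F) (d : Fˣ) :
    ((gl2Comp t d : GL (Fin 2) F) : Matrix (Fin 2) (Fin 2) F) = compMat t (d : F) := rfl

theorem gl2Scalar_conj (a : Fˣ) (c : GL (Fin 2) F) : c * gl2Scalar a * c⁻¹ = gl2Scalar a := by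
  have h : c * gl2Scalar a = gl2Scalar a * c := by
    apply Units.ext
    simp
  rw [h, mul_assoc, mul_inv_cancel, mul_one]

theorem nonScalar_compMat (t d : F) : NonScalar (compMat t d) := by
  rintro ⟨-, h, -⟩
  simp [compMat] at h

theorem not_nonScalar_iff (A : Matrix (Fin 2) (Fin 2) F) :
    ¬ NonScalar A ↔ ∃ a : F, A = a • (1 : Matrix (Fin 2) (Fin 2) F) := by
  rw [NonScalar, not_not, eq_smul_one_iff]

/-- The classifying map for conjugacy classes of `GL₂`. -/
noncomputable def gl2ClassMap : Fˣ ⊕ (F × Fˣ) → ConjClasses (GL (Fin 2) F)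
  | Sum.inl a => ConjClasses.mk (gl2Scalar a)
  | Sum.inr td => ConjClasses.mk (gl2Comp td.1 td.2)

theorem gl2ClassMap_injective : Function.Injective (gl2ClassMap (F := F)) := by
  rintro (a | ⟨t, d⟩) (b | ⟨t', d'⟩) h
  · simp only [gl2ClassMap, ConjClasses.mk_eq_mk_iff_isConj, isConj_iff] at h
    obtain ⟨c, hc⟩ := h
    rw [gl2Scalar_conj] at hc
    have := congrArg (fun g : GL (Fin 2) F => (g : Matrix (Fin 2) (Fin 2) F) 0 0) hc
    simp at this
    rw [Units.ext this]
  · exfalso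
    simp only [gl2ClassMap, ConjClasses.mk_eq_mk_iff_isConj, isConj_iff] at h
    obtain ⟨c, hc⟩ := h
    rw [gl2Scalar_conj] at hc
    have := congrArg (fun g : GL (Fin 2) F => (g : Matrix (Fin 2) (Fin 2) F) 1 0) hc
    simp [compMat] at this
  · exfalso
    simp only [gl2ClassMap, ConjClasses.mk_eq_mk_iff_isConj, isConj_iff] at h
    obtain ⟨c, hc⟩ := h
    have hc' : gl2Comp t d = c⁻¹ * gl2Scalar b * c⁻¹⁻¹ := by rw [← hc]; group
    rw [gl2Scalar_conj] at hc'
    have := congrArg (fun g : GL (Fin 2) F => (g : Matrix (Fin 2) (Fin 2) F) 1 0) hc'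
    simp [compMat] at this
  · simp only [gl2ClassMap, ConjClasses.mk_eq_mk_iff_isConj, isConj_iff] at h
    obtain ⟨c, hc⟩ := h
    have h1 := gl2_trace_conj (gl2Comp t d) c
    have h2 := gl2_det_conj (gl2Comp t d) c
    rw [hc] at h1 h2
    simp only [gl2Comp_val, trace_compMat, det_compMat] at h1 h2
    rw [h1, Units.ext h2]

theorem gl2ClassMap_surjective : Function.Surjective (gl2ClassMap (F := F)) := by
  intro C
  obtain ⟨g, rfl⟩ := ConjClasses.mk_surjective C
  by_cases hg : NonScalar (g : Matrix (Fin 2) (Fin 2) F)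
  · obtain ⟨c, hc⟩ := gl2_exists_conj_compMat g hg
    refine ⟨Sum.inr ((g : Matrix (Fin 2) (Fin 2) F).trace, Matrix.GeneralLinearGroup.det g), ?_⟩
    simp only [gl2ClassMap, ConjClasses.mk_eq_mk_iff_isConj, isConj_iff]
    refine ⟨c, ?_⟩
    have : c⁻¹ * g * c = gl2Comp (g : Matrix (Fin 2) (Fin 2) F).trace (Matrix.GeneralLinearGroup.det g) := by
      apply Units.ext
      rw [hc]; rfl
    rw [← this]; group
  · obtain ⟨a, ha⟩ := (not_nonScalar_iff _).mp hg
    have ha0 : a ≠ 0 := by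
      rintro rfl
      have := g.isUnit
      rw [ha, zero_smul] at this
      exact not_isUnit_zero this
    refine ⟨Sum.inl (Units.mk0 a ha0), ?_⟩
    simp only [gl2ClassMap]
    congr 1
    apply Units.ext
    rw [ha]; rfl

/-- The conjugacy classes of `GL₂(F)` are parametrised by `Fˣ ⊕ (F × Fˣ)`. -/
noncomputable def gl2ClassEquiv : Fˣ ⊕ (F × Fˣ) ≃ ConjClasses (GL (Fin 2) F) :=
  Equiv.ofBijective gl2ClassMap ⟨gl2ClassMap_injective, gl2ClassMap_surjective⟩

end Cfsg.Agent.Lib.H12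

namespace Cfsg.Agent.Lib.H12

open Matrix

variable {F : Type*} [Field F]

theorem eq_smul_one_add_smul (H A : Matrix (Fin 2) (Fin 2) F) (α β : F)
    (h00 : H 0 0 = α + β * A 0 0) (h01 : H 0 1 = β * A 0 1) (h10 : H 1 0 = β * A 1 0)
    (h11 : H 1 1 = α + β * A 1 1) : H = α • (1 : Matrix (Fin 2) (Fin 2) F) + β • A := by
  ext i j
  fin_cases i <;> fin_cases j <;> simp [h00, h01, h10, h11]

/-- The centralizer of a non-scalar `2 × 2` matrix `A` is `F[A]`. -/
theorem commute_nonScalar (A H : Matrix (Fin 2) (Fin 2) F) (hA : NonScalar A) (hc : A * H = H * A) :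
    ∃ α β : F, H = α • (1 : Matrix (Fin 2) (Fin 2) F) + β • A := by
  have e00 := congrFun (congrFun hc 0) 0
  have e01 := congrFun (congrFun hc 0) 1
  have e10 := congrFun (congrFun hc 1) 0
  simp only [Matrix.mul_apply, Fin.sum_univ_two] at e00 e01 e10
  by_cases hb : A 0 1 = 0
  · by_cases hc' : A 1 0 = 0
    · have had : A 0 0 ≠ A 1 1 := fun h => hA ⟨hb, hc', h⟩
      have had' : A 0 0 - A 1 1 ≠ 0 := sub_ne_zero.mpr had
      rw [hb] at e01
      rw [hc'] at e10
      have hy : H 0 1 = 0 := by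
        have : H 0 1 * (A 0 0 - A 1 1) = 0 := by linear_combination e01
        exact (mul_eq_zero.mp this).resolve_right had'
      have hz : H 1 0 = 0 := by
        have : H 1 0 * (A 0 0 - A 1 1) = 0 := by linear_combination (-1 : F) * e10
        exact (mul_eq_zero.mp this).resolve_right had'
      refine ⟨H 0 0 - (H 0 0 - H 1 1) / (A 0 0 - A 1 1) * A 0 0, (H 0 0 - H 1 1) / (A 0 0 - A 1 1), ?_⟩
      apply eq_smul_one_add_smul
      · ring
      · rw [hy, hb, mul_zero]
      · rw [hz, hc', mul_zero]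
      · field_simp
        ring
    · refine ⟨H 0 0 - H 1 0 / A 1 0 * A 0 0, H 1 0 / A 1 0, ?_⟩
      apply eq_smul_one_add_smul
      · ring
      · field_simp
        linear_combination (-1 : F) * e00
      · field_simp
      · field_simp
        linear_combination (-1 : F) * e10
  · refine ⟨H 0 0 - H 0 1 / A 0 1 * A 0 0, H 0 1 / A 0 1, ?_⟩
    apply eq_smul_one_add_smul
    · ring
    · field_simp
    · field_simp
      linear_combination e00
    · field_simp
      linear_combination e01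

end Cfsg.Agent.Lib.H12
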