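import Mathlib
import Cfsg.Agent.Lib.H12.GL2

set_option autoImplicit false

namespace Cfsg.Agent.Lib.H12

open Matrix

variable {F : Type*} [Field F]

/-- Two elements of `SL₂` with the same trace and cyclic vectors of the same (nonzero) "determinant"
are conjugate in `SL₂`. -/
theorem sl2_isConj_of_cyc (g h : Matrix.SpecialLinearGroup (Fin 2) F)
    (ht : (g : Matrix (Fin 2) (Fin 2) F).trace = (h : Matrix (Fin 2) (Fin 2) F).trace)
    (x y x' y' : F)
    (hD : (cycMat (g : Matrix (Fin 2) (Fin 2) F) x y).det = (cycMat (h : Matrix (Fin 2) (Fin 2) F) x' y').det)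
    (hD0 : (cycMat (g : Matrix (Fin 2) (Fin 2) F) x y).det ≠ 0) : IsConj g h := by
  set P := cycMat (g : Matrix (Fin 2) (Fin 2) F) x y with hP
  set P' := cycMat (h : Matrix (Fin 2) (Fin 2) F) x' y' with hP'
  have hPu : IsUnit P.det := isUnit_iff_ne_zero.mpr hD0
  have hgP : (g : Matrix (Fin 2) (Fin 2) F) * P = P * compMat (g : Matrix (Fin 2) (Fin 2) F).trace 1 := by
    have := mul_cycMat (g : Matrix (Fin 2) (Fin 2) F) x y
    rwa [g.det_coe] at this
  have hhP : (h : Matrix (Fin 2) (Fin 2) F) * P' = P' * compMat (g : Matrix (Fin 2) (Fin 2) F).trace 1 := by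
    have := mul_cycMat (h : Matrix (Fin 2) (Fin 2) F) x' y'
    rwa [h.det_coe, ← ht] at this
  have hdet : (P' * P⁻¹).det = 1 := by
    rw [Matrix.det_mul, Matrix.det_nonsing_inv, ← hD, Ring.mul_inverse_cancel _ hPu]
  rw [isConj_iff]
  let c : Matrix.SpecialLinearGroup (Fin 2) F := ⟨P' * P⁻¹, hdet⟩
  have hcval : (c : Matrix (Fin 2) (Fin 2) F) = P' * P⁻¹ := rfl
  refine ⟨c, ?_⟩
  rw [mul_inv_eq_iff_eq_mul]
  apply Subtype.ext
  simp only [Matrix.SpecialLinearGroup.coe_mul, hcval]
  have h1 : P⁻¹ * (g : Matrix (Fin 2) (Fin 2) F) = compMat (g : Matrix (Fin 2) (Fin 2) F).trace 1 * P⁻¹ := by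
    calc P⁻¹ * (g : Matrix (Fin 2) (Fin 2) F)
        = P⁻¹ * (g : Matrix (Fin 2) (Fin 2) F) * (P * P⁻¹) := by
          rw [Matrix.mul_nonsing_inv _ hPu, Matrix.mul_one]
      _ = P⁻¹ * ((g : Matrix (Fin 2) (Fin 2) F) * P) * P⁻¹ := by
          simp only [Matrix.mul_assoc]
      _ = P⁻¹ * (P * compMat (g : Matrix (Fin 2) (Fin 2) F).trace 1) * P⁻¹ := by rw [hgP]
      _ = (P⁻¹ * P) * compMat (g : Matrix (Fin 2) (Fin 2) F).trace 1 * P⁻¹ := by
          simp only [Matrix.mul_assoc]
      _ = compMat (g : Matrix (Fin 2) (Fin 2) F).trace 1 * P⁻¹ := by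
          rw [Matrix.nonsing_inv_mul _ hPu, Matrix.one_mul]
  calc P' * P⁻¹ * (g : Matrix (Fin 2) (Fin 2) F)
      = P' * (P⁻¹ * (g : Matrix (Fin 2) (Fin 2) F)) := by rw [Matrix.mul_assoc]
    _ = P' * (compMat (g : Matrix (Fin 2) (Fin 2) F).trace 1 * P⁻¹) := by rw [h1]
    _ = (P' * compMat (g : Matrix (Fin 2) (Fin 2) F).trace 1) * P⁻¹ := by rw [Matrix.mul_assoc]
    _ = ((h : Matrix (Fin 2) (Fin 2) F) * P') * P⁻¹ := by rw [hhP]
    _ = (h : Matrix (Fin 2) (Fin 2) F) * (P' * P⁻¹) := by rw [Matrix.mul_assoc]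

/-- Scaling the cyclic vector scales the determinant by the square. -/
theorem det_cycMat_smul (A : Matrix (Fin 2) (Fin 2) F) (s x y : F) :
    (cycMat A (s * x) (s * y)).det = s ^ 2 * (cycMat A x y).det := by
  rw [det_cycMat, det_cycMat]; ring

/-- Conjugation in `SL₂` preserves the trace. -/
theorem sl2_trace_conj (g c : Matrix.SpecialLinearGroup (Fin 2) F) :
    ((c * g * c⁻¹ : Matrix.SpecialLinearGroup (Fin 2) F) : Matrix (Fin 2) (Fin 2) F).trace =
      (g : Matrix (Fin 2) (Fin 2) F).trace := by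
  rw [Matrix.SpecialLinearGroup.coe_mul, Matrix.SpecialLinearGroup.coe_mul, Matrix.trace_mul_comm,
    ← Matrix.mul_assoc, ← Matrix.SpecialLinearGroup.coe_mul, inv_mul_cancel,
    Matrix.SpecialLinearGroup.coe_one, Matrix.one_mul]

theorem sl2_trace_eq_of_isConj {g h : Matrix.SpecialLinearGroup (Fin 2) F} (hc : IsConj g h) :
    (g : Matrix (Fin 2) (Fin 2) F).trace = (h : Matrix (Fin 2) (Fin 2) F).trace := by
  obtain ⟨c, hc⟩ := isConj_iff.mp hc
  rw [← hc, sl2_trace_conj]

end Cfsg.Agent.Lib.H12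

namespace Cfsg.Agent.Lib.H12

open Matrix

variable {F : Type*} [Field F]

/-- Two elements of `SL₂` with the same trace and cyclic vectors whose "determinants" differ by a
square are conjugate in `SL₂`. -/
theorem sl2_isConj_of_isSquare (g h : Matrix.SpecialLinearGroup (Fin 2) F)
    (ht : (g : Matrix (Fin 2) (Fin 2) F).trace = (h : Matrix (Fin 2) (Fin 2) F).trace)
    (x y x' y' : F)
    (hD0 : (cycMat (g : Matrix (Fin 2) (Fin 2) F) x y).det ≠ 0)
    (hD0' : (cycMat (h : Matrix (Fin 2) (Fin 2) F) x' y').det ≠ 0)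
    (hsq : IsSquare ((cycMat (g : Matrix (Fin 2) (Fin 2) F) x y).det /
      (cycMat (h : Matrix (Fin 2) (Fin 2) F) x' y').det)) : IsConj g h := by
  obtain ⟨s, hs⟩ := hsq
  apply sl2_isConj_of_cyc g h ht x y (s * x') (s * y') _ hD0
  rw [det_cycMat_smul, pow_two, ← hs, div_mul_cancel₀ _ hD0']

/-- The companion element of `SL₂` with trace `t`. -/
def sl2Comp (t : F) : Matrix.SpecialLinearGroup (Fin 2) F := ⟨compMat t 1, det_compMat t 1⟩

@[simp] theorem sl2Comp_val (t : F) :
    ((sl2Comp t : Matrix.SpecialLinearGroup (Fin 2) F) : Matrix (Fin 2) (Fin 2) F) = compMat t 1 := rfl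

/-- In a field where every element is a square, two non-scalar elements of `SL₂` with the same
trace are conjugate. -/
theorem sl2_isConj_of_trace_of_allSquares (hF : ∀ a : F, IsSquare a)
    (g h : Matrix.SpecialLinearGroup (Fin 2) F)
    (hg : NonScalar (g : Matrix (Fin 2) (Fin 2) F)) (hh : NonScalar (h : Matrix (Fin 2) (Fin 2) F))
    (ht : (g : Matrix (Fin 2) (Fin 2) F).trace = (h : Matrix (Fin 2) (Fin 2) F).trace) : IsConj g h := by
  obtain ⟨x, y, hxy⟩ := exists_cycMat_det_ne_zero _ hg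
  obtain ⟨x', y', hxy'⟩ := exists_cycMat_det_ne_zero _ hh
  exact sl2_isConj_of_isSquare g h ht x y x' y' hxy hxy' (hF _)

/-- The classifying map for conjugacy classes of `SL₂` in characteristic 2. -/
def sl2ClassMapEven : Unit ⊕ F → ConjClasses (Matrix.SpecialLinearGroup (Fin 2) F)
  | Sum.inl _ => ConjClasses.mk 1
  | Sum.inr t => ConjClasses.mk (sl2Comp t)

theorem sl2ClassMapEven_injective : Function.Injective (sl2ClassMapEven (F := F)) := by
  rintro (a | t) (b | t') h
  · rfl
  · exfalso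
    simp only [sl2ClassMapEven, ConjClasses.mk_eq_mk_iff_isConj] at h
    have h' := isConj_one_left.mp h.symm
    have := congrArg (fun g : Matrix.SpecialLinearGroup (Fin 2) F => (g : Matrix (Fin 2) (Fin 2) F) 1 0) h'
    simp [compMat] at this
  · exfalso
    simp only [sl2ClassMapEven, ConjClasses.mk_eq_mk_iff_isConj] at h
    have h' := isConj_one_left.mp h
    have := congrArg (fun g : Matrix.SpecialLinearGroup (Fin 2) F => (g : Matrix (Fin 2) (Fin 2) F) 1 0) h'
    simp [compMat] at this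
  · simp only [sl2ClassMapEven, ConjClasses.mk_eq_mk_iff_isConj] at h
    have := sl2_trace_eq_of_isConj h
    simp only [sl2Comp_val, trace_compMat] at this
    rw [this]

theorem sl2ClassMapEven_surjective [CharP F 2] (hF : ∀ a : F, IsSquare a) :
    Function.Surjective (sl2ClassMapEven (F := F)) := by
  intro C
  obtain ⟨g, rfl⟩ := ConjClasses.mk_surjective C
  by_cases hg : NonScalar (g : Matrix (Fin 2) (Fin 2) F)
  · refine ⟨Sum.inr (g : Matrix (Fin 2) (Fin 2) F).trace, ?_⟩
    simp only [sl2ClassMapEven, ConjClasses.mk_eq_mk_iff_isConj]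
    apply sl2_isConj_of_trace_of_allSquares hF _ _ (nonScalar_compMat _ _) hg
    simp [trace_compMat]
  · obtain ⟨a, ha⟩ := (not_nonScalar_iff _).mp hg
    refine ⟨Sum.inl (), ?_⟩
    simp only [sl2ClassMapEven]
    congr 1
    have hdet := g.det_coe
    rw [ha] at hdet
    simp only [Matrix.det_smul, Fintype.card_fin, Matrix.det_one, mul_one] at hdet
    have h1 : (a - 1) ^ 2 = 0 := by
      have h2 : (2 : F) = 0 := by exact_mod_cast CharP.cast_eq_zero F 2
      linear_combination hdet - (a - 1) * h2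
    have h3 : a = 1 := by
      have := pow_eq_zero_iff (two_ne_zero) |>.mp h1
      exact sub_eq_zero.mp this
    apply Subtype.ext
    rw [ha, h3, one_smul]; rfl

end Cfsg.Agent.Lib.H12

namespace Cfsg.Agent.Lib.H12

/-- Conjugate elements have the same order. -/
theorem orderOf_conj_eq {G : Type*} [Group G] (c x : G) : orderOf (c * x * c⁻¹) = orderOf x := by
  have := (MulAut.conj c).orderOf_eq x
  rwa [MulAut.conj_apply] at this

theorem orderOf_eq_of_isConj {G : Type*} [Group G] {x y : G} (h : IsConj x y) : orderOf x = orderOf y := by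
  obtain ⟨c, hc⟩ := isConj_iff.mp h
  rw [← hc, orderOf_conj_eq]

end Cfsg.Agent.Lib.H12
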