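import Mathlib
import Cfsg.Agent.Lib.H12.SL2

set_option autoImplicit false

namespace Cfsg.Agent.Lib.H12

open Matrix Polynomial

variable {F : Type*} [Field F] [Fintype F]

theorem two_ne_zero_of_odd (hodd : Odd (Fintype.card F)) : (2 : F) ≠ 0 := by
  apply Ring.two_ne_zero
  intro h
  have := FiniteField.even_card_iff_char_two.mp h
  rw [Nat.odd_iff] at hodd
  omega

theorem ringChar_ne_two_of_odd (hodd : Odd (Fintype.card F)) : ringChar F ≠ 2 := by
  intro h
  have := FiniteField.even_card_iff_char_two.mp h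
  rw [Nat.odd_iff] at hodd
  omega

/-- In a finite field of odd order the product of two non-squares is a square. -/
theorem isSquare_mul_of_not_isSquare {a b : F}
    (ha : ¬ IsSquare a) (hb : ¬ IsSquare b) : IsSquare (a * b) := by
  classical
  have ha0 : a ≠ 0 := by rintro rfl; exact ha (IsSquare.zero)
  have hb0 : b ≠ 0 := by rintro rfl; exact hb (IsSquare.zero)
  rw [← quadraticChar_one_iff_isSquare (mul_ne_zero ha0 hb0), map_mul,
    quadraticChar_neg_one_iff_not_isSquare.mpr ha, quadraticChar_neg_one_iff_not_isSquare.mpr hb]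
  norm_num

theorem isSquare_mul_iff {a b : F} (ha0 : a ≠ 0) (hb0 : b ≠ 0) :
    IsSquare (a * b) ↔ (IsSquare a ↔ IsSquare b) := by
  classical
  rw [← quadraticChar_one_iff_isSquare (mul_ne_zero ha0 hb0), ← quadraticChar_one_iff_isSquare ha0,
    ← quadraticChar_one_iff_isSquare hb0, map_mul]
  rcases quadraticChar_dichotomy ha0 with h1 | h1 <;> rcases quadraticChar_dichotomy hb0 with h2 | h2 <;>
    rw [h1, h2] <;> norm_num

/-- The ratio of two nonzero elements is a square iff they are both squares or both non-squares. -/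
theorem isSquare_div_iff {a b : F} (ha0 : a ≠ 0) (hb0 : b ≠ 0) :
    IsSquare (a / b) ↔ (IsSquare a ↔ IsSquare b) := by
  rw [← isSquare_mul_iff ha0 hb0]
  constructor
  · rintro ⟨s, hs⟩
    refine ⟨s * b, ?_⟩
    have : a = s * s * b := by rw [← hs, div_mul_cancel₀ _ hb0]
    rw [this]; ring
  · rintro ⟨s, hs⟩
    refine ⟨s / b, ?_⟩
    field_simp
    rw [hs]; ring

/-- A non-degenerate binary quadratic form over a finite field of odd order represents every element. -/
theorem binary_form_universal (hodd : Odd (Fintype.card F)) (α β γ e : F)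
    (hdisc : β ^ 2 - 4 * α * γ ≠ 0) : ∃ x y : F, α * x ^ 2 + β * x * y + γ * y ^ 2 = e := by
  have h2 : (2 : F) ≠ 0 := two_ne_zero_of_odd hodd
  have h4 : (4 : F) ≠ 0 := by
    have : (4 : F) = 2 * 2 := by norm_num
    rw [this]; exact mul_ne_zero h2 h2
  have hcard : Fintype.card F % 2 = 1 := Nat.odd_iff.mp hodd
  -- the diagonal case
  have diag : ∀ (a d : F), a ≠ 0 → d ≠ 0 → ∃ X Y : F, a * X ^ 2 + d * Y ^ 2 = e := by
    intro a d ha hd
    have hf0 : degree (C a * X ^ 2 : F[X]) = 2 := degree_C_mul_X_pow 2 ha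
    have hlt : degree (C e : F[X]) < degree (C a * X ^ 2 : F[X]) := by
      rw [hf0]
      exact lt_of_le_of_lt degree_C_le (by norm_num)
    have hf : degree (C a * X ^ 2 - C e : F[X]) = 2 := by
      rw [degree_sub_eq_left_of_degree_lt hlt, hf0]
    have hg : degree (C d * X ^ 2 : F[X]) = 2 := degree_C_mul_X_pow 2 hd
    obtain ⟨X₀, Y₀, h⟩ := FiniteField.exists_root_sum_quadratic hf hg hcard
    refine ⟨X₀, Y₀, ?_⟩
    simp only [eval_sub, eval_mul, eval_C, eval_pow, eval_X] at h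
    linear_combination h
  by_cases hα : α = 0
  · by_cases hγ : γ = 0
    · have hβ : β ≠ 0 := by
        intro hβ
        apply hdisc
        rw [hα, hγ, hβ]; ring
      refine ⟨e / β, 1, ?_⟩
      rw [hα, hγ]
      field_simp
      ring
    · have hd : -(β ^ 2 - 4 * α * γ) / (4 * γ) ≠ 0 :=
        div_ne_zero (neg_ne_zero.mpr hdisc) (mul_ne_zero h4 hγ)
      obtain ⟨X₀, Y₀, h⟩ := diag γ (-(β ^ 2 - 4 * α * γ) / (4 * γ)) hγ hd
      refine ⟨Y₀, X₀ - β * Y₀ / (2 * γ), ?_⟩
      rw [← h]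
      field_simp
      ring
  · have hd : -(β ^ 2 - 4 * α * γ) / (4 * α) ≠ 0 :=
      div_ne_zero (neg_ne_zero.mpr hdisc) (mul_ne_zero h4 hα)
    obtain ⟨X₀, Y₀, h⟩ := diag α (-(β ^ 2 - 4 * α * γ) / (4 * α)) hα hd
    refine ⟨X₀ - β * Y₀ / (2 * α), Y₀, ?_⟩
    rw [← h]
    field_simp
    ring

/-- Two non-scalar elements of `SL₂(F)`, `|F|` odd, with the same trace `t`, `t² ≠ 4`, are conjugate. -/
theorem sl2_isConj_of_trace_regular (hodd : Odd (Fintype.card F))
    (g h : Matrix.SpecialLinearGroup (Fin 2) F)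
    (hh : NonScalar (h : Matrix (Fin 2) (Fin 2) F))
    (ht : (g : Matrix (Fin 2) (Fin 2) F).trace = (h : Matrix (Fin 2) (Fin 2) F).trace)
    (ht4 : (g : Matrix (Fin 2) (Fin 2) F).trace ^ 2 ≠ 4) : IsConj g h := by
  obtain ⟨x', y', hxy'⟩ := exists_cycMat_det_ne_zero _ hh
  have hdet := g.det_coe
  rw [Matrix.det_fin_two] at hdet
  have hdisc : ((g : Matrix (Fin 2) (Fin 2) F) 1 1 - (g : Matrix (Fin 2) (Fin 2) F) 0 0) ^ 2 -
      4 * (g : Matrix (Fin 2) (Fin 2) F) 1 0 * (-(g : Matrix (Fin 2) (Fin 2) F) 0 1) ≠ 0 := by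
    intro h0
    apply ht4
    rw [Matrix.trace_fin_two]
    linear_combination h0 + 4 * hdet
  obtain ⟨x, y, hxy⟩ := binary_form_universal hodd _ _ _
    (cycMat (h : Matrix (Fin 2) (Fin 2) F) x' y').det hdisc
  have hD : (cycMat (g : Matrix (Fin 2) (Fin 2) F) x y).det =
      (cycMat (h : Matrix (Fin 2) (Fin 2) F) x' y').det := by
    rw [det_cycMat, ← hxy]; ring
  exact sl2_isConj_of_cyc g h ht x y x' y' hD (by rw [hD]; exact hxy')

end Cfsg.Agent.Lib.H12

/-! ### Trace `±2` -/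

namespace Cfsg.Agent.Lib.H12

open Matrix

variable {F : Type*} [Field F]

/-- When the discriminant vanishes, the product of two values of the form `det (cycMat A · ·)` is a square. -/
theorem det_cycMat_mul_isSquare (h2 : (2 : F) ≠ 0) (A : Matrix (Fin 2) (Fin 2) F)
    (hdisc : (A 1 1 - A 0 0) ^ 2 + 4 * A 0 1 * A 1 0 = 0) (x y x' y' : F) :
    IsSquare ((cycMat A x y).det * (cycMat A x' y').det) := by
  refine ⟨(2 * A 1 0 * x * x' + (A 1 1 - A 0 0) * (x * y' + x' * y) - 2 * A 0 1 * y * y') / 2, ?_⟩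
  rw [det_cycMat, det_cycMat]
  field_simp
  linear_combination (-(x * y' - x' * y) ^ 2) * hdisc

theorem sl2_disc_eq_zero (g : Matrix.SpecialLinearGroup (Fin 2) F)
    (ht : (g : Matrix (Fin 2) (Fin 2) F).trace ^ 2 = 4) :
    ((g : Matrix (Fin 2) (Fin 2) F) 1 1 - (g : Matrix (Fin 2) (Fin 2) F) 0 0) ^ 2 +
      4 * (g : Matrix (Fin 2) (Fin 2) F) 0 1 * (g : Matrix (Fin 2) (Fin 2) F) 1 0 = 0 := by
  have hdet := g.det_coe
  rw [Matrix.det_fin_two] at hdet
  rw [Matrix.trace_fin_two] at ht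
  linear_combination ht - 4 * hdet

/-- Transport of the cyclic matrix under an intertwiner. -/
theorem cycMat_intertwine (g h k : Matrix (Fin 2) (Fin 2) F) (hk : h * k = k * g) (x y : F) :
    cycMat h (k 0 0 * x + k 0 1 * y) (k 1 0 * x + k 1 1 * y) = k * cycMat g x y := by
  have e00 := congrFun (congrFun hk 0) 0
  have e01 := congrFun (congrFun hk 0) 1
  have e10 := congrFun (congrFun hk 1) 0
  have e11 := congrFun (congrFun hk 1) 1
  simp only [Matrix.mul_apply, Fin.sum_univ_two] at e00 e01 e10 e11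
  ext i j
  fin_cases i <;> fin_cases j
  · simp [cycMat, Matrix.mul_apply, Fin.sum_univ_two]
  · simp [cycMat, Matrix.mul_apply, Fin.sum_univ_two]
    linear_combination x * e00 + y * e01
  · simp [cycMat, Matrix.mul_apply, Fin.sum_univ_two]
  · simp [cycMat, Matrix.mul_apply, Fin.sum_univ_two]
    linear_combination x * e10 + y * e11

/-- If `a * b` is a square and `b ≠ 0` then `a / b` is a square. -/
theorem isSquare_div_of_isSquare_mul {a b : F} (hb : b ≠ 0) (h : IsSquare (a * b)) : IsSquare (a / b) := by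
  obtain ⟨s, hs⟩ := h
  refine ⟨s / b, ?_⟩
  field_simp
  rw [hs, pow_two]

/-- Conjugate elements of `SL₂` of trace `±2` have cyclic determinants in the same square class. -/
theorem sl2_isSquare_of_isConj (h2 : (2 : F) ≠ 0) (g h : Matrix.SpecialLinearGroup (Fin 2) F)
    (hc : IsConj g h) (ht : (h : Matrix (Fin 2) (Fin 2) F).trace ^ 2 = 4) (x y x' y' : F)
    (hD0' : (cycMat (h : Matrix (Fin 2) (Fin 2) F) x' y').det ≠ 0) :
    IsSquare ((cycMat (g : Matrix (Fin 2) (Fin 2) F) x y).det /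
      (cycMat (h : Matrix (Fin 2) (Fin 2) F) x' y').det) := by
  obtain ⟨k, hk⟩ := isConj_iff.mp hc
  have hk' : (h : Matrix (Fin 2) (Fin 2) F) * (k : Matrix (Fin 2) (Fin 2) F) =
      (k : Matrix (Fin 2) (Fin 2) F) * (g : Matrix (Fin 2) (Fin 2) F) := by
    have : h * k = k * g := by rw [← hk]; group
    have := congrArg (fun z : Matrix.SpecialLinearGroup (Fin 2) F => (z : Matrix (Fin 2) (Fin 2) F)) this
    simpa using this
  have h1 := cycMat_intertwine _ _ _ hk' x y
  have h3 : (cycMat (g : Matrix (Fin 2) (Fin 2) F) x y).det =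
      (cycMat (h : Matrix (Fin 2) (Fin 2) F)
        ((k : Matrix (Fin 2) (Fin 2) F) 0 0 * x + (k : Matrix (Fin 2) (Fin 2) F) 0 1 * y)
        ((k : Matrix (Fin 2) (Fin 2) F) 1 0 * x + (k : Matrix (Fin 2) (Fin 2) F) 1 1 * y)).det := by
    rw [h1, Matrix.det_mul, k.det_coe, one_mul]
  rw [h3]
  exact isSquare_div_of_isSquare_mul hD0' (det_cycMat_mul_isSquare h2 _ (sl2_disc_eq_zero h ht) _ _ _ _)

/-- Conjugacy criterion for non-scalar elements of `SL₂` with the same trace `±2`. -/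
theorem sl2_isConj_iff_isSquare (h2 : (2 : F) ≠ 0) (g h : Matrix.SpecialLinearGroup (Fin 2) F)
    (htr : (g : Matrix (Fin 2) (Fin 2) F).trace = (h : Matrix (Fin 2) (Fin 2) F).trace)
    (ht : (h : Matrix (Fin 2) (Fin 2) F).trace ^ 2 = 4) (x y x' y' : F)
    (hD0 : (cycMat (g : Matrix (Fin 2) (Fin 2) F) x y).det ≠ 0)
    (hD0' : (cycMat (h : Matrix (Fin 2) (Fin 2) F) x' y').det ≠ 0) :
    IsConj g h ↔ IsSquare ((cycMat (g : Matrix (Fin 2) (Fin 2) F) x y).det /
      (cycMat (h : Matrix (Fin 2) (Fin 2) F) x' y').det) :=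
  ⟨fun hc => sl2_isSquare_of_isConj h2 g h hc ht x y x' y' hD0',
    fun hs => sl2_isConj_of_isSquare g h htr x y x' y' hD0 hD0' hs⟩

end Cfsg.Agent.Lib.H12
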