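import Mathlib
import Cfsg.Agent.Lib.H12.SL2Odd

set_option autoImplicit false

namespace Cfsg.Agent.Lib.H12

open Matrix

variable {F : Type*} [Field F]

/-- The sign `±1` attached to a boolean. -/
def sgn (b : Bool) : F := if b then 1 else -1

theorem sgn_mul_self (b : Bool) : (sgn b : F) * sgn b = 1 := by
  cases b <;> simp [sgn]

theorem sgn_injective (h2 : (2 : F) ≠ 0) : Function.Injective (sgn : Bool → F) := by
  have hne : (1 : F) ≠ -1 := by
    intro h
    apply h2
    linear_combination h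
  intro b b' h
  cases b <;> cases b' <;> simp [sgn] at h ⊢
  · exact hne h.symm
  · exact hne h

/-- The scalar element `±1` of `SL₂`. -/
def sl2Sc (b : Bool) : Matrix.SpecialLinearGroup (Fin 2) F :=
  ⟨!![sgn b, 0; 0, sgn b], by simp [Matrix.det_fin_two, sgn_mul_self]⟩

/-- The upper triangular element with diagonal `±1` and off-diagonal entry `β`. -/
def sl2Up (b : Bool) (β : F) : Matrix.SpecialLinearGroup (Fin 2) F :=
  ⟨!![sgn b, β; 0, sgn b], by simp [Matrix.det_fin_two, sgn_mul_self]⟩

@[simp] theorem sl2Sc_val (b : Bool) :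
    ((sl2Sc b : Matrix.SpecialLinearGroup (Fin 2) F) : Matrix (Fin 2) (Fin 2) F) =
      !![sgn b, 0; 0, sgn b] := rfl

@[simp] theorem sl2Up_val (b : Bool) (β : F) :
    ((sl2Up b β : Matrix.SpecialLinearGroup (Fin 2) F) : Matrix (Fin 2) (Fin 2) F) =
      !![sgn b, β; 0, sgn b] := rfl

theorem sl2Sc_conj (b : Bool) (c : Matrix.SpecialLinearGroup (Fin 2) F) :
    c * sl2Sc b * c⁻¹ = sl2Sc b := by
  have hcomm : c * sl2Sc b = sl2Sc b * c := by
    apply Subtype.ext
    simp only [Matrix.SpecialLinearGroup.coe_mul, sl2Sc_val]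
    ext i j
    fin_cases i <;> fin_cases j <;> simp [Matrix.mul_apply, Fin.sum_univ_two, mul_comm]
  rw [hcomm, mul_assoc, mul_inv_cancel, mul_one]

theorem not_nonScalar_sl2Sc (b : Bool) :
    ¬ NonScalar ((sl2Sc b : Matrix.SpecialLinearGroup (Fin 2) F) : Matrix (Fin 2) (Fin 2) F) := by
  intro h
  apply h
  simp

theorem nonScalar_sl2Up (b : Bool) {β : F} (hβ : β ≠ 0) :
    NonScalar ((sl2Up b β : Matrix.SpecialLinearGroup (Fin 2) F) : Matrix (Fin 2) (Fin 2) F) := by
  rintro ⟨h, -, -⟩
  apply hβ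
  simpa using h

theorem trace_sl2Up (b : Bool) (β : F) :
    ((sl2Up b β : Matrix.SpecialLinearGroup (Fin 2) F) : Matrix (Fin 2) (Fin 2) F).trace = 2 * sgn b := by
  simp [Matrix.trace_fin_two]; ring

theorem det_cycMat_sl2Up (b : Bool) (β : F) :
    (cycMat ((sl2Up b β : Matrix.SpecialLinearGroup (Fin 2) F) : Matrix (Fin 2) (Fin 2) F) 0 1).det = -β := by
  rw [det_cycMat]; simp

theorem eq_sl2Sc_of_isConj {b : Bool} {h : Matrix.SpecialLinearGroup (Fin 2) F}
    (hc : IsConj (sl2Sc b) h) : h = sl2Sc b := by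
  obtain ⟨c, hc⟩ := isConj_iff.mp hc
  rw [← hc, sl2Sc_conj]

/-- A scalar element of `SL₂` is `±1`. -/
theorem exists_eq_sl2Sc (g : Matrix.SpecialLinearGroup (Fin 2) F)
    (hg : ¬ NonScalar (g : Matrix (Fin 2) (Fin 2) F)) : ∃ b : Bool, g = sl2Sc b := by
  unfold NonScalar at hg
  rw [not_not] at hg
  obtain ⟨h01, h10, h00⟩ := hg
  have hdet := g.det_coe
  rw [Matrix.det_fin_two, h01, h10, ← h00] at hdet
  have h1 : ((g : Matrix (Fin 2) (Fin 2) F) 0 0 - 1) * ((g : Matrix (Fin 2) (Fin 2) F) 0 0 + 1) = 0 := by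
    linear_combination hdet
  rcases mul_eq_zero.mp h1 with h | h
  · refine ⟨true, ?_⟩
    apply Subtype.ext
    ext i j
    have h' : (g : Matrix (Fin 2) (Fin 2) F) 0 0 = 1 := sub_eq_zero.mp h
    fin_cases i <;> fin_cases j <;> simp [sgn, h01, h10, h', ← h00]
  · refine ⟨false, ?_⟩
    apply Subtype.ext
    ext i j
    have h' : (g : Matrix (Fin 2) (Fin 2) F) 0 0 = -1 := eq_neg_of_add_eq_zero_left h
    fin_cases i <;> fin_cases j <;> simp [sgn, h01, h10, h', ← h00]

/-- Non-scalarity is invariant under conjugation in `SL₂`. -/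
theorem nonScalar_of_isConj {g h : Matrix.SpecialLinearGroup (Fin 2) F} (hc : IsConj g h)
    (hg : NonScalar (g : Matrix (Fin 2) (Fin 2) F)) : NonScalar (h : Matrix (Fin 2) (Fin 2) F) := by
  by_contra hh
  obtain ⟨b, rfl⟩ := exists_eq_sl2Sc h hh
  have := eq_sl2Sc_of_isConj hc.symm
  rw [this] at hg
  exact not_nonScalar_sl2Sc b hg

/-- The classifying map for conjugacy classes of `SL₂` over a finite field of odd order;
`ν` is a non-square. -/
def sl2ClassMapOdd (ν : F) :
    Bool ⊕ {t : F // t ^ 2 ≠ 4} ⊕ (Bool × Bool) → ConjClasses (Matrix.SpecialLinearGroup (Fin 2) F)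
  | Sum.inl b => ConjClasses.mk (sl2Sc b)
  | Sum.inr (Sum.inl t) => ConjClasses.mk (sl2Comp t.1)
  | Sum.inr (Sum.inr (b, s)) => ConjClasses.mk (sl2Up b (if s then 1 else ν))

theorem sl2ClassMapOdd_injective (h2 : (2 : F) ≠ 0) (ν : F) (hν : ¬ IsSquare ν) :
    Function.Injective (sl2ClassMapOdd ν) := by
  have hν0 : ν ≠ 0 := by rintro rfl; exact hν IsSquare.zero
  have hβ : ∀ s : Bool, (if s then (1 : F) else ν) ≠ 0 := by
    intro s; cases s <;> simp [hν0]
  rintro (b | t | ⟨b, s⟩) (b' | t' | ⟨b', s'⟩) h <;>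
    simp only [sl2ClassMapOdd, ConjClasses.mk_eq_mk_iff_isConj] at h
  · have h' := eq_sl2Sc_of_isConj h
    have := congrArg (fun g : Matrix.SpecialLinearGroup (Fin 2) F => (g : Matrix (Fin 2) (Fin 2) F) 0 0) h'
    simp at this
    rw [sgn_injective h2 this]
  · exfalso
    have h' := eq_sl2Sc_of_isConj h
    have := nonScalar_compMat t'.1 (1 : F)
    rw [← sl2Comp_val, h'] at this
    exact not_nonScalar_sl2Sc b this
  · exfalso
    have h' := eq_sl2Sc_of_isConj h
    have := nonScalar_sl2Up (F := F) b' (hβ s')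
    rw [h'] at this
    exact not_nonScalar_sl2Sc b this
  · exfalso
    have h' := eq_sl2Sc_of_isConj h.symm
    have := nonScalar_compMat t.1 (1 : F)
    rw [← sl2Comp_val, h'] at this
    exact not_nonScalar_sl2Sc b' this
  · have := sl2_trace_eq_of_isConj h
    simp only [sl2Comp_val, trace_compMat] at this
    rw [Subtype.ext this]
  · exfalso
    have := sl2_trace_eq_of_isConj h
    rw [trace_sl2Up, sl2Comp_val, trace_compMat] at this
    apply t.2
    rw [this]
    linear_combination 4 * sgn_mul_self (F := F) b'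
  · exfalso
    have h' := eq_sl2Sc_of_isConj h.symm
    have := nonScalar_sl2Up (F := F) b (hβ s)
    rw [h'] at this
    exact not_nonScalar_sl2Sc b' this
  · exfalso
    have := sl2_trace_eq_of_isConj h
    rw [trace_sl2Up, sl2Comp_val, trace_compMat] at this
    apply t'.2
    rw [← this]
    linear_combination 4 * sgn_mul_self (F := F) b
  · have htr := sl2_trace_eq_of_isConj h
    rw [trace_sl2Up, trace_sl2Up] at htr
    have hb : b = b' := sgn_injective h2 (mul_left_cancel₀ h2 htr)
    subst hb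
    have ht4 : ((sl2Up b (if s' then 1 else ν) : Matrix.SpecialLinearGroup (Fin 2) F) :
        Matrix (Fin 2) (Fin 2) F).trace ^ 2 = 4 := by
      rw [trace_sl2Up]
      linear_combination 4 * sgn_mul_self (F := F) b
    have hsq := sl2_isSquare_of_isConj h2 _ _ h ht4 0 1 0 1
      (by rw [det_cycMat_sl2Up]; exact neg_ne_zero.mpr (hβ s'))
    rw [det_cycMat_sl2Up, det_cycMat_sl2Up, neg_div_neg_eq] at hsq
    have : s = s' := by
      cases s <;> cases s' <;> simp at hsq ⊢
      · exact hν hsq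
      · exact hν hsq
    rw [this]


/-- A non-scalar element of `SL₂` of trace `2 * sgn b` is conjugate to one of the two
upper triangular representatives. -/
theorem exists_isConj_sl2Up [Fintype F] (ν : F) (hν : ¬ IsSquare ν)
    (g : Matrix.SpecialLinearGroup (Fin 2) F) (hg : NonScalar (g : Matrix (Fin 2) (Fin 2) F))
    (b : Bool) (ht : (g : Matrix (Fin 2) (Fin 2) F).trace = 2 * sgn b) :
    ∃ s : Bool, IsConj (sl2Up b (if s then 1 else ν)) g := by
  have hν0 : ν ≠ 0 := by rintro rfl; exact hν IsSquare.zero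
  obtain ⟨x, y, hD⟩ := exists_cycMat_det_ne_zero _ hg
  set D := (cycMat (g : Matrix (Fin 2) (Fin 2) F) x y).det with hDdef
  by_cases hsq : IsSquare (-D)
  · refine ⟨true, ?_⟩
    apply sl2_isConj_of_isSquare _ _ (by rw [trace_sl2Up, ht]) 0 1 x y
    · rw [det_cycMat_sl2Up]; simp
    · exact hD
    · rw [det_cycMat_sl2Up, ← hDdef]
      simp only [if_true]
      obtain ⟨r, hr⟩ := hsq
      refine ⟨r / D, ?_⟩
      field_simp
      linear_combination hr
  · refine ⟨false, ?_⟩
    apply sl2_isConj_of_isSquare _ _ (by rw [trace_sl2Up, ht]) 0 1 x y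
    · rw [det_cycMat_sl2Up]; simpa using hν0
    · exact hD
    · rw [det_cycMat_sl2Up, ← hDdef]
      simp only [Bool.false_eq_true, if_false]
      have : -ν / D = ν / (-D) := by
        field_simp
      rw [this, isSquare_div_iff hν0 (neg_ne_zero.mpr hD)]
      exact ⟨fun h => absurd h hν, fun h => absurd h hsq⟩

theorem sl2ClassMapOdd_surjective [Fintype F] (hodd : Odd (Fintype.card F)) (ν : F)
    (hν : ¬ IsSquare ν) : Function.Surjective (sl2ClassMapOdd ν) := by
  have h2 : (2 : F) ≠ 0 := two_ne_zero_of_odd hodd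
  intro C
  obtain ⟨g, rfl⟩ := ConjClasses.mk_surjective C
  by_cases hg : NonScalar (g : Matrix (Fin 2) (Fin 2) F)
  · by_cases ht : (g : Matrix (Fin 2) (Fin 2) F).trace ^ 2 = 4
    · have ht' : ((g : Matrix (Fin 2) (Fin 2) F).trace - 2) * ((g : Matrix (Fin 2) (Fin 2) F).trace + 2) = 0 := by
        linear_combination ht
      have hb : ∃ b : Bool, (g : Matrix (Fin 2) (Fin 2) F).trace = 2 * sgn b := by
        rcases mul_eq_zero.mp ht' with h | h
        · exact ⟨true, by simp only [sgn, if_true]; linear_combination h⟩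
        · exact ⟨false, by simp only [sgn, Bool.false_eq_true, if_false]; linear_combination h⟩
      obtain ⟨b, hb⟩ := hb
      obtain ⟨s, hs⟩ := exists_isConj_sl2Up ν hν g hg b hb
      refine ⟨Sum.inr (Sum.inr (b, s)), ?_⟩
      simp only [sl2ClassMapOdd, ConjClasses.mk_eq_mk_iff_isConj]
      exact hs
    · refine ⟨Sum.inr (Sum.inl ⟨(g : Matrix (Fin 2) (Fin 2) F).trace, ht⟩), ?_⟩
      simp only [sl2ClassMapOdd, ConjClasses.mk_eq_mk_iff_isConj]
      apply sl2_isConj_of_trace_regular hodd _ _ hg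
      · simp [trace_compMat]
      · simpa [trace_compMat] using ht
  · obtain ⟨b, rfl⟩ := exists_eq_sl2Sc g hg
    exact ⟨Sum.inl b, rfl⟩

theorem card_trace_regular [Fintype F] (h2 : (2 : F) ≠ 0) :
    Nat.card {t : F // t ^ 2 ≠ 4} = Fintype.card F - 2 := by
  classical
  rw [Nat.card_eq_fintype_card, Fintype.card_subtype_compl]
  congr 1
  rw [Fintype.card_subtype]
  have : (Finset.univ.filter (fun t : F => t ^ 2 = 4)) = {2, -2} := by
    ext t
    simp only [Finset.mem_filter, Finset.mem_univ, true_and, Finset.mem_insert, Finset.mem_singleton]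
    constructor
    · intro h
      have h' : (t - 2) * (t + 2) = 0 := by linear_combination h
      rcases mul_eq_zero.mp h' with h | h
      · left; exact sub_eq_zero.mp h
      · right; exact eq_neg_of_add_eq_zero_left h
    · rintro (rfl | rfl) <;> ring
  rw [this, Finset.card_pair]
  intro h
  apply h2
  have h4 : (2 : F) * 2 = 0 := by linear_combination h
  exact mul_self_eq_zero.mp h4

/-- `SL₂(F)` has `q + 4` conjugacy classes when `q` is odd. -/
theorem card_conjClasses_sl2_odd [Fintype F] (hodd : Odd (Fintype.card F)) :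
    Nat.card (ConjClasses (Matrix.SpecialLinearGroup (Fin 2) F)) = Fintype.card F + 4 := by
  have h2 : (2 : F) ≠ 0 := two_ne_zero_of_odd hodd
  obtain ⟨ν, hν⟩ := FiniteField.exists_nonsquare (ringChar_ne_two_of_odd hodd)
  have e := Equiv.ofBijective _ ⟨sl2ClassMapOdd_injective h2 ν hν, sl2ClassMapOdd_surjective hodd ν hν⟩
  rw [← Nat.card_congr e, Nat.card_sum, Nat.card_sum, card_trace_regular h2, Nat.card_prod]
  simp only [Nat.card_eq_fintype_card, Fintype.card_bool]
  have : 3 ≤ Fintype.card F := by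
    have h1 : 1 < Fintype.card F := Fintype.one_lt_card
    rcases hodd with ⟨k, hk⟩
    omega
  omega

end Cfsg.Agent.Lib.H12
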