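import Mathlib

set_option autoImplicit false

namespace Cfsg.Agent.Lib.H12

open Matrix Polynomial

variable {F : Type*} [Field F]

/-- A nilpotent square matrix over a field vanishes at the power of its size. -/
theorem nilpotent_matrix_pow_card {n : Type*} [Fintype n] [DecidableEq n] (M : Matrix n n F)
    (hM : IsNilpotent M) : M ^ Fintype.card n = 0 := by
  have h1 : IsNilpotent (M.charpoly - X ^ Fintype.card n) :=
    Matrix.isNilpotent_charpoly_sub_pow_of_isNilpotent hM
  have h2 : M.charpoly - X ^ Fintype.card n = 0 := h1.eq_zero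
  have h3 : M.charpoly = X ^ Fintype.card n := sub_eq_zero.mp h2
  have h4 := Matrix.aeval_self_charpoly M
  rw [h3] at h4
  simpa using h4

/-- In characteristic `p`, `(A - 1) ^ (p ^ j) = A ^ (p ^ j) - 1` for square matrices. -/
theorem sub_one_pow_char_pow {n : Type*} [Fintype n] [DecidableEq n] (p : ℕ) [Fact p.Prime]
    [CharP F p] (A : Matrix n n F) (j : ℕ) : (A - 1) ^ p ^ j = A ^ p ^ j - 1 := by
  rcases isEmpty_or_nonempty n with h | h
  · exact Subsingleton.elim _ _
  · have : CharP (Matrix n n F) p := Matrix.charP p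
    rw [sub_pow_char_pow_of_commute _ _ (Commute.one_right A), one_pow]

/-- In characteristic `p`, `(1 + N) ^ (p ^ j) = 1 + N ^ (p ^ j)` for square matrices. -/
theorem one_add_pow_char_pow {n : Type*} [Fintype n] [DecidableEq n] (p : ℕ) [Fact p.Prime]
    [CharP F p] (N : Matrix n n F) (j : ℕ) : (1 + N) ^ p ^ j = 1 + N ^ p ^ j := by
  rcases isEmpty_or_nonempty n with h | h
  · exact Subsingleton.elim _ _
  · have : CharP (Matrix n n F) p := Matrix.charP p
    rw [add_pow_char_pow_of_commute _ _ (Commute.one_left N), one_pow]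

/-- In characteristic `p`, a matrix `A` with `A ^ (p ^ j) = 1` has `(A - 1) ^ size = 0`. -/
theorem sub_one_pow_card_eq_zero {n : Type*} [Fintype n] [DecidableEq n] (p : ℕ) [Fact p.Prime]
    [CharP F p] (A : Matrix n n F) (j : ℕ) (hA : A ^ p ^ j = 1) : (A - 1) ^ Fintype.card n = 0 := by
  apply nilpotent_matrix_pow_card
  exact ⟨p ^ j, by rw [sub_one_pow_char_pow, hA, sub_self]⟩

/-- In characteristic `p`, a matrix `A` with `(A - 1) ^ k = 0` and `k ≤ p ^ i` has `A ^ (p ^ i) = 1`. -/
theorem pow_char_pow_eq_one_of_sub_one_pow {n : Type*} [Fintype n] [DecidableEq n] (p : ℕ)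
    [Fact p.Prime] [CharP F p] (A : Matrix n n F) (k i : ℕ) (hA : (A - 1) ^ k = 0) (hk : k ≤ p ^ i) :
    A ^ p ^ i = 1 := by
  have h1 : (A - 1) ^ p ^ i = 0 := pow_eq_zero_of_le hk hA
  rw [sub_one_pow_char_pow, sub_eq_zero] at h1
  exact h1

/-- The nilpotent shift matrix (a single Jordan block with eigenvalue `0`). -/
def shiftMatrix (m : ℕ) : Matrix (Fin m) (Fin m) F :=
  Matrix.of fun i j => if j.val = i.val + 1 then 1 else 0

theorem shiftMatrix_pow (m k : ℕ) :
    (shiftMatrix (F := F) m) ^ k = Matrix.of fun i j => if j.val = i.val + k then (1 : F) else 0 := by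
  induction k with
  | zero =>
    ext i j
    simp [Matrix.one_apply, Fin.ext_iff, eq_comm]
  | succ k ih =>
    rw [pow_succ, ih]
    ext i j
    simp only [Matrix.mul_apply, Matrix.of_apply, shiftMatrix]
    by_cases h : j.val = i.val + (k + 1)
    · rw [if_pos h]
      have hl : i.val + k < m := by have := j.2; omega
      rw [Finset.sum_eq_single (⟨i.val + k, hl⟩ : Fin m)]
      · simp [h]; omega
      · intro b _ hb
        have : ¬ (b.val = i.val + k) := fun hh => hb (Fin.ext hh)
        simp [this]
      · intro hh; exact absurd (Finset.mem_univ _) hh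
    · rw [if_neg h]
      apply Finset.sum_eq_zero
      intro b _
      by_cases hb : b.val = i.val + k
      · have : ¬ (j.val = b.val + 1) := by omega
        simp [this]
      · simp [hb]

theorem shiftMatrix_pow_eq_zero (m : ℕ) : (shiftMatrix (F := F) m) ^ m = 0 := by
  rw [shiftMatrix_pow]
  ext i j
  have := j.2
  simp only [Matrix.of_apply, Matrix.zero_apply]
  rw [if_neg]; omega

theorem shiftMatrix_pow_ne_zero (m k : ℕ) (hk : k < m) : (shiftMatrix (F := F) m) ^ k ≠ 0 := by
  rw [shiftMatrix_pow]
  intro h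
  have h0 : 0 < m := by omega
  have := congrFun (congrFun h ⟨0, h0⟩) ⟨k, hk⟩
  simp at this

end Cfsg.Agent.Lib.H12
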