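import Mathlib
import Cfsg.Agent.Lib.H12.SL2OddClasses
import Cfsg.Agent.Lib.H12.Unipotent
import Cfsg.Agent.Lib.H12.CardSL
import Cfsg.Agent.Lib.H21.ClassSize

set_option autoImplicit false

namespace Cfsg.Agent.Lib.H12

open Matrix

variable {F : Type*} [Field F]

theorem isSquare_div_iff_mul {a b : F} (hb : b ≠ 0) : IsSquare (a / b) ↔ IsSquare (a * b) := by
  constructor
  · rintro ⟨s, hs⟩
    refine ⟨s * b, ?_⟩
    have : a = s * s * b := by rw [← hs, div_mul_cancel₀ _ hb]
    rw [this]; ring
  · exact isSquare_div_of_isSquare_mul hb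

/-- In characteristic `p`, the elements of order `p` of `SL₂(F)` are the non-scalar elements of trace `2`. -/
theorem sl2_orderOf_eq_char_iff (p : ℕ) [Fact p.Prime] [CharP F p]
    (g : Matrix.SpecialLinearGroup (Fin 2) F) :
    orderOf g = p ↔ NonScalar (g : Matrix (Fin 2) (Fin 2) F) ∧ (g : Matrix (Fin 2) (Fin 2) F).trace = 2 := by
  have hp : p.Prime := Fact.out
  constructor
  · intro ho
    have hgp : g ^ p = 1 := by rw [← ho]; exact pow_orderOf_eq_one g
    have hA : (g : Matrix (Fin 2) (Fin 2) F) ^ p ^ 1 = 1 := by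
      rw [pow_one, ← Matrix.SpecialLinearGroup.coe_pow, hgp, Matrix.SpecialLinearGroup.coe_one]
    have h2 := sub_one_pow_card_eq_zero p (g : Matrix (Fin 2) (Fin 2) F) 1 hA
    rw [Fintype.card_fin] at h2
    have h1 : (g : Matrix (Fin 2) (Fin 2) F) ≠ 1 := by
      intro h
      have : g = 1 := Subtype.ext h
      rw [this, orderOf_one] at ho
      exact hp.one_lt.ne ho
    obtain ⟨hns, htr, -⟩ := unipotent_two_facts _ h2 h1
    exact ⟨hns, htr⟩
  · rintro ⟨hns, htr⟩
    have hdet := g.det_coe
    rw [Matrix.det_fin_two] at hdet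
    rw [Matrix.trace_fin_two] at htr
    have h2 : ((g : Matrix (Fin 2) (Fin 2) F) - 1) ^ 2 = 0 := by
      have hd : (g : Matrix (Fin 2) (Fin 2) F) 1 1 = 2 - (g : Matrix (Fin 2) (Fin 2) F) 0 0 := by
        linear_combination htr
      rw [hd] at hdet
      ext i j
      fin_cases i <;> fin_cases j <;>
        simp [pow_two, Matrix.mul_apply, Fin.sum_univ_two, hd] <;>
        first | ring1 | linear_combination (-1 : F) * hdet
    have hA := pow_char_pow_eq_one_of_sub_one_pow p (g : Matrix (Fin 2) (Fin 2) F) 2 1 h2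
      (by rw [pow_one]; exact hp.two_le)
    rw [pow_one] at hA
    have hgp : g ^ p = 1 := by
      apply Subtype.ext
      rw [Matrix.SpecialLinearGroup.coe_pow, hA, Matrix.SpecialLinearGroup.coe_one]
    have hdvd := orderOf_dvd_of_pow_eq_one hgp
    rcases (Nat.dvd_prime hp).mp hdvd with h | h
    · exfalso
      rw [orderOf_eq_one_iff] at h
      apply hns
      rw [h]
      simp
    · exact h

/-- The centralizer in `SL₂(F)` of a nontrivial upper unitriangular element has order `2q`. -/
theorem card_centralizer_sl2Up [Fintype F] (h2 : (2 : F) ≠ 0) {β : F} (hβ : β ≠ 0) :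
    Nat.card (Subgroup.centralizer ({sl2Up true β} : Set (Matrix.SpecialLinearGroup (Fin 2) F))) =
      2 * Fintype.card F := by
  have hmem : ∀ (s : Bool) (x : F), sl2Up s x ∈
      Subgroup.centralizer ({sl2Up true β} : Set (Matrix.SpecialLinearGroup (Fin 2) F)) := by
    intro s x
    rw [Subgroup.mem_centralizer_singleton_iff]
    apply Subtype.ext
    simp only [Matrix.SpecialLinearGroup.coe_mul, sl2Up_val]
    ext i j
    fin_cases i <;> fin_cases j <;> simp [Matrix.mul_apply, Fin.sum_univ_two, sgn] <;> ring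
  let φ : Bool × F → Subgroup.centralizer ({sl2Up true β} : Set (Matrix.SpecialLinearGroup (Fin 2) F)) :=
    fun sx => ⟨sl2Up sx.1 sx.2, hmem sx.1 sx.2⟩
  have hinj : Function.Injective φ := by
    rintro ⟨s, x⟩ ⟨s', x'⟩ h
    have h' : (sl2Up s x : Matrix.SpecialLinearGroup (Fin 2) F) = sl2Up s' x' := congrArg Subtype.val h
    have e00 := congrArg (fun g : Matrix.SpecialLinearGroup (Fin 2) F => (g : Matrix (Fin 2) (Fin 2) F) 0 0) h'
    have e01 := congrArg (fun g : Matrix.SpecialLinearGroup (Fin 2) F => (g : Matrix (Fin 2) (Fin 2) F) 0 1) h'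
    simp at e00 e01
    rw [sgn_injective h2 e00, e01]
  have hsurj : Function.Surjective φ := by
    rintro ⟨h, hh⟩
    rw [Subgroup.mem_centralizer_singleton_iff] at hh
    have hh' := congrArg (fun g : Matrix.SpecialLinearGroup (Fin 2) F => (g : Matrix (Fin 2) (Fin 2) F)) hh
    simp only [Matrix.SpecialLinearGroup.coe_mul, sl2Up_val] at hh'
    have e00 := congrFun (congrFun hh' 0) 0
    have e01 := congrFun (congrFun hh' 0) 1
    simp [Matrix.mul_apply, Fin.sum_univ_two, sgn] at e00 e01
    have hc : (h : Matrix (Fin 2) (Fin 2) F) 1 0 = 0 := by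
      rcases e00 with h | h
      · exact absurd h hβ
      · exact h
    have had : (h : Matrix (Fin 2) (Fin 2) F) 0 0 = (h : Matrix (Fin 2) (Fin 2) F) 1 1 := by
      have : β * ((h : Matrix (Fin 2) (Fin 2) F) 0 0 - (h : Matrix (Fin 2) (Fin 2) F) 1 1) = 0 := by
        linear_combination e01
      rcases mul_eq_zero.mp this with h | h
      · exact absurd h hβ
      · exact sub_eq_zero.mp h
    have hdet := h.det_coe
    rw [Matrix.det_fin_two, hc, ← had] at hdet
    have h1 : ((h : Matrix (Fin 2) (Fin 2) F) 0 0 - 1) * ((h : Matrix (Fin 2) (Fin 2) F) 0 0 + 1) = 0 := by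
      linear_combination hdet
    rcases mul_eq_zero.mp h1 with h0 | h0
    · refine ⟨(true, (h : Matrix (Fin 2) (Fin 2) F) 0 1), ?_⟩
      apply Subtype.ext
      apply Subtype.ext
      have h' : (h : Matrix (Fin 2) (Fin 2) F) 0 0 = 1 := sub_eq_zero.mp h0
      ext i j
      fin_cases i <;> fin_cases j <;> simp [φ, sgn, hc, h', ← had]
    · refine ⟨(false, (h : Matrix (Fin 2) (Fin 2) F) 0 1), ?_⟩
      apply Subtype.ext
      apply Subtype.ext
      have h' : (h : Matrix (Fin 2) (Fin 2) F) 0 0 = -1 := eq_neg_of_add_eq_zero_left h0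
      ext i j
      fin_cases i <;> fin_cases j <;> simp [φ, sgn, hc, h', ← had]
  rw [← Nat.card_congr (Equiv.ofBijective φ ⟨hinj, hsurj⟩), Nat.card_prod]
  simp [Nat.card_eq_fintype_card]

/-- The conjugacy class of a nontrivial upper unitriangular element of `SL₂(F)`, `q` odd, has
`(q² - 1) / 2` elements. -/
theorem card_carrier_sl2Up [Fintype F] (h2 : (2 : F) ≠ 0) {β : F} (hβ : β ≠ 0) :
    Nat.card (ConjClasses.mk (sl2Up true β : Matrix.SpecialLinearGroup (Fin 2) F)).carrier =
      (Fintype.card F ^ 2 - 1) / 2 := by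
  have h1 := Cfsg.Agent.Lib.H21.card_conj_mul_card_centralizer
    (sl2Up true β : Matrix.SpecialLinearGroup (Fin 2) F)
  rw [card_centralizer_sl2Up h2 hβ, card_SL2] at h1
  have e : Nat.card (ConjClasses.mk (sl2Up true β : Matrix.SpecialLinearGroup (Fin 2) F)).carrier =
      Nat.card {h : Matrix.SpecialLinearGroup (Fin 2) F // IsConj (sl2Up true β) h} := by
    apply Nat.card_congr
    apply Equiv.subtypeEquivRight
    intro h
    rw [ConjClasses.mem_carrier_iff_mk_eq, ConjClasses.mk_eq_mk_iff_isConj, isConj_comm]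
  rw [e]
  have hq : 0 < Fintype.card F := Fintype.card_pos
  have h3 : Nat.card {h : Matrix.SpecialLinearGroup (Fin 2) F // IsConj (sl2Up true β) h} * 2 =
      Fintype.card F ^ 2 - 1 := by
    apply Nat.eq_of_mul_eq_mul_left hq
    rw [← h1]; ring
  omega

end Cfsg.Agent.Lib.H12
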