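import Mathlib

set_option autoImplicit false

/-!
# Groups with an abelian subgroup of index two that is inverted by the other coset

Order and class number (via the count of commuting pairs).
-/

namespace Cfsg.Agent.Lib.H12

section Dic

variable {G : Type*} [Group G] (N T : Subgroup G)

/-- The data: `T ≤ N` abelian of index two, `w ∈ N \ T` inverts `T`. -/
structure DicData (w : G) : Prop where
  le : T ≤ N
  ab : ∀ s ∈ T, ∀ t ∈ T, s * t = t * s
  wN : w ∈ N
  wT : w ∉ T
  idx : ∀ g ∈ N, g ∈ T ∨ w⁻¹ * g ∈ T
  inv : ∀ t ∈ T, w * t * w⁻¹ = t⁻¹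

variable {N T} {w : G}

/-- the parametrisation of `N` -/
def DicData.param (h : DicData N T w) : Bool × T → N
  | (false, t) => ⟨t, h.le t.2⟩
  | (true, t) => ⟨w * t, N.mul_mem h.wN (h.le t.2)⟩

theorem DicData.param_bijective (h : DicData N T w) : Function.Bijective h.param := by
  constructor
  · rintro ⟨b, s⟩ ⟨c, t⟩ hst
    cases b <;> cases c
    · have := congrArg Subtype.val hst
      simp only [DicData.param] at this
      rw [Subtype.ext this]
    · exfalso
      have := congrArg Subtype.val hst
      simp only [DicData.param] at this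
      apply h.wT
      have hw : w = s * (t : G)⁻¹ := by rw [this]; group
      rw [hw]
      exact T.mul_mem s.2 (T.inv_mem t.2)
    · exfalso
      have := congrArg Subtype.val hst
      simp only [DicData.param] at this
      apply h.wT
      have hw : w = t * (s : G)⁻¹ := by rw [← this]; group
      rw [hw]
      exact T.mul_mem t.2 (T.inv_mem s.2)
    · have := congrArg Subtype.val hst
      simp only [DicData.param] at this
      rw [Subtype.ext (mul_left_cancel this)]
  · rintro ⟨g, hg⟩
    rcases h.idx g hg with h1 | h1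
    · exact ⟨(false, ⟨g, h1⟩), rfl⟩
    · refine ⟨(true, ⟨w⁻¹ * g, h1⟩), ?_⟩
      apply Subtype.ext
      simp [DicData.param]

theorem DicData.card (h : DicData N T w) : Nat.card N = 2 * Nat.card T := by
  rw [← Nat.card_congr (Equiv.ofBijective _ h.param_bijective), Nat.card_prod]
  simp

theorem DicData.mul_w (h : DicData N T w) {t : G} (ht : t ∈ T) : t * w = w * t⁻¹ := by
  have := h.inv t⁻¹ (T.inv_mem ht)
  rw [inv_inv] at this
  calc t * w = (w * t⁻¹ * w⁻¹) * w := by rw [this]
    _ = w * t⁻¹ := by group

theorem inv_eq_self_iff_mul_self {G : Type*} [Group G] (a : G) : a⁻¹ = a ↔ a * a = 1 :=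
  ⟨fun h => by nth_rewrite 1 [← h]; exact inv_mul_cancel a, fun h => inv_eq_of_mul_eq_one_left h⟩

/-- the commuting condition in coordinates -/
def DicData.Cond : Bool × T → Bool × T → Prop
  | (false, _), (false, _) => True
  | (false, s), (true, _) => (s : G) * s = 1
  | (true, _), (false, t) => (t : G) * t = 1
  | (true, s), (true, t) => ((s : G)⁻¹ * t) * ((s : G)⁻¹ * t) = 1

theorem DicData.commute_iff (h : DicData N T w) (x y : Bool × T) :
    Commute (h.param x) (h.param y) ↔ DicData.Cond x y := by
  obtain ⟨b, s⟩ := x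
  obtain ⟨c, t⟩ := y
  rw [commute_iff_eq, Subtype.ext_iff]
  cases b <;> cases c <;> simp only [DicData.param, DicData.Cond, Subgroup.coe_mul]
  · simp only [iff_true]
    exact h.ab s s.2 t t.2
  · have e1 : (s : G) * (w * t) = w * ((s : G)⁻¹ * t) := by
      rw [← mul_assoc, h.mul_w s.2, mul_assoc]
    have e2 : w * t * s = w * (s * t) := by rw [mul_assoc, h.ab t t.2 s s.2]
    rw [e1, e2, mul_right_inj, mul_left_inj]
    exact inv_eq_self_iff_mul_self _
  · have e1 : (t : G) * (w * s) = w * ((t : G)⁻¹ * s) := by
      rw [← mul_assoc, h.mul_w t.2, mul_assoc]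
    have e2 : w * s * t = w * (t * s) := by rw [mul_assoc, h.ab s s.2 t t.2]
    rw [e1, e2, mul_right_inj, mul_left_inj, eq_comm]
    exact inv_eq_self_iff_mul_self _
  · have e1 : w * s * (w * t) = w * (w * ((s : G)⁻¹ * t)) := by
      rw [mul_assoc, ← mul_assoc (s : G), h.mul_w s.2, mul_assoc]
    have e2 : w * t * (w * s) = w * (w * ((t : G)⁻¹ * s)) := by
      rw [mul_assoc, ← mul_assoc (t : G), h.mul_w t.2, mul_assoc]
    rw [e1, e2, mul_right_inj, mul_right_inj]
    have e3 : (t : G)⁻¹ * s = ((s : G)⁻¹ * t)⁻¹ := by rw [mul_inv_rev, inv_inv]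
    rw [e3, eq_comm]
    exact inv_eq_self_iff_mul_self _

theorem DicData.card_cond [Finite T] :
    Nat.card {p : (Bool × T) × (Bool × T) // DicData.Cond p.1 p.2} =
      Nat.card T ^ 2 + 3 * (Nat.card T * Nat.card {t : T // (t : G) * t = 1}) := by
  have e : {p : (Bool × T) × (Bool × T) // DicData.Cond p.1 p.2} ≃
      Σ b : Bool × Bool, {st : T × T // DicData.Cond (b.1, st.1) (b.2, st.2)} :=
    { toFun := fun p => ⟨(p.1.1.1, p.1.2.1), ⟨(p.1.1.2, p.1.2.2), p.2⟩⟩
      invFun := fun y => ⟨((y.1.1, y.2.1.1), (y.1.2, y.2.1.2)), y.2.2⟩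
      left_inv := fun p => rfl
      right_inv := fun y => rfl }
  have c00 : Nat.card {st : T × T // DicData.Cond (false, st.1) (false, st.2)} = Nat.card T ^ 2 := by
    have e' : {st : T × T // DicData.Cond (false, st.1) (false, st.2)} ≃ T × T :=
      Equiv.subtypeUnivEquiv (fun st => trivial)
    rw [Nat.card_congr e', Nat.card_prod, sq]
  have c01 : Nat.card {st : T × T // DicData.Cond (false, st.1) (true, st.2)} =
      Nat.card T * Nat.card {t : T // (t : G) * t = 1} := by
    have e' : {st : T × T // DicData.Cond (false, st.1) (true, st.2)} ≃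
        {t : T // (t : G) * t = 1} × T :=
      { toFun := fun x => (⟨x.1.1, x.2⟩, x.1.2)
        invFun := fun y => ⟨(y.1.1, y.2), y.1.2⟩
        left_inv := fun x => rfl
        right_inv := fun y => rfl }
    rw [Nat.card_congr e', Nat.card_prod, mul_comm]
  have c10 : Nat.card {st : T × T // DicData.Cond (true, st.1) (false, st.2)} =
      Nat.card T * Nat.card {t : T // (t : G) * t = 1} := by
    have e' : {st : T × T // DicData.Cond (true, st.1) (false, st.2)} ≃
        T × {t : T // (t : G) * t = 1} :=
      { toFun := fun x => (x.1.1, ⟨x.1.2, x.2⟩)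
        invFun := fun y => ⟨(y.1, y.2.1), y.2.2⟩
        left_inv := fun x => rfl
        right_inv := fun y => rfl }
    rw [Nat.card_congr e', Nat.card_prod]
  have c11 : Nat.card {st : T × T // DicData.Cond (true, st.1) (true, st.2)} =
      Nat.card T * Nat.card {t : T // (t : G) * t = 1} := by
    have e' : {st : T × T // DicData.Cond (true, st.1) (true, st.2)} ≃
        T × {t : T // (t : G) * t = 1} :=
      { toFun := fun x => (x.1.1, ⟨x.1.1⁻¹ * x.1.2, x.2⟩)
        invFun := fun y => ⟨(y.1, y.1 * y.2.1), by
          show ((y.1 : G)⁻¹ * ((y.1 * y.2.1 : T) : G)) * ((y.1 : G)⁻¹ * ((y.1 * y.2.1 : T) : G)) = 1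
          simpa using y.2.2⟩
        left_inv := fun x => by
          apply Subtype.ext
          simp
        right_inv := fun y => by
          apply Prod.ext
          · rfl
          · apply Subtype.ext
            simp }
    rw [Nat.card_congr e', Nat.card_prod]
  rw [Nat.card_congr e, Nat.card_sigma, Fintype.sum_prod_type]
  simp only [Fintype.sum_bool]
  rw [c00, c01, c10, c11]
  ring

theorem DicData.classes (h : DicData N T w) [Finite N] :
    2 * Nat.card (ConjClasses N) = Nat.card T + 3 * Nat.card {t : T // (t : G) * t = 1} := by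
  have : Finite T := Finite.of_injective (fun t : T => (⟨t, h.le t.2⟩ : N))
    (fun a b hab => Subtype.ext (by simpa using congrArg Subtype.val hab))
  have hcomm := card_comm_eq_card_conjClasses_mul_card N
  have e : {p : (Bool × T) × (Bool × T) // DicData.Cond p.1 p.2} ≃
      {p : N × N // Commute p.1 p.2} :=
    (Equiv.prodCongr (Equiv.ofBijective _ h.param_bijective)
      (Equiv.ofBijective _ h.param_bijective)).subtypeEquiv
      (fun p => (h.commute_iff p.1 p.2).symm)
  rw [← Nat.card_congr e, DicData.card_cond, h.card] at hcomm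
  have hT : 0 < Nat.card T := Nat.card_pos
  have : Nat.card T * (2 * Nat.card (ConjClasses N)) =
      Nat.card T * (Nat.card T + 3 * Nat.card {t : T // (t : G) * t = 1}) := by
    rw [sq] at hcomm
    linarith
  exact Nat.eq_of_mul_eq_mul_left hT this

end Dic

end Cfsg.Agent.Lib.H12
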