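import Mathlib
import Cfsg.Agent.Lib.H12.SL2
import Cfsg.Agent.Lib.H12.SL2Odd

set_option autoImplicit false

/-!
# The tori of `SL₂(F)` in companion form

`torusT t` is the subgroup of the matrices `α + β C` in `SL₂(F)`, `C = [[0,-1],[1,t]]` the companion
matrix of `X² - tX + 1`; it is the centralizer of `C`.  When `X² - tX + 1` has no root in `F`
it embeds in the field `QuadraticAlgebra F (-1) t`, is cyclic, and has order `q + 1`.
-/

namespace Cfsg.Agent.Lib.H12

open Matrix

variable {F : Type*} [Field F]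

local notation "SL2" => Matrix.SpecialLinearGroup (Fin 2) F

/-- The torus of the matrices `α + β C`, `C` the companion matrix of `X² - tX + 1`. -/
def torusT (t : F) : Subgroup SL2 where
  carrier := {g | (g : Matrix (Fin 2) (Fin 2) F) 0 1 = -(g : Matrix (Fin 2) (Fin 2) F) 1 0 ∧
    (g : Matrix (Fin 2) (Fin 2) F) 1 1 =
      (g : Matrix (Fin 2) (Fin 2) F) 0 0 + t * (g : Matrix (Fin 2) (Fin 2) F) 1 0}
  mul_mem' := by
    rintro g h ⟨hg1, hg2⟩ ⟨hh1, hh2⟩
    simp only [Set.mem_ofPred_eq, Matrix.SpecialLinearGroup.coe_mul, Matrix.mul_apply,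
      Fin.sum_univ_two] at *
    rw [hg1, hg2, hh1, hh2]
    constructor <;> ring
  one_mem' := by simp
  inv_mem' := by
    rintro g ⟨hg1, hg2⟩
    simp only [Set.mem_ofPred_eq, Matrix.SpecialLinearGroup.coe_inv, Matrix.adjugate_fin_two,
      Matrix.of_apply, Matrix.cons_val', Matrix.cons_val_zero, Matrix.cons_val_one,
      Matrix.cons_val_fin_one] at *
    rw [hg1, hg2]
    constructor <;> ring

theorem mem_torusT (t : F) (g : SL2) : g ∈ torusT t ↔
    ((g : Matrix (Fin 2) (Fin 2) F) 0 1 = -(g : Matrix (Fin 2) (Fin 2) F) 1 0 ∧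
    (g : Matrix (Fin 2) (Fin 2) F) 1 1 =
      (g : Matrix (Fin 2) (Fin 2) F) 0 0 + t * (g : Matrix (Fin 2) (Fin 2) F) 1 0) := Iff.rfl

theorem sl2Comp_val' (t : F) : ((sl2Comp t : SL2) : Matrix (Fin 2) (Fin 2) F) = !![0, -1; 1, t] := rfl

theorem sl2Comp_mem_torusT (t : F) : sl2Comp t ∈ torusT t := by
  rw [mem_torusT, sl2Comp_val']
  simp

theorem centralizer_sl2Comp (t : F) : Subgroup.centralizer ({sl2Comp t} : Set SL2) = torusT t := by
  ext g
  rw [Subgroup.mem_centralizer_singleton_iff, mem_torusT]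
  constructor
  · intro h
    have h' := congrArg (fun x : SL2 => (x : Matrix (Fin 2) (Fin 2) F)) h
    simp only [Matrix.SpecialLinearGroup.coe_mul, sl2Comp_val'] at h'
    have e00 := congrFun (congrFun h' 0) 0
    have e10 := congrFun (congrFun h' 1) 0
    simp [Matrix.mul_apply, Fin.sum_univ_two] at e00 e10
    exact ⟨e00, e10⟩
  · rintro ⟨h1, h2⟩
    apply Subtype.ext
    simp only [Matrix.SpecialLinearGroup.coe_mul, sl2Comp_val']
    ext i j
    fin_cases i <;> fin_cases j <;> simp [Matrix.mul_apply, Fin.sum_univ_two, h1, h2]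
    · ring
    · ring

/-! ### The embedding into the quadratic algebra -/

/-- the embedding of the torus in the quadratic algebra `F[ω]`, `ω² = -1 + tω` -/
def torusHom (t : F) : torusT t →* QuadraticAlgebra F (-1) t where
  toFun g := ⟨((g : SL2) : Matrix (Fin 2) (Fin 2) F) 0 0, ((g : SL2) : Matrix (Fin 2) (Fin 2) F) 1 0⟩
  map_one' := by
    ext
    · simp [QuadraticAlgebra.re_one]
    · simp [QuadraticAlgebra.im_one]
  map_mul' g h := by
    obtain ⟨hg1, hg2⟩ := (mem_torusT t g).mp g.2
    obtain ⟨hh1, hh2⟩ := (mem_torusT t h).mp h.2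
    ext
    · simp only [Subgroup.coe_mul, Matrix.SpecialLinearGroup.coe_mul, Matrix.mul_apply,
        Fin.sum_univ_two, QuadraticAlgebra.re_mul, hg1]
      ring
    · simp only [Subgroup.coe_mul, Matrix.SpecialLinearGroup.coe_mul, Matrix.mul_apply,
        Fin.sum_univ_two, QuadraticAlgebra.im_mul, hg2]
      ring

theorem torusHom_re (t : F) (g : torusT t) :
    (torusHom t g).re = ((g : SL2) : Matrix (Fin 2) (Fin 2) F) 0 0 := rfl

theorem torusHom_im (t : F) (g : torusT t) :
    (torusHom t g).im = ((g : SL2) : Matrix (Fin 2) (Fin 2) F) 1 0 := rfl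

theorem torusHom_injective (t : F) : Function.Injective (torusHom t) := by
  intro g h hgh
  obtain ⟨hg1, hg2⟩ := (mem_torusT t g).mp g.2
  obtain ⟨hh1, hh2⟩ := (mem_torusT t h).mp h.2
  have hre : ((g : SL2) : Matrix (Fin 2) (Fin 2) F) 0 0 = ((h : SL2) : Matrix (Fin 2) (Fin 2) F) 0 0 :=
    congrArg QuadraticAlgebra.re hgh
  have him : ((g : SL2) : Matrix (Fin 2) (Fin 2) F) 1 0 = ((h : SL2) : Matrix (Fin 2) (Fin 2) F) 1 0 :=
    congrArg QuadraticAlgebra.im hgh
  apply Subtype.ext
  apply Subtype.ext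
  ext i j
  fin_cases i <;> fin_cases j
  · exact hre
  · show ((g : SL2) : Matrix (Fin 2) (Fin 2) F) 0 1 = ((h : SL2) : Matrix (Fin 2) (Fin 2) F) 0 1
    rw [hg1, hh1, him]
  · exact him
  · show ((g : SL2) : Matrix (Fin 2) (Fin 2) F) 1 1 = ((h : SL2) : Matrix (Fin 2) (Fin 2) F) 1 1
    rw [hg2, hh2, hre, him]

theorem norm_torusHom (t : F) (g : torusT t) : QuadraticAlgebra.norm (torusHom t g) = 1 := by
  obtain ⟨hg1, hg2⟩ := (mem_torusT t g).mp g.2
  have hdet := (g : SL2).det_coe
  rw [Matrix.det_fin_two, hg1, hg2] at hdet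
  rw [QuadraticAlgebra.norm_def, torusHom_re, torusHom_im]
  linear_combination hdet

/-- the element of `SL₂` with given coordinates -/
def torusMk' (t : F) (z : QuadraticAlgebra F (-1) t) (hz : QuadraticAlgebra.norm z = 1) : SL2 :=
  ⟨!![z.re, -z.im; z.im, z.re + t * z.im], by
    rw [Matrix.det_fin_two_of]
    rw [QuadraticAlgebra.norm_def] at hz
    linear_combination hz⟩

theorem torusMk'_val (t : F) (z : QuadraticAlgebra F (-1) t) (hz : QuadraticAlgebra.norm z = 1) :
    ((torusMk' t z hz : SL2) : Matrix (Fin 2) (Fin 2) F) = !![z.re, -z.im; z.im, z.re + t * z.im] := rfl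

/-- the element of the torus with given coordinates -/
def torusMk (t : F) (z : QuadraticAlgebra F (-1) t) (hz : QuadraticAlgebra.norm z = 1) : torusT t :=
  ⟨torusMk' t z hz, by
    rw [mem_torusT, torusMk'_val]
    simp⟩

theorem torusHom_torusMk (t : F) (z : QuadraticAlgebra F (-1) t) (hz : QuadraticAlgebra.norm z = 1) :
    torusHom t (torusMk t z hz) = z := by
  ext
  · rw [torusHom_re]
    show ((torusMk' t z hz : SL2) : Matrix (Fin 2) (Fin 2) F) 0 0 = z.re
    rw [torusMk'_val]
    simp
  · rw [torusHom_im]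
    show ((torusMk' t z hz : SL2) : Matrix (Fin 2) (Fin 2) F) 1 0 = z.im
    rw [torusMk'_val]
    simp

section field

variable {t : F} [Fact (∀ r : F, r ^ 2 ≠ -1 + t * r)]

theorem isCyclic_torusT [Finite F] : IsCyclic (torusT t) := by
  have : Finite SL2 := inferInstance
  exact isCyclic_of_injective_ringHom (torusHom t) (torusHom_injective t)

theorem disc_ne_zero_of_noRoot (h2 : (2 : F) ≠ 0) : t ^ 2 - 4 * 1 * 1 ≠ 0 := by
  intro h
  have hF : ∀ r : F, r ^ 2 ≠ -1 + t * r := Fact.out
  apply hF (t / 2)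
  field_simp
  linear_combination (-1 : F) * h

/-- The norm form `x² + txy + y²` represents every element. -/
theorem exists_norm_form_eq [Fintype F] (e : F) : ∃ x y : F, x ^ 2 + t * x * y + y ^ 2 = e := by
  by_cases hodd : Odd (Fintype.card F)
  · have h2 : (2 : F) ≠ 0 := two_ne_zero_of_odd hodd
    obtain ⟨x, y, h⟩ := binary_form_universal hodd 1 t 1 e (disc_ne_zero_of_noRoot h2)
    exact ⟨x, y, by linear_combination h⟩
  · have heven : Fintype.card F % 2 = 0 := by
      rcases Nat.even_or_odd (Fintype.card F) with h | h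
      · exact Nat.even_iff.mp h
      · exact absurd h hodd
    have hchar : ringChar F = 2 := FiniteField.even_card_iff_char_two.mpr heven
    obtain ⟨s, hs⟩ := FiniteField.isSquare_of_char_two hchar e
    exact ⟨s, 0, by rw [hs]; ring⟩

/-- the norm on units -/
noncomputable def normU (t : F) [Fact (∀ r : F, r ^ 2 ≠ -1 + t * r)] :
    (QuadraticAlgebra F (-1) t)ˣ →* Fˣ :=
  Units.map (QuadraticAlgebra.norm : QuadraticAlgebra F (-1) t →* F)

theorem normU_surjective [Fintype F] : Function.Surjective (normU t) := by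
  intro e
  obtain ⟨x, y, h⟩ := exists_norm_form_eq (t := t) (e : F)
  have hn : QuadraticAlgebra.norm (⟨x, y⟩ : QuadraticAlgebra F (-1) t) = (e : F) := by
    rw [QuadraticAlgebra.norm_def]
    linear_combination h
  have hz : (⟨x, y⟩ : QuadraticAlgebra F (-1) t) ≠ 0 := by
    intro h0
    rw [h0, QuadraticAlgebra.norm_zero] at hn
    exact e.ne_zero hn.symm
  refine ⟨Units.mk0 _ hz, ?_⟩
  apply Units.ext
  exact hn

omit [Field F] in
theorem card_quadraticAlgebra [Fintype F] (a b : F) :
    Nat.card (QuadraticAlgebra F a b) = Fintype.card F ^ 2 := by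
  rw [Nat.card_congr (QuadraticAlgebra.equivProd a b), Nat.card_prod, Nat.card_eq_fintype_card, sq]

/-- The non-split torus has order `q + 1`. -/
theorem card_torusT [Fintype F] : Nat.card (torusT t) = Fintype.card F + 1 := by
  have : Finite (QuadraticAlgebra F (-1) t) := Finite.of_equiv _ (QuadraticAlgebra.equivProd (-1) t).symm
  -- the torus is the kernel of the norm
  let φ : torusT t →* (QuadraticAlgebra F (-1) t)ˣ := (torusHom t).toHomUnits
  have hφ : Function.Injective φ := by
    intro g h hgh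
    apply torusHom_injective t
    have := congrArg Units.val hgh
    simpa [φ] using this
  have hrange : φ.range = (normU t).ker := by
    ext u
    rw [MonoidHom.mem_range, MonoidHom.mem_ker]
    constructor
    · rintro ⟨g, rfl⟩
      apply Units.ext
      show QuadraticAlgebra.norm (torusHom t g) = 1
      exact norm_torusHom t g
    · intro hu
      have hu' : QuadraticAlgebra.norm (u : QuadraticAlgebra F (-1) t) = 1 := congrArg Units.val hu
      refine ⟨torusMk t u hu', ?_⟩
      apply Units.ext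
      show torusHom t (torusMk t u hu') = u
      exact torusHom_torusMk t u hu'
  have h1 : Nat.card (torusT t) = Nat.card (normU t).ker := by
    rw [← hrange]
    exact Nat.card_congr (Equiv.ofInjective φ hφ)
  have h2 := Subgroup.card_mul_index (normU t).ker
  rw [Subgroup.index_ker, MonoidHom.range_eq_top.mpr normU_surjective, Subgroup.card_top,
    Nat.card_units, Nat.card_units, card_quadraticAlgebra, Nat.card_eq_fintype_card (α := F), ← h1] at h2
  have hq : 2 ≤ Fintype.card F := Fintype.one_lt_card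
  have h3 : Fintype.card F ^ 2 - 1 = (Fintype.card F + 1) * (Fintype.card F - 1) := by
    obtain ⟨k, hk⟩ : ∃ k, Fintype.card F = k + 1 := ⟨Fintype.card F - 1, by omega⟩
    rw [hk]
    simp only [Nat.add_sub_cancel]
    rw [Nat.sub_eq_iff_eq_add (Nat.one_le_pow 2 (k + 1) (by omega))]
    ring
  rw [h3] at h2
  exact Nat.eq_of_mul_eq_mul_right (by omega) h2

end field

end Cfsg.Agent.Lib.H12
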