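import Mathlib
import Cfsg.Agent.Lib.H12.SL2Torus
import Cfsg.Agent.Lib.H12.Dicyclic

set_option autoImplicit false

/-!
# Centralizers of non-scalar elements of `SL₂(F)` and their normalizers

For `d` non-scalar, `C(d) = SL₂ ∩ F[d]` is abelian and is the centralizer of each of its non-scalar
elements.  For `d` regular semisimple (`tr(d)² ≠ 4`, characteristic not two), `N(C(d))` is
`C(d)` extended by an element inverting it.
-/

namespace Cfsg.Agent.Lib.H12

open Matrix

variable {F : Type*} [Field F]

local notation "SL2" => Matrix.SpecialLinearGroup (Fin 2) F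
local notation "M2" => Matrix (Fin 2) (Fin 2) F

/-! ### Matrix identities -/

theorem m2_cayley (A : M2) (hA : A.det = 1) : A * A = A.trace • A - 1 := by
  rw [Matrix.det_fin_two] at hA
  ext i j
  fin_cases i <;> fin_cases j <;>
    simp [Matrix.mul_apply, Fin.sum_univ_two, Matrix.trace_fin_two]
  · linear_combination (-1 : F) * hA
  · ring
  · ring
  · linear_combination (-1 : F) * hA

theorem sl2_inv_val (g : SL2) :
    ((g⁻¹ : SL2) : M2) = (g : M2).trace • (1 : M2) - (g : M2) := by
  rw [Matrix.SpecialLinearGroup.coe_inv, Matrix.adjugate_fin_two]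
  ext i j
  fin_cases i <;> fin_cases j <;> simp [Matrix.trace_fin_two]

theorem det_span (A : M2) (hA : A.det = 1) (α β : F) :
    (α • (1 : M2) + β • A).det = α ^ 2 + α * β * A.trace + β ^ 2 := by
  rw [Matrix.det_fin_two] at hA
  rw [Matrix.det_fin_two, Matrix.trace_fin_two]
  simp
  linear_combination β ^ 2 * hA

theorem trace_span (A : M2) (α β : F) :
    (α • (1 : M2) + β • A).trace = 2 * α + β * A.trace := by
  rw [Matrix.trace_fin_two, Matrix.trace_fin_two]
  simp
  ring

/-- the anticommutator identity for `2 × 2` matrices -/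
theorem m2_anticomm (A B : M2) :
    A * B + B * A = A.trace • B + B.trace • A + ((A * B).trace - A.trace * B.trace) • (1 : M2) := by
  ext i j
  fin_cases i <;> fin_cases j <;>
    simp [Matrix.mul_apply, Fin.sum_univ_two, Matrix.trace_fin_two] <;> ring

theorem nonScalar_of_trace_sq_ne (d : SL2) (ht : (d : M2).trace ^ 2 ≠ 4) : NonScalar (d : M2) := by
  rintro ⟨h01, h10, h00⟩
  apply ht
  have hdet := d.det_coe
  rw [Matrix.det_fin_two, h01, h00] at hdet
  rw [Matrix.trace_fin_two, h00]
  linear_combination 4 * hdet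

/-! ### The centralizer -/

theorem mem_centralizer_iff_span {d : SL2} (hd : NonScalar (d : M2)) (g : SL2) :
    g ∈ Subgroup.centralizer ({d} : Set SL2) ↔
      ∃ α β : F, (g : M2) = α • (1 : M2) + β • (d : M2) := by
  rw [Subgroup.mem_centralizer_singleton_iff]
  constructor
  · intro h
    have h' : (d : M2) * (g : M2) = (g : M2) * (d : M2) := by
      rw [← Matrix.SpecialLinearGroup.coe_mul, ← Matrix.SpecialLinearGroup.coe_mul, h]
    exact commute_nonScalar _ _ hd h'
  · rintro ⟨α, β, h⟩
    apply Subtype.ext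
    rw [Matrix.SpecialLinearGroup.coe_mul, Matrix.SpecialLinearGroup.coe_mul, h]
    simp [add_mul, mul_add]

theorem centralizer_comm {d : SL2} (hd : NonScalar (d : M2)) {g h : SL2}
    (hg : g ∈ Subgroup.centralizer ({d} : Set SL2)) (hh : h ∈ Subgroup.centralizer ({d} : Set SL2)) :
    g * h = h * g := by
  obtain ⟨α, β, hg'⟩ := (mem_centralizer_iff_span hd g).mp hg
  obtain ⟨α', β', hh'⟩ := (mem_centralizer_iff_span hd h).mp hh
  apply Subtype.ext
  rw [Matrix.SpecialLinearGroup.coe_mul, Matrix.SpecialLinearGroup.coe_mul, hg', hh']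
  simp only [add_mul, mul_add, smul_mul_assoc, mul_smul_comm, one_mul, mul_one]
  module

theorem centralizer_eq_of_mem {d x : SL2} (hd : NonScalar (d : M2)) (hx : NonScalar (x : M2))
    (hxd : x ∈ Subgroup.centralizer ({d} : Set SL2)) :
    Subgroup.centralizer ({x} : Set SL2) = Subgroup.centralizer ({d} : Set SL2) := by
  obtain ⟨α, β, hx'⟩ := (mem_centralizer_iff_span hd x).mp hxd
  have hβ : β ≠ 0 := by
    rintro rfl
    apply hx
    rw [hx']
    simp
  ext g
  rw [Subgroup.mem_centralizer_singleton_iff, Subgroup.mem_centralizer_singleton_iff]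
  constructor
  · intro h
    have h' : (g : M2) * (x : M2) = (x : M2) * (g : M2) := by
      rw [← Matrix.SpecialLinearGroup.coe_mul, ← Matrix.SpecialLinearGroup.coe_mul, h]
    rw [hx'] at h'
    simp only [add_mul, mul_add, smul_mul_assoc, mul_smul_comm, one_mul, mul_one] at h'
    have h'' : β • ((g : M2) * (d : M2)) = β • ((d : M2) * (g : M2)) := add_left_cancel h'
    have h3 := congrArg (fun M : M2 => β⁻¹ • M) h''
    simp only [smul_smul, inv_mul_cancel₀ hβ, one_smul] at h3
    apply Subtype.ext
    rw [Matrix.SpecialLinearGroup.coe_mul, Matrix.SpecialLinearGroup.coe_mul]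
    exact h3
  · intro h
    have h' : (g : M2) * (d : M2) = (d : M2) * (g : M2) := by
      rw [← Matrix.SpecialLinearGroup.coe_mul, ← Matrix.SpecialLinearGroup.coe_mul, h]
    apply Subtype.ext
    rw [Matrix.SpecialLinearGroup.coe_mul, Matrix.SpecialLinearGroup.coe_mul, hx']
    simp only [add_mul, mul_add, smul_mul_assoc, mul_smul_comm, one_mul, mul_one, h']

/-! ### The normalizer -/

theorem sl2_mul_inv_val (g : SL2) : (g : M2) * ((g⁻¹ : SL2) : M2) = 1 := by
  rw [← Matrix.SpecialLinearGroup.coe_mul, mul_inv_cancel, Matrix.SpecialLinearGroup.coe_one]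

theorem conj_span (g x d : SL2) (α β : F) (hx : (x : M2) = α • (1 : M2) + β • (d : M2)) :
    ((g * x * g⁻¹ : SL2) : M2) = α • (1 : M2) + β • ((g * d * g⁻¹ : SL2) : M2) := by
  simp only [Matrix.SpecialLinearGroup.coe_mul, hx, mul_add, add_mul, mul_smul_comm, smul_mul_assoc,
    mul_one, sl2_mul_inv_val]

theorem self_mem_centralizer {G : Type*} [Group G] (d : G) : d ∈ Subgroup.centralizer ({d} : Set G) :=
  Subgroup.mem_centralizer_singleton_iff.mpr rfl

theorem conj_cases (h2 : (2 : F) ≠ 0) {d : SL2} (ht : (d : M2).trace ^ 2 ≠ 4) {g : SL2}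
    (hg : g ∈ Subgroup.normalizer (Subgroup.centralizer ({d} : Set SL2) : Set SL2)) :
    g * d * g⁻¹ = d ∨ g * d * g⁻¹ = d⁻¹ := by
  have hd : NonScalar (d : M2) := nonScalar_of_trace_sq_ne d ht
  have hy : g * d * g⁻¹ ∈ Subgroup.centralizer ({d} : Set SL2) :=
    (Subgroup.mem_normalizer_iff.mp hg d).mp (self_mem_centralizer d)
  obtain ⟨α, β, hy'⟩ := (mem_centralizer_iff_span hd _).mp hy
  have hT : 2 * α + β * (d : M2).trace = (d : M2).trace := by
    rw [← trace_span, ← hy', sl2_trace_conj]
  have hD : α ^ 2 + α * β * (d : M2).trace + β ^ 2 = 1 := by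
    rw [← det_span _ d.det_coe, ← hy']
    exact (g * d * g⁻¹).det_coe
  have hβ : (1 - β ^ 2) * ((d : M2).trace ^ 2 - 4) = 0 := by
    linear_combination (-(2 * α + β * (d : M2).trace + (d : M2).trace)) * hT + 4 * hD
  have hβ' : (β - 1) * (β + 1) = 0 := by
    rcases mul_eq_zero.mp hβ with h | h
    · linear_combination (-1 : F) * h
    · exact absurd (sub_eq_zero.mp h) ht
  rcases mul_eq_zero.mp hβ' with h | h
  · left
    have hβ1 : β = 1 := sub_eq_zero.mp h
    have hα : α = 0 := by
      rw [hβ1] at hT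
      have : 2 * α = 0 := by linear_combination hT
      exact (mul_eq_zero.mp this).resolve_left h2
    apply Subtype.ext
    rw [hy', hα, hβ1]
    simp
  · right
    have hβ1 : β = -1 := eq_neg_of_add_eq_zero_left h
    have hα : α = (d : M2).trace := by
      rw [hβ1] at hT
      have : 2 * (α - (d : M2).trace) = 0 := by linear_combination hT
      exact sub_eq_zero.mp ((mul_eq_zero.mp this).resolve_left h2)
    apply Subtype.ext
    rw [hy', hα, hβ1, sl2_inv_val]
    module

theorem inverts_centralizer {g d : SL2} (hd : NonScalar (d : M2)) (h : g * d * g⁻¹ = d⁻¹) {x : SL2}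
    (hx : x ∈ Subgroup.centralizer ({d} : Set SL2)) : g * x * g⁻¹ = x⁻¹ := by
  obtain ⟨α, β, hx'⟩ := (mem_centralizer_iff_span hd x).mp hx
  apply Subtype.ext
  rw [conj_span g x d α β hx', h, sl2_inv_val, sl2_inv_val, hx', trace_span]
  module

theorem sq_eq_neg_one_of_inverts {g d : SL2} (hd : NonScalar (d : M2)) (h : g * d * g⁻¹ = d⁻¹) :
    ((g * g : SL2) : M2) = -1 := by
  have h1 : g * d = d⁻¹ * g := by
    rw [← h]
    group
  have h2 : (g : M2) * (d : M2) = ((d : M2).trace • (1 : M2) - (d : M2)) * (g : M2) := by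
    rw [← sl2_inv_val, ← Matrix.SpecialLinearGroup.coe_mul, ← Matrix.SpecialLinearGroup.coe_mul, h1]
  have h3 := m2_anticomm (g : M2) (d : M2)
  have h4 : (g : M2).trace • (d : M2) =
      ((g : M2).trace * (d : M2).trace - ((g : M2) * (d : M2)).trace) • (1 : M2) := by
    rw [h2] at h3 ⊢
    simp only [sub_mul, smul_mul_assoc, one_mul] at h3 ⊢
    have h5 : (d : M2).trace • (g : M2) - (d : M2) * (g : M2) + (d : M2) * (g : M2) =
        (d : M2).trace • (g : M2) := by abel
    rw [h5] at h3
    have h6 := sub_eq_zero.mpr h3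
    rw [← sub_eq_zero]
    rw [← neg_eq_zero]
    rw [← h6]
    module
  have htr : (g : M2).trace = 0 := by
    by_contra hne
    apply hd
    have h5 := congrArg (fun M : M2 => (g : M2).trace⁻¹ • M) h4
    simp only [smul_smul, inv_mul_cancel₀ hne, one_smul] at h5
    rw [h5]
    simp
  rw [Matrix.SpecialLinearGroup.coe_mul, m2_cayley _ g.det_coe, htr, zero_smul, zero_sub]

theorem nonScalar_inv {d : SL2} (hd : NonScalar (d : M2)) : NonScalar ((d⁻¹ : SL2) : M2) := by
  intro h
  apply hd
  rw [sl2_inv_val] at h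
  obtain ⟨h1, h2, h3⟩ := h
  simp [Matrix.trace_fin_two] at h1 h2 h3
  exact ⟨h1, h2, h3.symm⟩

theorem trace_inv (d : SL2) : ((d⁻¹ : SL2) : M2).trace = (d : M2).trace := by
  rw [sl2_inv_val, Matrix.trace_sub, Matrix.trace_smul, Matrix.trace_one]
  simp
  ring

theorem exists_inverting [Fintype F] (hodd : Odd (Fintype.card F)) {d : SL2}
    (ht : (d : M2).trace ^ 2 ≠ 4) : ∃ w : SL2, w * d * w⁻¹ = d⁻¹ := by
  have hd : NonScalar (d : M2) := nonScalar_of_trace_sq_ne d ht
  exact isConj_iff.mp (sl2_isConj_of_trace_regular hodd d d⁻¹ (nonScalar_inv hd) (trace_inv d).symm ht)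

theorem inverting_inv {G : Type*} [Group G] {w d : G} (h : w * d * w⁻¹ = d⁻¹) :
    w⁻¹ * d * w⁻¹⁻¹ = d⁻¹ := by
  have : d = w⁻¹ * d⁻¹ * w := by rw [← h]; group
  rw [inv_inv]
  calc w⁻¹ * d * w = (w⁻¹ * d⁻¹ * w)⁻¹ := by group
    _ = d⁻¹ := by rw [← this]

/-- The structure of the normalizer of the centralizer of a regular semisimple element. -/
theorem dicData_of_inverting (h2 : (2 : F) ≠ 0) {d w : SL2} (ht : (d : M2).trace ^ 2 ≠ 4)
    (hw : w * d * w⁻¹ = d⁻¹) :
    DicData (Subgroup.normalizer (Subgroup.centralizer ({d} : Set SL2) : Set SL2))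
      (Subgroup.centralizer ({d} : Set SL2)) w := by
  have hd : NonScalar (d : M2) := nonScalar_of_trace_sq_ne d ht
  have hwN : w ∈ Subgroup.normalizer (Subgroup.centralizer ({d} : Set SL2) : Set SL2) := by
    rw [Subgroup.mem_normalizer_iff]
    intro x
    constructor
    · intro hx
      rw [inverts_centralizer hd hw hx]
      exact Subgroup.inv_mem _ hx
    · intro hx
      have h1 := inverts_centralizer hd (inverting_inv hw) hx
      have h3 : x = (w * x * w⁻¹)⁻¹ := by
        rw [← h1]
        group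
      rw [h3]
      exact Subgroup.inv_mem _ hx
  refine ⟨Subgroup.le_normalizer, fun s hs t ht' => centralizer_comm hd hs ht', hwN, ?_, ?_,
    fun t ht' => inverts_centralizer hd hw ht'⟩
  · -- `w ∉ C(d)`
    intro hwC
    have h1 : w * d = d * w := Subgroup.mem_centralizer_singleton_iff.mp hwC
    have h3 : d⁻¹ = d := by
      rw [← hw, h1]
      group
    apply hd
    have h4 : ((d⁻¹ : SL2) : M2) = (d : M2) := by rw [h3]
    rw [sl2_inv_val] at h4
    have h5 : (2 : F) • (d : M2) = (d : M2).trace • (1 : M2) := by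
      rw [two_smul]
      nth_rewrite 1 [← h4]
      abel
    have h6 := congrArg (fun M : M2 => (2 : F)⁻¹ • M) h5
    simp only [smul_smul, inv_mul_cancel₀ h2, one_smul] at h6
    rw [h6]
    simp
  · -- index two
    intro g hg
    rcases conj_cases h2 ht hg with h | h
    · left
      rw [Subgroup.mem_centralizer_singleton_iff]
      calc g * d = (g * d * g⁻¹) * g := by group
        _ = d * g := by rw [h]
    · right
      rw [Subgroup.mem_centralizer_singleton_iff]
      have h1 := inverting_inv hw
      rw [inv_inv] at h1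
      calc w⁻¹ * g * d = w⁻¹ * (g * d * g⁻¹) * g := by group
        _ = w⁻¹ * d⁻¹ * g := by rw [h]
        _ = (w⁻¹ * d * w)⁻¹ * w⁻¹ * g := by group
        _ = d * (w⁻¹ * g) := by rw [h1]; group

/-- elements of the normalizer outside the centralizer square to `-1` -/
theorem sq_eq_neg_one_of_mem_normalizer (h2 : (2 : F) ≠ 0) {d g : SL2} (ht : (d : M2).trace ^ 2 ≠ 4)
    (hg : g ∈ Subgroup.normalizer (Subgroup.centralizer ({d} : Set SL2) : Set SL2))
    (hgC : g ∉ Subgroup.centralizer ({d} : Set SL2)) : ((g * g : SL2) : M2) = -1 := by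
  have hd : NonScalar (d : M2) := nonScalar_of_trace_sq_ne d ht
  rcases conj_cases h2 ht hg with h | h
  · exfalso
    apply hgC
    rw [Subgroup.mem_centralizer_singleton_iff]
    calc g * d = (g * d * g⁻¹) * g := by group
      _ = d * g := by rw [h]
  · exact sq_eq_neg_one_of_inverts hd h

/-- In characteristic not two, the elements of `SL₂` of square one are `±1`. -/
theorem sl2_mul_self_eq_one_iff (h2 : (2 : F) ≠ 0) (x : SL2) : x * x = 1 ↔ x = 1 ∨ x = -1 := by
  constructor
  · intro h
    have h1 : (x : M2) * (x : M2) = 1 := by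
      rw [← Matrix.SpecialLinearGroup.coe_mul, h, Matrix.SpecialLinearGroup.coe_one]
    rw [m2_cayley _ x.det_coe] at h1
    have h3 : (x : M2).trace • (x : M2) = (2 : F) • (1 : M2) := by
      rw [two_smul]
      rw [sub_eq_iff_eq_add] at h1
      exact h1
    have htr : (x : M2).trace ≠ 0 := by
      intro h0
      rw [h0, zero_smul] at h3
      have := congrFun (congrFun h3 0) 0
      simp at this
      exact h2 this.symm
    have h4 : (x : M2) = ((x : M2).trace⁻¹ * 2) • (1 : M2) := by
      have := congrArg (fun M : M2 => (x : M2).trace⁻¹ • M) h3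
      simpa only [smul_smul, inv_mul_cancel₀ htr, one_smul] using this
    set a := (x : M2).trace⁻¹ * 2 with ha
    have hdet := x.det_coe
    rw [h4, Matrix.det_smul, Matrix.det_one] at hdet
    simp only [Fintype.card_fin, mul_one] at hdet
    have h5 : (a - 1) * (a + 1) = 0 := by linear_combination hdet
    rcases mul_eq_zero.mp h5 with h6 | h6
    · left
      apply Subtype.ext
      rw [h4, sub_eq_zero.mp h6, one_smul, Matrix.SpecialLinearGroup.coe_one]
    · right
      apply Subtype.ext
      rw [h4, eq_neg_of_add_eq_zero_left h6, Matrix.SpecialLinearGroup.coe_neg,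
        Matrix.SpecialLinearGroup.coe_one, neg_smul, one_smul]
  · rintro (rfl | rfl) <;> simp

theorem card_mul_self_eq_one (h2 : (2 : F) ≠ 0) (d : SL2) :
    Nat.card {x : Subgroup.centralizer ({d} : Set SL2) // (x : SL2) * x = 1} = 2 := by
  have hneg : (-1 : SL2) ∈ Subgroup.centralizer ({d} : Set SL2) := by
    rw [Subgroup.mem_centralizer_singleton_iff]
    simp
  rw [Nat.card_eq_two_iff]
  refine ⟨⟨1, by simp⟩, ⟨⟨-1, hneg⟩, by simp⟩, ?_, ?_⟩
  · intro h
    have h' : (1 : SL2) = -1 := congrArg (fun y : {x : Subgroup.centralizer ({d} : Set SL2) //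
      (x : SL2) * x = 1} => ((y : Subgroup.centralizer ({d} : Set SL2)) : SL2)) h
    have h'' := congrArg (fun y : SL2 => (y : M2) 0 0) h'
    simp at h''
    apply h2
    linear_combination h''
  · ext ⟨⟨x, hx⟩, hxx⟩
    simp only [Set.mem_insert_iff, Set.mem_singleton_iff, Set.mem_univ, iff_true, Subtype.mk.injEq]
    rcases (sl2_mul_self_eq_one_iff h2 x).mp hxx with h | h
    · left; exact Subtype.ext h
    · right; exact h

/-- The class number of the normalizer of the centralizer of a regular semisimple element. -/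
theorem classes_normalizer [Fintype F] (hodd : Odd (Fintype.card F)) {d : SL2}
    (ht : (d : M2).trace ^ 2 ≠ 4) :
    Nat.card (Subgroup.normalizer (Subgroup.centralizer ({d} : Set SL2) : Set SL2)) =
      2 * Nat.card (Subgroup.centralizer ({d} : Set SL2)) ∧
    2 * Nat.card (ConjClasses (Subgroup.normalizer (Subgroup.centralizer ({d} : Set SL2) : Set SL2))) =
      Nat.card (Subgroup.centralizer ({d} : Set SL2)) + 6 := by
  have h2 : (2 : F) ≠ 0 := two_ne_zero_of_odd hodd
  obtain ⟨w, hw⟩ := exists_inverting hodd ht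
  have hD := dicData_of_inverting h2 ht hw
  refine ⟨hD.card, ?_⟩
  rw [hD.classes, card_mul_self_eq_one h2 d]

end Cfsg.Agent.Lib.H12
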