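import Mathlib
import Cfsg.Prelude.Def_ParabolicCharacters

/-!
# The Bruhat decomposition of `GL_n(F)` (existence): `G = B W B` (helper12)
-/

set_option autoImplicit false
set_option linter.unusedSectionVars false

namespace Cfsg.Agent.Lib.H12.DCos

open Matrix

variable {F : Type*} [Field F] {n : ℕ}

/-- permutation matrix: column `j` has its `1` in row `σ j` -/
def wmat (F : Type*) [Field F] {n : ℕ} (σ : Equiv.Perm (Fin n)) : Matrix (Fin n) (Fin n) F :=
  fun i j => if i = σ j then 1 else 0

theorem wmat_apply (σ : Equiv.Perm (Fin n)) (i j : Fin n) :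
    wmat F σ i j = if i = σ j then 1 else 0 := rfl

theorem wmat_one : wmat F (1 : Equiv.Perm (Fin n)) = 1 := by
  ext i j
  rw [wmat_apply, Matrix.one_apply, Equiv.Perm.one_apply]

theorem wmat_mul (σ τ : Equiv.Perm (Fin n)) : wmat F (σ * τ) = wmat F σ * wmat F τ := by
  ext i k
  rw [Matrix.mul_apply, Finset.sum_eq_single (τ k)]
  · rw [wmat_apply, wmat_apply, wmat_apply, if_pos rfl, mul_one, Equiv.Perm.mul_apply]
  · intro j _ hj
    rw [wmat_apply (F := F) τ, if_neg hj, mul_zero]
  · intro h; exact absurd (Finset.mem_univ _) h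

/-- permutation matrices as a homomorphism to `GL` -/
def wGL (F : Type*) [Field F] {n : ℕ} : Equiv.Perm (Fin n) →* GL (Fin n) F where
  toFun σ := ⟨wmat F σ, wmat F σ⁻¹, by rw [← wmat_mul, mul_inv_cancel, wmat_one],
    by rw [← wmat_mul, inv_mul_cancel, wmat_one]⟩
  map_one' := Units.ext wmat_one
  map_mul' σ τ := Units.ext (wmat_mul σ τ)

theorem wGL_val (σ : Equiv.Perm (Fin n)) :
    ((wGL F σ : GL (Fin n) F) : Matrix (Fin n) (Fin n) F) = wmat F σ := rfl

/-- `1 + a eᵀ_{i0}` : adding multiples of row `i0` -/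
def rowOp (a : Fin n → F) (i0 : Fin n) : Matrix (Fin n) (Fin n) F :=
  1 + Matrix.of fun r s => if s = i0 then a r else 0

theorem rowOp_mul_apply (a : Fin n → F) (i0 : Fin n) (M : Matrix (Fin n) (Fin n) F)
    (r s : Fin n) : (rowOp a i0 * M) r s = M r s + a r * M i0 s := by
  rw [rowOp, Matrix.add_mul, Matrix.one_mul, Matrix.add_apply, Matrix.mul_apply,
    Finset.sum_eq_single i0]
  · rw [Matrix.of_apply, if_pos rfl]
  · intro t _ ht
    rw [Matrix.of_apply, if_neg ht, zero_mul]
  · intro h; exact absurd (Finset.mem_univ _) h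

theorem rowOp_upper (a : Fin n → F) (i0 : Fin n) (ha : ∀ r, i0 ≤ r → a r = 0) :
    (rowOp a i0).BlockTriangular id := by
  intro r s hsr
  simp only [id] at hsr
  rw [rowOp, Matrix.add_apply, Matrix.one_apply, if_neg (ne_of_gt hsr), zero_add,
    Matrix.of_apply]
  split_ifs with h
  · exact ha r (by rw [← h]; exact le_of_lt hsr)
  · rfl

theorem rowOp_det (a : Fin n → F) (i0 : Fin n) (ha : ∀ r, i0 ≤ r → a r = 0) :
    (rowOp a i0).det = 1 := by
  rw [Matrix.det_of_isUpperTriangular (rowOp_upper a i0 ha)]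
  apply Finset.prod_eq_one
  intro r _
  rw [rowOp, Matrix.add_apply, Matrix.one_apply, if_pos rfl, Matrix.of_apply]
  split_ifs with h
  · rw [ha r (by rw [h]), add_zero]
  · rw [add_zero]

/-- `1 + e_c a'ᵀ` : adding multiples of column `c` -/
def colOp (a : Fin n → F) (c : Fin n) : Matrix (Fin n) (Fin n) F :=
  1 + Matrix.of fun s t => if s = c then a t else 0

theorem mul_colOp_apply (a : Fin n → F) (c : Fin n) (M : Matrix (Fin n) (Fin n) F)
    (r t : Fin n) : (M * colOp a c) r t = M r t + M r c * a t := by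
  rw [colOp, Matrix.mul_add, Matrix.mul_one, Matrix.add_apply, Matrix.mul_apply,
    Finset.sum_eq_single c]
  · rw [Matrix.of_apply, if_pos rfl]
  · intro s _ hs
    rw [Matrix.of_apply, if_neg hs, mul_zero]
  · intro h; exact absurd (Finset.mem_univ _) h

theorem colOp_upper (a : Fin n → F) (c : Fin n) (ha : ∀ t, t ≤ c → a t = 0) :
    (colOp a c).BlockTriangular id := by
  intro s t hts
  simp only [id] at hts
  rw [colOp, Matrix.add_apply, Matrix.one_apply, if_neg (ne_of_gt hts), zero_add,
    Matrix.of_apply]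
  split_ifs with h
  · exact ha t (by rw [← h]; exact le_of_lt hts)
  · rfl

theorem colOp_det (a : Fin n → F) (c : Fin n) (ha : ∀ t, t ≤ c → a t = 0) :
    (colOp a c).det = 1 := by
  rw [Matrix.det_of_isUpperTriangular (colOp_upper a c ha)]
  apply Finset.prod_eq_one
  intro r _
  rw [colOp, Matrix.add_apply, Matrix.one_apply, if_pos rfl, Matrix.of_apply]
  split_ifs with h
  · rw [ha r (by rw [h]), add_zero]
  · rw [add_zero]

/-- the first `k` columns are "clean": a single non-zero entry, alone in its row -/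
def Clean (M : Matrix (Fin n) (Fin n) F) (k : ℕ) : Prop :=
  ∀ j : Fin n, (j : ℕ) < k → ∃ i : Fin n, M i j ≠ 0 ∧ (∀ i', i' ≠ i → M i' j = 0) ∧
    (∀ j', j' ≠ j → M i j' = 0)

theorem clean_step (M : Matrix (Fin n) (Fin n) F) (hM : M.det ≠ 0) (k : ℕ) (hk : k < n)
    (hcl : Clean M k) :
    ∃ U U' : Matrix (Fin n) (Fin n) F, U.BlockTriangular id ∧ U.det = 1 ∧
      U'.BlockTriangular id ∧ U'.det = 1 ∧ Clean (U * M * U') (k + 1) := by
  classical
  set c : Fin n := ⟨k, hk⟩ with hc
  -- the column `c` is non-zero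
  have hne : ∃ i, M i c ≠ 0 := by
    by_contra hcon
    push Not at hcon
    apply hM
    exact Matrix.det_eq_zero_of_column_eq_zero c hcon
  set S : Finset (Fin n) := Finset.univ.filter fun i => M i c ≠ 0 with hS
  have hSne : S.Nonempty := by
    obtain ⟨i, hi⟩ := hne
    exact ⟨i, by rw [hS, Finset.mem_filter]; exact ⟨Finset.mem_univ _, hi⟩⟩
  set i0 := S.max' hSne with hi0
  have hi0S : i0 ∈ S := Finset.max'_mem S hSne
  have hi0ne : M i0 c ≠ 0 := by
    rw [hS, Finset.mem_filter] at hi0S
    exact hi0S.2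
  have hbelow : ∀ r, i0 < r → M r c = 0 := by
    intro r hr
    by_contra hcon
    have : r ∈ S := by rw [hS, Finset.mem_filter]; exact ⟨Finset.mem_univ _, hcon⟩
    exact absurd (Finset.le_max' S r this) (not_le.mpr hr)
  -- the row `i0` vanishes in the clean columns
  have hrow0 : ∀ j : Fin n, (j : ℕ) < k → M i0 j = 0 := by
    intro j hj
    obtain ⟨i, hij, hcol, hrow⟩ := hcl j hj
    by_cases h : i0 = i
    · exfalso
      have hcj : c ≠ j := by
        intro h'
        rw [← h', hc] at hj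
        exact lt_irrefl _ hj
      have := hrow c hcj
      rw [← h] at this
      exact hi0ne this
    · exact hcol i0 h
  set a : Fin n → F := fun r => if r < i0 then -(M r c / M i0 c) else 0 with ha
  have ha0 : ∀ r, i0 ≤ r → a r = 0 := by
    intro r hr
    rw [ha]
    exact if_neg (not_lt.mpr hr)
  set M1 := rowOp a i0 * M with hM1
  have hM1e : ∀ r s, M1 r s = M r s + a r * M i0 s := rowOp_mul_apply a i0 M
  have hM1c : ∀ r, r ≠ i0 → M1 r c = 0 := by
    intro r hr
    rw [hM1e]
    rcases lt_or_gt_of_ne hr with h | h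
    · rw [ha]
      simp only [if_pos h]
      field_simp
      ring
    · rw [ha0 r (le_of_lt h), zero_mul, add_zero, hbelow r h]
  have hM1i0 : M1 i0 c = M i0 c := by
    rw [hM1e, ha0 i0 le_rfl, zero_mul, add_zero]
  set a' : Fin n → F := fun t => if c < t then -(M1 i0 t / M1 i0 c) else 0 with ha'
  have ha'0 : ∀ t, t ≤ c → a' t = 0 := by
    intro t ht
    rw [ha']
    exact if_neg (not_lt.mpr ht)
  set M2 := M1 * colOp a' c with hM2
  have hM2e : ∀ r t, M2 r t = M1 r t + M1 r c * a' t := mul_colOp_apply a' c M1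
  refine ⟨rowOp a i0, colOp a' c, rowOp_upper a i0 ha0, rowOp_det a i0 ha0,
    colOp_upper a' c ha'0, colOp_det a' c ha'0, ?_⟩
  change Clean M2 (k + 1)
  intro j hj
  rcases Nat.lt_succ_iff_lt_or_eq.mp hj with hjk | hjk
  · -- an old clean column
    obtain ⟨i, hij, hcol, hrow⟩ := hcl j hjk
    have hcj : c ≠ j := by
      intro h'
      rw [← h', hc] at hjk
      exact lt_irrefl _ hjk
    have hic : M i c = 0 := hrow c hcj
    have hii0 : i ≠ i0 := by
      intro h
      rw [h] at hic
      exact hi0ne hic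
    have hnotlt : ¬ c < j := by
      rw [Fin.lt_def, hc]
      simp only
      omega
    have hM2j : ∀ r, M2 r j = M r j := by
      intro r
      rw [hM2e, ha']
      simp only [if_neg hnotlt, mul_zero, add_zero]
      rw [hM1e, hrow0 j hjk, mul_zero, add_zero]
    have hM1i : ∀ s, M1 i s = M i s := by
      intro s
      rw [hM1e, ha]
      by_cases h : i < i0
      · simp only [if_pos h, hic, zero_div, neg_zero, zero_mul, add_zero]
      · simp only [if_neg h, zero_mul, add_zero]
    have hM2i : ∀ t, M2 i t = M i t := by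
      intro t
      rw [hM2e, hM1c i hii0, zero_mul, add_zero, hM1i]
    refine ⟨i, ?_, ?_, ?_⟩
    · rw [hM2j]; exact hij
    · intro i' hi'
      rw [hM2j]; exact hcol i' hi'
    · intro j' hj'
      rw [hM2i]; exact hrow j' hj'
  · -- the new column
    have hjc : j = c := Fin.ext (by rw [hjk])
    refine ⟨i0, ?_, ?_, ?_⟩
    · rw [hjc, hM2e, ha'0 c le_rfl, mul_zero, add_zero, hM1i0]
      exact hi0ne
    · intro i' hi'
      rw [hjc, hM2e, ha'0 c le_rfl, mul_zero, add_zero]
      exact hM1c i' hi'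
    · intro j' hj'
      rw [hjc] at hj'
      rw [hM2e]
      rcases lt_or_gt_of_ne hj' with h | h
      · have hj'k : (j' : ℕ) < k := by
          rw [Fin.lt_def, hc] at h
          exact h
        rw [ha'0 j' (le_of_lt h), mul_zero, add_zero, hM1e, hrow0 j' hj'k, mul_zero, add_zero]
      · rw [ha']
        simp only [if_pos h]
        have : M1 i0 c ≠ 0 := by rw [hM1i0]; exact hi0ne
        field_simp
        ring

theorem exists_clean (M : Matrix (Fin n) (Fin n) F) (hM : M.det ≠ 0) : ∀ k : ℕ, k ≤ n →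
    ∃ U U' : Matrix (Fin n) (Fin n) F, U.BlockTriangular id ∧ U.det = 1 ∧
      U'.BlockTriangular id ∧ U'.det = 1 ∧ Clean (U * M * U') k := by
  intro k
  induction k with
  | zero =>
    intro _
    refine ⟨1, 1, Matrix.blockTriangular_one, Matrix.det_one, Matrix.blockTriangular_one,
      Matrix.det_one, ?_⟩
    intro j hj
    exact absurd hj (Nat.not_lt_zero _)
  | succ k ih =>
    intro hk
    obtain ⟨U1, U1', h1, h2, h3, h4, h5⟩ := ih (by omega)
    have hdet : (U1 * M * U1').det ≠ 0 := by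
      rw [Matrix.det_mul, Matrix.det_mul, h2, h4, one_mul, mul_one]
      exact hM
    obtain ⟨U2, U2', k1, k2, k3, k4, k5⟩ := clean_step (U1 * M * U1') hdet k (by omega) h5
    refine ⟨U2 * U1, U1' * U2', k1.mul h1, by rw [Matrix.det_mul, k2, h2, one_mul],
      h3.mul k3, by rw [Matrix.det_mul, h4, k4, one_mul], ?_⟩
    have e : U2 * U1 * M * (U1' * U2') = U2 * (U1 * M * U1') * U2' := by
      simp only [Matrix.mul_assoc]
    rw [e]
    exact k5

theorem monomial_of_clean (M : Matrix (Fin n) (Fin n) F) (h : Clean M n) :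
    ∃ (σ : Equiv.Perm (Fin n)) (d : Fin n → F), (∀ j, d j ≠ 0) ∧
      M = wmat F σ * Matrix.diagonal d := by
  classical
  have h' : ∀ j : Fin n, ∃ i : Fin n, M i j ≠ 0 ∧ (∀ i', i' ≠ i → M i' j = 0) ∧
      (∀ j', j' ≠ j → M i j' = 0) := fun j => h j j.isLt
  choose p hp1 hp2 hp3 using h'
  have hinj : Function.Injective p := by
    intro j j' hjj'
    by_contra hne
    have := hp3 j j' (fun h => hne h.symm)
    rw [hjj'] at this
    exact hp1 j' this
  have hbij : Function.Bijective p := Finite.injective_iff_bijective.mp hinj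
  refine ⟨Equiv.ofBijective p hbij, fun j => M (p j) j, hp1, ?_⟩
  ext i j
  rw [Matrix.mul_diagonal, wmat_apply, Equiv.ofBijective_apply]
  split_ifs with hi
  · rw [one_mul, hi]
  · rw [zero_mul]
    exact hp2 j i hi

/-- the Bruhat decomposition of `GL_n(F)` (existence) -/
theorem bruhat (g : GL (Fin n) F) : ∃ b ∈ Cfsg.upperTriangularGL n F, ∃ σ : Equiv.Perm (Fin n),
    ∃ b' ∈ Cfsg.upperTriangularGL n F, g = b * wGL F σ * b' := by
  classical
  have hdet : (g : Matrix (Fin n) (Fin n) F).det ≠ 0 := Matrix.GeneralLinearGroup.det_ne_zero g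
  obtain ⟨U, U', h1, h2, h3, h4, h5⟩ := exists_clean (g : Matrix (Fin n) (Fin n) F) hdet n le_rfl
  obtain ⟨σ, d, hd, hmon⟩ := monomial_of_clean _ h5
  have hU : U.det ≠ 0 := by rw [h2]; exact one_ne_zero
  have hU' : U'.det ≠ 0 := by rw [h4]; exact one_ne_zero
  have hD : (Matrix.diagonal d).det ≠ 0 := by
    rw [Matrix.det_diagonal]
    exact Finset.prod_ne_zero_iff.mpr fun j _ => hd j
  set u := Matrix.GeneralLinearGroup.mkOfDetNeZero U hU with hu
  set u' := Matrix.GeneralLinearGroup.mkOfDetNeZero U' hU' with hu'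
  set D := Matrix.GeneralLinearGroup.mkOfDetNeZero (Matrix.diagonal d) hD with hDD
  have huB : u ∈ Cfsg.upperTriangularGL n F := h1
  have hu'B : u' ∈ Cfsg.upperTriangularGL n F := h3
  have hDB : D ∈ Cfsg.upperTriangularGL n F := Matrix.blockTriangular_diagonal d
  have heq : u * g * u' = wGL F σ * D := by
    apply Units.ext
    exact hmon
  refine ⟨u⁻¹, (Cfsg.upperTriangularGL n F).inv_mem huB, σ, D * u'⁻¹,
    (Cfsg.upperTriangularGL n F).mul_mem hDB ((Cfsg.upperTriangularGL n F).inv_mem hu'B), ?_⟩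
  calc g = u⁻¹ * (u * g * u') * u'⁻¹ := by group
    _ = u⁻¹ * wGL F σ * (D * u'⁻¹) := by rw [heq]; group

end Cfsg.Agent.Lib.H12.DCos
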