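import Mathlib

/-!
S4484 small PURE pieces: (R2) `dft_count` (Fourier inversion on the cyclic group of order `p`) and
(R3) `nat_of_integral_div` (a rational algebraic integer `m / n` forces `n ∣ m`).
-/

set_option autoImplicit false

namespace Cfsg.Agent.Lib.H12.BB

open Finset

/-- geometric sum of a `p`-th root of unity -/
theorem geom_root (p : ℕ) (w : ℂ) (hw : w ^ p = 1) :
    ∑ j ∈ Finset.range p, w ^ j = if w = 1 then (p : ℂ) else 0 := by
  split_ifs with h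
  · subst h; simp
  · have h1 : w - 1 ≠ 0 := sub_ne_zero.mpr h
    have h2 := geom_sum_mul w p
    rw [hw, sub_self] at h2
    exact (mul_eq_zero.mp h2).resolve_right h1

/-- (R2) Fourier inversion on the cyclic group of order `p`: multiplicity of the eigenvalue `ζ^i`. PURE. -/
theorem dft_count {p n : ℕ} (hp : 0 < p) (ζ : ℂ) (hζ : ζ ^ p = 1) (a : Fin n → ℂ)
    (ha : ∀ k, a k ^ p = 1) (i : ℕ) :
    ∑ j ∈ Finset.range p, (∑ k, a k ^ j) * ((ζ ^ i)⁻¹) ^ j =
      (p : ℂ) * ((Finset.univ.filter (fun k => a k = ζ ^ i)).card : ℂ) := by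
  have hζ0 : ζ ≠ 0 := by
    intro h0
    rw [h0, zero_pow hp.ne'] at hζ
    exact zero_ne_one hζ
  have hζi0 : ζ ^ i ≠ 0 := pow_ne_zero i hζ0
  have hζip : (ζ ^ i) ^ p = 1 := by rw [← pow_mul, mul_comm, pow_mul, hζ, one_pow]
  have hswap : ∑ j ∈ Finset.range p, (∑ k, a k ^ j) * ((ζ ^ i)⁻¹) ^ j =
      ∑ k, ∑ j ∈ Finset.range p, (a k * (ζ ^ i)⁻¹) ^ j := by
    rw [Finset.sum_comm]
    refine Finset.sum_congr rfl fun j _ => ?_
    rw [Finset.sum_mul]
    refine Finset.sum_congr rfl fun k _ => ?_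
    rw [mul_pow]
  rw [hswap]
  have hterm : ∀ k, ∑ j ∈ Finset.range p, (a k * (ζ ^ i)⁻¹) ^ j =
      if a k = ζ ^ i then (p : ℂ) else 0 := by
    intro k
    have hw : (a k * (ζ ^ i)⁻¹) ^ p = 1 := by
      rw [mul_pow, inv_pow, ha k, hζip, inv_one, mul_one]
    rw [geom_root p _ hw]
    have hiff : a k * (ζ ^ i)⁻¹ = 1 ↔ a k = ζ ^ i := by
      rw [mul_inv_eq_one₀ hζi0]
    simp only [hiff]
  rw [Finset.sum_congr rfl fun k _ => hterm k, Finset.sum_ite, Finset.sum_const, Finset.sum_const_zero,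
    add_zero, nsmul_eq_mul, mul_comm]

/-- (R3) a rational algebraic integer which is `≥ 0` is a natural number. PURE. -/
theorem nat_of_integral_div {m n : ℕ} (hn : 0 < n) (h : IsIntegral ℤ ((m : ℂ) / (n : ℂ))) :
    n ∣ m := by
  have hcast : ((m : ℂ) / (n : ℂ)) = algebraMap ℚ ℂ ((m : ℚ) / (n : ℚ)) := by
    simp
  rw [hcast] at h
  have hq : IsIntegral ℤ ((m : ℚ) / (n : ℚ)) :=
    (isIntegral_algebraMap_iff (algebraMap ℚ ℂ).injective).mp h
  obtain ⟨z, hz⟩ := IsIntegrallyClosed.isIntegral_iff.mp hq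
  have hn0 : (n : ℚ) ≠ 0 := by exact_mod_cast hn.ne'
  have h1 : (m : ℚ) = (z : ℚ) * (n : ℚ) := by
    have : (algebraMap ℤ ℚ) z = (z : ℚ) := rfl
    rw [this] at hz
    rw [hz]; field_simp
  have h2 : (m : ℤ) = z * (n : ℤ) := by exact_mod_cast h1
  have h3 : (n : ℤ) ∣ (m : ℤ) := ⟨z, by rw [h2, mul_comm]⟩
  exact Int.natCast_dvd_natCast.mp h3

end Cfsg.Agent.Lib.H12.BB
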