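import Cfsg.Agent.Lib.H15.B60Irr
import Cfsg.Agent.Lib.H9.B60EIG
import Cfsg.Agent.Lib.L0.CharBasic
import Cfsg.Agent.Lib.H12.BBR

/-!
S4429 piece (F2), general form (helper12): values of an irreducible character at an element `x` of order 11 which is
conjugate to `x ^ 3`: `ψ x = A + m η`, `ψ x⁻¹ = A + m η'`, `ψ 1 = A + 5 m + 11 c` with integers `A`, `m` and a natural
number `c`, where `η = ζ + ζ^3 + ζ^4 + ζ^5 + ζ^9` (quadratic residues), `η' = ζ^2 + ζ^6 + ζ^7 + ζ^8 + ζ^10`.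
-/

set_option autoImplicit false

namespace Cfsg.Agent.Lib.H12.O7920

open Cfsg Cfsg.Agent.Lib.L0
open scoped ComplexConjugate BigOperators

/-! ### algebra of a primitive eleventh root of unity -/

section roots

variable {ζ : ℂ}

theorem zeta_pow_eleven (hζ : IsPrimitiveRoot ζ 11) : ζ ^ 11 = 1 := hζ.pow_eq_one

theorem zeta_sum11 (hζ : IsPrimitiveRoot ζ 11) :
    1 + ζ + ζ ^ 2 + ζ ^ 3 + ζ ^ 4 + ζ ^ 5 + ζ ^ 6 + ζ ^ 7 + ζ ^ 8 + ζ ^ 9 + ζ ^ 10 = 0 := by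
  have h := hζ.geom_sum_eq_zero (by norm_num : 1 < 11)
  simp only [Finset.sum_range_succ, Finset.sum_range_zero, pow_zero, pow_one, zero_add] at h
  exact h

/-- `η + η' = -1`. -/
theorem eta_add_eta' (hζ : IsPrimitiveRoot ζ 11) :
    (ζ + ζ ^ 3 + ζ ^ 4 + ζ ^ 5 + ζ ^ 9) + (ζ ^ 2 + ζ ^ 6 + ζ ^ 7 + ζ ^ 8 + ζ ^ 10) = -1 := by
  have h := zeta_sum11 hζ
  linear_combination h

/-- `η η' = 3`. -/
theorem eta_mul_eta' (hζ : IsPrimitiveRoot ζ 11) :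
    (ζ + ζ ^ 3 + ζ ^ 4 + ζ ^ 5 + ζ ^ 9) * (ζ ^ 2 + ζ ^ 6 + ζ ^ 7 + ζ ^ 8 + ζ ^ 10) = 3 := by
  have h := zeta_sum11 hζ
  have h11 := zeta_pow_eleven hζ
  linear_combination (5 + 2 * ζ + 2 * ζ ^ 2 + 1 * ζ ^ 3 + 2 * ζ ^ 4 + 1 * ζ ^ 5 + 1 * ζ ^ 6 + 1 * ζ ^ 8) * h11
    + 2 * h

/-- `η^2 + η + 3 = 0`. -/
theorem eta_sq (hζ : IsPrimitiveRoot ζ 11) :
    (ζ + ζ ^ 3 + ζ ^ 4 + ζ ^ 5 + ζ ^ 9) ^ 2 + (ζ + ζ ^ 3 + ζ ^ 4 + ζ ^ 5 + ζ ^ 9) + 3 = 0 := by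
  have h1 := eta_add_eta' hζ
  have h2 := eta_mul_eta' hζ
  linear_combination (ζ + ζ ^ 3 + ζ ^ 4 + ζ ^ 5 + ζ ^ 9) * h1 - h2

theorem conj_zeta11 (hζ : IsPrimitiveRoot ζ 11) : conj ζ = ζ ^ 10 := by
  have h11 := zeta_pow_eleven hζ
  have hn : ‖ζ‖ = 1 := hζ.norm'_eq_one (by norm_num)
  have h0 : ζ ≠ 0 := hζ.ne_zero (by norm_num)
  have h1 : ζ * conj ζ = 1 := by
    rw [Complex.mul_conj, Complex.normSq_eq_norm_sq, hn]; norm_num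
  have h2 : ζ * ζ ^ 10 = 1 := by rw [← h11]; ring
  exact mul_left_cancel₀ h0 (h1.trans h2.symm)

/-- `conj η = η'`. -/
theorem conj_eta (hζ : IsPrimitiveRoot ζ 11) :
    conj (ζ + ζ ^ 3 + ζ ^ 4 + ζ ^ 5 + ζ ^ 9) = ζ ^ 2 + ζ ^ 6 + ζ ^ 7 + ζ ^ 8 + ζ ^ 10 := by
  have h11 := zeta_pow_eleven hζ
  simp only [map_add, map_pow, conj_zeta11 hζ]
  have e3 : (ζ ^ 10) ^ 3 = ζ ^ 8 := by
    calc (ζ ^ 10) ^ 3 = (ζ ^ 11) ^ 2 * ζ ^ 8 := by ring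
      _ = ζ ^ 8 := by rw [h11]; ring
  have e4 : (ζ ^ 10) ^ 4 = ζ ^ 7 := by
    calc (ζ ^ 10) ^ 4 = (ζ ^ 11) ^ 3 * ζ ^ 7 := by ring
      _ = ζ ^ 7 := by rw [h11]; ring
  have e5 : (ζ ^ 10) ^ 5 = ζ ^ 6 := by
    calc (ζ ^ 10) ^ 5 = (ζ ^ 11) ^ 4 * ζ ^ 6 := by ring
      _ = ζ ^ 6 := by rw [h11]; ring
  have e9 : (ζ ^ 10) ^ 9 = ζ ^ 2 := by
    calc (ζ ^ 10) ^ 9 = (ζ ^ 11) ^ 8 * ζ ^ 2 := by ring
      _ = ζ ^ 2 := by rw [h11]; ring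
  rw [e3, e4, e5, e9]
  ring

/-- `conj η' = η`. -/
theorem conj_eta' (hζ : IsPrimitiveRoot ζ 11) :
    conj (ζ ^ 2 + ζ ^ 6 + ζ ^ 7 + ζ ^ 8 + ζ ^ 10) = ζ + ζ ^ 3 + ζ ^ 4 + ζ ^ 5 + ζ ^ 9 := by
  rw [← conj_eta hζ, Complex.conj_conj]

/-- `η` is not rational. -/
theorem eta_irrational (hζ : IsPrimitiveRoot ζ 11) (q : ℚ) :
    ζ + ζ ^ 3 + ζ ^ 4 + ζ ^ 5 + ζ ^ 9 ≠ (q : ℂ) := by
  intro h
  have h1 := eta_sq hζ
  rw [h] at h1
  have h2 : (q : ℂ) ^ 2 + q + 3 = ((q ^ 2 + q + 3 : ℚ) : ℂ) := by push_cast; ring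
  rw [h2] at h1
  have h3 : q ^ 2 + q + 3 = 0 := by exact_mod_cast h1
  nlinarith [sq_nonneg (2 * q + 1)]

/-- `1` and `η` are linearly independent over `ℤ`. -/
theorem int_lin_indep_eta (hζ : IsPrimitiveRoot ζ 11) (a b : ℤ)
    (h : (a : ℂ) + (b : ℂ) * (ζ + ζ ^ 3 + ζ ^ 4 + ζ ^ 5 + ζ ^ 9) = 0) : a = 0 ∧ b = 0 := by
  have hb : b = 0 := by
    by_contra hb0
    have hbc : (b : ℂ) ≠ 0 := by exact_mod_cast hb0
    apply eta_irrational hζ ((-a : ℚ) / (b : ℚ))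
    have : ζ + ζ ^ 3 + ζ ^ 4 + ζ ^ 5 + ζ ^ 9 = -(a : ℂ) / (b : ℂ) := by
      field_simp
      linear_combination h
    rw [this]
    push_cast
    ring
  refine ⟨?_, hb⟩
  rw [hb] at h
  simpa using h

end roots

/-! ### power sums of eleventh roots of unity -/

/-- power sums in terms of the multiplicities of the roots `ζ^i` (general `p`). -/
theorem pow_sum_eq_mult {p n : ℕ} [NeZero p] (ζ : ℂ) (hζ : IsPrimitiveRoot ζ p) (a : Fin n → ℂ)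
    (ha : ∀ k, a k ^ p = 1) (j : ℕ) :
    ∑ k, a k ^ j = ∑ i ∈ Finset.range p,
      ((Finset.univ.filter (fun k => a k = ζ ^ i)).card : ℂ) * (ζ ^ i) ^ j := by
  classical
  have h1 : ∀ k, a k ^ j = ∑ i ∈ Finset.range p, if a k = ζ ^ i then (ζ ^ i) ^ j else 0 := by
    intro k
    obtain ⟨i0, hi0, h⟩ := hζ.eq_pow_of_pow_eq_one (ha k)
    rw [Finset.sum_eq_single i0]
    · rw [if_pos h.symm, h]
    · intro b hb hne
      rw [if_neg]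
      intro hb'
      apply hne
      exact hζ.pow_inj (Finset.mem_range.mp hb) hi0 (hb'.symm.trans h.symm)
    · intro h'
      exact absurd (Finset.mem_range.mpr hi0) h'
  simp_rw [h1]
  rw [Finset.sum_comm]
  refine Finset.sum_congr rfl fun i _ => ?_
  rw [← Finset.sum_filter, Finset.sum_const, nsmul_eq_mul]

/-- If the power sums satisfy `S (3 j) = S j`, the multiplicity of `ζ^i` equals that of `ζ^(3 i)`. -/
theorem mult_mul_three {n : ℕ} (ζ : ℂ) (hζ : ζ ^ 11 = 1) (a : Fin n → ℂ) (ha : ∀ k, a k ^ 11 = 1)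
    (h3 : ∀ j : ℕ, ∑ k, a k ^ (3 * j) = ∑ k, a k ^ j) (i : ℕ) :
    (Finset.univ.filter (fun k => a k = ζ ^ (3 * i))).card =
      (Finset.univ.filter (fun k => a k = ζ ^ i)).card := by
  classical
  have hd1 := Cfsg.Agent.Lib.H12.BB.dft_count (p := 11) (by norm_num) ζ hζ a ha i
  have hd3 := Cfsg.Agent.Lib.H12.BB.dft_count (p := 11) (by norm_num) ζ hζ a ha (3 * i)
  -- periodicity
  have hperS : ∀ j : ℕ, ∑ k, a k ^ (j % 11) = ∑ k, a k ^ j := by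
    intro j
    refine Finset.sum_congr rfl fun k _ => ?_
    exact (pow_eq_pow_mod j (ha k)).symm
  have hw : ((ζ ^ i)⁻¹) ^ 11 = 1 := by
    rw [inv_pow, ← pow_mul, mul_comm, pow_mul, hζ, one_pow, inv_one]
  have hperW : ∀ j : ℕ, ((ζ ^ i)⁻¹) ^ (j % 11) = ((ζ ^ i)⁻¹) ^ j := fun j =>
    (pow_eq_pow_mod j hw).symm
  -- reindex `j ↦ 3 j mod 11`
  have hre : ∑ j ∈ Finset.range 11, (∑ k, a k ^ j) * ((ζ ^ i)⁻¹) ^ j =
      ∑ j ∈ Finset.range 11, (∑ k, a k ^ (3 * j % 11)) * ((ζ ^ i)⁻¹) ^ (3 * j % 11) := by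
    symm
    apply Finset.sum_nbij' (fun j => 3 * j % 11) (fun j => 4 * j % 11)
    · intro j _
      exact Finset.mem_range.mpr (Nat.mod_lt _ (by norm_num))
    · intro j _
      exact Finset.mem_range.mpr (Nat.mod_lt _ (by norm_num))
    · intro j hj
      have := Finset.mem_range.mp hj
      omega
    · intro j hj
      have := Finset.mem_range.mp hj
      omega
    · intro j _
      rfl
  have hterm : ∀ j : ℕ, (∑ k, a k ^ (3 * j % 11)) * ((ζ ^ i)⁻¹) ^ (3 * j % 11) =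
      (∑ k, a k ^ j) * ((ζ ^ (3 * i))⁻¹) ^ j := by
    intro j
    rw [hperS, hperW, h3 j]
    congr 1
    rw [inv_pow, inv_pow, ← pow_mul, ← pow_mul]
    congr 2
    ring
  rw [Finset.sum_congr rfl (fun j _ => hterm j), hd3] at hre
  rw [hd1] at hre
  have h11 : ((11 : ℕ) : ℂ) ≠ 0 := by norm_num
  have := mul_left_cancel₀ h11 hre
  exact_mod_cast this.symm

/-! ### the character values -/

theorem char_values_order11 {G : Type*} [Group G] [Finite G] (ψ : G → ℂ)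
    (hψ : Cfsg.IsIrrCharacter G ψ) (x : G) (hx : orderOf x = 11) (hconj : IsConj x (x ^ 3)) (ζ : ℂ)
    (hζ : IsPrimitiveRoot ζ 11) :
    ∃ (A m : ℤ) (c : ℕ), ψ x = A + m * (ζ + ζ ^ 3 + ζ ^ 4 + ζ ^ 5 + ζ ^ 9) ∧
      ψ x⁻¹ = A + m * (ζ ^ 2 + ζ ^ 6 + ζ ^ 7 + ζ ^ 8 + ζ ^ 10) ∧
      ψ 1 = A + 5 * m + 11 * c := by
  classical
  obtain ⟨d, R, htr, -, -, -, -⟩ := Cfsg.Agent.Lib.H15.B60.exists_isometric_model ψ hψ
  obtain ⟨a, hpow, hroot, -, -⟩ := Cfsg.Agent.Lib.H9.B60.exists_eigen_list_rep R ψ htr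
    (finrank_euclideanSpace_fin) x
  rw [hx] at hroot
  have h11 := zeta_pow_eleven hζ
  have hs := zeta_sum11 hζ
  have hcf := isClassFunction_of_isCharacter (isCharacter_of_irr hψ)
  -- `S (3 j) = S j`
  have h3 : ∀ j : ℕ, ∑ k, a k ^ (3 * j) = ∑ k, a k ^ j := by
    intro j
    rw [← hpow, ← hpow]
    obtain ⟨g, hg⟩ := isConj_iff.1 hconj
    have : x ^ (3 * j) = g * x ^ j * g⁻¹ := by
      rw [pow_mul, ← hg, conj_pow]
    rw [this]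
    exact hcf (x ^ j) g
  set M : ℕ → ℕ := fun i => (Finset.univ.filter (fun k => a k = ζ ^ i)).card with hM
  have hM3 : ∀ i, M (3 * i) = M i := fun i => mult_mul_three ζ h11 a hroot h3 i
  have hMper : ∀ i r : ℕ, ζ ^ i = ζ ^ r → M i = M r := by
    intro i r h
    simp only [hM, h]
  have e27 : ζ ^ 27 = ζ ^ 5 := by
    calc ζ ^ 27 = (ζ ^ 11) ^ 2 * ζ ^ 5 := by ring
      _ = ζ ^ 5 := by rw [h11]; ring
  have e15 : ζ ^ 15 = ζ ^ 4 := by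
    calc ζ ^ 15 = ζ ^ 11 * ζ ^ 4 := by ring
      _ = ζ ^ 4 := by rw [h11]; ring
  have e18 : ζ ^ 18 = ζ ^ 7 := by
    calc ζ ^ 18 = ζ ^ 11 * ζ ^ 7 := by ring
      _ = ζ ^ 7 := by rw [h11]; ring
  have e21 : ζ ^ 21 = ζ ^ 10 := by
    calc ζ ^ 21 = ζ ^ 11 * ζ ^ 10 := by ring
      _ = ζ ^ 10 := by rw [h11]; ring
  have e30 : ζ ^ 30 = ζ ^ 8 := by
    calc ζ ^ 30 = (ζ ^ 11) ^ 2 * ζ ^ 8 := by ring
      _ = ζ ^ 8 := by rw [h11]; ring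
  -- quadratic residues: 1, 3, 9, 5, 4
  have q3 : M 3 = M 1 := hM3 1
  have q9 : M 9 = M 1 := (hM3 3).trans q3
  have q5 : M 5 = M 1 := ((hMper 27 5 e27).symm.trans (hM3 9)).trans q9
  have q4 : M 4 = M 1 := ((hMper 15 4 e15).symm.trans (hM3 5)).trans q5
  -- non-residues: 2, 6, 7, 10, 8
  have n6 : M 6 = M 2 := hM3 2
  have n7 : M 7 = M 2 := ((hMper 18 7 e18).symm.trans (hM3 6)).trans n6
  have n10 : M 10 = M 2 := ((hMper 21 10 e21).symm.trans (hM3 7)).trans n7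
  have n8 : M 8 = M 2 := ((hMper 30 8 e30).symm.trans (hM3 10)).trans n10
  have hval : ∀ j : ℕ, ψ (x ^ j) = ∑ i ∈ Finset.range 11, (M i : ℂ) * (ζ ^ i) ^ j := by
    intro j
    rw [hpow j]
    exact pow_sum_eq_mult ζ hζ a hroot j
  have hv1 : ψ x = (M 0 : ℂ) + (M 1 : ℂ) * (ζ + ζ ^ 3 + ζ ^ 4 + ζ ^ 5 + ζ ^ 9)
      + (M 2 : ℂ) * (ζ ^ 2 + ζ ^ 6 + ζ ^ 7 + ζ ^ 8 + ζ ^ 10) := by
    have := hval 1
    simp only [pow_one, Finset.sum_range_succ, Finset.sum_range_zero, zero_add, pow_zero] at this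
    rw [this, q3, q9, q5, q4, n6, n7, n10, n8]
    ring
  have hv0 : ψ 1 = (M 0 : ℂ) + 5 * (M 1 : ℂ) + 5 * (M 2 : ℂ) := by
    have := hval 0
    simp only [pow_zero, Finset.sum_range_succ, Finset.sum_range_zero, zero_add, mul_one] at this
    rw [this, q3, q9, q5, q4, n6, n7, n10, n8]
    ring
  have hinv : ψ x⁻¹ = conj (ψ x) := isCharacter_apply_inv (isCharacter_of_irr hψ) x
  have hee := eta_add_eta' hζ
  refine ⟨(M 0 : ℤ) - M 2, (M 1 : ℤ) - M 2, M 2, ?_, ?_, ?_⟩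
  · rw [hv1]
    push_cast
    linear_combination (M 2 : ℂ) * hee
  · rw [hinv, hv1]
    simp only [map_add, map_mul, map_natCast, conj_eta hζ, conj_eta' hζ]
    push_cast
    linear_combination (M 2 : ℂ) * hee
  · rw [hv0]
    push_cast
    ring

end Cfsg.Agent.Lib.H12.O7920
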