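import Cfsg.Agent.Lib.H12.O7920F2

/-!
S4429 piece (F10) `values5`: values of an irreducible character at an element `y` of order 5 with `y ~ y^2`:
`ψ y = B`, `ψ 1 = B + 5 c` with `B` an integer and `c` a natural number.
-/

set_option autoImplicit false

namespace Cfsg.Agent.Lib.H12.M7920

open Cfsg Cfsg.Agent.Lib.L0
open scoped ComplexConjugate BigOperators
universe u

/-- If the power sums of 5th roots of unity satisfy `S (2 j) = S j`, the multiplicity of `ζ^i` equals that of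
`ζ^(2 i)`. -/
theorem mult_mul_two {n : ℕ} (ζ : ℂ) (hζ : ζ ^ 5 = 1) (a : Fin n → ℂ) (ha : ∀ k, a k ^ 5 = 1)
    (h2 : ∀ j : ℕ, ∑ k, a k ^ (2 * j) = ∑ k, a k ^ j) (i : ℕ) :
    (Finset.univ.filter (fun k => a k = ζ ^ (2 * i))).card =
      (Finset.univ.filter (fun k => a k = ζ ^ i)).card := by
  classical
  have hd1 := Cfsg.Agent.Lib.H12.BB.dft_count (p := 5) (by norm_num) ζ hζ a ha i
  have hd3 := Cfsg.Agent.Lib.H12.BB.dft_count (p := 5) (by norm_num) ζ hζ a ha (2 * i)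
  have hperS : ∀ j : ℕ, ∑ k, a k ^ (j % 5) = ∑ k, a k ^ j := by
    intro j
    refine Finset.sum_congr rfl fun k _ => ?_
    exact (pow_eq_pow_mod j (ha k)).symm
  have hw : ((ζ ^ i)⁻¹) ^ 5 = 1 := by
    rw [inv_pow, ← pow_mul, mul_comm, pow_mul, hζ, one_pow, inv_one]
  have hperW : ∀ j : ℕ, ((ζ ^ i)⁻¹) ^ (j % 5) = ((ζ ^ i)⁻¹) ^ j := fun j =>
    (pow_eq_pow_mod j hw).symm
  have hre : ∑ j ∈ Finset.range 5, (∑ k, a k ^ j) * ((ζ ^ i)⁻¹) ^ j =
      ∑ j ∈ Finset.range 5, (∑ k, a k ^ (2 * j % 5)) * ((ζ ^ i)⁻¹) ^ (2 * j % 5) := by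
    symm
    apply Finset.sum_nbij' (fun j => 2 * j % 5) (fun j => 3 * j % 5)
    · intro j _
      exact Finset.mem_range.mpr (Nat.mod_lt _ (by norm_num))
    · intro j _
      exact Finset.mem_range.mpr (Nat.mod_lt _ (by norm_num))
    · intro j hj
      have := Finset.mem_range.mp hj
      omega
    · intro j hj
      have := Finset.mem_range.mp hj
      omega
    · intro j _
      rfl
  have hterm : ∀ j : ℕ, (∑ k, a k ^ (2 * j % 5)) * ((ζ ^ i)⁻¹) ^ (2 * j % 5) =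
      (∑ k, a k ^ j) * ((ζ ^ (2 * i))⁻¹) ^ j := by
    intro j
    rw [hperS, hperW, h2 j]
    congr 1
    rw [inv_pow, inv_pow, ← pow_mul, ← pow_mul]
    congr 2
    ring
  rw [Finset.sum_congr rfl (fun j _ => hterm j), hd3] at hre
  rw [hd1] at hre
  have h5 : ((5 : ℕ) : ℂ) ≠ 0 := by norm_num
  have := mul_left_cancel₀ h5 hre
  exact_mod_cast this.symm

theorem values5 {G : Type u} [Group G] [Finite G] (ψ : IrrCharacter G) (y : G) (hy : orderOf y = 5)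
    (h2 : IsConj y (y ^ 2)) :
    ∃ (B : ℤ) (c : ℕ), (ψ : G → ℂ) y = (B : ℂ) ∧ (ψ : G → ℂ) 1 = (B : ℂ) + 5 * c := by
  classical
  obtain ⟨ζ, hζ⟩ : ∃ ζ : ℂ, IsPrimitiveRoot ζ 5 := ⟨_, Complex.isPrimitiveRoot_exp 5 (by norm_num)⟩
  obtain ⟨d, R, htr, -, -, -, -⟩ := Cfsg.Agent.Lib.H15.B60.exists_isometric_model ψ.1 ψ.2
  obtain ⟨a, hpow, hroot, -, -⟩ := Cfsg.Agent.Lib.H9.B60.exists_eigen_list_rep R ψ.1 htr
    (finrank_euclideanSpace_fin) y
  rw [hy] at hroot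
  have h5 : ζ ^ 5 = 1 := hζ.pow_eq_one
  have hs : 1 + ζ + ζ ^ 2 + ζ ^ 3 + ζ ^ 4 = 0 := by
    have h := hζ.geom_sum_eq_zero (by norm_num : 1 < 5)
    simp only [Finset.sum_range_succ, Finset.sum_range_zero, pow_zero, pow_one, zero_add] at h
    exact h
  have hcf := isClassFunction_of_isCharacter (isCharacter_of_irr ψ.2)
  have hS2 : ∀ j : ℕ, ∑ k, a k ^ (2 * j) = ∑ k, a k ^ j := by
    intro j
    rw [← hpow, ← hpow]
    obtain ⟨g, hg⟩ := isConj_iff.1 h2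
    have : y ^ (2 * j) = g * y ^ j * g⁻¹ := by
      rw [pow_mul, ← hg, conj_pow]
    rw [this]
    exact hcf (y ^ j) g
  set M : ℕ → ℕ := fun i => (Finset.univ.filter (fun k => a k = ζ ^ i)).card with hM
  have hM2 : ∀ i, M (2 * i) = M i := fun i => mult_mul_two ζ h5 a hroot hS2 i
  have e8 : ζ ^ 8 = ζ ^ 3 := by
    calc ζ ^ 8 = ζ ^ 5 * ζ ^ 3 := by ring
      _ = ζ ^ 3 := by rw [h5]; ring
  have q2 : M 2 = M 1 := hM2 1
  have q4 : M 4 = M 1 := (hM2 2).trans q2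
  have q3 : M 3 = M 1 := by
    have h8 : M 8 = M 3 := by simp only [hM, e8]
    exact (h8.symm.trans (hM2 4)).trans q4
  have hval : ∀ j : ℕ, (ψ : G → ℂ) (y ^ j) = ∑ i ∈ Finset.range 5, (M i : ℂ) * (ζ ^ i) ^ j := by
    intro j
    rw [hpow j]
    exact Cfsg.Agent.Lib.H12.O7920.pow_sum_eq_mult ζ hζ a hroot j
  have hv1 : (ψ : G → ℂ) y = (M 0 : ℂ) + (M 1 : ℂ) * (ζ + ζ ^ 2 + ζ ^ 3 + ζ ^ 4) := by
    have := hval 1
    simp only [pow_one, Finset.sum_range_succ, Finset.sum_range_zero, zero_add, pow_zero] at this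
    rw [this, q2, q3, q4]
    ring
  have hv0 : (ψ : G → ℂ) 1 = (M 0 : ℂ) + 4 * (M 1 : ℂ) := by
    have := hval 0
    simp only [pow_zero, Finset.sum_range_succ, Finset.sum_range_zero, zero_add, mul_one] at this
    rw [this, q2, q3, q4]
    ring
  refine ⟨(M 0 : ℤ) - M 1, M 1, ?_, ?_⟩
  · rw [hv1]
    push_cast
    linear_combination (M 1 : ℂ) * hs
  · rw [hv0]
    push_cast
    ring

end Cfsg.Agent.Lib.H12.M7920
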