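import Mathlib
import Cfsg.Agent.Lib.H2.CoxExch

/-!
# Groups with the exchange condition, I: length, descents, deletion (helper12)
-/

set_option autoImplicit false

namespace Cfsg.Agent.Lib.H12.CoxD

open Cfsg.Agent.Lib.H2.CoxExch

variable {W : Type*} [Group W] {B : Type*} {σ : B → W}

/-- the length of an element: the least length of a word representing it -/
noncomputable def len (σ : B → W) (w : W) : ℕ :=
  sInf {n | ∃ ω : List B, ω.length = n ∧ wp σ ω = w}

theorem len_le {ω : List B} {w : W} (h : wp σ ω = w) : len σ w ≤ ω.length :=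
  Nat.sInf_le ⟨ω, rfl, h⟩

theorem exists_word_len (hsurj : Function.Surjective (wp σ)) (w : W) :
    ∃ ω : List B, wp σ ω = w ∧ ω.length = len σ w := by
  have hne : {n | ∃ ω : List B, ω.length = n ∧ wp σ ω = w}.Nonempty := by
    obtain ⟨ω, hω⟩ := hsurj w
    exact ⟨ω.length, ω, rfl, hω⟩
  obtain ⟨ω, h1, h2⟩ := Nat.sInf_mem hne
  exact ⟨ω, h2, h1⟩

theorem red_iff {ω : List B} : Red σ ω ↔ len σ (wp σ ω) = ω.length := by
  constructor
  · intro h
    apply le_antisymm (len_le rfl)
    have hne : {n | ∃ ω' : List B, ω'.length = n ∧ wp σ ω' = wp σ ω}.Nonempty :=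
      ⟨ω.length, ω, rfl, rfl⟩
    obtain ⟨ω', h1, h2⟩ := Nat.sInf_mem hne
    have h3 := h ω' h2
    unfold len
    omega
  · intro h ω' h'
    rw [← h, ← h']
    exact len_le rfl

theorem exists_red_len (hsurj : Function.Surjective (wp σ)) (w : W) :
    ∃ ω : List B, Red σ ω ∧ wp σ ω = w ∧ ω.length = len σ w := by
  obtain ⟨ω, h1, h2⟩ := exists_word_len hsurj w
  refine ⟨ω, ?_, h1, h2⟩
  rw [red_iff, h1, h2]

theorem len_one : len σ (1 : W) = 0 := by
  have := len_le (σ := σ) (ω := []) (w := 1) rfl
  simpa using this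

theorem len_eq_zero (hsurj : Function.Surjective (wp σ)) {w : W} : len σ w = 0 ↔ w = 1 := by
  constructor
  · intro h
    obtain ⟨ω, h1, h2⟩ := exists_word_len hsurj w
    rw [h, List.length_eq_zero_iff] at h2
    rw [← h1, h2, wp_nil]
  · rintro rfl
    exact len_one

theorem len_inv (hσ : Exch σ) (hsurj : Function.Surjective (wp σ)) (w : W) :
    len σ w⁻¹ = len σ w := by
  have key : ∀ w : W, len σ w⁻¹ ≤ len σ w := by
    intro w
    obtain ⟨ω, h1, h2⟩ := exists_word_len hsurj w
    rw [← h2, ← List.length_reverse]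
    apply len_le
    rw [wp_reverse hσ, h1]
  apply le_antisymm (key w)
  have := key w⁻¹
  rwa [inv_inv] at this

theorem len_simple_mul_le (i : B) (w : W) (hsurj : Function.Surjective (wp σ)) :
    len σ (σ i * w) ≤ len σ w + 1 := by
  obtain ⟨ω, h1, h2⟩ := exists_word_len hsurj w
  rw [← h2, ← List.length_cons (a := i)]
  apply len_le
  rw [wp_cons, h1]

theorem len_le_simple_mul (hσ : Exch σ) (hsurj : Function.Surjective (wp σ)) (i : B) (w : W) :
    len σ w ≤ len σ (σ i * w) + 1 := by
  have := len_simple_mul_le i (σ i * w) hsurj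
  rwa [← mul_assoc, hσ.sq, one_mul] at this

theorem len_simple_mul_cases (hσ : Exch σ) (hsurj : Function.Surjective (wp σ)) (i : B) (w : W) :
    len σ (σ i * w) = len σ w + 1 ∨ len σ (σ i * w) + 1 = len σ w := by
  obtain ⟨ω, hr, h1, h2⟩ := exists_red_len hsurj w
  by_cases h : Red σ (i :: ω)
  · left
    rw [red_iff, wp_cons, h1, List.length_cons, h2] at h
    exact h
  · right
    obtain ⟨j, hj, hj'⟩ := hσ.exch ω i hr h
    rw [h1] at hj'
    have h3 : len σ (σ i * w) ≤ ω.length - 1 := by
      rw [hj']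
      refine (len_le rfl).trans ?_
      rw [List.length_eraseIdx_of_lt hj]
    have h4 := len_le_simple_mul hσ hsurj i w
    omega

theorem len_simple (hσ : Exch σ) (hsurj : Function.Surjective (wp σ)) (i : B) :
    len σ (σ i) = 1 := by
  have := len_simple_mul_cases hσ hsurj i 1
  rw [mul_one, len_one] at this
  omega

theorem len_mul_simple_cases (hσ : Exch σ) (hsurj : Function.Surjective (wp σ)) (i : B) (w : W) :
    len σ (w * σ i) = len σ w + 1 ∨ len σ (w * σ i) + 1 = len σ w := by
  have := len_simple_mul_cases hσ hsurj i w⁻¹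
  rw [len_inv hσ hsurj] at this
  have e : σ i * w⁻¹ = (w * σ i)⁻¹ := by rw [mul_inv_rev, hσ.inv]
  rw [e, len_inv hσ hsurj] at this
  exact this

/-- a reduced word whose first letter is a given left descent -/
theorem exists_red_cons (hσ : Exch σ) (hsurj : Function.Surjective (wp σ)) {i : B} {w : W}
    (h : len σ (σ i * w) < len σ w) :
    ∃ ω : List B, Red σ (i :: ω) ∧ wp σ (i :: ω) = w ∧ wp σ ω = σ i * w := by
  obtain ⟨ω, hr, h1, h2⟩ := exists_red_len hsurj (σ i * w)
  have hw : wp σ (i :: ω) = w := by rw [wp_cons, h1, ← mul_assoc, hσ.sq, one_mul]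
  refine ⟨ω, ?_, hw, h1⟩
  rw [red_iff, hw, List.length_cons, h2]
  have := len_simple_mul_cases hσ hsurj i w
  omega

/-- a reduced word whose last letter is a given right descent -/
theorem exists_red_snoc (hσ : Exch σ) (hsurj : Function.Surjective (wp σ)) {i : B} {w : W}
    (h : len σ (w * σ i) < len σ w) :
    ∃ ω : List B, Red σ (ω ++ [i]) ∧ wp σ (ω ++ [i]) = w ∧ wp σ ω = w * σ i := by
  obtain ⟨ω, hr, h1, h2⟩ := exists_red_len hsurj (w * σ i)
  have hw : wp σ (ω ++ [i]) = w := by
    rw [wp_append, wp_singleton, h1, mul_assoc, hσ.sq, mul_one]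
  refine ⟨ω, ?_, hw, h1⟩
  rw [red_iff, hw, List.length_append, List.length_singleton, h2]
  have := len_mul_simple_cases hσ hsurj i w
  omega

theorem Red.of_append_right {ω τ : List B} (h : Red σ (ω ++ τ)) : Red σ τ := by
  intro τ' h'
  have := h (ω ++ τ') (by simp [h'])
  simpa using this

theorem wp_eraseIdx_cons_succ (i : B) (ω : List B) (j : ℕ) :
    wp σ ((i :: ω).eraseIdx (j + 1)) = σ i * wp σ (ω.eraseIdx j) := by
  rw [List.eraseIdx_cons_succ, wp_cons]

/-- the deletion condition -/
theorem deletion (hσ : Exch σ) : ∀ ω : List B, ¬ Red σ ω →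
    ∃ ω' : List B, ω'.length + 2 = ω.length ∧ wp σ ω' = wp σ ω ∧ ω'.Sublist ω := by
  intro ω
  induction ω with
  | nil => intro h; exact (h red_nil).elim
  | cons i ω ih =>
    intro h
    by_cases hr : Red σ ω
    · obtain ⟨j, hj, hj'⟩ := hσ.exch ω i hr h
      refine ⟨ω.eraseIdx j, ?_, ?_, ?_⟩
      · rw [List.length_eraseIdx_of_lt hj, List.length_cons]
        omega
      · rw [wp_cons, hj']
      · exact (List.eraseIdx_sublist ω j).trans (List.sublist_cons_self i ω)
    · obtain ⟨ω', h1, h2, h3⟩ := ih hr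
      refine ⟨i :: ω', ?_, ?_, ?_⟩
      · simp only [List.length_cons]
        omega
      · rw [wp_cons, wp_cons, h2]
      · exact h3.cons_cons i

/-- deletion in a product of two reduced words -/
theorem split_deletion (hσ : Exch σ) : ∀ a b : List B, Red σ a → Red σ b → ¬ Red σ (a ++ b) →
    ∃ j < a.length, ∃ k < b.length,
      wp σ a * wp σ b = wp σ (a.eraseIdx j) * wp σ (b.eraseIdx k) := by
  intro a
  induction a with
  | nil =>
    intro b _ hb h
    exact (h (by simpa using hb)).elim
  | cons i a ih =>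
    intro b ha hb h
    by_cases hr : Red σ (a ++ b)
    · obtain ⟨j, hj, hj'⟩ := hσ.exch (a ++ b) i hr (by simpa using h)
      by_cases hja : j < a.length
      · exfalso
        rw [List.eraseIdx_append_of_lt_length hja, wp_append, wp_append, ← mul_assoc,
          mul_left_inj] at hj'
        have := ha (a.eraseIdx j) (by rw [wp_cons, hj'])
        rw [List.length_cons, List.length_eraseIdx_of_lt hja] at this
        omega
      · rw [List.eraseIdx_append_of_length_le (by omega), wp_append, wp_append] at hj'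
        rw [List.length_append] at hj
        refine ⟨0, by simp, j - a.length, by omega, ?_⟩
        rw [List.eraseIdx_cons_zero, wp_cons, mul_assoc, hj']
    · obtain ⟨j, hj, k, hk, hjk⟩ := ih b ha.of_cons hb hr
      refine ⟨j + 1, by simpa using hj, k, hk, ?_⟩
      rw [wp_eraseIdx_cons_succ, wp_cons, mul_assoc, hjk, mul_assoc]

end Cfsg.Agent.Lib.H12.CoxD
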