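import Mathlib
import Cfsg.Agent.Lib.H12.CoxDA

/-!
# Groups with the exchange condition, II: parabolic subgroups and minimal coset representatives
(helper12)
-/

set_option autoImplicit false

namespace Cfsg.Agent.Lib.H12.CoxD

open Cfsg.Agent.Lib.H2.CoxExch

variable {W : Type*} [Group W] {B : Type*} {σ : B → W}

/-- words with letters in `J` -/
def IsJWord (J : Set B) (ω : List B) : Prop := ∀ i ∈ ω, i ∈ J

theorem IsJWord.nil (J : Set B) : IsJWord J [] := by
  intro i hi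
  simp at hi

theorem IsJWord.sublist {J : Set B} {ω ω' : List B} (h : IsJWord J ω) (hs : ω'.Sublist ω) :
    IsJWord J ω' := fun i hi => h i (hs.subset hi)

theorem IsJWord.eraseIdx {J : Set B} {ω : List B} (h : IsJWord J ω) (j : ℕ) :
    IsJWord J (ω.eraseIdx j) := h.sublist (List.eraseIdx_sublist ω j)

theorem IsJWord.append {J : Set B} {ω ω' : List B} (h : IsJWord J ω) (h' : IsJWord J ω') :
    IsJWord J (ω ++ ω') := by
  intro i hi
  rcases List.mem_append.mp hi with hi | hi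
  · exact h i hi
  · exact h' i hi

theorem IsJWord.reverse {J : Set B} {ω : List B} (h : IsJWord J ω) : IsJWord J ω.reverse :=
  fun i hi => h i (List.mem_reverse.mp hi)

/-- the parabolic subgroup -/
def WJ (σ : B → W) (J : Set B) : Subgroup W := Subgroup.closure (σ '' J)

theorem wp_mem_WJ {J : Set B} {ω : List B} (h : IsJWord J ω) : wp σ ω ∈ WJ σ J := by
  apply Subgroup.list_prod_mem
  intro x hx
  rw [List.mem_map] at hx
  obtain ⟨i, hi, rfl⟩ := hx
  exact Subgroup.subset_closure ⟨i, h i hi, rfl⟩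

theorem simple_mem_WJ {J : Set B} {i : B} (hi : i ∈ J) : σ i ∈ WJ σ J :=
  Subgroup.subset_closure ⟨i, hi, rfl⟩

theorem exists_JWord (hσ : Exch σ) {J : Set B} {w : W} (hw : w ∈ WJ σ J) :
    ∃ ω, IsJWord J ω ∧ wp σ ω = w := by
  induction hw using Subgroup.closure_induction with
  | mem x hx =>
    obtain ⟨i, hi, rfl⟩ := hx
    exact ⟨[i], by intro j hj; simp at hj; exact hj ▸ hi, wp_singleton σ i⟩
  | one => exact ⟨[], IsJWord.nil J, rfl⟩
  | mul x y _ _ hx hy =>
    obtain ⟨a, ha, rfl⟩ := hx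
    obtain ⟨b, hb, rfl⟩ := hy
    exact ⟨a ++ b, ha.append hb, wp_append σ a b⟩
  | inv x _ hx =>
    obtain ⟨a, ha, rfl⟩ := hx
    exact ⟨a.reverse, ha.reverse, wp_reverse hσ a⟩

/-- elements of a parabolic subgroup have reduced words in the parabolic alphabet -/
theorem exists_red_JWord (hσ : Exch σ) {J : Set B} {w : W} (hw : w ∈ WJ σ J) :
    ∃ ω, IsJWord J ω ∧ Red σ ω ∧ wp σ ω = w := by
  classical
  have hne : {n | ∃ ω : List B, ω.length = n ∧ IsJWord J ω ∧ wp σ ω = w}.Nonempty := by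
    obtain ⟨ω, h1, h2⟩ := exists_JWord hσ hw
    exact ⟨ω.length, ω, rfl, h1, h2⟩
  obtain ⟨ω, h1, h2, h3⟩ := Nat.sInf_mem hne
  refine ⟨ω, h2, ?_, h3⟩
  by_contra hr
  obtain ⟨ω', hl, hw', hs⟩ := deletion hσ ω hr
  have : sInf {n | ∃ ω : List B, ω.length = n ∧ IsJWord J ω ∧ wp σ ω = w} ≤ ω'.length :=
    Nat.sInf_le ⟨ω', rfl, h2.sublist hs, hw'.trans h3⟩
  omega

/-- no right descents in `J` -/
def DR (σ : B → W) (J : Set B) : Set W := {w | ∀ i ∈ J, len σ w < len σ (w * σ i)}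

/-- no left descents in `J` -/
def DL (σ : B → W) (J : Set B) : Set W := {w | ∀ i ∈ J, len σ w < len σ (σ i * w)}

theorem mem_DR {J : Set B} {w : W} : w ∈ DR σ J ↔ ∀ i ∈ J, len σ w < len σ (w * σ i) := Iff.rfl

theorem mem_DL {J : Set B} {w : W} : w ∈ DL σ J ↔ ∀ i ∈ J, len σ w < len σ (σ i * w) := Iff.rfl

theorem inv_mem_DL_iff (hσ : Exch σ) (hsurj : Function.Surjective (wp σ)) {J : Set B} {w : W} :
    w⁻¹ ∈ DL σ J ↔ w ∈ DR σ J := by
  rw [mem_DL, mem_DR]
  apply forall₂_congr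
  intro i _
  have e : σ i * w⁻¹ = (w * σ i)⁻¹ := by rw [mul_inv_rev, hσ.inv]
  rw [e, len_inv hσ hsurj, len_inv hσ hsurj]

theorem len_mul_le (hsurj : Function.Surjective (wp σ)) (x y : W) :
    len σ (x * y) ≤ len σ x + len σ y := by
  obtain ⟨a, ha1, ha2⟩ := exists_word_len hsurj x
  obtain ⟨b, hb1, hb2⟩ := exists_word_len hsurj y
  rw [← ha2, ← hb2, ← List.length_append]
  apply len_le
  rw [wp_append, ha1, hb1]

/-- an element of minimal length in its coset multiplies length-additively -/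
theorem len_mul_of_min (hσ : Exch σ) (hsurj : Function.Surjective (wp σ)) {J : Set B} {d : W}
    (hd : ∀ u ∈ WJ σ J, len σ d ≤ len σ (d * u)) {u : W} (hu : u ∈ WJ σ J) :
    len σ (d * u) = len σ d + len σ u := by
  obtain ⟨a, har, ha1, ha2⟩ := exists_red_len hsurj d
  obtain ⟨b, hbJ, hbr, hb1⟩ := exists_red_JWord hσ hu
  have hb2 : b.length = len σ u := by rw [← hb1]; exact (red_iff.mp hbr).symm
  by_cases hr : Red σ (a ++ b)
  · rw [red_iff, wp_append, ha1, hb1, List.length_append, ha2, hb2] at hr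
    exact hr
  · exfalso
    obtain ⟨j, hj, k, hk, hjk⟩ := split_deletion hσ a b har hbr hr
    rw [ha1, hb1] at hjk
    have hmem : u * (wp σ (b.eraseIdx k))⁻¹ ∈ WJ σ J :=
      (WJ σ J).mul_mem hu ((WJ σ J).inv_mem (wp_mem_WJ (hbJ.eraseIdx k)))
    have h1 := hd _ hmem
    have h2 : d * (u * (wp σ (b.eraseIdx k))⁻¹) = wp σ (a.eraseIdx j) := by
      rw [← mul_assoc, hjk, mul_assoc, mul_inv_cancel, mul_one]
    rw [h2] at h1
    have h3 : len σ (wp σ (a.eraseIdx j)) ≤ (a.eraseIdx j).length := len_le rfl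
    rw [List.length_eraseIdx_of_lt hj] at h3
    omega

/-- every coset has an element of minimal length -/
theorem exists_min_coset (σ : B → W) (J : Set B) (w : W) :
    ∃ d : W, d⁻¹ * w ∈ WJ σ J ∧ ∀ u ∈ WJ σ J, len σ d ≤ len σ (d * u) := by
  classical
  have hne : {n | ∃ u ∈ WJ σ J, len σ (w * u) = n}.Nonempty :=
    ⟨len σ (w * 1), 1, (WJ σ J).one_mem, rfl⟩
  obtain ⟨u₀, hu₀, h₀⟩ := Nat.sInf_mem hne
  refine ⟨w * u₀, ?_, ?_⟩
  · rw [mul_inv_rev, inv_mul_cancel_right]
    exact (WJ σ J).inv_mem hu₀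
  · intro u hu
    rw [h₀, mul_assoc]
    exact Nat.sInf_le ⟨u₀ * u, (WJ σ J).mul_mem hu₀ hu, rfl⟩

theorem mem_DR_of_min (hσ : Exch σ) (hsurj : Function.Surjective (wp σ)) {J : Set B} {d : W}
    (hd : ∀ u ∈ WJ σ J, len σ d ≤ len σ (d * u)) : d ∈ DR σ J := by
  intro i hi
  have h1 := hd (σ i) (simple_mem_WJ hi)
  rcases len_mul_simple_cases hσ hsurj i d with h | h <;> omega

/-- elements without right descents in `J` are minimal in their cosets -/
theorem min_of_mem_DR (hσ : Exch σ) (hsurj : Function.Surjective (wp σ)) {J : Set B} {d : W}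
    (hd : d ∈ DR σ J) : ∀ u ∈ WJ σ J, len σ d ≤ len σ (d * u) := by
  obtain ⟨d₀, hd₀, hmin⟩ := exists_min_coset σ J d
  -- `d = d₀ * v` with `v` in the parabolic subgroup
  set v := d₀⁻¹ * d with hv
  have hdv : d = d₀ * v := by rw [hv, mul_inv_cancel_left]
  have hlen : len σ d = len σ d₀ + len σ v := by
    rw [hdv]
    exact len_mul_of_min hσ hsurj hmin hd₀
  have hv1 : v = 1 := by
    by_contra hne
    obtain ⟨b, hbJ, hbr, hb1⟩ := exists_red_JWord hσ hd₀
    have hb2 : b.length = len σ v := by rw [← hb1]; exact (red_iff.mp hbr).symm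
    have hbne : b ≠ [] := by
      intro h
      rw [h, wp_nil] at hb1
      exact hne hb1.symm
    obtain ⟨b', i, rfl⟩ : ∃ b' i, b = b' ++ [i] :=
      ⟨b.dropLast, b.getLast hbne, (List.dropLast_append_getLast hbne).symm⟩
    have hi : i ∈ J := hbJ i (by simp)
    have hb'J : IsJWord J b' := hbJ.sublist (List.sublist_append_left b' [i])
    have h1 := hd i hi
    have h2 : d * σ i = d₀ * wp σ b' := by
      rw [hdv, ← hb1, wp_append, wp_singleton, mul_assoc, mul_assoc, hσ.sq, mul_one]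
    rw [h2, len_mul_of_min hσ hsurj hmin (wp_mem_WJ hb'J)] at h1
    have h3 : len σ (wp σ b') ≤ b'.length := len_le rfl
    rw [List.length_append, List.length_singleton] at hb2
    omega
  intro u hu
  rw [hdv, hv1, mul_one]
  exact hmin u hu

theorem len_mul_of_mem_DR (hσ : Exch σ) (hsurj : Function.Surjective (wp σ)) {J : Set B} {d u : W}
    (hd : d ∈ DR σ J) (hu : u ∈ WJ σ J) : len σ (d * u) = len σ d + len σ u :=
  len_mul_of_min hσ hsurj (min_of_mem_DR hσ hsurj hd) hu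

/-- the factorisation of an element along a parabolic subgroup -/
theorem exists_DR_decomp (hσ : Exch σ) (hsurj : Function.Surjective (wp σ)) (J : Set B) (w : W) :
    ∃ d ∈ DR σ J, ∃ u ∈ WJ σ J, w = d * u ∧ len σ w = len σ d + len σ u := by
  obtain ⟨d, hd, hmin⟩ := exists_min_coset σ J w
  refine ⟨d, mem_DR_of_min hσ hsurj hmin, d⁻¹ * w, hd, by rw [mul_inv_cancel_left], ?_⟩
  have := len_mul_of_min hσ hsurj hmin hd
  rwa [mul_inv_cancel_left] at this

theorem DR_unique (hσ : Exch σ) (hsurj : Function.Surjective (wp σ)) {J : Set B} {d d' : W}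
    (hd : d ∈ DR σ J) (hd' : d' ∈ DR σ J) (h : d⁻¹ * d' ∈ WJ σ J) : d = d' := by
  have h1 := len_mul_of_mem_DR hσ hsurj hd h
  rw [mul_inv_cancel_left] at h1
  have h' : d'⁻¹ * d ∈ WJ σ J := by
    have := (WJ σ J).inv_mem h
    rwa [mul_inv_rev, inv_inv] at this
  have h2 := len_mul_of_mem_DR hσ hsurj hd' h'
  rw [mul_inv_cancel_left] at h2
  have h3 : len σ (d⁻¹ * d') = 0 := by omega
  rw [len_eq_zero hsurj] at h3
  exact (inv_mul_eq_one.mp h3)

end Cfsg.Agent.Lib.H12.CoxD
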