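import Mathlib
import Cfsg.Agent.Lib.H12.CoxDB

/-!
# Groups with the exchange condition, III: double cosets of parabolic subgroups (helper12)

Each double coset `W_J w W_K` contains exactly one element without left descents in `J` and
without right descents in `K`.
-/

set_option autoImplicit false

namespace Cfsg.Agent.Lib.H12.CoxD

open Cfsg.Agent.Lib.H2.CoxExch

variable {W : Type*} [Group W] {B : Type*} {σ : B → W}

/-- `d` has minimal length in its double coset -/
def DCMin (σ : B → W) (J K : Set B) (d : W) : Prop :=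
  ∀ a ∈ WJ σ J, ∀ b ∈ WJ σ K, len σ d ≤ len σ (a * d * b)

theorem exists_dcMin (σ : B → W) (J K : Set B) (w : W) :
    ∃ d : W, DCMin σ J K d ∧ ∃ a ∈ WJ σ J, ∃ b ∈ WJ σ K, w = a * d * b := by
  classical
  have hne : {n | ∃ a ∈ WJ σ J, ∃ b ∈ WJ σ K, len σ (a * w * b) = n}.Nonempty :=
    ⟨len σ (1 * w * 1), 1, (WJ σ J).one_mem, 1, (WJ σ K).one_mem, rfl⟩
  obtain ⟨a₀, ha₀, b₀, hb₀, h₀⟩ := Nat.sInf_mem hne
  refine ⟨a₀ * w * b₀, ?_, a₀⁻¹, (WJ σ J).inv_mem ha₀, b₀⁻¹, (WJ σ K).inv_mem hb₀, by group⟩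
  intro a ha b hb
  rw [h₀]
  apply Nat.sInf_le
  refine ⟨a * a₀, (WJ σ J).mul_mem ha ha₀, b₀ * b, (WJ σ K).mul_mem hb₀ hb, ?_⟩
  congr 1
  group

theorem DCMin.mem_DL (hσ : Exch σ) (hsurj : Function.Surjective (wp σ)) {J K : Set B} {d : W}
    (hd : DCMin σ J K d) : d ∈ DL σ J := by
  intro i hi
  have h1 := hd (σ i) (simple_mem_WJ hi) 1 (WJ σ K).one_mem
  rw [mul_one] at h1
  rcases len_simple_mul_cases hσ hsurj i d with h | h <;> omega

theorem DCMin.mem_DR (hσ : Exch σ) (hsurj : Function.Surjective (wp σ)) {J K : Set B} {d : W}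
    (hd : DCMin σ J K d) : d ∈ DR σ K := by
  intro i hi
  have h1 := hd 1 (WJ σ J).one_mem (σ i) (simple_mem_WJ hi)
  rw [one_mul] at h1
  rcases len_mul_simple_cases hσ hsurj i d with h | h <;> omega

/-- every element of the double coset of a minimal `d` is a length-additive product `a d b` -/
theorem DCMin.additive (hσ : Exch σ) (hsurj : Function.Surjective (wp σ)) {J K : Set B} {d : W}
    (hd : DCMin σ J K d) {w : W} (hw : ∃ a ∈ WJ σ J, ∃ b ∈ WJ σ K, w = a * d * b) :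
    ∃ a ∈ WJ σ J, ∃ b ∈ WJ σ K, w = a * d * b ∧ len σ w = len σ a + len σ d + len σ b := by
  classical
  have hne : {n | ∃ a ∈ WJ σ J, ∃ b ∈ WJ σ K, w = a * d * b ∧ len σ a + len σ b = n}.Nonempty := by
    obtain ⟨a, ha, b, hb, e⟩ := hw
    exact ⟨_, a, ha, b, hb, e, rfl⟩
  obtain ⟨a, ha, b, hb, e, hn⟩ := Nat.sInf_mem hne
  have hmin : ∀ a' ∈ WJ σ J, ∀ b' ∈ WJ σ K, w = a' * d * b' →
      len σ a + len σ b ≤ len σ a' + len σ b' := by
    intro a' ha' b' hb' e'
    rw [hn]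
    exact Nat.sInf_le ⟨a', ha', b', hb', e', rfl⟩
  refine ⟨a, ha, b, hb, e, ?_⟩
  obtain ⟨α, hαJ, hαr, hα1⟩ := exists_red_JWord hσ ha
  obtain ⟨β, hβK, hβr, hβ1⟩ := exists_red_JWord hσ hb
  obtain ⟨δ, hδr, hδ1, hδ2⟩ := exists_red_len hsurj d
  have hα2 : α.length = len σ a := by rw [← hα1]; exact (red_iff.mp hαr).symm
  have hβ2 : β.length = len σ b := by rw [← hβ1]; exact (red_iff.mp hβr).symm
  -- first `α ++ δ` is reduced
  have h1 : Red σ (α ++ δ) := by
    by_contra hr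
    obtain ⟨j, hj, k, hk, hjk⟩ := split_deletion hσ α δ hαr hδr hr
    rw [hα1, hδ1] at hjk
    -- `d' = wp (δ.eraseIdx k)` is shorter and in the double coset
    have hmem : (wp σ (α.eraseIdx j))⁻¹ * a ∈ WJ σ J :=
      (WJ σ J).mul_mem ((WJ σ J).inv_mem (wp_mem_WJ (hαJ.eraseIdx j))) ha
    have h2 := hd _ hmem 1 (WJ σ K).one_mem
    have h3 : (wp σ (α.eraseIdx j))⁻¹ * a * d * 1 = wp σ (δ.eraseIdx k) := by
      rw [mul_one, mul_assoc, hjk, inv_mul_cancel_left]
    rw [h3] at h2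
    have h4 : len σ (wp σ (δ.eraseIdx k)) ≤ (δ.eraseIdx k).length := len_le rfl
    rw [List.length_eraseIdx_of_lt hk] at h4
    omega
  -- then `(α ++ δ) ++ β` is reduced
  have h2 : Red σ ((α ++ δ) ++ β) := by
    by_contra hr
    obtain ⟨j, hj, k, hk, hjk⟩ := split_deletion hσ (α ++ δ) β h1 hβr hr
    rw [wp_append, hα1, hδ1, hβ1] at hjk
    have hbmem : wp σ (β.eraseIdx k) ∈ WJ σ K := wp_mem_WJ (hβK.eraseIdx k)
    by_cases hjα : j < α.length
    · rw [List.eraseIdx_append_of_lt_length hjα, wp_append, hδ1] at hjk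
      have hamem : wp σ (α.eraseIdx j) ∈ WJ σ J := wp_mem_WJ (hαJ.eraseIdx j)
      have h3 := hmin _ hamem _ hbmem (by rw [e, hjk])
      have h4 : len σ (wp σ (α.eraseIdx j)) ≤ (α.eraseIdx j).length := len_le rfl
      have h5 : len σ (wp σ (β.eraseIdx k)) ≤ (β.eraseIdx k).length := len_le rfl
      rw [List.length_eraseIdx_of_lt hjα] at h4
      rw [List.length_eraseIdx_of_lt hk] at h5
      omega
    · have hjα' : α.length ≤ j := Nat.le_of_not_lt hjα
      rw [List.eraseIdx_append_of_length_le hjα', wp_append, hα1] at hjk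
      rw [List.length_append] at hj
      have hk' : j - α.length < δ.length := by omega
      have hmem : (wp σ (β.eraseIdx k)) * b⁻¹ ∈ WJ σ K :=
        (WJ σ K).mul_mem hbmem ((WJ σ K).inv_mem hb)
      -- `wp (δ.eraseIdx _) = d * (b * b'⁻¹)` is in the double coset
      have hmem' : b * (wp σ (β.eraseIdx k))⁻¹ ∈ WJ σ K :=
        (WJ σ K).mul_mem hb ((WJ σ K).inv_mem hbmem)
      have h3 := hd 1 (WJ σ J).one_mem _ hmem'
      have h4 : 1 * d * (b * (wp σ (β.eraseIdx k))⁻¹) = wp σ (δ.eraseIdx (j - α.length)) := by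
        have : a * d * b = a * wp σ (δ.eraseIdx (j - α.length)) * wp σ (β.eraseIdx k) := hjk
        have h5 : d * b = wp σ (δ.eraseIdx (j - α.length)) * wp σ (β.eraseIdx k) := by
          have := congrArg (fun x => a⁻¹ * x) this
          simpa [mul_assoc] using this
        rw [one_mul, ← mul_assoc, h5, mul_assoc, mul_inv_cancel, mul_one]
      rw [h4] at h3
      have h6 : len σ (wp σ (δ.eraseIdx (j - α.length))) ≤ (δ.eraseIdx (j - α.length)).length :=
        len_le rfl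
      rw [List.length_eraseIdx_of_lt hk'] at h6
      omega
  rw [red_iff, wp_append, wp_append, hα1, hδ1, hβ1, List.length_append, List.length_append,
    hα2, hβ2, hδ2, ← e] at h2
  exact h2

/-- an element without left `J`-descents and right `K`-descents is the minimal element of its
double coset -/
theorem DCMin.eq_of_mem (hσ : Exch σ) (hsurj : Function.Surjective (wp σ)) {J K : Set B} {d : W}
    (hd : DCMin σ J K d) {x : W} (hxL : x ∈ DL σ J) (hxR : x ∈ DR σ K)
    (hx : ∃ a ∈ WJ σ J, ∃ b ∈ WJ σ K, x = a * d * b) : x = d := by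
  obtain ⟨a, ha, b, hb, e, hlen⟩ := hd.additive hσ hsurj hx
  have ha1 : a = 1 := by
    by_contra hne
    obtain ⟨α, hαJ, hαr, hα1⟩ := exists_red_JWord hσ ha
    have hα2 : α.length = len σ a := by rw [← hα1]; exact (red_iff.mp hαr).symm
    cases α with
    | nil => exact hne (by rw [← hα1, wp_nil])
    | cons i α' =>
      have hi : i ∈ J := hαJ i (by simp)
      have h1 := hxL i hi
      have h2 : σ i * x = wp σ α' * d * b := by
        rw [e, ← hα1, wp_cons, ← mul_assoc, ← mul_assoc, ← mul_assoc, hσ.sq, one_mul]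
      have h3 : len σ (σ i * x) ≤ len σ (wp σ α') + len σ d + len σ b := by
        rw [h2]
        exact (len_mul_le hsurj _ _).trans (Nat.add_le_add_right (len_mul_le hsurj _ _) _)
      have h4 : len σ (wp σ α') ≤ α'.length := len_le rfl
      rw [List.length_cons] at hα2
      omega
  have hb1 : b = 1 := by
    by_contra hne
    obtain ⟨β, hβK, hβr, hβ1⟩ := exists_red_JWord hσ hb
    have hβ2 : β.length = len σ b := by rw [← hβ1]; exact (red_iff.mp hβr).symm
    have hβne : β ≠ [] := by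
      intro h
      rw [h, wp_nil] at hβ1
      exact hne hβ1.symm
    obtain ⟨β', i, rfl⟩ : ∃ β' i, β = β' ++ [i] :=
      ⟨β.dropLast, β.getLast hβne, (List.dropLast_append_getLast hβne).symm⟩
    have hi : i ∈ K := hβK i (by simp)
    have h1 := hxR i hi
    have h2 : x * σ i = a * d * wp σ β' := by
      rw [e, ← hβ1, wp_append, wp_singleton, mul_assoc, mul_assoc (wp σ β'), hσ.sq, mul_one]
    have h3 : len σ (x * σ i) ≤ len σ a + len σ d + len σ (wp σ β') := by
      rw [h2]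
      exact (len_mul_le hsurj _ _).trans (Nat.add_le_add_right (len_mul_le hsurj _ _) _)
    have h4 : len σ (wp σ β') ≤ β'.length := len_le rfl
    rw [List.length_append, List.length_singleton] at hβ2
    omega
  rw [e, ha1, hb1, one_mul, mul_one]

/-- existence of the distinguished double coset representative -/
theorem exists_dc_rep (hσ : Exch σ) (hsurj : Function.Surjective (wp σ)) (J K : Set B) (w : W) :
    ∃ x, x ∈ DL σ J ∧ x ∈ DR σ K ∧ ∃ a ∈ WJ σ J, ∃ b ∈ WJ σ K, w = a * x * b := by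
  obtain ⟨d, hd, h⟩ := exists_dcMin σ J K w
  exact ⟨d, hd.mem_DL hσ hsurj, hd.mem_DR hσ hsurj, h⟩

/-- uniqueness of the distinguished double coset representative -/
theorem dc_rep_unique (hσ : Exch σ) (hsurj : Function.Surjective (wp σ)) {J K : Set B} {x y : W}
    (hxL : x ∈ DL σ J) (hxR : x ∈ DR σ K) (hyL : y ∈ DL σ J) (hyR : y ∈ DR σ K)
    (h : ∃ a ∈ WJ σ J, ∃ b ∈ WJ σ K, y = a * x * b) : x = y := by
  obtain ⟨d, hd, a₀, ha₀, b₀, hb₀, e₀⟩ := exists_dcMin σ J K x
  have hx : x = d := hd.eq_of_mem hσ hsurj hxL hxR ⟨a₀, ha₀, b₀, hb₀, e₀⟩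
  obtain ⟨a, ha, b, hb, e⟩ := h
  have hy : y = d := by
    apply hd.eq_of_mem hσ hsurj hyL hyR
    refine ⟨a * a₀, (WJ σ J).mul_mem ha ha₀, b₀ * b, (WJ σ K).mul_mem hb₀ hb, ?_⟩
    rw [e, e₀]
    group
  rw [hx, hy]

/-- the double cosets of two parabolic subgroups are counted by the distinguished
representatives -/
theorem card_dc (hσ : Exch σ) (hsurj : Function.Surjective (wp σ)) (J K : Set B) :
    Nat.card (DoubleCoset.Quotient (WJ σ J : Set W) (WJ σ K)) =
      Nat.card {x : W // x ∈ DL σ J ∧ x ∈ DR σ K} := by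
  symm
  apply Nat.card_eq_of_bijective (fun x => DoubleCoset.mk (WJ σ J) (WJ σ K) x.1)
  constructor
  · intro x y hxy
    have h := (DoubleCoset.eq (WJ σ J) (WJ σ K) x.1 y.1).mp hxy
    obtain ⟨a, ha, b, hb, e⟩ := h
    apply Subtype.ext
    exact dc_rep_unique hσ hsurj x.2.1 x.2.2 y.2.1 y.2.2 ⟨a, ha, b, hb, e⟩
  · intro q
    obtain ⟨w, rfl⟩ := Quotient.exists_rep q
    change ∃ a : {x : W // x ∈ DL σ J ∧ x ∈ DR σ K},
      DoubleCoset.mk (WJ σ J) (WJ σ K) a.1 = DoubleCoset.mk (WJ σ J) (WJ σ K) w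
    obtain ⟨x, hxL, hxR, a, ha, b, hb, e⟩ := exists_dc_rep hσ hsurj J K w
    refine ⟨⟨x, hxL, hxR⟩, ?_⟩
    symm
    rw [DoubleCoset.eq]
    exact ⟨a⁻¹, (WJ σ J).inv_mem ha, b⁻¹, (WJ σ K).inv_mem hb, by rw [e]; group⟩

end Cfsg.Agent.Lib.H12.CoxD
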