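import Mathlib
import Cfsg.Agent.Lib.H12.CoxDC

/-!
# Groups with the exchange condition, IV: the longest element (helper12)

In a finite group with the exchange condition there is exactly one element all of whose right
multiples by generators are shorter; it is the element of maximal length, and the same holds on
the left.  We also record the alternating-sum identity used for Steinberg characters.
-/

set_option autoImplicit false

namespace Cfsg.Agent.Lib.H12.CoxD

open Cfsg.Agent.Lib.H2.CoxExch

variable {W : Type*} [Group W] {B : Type*} {σ : B → W}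

theorem red_singleton (hσ : Exch σ) (hsurj : Function.Surjective (wp σ)) (i : B) :
    Red σ [i] := by
  rw [red_iff, wp_singleton, len_simple hσ hsurj, List.length_singleton]

/-- the exchange condition on the right -/
theorem exch_right (hσ : Exch σ) (hsurj : Function.Surjective (wp σ)) {ω : List B} {i : B}
    (hr : Red σ ω) (hnr : ¬ Red σ (ω ++ [i])) :
    ∃ j < ω.length, wp σ ω * σ i = wp σ (ω.eraseIdx j) := by
  obtain ⟨j, hj, k, hk, e⟩ := split_deletion hσ ω [i] hr (red_singleton hσ hsurj i) hnr
  refine ⟨j, hj, ?_⟩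
  rw [List.length_singleton, Nat.lt_one_iff] at hk
  subst hk
  rw [wp_singleton] at e
  rw [e]
  simp

/-- all right multiples by generators are shorter -/
def Full (σ : B → W) (x : W) : Prop := ∀ i, len σ (x * σ i) < len σ x

/-- all left multiples by generators are shorter -/
def FullL (σ : B → W) (x : W) : Prop := ∀ i, len σ (σ i * x) < len σ x

/-- every element is a length-additive right factor of a full element -/
theorem Full.len_eq (hσ : Exch σ) (hsurj : Function.Surjective (wp σ)) {x : W} (hx : Full σ x) :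
    ∀ (n : ℕ) (w : W), len σ w = n → len σ x = len σ (x * w⁻¹) + len σ w := by
  intro n
  induction n with
  | zero =>
    intro w hw
    rw [len_eq_zero hsurj] at hw
    subst hw
    simp [len_one]
  | succ n ih =>
    intro w hw
    -- `w = w' * σ i` with `w'` shorter
    obtain ⟨τ, hτr, hτ1, hτ2⟩ := exists_red_len hsurj w
    have hτne : τ ≠ [] := by
      intro h
      rw [h, List.length_nil] at hτ2
      omega
    obtain ⟨τ', i, rfl⟩ : ∃ τ' i, τ = τ' ++ [i] :=
      ⟨τ.dropLast, τ.getLast hτne, (List.dropLast_append_getLast hτne).symm⟩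
    have hτ'r : Red σ τ' := hτr.of_append_left
    have hτ'len := red_iff.mp hτ'r
    obtain ⟨w', hw'⟩ : ∃ w', w' = wp σ τ' := ⟨_, rfl⟩
    rw [← hw'] at hτ'len
    have hw'len : len σ w' = n := by
      rw [List.length_append, List.length_singleton] at hτ2
      omega
    have hww' : w = w' * σ i := by rw [← hτ1, wp_append, wp_singleton, hw']
    have h1 := ih w' hw'len
    obtain ⟨u, hu⟩ : ∃ u, u = x * w'⁻¹ := ⟨_, rfl⟩
    rw [← hu] at h1
    have hxu : x = u * w' := by rw [hu, inv_mul_cancel_right]
    obtain ⟨υ, hυr, hυ1, hυ2⟩ := exists_red_len hsurj u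
    have hred : Red σ (υ ++ τ') := by
      rw [red_iff, wp_append, hυ1, ← hw', ← hxu, List.length_append, hυ2, h1, hτ'len]
    have hnred : ¬ Red σ ((υ ++ τ') ++ [i]) := by
      intro h
      rw [red_iff, wp_append, wp_append, hυ1, ← hw', ← hxu, wp_singleton, List.length_append,
        List.length_append, hυ2, List.length_singleton] at h
      have h2 := hx i
      omega
    obtain ⟨j, hj, e⟩ := exch_right hσ hsurj hred hnred
    rw [wp_append, hυ1, ← hw', ← hxu] at e
    have hle : len σ x ≤ len σ (x * w⁻¹) + len σ w := by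
      have := len_mul_le hsurj (x * w⁻¹) w
      rwa [inv_mul_cancel_right] at this
    by_cases hjυ : j < υ.length
    · rw [List.eraseIdx_append_of_lt_length hjυ, wp_append, ← hw'] at e
      -- `x w⁻¹ = wp (υ.eraseIdx j)`
      have h2 : x * w⁻¹ = wp σ (υ.eraseIdx j) := by
        rw [hww', mul_inv_rev, hσ.inv, ← mul_assoc, e, mul_inv_cancel_right]
      have h3 : len σ (x * w⁻¹) ≤ (υ.eraseIdx j).length := by rw [h2]; exact len_le rfl
      rw [List.length_eraseIdx_of_lt hjυ] at h3
      omega
    · exfalso
      have hjυ' : υ.length ≤ j := Nat.le_of_not_lt hjυ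
      rw [List.eraseIdx_append_of_length_le hjυ', wp_append, hυ1] at e
      rw [List.length_append] at hj
      have hk : j - υ.length < τ'.length := by omega
      have h2 : w = wp σ (τ'.eraseIdx (j - υ.length)) := by
        rw [hww']
        have := congrArg (fun y => u⁻¹ * y) e
        rw [hxu] at this
        simpa [mul_assoc] using this
      have h3 : len σ w ≤ (τ'.eraseIdx (j - υ.length)).length := by
        rw [h2]; exact len_le rfl
      rw [List.length_eraseIdx_of_lt hk] at h3
      omega

theorem Full.len_eq' (hσ : Exch σ) (hsurj : Function.Surjective (wp σ)) {x : W} (hx : Full σ x)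
    (w : W) : len σ x = len σ (x * w⁻¹) + len σ w :=
  hx.len_eq hσ hsurj _ w rfl

theorem Full.len_le (hσ : Exch σ) (hsurj : Function.Surjective (wp σ)) {x : W} (hx : Full σ x)
    (w : W) : len σ w ≤ len σ x := by
  have := hx.len_eq' hσ hsurj w
  omega

theorem Full.unique (hσ : Exch σ) (hsurj : Function.Surjective (wp σ)) {x y : W} (hx : Full σ x)
    (hy : Full σ y) : x = y := by
  have h1 := hx.len_eq' hσ hsurj y
  have h2 := hy.len_le hσ hsurj x
  have h3 : len σ (x * y⁻¹) = 0 := by omega
  rw [len_eq_zero hsurj] at h3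
  exact mul_inv_eq_one.mp h3

/-- an element of maximal length is full on both sides -/
theorem full_of_max (hσ : Exch σ) (hsurj : Function.Surjective (wp σ)) {x : W}
    (hx : ∀ w, len σ w ≤ len σ x) : Full σ x ∧ FullL σ x := by
  constructor
  · intro i
    have := hx (x * σ i)
    rcases len_mul_simple_cases hσ hsurj i x with h | h <;> omega
  · intro i
    have := hx (σ i * x)
    rcases len_simple_mul_cases hσ hsurj i x with h | h <;> omega

theorem exists_max [Finite W] (σ : B → W) : ∃ x : W, ∀ w, len σ w ≤ len σ x := by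
  obtain ⟨x, hx⟩ := Finite.exists_max (len σ)
  exact ⟨x, hx⟩

theorem exists_full [Finite W] (hσ : Exch σ) (hsurj : Function.Surjective (wp σ)) :
    ∃ x : W, Full σ x ∧ FullL σ x := by
  obtain ⟨x, hx⟩ := exists_max σ
  exact ⟨x, full_of_max hσ hsurj hx⟩

theorem fullL_iff_inv (hσ : Exch σ) (hsurj : Function.Surjective (wp σ)) {x : W} :
    FullL σ x ↔ Full σ x⁻¹ := by
  unfold FullL Full
  apply forall_congr'
  intro i
  have e : x⁻¹ * σ i = (σ i * x)⁻¹ := by rw [mul_inv_rev, hσ.inv]
  rw [e, len_inv hσ hsurj, len_inv hσ hsurj]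

theorem Full.fullL [Finite W] (hσ : Exch σ) (hsurj : Function.Surjective (wp σ)) {x : W}
    (hx : Full σ x) : FullL σ x := by
  obtain ⟨y, hy, hyL⟩ := exists_full hσ hsurj
  rw [hx.unique hσ hsurj hy]
  exact hyL

theorem FullL.full [Finite W] (hσ : Exch σ) (hsurj : Function.Surjective (wp σ)) {x : W}
    (hx : FullL σ x) : Full σ x := by
  obtain ⟨y, hy, hyL⟩ := exists_full hσ hsurj
  have h1 : Full σ x⁻¹ := (fullL_iff_inv hσ hsurj).mp hx
  have h2 : Full σ y⁻¹ := (fullL_iff_inv hσ hsurj).mp hyL
  have h3 : x⁻¹ = y⁻¹ := h1.unique hσ hsurj h2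
  rw [inv_inj] at h3
  rw [h3]
  exact hy

/-- exactly one element is full -/
theorem existsUnique_full [Finite W] (hσ : Exch σ) (hsurj : Function.Surjective (wp σ)) :
    ∃! x : W, Full σ x := by
  obtain ⟨x, hx, -⟩ := exists_full hσ hsurj
  exact ⟨x, hx, fun y hy => hy.unique hσ hsurj hx⟩

/-- the alternating-sum identity -/
theorem alt_sum {ι X R : Type*} [CommRing R] [Fintype X] [DecidableEq ι] (s : Finset ι)
    (A : X → Finset ι) (f : X → R) :
    ∑ J ∈ s.powerset, (-1 : R) ^ J.card * ∑ w with J ⊆ A w, f w =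
      ∑ w with s ∩ A w = ∅, f w := by
  classical
  have h1 : ∀ J ∈ s.powerset, (-1 : R) ^ J.card * ∑ w with J ⊆ A w, f w =
      ∑ w, (if J ⊆ A w then (-1 : R) ^ J.card * f w else 0) := by
    intro J _
    rw [Finset.mul_sum, Finset.sum_filter]
  rw [Finset.sum_congr rfl h1, Finset.sum_comm, Finset.sum_filter]
  apply Finset.sum_congr rfl
  intro w _
  have h2 : ∑ J ∈ s.powerset, (if J ⊆ A w then (-1 : R) ^ J.card * f w else 0) =
      (∑ J ∈ (s ∩ A w).powerset, (-1 : R) ^ J.card) * f w := by
    rw [Finset.sum_mul, ← Finset.sum_filter]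
    apply Finset.sum_congr
    · ext J
      simp only [Finset.mem_filter, Finset.mem_powerset, Finset.subset_inter_iff]
    · intro _ _; rfl
  rw [h2]
  have h3 : ∑ J ∈ (s ∩ A w).powerset, (-1 : R) ^ J.card =
      ((∑ J ∈ (s ∩ A w).powerset, (-1 : ℤ) ^ J.card : ℤ) : R) := by
    push_cast
    rfl
  rw [h3, Finset.sum_powerset_neg_one_pow_card]
  split_ifs <;> simp

end Cfsg.Agent.Lib.H12.CoxD
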