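import Mathlib
import Cfsg.Agent.S0320
import Cfsg.Agent.Lib.H12.CoxDD

/-!
# (B,N)-pairs: the Weyl group as a group with the exchange condition, double cosets of
parabolic subgroups (helper12)
-/

set_option autoImplicit false
set_option linter.unusedSectionVars false

namespace Cfsg.Agent.Lib.H12.BNSt

open Cfsg.Agent.Lib.H2 Cfsg.Agent.Lib.H2.CoxExch Cfsg.Agent Cfsg.Agent.Lib.H12

variable {G : Type*} [Group G] (P : Cfsg.BNPair G)

instance normalT : ((P.B ⊓ P.N).subgroupOf P.N).Normal := by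
  constructor
  intro t ht n
  rw [Subgroup.mem_subgroupOf] at ht ⊢
  simp only [Subgroup.coe_mul, Subgroup.coe_inv]
  exact ⟨BN.T_conj n.2 ht.1 ht.2, P.N.mul_mem (P.N.mul_mem n.2 ht.2) (P.N.inv_mem n.2)⟩

/-- the Weyl group -/
abbrev Wg : Type _ := P.N ⧸ (P.B ⊓ P.N).subgroupOf P.N

/-- the class of an element of `N` -/
def mkW (n : G) (hn : n ∈ P.N) : Wg P := QuotientGroup.mk (⟨n, hn⟩ : P.N)

theorem mkW_mul (n m : G) (hn : n ∈ P.N) (hm : m ∈ P.N) :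
    mkW P (n * m) (P.N.mul_mem hn hm) = mkW P n hn * mkW P m hm := rfl

theorem mkW_eq_iff (n m : G) (hn : n ∈ P.N) (hm : m ∈ P.N) :
    mkW P n hn = mkW P m hm ↔ BN.Eqv P n m :=
  S0320.mk_eq_iff P ⟨n, hn⟩ ⟨m, hm⟩

theorem exists_mkW (w : Wg P) : ∃ n, ∃ hn : n ∈ P.N, mkW P n hn = w := by
  induction w using QuotientGroup.induction_on with
  | H n => exact ⟨n.1, n.2, rfl⟩

theorem sg_exch : Exch (S0320.sg P) := S0320.exch_sg P

theorem sg_surj : Function.Surjective (wp (S0320.sg P)) :=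
  wp_surjective (S0320.exch_sg P) (S0320.closure_sg P)

theorem sg_eq (s : P.S) : S0320.sg P s = mkW P (s : G) (P.subset s.2) := rfl

/-- the two notions of length agree -/
theorem len_mkW (n : G) (hn : n ∈ P.N) :
    CoxD.len (S0320.sg P) (mkW P n hn) = BN.len P n := by
  obtain ⟨ω, hr, h1, h2⟩ := CoxD.exists_red_len (sg_surj P) (mkW P n hn)
  rw [← h2, ← S0320.len_of_red P hr]
  apply BN.len_congr
  rw [S0320.wp_sg] at h1
  exact (mkW_eq_iff P _ _ _ _).mp h1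

/-- the subset of the index type cut out by a set of generators -/
def JS (J : Set G) : Set P.S := {s | (s : G) ∈ J}

theorem isWord_lw_of_JWord {J : Set G} {ω : List P.S} (h : CoxD.IsJWord (JS P J) ω) :
    BN.IsWord J (S0320.lw P ω) := by
  intro x hx
  simp only [S0320.lw, List.mem_map] at hx
  obtain ⟨s, hs, rfl⟩ := hx
  exact h s hs

theorem mkW_mem_WJ_iff {J : Set G} (hJ : J ⊆ P.S) (n : G) (hn : n ∈ P.N) :
    mkW P n hn ∈ CoxD.WJ (S0320.sg P) (JS P J) ↔ ∃ a ∈ Subgroup.closure J, BN.Eqv P a n := by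
  constructor
  · intro h
    obtain ⟨ω, hωJ, hω⟩ := CoxD.exists_JWord (sg_exch P) h
    refine ⟨(S0320.lw P ω).prod, (isWord_lw_of_JWord P hωJ).prod_mem_closure, ?_⟩
    rw [S0320.wp_sg] at hω
    exact (mkW_eq_iff P _ _ _ _).mp hω
  · rintro ⟨a, ha, hane⟩
    obtain ⟨l, hl, hla⟩ := BN.exists_word_of_mem_closure' hJ ha
    obtain ⟨ω, rfl⟩ := S0320.exists_lift P (hl.mono hJ)
    have hωJ : CoxD.IsJWord (JS P J) ω := by
      intro s hs
      apply hl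
      simp only [S0320.lw, List.mem_map]
      exact ⟨s, hs, rfl⟩
    have h1 : wp (S0320.sg P) ω = mkW P n hn := by
      rw [S0320.wp_sg]
      exact (mkW_eq_iff P _ _ _ _).mpr (hla.trans hane)
    rw [← h1]
    exact CoxD.wp_mem_WJ hωJ

/-! ### products of double cosets -/

theorem word_mul_mem_C {J : Set G} (hJ : J ⊆ P.S) : ∀ l : List G, BN.IsWord J l →
    ∀ n ∈ P.N, ∀ g ∈ BN.C P n, ∃ a ∈ Subgroup.closure J, l.prod * g ∈ BN.C P (a * n) := by
  intro l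
  induction l with
  | nil =>
    intro _ n _ g hg
    exact ⟨1, Subgroup.one_mem _, by simpa using hg⟩
  | cons s l ih =>
    intro hl n hn g hg
    obtain ⟨hs, hl'⟩ := hl.of_cons
    obtain ⟨a, ha, h1⟩ := ih hl' n hn g hg
    have han : a * n ∈ P.N := P.N.mul_mem (BN.closure_le_N hJ ha) hn
    rw [List.prod_cons, mul_assoc]
    rcases BN.smul_mem_C (hJ hs) han h1 with h2 | h2
    · refine ⟨s * a, Subgroup.mul_mem _ (Subgroup.subset_closure hs) ha, ?_⟩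
      rwa [mul_assoc]
    · exact ⟨a, ha, h2⟩

theorem par_mul_mem_C {J : Set G} (hJ : J ⊆ P.S) {p n g : G} (hp : p ∈ P.parabolic J)
    (hn : n ∈ P.N) (hg : g ∈ BN.C P n) :
    ∃ a ∈ Subgroup.closure J, p * g ∈ BN.C P (a * n) := by
  obtain ⟨a₀, ha₀, hpa⟩ := (BN.mem_parabolic_iff hJ p).mp hp
  obtain ⟨b₁, hb₁, b₂, hb₂, rfl⟩ := BN.mem_C_iff.mp hpa
  obtain ⟨l, hl, hla⟩ := BN.exists_word_of_mem_closure' hJ ha₀
  -- `a₀ = l.prod * b₃`
  have hg' : (l.prod⁻¹ * a₀) * b₂ * g ∈ BN.C P n := by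
    rw [mul_assoc]
    exact BN.mul_left_mem_C hla (BN.mul_left_mem_C hb₂ hg)
  obtain ⟨a, ha, h1⟩ := word_mul_mem_C P hJ l hl n hn _ hg'
  refine ⟨a, ha, ?_⟩
  have e : b₁ * a₀ * b₂ * g = b₁ * (l.prod * ((l.prod⁻¹ * a₀) * b₂ * g)) := by group
  rw [e]
  exact BN.mul_left_mem_C hb₁ h1

theorem mul_par_mem_C {K : Set G} (hK : K ⊆ P.S) {q n g : G} (hq : q ∈ P.parabolic K)
    (hn : n ∈ P.N) (hg : g ∈ BN.C P n) :
    ∃ b ∈ Subgroup.closure K, g * q ∈ BN.C P (n * b) := by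
  have h1 : g⁻¹ ∈ BN.C P n⁻¹ := BN.inv_mem_C hg
  obtain ⟨b, hb, h2⟩ := par_mul_mem_C P hK ((P.parabolic K).inv_mem hq) (P.N.inv_mem hn) h1
  refine ⟨b⁻¹, Subgroup.inv_mem _ hb, ?_⟩
  have h3 := BN.inv_mem_C h2
  have e1 : (q⁻¹ * g⁻¹)⁻¹ = g * q := by group
  have e2 : (b * n⁻¹)⁻¹ = n * b⁻¹ := by group
  rwa [e1, e2] at h3

theorem par_mul_par_mem_C {J K : Set G} (hJ : J ⊆ P.S) (hK : K ⊆ P.S) {p q n : G}
    (hp : p ∈ P.parabolic J) (hq : q ∈ P.parabolic K) (hn : n ∈ P.N) :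
    ∃ a ∈ Subgroup.closure J, ∃ b ∈ Subgroup.closure K, p * n * q ∈ BN.C P (a * n * b) := by
  obtain ⟨b, hb, h1⟩ := mul_par_mem_C P hK hq hn (BN.mem_C_self n)
  have hnb : n * b ∈ P.N := P.N.mul_mem hn (BN.closure_le_N hK hb)
  obtain ⟨a, ha, h2⟩ := par_mul_mem_C P hJ hp hnb h1
  refine ⟨a, ha, b, hb, ?_⟩
  rw [mul_assoc p, mul_assoc a]
  exact h2

theorem B_le_parabolic (J : Set G) : P.B ≤ P.parabolic J := le_sup_left

theorem closure_le_parabolic (J : Set G) : Subgroup.closure J ≤ P.parabolic J := le_sup_right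

/-! ### double cosets of parabolic subgroups -/

/-- a lift of an element of the Weyl group -/
noncomputable def lift (w : Wg P) : G := (exists_mkW P w).choose

theorem lift_mem (w : Wg P) : lift P w ∈ P.N := (exists_mkW P w).choose_spec.choose

theorem mkW_lift (w : Wg P) : mkW P (lift P w) (lift_mem P w) = w :=
  (exists_mkW P w).choose_spec.choose_spec

theorem dc_injective {J K : Set G} (hJ : J ⊆ P.S) (hK : K ⊆ P.S) {x y : Wg P}
    (hxL : x ∈ CoxD.DL (S0320.sg P) (JS P J)) (hxR : x ∈ CoxD.DR (S0320.sg P) (JS P K))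
    (hyL : y ∈ CoxD.DL (S0320.sg P) (JS P J)) (hyR : y ∈ CoxD.DR (S0320.sg P) (JS P K))
    (h : ∃ p ∈ P.parabolic J, ∃ q ∈ P.parabolic K, lift P y = p * lift P x * q) : x = y := by
  obtain ⟨p, hp, q, hq, e⟩ := h
  obtain ⟨a, ha, b, hb, h1⟩ := par_mul_par_mem_C P hJ hK hp hq (lift_mem P x)
  rw [← e] at h1
  have haN := BN.closure_le_N hJ ha
  have hbN := BN.closure_le_N hK hb
  have hN : a * lift P x * b ∈ P.N := P.N.mul_mem (P.N.mul_mem haN (lift_mem P x)) hbN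
  have h2 := BN.eqv_of_mem_C hN (lift_mem P y) h1
  have h3 := (mkW_eq_iff P _ _ hN (lift_mem P y)).mpr h2
  rw [mkW_lift, mkW_mul P _ _ (P.N.mul_mem haN (lift_mem P x)) hbN,
    mkW_mul P _ _ haN (lift_mem P x), mkW_lift] at h3
  apply CoxD.dc_rep_unique (sg_exch P) (sg_surj P) hxL hxR hyL hyR
  refine ⟨mkW P a haN, (mkW_mem_WJ_iff P hJ a haN).mpr ⟨a, ha, BN.Eqv.refl a⟩,
    mkW P b hbN, (mkW_mem_WJ_iff P hK b hbN).mpr ⟨b, hb, BN.Eqv.refl b⟩, h3.symm⟩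

theorem dc_surjective {J K : Set G} (hJ : J ⊆ P.S) (hK : K ⊆ P.S) (g : G) :
    ∃ x : Wg P, x ∈ CoxD.DL (S0320.sg P) (JS P J) ∧ x ∈ CoxD.DR (S0320.sg P) (JS P K) ∧
      ∃ p ∈ P.parabolic J, ∃ q ∈ P.parabolic K, g = p * lift P x * q := by
  obtain ⟨n, hn, hg⟩ := BN.bruhat (P := P) g
  obtain ⟨b₁, hb₁, b₂, hb₂, rfl⟩ := BN.mem_C_iff.mp hg
  obtain ⟨x, hxL, hxR, α, hα, β, hβ, e⟩ :=
    CoxD.exists_dc_rep (sg_exch P) (sg_surj P) (JS P J) (JS P K) (mkW P n hn)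
  refine ⟨x, hxL, hxR, ?_⟩
  obtain ⟨a₀, ha₀N, rfl⟩ := exists_mkW P α
  obtain ⟨b₀, hb₀N, rfl⟩ := exists_mkW P β
  obtain ⟨a, ha, haa⟩ := (mkW_mem_WJ_iff P hJ a₀ ha₀N).mp hα
  obtain ⟨b, hb, hbb⟩ := (mkW_mem_WJ_iff P hK b₀ hb₀N).mp hβ
  have haN := BN.closure_le_N hJ ha
  have hbN := BN.closure_le_N hK hb
  have e1 : mkW P a₀ ha₀N = mkW P a haN := (mkW_eq_iff P _ _ _ _).mpr haa.symm
  have e2 : mkW P b₀ hb₀N = mkW P b hbN := (mkW_eq_iff P _ _ _ _).mpr hbb.symm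
  have hN : a * lift P x * b ∈ P.N := P.N.mul_mem (P.N.mul_mem haN (lift_mem P x)) hbN
  have h3 : mkW P n hn = mkW P (a * lift P x * b) hN := by
    rw [mkW_mul P _ _ (P.N.mul_mem haN (lift_mem P x)) hbN, mkW_mul P _ _ haN (lift_mem P x),
      mkW_lift, e, e1, e2]
  have h4 : BN.Eqv P (a * lift P x * b) n := ((mkW_eq_iff P _ _ _ _).mp h3).symm
  -- `n = a * lift x * b * t` with `t ∈ B`
  refine ⟨b₁ * a, (P.parabolic J).mul_mem (B_le_parabolic P J hb₁) (closure_le_parabolic P J ha),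
    b * ((a * lift P x * b)⁻¹ * n) * b₂, ?_, by group⟩
  exact (P.parabolic K).mul_mem ((P.parabolic K).mul_mem (closure_le_parabolic P K hb)
    (B_le_parabolic P K h4)) (B_le_parabolic P K hb₂)

/-- the number of double cosets of two standard parabolic subgroups -/
theorem card_dc {J K : Set G} (hJ : J ⊆ P.S) (hK : K ⊆ P.S) :
    Nat.card (DoubleCoset.Quotient (P.parabolic J : Set G) (P.parabolic K)) =
      Nat.card {x : Wg P // x ∈ CoxD.DL (S0320.sg P) (JS P J) ∧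
        x ∈ CoxD.DR (S0320.sg P) (JS P K)} := by
  symm
  apply Nat.card_eq_of_bijective
    (fun x => DoubleCoset.mk (P.parabolic J) (P.parabolic K) (lift P x.1))
  constructor
  · intro x y hxy
    have h := (DoubleCoset.eq (P.parabolic J) (P.parabolic K) _ _).mp hxy
    apply Subtype.ext
    exact dc_injective P hJ hK x.2.1 x.2.2 y.2.1 y.2.2 h
  · intro q
    obtain ⟨g, rfl⟩ := Quotient.exists_rep q
    obtain ⟨x, hxL, hxR, p, hp, q, hq, e⟩ := dc_surjective P hJ hK g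
    refine ⟨⟨x, hxL, hxR⟩, ?_⟩
    change DoubleCoset.mk (P.parabolic J) (P.parabolic K) (lift P x) =
      DoubleCoset.mk (P.parabolic J) (P.parabolic K) g
    rw [DoubleCoset.eq]
    exact ⟨p, hp, q, hq, e⟩

end Cfsg.Agent.Lib.H12.BNSt
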