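import Mathlib

set_option autoImplicit false
set_option linter.unusedSectionVars false

open Matrix

namespace Cfsg.Agent.Lib.H12.Parab

variable {F : Type*} [Field F]
variable {n : ℕ} {α : Type*} [Fintype α] [LinearOrder α]

/-- invertible block-triangular matrices -/
abbrev BTU (F : Type*) [Field F] {n : ℕ} {α : Type*} [LinearOrder α] (b : Fin n → α) : Type _ :=
  {M : Matrix (Fin n) (Fin n) F // M.BlockTriangular b ∧ M.det ≠ 0}

/-- reconstruct a block-triangular matrix from its diagonal blocks and its upper entries -/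
def mkBT (b : Fin n → α)
    (D : ∀ a : α, Matrix {i // b i = a} {i // b i = a} F)
    (U : {p : Fin n × Fin n // b p.1 < b p.2} → F) : Matrix (Fin n) (Fin n) F :=
  Matrix.of fun i j =>
    if h : b i = b j then D (b j) ⟨i, h⟩ ⟨j, rfl⟩
    else if h' : b i < b j then U ⟨(i, j), h'⟩ else 0

theorem mkBT_blockTriangular (b : Fin n → α)
    (D : ∀ a : α, Matrix {i // b i = a} {i // b i = a} F)
    (U : {p : Fin n × Fin n // b p.1 < b p.2} → F) : (mkBT b D U).BlockTriangular b := by
  intro i j hij
  simp only [mkBT, Matrix.of_apply]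
  rw [dif_neg (ne_of_gt hij), dif_neg (not_lt.2 hij.le)]

theorem mkBT_toSquareBlock (b : Fin n → α)
    (D : ∀ a : α, Matrix {i // b i = a} {i // b i = a} F)
    (U : {p : Fin n × Fin n // b p.1 < b p.2} → F) (a : α) :
    (mkBT b D U).toSquareBlock b a = D a := by
  ext ⟨i, hi⟩ ⟨j, hj⟩
  simp only [Matrix.toSquareBlock_def, Matrix.of_apply, mkBT]
  subst hj
  rw [dif_pos hi]

theorem mkBT_det (b : Fin n → α)
    (D : ∀ a : α, Matrix {i // b i = a} {i // b i = a} F)
    (U : {p : Fin n × Fin n // b p.1 < b p.2} → F) :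
    (mkBT b D U).det = ∏ a : α, (D a).det := by
  rw [(mkBT_blockTriangular b D U).det_fintype]
  exact Finset.prod_congr rfl (fun a _ => by rw [mkBT_toSquareBlock])

/-- the product decomposition of invertible block-triangular matrices -/
def btEquiv (b : Fin n → α) :
    BTU F b ≃ (∀ a : α, {D : Matrix {i // b i = a} {i // b i = a} F // D.det ≠ 0}) ×
      ({p : Fin n × Fin n // b p.1 < b p.2} → F) where
  toFun M := (fun a => ⟨M.1.toSquareBlock b a, by
      have h := M.2.1.det_fintype
      have h2 := M.2.2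
      rw [h, Finset.prod_ne_zero_iff] at h2
      exact h2 a (Finset.mem_univ a)⟩, fun p => M.1 p.1.1 p.1.2)
  invFun x := ⟨mkBT b (fun a => (x.1 a).1) x.2, mkBT_blockTriangular _ _ _, by
      rw [mkBT_det, Finset.prod_ne_zero_iff]
      exact fun a _ => (x.1 a).2⟩
  left_inv := by
    rintro ⟨M, hM, hdet⟩
    apply Subtype.ext
    ext i j
    simp only [mkBT, Matrix.of_apply, Matrix.toSquareBlock_def]
    split_ifs with h h'
    · rfl
    · rfl
    · have : b j < b i := lt_of_le_of_ne (not_lt.1 h') (Ne.symm h)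
      exact (hM this).symm
  right_inv := by
    rintro ⟨D, U⟩
    apply Prod.ext
    · funext a
      apply Subtype.ext
      exact mkBT_toSquareBlock b (fun a => (D a).1) U a
    · funext ⟨⟨i, j⟩, hp⟩
      simp only [mkBT, Matrix.of_apply]
      rw [dif_neg (ne_of_lt hp), dif_pos hp]

variable [Fintype F]

/-- the order of `GL_k(q)` as a function of `k` -/
def GG (q k : ℕ) : ℕ := ∏ i : Fin k, (q ^ k - q ^ (i : ℕ))

theorem card_det_ne_zero (ι : Type*) [Fintype ι] [DecidableEq ι] :
    Nat.card {D : Matrix ι ι F // D.det ≠ 0} = GG (Fintype.card F) (Fintype.card ι) := by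
  classical
  set k := Fintype.card ι with hk
  let e : ι ≃ Fin k := Fintype.equivFin ι
  let e1 : {D : Matrix ι ι F // D.det ≠ 0} ≃ {D : Matrix (Fin k) (Fin k) F // D.det ≠ 0} :=
    Equiv.subtypeEquiv (Matrix.reindex e e) (by
      intro D
      simp [Matrix.det_reindex_self])
  let e2 : GL (Fin k) F ≃ {D : Matrix (Fin k) (Fin k) F // D.det ≠ 0} :=
    { toFun := fun g => ⟨g.1, ((Matrix.isUnit_iff_isUnit_det _).1 g.isUnit).ne_zero⟩
      invFun := fun D => Matrix.GeneralLinearGroup.mkOfDetNeZero D.1 D.2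
      left_inv := fun g => Units.ext rfl
      right_inv := fun D => rfl }
  rw [Nat.card_congr e1, ← Nat.card_congr e2, Matrix.card_GL_field]
  rfl

theorem card_BTU (b : Fin n → α) :
    Nat.card (BTU F b) = (∏ a : α, GG (Fintype.card F) (Fintype.card {i // b i = a})) *
      Fintype.card F ^ (Fintype.card {p : Fin n × Fin n // b p.1 < b p.2}) := by
  classical
  rw [Nat.card_congr (btEquiv b), Nat.card_prod, Nat.card_pi, Nat.card_fun]
  congr 1
  · exact Finset.prod_congr rfl (fun a _ => card_det_ne_zero _)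
  · rw [Nat.card_eq_fintype_card, Nat.card_eq_fintype_card]

end Cfsg.Agent.Lib.H12.Parab
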