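import Mathlib
import Cfsg.Agent.Lib.H12.ParabA

set_option autoImplicit false
set_option linter.unusedSectionVars false

open Matrix

namespace Cfsg.Agent.Lib.H12.Parab

variable {n : ℕ} {α : Type*} [Fintype α] [LinearOrder α]

theorem sum_card_fibers (b : Fin n → α) : ∑ a : α, Fintype.card {i // b i = a} = n := by
  classical
  rw [← Fintype.card_sigma, Fintype.card_congr (Equiv.sigmaFiberEquiv b), Fintype.card_fin]

theorem card_pairs (b : Fin n → α) :
    n * n = 2 * Fintype.card {p : Fin n × Fin n // b p.1 < b p.2} +
      ∑ a : α, Fintype.card {i // b i = a} * Fintype.card {i // b i = a} := by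
  classical
  have h0 : (Finset.univ : Finset (Fin n × Fin n)).card = n * n := by
    rw [Finset.card_univ, Fintype.card_prod, Fintype.card_fin]
  have h1 := Finset.card_filter_add_card_filter_not
    (s := (Finset.univ : Finset (Fin n × Fin n))) (fun p => b p.1 < b p.2)
  have h2 := Finset.card_filter_add_card_filter_not
    (s := (Finset.univ.filter (fun p : Fin n × Fin n => ¬ b p.1 < b p.2))) (fun p => b p.1 = b p.2)
  rw [Finset.filter_filter, Finset.filter_filter] at h2
  have h3 : (Finset.univ.filter (fun p : Fin n × Fin n => ¬ b p.1 < b p.2 ∧ b p.1 = b p.2)) =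
      Finset.univ.filter (fun p : Fin n × Fin n => b p.1 = b p.2) := by
    apply Finset.filter_congr
    intro p _
    constructor
    · exact fun h => h.2
    · exact fun h => ⟨by rw [h]; exact lt_irrefl _, h⟩
  have h4 : (Finset.univ.filter (fun p : Fin n × Fin n => ¬ b p.1 < b p.2 ∧ ¬ b p.1 = b p.2)) =
      Finset.univ.filter (fun p : Fin n × Fin n => b p.2 < b p.1) := by
    apply Finset.filter_congr
    intro p _
    constructor
    · exact fun h => lt_of_le_of_ne (not_lt.1 h.1) (Ne.symm h.2)
    · exact fun h => ⟨not_lt.2 h.le, ne_of_gt h⟩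
  rw [h3, h4] at h2
  have h5 : (Finset.univ.filter (fun p : Fin n × Fin n => b p.2 < b p.1)).card =
      (Finset.univ.filter (fun p : Fin n × Fin n => b p.1 < b p.2)).card := by
    apply Finset.card_bij (fun p _ => (p.2, p.1))
    · intro p hp
      simpa using hp
    · intro p _ p' _ h
      simp only [Prod.mk.injEq] at h
      exact Prod.ext h.2 h.1
    · intro p hp
      exact ⟨(p.2, p.1), by simpa using hp, rfl⟩
  have h6 : (Finset.univ.filter (fun p : Fin n × Fin n => b p.1 = b p.2)).card =
      ∑ a : α, Fintype.card {i // b i = a} * Fintype.card {i // b i = a} := by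
    rw [Finset.card_eq_sum_card_fiberwise (f := fun p => b p.1) (t := Finset.univ)
      (fun p _ => Finset.mem_univ _)]
    apply Finset.sum_congr rfl
    intro a _
    rw [Finset.filter_filter]
    have h7 : (Finset.univ.filter (fun p : Fin n × Fin n => b p.1 = b p.2 ∧ b p.1 = a)) =
        (Finset.univ.filter (fun i : Fin n => b i = a)) ×ˢ
          (Finset.univ.filter (fun i : Fin n => b i = a)) := by
      ext p
      simp only [Finset.mem_filter, Finset.mem_univ, true_and, Finset.mem_product]
      constructor
      · rintro ⟨h, h'⟩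
        exact ⟨h', by rw [← h, h']⟩
      · rintro ⟨h, h'⟩
        exact ⟨by rw [h, h'], h⟩
    rw [h7, Finset.card_product, Fintype.card_subtype]
  have h8 : Fintype.card {p : Fin n × Fin n // b p.1 < b p.2} =
      (Finset.univ.filter (fun p : Fin n × Fin n => b p.1 < b p.2)).card := Fintype.card_subtype _
  rw [h8, ← h6, ← h0]
  omega

/-- triangular numbers as sums -/
def TT (k : ℕ) : ℕ := ∑ i ∈ Finset.range k, i

theorem two_TT (k : ℕ) : 2 * TT k + k = k * k := by
  unfold TT
  have := Finset.sum_range_id_mul_two k
  rcases k with _ | k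
  · simp
  · rw [mul_comm] at this
    rw [this]
    simp only [Nat.add_sub_cancel]
    ring

theorem exponent_identity (b : Fin n → α) :
    Fintype.card {p : Fin n × Fin n // b p.1 < b p.2} +
      ∑ a : α, TT (Fintype.card {i // b i = a}) = TT n := by
  have h1 := card_pairs b
  have h2 := sum_card_fibers b
  have h3 := two_TT n
  have h4 : ∑ a : α, (2 * TT (Fintype.card {i // b i = a}) + Fintype.card {i // b i = a}) =
      ∑ a : α, Fintype.card {i // b i = a} * Fintype.card {i // b i = a} :=
    Finset.sum_congr rfl (fun a _ => two_TT _)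
  rw [Finset.sum_add_distrib, ← Finset.mul_sum, h2] at h4
  omega

end Cfsg.Agent.Lib.H12.Parab
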