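import Mathlib
import Cfsg.Prelude.Def_LinearParabolics

set_option autoImplicit false
set_option linter.unusedSectionVars false

namespace Cfsg.Agent.Lib.H12.Parab

variable {n : ℕ}

/-- prefix sums of a composition -/
def PS (μ : Fin n → ℕ) (j : ℕ) : ℕ := ∑ k : Fin n, if (k : ℕ) < j then μ k else 0

theorem PS_zero (μ : Fin n → ℕ) : PS μ 0 = 0 := by
  simp [PS]

theorem PS_mono (μ : Fin n → ℕ) : Monotone (PS μ) := by
  intro j j' h
  unfold PS
  apply Finset.sum_le_sum
  intro k _
  split_ifs with h1 h2 h2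
  · exact le_rfl
  · omega
  · exact Nat.zero_le _
  · exact le_rfl

theorem PS_succ (μ : Fin n → ℕ) (j : ℕ) (hj : j < n) : PS μ (j + 1) = PS μ j + μ ⟨j, hj⟩ := by
  unfold PS
  have h1 : ∀ k : Fin n, (if (k : ℕ) < j + 1 then μ k else 0) =
      (if (k : ℕ) < j then μ k else 0) + (if k = ⟨j, hj⟩ then μ ⟨j, hj⟩ else 0) := by
    intro k
    by_cases hk : (k : ℕ) < j
    · rw [if_pos hk, if_pos (by omega), if_neg (by intro h; rw [h] at hk; simp at hk), add_zero]
    · by_cases hk2 : (k : ℕ) = j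
      · have : k = ⟨j, hj⟩ := Fin.ext hk2
        rw [if_neg hk, if_pos (by omega), if_pos this, zero_add, this]
      · rw [if_neg hk, if_neg (by omega), if_neg (by intro h; apply hk2; rw [h]), add_zero]
  rw [Finset.sum_congr rfl (fun k _ => h1 k), Finset.sum_add_distrib]
  simp

theorem PS_top (μ : Fin n → ℕ) : PS μ n = ∑ i, μ i := by
  unfold PS
  exact Finset.sum_congr rfl (fun k _ => by rw [if_pos k.2])

theorem compLabel_eq (μ : Fin n → ℕ) (i : Fin n) :
    Cfsg.compLabel μ i = (Finset.univ.filter fun j : Fin n => PS μ ((j : ℕ) + 1) ≤ (i : ℕ)).card := by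
  unfold Cfsg.compLabel
  congr 1
  apply Finset.filter_congr
  intro j _
  have : ∑ k ∈ Finset.univ.filter (fun k : Fin n => k ≤ j), μ k = PS μ ((j : ℕ) + 1) := by
    unfold PS
    rw [Finset.sum_filter]
    apply Finset.sum_congr rfl
    intro k _
    by_cases h : k ≤ j
    · rw [if_pos h, if_pos (by have := Fin.le_def.1 h; omega)]
    · rw [if_neg h, if_neg (by intro h'; apply h; exact Fin.le_def.2 (by omega))]
  rw [this]

theorem compLabel_of_mem (μ : Fin n → ℕ) (i : Fin n) (a : ℕ) (ha : a < n)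
    (h1 : PS μ a ≤ (i : ℕ)) (h2 : (i : ℕ) < PS μ (a + 1)) : Cfsg.compLabel μ i = a := by
  rw [compLabel_eq]
  have : (Finset.univ.filter fun j : Fin n => PS μ ((j : ℕ) + 1) ≤ (i : ℕ)) =
      Finset.univ.filter fun j : Fin n => (j : ℕ) < a := by
    apply Finset.filter_congr
    intro j _
    constructor
    · intro h
      by_contra hja
      have : PS μ (a + 1) ≤ PS μ ((j : ℕ) + 1) := PS_mono μ (by omega)
      omega
    · intro h
      have : PS μ ((j : ℕ) + 1) ≤ PS μ a := PS_mono μ (by omega)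
      omega
  rw [this, Fin.card_filter_val_lt]
  omega

theorem exists_interval (μ : Fin n → ℕ) (hμ : ∑ i, μ i = n) (i : Fin n) :
    ∃ a, a < n ∧ PS μ a ≤ (i : ℕ) ∧ (i : ℕ) < PS μ (a + 1) := by
  classical
  have hn : 0 < n := Fin.pos i
  have hex : ∃ a, (i : ℕ) < PS μ (a + 1) := ⟨n - 1, by
    rw [Nat.sub_add_cancel hn, PS_top, hμ]
    exact i.2⟩
  refine ⟨Nat.find hex, ?_, ?_, Nat.find_spec hex⟩
  · have : Nat.find hex ≤ n - 1 := Nat.find_min' hex (by
      rw [Nat.sub_add_cancel hn, PS_top, hμ]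
      exact i.2)
    omega
  · rcases Nat.eq_zero_or_pos (Nat.find hex) with h0 | h0
    · rw [h0, PS_zero]
      exact Nat.zero_le _
    · have := Nat.find_min hex (Nat.sub_lt h0 Nat.one_pos)
      rw [Nat.sub_add_cancel h0] at this
      omega

theorem compLabel_lt (μ : Fin n → ℕ) (hμ : ∑ i, μ i = n) (i : Fin n) : Cfsg.compLabel μ i < n := by
  obtain ⟨a, ha, h1, h2⟩ := exists_interval μ hμ i
  rw [compLabel_of_mem μ i a ha h1 h2]
  exact ha

theorem compLabel_eq_iff (μ : Fin n → ℕ) (hμ : ∑ i, μ i = n) (i : Fin n) (a : ℕ) (ha : a < n) :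
    Cfsg.compLabel μ i = a ↔ PS μ a ≤ (i : ℕ) ∧ (i : ℕ) < PS μ (a + 1) := by
  constructor
  · intro h
    obtain ⟨a', ha', h1, h2⟩ := exists_interval μ hμ i
    have := compLabel_of_mem μ i a' ha' h1 h2
    rw [h] at this
    subst this
    exact ⟨h1, h2⟩
  · rintro ⟨h1, h2⟩
    exact compLabel_of_mem μ i a ha h1 h2

theorem card_label_fiber (μ : Fin n → ℕ) (hμ : ∑ i, μ i = n) (a : ℕ) (ha : a < n) :
    (Finset.univ.filter fun i : Fin n => Cfsg.compLabel μ i = a).card = μ ⟨a, ha⟩ := by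
  have h1 : (Finset.univ.filter fun i : Fin n => Cfsg.compLabel μ i = a) =
      (Finset.univ.filter fun i : Fin n => (i : ℕ) < PS μ (a + 1)) \
        (Finset.univ.filter fun i : Fin n => (i : ℕ) < PS μ a) := by
    ext i
    simp only [Finset.mem_filter, Finset.mem_univ, true_and, Finset.mem_sdiff, not_lt]
    rw [compLabel_eq_iff μ hμ i a ha]
    exact and_comm
  have hsub : (Finset.univ.filter fun i : Fin n => (i : ℕ) < PS μ a) ⊆
      (Finset.univ.filter fun i : Fin n => (i : ℕ) < PS μ (a + 1)) := by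
    intro i
    simp only [Finset.mem_filter, Finset.mem_univ, true_and]
    intro h
    have : PS μ a ≤ PS μ (a + 1) := PS_mono μ (Nat.le_succ a)
    omega
  rw [h1, Finset.card_sdiff_of_subset hsub, Fin.card_filter_val_lt, Fin.card_filter_val_lt]
  have h2 : PS μ (a + 1) ≤ n := by
    have := PS_mono μ (show a + 1 ≤ n by omega)
    rw [PS_top, hμ] at this
    exact this
  have h3 := PS_succ μ a ha
  have h4 : PS μ a ≤ PS μ (a + 1) := PS_mono μ (Nat.le_succ a)
  rw [min_eq_right h2, min_eq_right (h4.trans h2)]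
  omega

end Cfsg.Agent.Lib.H12.Parab
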