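import Mathlib
import Cfsg.Agent.Lib.H12.ParabB
import Cfsg.Agent.Lib.H12.ParabC

set_option autoImplicit false
set_option linter.unusedSectionVars false

open Matrix

namespace Cfsg.Agent.Lib.H12.Parab

/-- the `q`-factorial `{k}` -/
def QF (q k : ℕ) : ℕ := ∏ j ∈ Finset.range k, ∑ l ∈ Finset.range (j + 1), q ^ l

theorem geom (q : ℕ) (hq : 1 ≤ q) (j : ℕ) :
    (q - 1) * ∑ l ∈ Finset.range j, q ^ l + 1 = q ^ j := by
  induction j with
  | zero => simp
  | succ j ih =>
    rw [Finset.sum_range_succ, mul_add, add_right_comm, ih, pow_succ]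
    have : q ^ j + (q - 1) * q ^ j = (1 + (q - 1)) * q ^ j := by ring
    rw [this, Nat.add_sub_cancel' hq, mul_comm]

theorem GG_eq (q : ℕ) (hq : 1 ≤ q) (k : ℕ) : GG q k = q ^ TT k * ((q - 1) ^ k * QF q k) := by
  unfold GG TT QF
  rw [Fin.prod_univ_eq_prod_range (fun i => q ^ k - q ^ i) k]
  have h1 : ∀ i ∈ Finset.range k, q ^ k - q ^ i = q ^ i * ((q - 1) * ∑ l ∈ Finset.range (k - 1 - i + 1), q ^ l) := by
    intro i hi
    have hik : i < k := Finset.mem_range.1 hi
    have h2 := geom q hq (k - 1 - i + 1)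
    have h3 : (q - 1) * ∑ l ∈ Finset.range (k - 1 - i + 1), q ^ l = q ^ (k - 1 - i + 1) - 1 := by
      omega
    rw [h3, Nat.mul_sub, mul_one, ← pow_add]
    congr 2
    omega
  rw [Finset.prod_congr rfl h1, Finset.prod_mul_distrib, Finset.prod_pow_eq_pow_sum,
    Finset.prod_mul_distrib, Finset.prod_const, Finset.card_range]
  congr 2
  exact Finset.prod_range_reflect (fun j => ∑ l ∈ Finset.range (j + 1), q ^ l) k

variable {F : Type*} [Field F] [Fintype F] {n : ℕ}

theorem QF_pos (q k : ℕ) (hq : 1 ≤ q) : 0 < QF q k := by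
  unfold QF
  apply Finset.prod_pos
  intro j _
  have : q ^ 0 ≤ ∑ l ∈ Finset.range (j + 1), q ^ l :=
    Finset.single_le_sum (f := fun l => q ^ l) (fun _ _ => Nat.zero_le _)
      (Finset.mem_range.2 (Nat.succ_pos j))
  simp only [pow_zero] at this
  exact this

/-- the index of the standard parabolic `P_μ` in `GL_n(q)` -/
theorem index_parabolic (μ : Fin n → ℕ) (hμ : ∑ i, μ i = n) :
    Nat.card (GL (Fin n) F ⧸ Cfsg.parabolicGL n F μ) * ∏ i : Fin n, QF (Fintype.card F) (μ i) =
      QF (Fintype.card F) n := by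
  classical
  set q := Fintype.card F with hq
  have hq2 : 2 ≤ q := Fintype.one_lt_card
  have hq1 : 1 ≤ q := by omega
  let b : Fin n → Fin (n + 1) := fun i =>
    ⟨Cfsg.compLabel μ i, Nat.lt_succ_of_lt (compLabel_lt μ hμ i)⟩
  -- the parabolic as invertible block-triangular matrices
  let e : Cfsg.parabolicGL n F μ ≃ BTU F b :=
    { toFun := fun g => ⟨(g.1 : Matrix (Fin n) (Fin n) F), by
        intro i j hij
        exact g.2 (show Cfsg.compLabel μ j < Cfsg.compLabel μ i from hij),
        ((Matrix.isUnit_iff_isUnit_det _).1 g.1.isUnit).ne_zero⟩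
      invFun := fun M => ⟨Matrix.GeneralLinearGroup.mkOfDetNeZero M.1 M.2.2, by
        intro i j hij
        exact M.2.1 (show b j < b i from hij)⟩
      left_inv := fun g => Subtype.ext (Units.ext rfl)
      right_inv := fun M => rfl }
  have hP : Nat.card (Cfsg.parabolicGL n F μ) =
      (∏ a : Fin (n + 1), GG q (Fintype.card {i // b i = a})) *
        q ^ (Fintype.card {p : Fin n × Fin n // b p.1 < b p.2}) := by
    rw [Nat.card_congr e, card_BTU]
  have hG : Nat.card (GL (Fin n) F) = GG q n := by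
    rw [Matrix.card_GL_field]
    rfl
  have hidx := Subgroup.index_mul_card (Cfsg.parabolicGL n F μ)
  rw [hP, hG, GG_eq q hq1 n] at hidx
  have hm : ∀ a : Fin (n + 1), GG q (Fintype.card {i // b i = a}) =
      q ^ TT (Fintype.card {i // b i = a}) * ((q - 1) ^ (Fintype.card {i // b i = a}) *
        QF q (Fintype.card {i // b i = a})) := fun a => GG_eq q hq1 _
  rw [Finset.prod_congr rfl (fun a _ => hm a), Finset.prod_mul_distrib, Finset.prod_mul_distrib,
    Finset.prod_pow_eq_pow_sum, Finset.prod_pow_eq_pow_sum, sum_card_fibers b] at hidx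
  have hexp := exponent_identity b
  -- the product of the `q`-factorials
  have hQF : ∏ a : Fin (n + 1), QF q (Fintype.card {i // b i = a}) = ∏ i : Fin n, QF q (μ i) := by
    rw [Fin.prod_univ_castSucc]
    have hlast : Fintype.card {i // b i = Fin.last n} = 0 := by
      rw [Fintype.card_eq_zero_iff]
      refine ⟨fun ⟨i, hi⟩ => ?_⟩
      have h1 := congrArg Fin.val hi
      have h2 := compLabel_lt μ hμ i
      simp only [b, Fin.val_last] at h1
      omega
    rw [hlast]
    have h0 : QF q 0 = 1 := by simp [QF]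
    rw [h0, mul_one]
    apply Finset.prod_congr rfl
    intro i _
    congr 1
    rw [Fintype.card_subtype, ← card_label_fiber μ hμ i.val i.2]
    congr 1
    apply Finset.filter_congr
    intro j _
    simp only [b, Fin.ext_iff, Fin.val_castSucc]
  rw [hQF] at hidx
  have hpos : 0 < q ^ TT n * (q - 1) ^ n := by
    apply Nat.mul_pos
    · exact Nat.pow_pos (by omega)
    · exact Nat.pow_pos (by omega)
  apply Nat.eq_of_mul_eq_mul_right hpos
  change (Cfsg.parabolicGL n F μ).index * _ * _ = _
  rw [← hexp, pow_add] at hidx ⊢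
  linarith [hidx]

end Cfsg.Agent.Lib.H12.Parab
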