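import Mathlib
import Cfsg.Agent.Lib.H12.ParabD

set_option autoImplicit false
set_option linter.unusedSectionVars false

open Matrix Polynomial

namespace Cfsg.Agent.Lib.H12.Parab

/-- the `q`-integer `[r]` -/
def Qn (q r : ℕ) : ℕ := ∑ l ∈ Finset.range r, q ^ l

/-- the falling `q`-factorial `[x][x-1]⋯[x-j+1]` -/
def ff (q j x : ℕ) : ℕ := ∏ k ∈ Finset.range j, Qn q (x - k)

theorem QF_succ (q m : ℕ) : QF q (m + 1) = QF q m * Qn q (m + 1) := by
  unfold QF Qn
  rw [Finset.prod_range_succ]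

theorem QF_split (q : ℕ) (j x : ℕ) (h : j ≤ x) : QF q x = QF q (x - j) * ff q j x := by
  induction j with
  | zero => simp [ff]
  | succ j ih =>
    have h1 := ih (by omega)
    have h2 : x - j = (x - (j + 1)) + 1 := by omega
    rw [h1, h2, QF_succ, ← h2]
    unfold ff
    rw [Finset.prod_range_succ]
    ring

theorem ff_eq_zero (q j x : ℕ) (h : x < j) : ff q j x = 0 := by
  unfold ff
  apply Finset.prod_eq_zero (Finset.mem_range.2 h)
  simp [Qn]

theorem Qn_split (q k x : ℕ) (h : k ≤ x) : Qn q x = Qn q k + q ^ k * Qn q (x - k) := by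
  unfold Qn
  have h1 : x = k + (x - k) := by omega
  conv_lhs => rw [h1]
  rw [Finset.sum_range_add, Finset.mul_sum]
  congr 1
  exact Finset.sum_congr rfl (fun l _ => pow_add q k l)

theorem scaled (q j x : ℕ) :
    (q : ℤ) ^ TT j * (ff q j x : ℤ) = ∏ k ∈ Finset.range j, ((Qn q x : ℤ) - (Qn q k : ℤ)) := by
  rcases Nat.lt_or_ge x j with h | h
  · rw [ff_eq_zero q j x h, Nat.cast_zero, mul_zero]
    symm
    apply Finset.prod_eq_zero (Finset.mem_range.2 h)
    rw [sub_self]
  · unfold ff TT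
    rw [Nat.cast_prod, ← Finset.prod_pow_eq_pow_sum, ← Finset.prod_mul_distrib]
    apply Finset.prod_congr rfl
    intro k hk
    have hk' : k ≤ x := by
      have := Finset.mem_range.1 hk
      omega
    rw [Qn_split q k x hk']
    push_cast
    ring

theorem six_sum_TT (n : ℕ) : 6 * ∑ j ∈ Finset.range n, TT j = n * (n - 1) * (n - 2) := by
  induction n with
  | zero => simp
  | succ n ih =>
    rw [Finset.sum_range_succ, mul_add, ih]
    have h1 := two_TT n
    rcases n with _ | _ | n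
    · simp [TT]
    · simp [TT]
    · simp only [Nat.add_sub_cancel] at *
      have : n + 1 + 1 + 1 - 2 = n + 1 := by omega
      rw [this]
      have h2 : n + 1 + 1 - 2 = n := by omega
      rw [h2]
      nlinarith [h1]

/-- the Jacobi–Trudi type determinant is a Vandermonde determinant -/
theorem det_identity (q n : ℕ) (lam : Fin n → ℕ) :
    (q : ℤ) ^ (∑ j ∈ Finset.range n, TT j) *
      ∑ κ : Equiv.Perm (Fin n), ((Equiv.Perm.sign κ : ℤ)) * ∏ i, (ff q (κ i) (lam i) : ℤ) =
    ∏ i : Fin n, ∏ j ∈ Finset.Ioi i, ((Qn q (lam j) : ℤ) - (Qn q (lam i) : ℤ)) := by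
  classical
  set B : Matrix (Fin n) (Fin n) ℤ := Matrix.of fun j i => (ff q (j : ℕ) (lam i) : ℤ) with hB
  have h1 : ∑ κ : Equiv.Perm (Fin n), ((Equiv.Perm.sign κ : ℤ)) * ∏ i, (ff q (κ i) (lam i) : ℤ) =
      B.det := by
    rw [Matrix.det_apply']
    rfl
  rw [h1]
  have h2 : (q : ℤ) ^ (∑ j ∈ Finset.range n, TT j) = ∏ j : Fin n, (q : ℤ) ^ TT (j : ℕ) := by
    rw [Finset.prod_pow_eq_pow_sum, Fin.sum_univ_eq_sum_range (fun j => TT j) n]
  rw [h2, ← Matrix.det_mul_column]
  set p : Fin n → ℤ[X] := fun j => ∏ k ∈ Finset.range (j : ℕ), (X - C (Qn q k : ℤ)) with hp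
  have hdeg : ∀ j, (p j).natDegree = j := by
    intro j
    rw [hp]
    simp only
    rw [Polynomial.natDegree_prod_of_monic _ _ (fun k _ => Polynomial.monic_X_sub_C _)]
    rw [Finset.sum_congr rfl (fun k _ => Polynomial.natDegree_X_sub_C _)]
    simp
  have hmonic : ∀ j, (p j).Monic := fun j =>
    Polynomial.monic_prod_of_monic _ _ (fun k _ => Polynomial.monic_X_sub_C _)
  have h3 := Matrix.det_eval_matrixOfPolynomials_eq_det_vandermonde
    (fun i => (Qn q (lam i) : ℤ)) p hdeg hmonic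
  rw [Matrix.det_vandermonde] at h3
  rw [h3, ← Matrix.det_transpose]
  congr 1
  ext j i
  simp only [Matrix.transpose_apply, Matrix.of_apply, hB, hp, Polynomial.eval_prod,
    Polynomial.eval_sub, Polynomial.eval_X, Polynomial.eval_C]
  exact scaled q i (lam j)

end Cfsg.Agent.Lib.H12.Parab
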