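import Mathlib
import Cfsg.Agent.Lib.H12.ParabE

set_option autoImplicit false
set_option linter.unusedSectionVars false

open Matrix Polynomial

namespace Cfsg.Agent.Lib.H12.Parab

variable {F : Type*} [Field F] [Fintype F] {n : ℕ}

theorem fixedPointCharacter_one {G : Type*} [Group G] (H : Subgroup G) :
    Cfsg.fixedPointCharacter H 1 = (Nat.card (G ⧸ H) : ℂ) := by
  unfold Cfsg.fixedPointCharacter
  congr 1
  have : MulAction.fixedBy (G ⧸ H) (1 : G) = Set.univ := by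
    ext x
    simp [MulAction.mem_fixedBy]
  rw [this]
  exact Nat.card_congr (Equiv.Set.univ _)

theorem sum_sub_perm (lam : Fin n → ℕ) (κ : Equiv.Perm (Fin n)) (ν : Fin n → ℕ)
    (hlam : ∀ i, lam i = ν i + (i : ℕ)) (hsum : ∑ i, ν i = n)
    (hκ : ∀ i, ((κ i : Fin n) : ℕ) ≤ lam i) : ∑ i, (lam i - ((κ i : Fin n) : ℕ)) = n := by
  have h1 : ∑ i, (lam i - ((κ i : Fin n) : ℕ)) + ∑ i, ((κ i : Fin n) : ℕ) = ∑ i, lam i := by
    rw [← Finset.sum_add_distrib]
    exact Finset.sum_congr rfl (fun i _ => Nat.sub_add_cancel (hκ i))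
  have h2 : ∑ i, ((κ i : Fin n) : ℕ) = ∑ i : Fin n, (i : ℕ) :=
    Equiv.sum_comp κ (fun i : Fin n => (i : ℕ))
  have h3 : ∑ i, lam i = n + ∑ i : Fin n, (i : ℕ) := by
    rw [Finset.sum_congr rfl (fun i _ => hlam i), Finset.sum_add_distrib, hsum]
  omega

/-- the integer form of the degree formula -/
theorem degree_int (ν : Fin n → ℕ) (hsum : ∑ i, ν i = n) :
    (∑ κ : Equiv.Perm (Fin n),
      if ∀ i : Fin n, ((κ i : Fin n) : ℕ) ≤ ν i + (i : ℕ) then
        ((Equiv.Perm.sign κ : ℤ)) * (Nat.card (GL (Fin n) F ⧸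
          Cfsg.parabolicGL n F fun i => ν i + (i : ℕ) - ((κ i : Fin n) : ℕ)) : ℤ)
      else 0) * (Fintype.card F : ℤ) ^ (∑ j ∈ Finset.range n, TT j) *
        ∏ i : Fin n, (QF (Fintype.card F) (ν i + (i : ℕ)) : ℤ) =
      (QF (Fintype.card F) n : ℤ) * ∏ i : Fin n, ∏ j ∈ Finset.Ioi i,
        ((Qn (Fintype.card F) (ν j + (j : ℕ)) : ℤ) - (Qn (Fintype.card F) (ν i + (i : ℕ)) : ℤ)) := by
  classical
  set q := Fintype.card F with hq
  set lam : Fin n → ℕ := fun i => ν i + (i : ℕ) with hlam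
  have hterm : ∀ κ : Equiv.Perm (Fin n),
      (if ∀ i : Fin n, ((κ i : Fin n) : ℕ) ≤ lam i then
        ((Equiv.Perm.sign κ : ℤ)) * (Nat.card (GL (Fin n) F ⧸
          Cfsg.parabolicGL n F fun i => lam i - ((κ i : Fin n) : ℕ)) : ℤ)
      else 0) * ∏ i : Fin n, (QF q (lam i) : ℤ) =
      (QF q n : ℤ) * (((Equiv.Perm.sign κ : ℤ)) * ∏ i, (ff q (κ i) (lam i) : ℤ)) := by
    intro κ
    by_cases hκ : ∀ i : Fin n, ((κ i : Fin n) : ℕ) ≤ lam i
    · rw [if_pos hκ]
      have h1 := index_parabolic (F := F) (fun i => lam i - ((κ i : Fin n) : ℕ))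
        (sum_sub_perm lam κ ν (fun i => rfl) hsum hκ)
      have h2 : ∏ i : Fin n, QF q (lam i) =
          (∏ i : Fin n, QF q (lam i - ((κ i : Fin n) : ℕ))) * ∏ i : Fin n, ff q (κ i) (lam i) := by
        rw [← Finset.prod_mul_distrib]
        exact Finset.prod_congr rfl (fun i _ => QF_split q _ _ (hκ i))
      have h3 : Nat.card (GL (Fin n) F ⧸
          Cfsg.parabolicGL n F fun i => lam i - ((κ i : Fin n) : ℕ)) * ∏ i : Fin n, QF q (lam i) =
          QF q n * ∏ i : Fin n, ff q (κ i) (lam i) := by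
        rw [h2, ← mul_assoc, h1]
      have h4 := congrArg (Nat.cast : ℕ → ℤ) h3
      push_cast at h4
      linear_combination ((Equiv.Perm.sign κ : ℤ)) * h4
    · rw [if_neg hκ, zero_mul]
      push Not at hκ
      obtain ⟨i, hi⟩ := hκ
      have : ∏ i, (ff q (κ i) (lam i) : ℤ) = 0 := by
        apply Finset.prod_eq_zero (Finset.mem_univ i)
        rw [ff_eq_zero q _ _ hi, Nat.cast_zero]
      rw [this, mul_zero, mul_zero]
  have hdet := det_identity q n lam
  rw [← hdet]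
  have : ∀ a b c : ℤ, a * b * c = b * (a * c) := fun a b c => by ring
  rw [this, Finset.sum_mul, Finset.sum_congr rfl (fun κ _ => hterm κ), ← Finset.mul_sum]
  ring

end Cfsg.Agent.Lib.H12.Parab
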