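import Mathlib
import Cfsg.Prelude.Def_ParabolicCharacters

/-!
# The inner product of two permutation characters is the number of double cosets (helper12)
-/

set_option autoImplicit false
set_option linter.unusedSectionVars false

namespace Cfsg.Agent.Lib.H12.DCos

variable {G : Type*} [Group G] (H K : Subgroup G)

/-- the double coset of `x⁻¹ y` attached to a pair of cosets `(xH, yK)` -/
def pairToDC : (G ⧸ H) × (G ⧸ K) → DoubleCoset.Quotient (H : Set G) K :=
  fun p => Quotient.liftOn₂' p.1 p.2 (fun x y => DoubleCoset.mk H K (x⁻¹ * y)) (by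
    intro a₁ b₁ a₂ b₂ ha hb
    rw [QuotientGroup.leftRel_apply] at ha hb
    change DoubleCoset.mk H K (a₁⁻¹ * b₁) = DoubleCoset.mk H K (a₂⁻¹ * b₂)
    rw [DoubleCoset.eq]
    refine ⟨(a₁⁻¹ * a₂)⁻¹, H.inv_mem ha, b₁⁻¹ * b₂, hb, ?_⟩
    group)

theorem pairToDC_mk (x y : G) :
    pairToDC H K ((x : G ⧸ H), (y : G ⧸ K)) = DoubleCoset.mk H K (x⁻¹ * y) := rfl

theorem pairToDC_smul (g : G) (p : (G ⧸ H) × (G ⧸ K)) :
    pairToDC H K (g • p) = pairToDC H K p := by
  obtain ⟨a, b⟩ := p
  induction a using QuotientGroup.induction_on with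
  | H x =>
    induction b using QuotientGroup.induction_on with
    | H y =>
      change pairToDC H K (((g * x : G) : G ⧸ H), ((g * y : G) : G ⧸ K)) = _
      rw [pairToDC_mk, pairToDC_mk]
      congr 1
      group

/-- orbits of `G` on pairs of cosets correspond to double cosets -/
def orbitToDC : MulAction.orbitRel.Quotient G ((G ⧸ H) × (G ⧸ K)) →
    DoubleCoset.Quotient (H : Set G) K :=
  Quotient.lift (pairToDC H K) (by
    intro p p' hpp'
    obtain ⟨g, hg⟩ := hpp'
    rw [← hg]
    exact pairToDC_smul H K g p')

theorem orbitToDC_bijective : Function.Bijective (orbitToDC H K) := by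
  constructor
  · intro o o' hoo'
    induction o using Quotient.inductionOn with
    | h p =>
      induction o' using Quotient.inductionOn with
      | h p' =>
        obtain ⟨a, b⟩ := p
        obtain ⟨a', b'⟩ := p'
        induction a using QuotientGroup.induction_on with
        | H x =>
          induction b using QuotientGroup.induction_on with
          | H y =>
            induction a' using QuotientGroup.induction_on with
            | H x' =>
              induction b' using QuotientGroup.induction_on with
              | H y' =>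
                change DoubleCoset.mk H K (x⁻¹ * y) = DoubleCoset.mk H K (x'⁻¹ * y') at hoo'
                rw [DoubleCoset.eq] at hoo'
                obtain ⟨h, hh, k, hk, hxy⟩ := hoo'
                apply Quotient.sound
                refine ⟨x * h⁻¹ * x'⁻¹, ?_⟩
                change (((x * h⁻¹ * x'⁻¹ * x' : G) : G ⧸ H), ((x * h⁻¹ * x'⁻¹ * y' : G) : G ⧸ K)) =
                  ((x : G ⧸ H), (y : G ⧸ K))
                apply Prod.ext
                · change ((x * h⁻¹ * x'⁻¹ * x' : G) : G ⧸ H) = (x : G ⧸ H)
                  rw [QuotientGroup.eq]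
                  have : (x * h⁻¹ * x'⁻¹ * x')⁻¹ * x = h := by group
                  rw [this]
                  exact hh
                · change ((x * h⁻¹ * x'⁻¹ * y' : G) : G ⧸ K) = (y : G ⧸ K)
                  rw [QuotientGroup.eq]
                  have : (x * h⁻¹ * x'⁻¹ * y')⁻¹ * y = k⁻¹ := by
                    have e : y' = x' * (h * (x⁻¹ * y) * k) := by rw [← hxy]; group
                    rw [e]
                    group
                  rw [this]
                  exact K.inv_mem hk
  · intro d
    induction d using Quotient.inductionOn with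
    | h g =>
      refine ⟨Quotient.mk'' (((1 : G) : G ⧸ H), (g : G ⧸ K)), ?_⟩
      change DoubleCoset.mk H K ((1 : G)⁻¹ * g) = DoubleCoset.mk H K g
      rw [inv_one, one_mul]

open Classical in
theorem inner_eq_card_dc [Fintype G] :
    (Nat.card G : ℂ)⁻¹ * ∑ g : G, Cfsg.fixedPointCharacter H g * Cfsg.fixedPointCharacter K g =
      (Nat.card (DoubleCoset.Quotient (H : Set G) K) : ℂ) := by
  have hfix : ∀ g : G, Nat.card (MulAction.fixedBy ((G ⧸ H) × (G ⧸ K)) g) =
      Nat.card (MulAction.fixedBy (G ⧸ H) g) * Nat.card (MulAction.fixedBy (G ⧸ K) g) := by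
    intro g
    rw [← Nat.card_prod]
    apply Nat.card_congr
    refine ⟨fun p => (⟨p.1.1, ?_⟩, ⟨p.1.2, ?_⟩), fun p => ⟨(p.1.1, p.2.1), ?_⟩, ?_, ?_⟩
    · have := p.2
      rw [MulAction.mem_fixedBy] at this ⊢
      exact congrArg Prod.fst this
    · have := p.2
      rw [MulAction.mem_fixedBy] at this ⊢
      exact congrArg Prod.snd this
    · rw [MulAction.mem_fixedBy]
      exact Prod.ext p.1.2 p.2.2
    · intro p; rfl
    · intro p; rfl
  have hB := MulAction.sum_card_fixedBy_eq_card_orbits_mul_card_group G ((G ⧸ H) × (G ⧸ K))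
  have hcard : Nat.card (DoubleCoset.Quotient (H : Set G) K) =
      Fintype.card (MulAction.orbitRel.Quotient G ((G ⧸ H) × (G ⧸ K))) := by
    rw [← Nat.card_eq_fintype_card]
    exact (Nat.card_eq_of_bijective _ (orbitToDC_bijective H K)).symm
  have hG : (Nat.card G : ℂ) ≠ 0 := by
    rw [Nat.card_eq_fintype_card]
    exact_mod_cast Fintype.card_ne_zero
  rw [inv_mul_eq_iff_eq_mul₀ hG, hcard, mul_comm]
  have : ∑ g : G, Cfsg.fixedPointCharacter H g * Cfsg.fixedPointCharacter K g =
      ((∑ g : G, Fintype.card (MulAction.fixedBy ((G ⧸ H) × (G ⧸ K)) g) : ℕ) : ℂ) := by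
    rw [Nat.cast_sum]
    apply Finset.sum_congr rfl
    intro g _
    unfold Cfsg.fixedPointCharacter
    rw [← Nat.card_eq_fintype_card, hfix g, Nat.cast_mul]
  rw [this, hB, Nat.cast_mul, Nat.card_eq_fintype_card]

end Cfsg.Agent.Lib.H12.DCos
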