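import Mathlib
import Cfsg.Prelude.Def_LinearParabolics
import Cfsg.Agent.Lib.H12.DCosB

/-!
# Double cosets of parabolic subgroups of `GL_n(q)` and of Young subgroups of `Sym(n)`
(helper12)
-/

set_option autoImplicit false
set_option linter.unusedSectionVars false

namespace Cfsg.Agent.Lib.H12.DCos

open Matrix

variable {F : Type*} [Field F] {n : ℕ}

theorem perm_apply_inv (σ : Equiv.Perm (Fin n)) (i : Fin n) : σ (σ⁻¹ i) = i := by simp

theorem perm_inv_apply (σ : Equiv.Perm (Fin n)) (i : Fin n) : σ⁻¹ (σ i) = i := by simp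

/-- block upper triangular invertible matrices for a labelling -/
def PGL (F : Type*) [Field F] {n : ℕ} (a : Fin n → ℕ) : Subgroup (GL (Fin n) F) where
  carrier := {g | (g : Matrix (Fin n) (Fin n) F).BlockTriangular a}
  mul_mem' := fun {x} {y} hx hy => by
    change ((x : Matrix (Fin n) (Fin n) F) * (y : Matrix (Fin n) (Fin n) F)).BlockTriangular a
    exact Matrix.BlockTriangular.mul hx hy
  one_mem' := by
    change (1 : Matrix (Fin n) (Fin n) F).BlockTriangular a
    exact Matrix.blockTriangular_one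
  inv_mem' := fun {x} hx => by
    change ((x⁻¹ : GL (Fin n) F) : Matrix (Fin n) (Fin n) F).BlockTriangular a
    have : Invertible (x : Matrix (Fin n) (Fin n) F) := x.invertible
    rw [Matrix.coe_units_inv]
    exact Matrix.blockTriangular_inv_of_blockTriangular hx

theorem mem_PGL (a : Fin n → ℕ) (g : GL (Fin n) F) :
    g ∈ PGL F a ↔ (g : Matrix (Fin n) (Fin n) F).BlockTriangular a := Iff.rfl

theorem parabolicGL_eq (μ : Fin n → ℕ) : Cfsg.parabolicGL n F μ = PGL F (Cfsg.compLabel μ) := rfl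

/-- permutations preserving a labelling -/
def YS {n : ℕ} (a : Fin n → ℕ) : Subgroup (Equiv.Perm (Fin n)) where
  carrier := {σ | ∀ i, a (σ i) = a i}
  mul_mem' := fun {x} {y} hx hy i => by
    change a (x (y i)) = a i
    rw [hx, hy]
  one_mem' := fun _ => rfl
  inv_mem' := fun {x} hx i => by
    have h := hx (x⁻¹ i)
    have e : x (x⁻¹ i) = i := by simp
    rw [e] at h
    exact h.symm

theorem mem_YS (a : Fin n → ℕ) (σ : Equiv.Perm (Fin n)) : σ ∈ YS a ↔ ∀ i, a (σ i) = a i :=
  Iff.rfl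

theorem youngSubgroup_eq (μ : Fin n → ℕ) : Cfsg.youngSubgroup μ = YS (Cfsg.compLabel μ) := rfl

theorem compLabel_mono (μ : Fin n → ℕ) : Monotone (Cfsg.compLabel μ) := by
  intro i j hij
  unfold Cfsg.compLabel
  apply Finset.card_le_card
  intro k hk
  rw [Finset.mem_filter] at hk ⊢
  exact ⟨hk.1, le_trans hk.2 hij⟩

theorem upper_le_PGL (a : Fin n → ℕ) (ha : Monotone a) : Cfsg.upperTriangularGL n F ≤ PGL F a := by
  intro g hg
  rw [mem_PGL]
  intro i j hij
  apply hg
  simp only [id]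
  by_contra hcon
  exact absurd (ha (not_lt.mp hcon)) (not_le.mpr hij)

theorem wGL_mem_PGL (a : Fin n → ℕ) {y : Equiv.Perm (Fin n)} (hy : y ∈ YS a) :
    wGL F y ∈ PGL F a := by
  rw [mem_PGL]
  intro i j hij
  rw [wGL_val, wmat_apply]
  split_ifs with h
  · exfalso
    rw [h, hy j] at hij
    exact lt_irrefl _ hij
  · rfl

/-- vectors supported on the labels below `s` -/
def Low (a : Fin n → ℕ) (s : ℕ) (v : Fin n → F) : Prop := ∀ i, s ≤ a i → v i = 0

theorem low_mulVec (a : Fin n → ℕ) (s : ℕ) {p : GL (Fin n) F} (hp : p ∈ PGL F a) {v : Fin n → F}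
    (hv : Low a s v) : Low a s ((p : Matrix (Fin n) (Fin n) F) *ᵥ v) := by
  intro i hi
  rw [Matrix.mulVec, dotProduct]
  apply Finset.sum_eq_zero
  intro k _
  by_cases hk : s ≤ a k
  · rw [hv k hk, mul_zero]
  · have : a k < a i := lt_of_lt_of_le (not_le.mp hk) hi
    rw [hp this, zero_mul]

theorem coe_inv_mulVec (g : GL (Fin n) F) (v : Fin n → F) :
    ((g⁻¹ : GL (Fin n) F) : Matrix (Fin n) (Fin n) F) *ᵥ ((g : Matrix (Fin n) (Fin n) F) *ᵥ v) =
      v := by
  rw [Matrix.mulVec_mulVec, ← Units.val_mul, inv_mul_cancel, Units.val_one, Matrix.one_mulVec]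

theorem coe_mulVec_inv (g : GL (Fin n) F) (v : Fin n → F) :
    (g : Matrix (Fin n) (Fin n) F) *ᵥ (((g⁻¹ : GL (Fin n) F) : Matrix (Fin n) (Fin n) F) *ᵥ v) =
      v := by
  rw [Matrix.mulVec_mulVec, ← Units.val_mul, mul_inv_cancel, Units.val_one, Matrix.one_mulVec]

theorem low_mulVec_iff (a : Fin n → ℕ) (s : ℕ) {p : GL (Fin n) F} (hp : p ∈ PGL F a)
    (v : Fin n → F) : Low a s ((p : Matrix (Fin n) (Fin n) F) *ᵥ v) ↔ Low a s v := by
  constructor
  · intro h
    have := low_mulVec a s ((PGL F a).inv_mem hp) h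
    rwa [coe_inv_mulVec] at this
  · exact low_mulVec a s hp

/-- the invariant set of vectors -/
def Sset (a b : Fin n → ℕ) (g : GL (Fin n) F) (s t : ℕ) : Set (Fin n → F) :=
  {v | Low a s v ∧ Low b t (((g⁻¹ : GL (Fin n) F) : Matrix (Fin n) (Fin n) F) *ᵥ v)}

theorem card_Sset_conj (a b : Fin n → ℕ) (g : GL (Fin n) F) {p p' : GL (Fin n) F}
    (hp : p ∈ PGL F a) (hp' : p' ∈ PGL F b) (s t : ℕ) :
    Nat.card (Sset a b (p * g * p') s t) = Nat.card (Sset a b g s t) := by
  apply Nat.card_congr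
  refine ⟨fun v => ⟨((p⁻¹ : GL (Fin n) F) : Matrix (Fin n) (Fin n) F) *ᵥ v.1, ?_⟩,
    fun v => ⟨(p : Matrix (Fin n) (Fin n) F) *ᵥ v.1, ?_⟩, ?_, ?_⟩
  · obtain ⟨v, hv1, hv2⟩ := v
    refine ⟨low_mulVec a s ((PGL F a).inv_mem hp) hv1, ?_⟩
    have e : ((p * g * p')⁻¹ : GL (Fin n) F) = p'⁻¹ * (g⁻¹ * p⁻¹) := by group
    rw [e, Units.val_mul, ← Matrix.mulVec_mulVec,
      low_mulVec_iff b t ((PGL F b).inv_mem hp'), Units.val_mul, ← Matrix.mulVec_mulVec] at hv2
    exact hv2
  · obtain ⟨v, hv1, hv2⟩ := v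
    refine ⟨low_mulVec a s hp hv1, ?_⟩
    have e : ((p * g * p')⁻¹ : GL (Fin n) F) = p'⁻¹ * (g⁻¹ * p⁻¹) := by group
    rw [e, Units.val_mul, ← Matrix.mulVec_mulVec,
      low_mulVec_iff b t ((PGL F b).inv_mem hp'), Units.val_mul, ← Matrix.mulVec_mulVec,
      coe_inv_mulVec]
    exact hv2
  · intro v
    apply Subtype.ext
    exact coe_mulVec_inv p v.1
  · intro v
    apply Subtype.ext
    exact coe_inv_mulVec p v.1

theorem wmat_mulVec (σ : Equiv.Perm (Fin n)) (v : Fin n → F) (j : Fin n) :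
    (wmat F σ⁻¹ *ᵥ v) j = v (σ j) := by
  rw [Matrix.mulVec, dotProduct, Finset.sum_eq_single (σ j)]
  · rw [wmat_apply, if_pos (by simp), one_mul]
  · intro k _ hk
    rw [wmat_apply, if_neg, zero_mul]
    intro h
    apply hk
    rw [h]
    simp
  · intro h; exact absurd (Finset.mem_univ _) h

theorem card_supported [Fintype F] (I : Finset (Fin n)) :
    Nat.card {v : Fin n → F // ∀ i, i ∉ I → v i = 0} = Fintype.card F ^ I.card := by
  classical
  have e : {v : Fin n → F // ∀ i, i ∉ I → v i = 0} ≃ ({i // i ∈ I} → F) :=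
    { toFun := fun v i => v.1 i.1
      invFun := fun f => ⟨fun i => if h : i ∈ I then f ⟨i, h⟩ else 0, fun i hi => dif_neg hi⟩
      left_inv := by
        intro v
        apply Subtype.ext
        funext i
        by_cases h : i ∈ I
        · simp only [dif_pos h]
        · simp only [dif_neg h]
          exact (v.2 i h).symm
      right_inv := by
        intro f
        funext i
        simp only [dif_pos i.2] }
  rw [Nat.card_congr e, Nat.card_eq_fintype_card, Fintype.card_fun, Fintype.card_coe]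

/-- the counting function attached to a permutation -/
def Dcount (a b : Fin n → ℕ) (σ : Equiv.Perm (Fin n)) (s t : ℕ) : ℕ :=
  (Finset.univ.filter fun j : Fin n => a (σ j) < s ∧ b j < t).card

theorem card_Sset_wGL [Fintype F] (a b : Fin n → ℕ) (σ : Equiv.Perm (Fin n)) (s t : ℕ) :
    Nat.card (Sset a b (wGL F σ) s t) = Fintype.card F ^ Dcount a b σ s t := by
  classical
  set I : Finset (Fin n) := Finset.univ.filter fun i : Fin n => a i < s ∧ b (σ⁻¹ i) < t with hI
  have hcard : I.card = Dcount a b σ s t := by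
    unfold Dcount
    apply Finset.card_bij' (fun i _ => σ⁻¹ i) (fun j _ => σ j)
    · intro i hi
      rw [hI, Finset.mem_filter] at hi
      rw [Finset.mem_filter]
      refine ⟨Finset.mem_univ _, ?_, hi.2.2⟩
      rw [perm_apply_inv]
      exact hi.2.1
    · intro j hj
      rw [Finset.mem_filter] at hj
      rw [hI, Finset.mem_filter]
      refine ⟨Finset.mem_univ _, hj.2.1, ?_⟩
      rw [perm_inv_apply]
      exact hj.2.2
    · intro i _
      exact perm_apply_inv σ i
    · intro j _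
      exact perm_inv_apply σ j
  rw [← hcard, ← card_supported I]
  apply Nat.card_congr
  apply Equiv.subtypeEquivRight
  intro v
  change (Low a s v ∧ Low b t (((wGL F σ)⁻¹ : GL (Fin n) F).1 *ᵥ v)) ↔ _
  rw [← map_inv, wGL_val]
  constructor
  · rintro ⟨h1, h2⟩ i hi
    rw [hI, Finset.mem_filter, not_and] at hi
    have hi' := hi (Finset.mem_univ _)
    by_cases hs : a i < s
    · have ht : t ≤ b (σ⁻¹ i) := by
        by_contra hcon
        exact hi' ⟨hs, not_le.mp hcon⟩
      have := h2 (σ⁻¹ i) ht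
      rwa [wmat_mulVec, perm_apply_inv] at this
    · exact h1 i (not_lt.mp hs)
  · intro h
    constructor
    · intro i hi
      apply h
      rw [hI, Finset.mem_filter, not_and]
      intro _ hcon
      exact absurd hcon.1 (not_lt.mpr hi)
    · intro j hj
      rw [wmat_mulVec]
      apply h
      rw [hI, Finset.mem_filter, not_and]
      intro _ hcon
      rw [perm_inv_apply] at hcon
      exact absurd hcon.2 (not_lt.mpr hj)

end Cfsg.Agent.Lib.H12.DCos
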