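import Mathlib
import Cfsg.Agent.Lib.H12.DCosA
import Cfsg.Agent.Lib.H12.DCosC

/-!
# `P_ν \ GL_n(q) / P_μ` and `Y_ν \ Sym(n) / Y_μ` have the same cardinality (helper12)
-/

set_option autoImplicit false
set_option linter.unusedSectionVars false

namespace Cfsg.Agent.Lib.H12.DCos

open Matrix

variable {F : Type*} [Field F] {n : ℕ}

/-- the fibre counting function attached to a permutation -/
def Ncount (a b : Fin n → ℕ) (σ : Equiv.Perm (Fin n)) (s t : ℕ) : ℕ :=
  (Finset.univ.filter fun j : Fin n => a (σ j) = s ∧ b j = t).card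

theorem Dcount_rec (a b : Fin n → ℕ) (σ : Equiv.Perm (Fin n)) (s t : ℕ) :
    Dcount a b σ (s + 1) (t + 1) + Dcount a b σ s t =
      Ncount a b σ s t + Dcount a b σ s (t + 1) + Dcount a b σ (s + 1) t := by
  unfold Dcount Ncount
  simp only [Finset.card_filter]
  rw [← Finset.sum_add_distrib, ← Finset.sum_add_distrib, ← Finset.sum_add_distrib]
  apply Finset.sum_congr rfl
  intro j _
  split_ifs <;> omega

theorem Ncount_eq_of_Dcount_eq (a b : Fin n → ℕ) (σ τ : Equiv.Perm (Fin n))
    (h : ∀ s t, Dcount a b σ s t = Dcount a b τ s t) (s t : ℕ) :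
    Ncount a b σ s t = Ncount a b τ s t := by
  have h1 := Dcount_rec a b σ s t
  have h2 := Dcount_rec a b τ s t
  rw [h, h, h, h] at h1
  omega

theorem exists_young_of_Ncount_eq (a b : Fin n → ℕ) (σ τ : Equiv.Perm (Fin n))
    (h : ∀ s t, Ncount a b σ s t = Ncount a b τ s t) :
    ∃ y ∈ YS a, ∃ y' ∈ YS b, τ = y * σ * y' := by
  classical
  have hfib : ∀ c : ℕ × ℕ, Nonempty ({j : Fin n // (a (τ j), b j) = c} ≃
      {j : Fin n // (a (σ j), b j) = c}) := by
    rintro ⟨s, t⟩
    apply Fintype.card_eq.mp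
    rw [Fintype.card_subtype, Fintype.card_subtype]
    have := h s t
    unfold Ncount at this
    simp only [Prod.mk.injEq]
    exact this.symm
  set e : Equiv.Perm (Fin n) := Equiv.ofFiberEquiv (fun c => (hfib c).some) with he
  have hmap : ∀ j, (a (σ (e j)), b (e j)) = (a (τ j), b j) := fun j =>
    Equiv.ofFiberEquiv_map (fun c => (hfib c).some) j
  have hb : ∀ j, b (e j) = b j := fun j => congrArg Prod.snd (hmap j)
  have ha : ∀ j, a (σ (e j)) = a (τ j) := fun j => congrArg Prod.fst (hmap j)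
  refine ⟨τ * e⁻¹ * σ⁻¹, ?_, e, hb, by group⟩
  intro i
  change a (τ (e⁻¹ (σ⁻¹ i))) = a i
  rw [← ha, perm_apply_inv, perm_apply_inv]

/-- the map on double cosets induced by permutation matrices -/
def dcMap (F : Type*) [Field F] {n : ℕ} (a b : Fin n → ℕ) :
    DoubleCoset.Quotient (YS a : Set (Equiv.Perm (Fin n))) (YS b) →
      DoubleCoset.Quotient (PGL F a : Set (GL (Fin n) F)) (PGL F b) :=
  Quotient.lift (fun σ => DoubleCoset.mk (PGL F a) (PGL F b) (wGL F σ)) (by
    intro σ τ hστ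
    have h' : ∃ y ∈ YS a, ∃ y' ∈ YS b, τ = y * σ * y' := DoubleCoset.rel_iff.mp hστ
    obtain ⟨y, hy, y', hy', rfl⟩ := h'
    change DoubleCoset.mk (PGL F a) (PGL F b) (wGL F σ) =
      DoubleCoset.mk (PGL F a) (PGL F b) (wGL F (y * σ * y'))
    rw [DoubleCoset.eq]
    exact ⟨wGL F y, wGL_mem_PGL a hy, wGL F y', wGL_mem_PGL b hy', by rw [map_mul, map_mul]⟩)

theorem dcMap_bijective [Fintype F] (a b : Fin n → ℕ) (ha : Monotone a) (hb : Monotone b) :
    Function.Bijective (dcMap F a b) := by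
  constructor
  · intro x y hxy
    induction x using Quotient.inductionOn with
    | h σ =>
      induction y using Quotient.inductionOn with
      | h τ =>
        change DoubleCoset.mk (PGL F a) (PGL F b) (wGL F σ) =
          DoubleCoset.mk (PGL F a) (PGL F b) (wGL F τ) at hxy
        rw [DoubleCoset.eq] at hxy
        obtain ⟨p, hp, p', hp', hτ⟩ := hxy
        have hD : ∀ s t, Dcount a b σ s t = Dcount a b τ s t := by
          intro s t
          have h1 := card_Sset_conj a b (wGL F σ) hp hp' s t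
          rw [← hτ, card_Sset_wGL, card_Sset_wGL] at h1
          exact (Nat.pow_right_injective Fintype.one_lt_card h1).symm
        obtain ⟨y, hy, y', hy', hyy'⟩ := exists_young_of_Ncount_eq a b σ τ
          (Ncount_eq_of_Dcount_eq a b σ τ hD)
        change DoubleCoset.mk (YS a) (YS b) σ = DoubleCoset.mk (YS a) (YS b) τ
        rw [DoubleCoset.eq]
        exact ⟨y, hy, y', hy', hyy'⟩
  · intro d
    induction d using Quotient.inductionOn with
    | h g =>
      obtain ⟨b1, hb1, σ, b2, hb2, hg⟩ := bruhat g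
      refine ⟨DoubleCoset.mk (YS a) (YS b) σ, ?_⟩
      change DoubleCoset.mk (PGL F a) (PGL F b) (wGL F σ) = DoubleCoset.mk (PGL F a) (PGL F b) g
      rw [DoubleCoset.eq]
      exact ⟨b1, upper_le_PGL a ha hb1, b2, upper_le_PGL b hb hb2, hg⟩

theorem card_dc_eq [Fintype F] (a b : Fin n → ℕ) (ha : Monotone a) (hb : Monotone b) :
    Nat.card (DoubleCoset.Quotient (YS a : Set (Equiv.Perm (Fin n))) (YS b)) =
      Nat.card (DoubleCoset.Quotient (PGL F a : Set (GL (Fin n) F)) (PGL F b)) :=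
  Nat.card_eq_of_bijective _ (dcMap_bijective a b ha hb)

theorem flag_inner_eq [Fintype F] [DecidableEq F] (ν μ : Fin n → ℕ) :
    (Nat.card (GL (Fin n) F) : ℂ)⁻¹ * ∑ g : GL (Fin n) F,
        Cfsg.fixedPointCharacter (Cfsg.parabolicGL n F ν) g *
          Cfsg.fixedPointCharacter (Cfsg.parabolicGL n F μ) g =
      (Nat.card (Equiv.Perm (Fin n)) : ℂ)⁻¹ * ∑ σ : Equiv.Perm (Fin n),
        Cfsg.fixedPointCharacter (Cfsg.youngSubgroup ν) σ *
          Cfsg.fixedPointCharacter (Cfsg.youngSubgroup μ) σ := by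
  rw [inner_eq_card_dc, inner_eq_card_dc, parabolicGL_eq, parabolicGL_eq, youngSubgroup_eq,
    youngSubgroup_eq, card_dc_eq (F := F) _ _ (compLabel_mono ν) (compLabel_mono μ)]

end Cfsg.Agent.Lib.H12.DCos
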