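import Mathlib

/-!
# Complete homogeneous polynomials and the identity `Σ_k c_{s,k} h_{m-k} = x_s^m` (helper12)
-/

set_option autoImplicit false
set_option linter.unusedSectionVars false

namespace Cfsg.Agent.Lib.H12.Uni

open MvPolynomial

/-- the monomial with exponent vector `e` -/
noncomputable def mono {n : ℕ} (e : Fin n → ℕ) : MvPolynomial (Fin n) ℤ :=
  monomial (Finsupp.equivFunOnFinite.symm e) 1

theorem mono_mul {n : ℕ} (e e' : Fin n → ℕ) : mono e * mono e' = mono (e + e') := by
  unfold mono
  rw [monomial_mul, one_mul]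
  congr 2
  ext i
  rfl

theorem mono_eq_prod {n : ℕ} (e : Fin n → ℕ) :
    mono e = ∏ s, (X s : MvPolynomial (Fin n) ℤ) ^ (e s) := by
  unfold mono
  rw [monomial_eq, C_1, one_mul, Finsupp.prod_fintype]
  · rfl
  · intro i
    exact pow_zero _

theorem coeff_mono {n : ℕ} (lam e : Fin n → ℕ) :
    coeff (Finsupp.equivFunOnFinite.symm lam) (mono e) = if e = lam then 1 else 0 := by
  classical
  unfold mono
  rw [coeff_monomial]
  by_cases h : e = lam
  · rw [if_pos h, if_pos (by rw [h])]
  · rw [if_neg h, if_neg]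
    intro h'
    exact h (Finsupp.equivFunOnFinite.symm.injective h')

/-- the complete homogeneous symmetric polynomial of degree `m` in `n` variables -/
noncomputable def hp (n m : ℕ) : MvPolynomial (Fin n) ℤ :=
  ∑ r ∈ Finset.Nat.antidiagonalTuple n m, mono r

theorem hp_zero (n : ℕ) : hp n 0 = 1 := by
  unfold hp
  have : Finset.Nat.antidiagonalTuple n 0 = {0} := by
    ext r
    rw [Finset.Nat.mem_antidiagonalTuple, Finset.mem_singleton]
    constructor
    · intro h
      funext i
      have := (Finset.sum_eq_zero_iff.mp h) i (Finset.mem_univ _)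
      exact this
    · intro h
      rw [h]
      simp
  rw [this, Finset.sum_singleton]
  unfold mono
  have : (Finsupp.equivFunOnFinite.symm (0 : Fin n → ℕ)) = 0 := by
    ext i; rfl
  rw [this]
  rfl

section PS

variable (n : ℕ)

/-- the geometric series `Σ x_l^k t^k` -/
noncomputable def geo (l : Fin n) : PowerSeries (MvPolynomial (Fin n) ℤ) :=
  PowerSeries.mk fun k => (X l : MvPolynomial (Fin n) ℤ) ^ k

/-- the linear polynomial `1 - x_l t` -/
noncomputable def lin (l : Fin n) : Polynomial (MvPolynomial (Fin n) ℤ) :=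
  1 - Polynomial.C (X l : MvPolynomial (Fin n) ℤ) * Polynomial.X

theorem lin_mul_geo (l : Fin n) :
    (lin n l : PowerSeries (MvPolynomial (Fin n) ℤ)) * geo n l = 1 := by
  unfold lin geo
  rw [Polynomial.coe_sub, Polynomial.coe_one, Polynomial.coe_mul, Polynomial.coe_C,
    Polynomial.coe_X, sub_mul, one_mul]
  ext k
  rw [map_sub, PowerSeries.coeff_mk, mul_assoc, PowerSeries.coeff_C_mul]
  cases k with
  | zero =>
    rw [PowerSeries.coeff_zero_X_mul, mul_zero, sub_zero, pow_zero, PowerSeries.coeff_zero_one]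
  | succ k =>
    rw [PowerSeries.coeff_succ_X_mul, PowerSeries.coeff_mk, PowerSeries.coeff_one,
      if_neg (Nat.succ_ne_zero k), pow_succ, mul_comm, sub_self]

/-- the generating series of the `hp` -/
noncomputable def Hser : PowerSeries (MvPolynomial (Fin n) ℤ) := ∏ l, geo n l

theorem coeff_Hser (m : ℕ) : PowerSeries.coeff m (Hser n) = hp n m := by
  classical
  unfold Hser hp
  rw [PowerSeries.coeff_prod]
  apply Finset.sum_bij' (fun (l : Fin n →₀ ℕ) _ => (l : Fin n → ℕ))
    (fun (r : Fin n → ℕ) _ => Finsupp.equivFunOnFinite.symm r)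
  · intro l hl
    rw [Finset.mem_finsuppAntidiag] at hl
    rw [Finset.Nat.mem_antidiagonalTuple]
    exact hl.1
  · intro r hr
    rw [Finset.Nat.mem_antidiagonalTuple] at hr
    rw [Finset.mem_finsuppAntidiag]
    exact ⟨hr, Finset.subset_univ _⟩
  · intro l _
    ext i
    rfl
  · intro r _
    rfl
  · intro l _
    rw [mono_eq_prod]
    apply Finset.prod_congr rfl
    intro i _
    unfold geo
    rw [PowerSeries.coeff_mk]

/-- `Π_{l ≠ s} (1 - x_l t)` -/
noncomputable def Epoly (s : Fin n) : Polynomial (MvPolynomial (Fin n) ℤ) :=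
  ∏ l ∈ Finset.univ.erase s, lin n l

theorem Epoly_mul_Hser (s : Fin n) :
    (Epoly n s : PowerSeries (MvPolynomial (Fin n) ℤ)) * Hser n = geo n s := by
  classical
  unfold Epoly Hser
  rw [← Finset.mul_prod_erase Finset.univ (geo n) (Finset.mem_univ s)]
  have h1 : ((∏ l ∈ Finset.univ.erase s, lin n l : Polynomial (MvPolynomial (Fin n) ℤ)) :
      PowerSeries (MvPolynomial (Fin n) ℤ)) =
      ∏ l ∈ Finset.univ.erase s, (lin n l : PowerSeries (MvPolynomial (Fin n) ℤ)) := by
    exact map_prod (Polynomial.coeToPowerSeries.ringHom (R := MvPolynomial (Fin n) ℤ))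
      (lin n) (Finset.univ.erase s)
  rw [h1, mul_comm (geo n s), ← mul_assoc, ← Finset.prod_mul_distrib]
  rw [Finset.prod_congr rfl (fun l _ => lin_mul_geo n l), Finset.prod_const_one, one_mul]

theorem natDegree_Epoly_lt (s : Fin n) : (Epoly n s).natDegree < n := by
  classical
  unfold Epoly
  have h1 := Polynomial.natDegree_prod_le (Finset.univ.erase s) (lin n)
  have h2 : ∑ l ∈ Finset.univ.erase s, (lin n l).natDegree ≤ ∑ l ∈ Finset.univ.erase s, 1 := by
    apply Finset.sum_le_sum
    intro l _
    unfold lin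
    refine le_trans (Polynomial.natDegree_sub_le _ _) ?_
    rw [Polynomial.natDegree_one]
    refine max_le (Nat.zero_le _) ?_
    exact le_trans (Polynomial.natDegree_C_mul_le _ _) Polynomial.natDegree_X_le
  rw [Finset.sum_const, smul_eq_mul, mul_one, Finset.card_erase_of_mem (Finset.mem_univ s),
    Finset.card_univ, Fintype.card_fin] at h2
  have hn : 0 < n := Fin.pos s
  omega

/-- the key identity -/
theorem key_identity (s : Fin n) (m : ℕ) :
    ∑ k : Fin n, (Epoly n s).coeff k * (if (k : ℕ) ≤ m then hp n (m - k) else 0) =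
      (X s : MvPolynomial (Fin n) ℤ) ^ m := by
  classical
  have h := congrArg (PowerSeries.coeff m) (Epoly_mul_Hser n s)
  rw [PowerSeries.coeff_mul, Finset.Nat.sum_antidiagonal_eq_sum_range_succ_mk] at h
  unfold geo at h
  rw [PowerSeries.coeff_mk] at h
  rw [← h]
  rw [Fin.sum_univ_eq_sum_range
    (fun k => (Epoly n s).coeff k * (if k ≤ m then hp n (m - k) else 0)) n]
  simp only [Polynomial.coeff_coe, coeff_Hser]
  -- both sums equal the sum over `range (max n (m+1))`
  have hA : ∀ N, n ≤ N → ∑ k ∈ Finset.range N,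
      (Epoly n s).coeff k * (if k ≤ m then hp n (m - k) else 0) =
      ∑ k ∈ Finset.range n, (Epoly n s).coeff k * (if k ≤ m then hp n (m - k) else 0) := by
    intro N hN
    symm
    apply Finset.sum_subset (Finset.range_subset_range.mpr hN)
    intro k _ hk
    rw [Finset.mem_range, not_lt] at hk
    rw [Polynomial.coeff_eq_zero_of_natDegree_lt (lt_of_lt_of_le (natDegree_Epoly_lt n s) hk),
      zero_mul]
  have hB : ∀ N, m + 1 ≤ N → ∑ k ∈ Finset.range N,
      (Epoly n s).coeff k * (if k ≤ m then hp n (m - k) else 0) =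
      ∑ k ∈ Finset.range m.succ, (Epoly n s).coeff k * hp n (m - k) := by
    intro N hN
    rw [← Finset.sum_subset (Finset.range_subset_range.mpr hN)]
    · apply Finset.sum_congr rfl
      intro k hk
      rw [Finset.mem_range] at hk
      rw [if_pos (by omega)]
    · intro k _ hk
      rw [Finset.mem_range, not_lt] at hk
      rw [if_neg (by omega), mul_zero]
  rw [← hA (max n (m + 1)) (le_max_left _ _), hB (max n (m + 1)) (le_max_right _ _)]

end PS

end Cfsg.Agent.Lib.H12.Uni
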