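import Mathlib
import Cfsg.Agent.Lib.H12.UniA

/-!
# Jacobi–Trudi = bialternant, and the orthogonality identity for contingency tables (helper12)
-/

set_option autoImplicit false
set_option linter.unusedSectionVars false

namespace Cfsg.Agent.Lib.H12.Uni

open MvPolynomial

variable {n : ℕ}

/-- the alternant `det (x_s ^ γ_j)` -/
noncomputable def alt (γ : Fin n → ℕ) : MvPolynomial (Fin n) ℤ :=
  Matrix.det (Matrix.of fun s j => (X s : MvPolynomial (Fin n) ℤ) ^ (γ j))

/-- the matrix of the coefficients of `Π_{l ≠ s} (1 - x_l t)` -/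
noncomputable def Cm (n : ℕ) : Matrix (Fin n) (Fin n) (MvPolynomial (Fin n) ℤ) :=
  Matrix.of fun s k => (Epoly n s).coeff k

/-- the Jacobi–Trudi matrix -/
noncomputable def JT (lam : Fin n → ℕ) : Matrix (Fin n) (Fin n) (MvPolynomial (Fin n) ℤ) :=
  Matrix.of fun k t => if (k : ℕ) ≤ lam t then hp n (lam t - k) else 0

theorem Cm_mul_JT (lam : Fin n → ℕ) :
    Cm n * JT lam = Matrix.of fun s t => (X s : MvPolynomial (Fin n) ℤ) ^ (lam t) := by
  ext s t
  rw [Matrix.mul_apply, Matrix.of_apply]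
  rw [← key_identity n s (lam t)]
  rfl

theorem det_JT_delta : (JT (fun j : Fin n => (j : ℕ))).det = 1 := by
  have hup : (JT (fun j : Fin n => (j : ℕ))).BlockTriangular id := by
    intro k t hkt
    simp only [id] at hkt
    unfold JT
    rw [Matrix.of_apply, if_neg]
    rw [not_le]
    exact hkt
  rw [Matrix.det_of_isUpperTriangular hup]
  apply Finset.prod_eq_one
  intro k _
  unfold JT
  rw [Matrix.of_apply, if_pos le_rfl, Nat.sub_self, hp_zero]

theorem det_Cm : (Cm n).det = alt (fun j : Fin n => (j : ℕ)) := by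
  have h := congrArg Matrix.det (Cm_mul_JT (fun j : Fin n => (j : ℕ)))
  rw [Matrix.det_mul, det_JT_delta, mul_one] at h
  exact h

theorem alt_delta_mul_det_JT (lam : Fin n → ℕ) :
    alt (fun j : Fin n => (j : ℕ)) * (JT lam).det = alt lam := by
  have h := congrArg Matrix.det (Cm_mul_JT lam)
  rw [Matrix.det_mul, det_Cm] at h
  exact h

theorem mono_zero : mono (0 : Fin n → ℕ) = 1 := by
  rw [mono_eq_prod]
  simp

theorem mono_finset_prod {ι : Type*} (S : Finset ι) (f : ι → Fin n → ℕ) :
    ∏ t ∈ S, mono (f t) = mono (∑ t ∈ S, f t) := by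
  classical
  induction S using Finset.induction_on with
  | empty => rw [Finset.prod_empty, Finset.sum_empty, mono_zero]
  | insert a S ha ih => rw [Finset.prod_insert ha, Finset.sum_insert ha, ih, mono_mul]

/-- expansion of an alternant into monomials -/
theorem alt_eq_sum (γ : Fin n → ℕ) :
    alt γ = ∑ κ : Equiv.Perm (Fin n), ((Equiv.Perm.sign κ : ℤ) : MvPolynomial (Fin n) ℤ) *
      mono (fun s => γ (κ s)) := by
  unfold alt
  rw [Matrix.det_apply']
  rw [← Equiv.sum_comp (Equiv.inv (Equiv.Perm (Fin n)))]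
  apply Finset.sum_congr rfl
  intro κ _
  rw [Equiv.inv_apply, Equiv.Perm.sign_inv, mono_eq_prod]
  congr 1
  rw [← Equiv.prod_comp κ⁻¹ (fun s => (X s : MvPolynomial (Fin n) ℤ) ^ γ (κ s))]
  apply Finset.prod_congr rfl
  intro j _
  rw [Matrix.of_apply]
  congr 2
  simp

/-- contingency tables with prescribed column sums -/
def tab (β : Fin n → ℕ) : Finset (Fin n → Fin n → ℕ) :=
  Fintype.piFinset fun t => Finset.Nat.antidiagonalTuple n (β t)

theorem mem_tab (β : Fin n → ℕ) (A : Fin n → Fin n → ℕ) :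
    A ∈ tab β ↔ ∀ t, ∑ s, A t s = β t := by
  unfold tab
  rw [Fintype.mem_piFinset]
  simp only [Finset.Nat.mem_antidiagonalTuple]

/-- the number of contingency tables with row sums `α` and column sums `β` -/
def Ntab (α β : Fin n → ℕ) : ℕ :=
  ((tab β).filter fun A => ∀ s, ∑ t, A t s = α s).card

theorem prod_hp (β : Fin n → ℕ) :
    ∏ t, hp n (β t) = ∑ A ∈ tab β, mono (fun s => ∑ t, A t s) := by
  classical
  unfold hp tab
  rw [Finset.prod_univ_sum]
  apply Finset.sum_congr rfl
  intro A _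
  rw [mono_finset_prod]
  congr 1
  funext s
  rw [Finset.sum_apply]

theorem coeff_alt_delta_mul (lam β : Fin n → ℕ) :
    coeff (Finsupp.equivFunOnFinite.symm lam)
      (alt (fun j : Fin n => (j : ℕ)) * ∏ t, hp n (β t)) =
    ∑ κ : Equiv.Perm (Fin n), if ∀ s, ((κ s : Fin n) : ℕ) ≤ lam s then
      (Equiv.Perm.sign κ : ℤ) * (Ntab (fun s => lam s - (κ s : ℕ)) β : ℤ) else 0 := by
  classical
  rw [alt_eq_sum, prod_hp, Finset.sum_mul, coeff_sum]
  apply Finset.sum_congr rfl
  intro κ _
  rw [Finset.mul_sum, coeff_sum]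
  have h1 : ∀ A : Fin n → Fin n → ℕ,
      coeff (Finsupp.equivFunOnFinite.symm lam)
        (((Equiv.Perm.sign κ : ℤ) : MvPolynomial (Fin n) ℤ) *
          mono (fun s => ((κ s : Fin n) : ℕ)) * mono (fun s => ∑ t, A t s)) =
      if (∀ s, ((κ s : Fin n) : ℕ) + ∑ t, A t s = lam s) then (Equiv.Perm.sign κ : ℤ) else 0 := by
    intro A
    rw [mul_assoc, mono_mul]
    have : ((Equiv.Perm.sign κ : ℤ) : MvPolynomial (Fin n) ℤ) = C (Equiv.Perm.sign κ : ℤ) := by
      simp
    rw [this, coeff_C_mul, coeff_mono]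
    by_cases h : ∀ s, ((κ s : Fin n) : ℕ) + ∑ t, A t s = lam s
    · have hc : ((fun s => ((κ s : Fin n) : ℕ)) + fun s => ∑ t, A t s) = lam := by
        funext s
        rw [Pi.add_apply]
        exact h s
      rw [if_pos h, if_pos hc, mul_one]
    · rw [if_neg h, if_neg, mul_zero]
      intro h'
      apply h
      intro s
      have := congrFun h' s
      rw [Pi.add_apply] at this
      exact this
  rw [Finset.sum_congr rfl (fun A _ => h1 A)]
  rw [← Finset.sum_filter, Finset.sum_const, nsmul_eq_mul]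
  by_cases hk : ∀ s, ((κ s : Fin n) : ℕ) ≤ lam s
  · rw [if_pos hk, mul_comm]
    congr 2
    unfold Ntab
    congr 1
    ext A
    rw [Finset.mem_filter, Finset.mem_filter]
    constructor
    · rintro ⟨hA, h⟩
      refine ⟨hA, fun s => ?_⟩
      have h2 := h s
      show ∑ t, A t s = lam s - ((κ s : Fin n) : ℕ)
      omega
    · rintro ⟨hA, h⟩
      refine ⟨hA, fun s => ?_⟩
      have h2 : ∑ t, A t s = lam s - ((κ s : Fin n) : ℕ) := h s
      have h3 := hk s
      omega
  · rw [if_neg hk]
    have : (tab β).filter (fun A => ∀ s, ((κ s : Fin n) : ℕ) + ∑ t, A t s = lam s) = ∅ := by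
      rw [Finset.filter_eq_empty_iff]
      intro A _ h
      apply hk
      intro s
      have := h s
      omega
    rw [this, Finset.card_empty, Nat.cast_zero, zero_mul]

theorem det_JT_eq (lam : Fin n → ℕ) :
    (JT lam).det = ∑ κ : Equiv.Perm (Fin n), if ∀ t, ((κ t : Fin n) : ℕ) ≤ lam t then
      ((Equiv.Perm.sign κ : ℤ) : MvPolynomial (Fin n) ℤ) * ∏ t, hp n (lam t - (κ t : ℕ)) else 0 := by
  classical
  rw [Matrix.det_apply']
  apply Finset.sum_congr rfl
  intro κ _
  unfold JT
  simp only [Matrix.of_apply]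
  rw [Finset.prod_ite_zero]
  simp only [Finset.mem_univ, forall_true_left]
  split_ifs
  · rfl
  · rw [mul_zero]

theorem coeff_alt (lam lam' : Fin n → ℕ) (h : StrictMono lam) (h' : StrictMono lam') :
    coeff (Finsupp.equivFunOnFinite.symm lam) (alt lam') = if lam = lam' then 1 else 0 := by
  classical
  rw [alt_eq_sum, coeff_sum]
  have h1 : ∀ κ : Equiv.Perm (Fin n),
      coeff (Finsupp.equivFunOnFinite.symm lam)
        (((Equiv.Perm.sign κ : ℤ) : MvPolynomial (Fin n) ℤ) * mono (fun s => lam' (κ s))) =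
      if κ = 1 ∧ lam = lam' then 1 else 0 := by
    intro κ
    have : ((Equiv.Perm.sign κ : ℤ) : MvPolynomial (Fin n) ℤ) = C (Equiv.Perm.sign κ : ℤ) := by
      simp
    rw [this, coeff_C_mul, coeff_mono]
    by_cases hk : (fun s => lam' (κ s)) = lam
    · rw [if_pos hk]
      -- `κ` is strictly monotone, hence the identity
      have hκ : StrictMono κ := by
        intro i j hij
        by_contra hcon
        rw [not_lt] at hcon
        have h2 : lam' (κ j) ≤ lam' (κ i) := h'.monotone hcon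
        have h3 : lam i < lam j := h hij
        rw [← hk] at h3
        exact absurd h3 (not_lt.mpr h2)
      have hid : κ = 1 := by
        ext i
        have h4 := hκ.id_le i
        have h5 := hκ.le_id i
        simp only [id] at h4 h5
        rw [Equiv.Perm.one_apply]
        exact congrArg Fin.val (le_antisymm h5 h4)
      have hll : lam = lam' := by
        rw [← hk, hid]
        rfl
      rw [if_pos ⟨hid, hll⟩, hid, Equiv.Perm.sign_one]
      simp
    · rw [if_neg hk, mul_zero, if_neg]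
      rintro ⟨rfl, rfl⟩
      exact hk rfl
  rw [Finset.sum_congr rfl (fun κ _ => h1 κ)]
  by_cases hl : lam = lam'
  · rw [if_pos hl, Finset.sum_eq_single (1 : Equiv.Perm (Fin n))]
    · rw [if_pos ⟨rfl, hl⟩]
    · intro κ _ hκ
      rw [if_neg]
      rintro ⟨h2, -⟩
      exact hκ h2
    · intro h2; exact absurd (Finset.mem_univ _) h2
  · rw [if_neg hl]
    apply Finset.sum_eq_zero
    intro κ _
    rw [if_neg]
    rintro ⟨-, h2⟩
    exact hl h2

/-- the orthogonality identity -/
theorem orthogonality (lam lam' : Fin n → ℕ) (h : StrictMono lam) (h' : StrictMono lam') :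
    ∑ κ' : Equiv.Perm (Fin n), ∑ κ : Equiv.Perm (Fin n),
      (if (∀ t, ((κ' t : Fin n) : ℕ) ≤ lam' t) ∧ (∀ s, ((κ s : Fin n) : ℕ) ≤ lam s) then
        (Equiv.Perm.sign κ' : ℤ) * (Equiv.Perm.sign κ : ℤ) *
          (Ntab (fun s => lam s - (κ s : ℕ)) (fun t => lam' t - (κ' t : ℕ)) : ℤ) else 0) =
      if lam = lam' then 1 else 0 := by
  classical
  rw [← coeff_alt lam lam' h h', ← alt_delta_mul_det_JT, det_JT_eq, Finset.mul_sum, coeff_sum]
  apply Finset.sum_congr rfl
  intro κ' _
  by_cases hk' : ∀ t, ((κ' t : Fin n) : ℕ) ≤ lam' t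
  · rw [if_pos hk']
    have : ((Equiv.Perm.sign κ' : ℤ) : MvPolynomial (Fin n) ℤ) = C (Equiv.Perm.sign κ' : ℤ) := by
      simp
    rw [this, ← mul_assoc, mul_comm _ (C _), mul_assoc, coeff_C_mul, coeff_alt_delta_mul,
      Finset.mul_sum]
    apply Finset.sum_congr rfl
    intro κ _
    by_cases hk : ∀ s, ((κ s : Fin n) : ℕ) ≤ lam s
    · rw [if_pos hk, if_pos ⟨hk', hk⟩, mul_assoc]
    · rw [if_neg hk, if_neg (fun hh => hk hh.2), mul_zero]
  · rw [if_neg hk', mul_zero, coeff_zero]
    apply Finset.sum_eq_zero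
    intro κ _
    rw [if_neg (fun hh => hk' hh.1)]

end Cfsg.Agent.Lib.H12.Uni
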