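import Mathlib
import Cfsg.Agent.Lib.H12.UniB
import Cfsg.Agent.Lib.H12.DCosD
import Cfsg.Agent.Lib.H12.ParabC

/-!
# Young double cosets and contingency tables (helper12)
-/

set_option autoImplicit false
set_option linter.unusedSectionVars false

namespace Cfsg.Agent.Lib.H12.Uni

open Cfsg.Agent.Lib.H12.DCos

variable {n : ℕ}

/-- the table of a permutation -/
def tabOf (a b : Fin n → ℕ) (σ : Equiv.Perm (Fin n)) : Fin n → Fin n → ℕ :=
  fun t s => Ncount a b σ (s : ℕ) (t : ℕ)

theorem Ncount_young (a b : Fin n → ℕ) (σ : Equiv.Perm (Fin n)) {y y' : Equiv.Perm (Fin n)}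
    (hy : y ∈ YS a) (hy' : y' ∈ YS b) (s t : ℕ) :
    Ncount a b (y * σ * y') s t = Ncount a b σ s t := by
  unfold Ncount
  apply Finset.card_equiv y'
  intro j
  rw [Finset.mem_filter, Finset.mem_filter]
  simp only [Finset.mem_univ, true_and]
  have h1 : a ((y * σ * y') j) = a (σ (y' j)) := by
    change a (y (σ (y' j))) = _
    exact (mem_YS a y).mp hy _
  have h2 : b (y' j) = b j := (mem_YS b y').mp hy' j
  rw [h1, h2]

theorem Ncount_eq_zero_left (a b : Fin n → ℕ) (ha : ∀ i, a i < n) (σ : Equiv.Perm (Fin n))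
    (s t : ℕ) (hs : n ≤ s) : Ncount a b σ s t = 0 := by
  unfold Ncount
  rw [Finset.card_eq_zero, Finset.filter_eq_empty_iff]
  intro j _ h
  have := ha (σ j)
  omega

theorem Ncount_eq_zero_right (a b : Fin n → ℕ) (hb : ∀ i, b i < n) (σ : Equiv.Perm (Fin n))
    (s t : ℕ) (ht : n ≤ t) : Ncount a b σ s t = 0 := by
  unfold Ncount
  rw [Finset.card_eq_zero, Finset.filter_eq_empty_iff]
  intro j _ h
  have := hb j
  omega

theorem sum_Ncount_left (a b : Fin n → ℕ) (ha : ∀ i, a i < n) (σ : Equiv.Perm (Fin n)) (t : ℕ) :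
    ∑ s : Fin n, Ncount a b σ (s : ℕ) t = (Finset.univ.filter fun j : Fin n => b j = t).card := by
  classical
  have hmaps : Set.MapsTo (fun j : Fin n => (⟨a (σ j), ha _⟩ : Fin n))
      ((Finset.univ.filter fun j : Fin n => b j = t) : Finset (Fin n))
      ((Finset.univ : Finset (Fin n)) : Set (Fin n)) := by
    intro j _
    exact Finset.mem_coe.mpr (Finset.mem_univ _)
  rw [Finset.card_eq_sum_card_fiberwise hmaps]
  apply Finset.sum_congr rfl
  intro s _
  unfold Ncount
  congr 1
  ext j
  simp only [Finset.mem_filter, Finset.mem_univ, true_and]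
  constructor
  · rintro ⟨h1, h2⟩
    exact ⟨h2, Fin.ext h1⟩
  · rintro ⟨h2, h1⟩
    exact ⟨congrArg Fin.val h1, h2⟩

theorem sum_Ncount_right (a b : Fin n → ℕ) (hb : ∀ i, b i < n) (σ : Equiv.Perm (Fin n)) (s : ℕ) :
    ∑ t : Fin n, Ncount a b σ s (t : ℕ) = (Finset.univ.filter fun i : Fin n => a i = s).card := by
  classical
  have h0 : (Finset.univ.filter fun i : Fin n => a i = s).card =
      (Finset.univ.filter fun j : Fin n => a (σ j) = s).card := by
    symm
    apply Finset.card_equiv σ
    intro j
    simp only [Finset.mem_filter, Finset.mem_univ, true_and]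
  rw [h0]
  have hmaps : Set.MapsTo (fun j : Fin n => (⟨b j, hb _⟩ : Fin n))
      ((Finset.univ.filter fun j : Fin n => a (σ j) = s) : Finset (Fin n))
      ((Finset.univ : Finset (Fin n)) : Set (Fin n)) := by
    intro j _
    exact Finset.mem_coe.mpr (Finset.mem_univ _)
  rw [Finset.card_eq_sum_card_fiberwise hmaps]
  apply Finset.sum_congr rfl
  intro t _
  unfold Ncount
  congr 1
  ext j
  simp only [Finset.mem_filter, Finset.mem_univ, true_and]
  constructor
  · rintro ⟨h1, h2⟩
    exact ⟨h1, Fin.ext h2⟩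
  · rintro ⟨h1, h2⟩
    exact ⟨h1, congrArg Fin.val h2⟩

theorem card_sigma_filter {P Q : Type*} [Fintype P] [DecidableEq Q] (c : P → ℕ) (f : P → Q) (q : Q) :
    Fintype.card {x : (Σ p : P, Fin (c p)) // f x.1 = q} = ∑ p, if f p = q then c p else 0 := by
  classical
  rw [Fintype.card_subtype, Finset.card_filter, Fintype.sum_sigma]
  apply Finset.sum_congr rfl
  intro p _
  change (∑ _y : Fin (c p), if f p = q then 1 else 0) = _
  rw [Finset.sum_const, Finset.card_univ, Fintype.card_fin]
  split_ifs <;> simp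

/-- every table with the right margins comes from a permutation -/
theorem exists_perm_of_tab (a b : Fin n → ℕ) (ha : ∀ i, a i < n) (hb : ∀ i, b i < n)
    (A : Fin n → Fin n → ℕ)
    (hA1 : ∀ t : Fin n, ∑ s, A t s = (Finset.univ.filter fun j : Fin n => b j = (t : ℕ)).card)
    (hA2 : ∀ s : Fin n, ∑ t, A t s = (Finset.univ.filter fun i : Fin n => a i = (s : ℕ)).card) :
    ∃ σ : Equiv.Perm (Fin n), tabOf a b σ = A := by
  classical
  let c : Fin n × Fin n → ℕ := fun p => A p.1 p.2
  let X := Σ p : Fin n × Fin n, Fin (c p)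
  have hfib1 : ∀ t : Fin n, Nonempty ({j : Fin n // (⟨b j, hb j⟩ : Fin n) = t} ≃
      {x : X // x.1.1 = t}) := by
    intro t
    apply Fintype.card_eq.mp
    rw [card_sigma_filter c (fun p => p.1) t, Fintype.card_subtype, Fintype.sum_prod_type]
    rw [Finset.sum_eq_single t]
    · simp only [if_true]
      rw [hA1 t]
      congr 1
      ext j
      simp only [Finset.mem_filter, Finset.mem_univ, true_and]
      constructor
      · intro h; exact congrArg Fin.val h
      · intro h; exact Fin.ext h
    · intro t' _ ht'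
      apply Finset.sum_eq_zero
      intro s _
      rw [if_neg ht']
    · intro h; exact absurd (Finset.mem_univ _) h
  have hfib2 : ∀ s : Fin n, Nonempty ({i : Fin n // (⟨a i, ha i⟩ : Fin n) = s} ≃
      {x : X // x.1.2 = s}) := by
    intro s
    apply Fintype.card_eq.mp
    rw [card_sigma_filter c (fun p => p.2) s, Fintype.card_subtype, Fintype.sum_prod_type,
      Finset.sum_comm]
    rw [Finset.sum_eq_single s]
    · simp only [if_true]
      rw [hA2 s]
      congr 1
      ext j
      simp only [Finset.mem_filter, Finset.mem_univ, true_and]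
      constructor
      · intro h; exact congrArg Fin.val h
      · intro h; exact Fin.ext h
    · intro s' _ hs'
      apply Finset.sum_eq_zero
      intro t _
      rw [if_neg hs']
    · intro h; exact absurd (Finset.mem_univ _) h
  set e1 : Fin n ≃ X := Equiv.ofFiberEquiv (fun t => (hfib1 t).some) with he1
  set e2 : Fin n ≃ X := Equiv.ofFiberEquiv (fun s => (hfib2 s).some) with he2
  have h1 : ∀ j, (e1 j).1.1 = (⟨b j, hb j⟩ : Fin n) := fun j =>
    Equiv.ofFiberEquiv_map (fun t => (hfib1 t).some) j
  have h2 : ∀ i, (e2 i).1.2 = (⟨a i, ha i⟩ : Fin n) := fun i =>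
    Equiv.ofFiberEquiv_map (fun s => (hfib2 s).some) i
  refine ⟨e1.trans e2.symm, ?_⟩
  funext t s
  unfold tabOf Ncount
  have h3 : ∀ j : Fin n, (a ((e1.trans e2.symm) j) = (s : ℕ) ∧ b j = (t : ℕ)) ↔ (e1 j).1 = (t, s) := by
    intro j
    have h4 := h2 ((e1.trans e2.symm) j)
    rw [Equiv.trans_apply, Equiv.apply_symm_apply] at h4
    have h5 := h1 j
    constructor
    · rintro ⟨h6, h7⟩
      apply Prod.ext
      · rw [h5]; exact Fin.ext h7
      · rw [h4]; exact Fin.ext h6
    · intro h6
      constructor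
      · have := congrArg Prod.snd h6
        rw [h4] at this
        exact congrArg Fin.val this
      · have := congrArg Prod.fst h6
        rw [h5] at this
        exact congrArg Fin.val this
  rw [Finset.filter_congr (fun j _ => h3 j)]
  have h8 : (Finset.univ.filter fun j : Fin n => (e1 j).1 = (t, s)).card =
      (Finset.univ.filter fun x : X => x.1 = (t, s)).card := by
    apply Finset.card_equiv e1
    intro j
    simp only [Finset.mem_filter, Finset.mem_univ, true_and]
  rw [h8, ← Fintype.card_subtype, Fintype.card_congr (Equiv.sigmaSubtype (t, s)), Fintype.card_fin]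

/-- the number of Young double cosets is the number of contingency tables -/
theorem card_dc_young (a b : Fin n → ℕ) (ha : ∀ i, a i < n) (hb : ∀ i, b i < n)
    (α β : Fin n → ℕ)
    (hα : ∀ s : Fin n, (Finset.univ.filter fun i : Fin n => a i = (s : ℕ)).card = α s)
    (hβ : ∀ t : Fin n, (Finset.univ.filter fun j : Fin n => b j = (t : ℕ)).card = β t) :
    Nat.card (DoubleCoset.Quotient (YS a : Set (Equiv.Perm (Fin n))) (YS b)) = Ntab α β := by
  classical
  have hmem : ∀ σ : Equiv.Perm (Fin n),
      tabOf a b σ ∈ (tab β).filter fun A => ∀ s, ∑ t, A t s = α s := by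
    intro σ
    rw [Finset.mem_filter, mem_tab]
    constructor
    · intro t
      rw [← hβ t]
      exact sum_Ncount_left a b ha σ t
    · intro s
      rw [← hα s]
      exact sum_Ncount_right a b hb σ s
  let Φ : DoubleCoset.Quotient (YS a : Set (Equiv.Perm (Fin n))) (YS b) →
      {A // A ∈ (tab β).filter fun A => ∀ s, ∑ t, A t s = α s} :=
    Quotient.lift (fun σ => ⟨tabOf a b σ, hmem σ⟩) (by
      intro σ τ hστ
      have h' : ∃ y ∈ YS a, ∃ y' ∈ YS b, τ = y * σ * y' := DoubleCoset.rel_iff.mp hστ
      obtain ⟨y, hy, y', hy', rfl⟩ := h'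
      apply Subtype.ext
      funext t s
      exact (Ncount_young a b σ hy hy' s t).symm)
  have hbij : Function.Bijective Φ := by
    constructor
    · intro x y hxy
      induction x using Quotient.inductionOn with
      | h σ =>
        induction y using Quotient.inductionOn with
        | h τ =>
          have h1 : tabOf a b σ = tabOf a b τ := congrArg Subtype.val hxy
          have h2 : ∀ s t, Ncount a b σ s t = Ncount a b τ s t := by
            intro s t
            by_cases hs : s < n
            · by_cases ht : t < n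
              · exact congrFun (congrFun h1 ⟨t, ht⟩) ⟨s, hs⟩
              · rw [Ncount_eq_zero_right a b hb σ s t (not_lt.mp ht),
                  Ncount_eq_zero_right a b hb τ s t (not_lt.mp ht)]
            · rw [Ncount_eq_zero_left a b ha σ s t (not_lt.mp hs),
                Ncount_eq_zero_left a b ha τ s t (not_lt.mp hs)]
          obtain ⟨y, hy, y', hy', hyy'⟩ := exists_young_of_Ncount_eq a b σ τ h2
          change DoubleCoset.mk (YS a) (YS b) σ = DoubleCoset.mk (YS a) (YS b) τ
          rw [DoubleCoset.eq]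
          exact ⟨y, hy, y', hy', hyy'⟩
    · rintro ⟨A, hA⟩
      rw [Finset.mem_filter, mem_tab] at hA
      obtain ⟨σ, hσ⟩ := exists_perm_of_tab a b ha hb A
        (fun t => by rw [hA.1 t, hβ t]) (fun s => by rw [hA.2 s, hα s])
      refine ⟨DoubleCoset.mk (YS a) (YS b) σ, ?_⟩
      apply Subtype.ext
      exact hσ
  rw [Nat.card_eq_of_bijective Φ hbij, Nat.card_eq_fintype_card, Fintype.card_coe]
  rfl

/-- the version for compositions -/
theorem card_dc_comp (α β : Fin n → ℕ) (hα : ∑ i, α i = n) (hβ : ∑ i, β i = n) :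
    Nat.card (DoubleCoset.Quotient (YS (Cfsg.compLabel α) : Set (Equiv.Perm (Fin n)))
      (YS (Cfsg.compLabel β))) = Ntab α β :=
  card_dc_young _ _ (Cfsg.Agent.Lib.H12.Parab.compLabel_lt α hα)
    (Cfsg.Agent.Lib.H12.Parab.compLabel_lt β hβ) α β
    (fun s => Cfsg.Agent.Lib.H12.Parab.card_label_fiber α hα s s.2)
    (fun t => Cfsg.Agent.Lib.H12.Parab.card_label_fiber β hβ t t.2)

end Cfsg.Agent.Lib.H12.Uni
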