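import Mathlib
import Cfsg.Agent.Lib.H12.UniC
import Cfsg.Agent.Lib.H12.ParabF
import Cfsg.Agent.Lib.H8.GenChar
import Cfsg.Agent.Lib.L0.CharPerm
import Cfsg.Agent.Lib.L0.CharIndChar

/-!
# The unipotent characters of `GL_n(q)` are orthonormal, hence irreducible (helper12)
-/

set_option autoImplicit false
set_option linter.unusedSectionVars false

namespace Cfsg.Agent.Lib.H12.Uni

open Cfsg.Agent.Lib.H12.DCos
open scoped ComplexConjugate

section general

variable {G : Type*} [Group G] [Fintype G]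

theorem isCharacter_fixedPointCharacter (H : Subgroup G) :
    Cfsg.IsCharacter G (Cfsg.fixedPointCharacter H) := by
  have h := Cfsg.Agent.Lib.L0.fixedPoints_eq_indFun (G := G) (G ⧸ H) ((1 : G) : G ⧸ H)
  have h2 : Cfsg.fixedPointCharacter H =
      fun g : G => (Nat.card (MulAction.fixedBy (G ⧸ H) g) : ℂ) := rfl
  rw [h2, h]
  apply Cfsg.Agent.Lib.L0.isCharacter_indFun
  exact Cfsg.Agent.Lib.L0.isCharacter_of_irr Cfsg.Agent.Lib.L0.isIrrCharacter_one

theorem classInner_fixedPointCharacter (H K : Subgroup G) :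
    Cfsg.classInner (Cfsg.fixedPointCharacter H) (Cfsg.fixedPointCharacter K) =
      (Nat.card (DoubleCoset.Quotient (H : Set G) K) : ℂ) := by
  rw [← inner_eq_card_dc]
  unfold Cfsg.classInner
  congr 1
  apply Finset.sum_congr rfl
  intro g _
  congr 1
  unfold Cfsg.fixedPointCharacter
  exact Complex.conj_natCast _

end general

variable {F : Type*} [Field F] [Fintype F] [DecidableEq F] {n : ℕ}

theorem classInner_parabolic (α β : Fin n → ℕ) (hα : ∑ i, α i = n) (hβ : ∑ i, β i = n) :
    Cfsg.classInner (Cfsg.fixedPointCharacter (Cfsg.parabolicGL n F α))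
      (Cfsg.fixedPointCharacter (Cfsg.parabolicGL n F β)) = (Ntab α β : ℂ) := by
  rw [classInner_fixedPointCharacter, parabolicGL_eq, parabolicGL_eq,
    ← card_dc_eq (F := F) _ _ (compLabel_mono α) (compLabel_mono β), card_dc_comp α β hα hβ]

/-- the coefficient of the flag character attached to `κ` -/
def coef (lam : Fin n → ℕ) (κ : Equiv.Perm (Fin n)) : ℤ :=
  if ∀ i, ((κ i : Fin n) : ℕ) ≤ lam i then (Equiv.Perm.sign κ : ℤ) else 0

theorem unipotent_eq_sum (ν : Fin n → ℕ) :
    Cfsg.unipotentCharacterGL n F ν = ∑ κ : Equiv.Perm (Fin n),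
      ((coef (fun i => ν i + (i : ℕ)) κ : ℤ) : ℂ) •
        Cfsg.fixedPointCharacter
          (Cfsg.parabolicGL n F fun i => ν i + (i : ℕ) - ((κ i : Fin n) : ℕ)) := by
  funext g
  unfold Cfsg.unipotentCharacterGL
  rw [Finset.sum_apply]
  apply Finset.sum_congr rfl
  intro κ _
  rw [Pi.smul_apply, smul_eq_mul]
  unfold coef
  split_ifs <;> simp

theorem isGeneralizedCharacter_unipotent (ν : Fin n → ℕ) :
    Cfsg.IsGeneralizedCharacter (GL (Fin n) F) (Cfsg.unipotentCharacterGL n F ν) := by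
  rw [unipotent_eq_sum]
  apply Cfsg.Agent.Lib.H8.isGeneralizedCharacter_sum
  intro κ _
  rw [Int.cast_smul_eq_zsmul]
  apply Cfsg.Agent.Lib.H8.isGeneralizedCharacter_zsmul
  apply Cfsg.Agent.Lib.H8.isGeneralizedCharacter_of_isCharacter
  exact isCharacter_fixedPointCharacter _

theorem classInner_unipotent (ν ν' : Fin n → ℕ) (hmono : Monotone ν) (hsum : ∑ i, ν i = n)
    (hmono' : Monotone ν') (hsum' : ∑ i, ν' i = n) :
    Cfsg.classInner (Cfsg.unipotentCharacterGL n F ν) (Cfsg.unipotentCharacterGL n F ν') =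
      if ν = ν' then 1 else 0 := by
  classical
  set lam : Fin n → ℕ := fun i => ν i + (i : ℕ) with hlam
  set lam' : Fin n → ℕ := fun i => ν' i + (i : ℕ) with hlam'
  have hs : StrictMono lam := by
    intro i j hij
    have h1 := hmono hij.le
    have h2 : (i : ℕ) < (j : ℕ) := hij
    simp only [hlam]
    omega
  have hs' : StrictMono lam' := by
    intro i j hij
    have h1 := hmono' hij.le
    have h2 : (i : ℕ) < (j : ℕ) := hij
    simp only [hlam']
    omega
  have hll : lam = lam' ↔ ν = ν' := by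
    constructor
    · intro h
      funext i
      have := congrFun h i
      simp only [hlam, hlam'] at this
      omega
    · intro h
      rw [hlam, hlam', h]
  rw [unipotent_eq_sum, unipotent_eq_sum, Cfsg.Agent.Lib.L0.classInner_sum_left]
  have hterm : ∀ κ κ' : Equiv.Perm (Fin n),
      ((coef lam κ : ℤ) : ℂ) * (conj ((coef lam' κ' : ℤ) : ℂ) *
        Cfsg.classInner (Cfsg.fixedPointCharacter
            (Cfsg.parabolicGL n F fun i => lam i - ((κ i : Fin n) : ℕ)))
          (Cfsg.fixedPointCharacter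
            (Cfsg.parabolicGL n F fun i => lam' i - ((κ' i : Fin n) : ℕ)))) =
      (((if (∀ t, ((κ' t : Fin n) : ℕ) ≤ lam' t) ∧ (∀ s, ((κ s : Fin n) : ℕ) ≤ lam s) then
        (Equiv.Perm.sign κ' : ℤ) * (Equiv.Perm.sign κ : ℤ) *
          (Ntab (fun s => lam s - ((κ s : Fin n) : ℕ))
            (fun t => lam' t - ((κ' t : Fin n) : ℕ)) : ℤ) else 0 : ℤ)) : ℂ) := by
    intro κ κ'
    rw [show conj ((coef lam' κ' : ℤ) : ℂ) = ((coef lam' κ' : ℤ) : ℂ) from Complex.conj_eq_iff_re.mpr rfl]
    by_cases hk : ∀ s, ((κ s : Fin n) : ℕ) ≤ lam s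
    · by_cases hk' : ∀ t, ((κ' t : Fin n) : ℕ) ≤ lam' t
      · rw [if_pos ⟨hk', hk⟩, classInner_parabolic _ _
          (Cfsg.Agent.Lib.H12.Parab.sum_sub_perm lam κ ν (fun i => rfl) hsum hk)
          (Cfsg.Agent.Lib.H12.Parab.sum_sub_perm lam' κ' ν' (fun i => rfl) hsum' hk')]
        unfold coef
        rw [if_pos hk, if_pos hk']
        push_cast
        ring
      · rw [if_neg (fun h => hk' h.1)]
        unfold coef
        rw [if_neg hk']
        simp
    · rw [if_neg (fun h => hk h.2)]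
      unfold coef
      rw [if_neg hk]
      simp
  have hexp : ∀ κ : Equiv.Perm (Fin n),
      Cfsg.classInner (((coef lam κ : ℤ) : ℂ) • Cfsg.fixedPointCharacter
            (Cfsg.parabolicGL n F fun i => lam i - ((κ i : Fin n) : ℕ)))
          (∑ κ' : Equiv.Perm (Fin n), ((coef lam' κ' : ℤ) : ℂ) • Cfsg.fixedPointCharacter
            (Cfsg.parabolicGL n F fun i => lam' i - ((κ' i : Fin n) : ℕ))) =
      ∑ κ' : Equiv.Perm (Fin n),
      (((if (∀ t, ((κ' t : Fin n) : ℕ) ≤ lam' t) ∧ (∀ s, ((κ s : Fin n) : ℕ) ≤ lam s) then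
        (Equiv.Perm.sign κ' : ℤ) * (Equiv.Perm.sign κ : ℤ) *
          (Ntab (fun s => lam s - ((κ s : Fin n) : ℕ))
            (fun t => lam' t - ((κ' t : Fin n) : ℕ)) : ℤ) else 0 : ℤ)) : ℂ) := by
    intro κ
    rw [Cfsg.Agent.Lib.L0.classInner_smul_left, Cfsg.Agent.Lib.L0.classInner_sum_right,
      Finset.mul_sum]
    apply Finset.sum_congr rfl
    intro κ' _
    rw [Cfsg.Agent.Lib.L0.classInner_smul_right]
    exact hterm κ κ'
  rw [Finset.sum_congr rfl (fun κ _ => hexp κ), Finset.sum_comm]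
  have horth := orthogonality lam lam' hs hs'
  have hcast := congrArg (Int.cast : ℤ → ℂ) horth
  rw [Int.cast_sum] at hcast
  simp only [Int.cast_sum] at hcast
  rw [hcast]
  by_cases h : ν = ν'
  · rw [if_pos h, if_pos (hll.mpr h)]
    simp
  · rw [if_neg h, if_neg (fun h' => h (hll.mp h'))]
    simp

/-- the degree is a positive integer -/
theorem unipotent_one_pos (ν : Fin n → ℕ) (hmono : Monotone ν) (hsum : ∑ i, ν i = n) :
    ∃ D : ℤ, 0 < D ∧ Cfsg.unipotentCharacterGL n F ν 1 = (D : ℂ) := by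
  classical
  refine ⟨∑ κ : Equiv.Perm (Fin n),
      if ∀ i : Fin n, ((κ i : Fin n) : ℕ) ≤ ν i + (i : ℕ) then
        ((Equiv.Perm.sign κ : ℤ)) * (Nat.card (GL (Fin n) F ⧸
          Cfsg.parabolicGL n F fun i => ν i + (i : ℕ) - ((κ i : Fin n) : ℕ)) : ℤ)
      else 0, ?_, ?_⟩
  · have hint := Cfsg.Agent.Lib.H12.Parab.degree_int (F := F) ν hsum
    have hq : 1 < Fintype.card F := Fintype.one_lt_card
    have hQn : ∀ r r', r < r' → Cfsg.Agent.Lib.H12.Parab.Qn (Fintype.card F) r <
        Cfsg.Agent.Lib.H12.Parab.Qn (Fintype.card F) r' := by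
      intro r r' hrr'
      unfold Cfsg.Agent.Lib.H12.Parab.Qn
      apply Finset.sum_lt_sum_of_subset (i := r)
      · intro x hx
        rw [Finset.mem_range] at hx ⊢
        omega
      · rw [Finset.mem_range]; exact hrr'
      · rw [Finset.mem_range]; omega
      · positivity
      · intro j _ _
        positivity
    have hR : (0 : ℤ) < (Cfsg.Agent.Lib.H12.Parab.QF (Fintype.card F) n : ℤ) *
        ∏ i : Fin n, ∏ j ∈ Finset.Ioi i,
          ((Cfsg.Agent.Lib.H12.Parab.Qn (Fintype.card F) (ν j + (j : ℕ)) : ℤ) -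
            (Cfsg.Agent.Lib.H12.Parab.Qn (Fintype.card F) (ν i + (i : ℕ)) : ℤ)) := by
      apply mul_pos
      · unfold Cfsg.Agent.Lib.H12.Parab.QF
        have : 0 < ∏ j ∈ Finset.range n, ∑ l ∈ Finset.range (j + 1), Fintype.card F ^ l := by
          apply Finset.prod_pos
          intro j _
          apply Finset.sum_pos
          · intro l _
            positivity
          · exact ⟨0, Finset.mem_range.mpr (Nat.succ_pos j)⟩
        exact_mod_cast this
      · apply Finset.prod_pos
        intro i _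
        apply Finset.prod_pos
        intro j hj
        rw [Finset.mem_Ioi] at hj
        have h1 := hmono hj.le
        have h2 : (i : ℕ) < (j : ℕ) := hj
        have h3 := hQn (ν i + (i : ℕ)) (ν j + (j : ℕ)) (by omega)
        have h4 : (Cfsg.Agent.Lib.H12.Parab.Qn (Fintype.card F) (ν i + (i : ℕ)) : ℤ) <
            (Cfsg.Agent.Lib.H12.Parab.Qn (Fintype.card F) (ν j + (j : ℕ)) : ℤ) := by
          exact_mod_cast h3
        linarith
    rw [← hint] at hR
    have hA : (0 : ℤ) ≤ (Fintype.card F : ℤ) ^ (∑ j ∈ Finset.range n, Cfsg.Agent.Lib.H12.Parab.TT j) := by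
      positivity
    have hB : (0 : ℤ) ≤ ∏ i : Fin n,
        (Cfsg.Agent.Lib.H12.Parab.QF (Fintype.card F) (ν i + (i : ℕ)) : ℤ) := by
      apply Finset.prod_nonneg
      intro i _
      positivity
    by_contra hneg
    rw [not_lt] at hneg
    have h5 := mul_nonpos_of_nonpos_of_nonneg hneg hA
    have h6 := mul_nonpos_of_nonpos_of_nonneg h5 hB
    exact absurd hR (not_lt.mpr h6)
  · unfold Cfsg.unipotentCharacterGL
    rw [Int.cast_sum]
    apply Finset.sum_congr rfl
    intro κ _
    split_ifs with h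
    · rw [Cfsg.Agent.Lib.H12.Parab.fixedPointCharacter_one]
      push_cast
      rfl
    · simp

theorem isIrrCharacter_unipotent (ν : Fin n → ℕ) (hmono : Monotone ν) (hsum : ∑ i, ν i = n) :
    Cfsg.IsIrrCharacter (GL (Fin n) F) (Cfsg.unipotentCharacterGL n F ν) := by
  have h1 := classInner_unipotent (F := F) ν ν hmono hsum hmono hsum
  rw [if_pos rfl] at h1
  rcases Cfsg.Agent.Lib.H8.genChar_norm_one (isGeneralizedCharacter_unipotent ν) h1 with h | h
  · exact h
  · exfalso
    obtain ⟨m, hm⟩ := Cfsg.Agent.Lib.L0.isCharacter_apply_one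
      (Cfsg.Agent.Lib.L0.isCharacter_of_irr h)
    obtain ⟨D, hD, hD1⟩ := unipotent_one_pos (F := F) ν hmono hsum
    rw [Pi.neg_apply, hD1] at hm
    have : (-D : ℤ) = (m : ℤ) := by exact_mod_cast hm
    omega

theorem unipotent_injective (ν ν' : Fin n → ℕ) (hmono : Monotone ν) (hsum : ∑ i, ν i = n)
    (hmono' : Monotone ν') (hsum' : ∑ i, ν' i = n)
    (h : Cfsg.unipotentCharacterGL n F ν = Cfsg.unipotentCharacterGL n F ν') : ν = ν' := by
  by_contra hne
  have h1 := classInner_unipotent (F := F) ν ν' hmono hsum hmono' hsum'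
  have h2 := classInner_unipotent (F := F) ν ν hmono hsum hmono hsum
  rw [if_neg hne, ← h, h2, if_pos rfl] at h1
  exact one_ne_zero h1

end Cfsg.Agent.Lib.H12.Uni
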