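import Mathlib
import Cfsg.Agent.Lib.H12.BNStA
import Cfsg.Agent.Lib.H12.UniD
import Cfsg.Agent.Lib.H8.GenChar
import Cfsg.Agent.Lib.L0.CharOps

/-!
# (B,N)-pairs: the alternating sum of parabolic permutation characters is irreducible (helper12)
-/

set_option autoImplicit false
set_option linter.unusedSectionVars false

namespace Cfsg.Agent.Lib.H12.BNSt

open Cfsg.Agent.Lib.H2 Cfsg.Agent.Lib.H2.CoxExch Cfsg.Agent Cfsg.Agent.Lib.H12
open scoped ComplexConjugate

variable {G : Type*} [Group G] (P : Cfsg.BNPair G) {ι : Type*} [DecidableEq ι]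
  (s : Finset ι) (e : ι → G)

open Classical in
/-- the generator of the Weyl group labelled by `i` -/
noncomputable def sgi (i : ι) : Wg P := if h : e i ∈ P.S then S0320.sg P ⟨e i, h⟩ else 1


open Classical in
/-- the left ascents -/
noncomputable def AL (x : Wg P) : Finset ι :=
  s.filter fun i => CoxD.len (S0320.sg P) x < CoxD.len (S0320.sg P) (sgi P e i * x)

open Classical in
/-- the right ascents -/
noncomputable def AR (x : Wg P) : Finset ι :=
  s.filter fun i => CoxD.len (S0320.sg P) x < CoxD.len (S0320.sg P) (x * sgi P e i)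

variable {s e}

theorem sgi_of_mem {i : ι} (h : e i ∈ P.S) : sgi P e i = S0320.sg P ⟨e i, h⟩ := by
  unfold sgi
  rw [dif_pos h]

theorem mem_S_of_mem (hS : e '' (s : Set ι) = P.S) {i : ι} (hi : i ∈ s) : e i ∈ P.S := by
  rw [← hS]; exact ⟨i, hi, rfl⟩

theorem image_subset_S (hS : e '' (s : Set ι) = P.S) {J : Finset ι} (hJ : J ⊆ s) :
    e '' (J : Set ι) ⊆ P.S := by
  rw [← hS]
  exact Set.image_mono (by exact_mod_cast hJ)

theorem mem_DL_iff (hS : e '' (s : Set ι) = P.S) {J : Finset ι} (hJ : J ⊆ s) (x : Wg P) :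
    x ∈ CoxD.DL (S0320.sg P) (JS P (e '' (J : Set ι))) ↔ J ⊆ AL P s e x := by
  constructor
  · intro h i hi
    have his := hJ hi
    have hiS := mem_S_of_mem P hS his
    unfold AL
    rw [Finset.mem_filter]
    refine ⟨his, ?_⟩
    rw [sgi_of_mem P hiS]
    exact h ⟨e i, hiS⟩ ⟨i, hi, rfl⟩
  · intro h t ht
    obtain ⟨i, hi, hit⟩ := ht
    have h1 := h hi
    unfold AL at h1
    rw [Finset.mem_filter] at h1
    have hiS : e i ∈ P.S := by rw [hit]; exact t.2
    rw [sgi_of_mem P hiS] at h1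
    have e1 : (⟨e i, hiS⟩ : P.S) = t := Subtype.ext hit
    rw [e1] at h1
    exact h1.2

theorem mem_DR_iff (hS : e '' (s : Set ι) = P.S) {J : Finset ι} (hJ : J ⊆ s) (x : Wg P) :
    x ∈ CoxD.DR (S0320.sg P) (JS P (e '' (J : Set ι))) ↔ J ⊆ AR P s e x := by
  constructor
  · intro h i hi
    have his := hJ hi
    have hiS := mem_S_of_mem P hS his
    unfold AR
    rw [Finset.mem_filter]
    refine ⟨his, ?_⟩
    rw [sgi_of_mem P hiS]
    exact h ⟨e i, hiS⟩ ⟨i, hi, rfl⟩
  · intro h t ht
    obtain ⟨i, hi, hit⟩ := ht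
    have h1 := h hi
    unfold AR at h1
    rw [Finset.mem_filter] at h1
    have hiS : e i ∈ P.S := by rw [hit]; exact t.2
    rw [sgi_of_mem P hiS] at h1
    have e1 : (⟨e i, hiS⟩ : P.S) = t := Subtype.ext hit
    rw [e1] at h1
    exact h1.2

theorem AL_eq_empty_iff (hS : e '' (s : Set ι) = P.S) (x : Wg P) :
    AL P s e x = ∅ ↔ CoxD.FullL (S0320.sg P) x := by
  constructor
  · intro h t
    have ht : (t : G) ∈ e '' (s : Set ι) := by rw [hS]; exact t.2
    obtain ⟨i, hi, hit⟩ := ht
    have hiS : e i ∈ P.S := by rw [hit]; exact t.2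
    have h1 : i ∉ AL P s e x := by rw [h]; exact Finset.notMem_empty i
    unfold AL at h1
    rw [Finset.mem_filter, sgi_of_mem P hiS] at h1
    have e1 : (⟨e i, hiS⟩ : P.S) = t := Subtype.ext hit
    rw [e1] at h1
    have h2 : ¬ CoxD.len (S0320.sg P) x < CoxD.len (S0320.sg P) (S0320.sg P t * x) :=
      fun h3 => h1 ⟨hi, h3⟩
    rcases CoxD.len_simple_mul_cases (sg_exch P) (sg_surj P) t x with h3 | h3 <;> omega
  · intro h
    rw [Finset.eq_empty_iff_forall_notMem]
    intro i hi
    unfold AL at hi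
    rw [Finset.mem_filter] at hi
    have hiS := mem_S_of_mem P hS hi.1
    rw [sgi_of_mem P hiS] at hi
    have := h ⟨e i, hiS⟩
    omega

theorem AR_eq_empty_iff (hS : e '' (s : Set ι) = P.S) (x : Wg P) :
    AR P s e x = ∅ ↔ CoxD.Full (S0320.sg P) x := by
  constructor
  · intro h t
    have ht : (t : G) ∈ e '' (s : Set ι) := by rw [hS]; exact t.2
    obtain ⟨i, hi, hit⟩ := ht
    have hiS : e i ∈ P.S := by rw [hit]; exact t.2
    have h1 : i ∉ AR P s e x := by rw [h]; exact Finset.notMem_empty i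
    unfold AR at h1
    rw [Finset.mem_filter, sgi_of_mem P hiS] at h1
    have e1 : (⟨e i, hiS⟩ : P.S) = t := Subtype.ext hit
    rw [e1] at h1
    have h2 : ¬ CoxD.len (S0320.sg P) x < CoxD.len (S0320.sg P) (x * S0320.sg P t) :=
      fun h3 => h1 ⟨hi, h3⟩
    rcases CoxD.len_mul_simple_cases (sg_exch P) (sg_surj P) t x with h3 | h3 <;> omega
  · intro h
    rw [Finset.eq_empty_iff_forall_notMem]
    intro i hi
    unfold AR at hi
    rw [Finset.mem_filter] at hi
    have hiS := mem_S_of_mem P hS hi.1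
    rw [sgi_of_mem P hiS] at hi
    have := h ⟨e i, hiS⟩
    omega

theorem AL_subset (x : Wg P) : AL P s e x ⊆ s := Finset.filter_subset _ _

theorem AR_subset (x : Wg P) : AR P s e x ⊆ s := Finset.filter_subset _ _

variable (s e)

/-- the alternating sum of the permutation characters on the standard parabolic subgroups -/
noncomputable def St (g : G) : ℂ :=
  ∑ J ∈ s.powerset, (-1 : ℂ) ^ J.card * Cfsg.fixedPointCharacter (P.parabolic (e '' (J : Set ι))) g

theorem St_eq_sum : St P s e = ∑ J ∈ s.powerset,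
    ((-1 : ℂ) ^ J.card) • Cfsg.fixedPointCharacter (P.parabolic (e '' (J : Set ι))) := by
  funext g
  rw [Finset.sum_apply]
  rfl

variable {s e}

section fin

variable [Fintype G]

/-- the longest element of the Weyl group -/
theorem exists_w0 : ∃ w₀ : Wg P, CoxD.Full (S0320.sg P) w₀ ∧ CoxD.FullL (S0320.sg P) w₀ ∧
    (∀ x, CoxD.Full (S0320.sg P) x → x = w₀) ∧ (∀ x, CoxD.FullL (S0320.sg P) x → x = w₀) := by
  obtain ⟨w₀, h1, h2⟩ := CoxD.exists_full (sg_exch P) (sg_surj P)
  refine ⟨w₀, h1, h2, fun x hx => hx.unique (sg_exch P) (sg_surj P) h1, fun x hx => ?_⟩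
  exact (hx.full (sg_exch P) (sg_surj P)).unique (sg_exch P) (sg_surj P) h1

theorem classInner_par (hS : e '' (s : Set ι) = P.S) {J K : Finset ι} (hJ : J ⊆ s) (hK : K ⊆ s) :
    Cfsg.classInner (Cfsg.fixedPointCharacter (P.parabolic (e '' (J : Set ι))))
      (Cfsg.fixedPointCharacter (P.parabolic (e '' (K : Set ι)))) =
    (Nat.card {x : Wg P // J ⊆ AL P s e x ∧ K ⊆ AR P s e x} : ℂ) := by
  rw [Uni.classInner_fixedPointCharacter,
    card_dc P (image_subset_S P hS hJ) (image_subset_S P hS hK)]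
  congr 1
  apply Nat.card_congr
  apply Equiv.subtypeEquivRight
  intro x
  rw [mem_DL_iff P hS hJ, mem_DR_iff P hS hK]

open Classical in
theorem classInner_St_par (hS : e '' (s : Set ι) = P.S) {K : Finset ι} (hK : K ⊆ s) :
    Cfsg.classInner (St P s e) (Cfsg.fixedPointCharacter (P.parabolic (e '' (K : Set ι)))) =
      if K = ∅ then 1 else 0 := by
  haveI : Fintype (Wg P) := Fintype.ofFinite _
  rw [St_eq_sum, Cfsg.Agent.Lib.L0.classInner_sum_left]
  have h1 : ∀ J ∈ s.powerset, Cfsg.classInner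
      (((-1 : ℂ) ^ J.card) • Cfsg.fixedPointCharacter (P.parabolic (e '' (J : Set ι))))
      (Cfsg.fixedPointCharacter (P.parabolic (e '' (K : Set ι)))) =
      (-1 : ℂ) ^ J.card * ∑ x : Wg P with J ⊆ AL P s e x,
        (if K ⊆ AR P s e x then (1 : ℂ) else 0) := by
    intro J hJ
    rw [Finset.mem_powerset] at hJ
    rw [Cfsg.Agent.Lib.L0.classInner_smul_left, classInner_par P hS hJ hK]
    congr 1
    rw [Nat.card_eq_fintype_card, Fintype.card_subtype, Finset.sum_boole, Finset.filter_filter]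
  rw [Finset.sum_congr rfl h1, CoxD.alt_sum]
  obtain ⟨w₀, hw1, hw2, hw3, hw4⟩ := exists_w0 P
  have h2 : (Finset.univ.filter fun x : Wg P => s ∩ AL P s e x = ∅) = {w₀} := by
    ext x
    rw [Finset.mem_filter, Finset.mem_singleton, Finset.inter_eq_right.mpr (AL_subset P x),
      AL_eq_empty_iff P hS]
    constructor
    · rintro ⟨-, h⟩
      exact hw4 x h
    · rintro rfl
      exact ⟨Finset.mem_univ _, hw2⟩
  rw [h2, Finset.sum_singleton, (AR_eq_empty_iff P hS w₀).mpr hw1]
  simp only [Finset.subset_empty]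

theorem St_real (g : G) : conj (St P s e g) = St P s e g := by
  unfold St
  rw [map_sum]
  apply Finset.sum_congr rfl
  intro J _
  rw [map_mul, map_pow, map_neg, map_one]
  congr 1
  unfold Cfsg.fixedPointCharacter
  exact Complex.conj_natCast _

theorem classInner_par_St (hS : e '' (s : Set ι) = P.S) {K : Finset ι} (hK : K ⊆ s) :
    Cfsg.classInner (Cfsg.fixedPointCharacter (P.parabolic (e '' (K : Set ι)))) (St P s e) =
      if K = ∅ then 1 else 0 := by
  rw [← Cfsg.Agent.Lib.L0.classInner_conj_symm, classInner_St_par P hS hK]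
  split_ifs <;> simp

theorem classInner_St_St (hS : e '' (s : Set ι) = P.S) :
    Cfsg.classInner (St P s e) (St P s e) = 1 := by
  have h0 : Cfsg.classInner (St P s e) (St P s e) = Cfsg.classInner (∑ J ∈ s.powerset,
      ((-1 : ℂ) ^ J.card) • Cfsg.fixedPointCharacter (P.parabolic (e '' (J : Set ι))))
      (St P s e) := by
    congr 1
    exact St_eq_sum P s e
  rw [h0, Cfsg.Agent.Lib.L0.classInner_sum_left]
  have h1 : ∀ J ∈ s.powerset, Cfsg.classInner
      (((-1 : ℂ) ^ J.card) • Cfsg.fixedPointCharacter (P.parabolic (e '' (J : Set ι))))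
      (St P s e) = if J = ∅ then 1 else 0 := by
    intro J hJ
    rw [Finset.mem_powerset] at hJ
    rw [Cfsg.Agent.Lib.L0.classInner_smul_left, classInner_par_St P hS hJ]
    split_ifs with h
    · subst h; simp
    · simp
  rw [Finset.sum_congr rfl h1, Finset.sum_ite_eq' s.powerset ∅]
  simp

theorem isGeneralizedCharacter_St : Cfsg.IsGeneralizedCharacter G (St P s e) := by
  rw [St_eq_sum]
  apply Cfsg.Agent.Lib.H8.isGeneralizedCharacter_sum
  intro J _
  have h1 : ((-1 : ℂ) ^ J.card) • Cfsg.fixedPointCharacter (P.parabolic (e '' (J : Set ι))) =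
      ((-1 : ℤ) ^ J.card) • Cfsg.fixedPointCharacter (P.parabolic (e '' (J : Set ι))) := by
    funext g
    simp only [Pi.smul_apply, smul_eq_mul, zsmul_eq_mul]
    push_cast
    rfl
  rw [h1]
  apply Cfsg.Agent.Lib.H8.isGeneralizedCharacter_zsmul
  exact Cfsg.Agent.Lib.H8.isGeneralizedCharacter_of_isCharacter
    (Uni.isCharacter_fixedPointCharacter _)

/-- the alternating sum is an irreducible character -/
theorem isIrrCharacter_St (hS : e '' (s : Set ι) = P.S) : Cfsg.IsIrrCharacter G (St P s e) := by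
  rcases Cfsg.Agent.Lib.H8.genChar_norm_one (isGeneralizedCharacter_St P)
    (classInner_St_St P hS) with h | h
  · exact h
  · exfalso
    have h1 := classInner_St_par P hS (Finset.empty_subset s)
    rw [if_pos rfl] at h1
    obtain ⟨n, hn⟩ := Cfsg.Agent.Lib.L0.classInner_irr_char_nat
      (Uni.isCharacter_fixedPointCharacter (P.parabolic (e '' ((∅ : Finset ι) : Set ι)))) h
    rw [Cfsg.Agent.Lib.L0.classInner_neg_left, h1] at hn
    have h2 : ((n : ℂ) + 1) = 0 := by rw [← hn]; ring
    have h3 : ((n + 1 : ℕ) : ℂ) = 0 := by push_cast; exact h2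
    exact Nat.succ_ne_zero n (by exact_mod_cast h3)

end fin

end Cfsg.Agent.Lib.H12.BNSt
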