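import Mathlib
import Cfsg.Agent.Lib.H12.BNStA

/-!
# (B,N)-pairs: length-additive products of double cosets, and the stabilisers in `B` of the
cosets `d P_K` for distinguished `d` (helper12)
-/

set_option autoImplicit false
set_option linter.unusedSectionVars false

namespace Cfsg.Agent.Lib.H12.BNSt

open Cfsg.Agent.Lib.H2 Cfsg.Agent.Lib.H2.CoxExch Cfsg.Agent Cfsg.Agent.Lib.H12

variable {G : Type*} [Group G] (P : Cfsg.BNPair G)

theorem len_mul_le' {n v : G} (hn : n ∈ P.N) (hv : v ∈ P.N) :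
    BN.len P (n * v) ≤ BN.len P n + BN.len P v := by
  rw [← len_mkW P (n * v) (P.N.mul_mem hn hv), mkW_mul P n v hn hv, ← len_mkW P n hn,
    ← len_mkW P v hv]
  exact CoxD.len_mul_le (sg_surj P) _ _

/-- `n B v ⊆ B n v B` when the lengths add up -/
theorem mul_mem_C_of_len_add : ∀ (k : ℕ) (n : G), n ∈ P.N → BN.len P n = k → ∀ v ∈ P.N,
    BN.len P (n * v) = BN.len P n + BN.len P v → ∀ b ∈ P.B, n * b * v ∈ BN.C P (n * v) := by
  intro k
  induction k with
  | zero =>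
    intro n hn hk v hv _ b hb
    have hnB : n ∈ P.B := BN.mem_B_of_len_eq_zero hn hk
    have h1 : n * v ∈ BN.C P v := BN.mem_C_iff.mpr ⟨n, hnB, 1, P.B.one_mem, by group⟩
    rw [BN.C_eq_of_mem h1]
    exact BN.mem_C_iff.mpr ⟨n * b, P.B.mul_mem hnB hb, 1, P.B.one_mem, by group⟩
  | succ k ih =>
    intro n hn hk v hv hadd b hb
    obtain ⟨l, hl, hlen, he⟩ := BN.exists_reduced hn
    cases l with
    | nil =>
      rw [List.length_nil] at hlen
      omega
    | cons s l' =>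
      obtain ⟨hs, hl'⟩ := hl.of_cons
      have hn' : l'.prod ∈ P.N := hl'.prod_mem_N (le_refl _)
      have hlen' : BN.len P l'.prod = l'.length := BN.len_tail hl hlen he
      rw [List.length_cons] at hlen
      have hk' : BN.len P l'.prod = k := by omega
      rw [List.prod_cons] at he
      -- `t = (s n')⁻¹ n ∈ B ∩ N`
      have htB : (s * l'.prod)⁻¹ * n ∈ P.B := he
      have hsn'N : s * l'.prod ∈ P.N := P.N.mul_mem (BN.S_mem_N hs) hn'
      have htN : (s * l'.prod)⁻¹ * n ∈ P.N := P.N.mul_mem (P.N.inv_mem hsn'N) hn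
      have hconj : v⁻¹ * ((s * l'.prod)⁻¹ * n) * v ∈ P.B := BN.T_conj' hv htB htN
      have heq : BN.Eqv P (s * (l'.prod * v)) (n * v) := by
        unfold BN.Eqv
        have e : (s * (l'.prod * v))⁻¹ * (n * v) = v⁻¹ * ((s * l'.prod)⁻¹ * n) * v := by group
        rw [e]
        exact hconj
      have hn'v : l'.prod * v ∈ P.N := P.N.mul_mem hn' hv
      have h1 : BN.len P (s * (l'.prod * v)) = k + 1 + BN.len P v := by
        rw [BN.len_congr heq, hadd, hk]
      have h2 := len_mul_le' P hn' hv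
      have h3 := BN.len_smul_le hs hn'v
      have hadd' : BN.len P (l'.prod * v) = BN.len P l'.prod + BN.len P v := by omega
      have hb' : (s * l'.prod)⁻¹ * n * b ∈ P.B := P.B.mul_mem htB hb
      have h4 := ih l'.prod hn' hk' v hv hadd' _ hb'
      obtain ⟨b₁, hb₁, b₂, hb₂, e4⟩ := BN.mem_C_iff.mp h4
      have h5 : s * b₁ * (l'.prod * v) ∈ BN.C P (s * (l'.prod * v)) :=
        BN.smul_mem_C_of_len_le hs hn'v (by omega) hb₁
      have h6 := BN.mul_right_mem_C hb₂ h5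
      rw [heq.C_eq] at h6
      have e7 : n * b * v = s * b₁ * (l'.prod * v) * b₂ := by
        have : s * b₁ * (l'.prod * v) * b₂ = s * (b₁ * (l'.prod * v) * b₂) := by group
        rw [this, ← e4]
        group
      rw [e7]
      exact h6

theorem mul_mem_C_of_len_add' {n v b : G} (hn : n ∈ P.N) (hv : v ∈ P.N)
    (h : BN.len P (n * v) = BN.len P n + BN.len P v) (hb : b ∈ P.B) :
    n * b * v ∈ BN.C P (n * v) :=
  mul_mem_C_of_len_add P _ n hn rfl v hv h b hb

/-- for `d` without right descents in `K`, `B ∩ d P_K d⁻¹ = B ∩ d B d⁻¹` -/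
theorem conj_mem_parabolic_iff {K : Set G} (hK : K ⊆ P.S) {n : G} (hn : n ∈ P.N)
    (hd : mkW P n hn ∈ CoxD.DR (S0320.sg P) (JS P K)) {b : G} (hb : b ∈ P.B) :
    n⁻¹ * b * n ∈ P.parabolic K ↔ n⁻¹ * b * n ∈ P.B := by
  constructor
  · intro h
    obtain ⟨v, hv, hC⟩ := (BN.mem_parabolic_iff hK _).mp h
    have hvN : v ∈ P.N := BN.closure_le_N hK hv
    have hvW : mkW P v hvN ∈ CoxD.WJ (S0320.sg P) (JS P K) :=
      (mkW_mem_WJ_iff P hK v hvN).mpr ⟨v, hv, BN.Eqv.refl v⟩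
    have hlen := CoxD.len_mul_of_mem_DR (sg_exch P) (sg_surj P) hd hvW
    rw [← mkW_mul P n v hn hvN, len_mkW, len_mkW, len_mkW] at hlen
    obtain ⟨b₁, hb₁, b₂, hb₂, e⟩ := BN.mem_C_iff.mp hC
    have h1 : n * b₁ * v ∈ BN.C P (n * v) := mul_mem_C_of_len_add' P hn hvN hlen hb₁
    have h2 : b * n ∈ BN.C P (n * v) := by
      have e2 : b * n = n * b₁ * v * b₂ := by
        have : n * b₁ * v * b₂ = n * (b₁ * v * b₂) := by group
        rw [this, ← e]
        group
      rw [e2]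
      exact BN.mul_right_mem_C hb₂ h1
    have h3 : b * n ∈ BN.C P n := BN.mem_C_iff.mpr ⟨b, hb, 1, P.B.one_mem, by group⟩
    have h4 : BN.C P (n * v) = BN.C P n := by
      rw [← BN.C_eq_of_mem h2, BN.C_eq_of_mem h3]
    have hnv : n * v ∈ P.N := P.N.mul_mem hn hvN
    have h5 : n * v ∈ BN.C P n := by rw [← h4]; exact BN.mem_C_self _
    have h6 : BN.Eqv P n (n * v) := BN.eqv_of_mem_C hn hnv h5
    have hvB : v ∈ P.B := by
      unfold BN.Eqv at h6
      rwa [inv_mul_cancel_left] at h6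
    rw [e]
    exact P.B.mul_mem (P.B.mul_mem hb₁ hvB) hb₂
  · intro h
    exact B_le_parabolic P K h

/-- the subgroup `B ∩ n B n⁻¹` of `B` -/
def Bn (n : G) : Subgroup ↥P.B :=
  (P.B.comap (MulAut.conj n⁻¹).toMonoidHom).subgroupOf P.B

theorem mem_Bn (n : G) (b : ↥P.B) : b ∈ Bn P n ↔ n⁻¹ * (b : G) * n ∈ P.B := by
  unfold Bn
  rw [Subgroup.mem_subgroupOf, Subgroup.mem_comap]
  simp [MulAut.conj_apply]

theorem Bn_congr {n n' : G} (h : BN.Eqv P n n') : Bn P n = Bn P n' := by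
  ext b
  rw [mem_Bn, mem_Bn]
  have ht : n⁻¹ * n' ∈ P.B := h
  have e : n'⁻¹ * (b : G) * n' = (n⁻¹ * n')⁻¹ * (n⁻¹ * (b : G) * n) * (n⁻¹ * n') := by group
  rw [e]
  constructor
  · intro h1
    exact P.B.mul_mem (P.B.mul_mem (P.B.inv_mem ht) h1) ht
  · intro h1
    have := P.B.mul_mem (P.B.mul_mem ht h1) (P.B.inv_mem ht)
    have e2 : n⁻¹ * n' * ((n⁻¹ * n')⁻¹ * (n⁻¹ * (b : G) * n) * (n⁻¹ * n')) * (n⁻¹ * n')⁻¹ =
        n⁻¹ * (b : G) * n := by group
    rwa [e2] at this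

end Cfsg.Agent.Lib.H12.BNSt
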