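import Mathlib
import Cfsg.Prelude.Def_ParabolicCharacters
import Cfsg.Agent.Lib.L0.CharPerm

/-!
# Fixed points of a group element: decomposition along orbit representatives (helper12)
-/

set_option autoImplicit false
set_option linter.unusedSectionVars false

namespace Cfsg.Agent.Lib.H12.BNSt

section orbits

variable {B : Type*} [Group B] [Fintype B]

theorem indFun_congr {H H' : Subgroup B} (h : H = H') :
    Cfsg.indFun H (fun _ => (1 : ℂ)) = Cfsg.indFun H' (fun _ => (1 : ℂ)) := by
  subst h
  rfl

/-- the number of fixed points in a transitive action is the permutation character on the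
cosets of a point stabiliser -/
theorem card_fixedBy_trans (Y : Type*) [MulAction B Y] [Finite Y] [MulAction.IsPretransitive B Y]
    (y : Y) (b : B) :
    (Nat.card (MulAction.fixedBy Y b) : ℂ) =
      Cfsg.fixedPointCharacter (MulAction.stabilizer B y) b := by
  have h1 := congrFun (Cfsg.Agent.Lib.L0.fixedPoints_eq_indFun (G := B) Y y) b
  have h2 := congrFun (Cfsg.Agent.Lib.L0.fixedPoints_eq_indFun (G := B)
    (B ⧸ MulAction.stabilizer B y) ((1 : B) : B ⧸ MulAction.stabilizer B y)) b
  have h3 : MulAction.stabilizer B ((1 : B) : B ⧸ MulAction.stabilizer B y) =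
      MulAction.stabilizer B y := by
    rw [MulAction.stabilizer_quotient]
  rw [indFun_congr h3] at h2
  unfold Cfsg.fixedPointCharacter
  exact h1.trans h2.symm

variable {X : Type*} [MulAction B X] [Finite X] {I : Type*} [Fintype I]

theorem stabilizer_orbit_subtype (x : X) (y : MulAction.orbit B x) :
    MulAction.stabilizer B y = MulAction.stabilizer B (y : X) := by
  ext b
  rw [MulAction.mem_stabilizer_iff, MulAction.mem_stabilizer_iff, Subtype.ext_iff]
  rfl

/-- decomposition of the fixed points along a system of orbit representatives -/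
theorem card_fixedBy_eq_sum (r : I → X) (hr : ∀ x : X, ∃! i, x ∈ MulAction.orbit B (r i))
    (b : B) :
    (Nat.card (MulAction.fixedBy X b) : ℂ) =
      ∑ i, Cfsg.fixedPointCharacter (MulAction.stabilizer B (r i)) b := by
  classical
  choose f hf hf' using hr
  have hfi : ∀ x i, f x = i ↔ x ∈ MulAction.orbit B (r i) := by
    intro x i
    constructor
    · rintro rfl; exact hf x
    · intro h; exact (hf' x i h).symm
  have h1 : Nat.card (MulAction.fixedBy X b) =
      ∑ i, Nat.card {x : MulAction.fixedBy X b // f x.1 = i} := by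
    rw [← Nat.card_sigma]
    exact Nat.card_congr (Equiv.sigmaFiberEquiv fun x : MulAction.fixedBy X b => f x.1).symm
  rw [h1]
  push_cast
  apply Finset.sum_congr rfl
  intro i _
  have h2 : Nat.card {x : MulAction.fixedBy X b // f x.1 = i} =
      Nat.card (MulAction.fixedBy (MulAction.orbit B (r i)) b) := by
    apply Nat.card_congr
    refine ⟨fun x => ⟨⟨x.1.1, (hfi _ _).mp x.2⟩, ?_⟩, fun y => ⟨⟨y.1.1, ?_⟩, (hfi _ _).mpr y.1.2⟩,
      ?_, ?_⟩
    · rw [MulAction.mem_fixedBy]
      apply Subtype.ext
      exact x.1.2
    · have := y.2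
      rw [MulAction.mem_fixedBy] at this ⊢
      exact congrArg Subtype.val this
    · intro x; rfl
    · intro y; rfl
  rw [h2, card_fixedBy_trans (MulAction.orbit B (r i))
    (⟨r i, MulAction.mem_orbit_self (r i)⟩ : MulAction.orbit B (r i)) b,
    stabilizer_orbit_subtype]

end orbits

end Cfsg.Agent.Lib.H12.BNSt
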