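import Mathlib
import Cfsg.Agent.Lib.H12.BNStB
import Cfsg.Agent.Lib.H12.BNStC
import Cfsg.Agent.Lib.H12.BNStD

/-!
# (B,N)-pairs: the restriction to `B` of the alternating sum of parabolic permutation
characters is the permutation character on `B / (B ∩ w₀ B w₀⁻¹)` (helper12)
-/

set_option autoImplicit false
set_option linter.unusedSectionVars false

namespace Cfsg.Agent.Lib.H12.BNSt

open Cfsg.Agent.Lib.H2 Cfsg.Agent.Lib.H2.CoxExch Cfsg.Agent Cfsg.Agent.Lib.H12

variable {G : Type*} [Group G] (P : Cfsg.BNPair G)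

theorem parabolic_empty : P.parabolic ∅ = P.B := by
  unfold Cfsg.BNPair.parabolic
  rw [Subgroup.closure_empty, sup_bot_eq]

theorem mem_DL_empty (x : Wg P) : x ∈ CoxD.DL (S0320.sg P) (JS P ∅) := by
  intro i hi
  exact absurd hi (by simp [JS])

/-- the stabiliser in `B` of the coset `n P_K`, for `n` without right descents in `K` -/
theorem stabilizer_eq_Bn {K : Set G} (hK : K ⊆ P.S) {n : G} (hn : n ∈ P.N)
    (hd : mkW P n hn ∈ CoxD.DR (S0320.sg P) (JS P K)) :
    MulAction.stabilizer ↥P.B ((n : G) : G ⧸ P.parabolic K) = Bn P n := by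
  ext b
  rw [MulAction.mem_stabilizer_iff, mem_Bn, ← conj_mem_parabolic_iff P hK hn hd b.2]
  have e1 : b • ((n : G) : G ⧸ P.parabolic K) = (((b : G) * n : G) : G ⧸ P.parabolic K) := rfl
  rw [e1, QuotientGroup.eq, ← Subgroup.inv_mem_iff]
  have e2 : (((b : G) * n)⁻¹ * n)⁻¹ = n⁻¹ * (b : G) * n := by group
  rw [e2]

section fin

variable [Fintype G]

open Classical in
/-- the restriction to `B` of a parabolic permutation character -/
theorem fpc_par_restrict {K : Set G} (hK : K ⊆ P.S) (b : ↥P.B) :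
    Cfsg.fixedPointCharacter (P.parabolic K) (b : G) =
      ∑ d : {d : Wg P // d ∈ CoxD.DR (S0320.sg P) (JS P K)},
        Cfsg.fixedPointCharacter (Bn P (lift P d.1)) b := by
  have h0 : Cfsg.fixedPointCharacter (P.parabolic K) (b : G) =
      (Nat.card (MulAction.fixedBy (G ⧸ P.parabolic K) b) : ℂ) := rfl
  rw [h0, card_fixedBy_eq_sum
    (fun d : {d : Wg P // d ∈ CoxD.DR (S0320.sg P) (JS P K)} =>
      ((lift P d.1 : G) : G ⧸ P.parabolic K))]
  · apply Finset.sum_congr rfl
    intro d _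
    have hd : mkW P (lift P d.1) (lift_mem P d.1) ∈ CoxD.DR (S0320.sg P) (JS P K) := by
      rw [mkW_lift]; exact d.2
    rw [stabilizer_eq_Bn P hK (lift_mem P d.1) hd]
  · intro x
    induction x using QuotientGroup.induction_on with
    | H g =>
      obtain ⟨d, -, hdR, p, hp, q, hq, e⟩ := dc_surjective P (Set.empty_subset _) hK g
      rw [parabolic_empty] at hp
      refine ⟨⟨d, hdR⟩, ?_, ?_⟩
      · refine ⟨⟨p, hp⟩, ?_⟩
        change ((p * lift P d : G) : G ⧸ P.parabolic K) = (g : G ⧸ P.parabolic K)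
        rw [QuotientGroup.eq, e]
        have : (p * lift P d)⁻¹ * (p * lift P d * q) = q := by group
        rw [this]
        exact hq
      · rintro ⟨d', hd'R⟩ ⟨⟨p', hp'⟩, h⟩
        change ((p' * lift P d' : G) : G ⧸ P.parabolic K) = (g : G ⧸ P.parabolic K) at h
        rw [QuotientGroup.eq] at h
        apply Subtype.ext
        change d' = d
        symm
        apply dc_injective P (Set.empty_subset _) hK (mem_DL_empty P d) hdR
          (mem_DL_empty P d') hd'R
        refine ⟨p'⁻¹ * p, ?_, q * ((p' * lift P d')⁻¹ * g)⁻¹, ?_, ?_⟩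
        · rw [parabolic_empty]
          exact P.B.mul_mem (P.B.inv_mem hp') hp
        · exact (P.parabolic K).mul_mem hq ((P.parabolic K).inv_mem h)
        · rw [e]
          group

variable {ι : Type*} [DecidableEq ι] {s : Finset ι} {e : ι → G}

open Classical in
/-- the restriction to `B` of the alternating sum -/
theorem St_restrict (hS : e '' (s : Set ι) = P.S) {n₀ : G} (hn₀ : n₀ ∈ P.N)
    (hfull : CoxD.Full (S0320.sg P) (mkW P n₀ hn₀)) (b : ↥P.B) :
    St P s e (b : G) = Cfsg.fixedPointCharacter (Bn P n₀) b := by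
  haveI : Fintype (Wg P) := Fintype.ofFinite _
  unfold St
  have h1 : ∀ J ∈ s.powerset, (-1 : ℂ) ^ J.card *
      Cfsg.fixedPointCharacter (P.parabolic (e '' (J : Set ι))) (b : G) =
      (-1 : ℂ) ^ J.card * ∑ d : Wg P with J ⊆ AR P s e d,
        Cfsg.fixedPointCharacter (Bn P (lift P d)) b := by
    intro J hJ
    rw [Finset.mem_powerset] at hJ
    rw [fpc_par_restrict P (image_subset_S P hS hJ) b]
    congr 1
    symm
    apply Finset.sum_subtype
    intro d
    rw [Finset.mem_filter, mem_DR_iff P hS hJ]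
    simp
  rw [Finset.sum_congr rfl h1, CoxD.alt_sum]
  obtain ⟨w₀, hw1, hw2, hw3, hw4⟩ := exists_w0 P
  have hw : mkW P n₀ hn₀ = w₀ := hw3 _ hfull
  have h2 : (Finset.univ.filter fun x : Wg P => s ∩ AR P s e x = ∅) = {w₀} := by
    ext x
    rw [Finset.mem_filter, Finset.mem_singleton, Finset.inter_eq_right.mpr (AR_subset P x),
      AR_eq_empty_iff P hS]
    constructor
    · rintro ⟨-, h⟩
      exact hw3 x h
    · rintro rfl
      exact ⟨Finset.mem_univ _, hw1⟩
  rw [h2, Finset.sum_singleton, ← hw]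
  have h3 : BN.Eqv P (lift P (mkW P n₀ hn₀)) n₀ :=
    (mkW_eq_iff P _ _ (lift_mem P _) hn₀).mp (mkW_lift P _)
  rw [Bn_congr P h3]

end fin

end Cfsg.Agent.Lib.H12.BNSt
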