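import Mathlib
import Cfsg.Prelude.Def_ParabolicCharacters
import Cfsg.Agent.Lib.H12.GL2

set_option autoImplicit false

namespace Cfsg.Agent.Lib.H12

open Matrix

variable {F : Type*} [Field F]

theorem mem_upperTriangularGL_two (g : GL (Fin 2) F) :
    g ∈ Cfsg.upperTriangularGL 2 F ↔ (g : Matrix (Fin 2) (Fin 2) F) 1 0 = 0 := by
  show (g : Matrix (Fin 2) (Fin 2) F).BlockTriangular id ↔ _
  constructor
  · intro h
    exact h (show id (0 : Fin 2) < id 1 by decide)
  · intro h i j hij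
    fin_cases i <;> fin_cases j <;> simp_all

/-- the `(1,0)` entry of `h⁻¹ * h'` -/
theorem inv_mul_entry (h h' : GL (Fin 2) F) :
    ((h⁻¹ * h' : GL (Fin 2) F) : Matrix (Fin 2) (Fin 2) F) 1 0 =
      ((h : Matrix (Fin 2) (Fin 2) F).det)⁻¹ *
        ((h : Matrix (Fin 2) (Fin 2) F) 0 0 * (h' : Matrix (Fin 2) (Fin 2) F) 1 0 -
          (h : Matrix (Fin 2) (Fin 2) F) 1 0 * (h' : Matrix (Fin 2) (Fin 2) F) 0 0) := by
  rw [Units.val_mul, Matrix.coe_units_inv, Matrix.inv_def, Matrix.adjugate_fin_two, Ring.inverse_eq_inv']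
  simp [Matrix.mul_apply, Fin.sum_univ_two]
  ring

theorem gl2_det_ne_zero (h : GL (Fin 2) F) : (h : Matrix (Fin 2) (Fin 2) F).det ≠ 0 :=
  ((Matrix.isUnit_iff_isUnit_det _).mp h.isUnit).ne_zero

/-- `h` and `h'` lie in the same coset of the upper triangular subgroup iff their first columns are proportional. -/
theorem inv_mul_mem_iff (h h' : GL (Fin 2) F) :
    h⁻¹ * h' ∈ Cfsg.upperTriangularGL 2 F ↔
      (h : Matrix (Fin 2) (Fin 2) F) 0 0 * (h' : Matrix (Fin 2) (Fin 2) F) 1 0 =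
        (h : Matrix (Fin 2) (Fin 2) F) 1 0 * (h' : Matrix (Fin 2) (Fin 2) F) 0 0 := by
  rw [mem_upperTriangularGL_two, inv_mul_entry, mul_eq_zero, sub_eq_zero]
  constructor
  · rintro (h1 | h1)
    · exact absurd (inv_eq_zero.mp h1) (gl2_det_ne_zero h)
    · exact h1
  · exact Or.inr

/-- the point of the projective line (as `Option F`) given by the first column -/
noncomputable def colPt (h : GL (Fin 2) F) : Option F := by
  classical
  exact if (h : Matrix (Fin 2) (Fin 2) F) 1 0 = 0 then none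
    else some ((h : Matrix (Fin 2) (Fin 2) F) 0 0 / (h : Matrix (Fin 2) (Fin 2) F) 1 0)

theorem colPt_eq_none_iff (h : GL (Fin 2) F) : colPt h = none ↔ (h : Matrix (Fin 2) (Fin 2) F) 1 0 = 0 := by
  classical
  unfold colPt
  split_ifs with h1 <;> simp [h1]

theorem colPt_eq_some_iff (h : GL (Fin 2) F) (t : F) :
    colPt h = some t ↔ (h : Matrix (Fin 2) (Fin 2) F) 1 0 ≠ 0 ∧
      (h : Matrix (Fin 2) (Fin 2) F) 0 0 = t * (h : Matrix (Fin 2) (Fin 2) F) 1 0 := by
  classical
  unfold colPt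
  split_ifs with h1
  · simp [h1]
  · simp only [Option.some.injEq, ne_eq, h1, not_false_eq_true, true_and]
    rw [div_eq_iff h1]

theorem first_col_ne_zero (h : GL (Fin 2) F) (h1 : (h : Matrix (Fin 2) (Fin 2) F) 1 0 = 0) :
    (h : Matrix (Fin 2) (Fin 2) F) 0 0 ≠ 0 := by
  intro h0
  apply gl2_det_ne_zero h
  rw [Matrix.det_fin_two, h0, h1]; ring

theorem colPt_eq_iff (h h' : GL (Fin 2) F) :
    colPt h = colPt h' ↔ h⁻¹ * h' ∈ Cfsg.upperTriangularGL 2 F := by
  rw [inv_mul_mem_iff]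
  rcases hp : colPt h' with _ | t
  · rw [colPt_eq_none_iff] at hp ⊢
    rw [hp, mul_zero]
    constructor
    · intro h1; rw [h1, zero_mul]
    · intro h1
      exact (mul_eq_zero.mp h1.symm).resolve_right (first_col_ne_zero h' hp)
  · rw [colPt_eq_some_iff] at hp ⊢
    obtain ⟨hp1, hp2⟩ := hp
    constructor
    · rintro ⟨h1, h2⟩
      rw [h2, hp2]; ring
    · intro h1
      have h10 : (h : Matrix (Fin 2) (Fin 2) F) 1 0 ≠ 0 := by
        intro h0
        rw [h0, zero_mul] at h1
        exact first_col_ne_zero h h0 ((mul_eq_zero.mp h1).resolve_right hp1)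
      refine ⟨h10, ?_⟩
      rw [hp2] at h1
      have : ((h : Matrix (Fin 2) (Fin 2) F) 0 0 - t * (h : Matrix (Fin 2) (Fin 2) F) 1 0) *
          (h' : Matrix (Fin 2) (Fin 2) F) 1 0 = 0 := by linear_combination h1
      exact sub_eq_zero.mp ((mul_eq_zero.mp this).resolve_right hp1)

/-- a section of `colPt` -/
noncomputable def ptRep : Option F → GL (Fin 2) F
  | none => 1
  | some t => Matrix.GeneralLinearGroup.mkOfDetNeZero !![t, 1; 1, 0] (by simp [Matrix.det_fin_two_of])

theorem colPt_ptRep (p : Option F) : colPt (ptRep p) = p := by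
  rcases p with _ | t
  · rw [colPt_eq_none_iff]; simp [ptRep]
  · rw [colPt_eq_some_iff]
    simp [ptRep, Matrix.GeneralLinearGroup.mkOfDetNeZero]

/-- The cosets of the upper triangular subgroup of `GL₂` form a projective line. -/
noncomputable def cosetEquiv : GL (Fin 2) F ⧸ Cfsg.upperTriangularGL 2 F ≃ Option F where
  toFun := Quotient.lift colPt (by
    intro a b hab
    rw [colPt_eq_iff]
    exact QuotientGroup.leftRel_apply.mp hab)
  invFun := fun p => (ptRep p : GL (Fin 2) F ⧸ Cfsg.upperTriangularGL 2 F)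
  left_inv := by
    intro x
    induction x using QuotientGroup.induction_on with
    | H h =>
      show ((ptRep (colPt h) : GL (Fin 2) F) : GL (Fin 2) F ⧸ Cfsg.upperTriangularGL 2 F) = h
      rw [QuotientGroup.eq, ← colPt_eq_iff, colPt_ptRep]
  right_inv := by
    intro p
    exact colPt_ptRep p

theorem cosetEquiv_mk (h : GL (Fin 2) F) :
    cosetEquiv (h : GL (Fin 2) F ⧸ Cfsg.upperTriangularGL 2 F) = colPt h := rfl

/-- the fixed cosets of `g` correspond to the fixed points of the projective line -/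
theorem card_fixedBy_eq (g : GL (Fin 2) F) :
    Nat.card (MulAction.fixedBy (GL (Fin 2) F ⧸ Cfsg.upperTriangularGL 2 F) g) =
      Nat.card {p : Option F // colPt (g * ptRep p) = p} := by
  apply Nat.card_congr
  refine (cosetEquiv.subtypeEquiv ?_)
  intro x
  induction x using QuotientGroup.induction_on with
  | H h =>
    rw [MulAction.mem_fixedBy, cosetEquiv_mk]
    have e1 : g • (h : GL (Fin 2) F ⧸ Cfsg.upperTriangularGL 2 F) =
        ((g * h : GL (Fin 2) F) : GL (Fin 2) F ⧸ Cfsg.upperTriangularGL 2 F) := rfl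
    rw [e1, QuotientGroup.eq, ← colPt_eq_iff]
    -- colPt (g * h) = colPt h ↔ colPt (g * ptRep (colPt h)) = colPt h
    have e2 : colPt (g * ptRep (colPt h)) = colPt (g * h) := by
      rw [colPt_eq_iff]
      have : (g * ptRep (colPt h))⁻¹ * (g * h) = (ptRep (colPt h))⁻¹ * h := by group
      rw [this, ← colPt_eq_iff, colPt_ptRep]
    rw [e2]

end Cfsg.Agent.Lib.H12

namespace Cfsg.Agent.Lib.H12

open Matrix

variable {F : Type*} [Field F]

theorem fix_none_iff (g : GL (Fin 2) F) :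
    colPt (g * ptRep none) = none ↔ (g : Matrix (Fin 2) (Fin 2) F) 1 0 = 0 := by
  rw [colPt_eq_none_iff]
  simp [ptRep]

theorem fix_some_iff (g : GL (Fin 2) F) (t : F) :
    colPt (g * ptRep (some t)) = some t ↔
      (g : Matrix (Fin 2) (Fin 2) F) 1 0 * t + (g : Matrix (Fin 2) (Fin 2) F) 1 1 ≠ 0 ∧
      (g : Matrix (Fin 2) (Fin 2) F) 0 0 * t + (g : Matrix (Fin 2) (Fin 2) F) 0 1 =
        t * ((g : Matrix (Fin 2) (Fin 2) F) 1 0 * t + (g : Matrix (Fin 2) (Fin 2) F) 1 1) := by
  rw [colPt_eq_some_iff]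
  simp [ptRep, Matrix.GeneralLinearGroup.mkOfDetNeZero, Matrix.mul_apply, Fin.sum_univ_two]

theorem fixedPointCharacter_eq (g : GL (Fin 2) F) :
    Cfsg.fixedPointCharacter (Cfsg.upperTriangularGL 2 F) g =
      ((Set.ncard {p : Option F | colPt (g * ptRep p) = p} : ℕ) : ℂ) := by
  unfold Cfsg.fixedPointCharacter
  rw [card_fixedBy_eq]
  rfl

end Cfsg.Agent.Lib.H12
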