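import Mathlib
import Cfsg.Prelude.Def_Characters
import Cfsg.Agent.Lib.L0.CharInd

set_option autoImplicit false

namespace Cfsg.Agent.Lib.H12

open Cfsg.Agent.Lib.L0

variable {G : Type*} [Group G]

/-- The extension by zero of a class function of `H` is invariant under conjugation by `H`. -/
theorem extendByZero_conj_mem (H : Subgroup G) (θ : H → ℂ)
    (hθ : ∀ h k : H, θ (h * k * h⁻¹) = θ k) (h : H) (y : G) :
    Cfsg.extendByZero H θ ((h : G)⁻¹ * y * h) = Cfsg.extendByZero H θ y := by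
  by_cases hy : y ∈ H
  · have hy' : (h : G)⁻¹ * y * h ∈ H := H.mul_mem (H.mul_mem (H.inv_mem h.2) hy) h.2
    rw [extendByZero_apply_of_mem H θ hy, extendByZero_apply_of_mem H θ hy']
    have := hθ h⁻¹ ⟨y, hy⟩
    rw [← this]
    congr 1
    apply Subtype.ext
    simp
  · have hy' : (h : G)⁻¹ * y * h ∉ H := by
      intro hmem
      apply hy
      have : y = (h : G) * ((h : G)⁻¹ * y * h) * (h : G)⁻¹ := by group
      rw [this]
      exact H.mul_mem (H.mul_mem h.2 hmem) (H.inv_mem h.2)
    rw [extendByZero_apply_not_mem H θ hy, extendByZero_apply_not_mem H θ hy']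

/-- The induced function computed on a set of coset representatives. -/
theorem indFun_eq_sum_section [Fintype G] (H : Subgroup G) (θ : H → ℂ)
    (hθ : ∀ h k : H, θ (h * k * h⁻¹) = θ k) {ι : Type*} [Fintype ι] (r : ι → G)
    (hr : Function.Bijective (fun i => (r i : G ⧸ H))) (g : G) :
    Cfsg.indFun H θ g = ∑ i, Cfsg.extendByZero H θ ((r i)⁻¹ * g * r i) := by
  classical
  have : Fintype H := Fintype.ofFinite H
  rw [indFun_apply]
  let φ : ι × H → G := fun ih => r ih.1 * (ih.2 : G)
  have hφ : Function.Bijective φ := by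
    constructor
    · rintro ⟨i, h⟩ ⟨j, k⟩ hij
      simp only [φ] at hij
      have hc : (r i : G ⧸ H) = (r j : G ⧸ H) := by
        rw [QuotientGroup.eq]
        have : (r i)⁻¹ * r j = (h : G) * (k : G)⁻¹ := by
          have h1 : r j = r i * (h : G) * (k : G)⁻¹ := by rw [hij]; group
          rw [h1]; group
        rw [this]
        exact H.mul_mem h.2 (H.inv_mem k.2)
      have hij' : i = j := hr.1 hc
      subst hij'
      have : (h : G) = (k : G) := mul_left_cancel hij
      rw [Subtype.ext this]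
    · intro x
      obtain ⟨i, hi⟩ := hr.2 (x : G ⧸ H)
      have hmem : (r i)⁻¹ * x ∈ H := QuotientGroup.eq.mp hi
      refine ⟨(i, ⟨(r i)⁻¹ * x, hmem⟩), ?_⟩
      simp [φ]
  have hsum : ∑ x : G, Cfsg.extendByZero H θ (x⁻¹ * g * x) =
      ∑ ih : ι × H, Cfsg.extendByZero H θ ((φ ih)⁻¹ * g * φ ih) :=
    ((Equiv.ofBijective φ hφ).sum_comp (fun x => Cfsg.extendByZero H θ (x⁻¹ * g * x))).symm
  rw [hsum, Fintype.sum_prod_type]
  have hinner : ∀ i : ι, ∑ h : H, Cfsg.extendByZero H θ ((φ (i, h))⁻¹ * g * φ (i, h)) =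
      (Nat.card H : ℂ) * Cfsg.extendByZero H θ ((r i)⁻¹ * g * r i) := by
    intro i
    have : ∀ h : H, Cfsg.extendByZero H θ ((φ (i, h))⁻¹ * g * φ (i, h)) =
        Cfsg.extendByZero H θ ((r i)⁻¹ * g * r i) := by
      intro h
      have e : (φ (i, h))⁻¹ * g * φ (i, h) = (h : G)⁻¹ * ((r i)⁻¹ * g * r i) * h := by
        simp only [φ]; group
      rw [e, extendByZero_conj_mem H θ hθ]
    rw [Finset.sum_congr rfl (fun h _ => this h), Finset.sum_const, Finset.card_univ,
      Nat.card_eq_fintype_card, nsmul_eq_mul]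
  rw [Finset.sum_congr rfl (fun i _ => hinner i), ← Finset.mul_sum, ← mul_assoc,
    inv_mul_cancel₀, one_mul]
  have : 0 < Nat.card H := Nat.card_pos
  exact_mod_cast this.ne'

end Cfsg.Agent.Lib.H12
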