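import Mathlib
import Cfsg.Agent.Lib.H12.Borel2
import Cfsg.Agent.Lib.H12.IndSection

set_option autoImplicit false

namespace Cfsg.Agent.Lib.H12

open Matrix Cfsg.Agent.Lib.L0

variable {F : Type*} [Field F]

/-- The function `b ↦ α(b₀₀) β(b₁₁)` on the upper triangular subgroup of `GL₂`. -/
noncomputable def borelChar (α β : MulChar F ℂ) : Cfsg.upperTriangularGL 2 F → ℂ :=
  fun b => α (((b : GL (Fin 2) F) : Matrix (Fin 2) (Fin 2) F) 0 0) *
    β (((b : GL (Fin 2) F) : Matrix (Fin 2) (Fin 2) F) 1 1)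

theorem borelChar_apply (α β : MulChar F ℂ) (b : Cfsg.upperTriangularGL 2 F) :
    borelChar α β b = α (((b : GL (Fin 2) F) : Matrix (Fin 2) (Fin 2) F) 0 0) *
      β (((b : GL (Fin 2) F) : Matrix (Fin 2) (Fin 2) F) 1 1) := rfl

theorem borelChar_mul (α β : MulChar F ℂ) (b c : Cfsg.upperTriangularGL 2 F) :
    borelChar α β (b * c) = borelChar α β b * borelChar α β c := by
  have hb := (mem_upperTriangularGL_two (b : GL (Fin 2) F)).mp b.2
  have hc := (mem_upperTriangularGL_two (c : GL (Fin 2) F)).mp c.2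
  simp only [borelChar_apply, Subgroup.coe_mul, Matrix.GeneralLinearGroup.coe_mul, Matrix.mul_apply,
    Fin.sum_univ_two, hb, hc, mul_zero, zero_mul, add_zero, zero_add, map_mul]
  ring

theorem borelChar_one (α β : MulChar F ℂ) : borelChar α β 1 = 1 := by
  simp [borelChar_apply]

theorem borelChar_conj (α β : MulChar F ℂ) (h k : Cfsg.upperTriangularGL 2 F) :
    borelChar α β (h * k * h⁻¹) = borelChar α β k := by
  rw [borelChar_mul, borelChar_mul, mul_comm (borelChar α β h), mul_assoc, ← borelChar_mul,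
    mul_inv_cancel, borelChar_one, mul_one]

/-- explicit inverse of the representative of the point `t` -/
noncomputable def ptRepInv (t : F) : GL (Fin 2) F :=
  Matrix.GeneralLinearGroup.mkOfDetNeZero !![0, 1; 1, -t] (by simp [Matrix.det_fin_two_of])

theorem ptRep_some_inv (t : F) : (ptRep (some t))⁻¹ = ptRepInv t := by
  apply inv_eq_of_mul_eq_one_right
  apply Matrix.GeneralLinearGroup.ext
  intro i j
  fin_cases i <;> fin_cases j <;>
    simp [ptRep, ptRepInv, Matrix.GeneralLinearGroup.mkOfDetNeZero, Matrix.mul_apply, Fin.sum_univ_two]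

theorem conj_ptRep_entries (g : GL (Fin 2) F) (t : F) :
    (((ptRep (some t))⁻¹ * g * ptRep (some t) : GL (Fin 2) F) : Matrix (Fin 2) (Fin 2) F) =
      !![(g : Matrix (Fin 2) (Fin 2) F) 1 0 * t + (g : Matrix (Fin 2) (Fin 2) F) 1 1,
         (g : Matrix (Fin 2) (Fin 2) F) 1 0;
         (g : Matrix (Fin 2) (Fin 2) F) 0 0 * t + (g : Matrix (Fin 2) (Fin 2) F) 0 1 -
           t * ((g : Matrix (Fin 2) (Fin 2) F) 1 0 * t + (g : Matrix (Fin 2) (Fin 2) F) 1 1),
         (g : Matrix (Fin 2) (Fin 2) F) 0 0 - t * (g : Matrix (Fin 2) (Fin 2) F) 1 0] := by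
  rw [ptRep_some_inv]
  ext i j
  fin_cases i <;> fin_cases j <;>
    simp [ptRep, ptRepInv, Matrix.GeneralLinearGroup.mkOfDetNeZero, Matrix.mul_apply, Fin.sum_univ_two,
      Matrix.vecMul, dotProduct] <;>
    ring

/-- Values of the principal series functions of `GL₂`. -/
theorem indFun_borelChar_apply [Fintype F] [DecidableEq F] (α β : MulChar F ℂ) (g : GL (Fin 2) F) :
    Cfsg.indFun (Cfsg.upperTriangularGL 2 F) (borelChar α β) g =
      (if (g : Matrix (Fin 2) (Fin 2) F) 1 0 = 0 then
        α ((g : Matrix (Fin 2) (Fin 2) F) 0 0) * β ((g : Matrix (Fin 2) (Fin 2) F) 1 1) else 0) +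
      ∑ t : F, if (g : Matrix (Fin 2) (Fin 2) F) 0 0 * t + (g : Matrix (Fin 2) (Fin 2) F) 0 1 =
          t * ((g : Matrix (Fin 2) (Fin 2) F) 1 0 * t + (g : Matrix (Fin 2) (Fin 2) F) 1 1) then
        α ((g : Matrix (Fin 2) (Fin 2) F) 1 0 * t + (g : Matrix (Fin 2) (Fin 2) F) 1 1) *
          β ((g : Matrix (Fin 2) (Fin 2) F) 0 0 - t * (g : Matrix (Fin 2) (Fin 2) F) 1 0) else 0 := by
  rw [indFun_eq_sum_section (Cfsg.upperTriangularGL 2 F) (borelChar α β) (borelChar_conj α β) ptRep
    (cosetEquiv (F := F)).symm.bijective g, Fintype.sum_option]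
  congr 1
  · -- the point at infinity
    have e : (ptRep (none : Option F))⁻¹ * g * ptRep none = g := by simp [ptRep]
    rw [e]
    split_ifs with h10
    · have hmem : g ∈ Cfsg.upperTriangularGL 2 F := (mem_upperTriangularGL_two g).mpr h10
      rw [extendByZero_apply_of_mem _ _ hmem]
      rfl
    · have hmem : g ∉ Cfsg.upperTriangularGL 2 F := fun h => h10 ((mem_upperTriangularGL_two g).mp h)
      rw [extendByZero_apply_not_mem _ _ hmem]
  · apply Finset.sum_congr rfl
    intro t _
    have hent := conj_ptRep_entries g t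
    split_ifs with hfix
    · have hmem : (ptRep (some t))⁻¹ * g * ptRep (some t) ∈ Cfsg.upperTriangularGL 2 F := by
        rw [mem_upperTriangularGL_two, hent]
        simp [hfix]
      rw [extendByZero_apply_of_mem _ _ hmem, borelChar_apply]
      simp only [hent]
      simp
    · have hmem : (ptRep (some t))⁻¹ * g * ptRep (some t) ∉ Cfsg.upperTriangularGL 2 F := by
        rw [mem_upperTriangularGL_two, hent]
        simp only [Matrix.of_apply, Matrix.cons_val', Matrix.cons_val_one, Matrix.cons_val_zero]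
        intro h
        exact hfix (sub_eq_zero.mp h)
      rw [extendByZero_apply_not_mem _ _ hmem]

end Cfsg.Agent.Lib.H12
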