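import Mathlib
import Cfsg.Agent.Lib.H12.GL2Ind

set_option autoImplicit false

namespace Cfsg.Agent.Lib.H12

open Matrix Cfsg.Agent.Lib.L0
open scoped ComplexConjugate

variable {F : Type*} [Field F]

/-- The upper triangular matrix with diagonal `a, d` and upper right entry `e`. -/
noncomputable def borelMk (x : Fˣ × Fˣ × F) : Cfsg.upperTriangularGL 2 F :=
  ⟨Matrix.GeneralLinearGroup.mkOfDetNeZero !![(x.1 : F), x.2.2; 0, (x.2.1 : F)]
      (by simp [Matrix.det_fin_two_of]),
    by rw [mem_upperTriangularGL_two]; simp [Matrix.GeneralLinearGroup.mkOfDetNeZero]⟩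

theorem borelMk_val (x : Fˣ × Fˣ × F) :
    (((borelMk x : Cfsg.upperTriangularGL 2 F) : GL (Fin 2) F) : Matrix (Fin 2) (Fin 2) F) =
      !![(x.1 : F), x.2.2; 0, (x.2.1 : F)] := rfl

theorem borelMk_bijective : Function.Bijective (borelMk (F := F)) := by
  constructor
  · rintro ⟨a, d, e⟩ ⟨a', d', e'⟩ h
    have h' := congrArg (fun b : Cfsg.upperTriangularGL 2 F =>
      ((b : GL (Fin 2) F) : Matrix (Fin 2) (Fin 2) F)) h
    simp only [borelMk_val] at h'
    have e00 := congrFun (congrFun h' 0) 0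
    have e01 := congrFun (congrFun h' 0) 1
    have e11 := congrFun (congrFun h' 1) 1
    simp at e00 e01 e11
    rw [Units.ext e00, Units.ext e11, e01]
  · rintro ⟨b, hb⟩
    have h10 := (mem_upperTriangularGL_two b).mp hb
    have hdet := gl2_det_ne_zero b
    rw [Matrix.det_fin_two, h10, mul_zero, sub_zero] at hdet
    have h00 : (b : Matrix (Fin 2) (Fin 2) F) 0 0 ≠ 0 := left_ne_zero_of_mul hdet
    have h11 : (b : Matrix (Fin 2) (Fin 2) F) 1 1 ≠ 0 := right_ne_zero_of_mul hdet
    refine ⟨(Units.mk0 _ h00, Units.mk0 _ h11, (b : Matrix (Fin 2) (Fin 2) F) 0 1), ?_⟩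
    apply Subtype.ext
    apply Matrix.GeneralLinearGroup.ext
    intro i j
    fin_cases i <;> fin_cases j <;> simp [borelMk, Matrix.GeneralLinearGroup.mkOfDetNeZero, h10]

theorem sum_borel [Fintype F] [DecidableEq F] [Fintype (Cfsg.upperTriangularGL 2 F)] (f : Cfsg.upperTriangularGL 2 F → ℂ) :
    ∑ b, f b = ∑ a : Fˣ, ∑ d : Fˣ, ∑ e : F, f (borelMk (a, d, e)) := by
  rw [← (Equiv.ofBijective _ (borelMk_bijective (F := F))).sum_comp f, Fintype.sum_prod_type]
  apply Finset.sum_congr rfl
  intro a _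
  rw [Fintype.sum_prod_type]
  rfl

theorem card_borel [Fintype F] :
    Nat.card (Cfsg.upperTriangularGL 2 F) = (Fintype.card F - 1) * ((Fintype.card F - 1) * Fintype.card F) := by
  rw [← Nat.card_congr (Equiv.ofBijective _ (borelMk_bijective (F := F))), Nat.card_prod, Nat.card_prod,
    Nat.card_units, Nat.card_eq_fintype_card]

/-- Orthogonality for multiplicative characters, summed over the units. -/
theorem sum_units_mulChar [Fintype F] [DecidableEq F] (χ : MulChar F ℂ) :
    ∑ a : Fˣ, χ (a : F) = if χ = 1 then ((Fintype.card F : ℂ) - 1) else 0 := by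
  have h1 : ∑ a : Fˣ, χ (a : F) = ∑ a : F, χ a := by
    rw [← Finset.sum_subset (Finset.subset_univ (Finset.univ.map ⟨Units.val, Units.val_injective⟩ : Finset F))]
    · rw [Finset.sum_map]; rfl
    · intro x _ hx
      apply MulChar.map_nonunit
      intro hu
      apply hx
      rw [Finset.mem_map]
      exact ⟨hu.unit, Finset.mem_univ _, rfl⟩
  rw [h1]
  split_ifs with h
  · rw [h, MulChar.sum_one_eq_card_units, Fintype.card_units]
    have : 1 ≤ Fintype.card F := Fintype.card_pos
    push_cast [this]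
    ring
  · exact MulChar.sum_eq_zero_of_ne_one h

theorem sum_units_mulChar_mul_inv [Fintype F] [DecidableEq F] (χ ψ : MulChar F ℂ) :
    ∑ a : Fˣ, χ (a : F) * conj (ψ (a : F)) = if χ = ψ then ((Fintype.card F : ℂ) - 1) else 0 := by
  have h1 : ∀ a : Fˣ, χ (a : F) * conj (ψ (a : F)) = (χ * ψ⁻¹) (a : F) := by
    intro a
    rw [MulChar.mul_apply, ← MulChar.star_apply']
    rfl
  rw [Finset.sum_congr rfl (fun a _ => h1 a), sum_units_mulChar]
  have : χ * ψ⁻¹ = 1 ↔ χ = ψ := mul_inv_eq_one
  simp only [this]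

end Cfsg.Agent.Lib.H12
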