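import Mathlib
import Cfsg.Agent.Lib.H12.GL2Ind2
import Cfsg.Agent.Lib.L0.CharIndChar
import Cfsg.Agent.Lib.L0.CharOps

set_option autoImplicit false

namespace Cfsg.Agent.Lib.H12

open Matrix Cfsg.Agent.Lib.L0
open scoped ComplexConjugate

variable {F : Type*} [Field F] [Fintype F] [DecidableEq F]

/-- Values of a principal series function on the Borel subgroup. -/
theorem indFun_borelChar_borelMk (α β : MulChar F ℂ) (a d : Fˣ) (e : F) :
    Cfsg.indFun (Cfsg.upperTriangularGL 2 F) (borelChar α β)
      ((borelMk (a, d, e) : Cfsg.upperTriangularGL 2 F) : GL (Fin 2) F) =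
      α (a : F) * β (d : F) + ∑ t : F, if (a : F) * t + e = t * (d : F) then α (d : F) * β (a : F) else 0 := by
  rw [indFun_borelChar_apply, borelMk_val]
  simp

theorem sum_sum_ite_line (a d : F) (c : ℂ) :
    ∑ e : F, ∑ t : F, (if a * t + e = t * d then c else 0) = (Fintype.card F : ℂ) * c := by
  rw [Finset.sum_comm]
  have : ∀ t : F, ∑ e : F, (if a * t + e = t * d then c else 0) = c := by
    intro t
    rw [Finset.sum_eq_single (t * d - a * t)]
    · rw [if_pos]; ring
    · intro e _ he
      rw [if_neg]
      intro h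
      apply he
      rw [← h]; ring
    · intro h; exact absurd (Finset.mem_univ _) h
  rw [Finset.sum_congr rfl (fun t _ => this t), Finset.sum_const, Finset.card_univ, nsmul_eq_mul]

/-- The Mackey formula for the principal series of `GL₂`. -/
theorem classInner_indFun_borelChar (α β α' β' : MulChar F ℂ) :
    Cfsg.classInner (Cfsg.indFun (Cfsg.upperTriangularGL 2 F) (borelChar α β))
      (Cfsg.indFun (Cfsg.upperTriangularGL 2 F) (borelChar α' β')) =
      (if α = α' ∧ β = β' then 1 else 0) + (if α = β' ∧ β = α' then 1 else 0) := by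
  have : Fintype (Cfsg.upperTriangularGL 2 F) := Fintype.ofFinite _
  rw [frobenius_reciprocity (Cfsg.upperTriangularGL 2 F) (borelChar α β) _ (indFun_isClassFunction _ _)]
  unfold Cfsg.classInner
  rw [sum_borel]
  have hterm : ∀ (a d : Fˣ) (e : F),
      borelChar α β (borelMk (a, d, e)) *
        conj (Cfsg.indFun (Cfsg.upperTriangularGL 2 F) (borelChar α' β')
          ((borelMk (a, d, e) : Cfsg.upperTriangularGL 2 F) : GL (Fin 2) F)) =
      (α (a : F) * conj (α' (a : F))) * (β (d : F) * conj (β' (d : F))) +
        ∑ t : F, if (a : F) * t + e = t * (d : F) then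
          (α (a : F) * conj (β' (a : F))) * (β (d : F) * conj (α' (d : F))) else 0 := by
    intro a d e
    rw [indFun_borelChar_borelMk, borelChar_apply, borelMk_val, map_add, map_sum, mul_add, Finset.mul_sum]
    congr 1
    · simp only [Matrix.of_apply, Matrix.cons_val', Matrix.cons_val_zero, Matrix.cons_val_one, map_mul]
      ring
    · apply Finset.sum_congr rfl
      intro t _
      split_ifs
      · simp only [Matrix.of_apply, Matrix.cons_val', Matrix.cons_val_zero, Matrix.cons_val_one, map_mul]
        ring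
      · simp
  simp only [hterm, Finset.sum_add_distrib, sum_sum_ite_line, Finset.sum_const, Finset.card_univ,
    nsmul_eq_mul]
  simp only [← Finset.mul_sum, ← Finset.sum_mul, sum_units_mulChar_mul_inv]
  rw [card_borel]
  have hq : (1 : ℕ) < Fintype.card F := Fintype.one_lt_card
  have hq1 : ((Fintype.card F : ℂ) - 1) ≠ 0 := by
    have : ((Fintype.card F : ℂ) - 1) = ((Fintype.card F - 1 : ℕ) : ℂ) := by
      push_cast [hq.le]; ring
    rw [this]
    have : 0 < Fintype.card F - 1 := by omega
    exact_mod_cast this.ne'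
  have hq0 : (Fintype.card F : ℂ) ≠ 0 := by
    have : 0 < Fintype.card F := by omega
    exact_mod_cast this.ne'
  push_cast [hq.le]
  clear hterm
  have key : ∀ (P Q : Prop) [Decidable P] [Decidable Q],
      (Fintype.card F : ℂ) * ((if P then ((Fintype.card F : ℂ) - 1) else 0) *
        (if Q then ((Fintype.card F : ℂ) - 1) else 0)) =
      (((Fintype.card F : ℂ) - 1) * (((Fintype.card F : ℂ) - 1) * (Fintype.card F : ℂ))) *
        (if P ∧ Q then 1 else 0) := by
    intro P Q _ _
    by_cases hP : P <;> by_cases hQ : Q <;> simp [hP, hQ]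
    ring
  rw [key, key, ← mul_add, ← mul_assoc, inv_mul_cancel₀ (mul_ne_zero hq1 (mul_ne_zero hq1 hq0)), one_mul]


omit [Fintype F] [DecidableEq F] in
/-- `borelChar` as a homomorphism to the units of `ℂ`. -/
noncomputable def borelHom (α β : MulChar F ℂ) : Cfsg.upperTriangularGL 2 F →* ℂˣ :=
  MonoidHom.toHomUnits
    { toFun := borelChar α β
      map_one' := borelChar_one α β
      map_mul' := borelChar_mul α β }

omit [Fintype F] [DecidableEq F] in
theorem borelHom_apply (α β : MulChar F ℂ) (b : Cfsg.upperTriangularGL 2 F) :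
    ((borelHom α β b : ℂˣ) : ℂ) = borelChar α β b := rfl

omit [Fintype F] [DecidableEq F] in
theorem isIrrCharacter_borelChar (α β : MulChar F ℂ) :
    Cfsg.IsIrrCharacter (Cfsg.upperTriangularGL 2 F) (borelChar α β) :=
  isIrrCharacter_of_hom (borelHom α β)

theorem isCharacter_indFun_borelChar (α β : MulChar F ℂ) :
    Cfsg.IsCharacter (GL (Fin 2) F) (Cfsg.indFun (Cfsg.upperTriangularGL 2 F) (borelChar α β)) :=
  isCharacter_indFun _ (isCharacter_of_irr (isIrrCharacter_borelChar α β))

/-- The principal series `R(α, β)`, `α ≠ β`, is irreducible. -/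
theorem isIrrCharacter_indFun_borelChar (α β : MulChar F ℂ) (hαβ : α ≠ β) :
    Cfsg.IsIrrCharacter (GL (Fin 2) F) (Cfsg.indFun (Cfsg.upperTriangularGL 2 F) (borelChar α β)) := by
  apply isIrrCharacter_of_classInner_self_eq_one (isCharacter_indFun_borelChar α β)
  rw [classInner_indFun_borelChar]
  have : ¬ (α = β ∧ β = α) := fun h => hαβ h.1
  simp [this]

end Cfsg.Agent.Lib.H12
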