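import Mathlib
import Cfsg.Agent.Lib.H12.GL2Ind3

set_option autoImplicit false

namespace Cfsg.Agent.Lib.H12

open Matrix Cfsg.Agent.Lib.L0
open scoped ComplexConjugate

variable {F : Type*} [Field F]

/-- The linear character `α ∘ det` of `GL₂`. -/
noncomputable def detChar (α : MulChar F ℂ) : GL (Fin 2) F → ℂ :=
  fun g => α ((g : Matrix (Fin 2) (Fin 2) F).det)

theorem detChar_apply (α : MulChar F ℂ) (g : GL (Fin 2) F) :
    detChar α g = α ((g : Matrix (Fin 2) (Fin 2) F).det) := rfl

/-- `detChar` as a homomorphism to the units of `ℂ`. -/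
noncomputable def detHom (α : MulChar F ℂ) : GL (Fin 2) F →* ℂˣ :=
  MonoidHom.toHomUnits
    { toFun := detChar α
      map_one' := by simp [detChar_apply]
      map_mul' := fun g h => by simp [detChar_apply, Matrix.det_mul] }

theorem isIrrCharacter_detChar (α : MulChar F ℂ) : Cfsg.IsIrrCharacter (GL (Fin 2) F) (detChar α) :=
  isIrrCharacter_of_hom (detHom α)

theorem detChar_borel (α : MulChar F ℂ) (b : Cfsg.upperTriangularGL 2 F) :
    detChar α (b : GL (Fin 2) F) = borelChar α α b := by
  have hb := (mem_upperTriangularGL_two (b : GL (Fin 2) F)).mp b.2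
  rw [detChar_apply, borelChar_apply, Matrix.det_fin_two, hb, mul_zero, sub_zero, map_mul]

variable [Fintype F] [DecidableEq F]

/-- Orthogonality of the characters `borelChar` of the Borel subgroup. -/
theorem classInner_borelChar [Fintype (Cfsg.upperTriangularGL 2 F)] (α β α' β' : MulChar F ℂ) :
    Cfsg.classInner (borelChar α β) (borelChar α' β') = if α = α' ∧ β = β' then 1 else 0 := by
  unfold Cfsg.classInner
  rw [sum_borel]
  have hterm : ∀ (a d : Fˣ) (e : F),
      borelChar α β (borelMk (a, d, e)) * conj (borelChar α' β' (borelMk (a, d, e))) =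
      (α (a : F) * conj (α' (a : F))) * (β (d : F) * conj (β' (d : F))) := by
    intro a d e
    simp only [borelChar_apply, borelMk_val, Matrix.of_apply, Matrix.cons_val', Matrix.cons_val_zero,
      Matrix.cons_val_one, map_mul]
    ring
  simp only [hterm, Finset.sum_const, Finset.card_univ, nsmul_eq_mul]
  simp only [← Finset.mul_sum, ← Finset.sum_mul, sum_units_mulChar_mul_inv]
  rw [card_borel]
  have hq : (1 : ℕ) < Fintype.card F := Fintype.one_lt_card
  have hq1 : ((Fintype.card F : ℂ) - 1) ≠ 0 := by
    have : ((Fintype.card F : ℂ) - 1) = ((Fintype.card F - 1 : ℕ) : ℂ) := by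
      push_cast [hq.le]; ring
    rw [this]
    have : 0 < Fintype.card F - 1 := by omega
    exact_mod_cast this.ne'
  have hq0 : (Fintype.card F : ℂ) ≠ 0 := by
    have : 0 < Fintype.card F := by omega
    exact_mod_cast this.ne'
  push_cast [hq.le]
  by_cases h1 : α = α' <;> by_cases h2 : β = β' <;> simp [h1, h2]
  field_simp

theorem classInner_indFun_detChar (α β γ : MulChar F ℂ) :
    Cfsg.classInner (Cfsg.indFun (Cfsg.upperTriangularGL 2 F) (borelChar α β)) (detChar γ) =
      if α = γ ∧ β = γ then 1 else 0 := by
  have : Fintype (Cfsg.upperTriangularGL 2 F) := Fintype.ofFinite _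
  rw [frobenius_reciprocity (Cfsg.upperTriangularGL 2 F) (borelChar α β) _
    (isClassFunction_of_isCharacter (isCharacter_of_irr (isIrrCharacter_detChar γ)))]
  have : (fun h : Cfsg.upperTriangularGL 2 F => detChar γ (h : GL (Fin 2) F)) = borelChar γ γ := by
    funext b; exact detChar_borel γ b
  rw [this, classInner_borelChar]

theorem classInner_detChar_indFun (α β γ : MulChar F ℂ) :
    Cfsg.classInner (detChar γ) (Cfsg.indFun (Cfsg.upperTriangularGL 2 F) (borelChar α β)) =
      if α = γ ∧ β = γ then 1 else 0 := by
  rw [← classInner_conj_symm, classInner_indFun_detChar]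
  split_ifs <;> simp

/-- The Steinberg-type character `R(α, α) - α ∘ det`. -/
noncomputable def stChar (α : MulChar F ℂ) : GL (Fin 2) F → ℂ :=
  Cfsg.indFun (Cfsg.upperTriangularGL 2 F) (borelChar α α) - detChar α

theorem classInner_indFun_stChar (α β γ : MulChar F ℂ) :
    Cfsg.classInner (Cfsg.indFun (Cfsg.upperTriangularGL 2 F) (borelChar α β)) (stChar γ) =
      if α = γ ∧ β = γ then 1 else 0 := by
  unfold stChar
  rw [classInner_sub_right, classInner_indFun_borelChar, classInner_indFun_detChar]
  split_ifs <;> norm_num

theorem classInner_stChar_indFun (α β γ : MulChar F ℂ) :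
    Cfsg.classInner (stChar γ) (Cfsg.indFun (Cfsg.upperTriangularGL 2 F) (borelChar α β)) =
      if α = γ ∧ β = γ then 1 else 0 := by
  rw [← classInner_conj_symm, classInner_indFun_stChar]
  split_ifs <;> simp

theorem classInner_detChar_detChar (α γ : MulChar F ℂ) :
    Cfsg.classInner (detChar α) (detChar γ) = if α = γ then 1 else 0 := by
  -- via the Steinberg decomposition
  by_cases h : α = γ
  · subst h
    rw [if_pos rfl]
    exact irr_classInner_self (isIrrCharacter_detChar α)
  · rw [if_neg h]
    -- `detChar α` is a constituent of `R(α, α)`, which is orthogonal to `detChar γ`... use irreducibility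
    apply irr_classInner_ne (isIrrCharacter_detChar α) (isIrrCharacter_detChar γ)
    intro heq
    have h1 := classInner_indFun_detChar α α α
    have h2 := classInner_indFun_detChar α α γ
    rw [← heq, h1] at h2
    simp [h] at h2

theorem classInner_stChar_detChar (α γ : MulChar F ℂ) :
    Cfsg.classInner (stChar α) (detChar γ) = 0 := by
  unfold stChar
  rw [classInner_sub_left, classInner_indFun_detChar, classInner_detChar_detChar]
  by_cases h : α = γ <;> simp [h]

theorem classInner_stChar_stChar (α γ : MulChar F ℂ) :
    Cfsg.classInner (stChar α) (stChar γ) = if α = γ then 1 else 0 := by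
  have h1 : Cfsg.classInner (stChar α) (stChar γ) =
      Cfsg.classInner (stChar α) (Cfsg.indFun (Cfsg.upperTriangularGL 2 F) (borelChar γ γ)) -
        Cfsg.classInner (stChar α) (detChar γ) := by
    conv_lhs => rw [show stChar γ = Cfsg.indFun (Cfsg.upperTriangularGL 2 F) (borelChar γ γ) - detChar γ from rfl]
    rw [classInner_sub_right]
  rw [h1, classInner_stChar_indFun, classInner_stChar_detChar, sub_zero]
  by_cases h : α = γ
  · subst h; simp
  · have h' : ¬ γ = α := fun e => h e.symm
    simp [h, h']

theorem isCharacter_stChar (α : MulChar F ℂ) : Cfsg.IsCharacter (GL (Fin 2) F) (stChar α) := by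
  classical
  apply isCharacter_of_classInner_nat
  · exact Cfsg.Agent.Lib.H24.isClassFunction_sub (indFun_isClassFunction _ _)
      (isClassFunction_of_isCharacter (isCharacter_of_irr (isIrrCharacter_detChar α)))
  · intro χ
    unfold stChar
    rw [classInner_sub_left]
    obtain ⟨n, hn⟩ := classInner_char_irr_nat (isCharacter_indFun_borelChar α α) χ.2
    by_cases hχ : (χ : GL (Fin 2) F → ℂ) = detChar α
    · rw [hχ, classInner_indFun_detChar, irr_classInner_self (isIrrCharacter_detChar α)]
      exact ⟨0, by simp⟩
    · rw [hn, irr_classInner_ne (isIrrCharacter_detChar α) χ.2 (fun h => hχ h.symm)]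
      exact ⟨n, by simp⟩

theorem isIrrCharacter_stChar (α : MulChar F ℂ) : Cfsg.IsIrrCharacter (GL (Fin 2) F) (stChar α) := by
  apply isIrrCharacter_of_classInner_self_eq_one (isCharacter_stChar α)
  rw [classInner_stChar_stChar, if_pos rfl]

end Cfsg.Agent.Lib.H12
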