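import Mathlib
import Cfsg.Agent.Lib.H12.GL2PS

set_option autoImplicit false

namespace Cfsg.Agent.Lib.H12

open Matrix Cfsg.Agent.Lib.L0
open scoped ComplexConjugate

variable {F : Type*} [Field F] [Fintype F]

theorem sum_mulChar_eq_zero [Fintype (MulChar F ℂ)] {a : F} (ha : a ≠ 1) :
    ∑ χ : MulChar F ℂ, χ a = 0 := by
  obtain ⟨χ, hχ⟩ := MulChar.exists_apply_ne_one_of_hasEnoughRootsOfUnity F ℂ ha
  refine eq_zero_of_mul_eq_self_left hχ ?_
  simp only [Finset.mul_sum, ← MulChar.mul_apply]
  exact Fintype.sum_bijective _ (Group.mulLeft_bijective χ) _ _ fun χ' ↦ rfl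

theorem card_mulChar : Nat.card (MulChar F ℂ) = Fintype.card F - 1 := by
  rw [MulChar.card_eq_card_units_of_hasEnoughRootsOfUnity, Nat.card_units, Nat.card_eq_fintype_card]

/-- Dual orthogonality for the multiplicative characters of a finite field. -/
theorem sum_mulChar_mul_conj [Fintype (MulChar F ℂ)] [DecidableEq F] (a a₀ : Fˣ) :
    ∑ χ : MulChar F ℂ, χ (a : F) * conj (χ (a₀ : F)) =
      if a = a₀ then ((Fintype.card F : ℂ) - 1) else 0 := by
  have h1 : ∀ χ : MulChar F ℂ, χ (a : F) * conj (χ (a₀ : F)) = χ ((a * a₀⁻¹ : Fˣ) : F) := by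
    intro χ
    have : conj (χ (a₀ : F)) = χ ((a₀⁻¹ : Fˣ) : F) := by
      have h := MulChar.star_apply' χ (a₀ : F)
      rw [MulChar.inv_apply' ] at h
      rw [Units.val_inv_eq_inv_val]
      exact h
    rw [this, Units.val_mul, map_mul]
  rw [Finset.sum_congr rfl (fun χ _ => h1 χ)]
  split_ifs with h
  · subst h
    simp only [mul_inv_cancel, Units.val_one, map_one, Finset.sum_const, Finset.card_univ, nsmul_eq_mul,
      mul_one]
    rw [← Nat.card_eq_fintype_card, card_mulChar]
    have : 1 ≤ Fintype.card F := Fintype.card_pos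
    push_cast [this]
    ring
  · apply sum_mulChar_eq_zero
    intro h1
    apply h
    have : a * a₀⁻¹ = 1 := Units.ext h1
    exact mul_inv_eq_one.mp this

variable [DecidableEq F]

/-- Fourier inversion on `Fˣ`: a function orthogonal to all multiplicative characters vanishes. -/
theorem eq_zero_of_sum_mulChar_mul_eq_zero (f : Fˣ → ℂ)
    (hf : ∀ α : MulChar F ℂ, ∑ a : Fˣ, α (a : F) * f a = 0) (a₀ : Fˣ) : f a₀ = 0 := by
  classical
  have : Fintype (MulChar F ℂ) := Fintype.ofFinite _
  have h3 : ∑ α : MulChar F ℂ, conj (α (a₀ : F)) * ∑ a : Fˣ, α (a : F) * f a = 0 := by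
    apply Finset.sum_eq_zero
    intro α _
    rw [hf, mul_zero]
  have h4 : ∑ α : MulChar F ℂ, conj (α (a₀ : F)) * ∑ a : Fˣ, α (a : F) * f a =
      ∑ a : Fˣ, (∑ α : MulChar F ℂ, α (a : F) * conj (α (a₀ : F))) * f a := by
    simp only [Finset.mul_sum, Finset.sum_mul]
    rw [Finset.sum_comm]
    apply Finset.sum_congr rfl
    intro a _
    apply Finset.sum_congr rfl
    intro α _
    ring
  rw [h4] at h3
  simp only [sum_mulChar_mul_conj] at h3
  rw [Finset.sum_eq_single a₀] at h3
  · simp only [if_true] at h3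
    have hq : (1 : ℕ) < Fintype.card F := Fintype.one_lt_card
    have hq1 : ((Fintype.card F : ℂ) - 1) ≠ 0 := by
      have : ((Fintype.card F : ℂ) - 1) = ((Fintype.card F - 1 : ℕ) : ℂ) := by
        push_cast [hq.le]; ring
      rw [this]
      have : 0 < Fintype.card F - 1 := by omega
      exact_mod_cast this.ne'
    exact (mul_eq_zero.mp h3).resolve_left hq1
  · intro a _ ha
    rw [if_neg ha, zero_mul]
  · intro ha; exact absurd (Finset.mem_univ _) ha

/-- A class function orthogonal to the whole principal series has vanishing sums over the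
cosets of the unipotent radical in the Borel subgroup. -/
theorem sum_borelMk_eq_zero_of_cuspidal (χ : GL (Fin 2) F → ℂ) (hχ : Cfsg.IsClassFunction (GL (Fin 2) F) χ)
    (hc : ∀ α β : MulChar F ℂ,
      Cfsg.classInner (Cfsg.indFun (Cfsg.upperTriangularGL 2 F) (borelChar α β)) χ = 0)
    (a₀ d₀ : Fˣ) :
    ∑ e : F, χ ((borelMk (a₀, d₀, e) : Cfsg.upperTriangularGL 2 F) : GL (Fin 2) F) = 0 := by
  classical
  have : Fintype (Cfsg.upperTriangularGL 2 F) := Fintype.ofFinite _
  set h : Fˣ → Fˣ → ℂ := fun a d =>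
    ∑ e : F, χ ((borelMk (a, d, e) : Cfsg.upperTriangularGL 2 F) : GL (Fin 2) F) with hh
  -- the Frobenius reciprocity form of the hypothesis
  have key : ∀ α β : MulChar F ℂ, ∑ a : Fˣ, α (a : F) * ∑ d : Fˣ, β (d : F) * conj (h a d) = 0 := by
    intro α β
    have h1 := hc α β
    rw [frobenius_reciprocity (Cfsg.upperTriangularGL 2 F) (borelChar α β) _ hχ] at h1
    unfold Cfsg.classInner at h1
    rw [sum_borel] at h1
    have hB : (Nat.card (Cfsg.upperTriangularGL 2 F) : ℂ)⁻¹ ≠ 0 := by
      apply inv_ne_zero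
      have : 0 < Nat.card (Cfsg.upperTriangularGL 2 F) := Nat.card_pos
      exact_mod_cast this.ne'
    have h2 := (mul_eq_zero.mp h1).resolve_left hB
    rw [← h2]
    apply Finset.sum_congr rfl
    intro a _
    rw [Finset.mul_sum]
    apply Finset.sum_congr rfl
    intro d _
    rw [hh]
    simp only [map_sum, Finset.mul_sum]
    apply Finset.sum_congr rfl
    intro e _
    simp only [borelChar_apply, borelMk_val, Matrix.of_apply, Matrix.cons_val', Matrix.cons_val_zero,
      Matrix.cons_val_one]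
    ring
  have h1 : ∀ β : MulChar F ℂ, ∑ d : Fˣ, β (d : F) * conj (h a₀ d) = 0 := fun β =>
    eq_zero_of_sum_mulChar_mul_eq_zero (fun a => ∑ d : Fˣ, β (d : F) * conj (h a d))
      (fun α => key α β) a₀
  have h2 := eq_zero_of_sum_mulChar_mul_eq_zero (fun d => conj (h a₀ d)) h1 d₀
  have := congrArg conj h2
  simpa using this

end Cfsg.Agent.Lib.H12
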