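import Mathlib
import Cfsg.Agent.Lib.H12.GL2Cusp
import Cfsg.Agent.Lib.H23.DegreeDvd

set_option autoImplicit false

namespace Cfsg.Agent.Lib.H12

open Matrix Cfsg.Agent.Lib.L0
open scoped ComplexConjugate

variable {F : Type*} [Field F]

theorem classFunction_eq_of_mul_eq {G : Type*} [Group G] (χ : G → ℂ) (hχ : Cfsg.IsClassFunction G χ)
    {g g' h : G} (hh : h * g = g' * h) : χ g' = χ g := by
  have : g' = h * g * h⁻¹ := by rw [hh]; group
  rw [this, hχ]

/-- Upper triangular elements with distinct diagonal entries are conjugate to the diagonal one. -/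
theorem classFunction_borelMk_of_ne (χ : GL (Fin 2) F → ℂ) (hχ : Cfsg.IsClassFunction (GL (Fin 2) F) χ)
    (a d : Fˣ) (had : a ≠ d) (e : F) :
    χ ((borelMk (a, d, e) : Cfsg.upperTriangularGL 2 F) : GL (Fin 2) F) =
      χ ((borelMk (a, d, 0) : Cfsg.upperTriangularGL 2 F) : GL (Fin 2) F) := by
  have hne : (d : F) - (a : F) ≠ 0 := by
    intro h
    apply had
    exact Units.ext (sub_eq_zero.mp h).symm
  apply classFunction_eq_of_mul_eq χ hχ
    (h := ((borelMk (1, 1, e / ((d : F) - (a : F))) : Cfsg.upperTriangularGL 2 F) : GL (Fin 2) F))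
  apply Matrix.GeneralLinearGroup.ext
  intro i j
  simp only [Matrix.GeneralLinearGroup.coe_mul, borelMk_val]
  fin_cases i <;> fin_cases j <;> simp [Matrix.mul_apply, Fin.sum_univ_two]
  field_simp
  ring

/-- Upper triangular non-scalar elements with equal diagonal entries are all conjugate. -/
theorem classFunction_borelMk_of_eq (χ : GL (Fin 2) F → ℂ) (hχ : Cfsg.IsClassFunction (GL (Fin 2) F) χ)
    (a : Fˣ) (e : F) (he : e ≠ 0) :
    χ ((borelMk (a, a, e) : Cfsg.upperTriangularGL 2 F) : GL (Fin 2) F) =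
      χ ((borelMk (a, a, 1) : Cfsg.upperTriangularGL 2 F) : GL (Fin 2) F) := by
  apply classFunction_eq_of_mul_eq χ hχ
    (h := ((borelMk (Units.mk0 e he, 1, 0) : Cfsg.upperTriangularGL 2 F) : GL (Fin 2) F))
  apply Matrix.GeneralLinearGroup.ext
  intro i j
  simp only [Matrix.GeneralLinearGroup.coe_mul, borelMk_val]
  fin_cases i <;> fin_cases j <;> simp [Matrix.mul_apply, Fin.sum_univ_two]
  ring

theorem borelMk_one : ((borelMk ((1 : Fˣ), (1 : Fˣ), (0 : F)) : Cfsg.upperTriangularGL 2 F) : GL (Fin 2) F) = 1 := by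
  apply Matrix.GeneralLinearGroup.ext
  intro i j
  rw [borelMk_val]
  fin_cases i <;> fin_cases j <;> simp

variable [Fintype F] [DecidableEq F]

/-- A class function orthogonal to the principal series vanishes on the split regular elements of
the Borel subgroup. -/
theorem cuspidal_apply_of_ne (χ : GL (Fin 2) F → ℂ) (hχ : Cfsg.IsClassFunction (GL (Fin 2) F) χ)
    (hc : ∀ α β : MulChar F ℂ,
      Cfsg.classInner (Cfsg.indFun (Cfsg.upperTriangularGL 2 F) (borelChar α β)) χ = 0)
    (a d : Fˣ) (had : a ≠ d) (e : F) :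
    χ ((borelMk (a, d, e) : Cfsg.upperTriangularGL 2 F) : GL (Fin 2) F) = 0 := by
  have h := sum_borelMk_eq_zero_of_cuspidal χ hχ hc a d
  rw [Finset.sum_congr rfl (fun e _ => classFunction_borelMk_of_ne χ hχ a d had e), Finset.sum_const,
    Finset.card_univ, nsmul_eq_mul] at h
  rw [classFunction_borelMk_of_ne χ hχ a d had e]
  have hq0 : (Fintype.card F : ℂ) ≠ 0 := by
    have : 0 < Fintype.card F := Fintype.card_pos
    exact_mod_cast this.ne'
  exact (mul_eq_zero.mp h).resolve_left hq0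

/-- For a class function orthogonal to the principal series, the value at a scalar `a` plus `q - 1`
times the value at `a u` vanishes. -/
theorem cuspidal_apply_of_eq (χ : GL (Fin 2) F → ℂ) (hχ : Cfsg.IsClassFunction (GL (Fin 2) F) χ)
    (hc : ∀ α β : MulChar F ℂ,
      Cfsg.classInner (Cfsg.indFun (Cfsg.upperTriangularGL 2 F) (borelChar α β)) χ = 0)
    (a : Fˣ) :
    χ ((borelMk (a, a, 0) : Cfsg.upperTriangularGL 2 F) : GL (Fin 2) F) +
      ((Fintype.card F : ℂ) - 1) * χ ((borelMk (a, a, 1) : Cfsg.upperTriangularGL 2 F) : GL (Fin 2) F) = 0 := by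
  have h := sum_borelMk_eq_zero_of_cuspidal χ hχ hc a a
  rw [← Finset.add_sum_erase Finset.univ _ (Finset.mem_univ (0 : F))] at h
  have h2 : ∀ e ∈ Finset.univ.erase (0 : F),
      χ ((borelMk (a, a, e) : Cfsg.upperTriangularGL 2 F) : GL (Fin 2) F) =
      χ ((borelMk (a, a, 1) : Cfsg.upperTriangularGL 2 F) : GL (Fin 2) F) := by
    intro e he
    exact classFunction_borelMk_of_eq χ hχ a e (Finset.ne_of_mem_erase he)
  rw [Finset.sum_congr rfl h2, Finset.sum_const, Finset.card_erase_of_mem (Finset.mem_univ _),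
    Finset.card_univ, nsmul_eq_mul] at h
  have hq : 1 ≤ Fintype.card F := Fintype.card_pos
  rw [← h]
  push_cast [hq]
  ring

/-- A rational number which is an algebraic integer in `ℂ` is an integer. -/
theorem exists_int_of_isIntegral_rat (r : ℚ) (h : IsIntegral ℤ ((r : ℂ))) : ∃ y : ℤ, (y : ℚ) = r := by
  have h1 : IsIntegral ℤ (algebraMap ℚ ℂ r) := by simpa using h
  have h2 : IsIntegral ℤ r := (isIntegral_algebraMap_iff (algebraMap ℚ ℂ).injective).mp h1
  obtain ⟨y, hy⟩ := (IsIntegrallyClosed.isIntegral_iff (R := ℤ) (K := ℚ)).mp h2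
  exact ⟨y, by simpa using hy⟩

/-- The degree of an irreducible character orthogonal to the principal series is a positive
multiple `m (q - 1)` of `q - 1`, and its value at the unipotent element `u` is `-m`. -/
theorem cuspidal_degree (χ : GL (Fin 2) F → ℂ) (hχ : Cfsg.IsIrrCharacter (GL (Fin 2) F) χ)
    (hc : ∀ α β : MulChar F ℂ,
      Cfsg.classInner (Cfsg.indFun (Cfsg.upperTriangularGL 2 F) (borelChar α β)) χ = 0) :
    ∃ m : ℕ, 1 ≤ m ∧ χ 1 = (m : ℂ) * ((Fintype.card F : ℂ) - 1) ∧
      χ ((borelMk (1, 1, 1) : Cfsg.upperTriangularGL 2 F) : GL (Fin 2) F) = -(m : ℂ) := by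
  have hcf := isClassFunction_of_isCharacter (isCharacter_of_irr hχ)
  obtain ⟨n, hn0, hn, -⟩ := Cfsg.Agent.Lib.H23.irr_apply_one_dvd_card χ hχ
  have h1 := cuspidal_apply_of_eq χ hcf hc 1
  rw [borelMk_one, hn] at h1
  set c := χ ((borelMk (1, 1, 1) : Cfsg.upperTriangularGL 2 F) : GL (Fin 2) F) with hcdef
  have hint : IsIntegral ℤ c := isCharacter_isIntegral (isCharacter_of_irr hχ) _
  have hq : 1 < Fintype.card F := Fintype.one_lt_card
  have hq1 : ((Fintype.card F : ℂ) - 1) ≠ 0 := by
    have : ((Fintype.card F : ℂ) - 1) = ((Fintype.card F - 1 : ℕ) : ℂ) := by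
      push_cast [hq.le]; ring
    rw [this]
    have : 0 < Fintype.card F - 1 := by omega
    exact_mod_cast this.ne'
  have hc' : c = ((-(n : ℚ) / ((Fintype.card F : ℚ) - 1) : ℚ) : ℂ) := by
    push_cast
    field_simp
    linear_combination h1
  rw [hc'] at hint
  obtain ⟨y, hy⟩ := exists_int_of_isIntegral_rat _ hint
  have hq1' : ((Fintype.card F : ℚ) - 1) ≠ 0 := by
    have : (1 : ℚ) < Fintype.card F := by exact_mod_cast hq
    linarith
  have hy' : (y : ℚ) * ((Fintype.card F : ℚ) - 1) = -(n : ℚ) := by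
    rw [hy]; field_simp
  have hyz : y * ((Fintype.card F : ℤ) - 1) = -(n : ℤ) := by exact_mod_cast hy'
  have hyneg : y < 0 := by
    by_contra hge
    rw [not_lt] at hge
    have h1 : (0 : ℤ) ≤ y * ((Fintype.card F : ℤ) - 1) := by
      apply mul_nonneg hge
      have : (1 : ℤ) < Fintype.card F := by exact_mod_cast hq
      linarith
    have h2 : (0 : ℤ) < n := by exact_mod_cast hn0
    linarith
  obtain ⟨m, hm⟩ := Int.eq_ofNat_of_zero_le (show 0 ≤ -y by omega)
  have hym : y = -(m : ℤ) := by omega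
  have hyc : (y : ℂ) = -(m : ℂ) := by rw [hym]; push_cast; ring
  refine ⟨m, ?_, ?_, ?_⟩
  · omega
  · rw [hn]
    have := congrArg (fun z : ℤ => (z : ℂ)) hyz
    push_cast at this
    rw [hyc] at this
    linear_combination this
  · rw [hc', ← hy]
    push_cast
    rw [hyc]

end Cfsg.Agent.Lib.H12
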