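import Mathlib
import Cfsg.Agent.Lib.H12.GL2Cusp2

set_option autoImplicit false

namespace Cfsg.Agent.Lib.H12

open Matrix Cfsg.Agent.Lib.L0
open scoped ComplexConjugate

variable {F : Type*} [Field F] [Fintype F] [DecidableEq F]

/-- the principal series function -/
noncomputable abbrev psChar (α β : MulChar F ℂ) : GL (Fin 2) F → ℂ :=
  Cfsg.indFun (Cfsg.upperTriangularGL 2 F) (borelChar α β)

theorem psChar_one (α β : MulChar F ℂ) : psChar α β 1 = (Fintype.card F : ℂ) + 1 := by
  rw [psChar, indFun_borelChar_apply]
  simp
  ring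

omit [Fintype F] [DecidableEq F] in
theorem detChar_one (α : MulChar F ℂ) : detChar α 1 = 1 := by
  simp [detChar_apply]

theorem stChar_one (α : MulChar F ℂ) : stChar α 1 = (Fintype.card F : ℂ) := by
  unfold stChar
  rw [Pi.sub_apply, detChar_one]
  have := psChar_one α α
  rw [psChar] at this
  rw [this]
  ring

theorem psChar_eq_stChar_add (α : MulChar F ℂ) : psChar α α = stChar α + detChar α := by
  unfold stChar
  simp

theorem psChar_swap (α β : MulChar F ℂ) : psChar α β = psChar β α := by
  have h1 := classInner_indFun_borelChar α β α β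
  have h2 := classInner_indFun_borelChar α β β α
  have h3 := classInner_indFun_borelChar β α α β
  have h4 := classInner_indFun_borelChar β α β α
  have hz : Cfsg.classInner (psChar α β - psChar β α) (psChar α β - psChar β α) = 0 := by
    rw [classInner_sub_left, classInner_sub_right, classInner_sub_right, h1, h2, h3, h4]
    by_cases h : α = β
    · subst h; simp
    · have h' : ¬ β = α := fun e => h e.symm
      simp [h, h']
  exact sub_eq_zero.mp (classInner_self_eq_zero hz)

theorem psChar_eq_iff (α β α' β' : MulChar F ℂ) :
    psChar α β = psChar α' β' ↔ (α = α' ∧ β = β') ∨ (α = β' ∧ β = α') := by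
  constructor
  · intro h
    have h1 := classInner_indFun_borelChar α β α β
    have h2 := classInner_indFun_borelChar α β α' β'
    have h' : Cfsg.indFun (Cfsg.upperTriangularGL 2 F) (borelChar α β) =
      Cfsg.indFun (Cfsg.upperTriangularGL 2 F) (borelChar α' β') := h
    rw [← h', h1] at h2
    by_contra hne
    rw [not_or] at hne
    simp only [hne.1, hne.2, if_false, add_zero] at h2
    by_cases hab : α = β ∧ β = α
    · rw [if_pos hab] at h2; norm_num at h2
    · rw [if_neg hab] at h2; norm_num at h2
  · rintro (⟨rfl, rfl⟩ | ⟨rfl, rfl⟩)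
    · rfl
    · exact psChar_swap _ _

/-- Every irreducible character of `GL₂(F)` is in the principal series or orthogonal to it. -/
theorem irr_cases (χ : GL (Fin 2) F → ℂ) (hχ : Cfsg.IsIrrCharacter (GL (Fin 2) F) χ) :
    (∃ α, χ = detChar α) ∨ (∃ α, χ = stChar α) ∨ (∃ α β, α ≠ β ∧ χ = psChar α β) ∨
      (∀ α β : MulChar F ℂ, Cfsg.classInner (psChar α β) χ = 0) := by
  by_cases h : ∀ α β : MulChar F ℂ, Cfsg.classInner (psChar α β) χ = 0
  · exact Or.inr (Or.inr (Or.inr h))
  · rw [not_forall] at h
    obtain ⟨α, h⟩ := h
    rw [not_forall] at h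
    obtain ⟨β, h⟩ := h
    by_cases hαβ : α = β
    · subst hαβ
      rw [psChar_eq_stChar_add, classInner_add_left] at h
      by_cases h1 : Cfsg.classInner (stChar α) χ = 0
      · rw [h1, zero_add] at h
        left
        refine ⟨α, ?_⟩
        by_contra hne
        exact h (irr_classInner_ne (isIrrCharacter_detChar α) hχ (fun e => hne e.symm))
      · right; left
        refine ⟨α, ?_⟩
        by_contra hne
        exact h1 (irr_classInner_ne (isIrrCharacter_stChar α) hχ (fun e => hne e.symm))
    · right; right; left
      refine ⟨α, β, hαβ, ?_⟩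
      by_contra hne
      exact h (irr_classInner_ne (isIrrCharacter_indFun_borelChar α β hαβ) hχ (fun e => hne e.symm))

end Cfsg.Agent.Lib.H12
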