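import Mathlib
import Cfsg.Agent.Lib.H12.GL2Irr
import Cfsg.Agent.Lib.H24.CharOrth

set_option autoImplicit false

namespace Cfsg.Agent.Lib.H12

open Matrix Cfsg.Agent.Lib.L0
open scoped ComplexConjugate

variable {F : Type*} [Field F] [Fintype F] [DecidableEq F]

/-- The principal series indexed by unordered pairs. -/
noncomputable def rSym : Sym2 (MulChar F ℂ) → (GL (Fin 2) F → ℂ) :=
  Sym2.lift ⟨fun α β => psChar α β, fun α β => psChar_swap α β⟩

theorem rSym_mk (α β : MulChar F ℂ) : rSym s(α, β) = psChar α β := rfl

theorem isIrrCharacter_rSym (s : Sym2 (MulChar F ℂ)) (hs : ¬ s.IsDiag) :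
    Cfsg.IsIrrCharacter (GL (Fin 2) F) (rSym s) := by
  induction s using Sym2.ind with
  | _ α β =>
    rw [Sym2.mk_isDiag_iff] at hs
    exact isIrrCharacter_indFun_borelChar α β hs

theorem rSym_injective : Function.Injective (rSym (F := F)) := by
  intro s s' h
  induction s using Sym2.ind with
  | _ α β =>
    induction s' using Sym2.ind with
    | _ α' β' =>
      rw [rSym_mk, rSym_mk, psChar_eq_iff] at h
      rw [Sym2.eq_iff]
      exact h

theorem rSym_one (s : Sym2 (MulChar F ℂ)) : rSym s 1 = (Fintype.card F : ℂ) + 1 := by
  induction s using Sym2.ind with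
  | _ α β => rw [rSym_mk, psChar_one]

omit [DecidableEq F] in
theorem card_ne_one_complex : (Fintype.card F : ℂ) ≠ 1 := by
  have : 1 < Fintype.card F := Fintype.one_lt_card
  exact_mod_cast this.ne'

omit [DecidableEq F] in
theorem card_ne_zero_complex : (Fintype.card F : ℂ) ≠ 0 := by
  have : 0 < Fintype.card F := Fintype.card_pos
  exact_mod_cast this.ne'

/-- The parameter set of the principal series irreducible characters. -/
abbrev PSParam (F : Type*) [Field F] : Type _ :=
  MulChar F ℂ ⊕ MulChar F ℂ ⊕ {s : Sym2 (MulChar F ℂ) // ¬ s.IsDiag}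

/-- The principal series irreducible characters. -/
noncomputable def psIrr : PSParam F → Cfsg.IrrCharacter (GL (Fin 2) F)
  | Sum.inl α => ⟨detChar α, isIrrCharacter_detChar α⟩
  | Sum.inr (Sum.inl α) => ⟨stChar α, isIrrCharacter_stChar α⟩
  | Sum.inr (Sum.inr s) => ⟨rSym s.1, isIrrCharacter_rSym s.1 s.2⟩

theorem psIrr_injective : Function.Injective (psIrr (F := F)) := by
  rintro (α | α | s) (α' | α' | s') h
  · have h' : detChar α = detChar α' := congrArg Subtype.val h
    have h1 := classInner_detChar_detChar α α'
    rw [← h', irr_classInner_self (isIrrCharacter_detChar α)] at h1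
    by_cases hαα : α = α'
    · rw [hαα]
    · rw [if_neg hαα] at h1; exact absurd h1 one_ne_zero
  · exfalso
    have h' : detChar α = stChar α' := congrArg Subtype.val h
    have := congrFun h' 1
    rw [detChar_one, stChar_one] at this
    exact card_ne_one_complex this.symm
  · exfalso
    have h' : detChar α = rSym s'.1 := congrArg Subtype.val h
    have := congrFun h' 1
    rw [detChar_one, rSym_one] at this
    apply card_ne_zero_complex (F := F)
    linear_combination (-1 : ℂ) * this
  · exfalso
    have h' : stChar α = detChar α' := congrArg Subtype.val h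
    have := congrFun h' 1
    rw [detChar_one, stChar_one] at this
    exact card_ne_one_complex this
  · have h' : stChar α = stChar α' := congrArg Subtype.val h
    have h1 := classInner_stChar_stChar α α'
    rw [← h', irr_classInner_self (isIrrCharacter_stChar α)] at h1
    by_cases hαα : α = α'
    · rw [hαα]
    · rw [if_neg hαα] at h1; exact absurd h1 one_ne_zero
  · exfalso
    have h' : stChar α = rSym s'.1 := congrArg Subtype.val h
    have := congrFun h' 1
    rw [stChar_one, rSym_one] at this
    have h0 : (0 : ℂ) = 1 := by linear_combination this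
    exact zero_ne_one h0
  · exfalso
    have h' : rSym s.1 = detChar α' := congrArg Subtype.val h
    have := congrFun h' 1
    rw [detChar_one, rSym_one] at this
    apply card_ne_zero_complex (F := F)
    linear_combination this
  · exfalso
    have h' : rSym s.1 = stChar α' := congrArg Subtype.val h
    have := congrFun h' 1
    rw [stChar_one, rSym_one] at this
    have h0 : (0 : ℂ) = 1 := by linear_combination (-1 : ℂ) * this
    exact zero_ne_one h0
  · have h' : rSym s.1 = rSym s'.1 := congrArg Subtype.val h
    have := rSym_injective h'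
    rw [Subtype.ext this]

/-- An irreducible character orthogonal to the principal series is not in the image of `psIrr`. -/
theorem not_mem_range_psIrr_iff (χ : Cfsg.IrrCharacter (GL (Fin 2) F)) :
    χ ∉ Set.range (psIrr (F := F)) ↔
      ∀ α β : MulChar F ℂ, Cfsg.classInner (psChar α β) (χ : GL (Fin 2) F → ℂ) = 0 := by
  constructor
  · intro hχ
    rcases irr_cases (χ : GL (Fin 2) F → ℂ) χ.2 with ⟨α, h⟩ | ⟨α, h⟩ | ⟨α, β, hαβ, h⟩ | h
    · exfalso; apply hχ
      exact ⟨Sum.inl α, Subtype.ext h.symm⟩
    · exfalso; apply hχ
      exact ⟨Sum.inr (Sum.inl α), Subtype.ext h.symm⟩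
    · exfalso; apply hχ
      exact ⟨Sum.inr (Sum.inr ⟨s(α, β), by rwa [Sym2.mk_isDiag_iff]⟩), Subtype.ext h.symm⟩
    · exact h
  · rintro h ⟨p, rfl⟩
    rcases p with α | α | ⟨s, hs⟩
    · have := h α α
      simp only [psIrr] at this
      rw [psChar, classInner_indFun_detChar] at this
      simp at this
    · have := h α α
      simp only [psIrr] at this
      rw [psChar, classInner_indFun_stChar] at this
      simp at this
    · induction s using Sym2.ind with
      | _ α β =>
        have := h α β
        simp only [psIrr, rSym_mk] at this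
        rw [psChar, classInner_indFun_borelChar] at this
        rw [Sym2.mk_isDiag_iff] at hs
        have hne : ¬ (α = β ∧ β = α) := fun h => hs h.1
        simp [hne] at this

end Cfsg.Agent.Lib.H12
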