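import Mathlib
import Cfsg.Agent.Lib.H12.GL2Count

set_option autoImplicit false

namespace Cfsg.Agent.Lib.H12

open Matrix Cfsg.Agent.Lib.L0
open scoped ComplexConjugate

variable {F : Type*} [Field F] [Fintype F] [DecidableEq F]

omit [DecidableEq F] in
theorem card_irr_gl2 :
    Nat.card (Cfsg.IrrCharacter (GL (Fin 2) F)) = (Fintype.card F - 1) + Fintype.card F * (Fintype.card F - 1) := by
  rw [Cfsg.Agent.Lib.H24.card_irr_eq_card_conjClasses, ← Nat.card_congr (gl2ClassEquiv (F := F)),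
    Nat.card_sum, Nat.card_prod, Nat.card_units, Nat.card_eq_fintype_card]

omit [DecidableEq F] in
theorem card_gl2 :
    Nat.card (GL (Fin 2) F) = (Fintype.card F ^ 2 - 1) * (Fintype.card F ^ 2 - Fintype.card F) := by
  rw [Matrix.card_GL_field, Fin.prod_univ_two]
  simp

omit [DecidableEq F] in
theorem card_offDiag_mulChar :
    Nat.card {s : Sym2 (MulChar F ℂ) // ¬ s.IsDiag} = (Fintype.card F - 1).choose 2 := by
  classical
  have : Fintype (MulChar F ℂ) := Fintype.ofFinite _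
  rw [Nat.card_eq_fintype_card, Sym2.card_subtype_not_diag, ← Nat.card_eq_fintype_card, card_mulChar]

omit [DecidableEq F] in
theorem card_psParam :
    Nat.card (PSParam F) = (Fintype.card F - 1) + ((Fintype.card F - 1) + (Fintype.card F - 1).choose 2) := by
  rw [Nat.card_sum, Nat.card_sum, card_mulChar, card_offDiag_mulChar]

/-- The irreducible characters of `GL₂(F)` outside the principal series have degree `q - 1` and take the
value `-1` at the unipotent element `u`. -/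
theorem cuspidal_values (χ₀ : Cfsg.IrrCharacter (GL (Fin 2) F)) (hχ₀ : χ₀ ∉ Set.range (psIrr (F := F))) :
    (χ₀ : GL (Fin 2) F → ℂ) 1 = (Fintype.card F : ℂ) - 1 ∧
      (χ₀ : GL (Fin 2) F → ℂ) ((borelMk (1, 1, 1) : Cfsg.upperTriangularGL 2 F) : GL (Fin 2) F) = -1 := by
  classical
  have : Fintype (MulChar F ℂ) := Fintype.ofFinite _
  have : Fintype (Cfsg.IrrCharacter (GL (Fin 2) F)) := Fintype.ofFinite _
  set Q : ℂ := (Fintype.card F : ℂ) with hQ
  have hq : 1 < Fintype.card F := Fintype.one_lt_card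
  have hq1 : Q - 1 ≠ 0 := by
    have : Q - 1 = ((Fintype.card F - 1 : ℕ) : ℂ) := by
      rw [hQ]; push_cast [hq.le]; ring
    rw [this]
    have : 0 < Fintype.card F - 1 := by omega
    exact_mod_cast this.ne'
  set 𝒞 : Finset (Cfsg.IrrCharacter (GL (Fin 2) F)) :=
    Finset.univ.filter (fun χ => χ ∉ Set.range (psIrr (F := F))) with h𝒞
  have hex : ∀ χ ∈ 𝒞, ∃ m : ℕ, 1 ≤ m ∧ (χ : GL (Fin 2) F → ℂ) 1 = (m : ℂ) * (Q - 1) ∧
      (χ : GL (Fin 2) F → ℂ) ((borelMk (1, 1, 1) : Cfsg.upperTriangularGL 2 F) : GL (Fin 2) F) = -(m : ℂ) := by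
    intro χ hχ
    rw [h𝒞, Finset.mem_filter] at hχ
    exact cuspidal_degree (χ : GL (Fin 2) F → ℂ) χ.2 ((not_mem_range_psIrr_iff χ).mp hχ.2)
  choose! m hm using hex
  -- splitting sums over the irreducible characters
  have hsplit : ∀ f : Cfsg.IrrCharacter (GL (Fin 2) F) → ℂ,
      ∑ χ, f χ = ∑ p : PSParam F, f (psIrr p) + ∑ χ ∈ 𝒞, f χ := by
    intro f
    rw [← Finset.sum_filter_add_sum_filter_not Finset.univ (fun χ => χ ∈ Set.range (psIrr (F := F))) f]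
    congr 1
    have : Finset.univ.filter (fun χ => χ ∈ Set.range (psIrr (F := F))) = Finset.univ.image psIrr := by
      ext χ
      simp
    rw [this, Finset.sum_image (fun a _ b _ h => psIrr_injective h)]
  -- cardinalities
  have hn1 : (Fintype.card (MulChar F ℂ) : ℂ) = Q - 1 := by
    rw [← Nat.card_eq_fintype_card, card_mulChar, hQ]
    push_cast [hq.le]; ring
  have hc2 : 2 * (Fintype.card {s : Sym2 (MulChar F ℂ) // ¬ s.IsDiag} : ℂ) = (Q - 1) * (Q - 2) := by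
    rw [← Nat.card_eq_fintype_card, card_offDiag_mulChar, Nat.cast_choose_two, hQ]
    push_cast [hq.le]
    ring
  set c2 : ℂ := (Fintype.card {s : Sym2 (MulChar F ℂ) // ¬ s.IsDiag} : ℂ) with hc2def
  -- sum of squares of degrees
  have h1 := hsplit (fun χ => (χ : GL (Fin 2) F → ℂ) 1 ^ 2)
  rw [Cfsg.Agent.Lib.H24.sum_irr_one_sq, card_gl2] at h1
  have hps1 : ∑ p : PSParam F, ((psIrr p : Cfsg.IrrCharacter (GL (Fin 2) F)) : GL (Fin 2) F → ℂ) 1 ^ 2 =
      (Q - 1) + ((Q - 1) * Q ^ 2 + c2 * (Q + 1) ^ 2) := by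
    rw [Fintype.sum_sum_type, Fintype.sum_sum_type]
    simp only [psIrr, detChar_one, stChar_one, rSym_one, Finset.sum_const, Finset.card_univ, nsmul_eq_mul,
      hn1, one_pow, mul_one]
    rfl
  -- number of characters
  have h2 := hsplit (fun _ => (1 : ℂ))
  simp only [Finset.sum_const, Finset.card_univ, nsmul_eq_mul, mul_one] at h2
  have hps2 : (Fintype.card (PSParam F) : ℂ) = (Q - 1) + ((Q - 1) + c2) := by
    rw [Fintype.card_sum, Fintype.card_sum]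
    push_cast
    rw [hn1]
  have hirr : (Fintype.card (Cfsg.IrrCharacter (GL (Fin 2) F)) : ℂ) = (Q - 1) + Q * (Q - 1) := by
    rw [← Nat.card_eq_fintype_card, card_irr_gl2, hQ]
    push_cast [hq.le]; ring
  rw [hirr, hps2] at h2
  -- the cuspidal degrees
  have h3 : ∑ χ ∈ 𝒞, (χ : GL (Fin 2) F → ℂ) 1 ^ 2 = (Q - 1) ^ 2 * ∑ χ ∈ 𝒞, ((m χ : ℕ) : ℂ) ^ 2 := by
    rw [Finset.mul_sum]
    apply Finset.sum_congr rfl
    intro χ hχ
    rw [(hm χ hχ).2.1]
    ring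
  rw [hps1, h3] at h1
  have hG : ((((Fintype.card F ^ 2 - 1) * (Fintype.card F ^ 2 - Fintype.card F) : ℕ)) : ℂ) =
      (Q ^ 2 - 1) * (Q ^ 2 - Q) := by
    have h1' : 1 ≤ Fintype.card F ^ 2 := Nat.one_le_pow _ _ (by omega)
    have h2' : Fintype.card F ≤ Fintype.card F ^ 2 := by nlinarith
    push_cast [h1', h2']
    rfl
  rw [hG] at h1
  have h4 : (Q - 1) ^ 2 * (∑ χ ∈ 𝒞, ((m χ : ℕ) : ℂ) ^ 2 - (𝒞.card : ℂ)) = 0 := by
    linear_combination (-1 : ℂ) * h1 + (Q - 1) ^ 2 * h2 - (2 * Q) * hc2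
  have h5 : ∑ χ ∈ 𝒞, ((m χ : ℕ) : ℂ) ^ 2 = (𝒞.card : ℂ) :=
    sub_eq_zero.mp ((mul_eq_zero.mp h4).resolve_left (pow_ne_zero 2 hq1))
  have h6 : ∑ χ ∈ 𝒞, (m χ) ^ 2 = ∑ χ ∈ 𝒞, 1 := by
    have : ((∑ χ ∈ 𝒞, (m χ) ^ 2 : ℕ) : ℂ) = ((∑ χ ∈ 𝒞, 1 : ℕ) : ℂ) := by
      push_cast
      rw [h5]
      simp
    exact_mod_cast this
  have h7 : ∀ χ ∈ 𝒞, 1 = (m χ) ^ 2 :=
    (Finset.sum_eq_sum_iff_of_le (fun χ hχ => Nat.one_le_pow _ _ (hm χ hχ).1)).mp h6.symm
  have hχ₀mem : χ₀ ∈ 𝒞 := by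
    rw [h𝒞, Finset.mem_filter]
    exact ⟨Finset.mem_univ _, hχ₀⟩
  have hm1 : m χ₀ = 1 := by
    have := h7 χ₀ hχ₀mem
    have hpos := (hm χ₀ hχ₀mem).1
    nlinarith
  obtain ⟨-, hd, hu⟩ := hm χ₀ hχ₀mem
  rw [hm1] at hd hu
  constructor
  · rw [hd]; push_cast; ring
  · rw [hu]; push_cast; ring

end Cfsg.Agent.Lib.H12
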