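import Mathlib
import Cfsg.Agent.Lib.H12.GL2Count2

set_option autoImplicit false

namespace Cfsg.Agent.Lib.H12

open Matrix Cfsg.Agent.Lib.L0
open scoped ComplexConjugate

variable {F : Type*} [Field F] [Fintype F] [DecidableEq F]

/-- The full classification of the irreducible characters of `GL₂(F)` by type. -/
theorem gl2_irr_classification (χ : GL (Fin 2) F → ℂ) (hχ : Cfsg.IsIrrCharacter (GL (Fin 2) F) χ) :
    (∃ α, χ = detChar α) ∨ (∃ α, χ = stChar α) ∨ (∃ α β, α ≠ β ∧ χ = psChar α β) ∨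
      ((∀ α β : MulChar F ℂ, Cfsg.classInner (psChar α β) χ = 0) ∧ χ 1 = (Fintype.card F : ℂ) - 1 ∧
        χ ((borelMk (1, 1, 1) : Cfsg.upperTriangularGL 2 F) : GL (Fin 2) F) = -1) := by
  rcases irr_cases χ hχ with h | h | h | h
  · exact Or.inl h
  · exact Or.inr (Or.inl h)
  · exact Or.inr (Or.inr (Or.inl h))
  · refine Or.inr (Or.inr (Or.inr ⟨h, ?_⟩))
    have := cuspidal_values (⟨χ, hχ⟩ : Cfsg.IrrCharacter (GL (Fin 2) F))
      ((not_mem_range_psIrr_iff _).mpr h)
    exact this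

/-- Value of the principal series at a diagonal element with distinct entries. -/
theorem psChar_apply_diag (α β : MulChar F ℂ) (g : GL (Fin 2) F)
    (h01 : (g : Matrix (Fin 2) (Fin 2) F) 0 1 = 0) (h10 : (g : Matrix (Fin 2) (Fin 2) F) 1 0 = 0)
    (hne : (g : Matrix (Fin 2) (Fin 2) F) 0 0 ≠ (g : Matrix (Fin 2) (Fin 2) F) 1 1) :
    psChar α β g = α ((g : Matrix (Fin 2) (Fin 2) F) 0 0) * β ((g : Matrix (Fin 2) (Fin 2) F) 1 1) +
      α ((g : Matrix (Fin 2) (Fin 2) F) 1 1) * β ((g : Matrix (Fin 2) (Fin 2) F) 0 0) := by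
  rw [psChar, indFun_borelChar_apply, h01, h10, if_pos rfl]
  congr 1
  rw [Finset.sum_eq_single (0 : F)]
  · simp
  · intro t _ ht
    rw [if_neg]
    intro h
    apply ht
    have : t * ((g : Matrix (Fin 2) (Fin 2) F) 0 0 - (g : Matrix (Fin 2) (Fin 2) F) 1 1) = 0 := by
      linear_combination h
    exact (mul_eq_zero.mp this).resolve_right (sub_ne_zero.mpr hne)
  · intro h; exact absurd (Finset.mem_univ _) h

/-- The principal series vanishes at elements without eigenvectors. -/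
theorem psChar_apply_elliptic (α β : MulChar F ℂ) (g : GL (Fin 2) F)
    (hA : ∀ (c : F) (v : Fin 2 → F), v ≠ 0 → (g : Matrix (Fin 2) (Fin 2) F).mulVec v ≠ c • v) :
    psChar α β g = 0 := by
  rw [psChar, indFun_borelChar_apply]
  have h10 : (g : Matrix (Fin 2) (Fin 2) F) 1 0 ≠ 0 := by
    intro h10
    apply hA ((g : Matrix (Fin 2) (Fin 2) F) 0 0) ![1, 0] (by
      intro h
      have := congrFun h 0
      simp at this)
    ext i
    fin_cases i <;> simp [Matrix.mulVec, dotProduct, Fin.sum_univ_two, h10]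
  rw [if_neg h10, zero_add]
  apply Finset.sum_eq_zero
  intro t _
  rw [if_neg]
  intro h2
  apply hA ((g : Matrix (Fin 2) (Fin 2) F) 1 0 * t + (g : Matrix (Fin 2) (Fin 2) F) 1 1) ![t, 1] (by
    intro h
    have := congrFun h 1
    simp at this)
  ext i
  fin_cases i
  · simp [Matrix.mulVec, dotProduct, Fin.sum_univ_two]
    linear_combination h2
  · simp [Matrix.mulVec, dotProduct, Fin.sum_univ_two]

/-- Value of the principal series at a non-semisimple element. -/
theorem psChar_apply_unip (α β : MulChar F ℂ) (g : GL (Fin 2) F)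
    (h10 : (g : Matrix (Fin 2) (Fin 2) F) 1 0 = 0)
    (h00 : (g : Matrix (Fin 2) (Fin 2) F) 0 0 = (g : Matrix (Fin 2) (Fin 2) F) 1 1)
    (h01 : (g : Matrix (Fin 2) (Fin 2) F) 0 1 ≠ 0) :
    psChar α β g = α ((g : Matrix (Fin 2) (Fin 2) F) 0 0) * β ((g : Matrix (Fin 2) (Fin 2) F) 0 0) := by
  rw [psChar, indFun_borelChar_apply, h10, if_pos rfl, ← h00]
  rw [Finset.sum_eq_zero, add_zero]
  intro t _
  rw [if_neg]
  intro h
  apply h01
  linear_combination h

omit [Fintype F] [DecidableEq F] in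
theorem detChar_apply_of_lower_zero (α : MulChar F ℂ) (g : GL (Fin 2) F)
    (h10 : (g : Matrix (Fin 2) (Fin 2) F) 1 0 = 0) :
    detChar α g = α ((g : Matrix (Fin 2) (Fin 2) F) 0 0) * α ((g : Matrix (Fin 2) (Fin 2) F) 1 1) := by
  rw [detChar_apply, Matrix.det_fin_two, h10, mul_zero, sub_zero, map_mul]

theorem norm_mulChar_apply (α : MulChar F ℂ) {a : F} (ha : a ≠ 0) : ‖α a‖ = 1 := by
  have := α.apply_mem_rootsOfUnity (Units.mk0 a ha)
  exact Complex.norm_eq_one_of_mem_rootsOfUnity this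

end Cfsg.Agent.Lib.H12
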