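import Mathlib
import Cfsg.Agent.Lib.H12.GL2Ind3

set_option autoImplicit false

namespace Cfsg.Agent.Lib.H12

open Matrix Cfsg.Agent.Lib.L0
open scoped ComplexConjugate

variable {F : Type*} [Field F]

/-- The upper triangular (Borel) subgroup of `SL₂`. -/
abbrev borelSL (F : Type*) [Field F] : Subgroup (Matrix.SpecialLinearGroup (Fin 2) F) :=
  (Cfsg.upperTriangularGL 2 F).comap Matrix.SpecialLinearGroup.toGL

theorem mem_borelSL (g : Matrix.SpecialLinearGroup (Fin 2) F) :
    g ∈ borelSL F ↔ (g : Matrix (Fin 2) (Fin 2) F) 1 0 = 0 := by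
  rw [Subgroup.mem_comap, mem_upperTriangularGL_two]
  rfl

/-- The function `b ↦ α(b₀₀)` on the Borel subgroup of `SL₂`. -/
noncomputable def borelCharSL (α : MulChar F ℂ) : borelSL F → ℂ :=
  fun b => α (((b : Matrix.SpecialLinearGroup (Fin 2) F) : Matrix (Fin 2) (Fin 2) F) 0 0)

theorem borelCharSL_apply (α : MulChar F ℂ) (b : borelSL F) :
    borelCharSL α b = α (((b : Matrix.SpecialLinearGroup (Fin 2) F) : Matrix (Fin 2) (Fin 2) F) 0 0) := rfl

theorem borelCharSL_mul (α : MulChar F ℂ) (b c : borelSL F) :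
    borelCharSL α (b * c) = borelCharSL α b * borelCharSL α c := by
  have hc := (mem_borelSL (c : Matrix.SpecialLinearGroup (Fin 2) F)).mp c.2
  simp only [borelCharSL_apply, Subgroup.coe_mul, Matrix.SpecialLinearGroup.coe_mul, Matrix.mul_apply,
    Fin.sum_univ_two, hc, mul_zero, add_zero, map_mul]

theorem borelCharSL_one (α : MulChar F ℂ) : borelCharSL α 1 = 1 := by
  simp [borelCharSL_apply]

theorem borelCharSL_conj (α : MulChar F ℂ) (h k : borelSL F) :
    borelCharSL α (h * k * h⁻¹) = borelCharSL α k := by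
  rw [borelCharSL_mul, borelCharSL_mul, mul_comm (borelCharSL α h), mul_assoc, ← borelCharSL_mul,
    mul_inv_cancel, borelCharSL_one, mul_one]

/-- `borelCharSL` as a homomorphism to the units of `ℂ`. -/
noncomputable def borelHomSL (α : MulChar F ℂ) : borelSL F →* ℂˣ :=
  MonoidHom.toHomUnits
    { toFun := borelCharSL α
      map_one' := borelCharSL_one α
      map_mul' := borelCharSL_mul α }

theorem isIrrCharacter_borelCharSL (α : MulChar F ℂ) :
    Cfsg.IsIrrCharacter (borelSL F) (borelCharSL α) :=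
  isIrrCharacter_of_hom (borelHomSL α)

/-- coset representatives of the Borel subgroup in `SL₂`, indexed by the projective line -/
noncomputable def ptRepSL : Option F → Matrix.SpecialLinearGroup (Fin 2) F
  | none => 1
  | some t => ⟨!![t, -1; 1, 0], by simp [Matrix.det_fin_two_of]⟩

/-- explicit inverse of `ptRepSL (some t)` -/
noncomputable def ptRepSLInv (t : F) : Matrix.SpecialLinearGroup (Fin 2) F :=
  ⟨!![0, 1; -1, t], by simp [Matrix.det_fin_two_of]⟩

theorem ptRepSL_some_val (t : F) :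
    ((ptRepSL (some t) : Matrix.SpecialLinearGroup (Fin 2) F) : Matrix (Fin 2) (Fin 2) F) =
      !![t, -1; 1, 0] := rfl

theorem ptRepSLInv_val (t : F) :
    ((ptRepSLInv t : Matrix.SpecialLinearGroup (Fin 2) F) : Matrix (Fin 2) (Fin 2) F) =
      !![0, 1; -1, t] := rfl

theorem ptRepSL_some_inv (t : F) : (ptRepSL (some t))⁻¹ = ptRepSLInv t := by
  apply inv_eq_of_mul_eq_one_right
  apply Subtype.ext
  rw [Matrix.SpecialLinearGroup.coe_mul, ptRepSL_some_val, ptRepSLInv_val]
  ext i j
  fin_cases i <;> fin_cases j <;>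
    simp [Matrix.mul_apply, Fin.sum_univ_two]

theorem colPt_toGL_ptRepSL (p : Option F) :
    colPt (Matrix.SpecialLinearGroup.toGL (ptRepSL p)) = p := by
  rcases p with _ | t
  · rw [colPt_eq_none_iff]; simp [ptRepSL]
  · rw [colPt_eq_some_iff, Matrix.SpecialLinearGroup.coe_GL_coe_matrix, ptRepSL_some_val]
    simp

theorem ptRepSL_bijective :
    Function.Bijective (fun p : Option F =>
      ((ptRepSL p : Matrix.SpecialLinearGroup (Fin 2) F) : Matrix.SpecialLinearGroup (Fin 2) F ⧸ borelSL F)) := by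
  constructor
  · intro p p' h
    have h1 : (ptRepSL p)⁻¹ * ptRepSL p' ∈ borelSL F := QuotientGroup.eq.mp h
    rw [Subgroup.mem_comap, map_mul, map_inv, ← colPt_eq_iff, colPt_toGL_ptRepSL, colPt_toGL_ptRepSL] at h1
    exact h1
  · intro x
    induction x using QuotientGroup.induction_on with
    | H h =>
      refine ⟨colPt (Matrix.SpecialLinearGroup.toGL h), ?_⟩
      show ((ptRepSL (colPt (Matrix.SpecialLinearGroup.toGL h)) : Matrix.SpecialLinearGroup (Fin 2) F) :
        Matrix.SpecialLinearGroup (Fin 2) F ⧸ borelSL F) = h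
      rw [QuotientGroup.eq, Subgroup.mem_comap, map_mul, map_inv, ← colPt_eq_iff, colPt_toGL_ptRepSL]

theorem conj_ptRepSL_entries (g : Matrix.SpecialLinearGroup (Fin 2) F) (t : F) :
    (((ptRepSL (some t))⁻¹ * g * ptRepSL (some t) : Matrix.SpecialLinearGroup (Fin 2) F) :
        Matrix (Fin 2) (Fin 2) F) =
      !![(g : Matrix (Fin 2) (Fin 2) F) 1 0 * t + (g : Matrix (Fin 2) (Fin 2) F) 1 1,
         -(g : Matrix (Fin 2) (Fin 2) F) 1 0;
         t * ((g : Matrix (Fin 2) (Fin 2) F) 1 0 * t + (g : Matrix (Fin 2) (Fin 2) F) 1 1) -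
           ((g : Matrix (Fin 2) (Fin 2) F) 0 0 * t + (g : Matrix (Fin 2) (Fin 2) F) 0 1),
         (g : Matrix (Fin 2) (Fin 2) F) 0 0 - t * (g : Matrix (Fin 2) (Fin 2) F) 1 0] := by
  rw [ptRepSL_some_inv, Matrix.SpecialLinearGroup.coe_mul, Matrix.SpecialLinearGroup.coe_mul,
    ptRepSL_some_val, ptRepSLInv_val]
  ext i j
  fin_cases i <;> fin_cases j <;>
    simp [Matrix.mul_apply, Fin.sum_univ_two, Matrix.vecMul, dotProduct] <;>
    ring

/-- Values of the principal series functions of `SL₂`. -/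
theorem indFun_borelCharSL_apply [Fintype F] [DecidableEq F] (α : MulChar F ℂ)
    (g : Matrix.SpecialLinearGroup (Fin 2) F) :
    Cfsg.indFun (borelSL F) (borelCharSL α) g =
      (if (g : Matrix (Fin 2) (Fin 2) F) 1 0 = 0 then α ((g : Matrix (Fin 2) (Fin 2) F) 0 0) else 0) +
      ∑ t : F, if (g : Matrix (Fin 2) (Fin 2) F) 0 0 * t + (g : Matrix (Fin 2) (Fin 2) F) 0 1 =
          t * ((g : Matrix (Fin 2) (Fin 2) F) 1 0 * t + (g : Matrix (Fin 2) (Fin 2) F) 1 1) then
        α ((g : Matrix (Fin 2) (Fin 2) F) 1 0 * t + (g : Matrix (Fin 2) (Fin 2) F) 1 1) else 0 := by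
  rw [indFun_eq_sum_section (borelSL F) (borelCharSL α) (borelCharSL_conj α) ptRepSL
    ptRepSL_bijective g, Fintype.sum_option]
  congr 1
  · have e : (ptRepSL (none : Option F))⁻¹ * g * ptRepSL none = g := by simp [ptRepSL]
    rw [e]
    split_ifs with h10
    · have hmem : g ∈ borelSL F := (mem_borelSL g).mpr h10
      rw [extendByZero_apply_of_mem _ _ hmem]
      rfl
    · have hmem : g ∉ borelSL F := fun h => h10 ((mem_borelSL g).mp h)
      rw [extendByZero_apply_not_mem _ _ hmem]
  · apply Finset.sum_congr rfl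
    intro t _
    have hent := conj_ptRepSL_entries g t
    split_ifs with hfix
    · have hmem : (ptRepSL (some t))⁻¹ * g * ptRepSL (some t) ∈ borelSL F := by
        rw [mem_borelSL, hent]
        simp [hfix]
      rw [extendByZero_apply_of_mem _ _ hmem, borelCharSL_apply]
      simp only [hent]
      simp
    · have hmem : (ptRepSL (some t))⁻¹ * g * ptRepSL (some t) ∉ borelSL F := by
        rw [mem_borelSL, hent]
        simp only [Matrix.of_apply, Matrix.cons_val', Matrix.cons_val_one, Matrix.cons_val_zero]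
        intro h
        exact hfix (sub_eq_zero.mp h).symm
      rw [extendByZero_apply_not_mem _ _ hmem]

end Cfsg.Agent.Lib.H12
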