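import Mathlib
import Cfsg.Agent.Lib.H12.SL2Ind

set_option autoImplicit false

namespace Cfsg.Agent.Lib.H12

open Matrix Cfsg.Agent.Lib.L0
open scoped ComplexConjugate

variable {F : Type*} [Field F]

/-- The upper triangular element of `SL₂` with diagonal `a, a⁻¹` and upper right entry `e`. -/
noncomputable def borelMkSL' (x : Fˣ × F) : Matrix.SpecialLinearGroup (Fin 2) F :=
  ⟨!![(x.1 : F), x.2; 0, ((x.1⁻¹ : Fˣ) : F)], by simp [Matrix.det_fin_two_of]⟩

/-- The upper triangular element of `SL₂` with diagonal `a, a⁻¹` and upper right entry `e`,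
as an element of the Borel subgroup. -/
noncomputable def borelMkSL (x : Fˣ × F) : borelSL F :=
  ⟨borelMkSL' x, by rw [mem_borelSL]; simp [borelMkSL']⟩

theorem borelMkSL_val (x : Fˣ × F) :
    (((borelMkSL x : borelSL F) : Matrix.SpecialLinearGroup (Fin 2) F) : Matrix (Fin 2) (Fin 2) F) =
      !![(x.1 : F), x.2; 0, ((x.1⁻¹ : Fˣ) : F)] := rfl

theorem borelMkSL_bijective : Function.Bijective (borelMkSL (F := F)) := by
  constructor
  · rintro ⟨a, e⟩ ⟨a', e'⟩ h
    have h' := congrArg (fun b : borelSL F =>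
      ((b : Matrix.SpecialLinearGroup (Fin 2) F) : Matrix (Fin 2) (Fin 2) F)) h
    simp only [borelMkSL_val] at h'
    have e00 := congrFun (congrFun h' 0) 0
    have e01 := congrFun (congrFun h' 0) 1
    simp at e00 e01
    rw [Units.ext e00, e01]
  · rintro ⟨b, hb⟩
    have h10 := (mem_borelSL b).mp hb
    have hdet := b.det_coe
    rw [Matrix.det_fin_two, h10, mul_zero, sub_zero] at hdet
    have h00 : (b : Matrix (Fin 2) (Fin 2) F) 0 0 ≠ 0 := left_ne_zero_of_mul_eq_one hdet
    refine ⟨(Units.mk0 _ h00, (b : Matrix (Fin 2) (Fin 2) F) 0 1), ?_⟩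
    apply Subtype.ext
    apply Subtype.ext
    rw [borelMkSL_val]
    ext i j
    fin_cases i <;> fin_cases j <;> simp [h10]
    exact (eq_inv_of_mul_eq_one_right hdet).symm

theorem sum_borelSL [Fintype F] [DecidableEq F] [Fintype (borelSL F)] (f : borelSL F → ℂ) :
    ∑ b, f b = ∑ a : Fˣ, ∑ e : F, f (borelMkSL (a, e)) := by
  rw [← (Equiv.ofBijective _ (borelMkSL_bijective (F := F))).sum_comp f, Fintype.sum_prod_type]
  rfl

theorem card_borelSL [Fintype F] :
    Nat.card (borelSL F) = (Fintype.card F - 1) * Fintype.card F := by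
  rw [← Nat.card_congr (Equiv.ofBijective _ (borelMkSL_bijective (F := F))), Nat.card_prod,
    Nat.card_units, Nat.card_eq_fintype_card]

variable [Fintype F] [DecidableEq F]

/-- the principal series function of `SL₂` -/
noncomputable abbrev psCharSL (α : MulChar F ℂ) : Matrix.SpecialLinearGroup (Fin 2) F → ℂ :=
  Cfsg.indFun (borelSL F) (borelCharSL α)

/-- Values of a principal series function on the Borel subgroup. -/
theorem psCharSL_borelMkSL (α : MulChar F ℂ) (a : Fˣ) (e : F) :
    psCharSL α ((borelMkSL (a, e) : borelSL F) : Matrix.SpecialLinearGroup (Fin 2) F) =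
      α (a : F) + ∑ t : F, if (a : F) * t + e = t * ((a⁻¹ : Fˣ) : F) then α ((a⁻¹ : Fˣ) : F) else 0 := by
  rw [psCharSL, indFun_borelCharSL_apply, borelMkSL_val]
  simp

theorem sum_sum_ite_line' (a d : F) (c : ℂ) :
    ∑ e : F, ∑ t : F, (if a * t + e = t * d then c else 0) = (Fintype.card F : ℂ) * c :=
  sum_sum_ite_line a d c

/-- The Mackey formula for the principal series of `SL₂`. -/
theorem classInner_psCharSL (α β : MulChar F ℂ) :
    Cfsg.classInner (psCharSL α) (psCharSL β) =
      (if α = β then 1 else 0) + (if α = β⁻¹ then 1 else 0) := by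
  have : Fintype (borelSL F) := Fintype.ofFinite _
  rw [psCharSL, frobenius_reciprocity (borelSL F) (borelCharSL α) _ (indFun_isClassFunction _ _)]
  unfold Cfsg.classInner
  rw [sum_borelSL]
  have hterm : ∀ (a : Fˣ) (e : F),
      borelCharSL α (borelMkSL (a, e)) *
        conj (psCharSL β ((borelMkSL (a, e) : borelSL F) : Matrix.SpecialLinearGroup (Fin 2) F)) =
      (α (a : F) * conj (β (a : F))) +
        ∑ t : F, if (a : F) * t + e = t * ((a⁻¹ : Fˣ) : F) then
          (α (a : F) * conj (β⁻¹ (a : F))) else 0 := by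
    intro a e
    rw [psCharSL_borelMkSL, borelCharSL_apply, borelMkSL_val, map_add, map_sum, mul_add, Finset.mul_sum]
    congr 1
    apply Finset.sum_congr rfl
    intro t _
    split_ifs
    · simp only [Matrix.of_apply, Matrix.cons_val', Matrix.cons_val_zero, Matrix.cons_val_one]
      congr 2
      rw [MulChar.inv_apply', Units.val_inv_eq_inv_val]
    · simp
  have hps : ∀ (a : Fˣ) (e : F), Cfsg.indFun (borelSL F) (borelCharSL β)
      ((borelMkSL (a, e) : borelSL F) : Matrix.SpecialLinearGroup (Fin 2) F) =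
      psCharSL β ((borelMkSL (a, e) : borelSL F) : Matrix.SpecialLinearGroup (Fin 2) F) := fun _ _ => rfl
  simp only [hps, hterm, Finset.sum_add_distrib, sum_sum_ite_line, Finset.sum_const, Finset.card_univ,
    nsmul_eq_mul]
  simp only [← Finset.mul_sum, sum_units_mulChar_mul_inv]
  rw [card_borelSL]
  have hq : (1 : ℕ) < Fintype.card F := Fintype.one_lt_card
  have hq1 : ((Fintype.card F : ℂ) - 1) ≠ 0 := by
    have : ((Fintype.card F : ℂ) - 1) = ((Fintype.card F - 1 : ℕ) : ℂ) := by
      push_cast [hq.le]; ring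
    rw [this]
    have : 0 < Fintype.card F - 1 := by omega
    exact_mod_cast this.ne'
  have hq0 : (Fintype.card F : ℂ) ≠ 0 := by
    have : 0 < Fintype.card F := by omega
    exact_mod_cast this.ne'
  push_cast [hq.le]
  have key : ∀ (P : Prop) [Decidable P],
      (Fintype.card F : ℂ) * (if P then ((Fintype.card F : ℂ) - 1) else 0) =
      (((Fintype.card F : ℂ) - 1) * (Fintype.card F : ℂ)) * (if P then 1 else 0) := by
    intro P _
    by_cases hP : P <;> simp [hP]
    ring
  rw [key, key, ← mul_add, ← mul_assoc, inv_mul_cancel₀ (mul_ne_zero hq1 hq0), one_mul]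

theorem isCharacter_psCharSL (α : MulChar F ℂ) :
    Cfsg.IsCharacter (Matrix.SpecialLinearGroup (Fin 2) F) (psCharSL α) :=
  isCharacter_indFun _ (isCharacter_of_irr (isIrrCharacter_borelCharSL α))

end Cfsg.Agent.Lib.H12
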