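import Mathlib
import Cfsg.Agent.Lib.H12.GL2Values
import Cfsg.Agent.Lib.H12.SL2Ind2
import Cfsg.Agent.Lib.H12.CardSL

set_option autoImplicit false

/-!
# Restriction of functions from `GL₂(F)` to `SL₂(F)`

* `resSL π = π ∘ toGL`
* `resSL_psChar : resSL (psChar α β) = psCharSL (α * β⁻¹)`
* `resSL_detChar`, `resSL_mul_detChar`
* `sum_resSL` : sums over the determinant one elements of `GL₂`
* `conjSL x n` : conjugation of `SL₂` by an element of `GL₂`
-/

namespace Cfsg.Agent.Lib.H12

open Matrix Cfsg.Agent.Lib.L0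
open scoped ComplexConjugate

variable {F : Type*} [Field F]

/-- Restriction of a function on `GL₂` to `SL₂`. -/
def resSL (π : GL (Fin 2) F → ℂ) : Matrix.SpecialLinearGroup (Fin 2) F → ℂ :=
  fun n => π (Matrix.SpecialLinearGroup.toGL n)

theorem resSL_apply (π : GL (Fin 2) F → ℂ) (n : Matrix.SpecialLinearGroup (Fin 2) F) :
    resSL π n = π (Matrix.SpecialLinearGroup.toGL n) := rfl

theorem resSL_one (π : GL (Fin 2) F → ℂ) : resSL π 1 = π 1 := by
  rw [resSL_apply, map_one]

theorem resSL_add (π π' : GL (Fin 2) F → ℂ) : resSL (π + π') = resSL π + resSL π' := rfl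

theorem resSL_sub (π π' : GL (Fin 2) F → ℂ) : resSL (π - π') = resSL π - resSL π' := rfl

theorem isCharacter_resSL {π : GL (Fin 2) F → ℂ} (hπ : Cfsg.IsCharacter (GL (Fin 2) F) π) :
    Cfsg.IsCharacter (Matrix.SpecialLinearGroup (Fin 2) F) (resSL π) :=
  isCharacter_comp (Matrix.SpecialLinearGroup.toGL) hπ

theorem toGL_injective : Function.Injective
    (Matrix.SpecialLinearGroup.toGL : Matrix.SpecialLinearGroup (Fin 2) F → GL (Fin 2) F) := by
  intro a b h
  apply Subtype.ext
  have := congrArg (fun g : GL (Fin 2) F => (g : Matrix (Fin 2) (Fin 2) F)) h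
  simpa using this

theorem det_toGL (n : Matrix.SpecialLinearGroup (Fin 2) F) :
    ((Matrix.SpecialLinearGroup.toGL n : GL (Fin 2) F) : Matrix (Fin 2) (Fin 2) F).det = 1 := by
  rw [Matrix.SpecialLinearGroup.coe_GL_coe_matrix]
  exact n.2

theorem resSL_detChar (α : MulChar F ℂ) : resSL (detChar α) = 1 := by
  funext n
  rw [resSL_apply, detChar_apply, det_toGL, map_one, Pi.one_apply]

theorem resSL_mul_detChar (π : GL (Fin 2) F → ℂ) (α : MulChar F ℂ) :
    resSL (π * detChar α) = resSL π := by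
  funext n
  rw [resSL_apply, Pi.mul_apply, detChar_apply, det_toGL, map_one, mul_one, resSL_apply]

/-- Conjugation of `SL₂` by an element of `GL₂`. -/
noncomputable def conjSL (x : GL (Fin 2) F) (n : Matrix.SpecialLinearGroup (Fin 2) F) :
    Matrix.SpecialLinearGroup (Fin 2) F :=
  ⟨((x * Matrix.SpecialLinearGroup.toGL n * x⁻¹ : GL (Fin 2) F) : Matrix (Fin 2) (Fin 2) F), by
    have h3 : Matrix.GeneralLinearGroup.det (Matrix.SpecialLinearGroup.toGL n) = 1 := by
      apply Units.ext
      rw [Matrix.GeneralLinearGroup.val_det_apply, det_toGL]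
      rfl
    have h2 : Matrix.GeneralLinearGroup.det (x * Matrix.SpecialLinearGroup.toGL n * x⁻¹) = 1 := by
      rw [map_mul, map_mul, map_inv, h3, mul_one, mul_inv_cancel]
    have h4 := congrArg Units.val h2
    rw [Matrix.GeneralLinearGroup.val_det_apply] at h4
    exact h4⟩

theorem toGL_conjSL (x : GL (Fin 2) F) (n : Matrix.SpecialLinearGroup (Fin 2) F) :
    Matrix.SpecialLinearGroup.toGL (conjSL x n) = x * Matrix.SpecialLinearGroup.toGL n * x⁻¹ := by
  apply Matrix.GeneralLinearGroup.ext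
  intro i j
  rfl

theorem conjSL_mul (x : GL (Fin 2) F) (n m : Matrix.SpecialLinearGroup (Fin 2) F) :
    conjSL x (n * m) = conjSL x n * conjSL x m := by
  apply toGL_injective
  rw [map_mul, toGL_conjSL, toGL_conjSL, toGL_conjSL, map_mul]
  group

theorem conjSL_one (x : GL (Fin 2) F) : conjSL x (1 : Matrix.SpecialLinearGroup (Fin 2) F) = 1 := by
  apply toGL_injective
  rw [toGL_conjSL, map_one]
  group

theorem conjSL_conjSL (x y : GL (Fin 2) F) (n : Matrix.SpecialLinearGroup (Fin 2) F) :
    conjSL x (conjSL y n) = conjSL (x * y) n := by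
  apply toGL_injective
  rw [toGL_conjSL, toGL_conjSL, toGL_conjSL]
  group

theorem conjSL_one_left (n : Matrix.SpecialLinearGroup (Fin 2) F) : conjSL (1 : GL (Fin 2) F) n = n := by
  apply toGL_injective
  rw [toGL_conjSL]
  group

/-- Conjugation by an element of `GL₂` as an endomorphism of `SL₂`. -/
noncomputable def conjSLHom (x : GL (Fin 2) F) :
    Matrix.SpecialLinearGroup (Fin 2) F →* Matrix.SpecialLinearGroup (Fin 2) F where
  toFun := conjSL x
  map_one' := conjSL_one x
  map_mul' := conjSL_mul x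

theorem conjSLHom_apply (x : GL (Fin 2) F) (n : Matrix.SpecialLinearGroup (Fin 2) F) :
    conjSLHom x n = conjSL x n := rfl

theorem conjSLHom_surjective (x : GL (Fin 2) F) : Function.Surjective (conjSLHom x) := by
  intro n
  refine ⟨conjSL x⁻¹ n, ?_⟩
  rw [conjSLHom_apply, conjSL_conjSL, mul_inv_cancel, conjSL_one_left]

theorem isIrrCharacter_comp_conjSL {χ : Matrix.SpecialLinearGroup (Fin 2) F → ℂ}
    (hχ : Cfsg.IsIrrCharacter (Matrix.SpecialLinearGroup (Fin 2) F) χ) (x : GL (Fin 2) F) :
    Cfsg.IsIrrCharacter (Matrix.SpecialLinearGroup (Fin 2) F) (fun n => χ (conjSL x n)) :=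
  isIrrCharacter_comp_of_surjective (conjSLHom x) (conjSLHom_surjective x) hχ

/-- `toGL` of a conjugate inside `SL₂`. -/
theorem conjSL_toGL (m n : Matrix.SpecialLinearGroup (Fin 2) F) :
    conjSL (Matrix.SpecialLinearGroup.toGL m) n = m * n * m⁻¹ := by
  apply toGL_injective
  rw [toGL_conjSL, map_mul, map_mul, map_inv]

section fin

variable [Fintype F] [DecidableEq F]

/-- Sums over the elements of determinant one of `GL₂` are sums over `SL₂`. -/
theorem sum_resSL (f : GL (Fin 2) F → ℂ) :
    ∑ g : GL (Fin 2) F, (if (g : Matrix (Fin 2) (Fin 2) F).det = 1 then f g else 0) =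
      ∑ n : Matrix.SpecialLinearGroup (Fin 2) F, f (Matrix.SpecialLinearGroup.toGL n) := by
  rw [← Finset.sum_filter]
  have himg : (Finset.univ.filter fun g : GL (Fin 2) F => (g : Matrix (Fin 2) (Fin 2) F).det = 1) =
      Finset.univ.image (Matrix.SpecialLinearGroup.toGL : Matrix.SpecialLinearGroup (Fin 2) F → GL (Fin 2) F) := by
    ext g
    simp only [Finset.mem_filter, Finset.mem_univ, true_and, Finset.mem_image]
    constructor
    · intro hg
      refine ⟨⟨(g : Matrix (Fin 2) (Fin 2) F), hg⟩, ?_⟩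
      apply Matrix.GeneralLinearGroup.ext
      intro i j
      rfl
    · rintro ⟨n, rfl⟩
      exact det_toGL n
  rw [himg, Finset.sum_image]
  intro a _ b _ h
  exact toGL_injective h

/-- The restriction of a principal series function of `GL₂` to `SL₂`. -/
theorem resSL_psChar (α β : MulChar F ℂ) : resSL (psChar α β) = psCharSL (α * β⁻¹) := by
  funext n
  rw [resSL_apply, psChar, indFun_borelChar_apply, psCharSL, indFun_borelCharSL_apply]
  have e : ∀ i j, ((Matrix.SpecialLinearGroup.toGL n : GL (Fin 2) F) : Matrix (Fin 2) (Fin 2) F) i j =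
      (n : Matrix (Fin 2) (Fin 2) F) i j := fun i j => rfl
  simp only [e]
  have hdet : (n : Matrix (Fin 2) (Fin 2) F) 0 0 * (n : Matrix (Fin 2) (Fin 2) F) 1 1 -
      (n : Matrix (Fin 2) (Fin 2) F) 0 1 * (n : Matrix (Fin 2) (Fin 2) F) 1 0 = 1 := by
    have := n.2
    rw [Matrix.det_fin_two] at this
    exact this
  have key : ∀ x y : F, x * y = 1 → α x * β y = (α * β⁻¹) x := by
    intro x y hxy
    have hy : y = x⁻¹ := eq_inv_of_mul_eq_one_right hxy
    rw [MulChar.mul_apply, MulChar.inv_apply', hy]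
  congr 1
  · by_cases h10 : (n : Matrix (Fin 2) (Fin 2) F) 1 0 = 0
    · rw [if_pos h10, if_pos h10]
      apply key
      rw [h10, mul_zero, sub_zero] at hdet
      exact hdet
    · rw [if_neg h10, if_neg h10]
  · apply Finset.sum_congr rfl
    intro t _
    by_cases hfix : (n : Matrix (Fin 2) (Fin 2) F) 0 0 * t + (n : Matrix (Fin 2) (Fin 2) F) 0 1 =
        t * ((n : Matrix (Fin 2) (Fin 2) F) 1 0 * t + (n : Matrix (Fin 2) (Fin 2) F) 1 1)
    · rw [if_pos hfix, if_pos hfix]
      apply key
      linear_combination hdet + (n : Matrix (Fin 2) (Fin 2) F) 1 0 * hfix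
    · rw [if_neg hfix, if_neg hfix]

end fin

end Cfsg.Agent.Lib.H12
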