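import Mathlib
import Cfsg.Agent.Lib.H12.SL2Res
import Cfsg.Agent.Lib.H12.CliffordHom
import Cfsg.Agent.Lib.H23.CentralMul

set_option autoImplicit false

/-!
# Clifford theory for `SL₂(F) ≤ GL₂(F)`

* `classInner_resSL` : `⟨Res f, Res f'⟩ = ∑ ω, ⟨f · (ω ∘ det), f'⟩`
* `isIrrCharacter_mul_detChar`
* `sq_eq_one_of_mul_detChar_eq`
* `norm_resSL_cases` : the restriction of an irreducible character of `GL₂` has norm `1` or `2`
-/

namespace Cfsg.Agent.Lib.H12

open Matrix Cfsg.Agent.Lib.L0 Cfsg.Agent.Lib.H24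
open scoped ComplexConjugate

variable {F : Type*} [Field F] [Fintype F] [DecidableEq F]

theorem sum_mulChar_apply [Fintype (MulChar F ℂ)] (a : F) :
    ∑ ω : MulChar F ℂ, ω a = if a = 1 then ((Fintype.card F : ℂ) - 1) else 0 := by
  split_ifs with h
  · subst h
    simp only [map_one, Finset.sum_const, Finset.card_univ, nsmul_eq_mul, mul_one]
    rw [← Nat.card_eq_fintype_card, card_mulChar, Nat.cast_sub Fintype.card_pos, Nat.cast_one]
  · exact sum_mulChar_eq_zero h

/-- Inner products of restrictions to `SL₂` via twists by `ω ∘ det`. -/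
theorem classInner_resSL [Fintype (MulChar F ℂ)] (f f' : GL (Fin 2) F → ℂ) :
    Cfsg.classInner (resSL f) (resSL f') =
      ∑ ω : MulChar F ℂ, Cfsg.classInner (f * detChar ω) f' := by
  unfold Cfsg.classInner
  rw [← Finset.mul_sum, Finset.sum_comm]
  have h1 : ∀ g : GL (Fin 2) F, ∑ ω : MulChar F ℂ, (f * detChar ω) g * conj (f' g) =
      ((Fintype.card F : ℂ) - 1) *
        (if (g : Matrix (Fin 2) (Fin 2) F).det = 1 then f g * conj (f' g) else 0) := by
    intro g
    have : ∀ ω : MulChar F ℂ, (f * detChar ω) g * conj (f' g) =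
        f g * conj (f' g) * ω ((g : Matrix (Fin 2) (Fin 2) F).det) := by
      intro ω
      rw [Pi.mul_apply, detChar_apply]
      ring
    rw [Finset.sum_congr rfl (fun ω _ => this ω), ← Finset.mul_sum, sum_mulChar_apply]
    split_ifs <;> ring
  rw [Finset.sum_congr rfl (fun g _ => h1 g), ← Finset.mul_sum, sum_resSL]
  have hcard : (Nat.card (GL (Fin 2) F) : ℂ) =
      (Nat.card (Matrix.SpecialLinearGroup (Fin 2) F) : ℂ) * ((Fintype.card F : ℂ) - 1) := by
    rw [card_GL_eq_card_SL_mul, Nat.cast_mul, Nat.cast_sub Fintype.card_pos, Nat.cast_one]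
  have hN : (Nat.card (Matrix.SpecialLinearGroup (Fin 2) F) : ℂ) ≠ 0 := by
    exact_mod_cast (Nat.card_pos (α := Matrix.SpecialLinearGroup (Fin 2) F)).ne'
  have hq1 : ((Fintype.card F : ℂ) - 1) ≠ 0 := by
    have : (Fintype.card F : ℂ) ≠ 1 := card_ne_one_complex
    exact sub_ne_zero.mpr this
  rw [hcard]
  simp only [resSL_apply]
  field_simp

omit [Fintype F] [DecidableEq F] in
theorem detChar_one_eq : detChar (1 : MulChar F ℂ) = 1 := by
  funext g
  rw [detChar_apply, MulChar.one_apply (isUnit_iff_ne_zero.mpr (gl2_det_ne_zero g)), Pi.one_apply]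

/-- The twist of an irreducible character of `GL₂` by `ω ∘ det` is irreducible. -/
theorem isIrrCharacter_mul_detChar {π : GL (Fin 2) F → ℂ} (hπ : Cfsg.IsIrrCharacter (GL (Fin 2) F) π)
    (ω : MulChar F ℂ) : Cfsg.IsIrrCharacter (GL (Fin 2) F) (π * detChar ω) := by
  apply isIrrCharacter_of_classInner_self_eq_one
    (isCharacter_mul (isCharacter_of_irr hπ) (isCharacter_of_irr (isIrrCharacter_detChar ω)))
  rw [← irr_classInner_self hπ]
  unfold Cfsg.classInner
  congr 1
  apply Finset.sum_congr rfl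
  intro g _
  rw [Pi.mul_apply, map_mul]
  have h1 : detChar ω g * conj (detChar ω g) = 1 := by
    rw [Complex.mul_conj, Complex.normSq_eq_norm_sq, detChar_apply,
      norm_mulChar_apply ω (gl2_det_ne_zero g)]
    norm_num
  linear_combination (π g * conj (π g)) * h1

/-- A nonvanishing property of irreducible characters at central elements. -/
theorem irr_center_ne_zero {G : Type*} [Group G] [Finite G] {π : G → ℂ} (hπ : Cfsg.IsIrrCharacter G π)
    {z : G} (hz : z ∈ Subgroup.center G) : π z ≠ 0 := by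
  have h := Cfsg.Agent.Lib.H23.irr_mul_center ⟨π, hπ⟩ z⁻¹ hz
  rw [inv_mul_cancel] at h
  have h1 : π 1 ≠ 0 := irr_one_ne_zero ⟨π, hπ⟩
  intro h0
  simp only at h
  rw [h0, zero_mul] at h
  exact h1 (mul_self_eq_zero.mp h)

omit [Fintype F] [DecidableEq F] in
theorem scalar_mem_center (z : Fˣ) :
    Matrix.GeneralLinearGroup.scalar (Fin 2) z ∈ Subgroup.center (GL (Fin 2) F) := by
  rw [Subgroup.mem_center_iff]
  intro g
  exact (Matrix.GeneralLinearGroup.scalar_commute z g).symm

omit [Fintype F] [DecidableEq F] in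
theorem detChar_scalar (ω : MulChar F ℂ) (z : Fˣ) :
    detChar ω (Matrix.GeneralLinearGroup.scalar (Fin 2) z) = ω (z : F) ^ 2 := by
  rw [detChar_apply, ← Matrix.GeneralLinearGroup.val_det_apply, Matrix.GeneralLinearGroup.det_scalar,
    Fintype.card_fin, Units.val_pow_eq_pow_val, map_pow]

omit [DecidableEq F] in
/-- If twisting by `ω ∘ det` fixes an irreducible character, then `ω ^ 2 = 1`. -/
theorem sq_eq_one_of_mul_detChar_eq {π : GL (Fin 2) F → ℂ} (hπ : Cfsg.IsIrrCharacter (GL (Fin 2) F) π)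
    (ω : MulChar F ℂ) (h : π * detChar ω = π) : ω ^ 2 = 1 := by
  apply MulChar.ext
  intro z
  rw [MulChar.pow_apply_coe, MulChar.one_apply_coe]
  have h1 := congrFun h (Matrix.GeneralLinearGroup.scalar (Fin 2) z)
  rw [Pi.mul_apply, detChar_scalar] at h1
  have h2 := irr_center_ne_zero hπ (scalar_mem_center z)
  have h3 : π (Matrix.GeneralLinearGroup.scalar (Fin 2) z) * (ω (z : F) ^ 2 - 1) = 0 := by
    linear_combination h1
  rcases mul_eq_zero.mp h3 with h4 | h4
  · exact absurd h4 h2
  · exact sub_eq_zero.mp h4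

omit [DecidableEq F] in
theorem isCyclic_mulChar : IsCyclic (MulChar F ℂ) := by
  obtain ⟨e⟩ := MulChar.mulEquiv_units F ℂ
  exact isCyclic_of_surjective e.symm e.symm.surjective

omit [DecidableEq F] in
theorem card_mulChar_sq_eq_one_le [Fintype (MulChar F ℂ)] [DecidableEq (MulChar F ℂ)] :
    (Finset.univ.filter fun ω : MulChar F ℂ => ω ^ 2 = 1).card ≤ 2 := by
  have := isCyclic_mulChar (F := F)
  exact IsCyclic.card_pow_eq_one_le (α := MulChar F ℂ) (by norm_num : 0 < 2)

omit [DecidableEq F] in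
/-- In even characteristic the only multiplicative character of square one is trivial. -/
theorem mulChar_eq_one_of_sq_of_even (hq : Even (Fintype.card F)) (ω : MulChar F ℂ) (h : ω ^ 2 = 1) :
    ω = 1 := by
  have h1 : orderOf ω ∣ 2 := orderOf_dvd_of_pow_eq_one h
  have h2 : orderOf ω ∣ Fintype.card F - 1 := by
    rw [← card_mulChar (F := F)]
    exact orderOf_dvd_natCard ω
  have h3 : orderOf ω ∣ Nat.gcd 2 (Fintype.card F - 1) := Nat.dvd_gcd h1 h2
  have h4 : Nat.gcd 2 (Fintype.card F - 1) = 1 := by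
    have hpos : 0 < Fintype.card F := Fintype.card_pos
    have hodd : Odd (Fintype.card F - 1) := by
      obtain ⟨k, hk⟩ := hq
      refine ⟨k - 1, ?_⟩
      omega
    exact Nat.Coprime.symm (Nat.Coprime.symm (Nat.coprime_two_left.mpr hodd))
  rw [h4, Nat.dvd_one] at h3
  exact orderOf_eq_one_iff.mp h3

/-- The restriction of an irreducible character of `GL₂` to `SL₂` has norm one or two, the latter
only when `q` is odd. -/
theorem norm_resSL_cases {π : GL (Fin 2) F → ℂ} (hπ : Cfsg.IsIrrCharacter (GL (Fin 2) F) π) :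
    Cfsg.classInner (resSL π) (resSL π) = 1 ∨
      (Cfsg.classInner (resSL π) (resSL π) = 2 ∧ Odd (Fintype.card F)) := by
  classical
  have : Fintype (MulChar F ℂ) := Fintype.ofFinite _
  rw [classInner_resSL]
  have hterm : ∀ ω : MulChar F ℂ, Cfsg.classInner (π * detChar ω) π =
      if π * detChar ω = π then 1 else 0 :=
    fun ω => irr_classInner_eq (isIrrCharacter_mul_detChar hπ ω) hπ
  rw [Finset.sum_congr rfl (fun ω _ => hterm ω), Finset.sum_boole]
  set S := Finset.univ.filter fun ω : MulChar F ℂ => π * detChar ω = π with hS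
  have h1 : (1 : MulChar F ℂ) ∈ S := by
    rw [hS, Finset.mem_filter]
    refine ⟨Finset.mem_univ _, ?_⟩
    rw [detChar_one_eq, mul_one]
  have hsub : S ⊆ Finset.univ.filter fun ω : MulChar F ℂ => ω ^ 2 = 1 := by
    intro ω hω
    rw [hS, Finset.mem_filter] at hω
    rw [Finset.mem_filter]
    exact ⟨Finset.mem_univ _, sq_eq_one_of_mul_detChar_eq hπ ω hω.2⟩
  have hle : S.card ≤ 2 := (Finset.card_le_card hsub).trans card_mulChar_sq_eq_one_le
  have hpos : 1 ≤ S.card := Finset.card_pos.mpr ⟨1, h1⟩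
  rcases Nat.lt_or_ge S.card 2 with h | h
  · left
    have : S.card = 1 := by omega
    rw [this, Nat.cast_one]
  · right
    have h2 : S.card = 2 := le_antisymm hle h
    refine ⟨by rw [h2]; norm_num, ?_⟩
    by_contra hodd
    have heven : Even (Fintype.card F) := Nat.not_odd_iff_even.mp hodd
    have hall : ∀ ω ∈ S, ω = 1 := by
      intro ω hω
      have := hsub hω
      rw [Finset.mem_filter] at this
      exact mulChar_eq_one_of_sq_of_even heven ω this.2
    have : S.card ≤ 1 := Finset.card_le_one.mpr (fun a ha b hb => by rw [hall a ha, hall b hb])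
    omega

/-- **Clifford theory for `SL₂ ≤ GL₂`**: every irreducible character `χ` of `SL₂(F)` lies under an
irreducible character `π` of `GL₂(F)`; either `χ = Res π`, or `q` is odd and `Res π = χ + χ'` with
`χ' ≠ χ` a `GL₂`-conjugate of `χ`. -/
theorem sl2_irr_under {χ : Matrix.SpecialLinearGroup (Fin 2) F → ℂ}
    (hχ : Cfsg.IsIrrCharacter (Matrix.SpecialLinearGroup (Fin 2) F) χ) :
    ∃ π : GL (Fin 2) F → ℂ, Cfsg.IsIrrCharacter (GL (Fin 2) F) π ∧
      (χ = resSL π ∨ (Odd (Fintype.card F) ∧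
        ∃ (χ' : Matrix.SpecialLinearGroup (Fin 2) F → ℂ) (x : GL (Fin 2) F),
          Cfsg.IsIrrCharacter (Matrix.SpecialLinearGroup (Fin 2) F) χ' ∧ χ' ≠ χ ∧
          resSL π = χ + χ' ∧ ∀ n, χ' (conjSL x n) = χ n)) := by
  classical
  obtain ⟨π, hπ, hne⟩ := exists_irr_over (Matrix.SpecialLinearGroup.toGL) toGL_injective hχ
  have hne' : Cfsg.classInner (resSL π) χ ≠ 0 := hne
  refine ⟨π, hπ, ?_⟩
  have hch : Cfsg.IsCharacter (Matrix.SpecialLinearGroup (Fin 2) F) (resSL π) :=
    isCharacter_resSL (isCharacter_of_irr hπ)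
  rcases norm_resSL_cases hπ with h1 | ⟨h2, hodd⟩
  · left
    have hirr := isIrrCharacter_of_classInner_self_eq_one hch h1
    by_contra hcon
    exact hne' (irr_classInner_ne hirr hχ (fun h => hcon h.symm))
  · right
    refine ⟨hodd, ?_⟩
    obtain ⟨χ₁, χ₂, h₁, h₂, h12, hsum⟩ := exists_two_irr_of_norm_two hch h2
    have key : ∀ (a b : Matrix.SpecialLinearGroup (Fin 2) F → ℂ),
        Cfsg.IsIrrCharacter (Matrix.SpecialLinearGroup (Fin 2) F) a →
        Cfsg.IsIrrCharacter (Matrix.SpecialLinearGroup (Fin 2) F) b → a ≠ b → resSL π = a + b →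
        χ = a → ∃ (χ' : Matrix.SpecialLinearGroup (Fin 2) F → ℂ) (x : GL (Fin 2) F),
          Cfsg.IsIrrCharacter (Matrix.SpecialLinearGroup (Fin 2) F) χ' ∧ χ' ≠ χ ∧
          resSL π = χ + χ' ∧ ∀ n, χ' (conjSL x n) = χ n := by
      intro a b ha hb hab hs hχa
      subst hχa
      have hb' : Cfsg.classInner (resSL π) b ≠ 0 := by
        rw [hs, classInner_add_left, irr_classInner_ne hχ hb hab, irr_classInner_self hb]
        norm_num
      obtain ⟨x, hx⟩ := exists_conj_of_constituents (Matrix.SpecialLinearGroup.toGL) toGL_injective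
        conjSL toGL_conjSL hπ hχ hb hne hb'
      exact ⟨b, x, hb, fun h => hab h.symm, hs, hx⟩
    by_cases hχ1 : χ = χ₁
    · exact key χ₁ χ₂ h₁ h₂ h12 hsum hχ1
    · have hχ2 : χ = χ₂ := by
        by_contra hχ2
        apply hne'
        rw [hsum, classInner_add_left, irr_classInner_ne h₁ hχ (fun h => hχ1 h.symm),
          irr_classInner_ne h₂ hχ (fun h => hχ2 h.symm), add_zero]
      exact key χ₂ χ₁ h₂ h₁ (fun h => h12 h.symm) (by rw [hsum, add_comm]) hχ2

end Cfsg.Agent.Lib.H12
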