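import Mathlib
import Cfsg.Agent.Lib.H12.SL2Cliff
import Cfsg.Agent.Lib.H12.CardSL

/-!
# Restriction of characters from `GL_n(F)` to `SL_n(F)` (helper12)

General-`n` versions of the rank-one lemmas of `SL2Res`/`SL2Cliff`.
-/

set_option autoImplicit false

namespace Cfsg.Agent.Lib.H12.StPSL

open Matrix Cfsg.Agent.Lib.L0 Cfsg.Agent.Lib.H12
open scoped ComplexConjugate

variable {F : Type*} [Field F] {n : ℕ}

/-- Restriction of a function on `GL_n` to `SL_n`. -/
def resN (π : GL (Fin n) F → ℂ) : Matrix.SpecialLinearGroup (Fin n) F → ℂ :=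
  fun g => π (Matrix.SpecialLinearGroup.toGL g)

theorem resN_apply (π : GL (Fin n) F → ℂ) (g : Matrix.SpecialLinearGroup (Fin n) F) :
    resN π g = π (Matrix.SpecialLinearGroup.toGL g) := rfl

theorem isCharacter_resN {π : GL (Fin n) F → ℂ} (hπ : Cfsg.IsCharacter (GL (Fin n) F) π) :
    Cfsg.IsCharacter (Matrix.SpecialLinearGroup (Fin n) F) (resN π) :=
  isCharacter_comp (Matrix.SpecialLinearGroup.toGL) hπ

theorem toGLn_injective : Function.Injective
    (Matrix.SpecialLinearGroup.toGL : Matrix.SpecialLinearGroup (Fin n) F → GL (Fin n) F) := by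
  intro a b h
  apply Subtype.ext
  have := congrArg (fun g : GL (Fin n) F => (g : Matrix (Fin n) (Fin n) F)) h
  simpa using this

theorem det_toGLn (g : Matrix.SpecialLinearGroup (Fin n) F) :
    ((Matrix.SpecialLinearGroup.toGL g : GL (Fin n) F) : Matrix (Fin n) (Fin n) F).det = 1 := by
  rw [Matrix.SpecialLinearGroup.coe_GL_coe_matrix]
  exact g.2

theorem gln_det_ne_zero (h : GL (Fin n) F) : (h : Matrix (Fin n) (Fin n) F).det ≠ 0 :=
  ((Matrix.isUnit_iff_isUnit_det _).mp h.isUnit).ne_zero

/-- The linear character `α ∘ det` of `GL_n`. -/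
noncomputable def detN (α : MulChar F ℂ) : GL (Fin n) F → ℂ :=
  fun g => α ((g : Matrix (Fin n) (Fin n) F).det)

theorem detN_apply (α : MulChar F ℂ) (g : GL (Fin n) F) :
    detN α g = α ((g : Matrix (Fin n) (Fin n) F).det) := rfl

/-- `detN` as a homomorphism to the units of `ℂ`. -/
noncomputable def detNHom (α : MulChar F ℂ) : GL (Fin n) F →* ℂˣ :=
  MonoidHom.toHomUnits
    { toFun := detN α
      map_one' := by simp [detN_apply]
      map_mul' := fun g h => by simp [detN_apply, Matrix.det_mul] }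

theorem isIrrCharacter_detN (α : MulChar F ℂ) : Cfsg.IsIrrCharacter (GL (Fin n) F) (detN (n := n) α) :=
  isIrrCharacter_of_hom (detNHom α)

theorem detN_one_eq : detN (n := n) (1 : MulChar F ℂ) = 1 := by
  funext g
  rw [detN_apply, MulChar.one_apply (isUnit_iff_ne_zero.mpr (gln_det_ne_zero g)), Pi.one_apply]

section fin

variable [Fintype F] [DecidableEq F]

/-- Sums over the elements of determinant one of `GL_n` are sums over `SL_n`. -/
theorem sum_resN (f : GL (Fin n) F → ℂ) :
    ∑ g : GL (Fin n) F, (if (g : Matrix (Fin n) (Fin n) F).det = 1 then f g else 0) =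
      ∑ g : Matrix.SpecialLinearGroup (Fin n) F, f (Matrix.SpecialLinearGroup.toGL g) := by
  rw [← Finset.sum_filter]
  have himg : (Finset.univ.filter fun g : GL (Fin n) F => (g : Matrix (Fin n) (Fin n) F).det = 1) =
      Finset.univ.image (Matrix.SpecialLinearGroup.toGL :
        Matrix.SpecialLinearGroup (Fin n) F → GL (Fin n) F) := by
    ext g
    simp only [Finset.mem_filter, Finset.mem_univ, true_and, Finset.mem_image]
    constructor
    · intro hg
      refine ⟨⟨(g : Matrix (Fin n) (Fin n) F), hg⟩, ?_⟩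
      apply Matrix.GeneralLinearGroup.ext
      intro i j
      rfl
    · rintro ⟨g, rfl⟩
      exact det_toGLn g
  rw [himg, Finset.sum_image]
  intro a _ b _ h
  exact toGLn_injective h

/-- Inner products of restrictions to `SL_n` via twists by `ω ∘ det`. -/
theorem classInner_resN [Fintype (MulChar F ℂ)] (hn : 1 ≤ n) (f f' : GL (Fin n) F → ℂ) :
    Cfsg.classInner (resN f) (resN f') =
      ∑ ω : MulChar F ℂ, Cfsg.classInner (f * detN (n := n) ω) f' := by
  have : Nonempty (Fin n) := ⟨⟨0, hn⟩⟩
  unfold Cfsg.classInner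
  rw [← Finset.mul_sum, Finset.sum_comm]
  have h1 : ∀ g : GL (Fin n) F, ∑ ω : MulChar F ℂ, (f * detN (n := n) ω) g * conj (f' g) =
      ((Fintype.card F : ℂ) - 1) *
        (if (g : Matrix (Fin n) (Fin n) F).det = 1 then f g * conj (f' g) else 0) := by
    intro g
    have : ∀ ω : MulChar F ℂ, (f * detN (n := n) ω) g * conj (f' g) =
        f g * conj (f' g) * ω ((g : Matrix (Fin n) (Fin n) F).det) := by
      intro ω
      rw [Pi.mul_apply, detN_apply]
      ring
    rw [Finset.sum_congr rfl (fun ω _ => this ω), ← Finset.mul_sum, sum_mulChar_apply]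
    split_ifs <;> ring
  rw [Finset.sum_congr rfl (fun g _ => h1 g), ← Finset.mul_sum, sum_resN]
  have hcard : (Nat.card (GL (Fin n) F) : ℂ) =
      (Nat.card (Matrix.SpecialLinearGroup (Fin n) F) : ℂ) * ((Fintype.card F : ℂ) - 1) := by
    rw [card_GL_eq_card_SL_mul, Nat.cast_mul, Nat.cast_sub Fintype.card_pos, Nat.cast_one]
  have hN : (Nat.card (Matrix.SpecialLinearGroup (Fin n) F) : ℂ) ≠ 0 := by
    exact_mod_cast (Nat.card_pos (α := Matrix.SpecialLinearGroup (Fin n) F)).ne'
  have hq1 : ((Fintype.card F : ℂ) - 1) ≠ 0 := by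
    have : (Fintype.card F : ℂ) ≠ 1 := card_ne_one_complex
    exact sub_ne_zero.mpr this
  rw [hcard]
  simp only [resN_apply]
  field_simp

/-- The twist of an irreducible character of `GL_n` by `ω ∘ det` is irreducible. -/
theorem isIrrCharacter_mul_detN {π : GL (Fin n) F → ℂ} (hπ : Cfsg.IsIrrCharacter (GL (Fin n) F) π)
    (ω : MulChar F ℂ) : Cfsg.IsIrrCharacter (GL (Fin n) F) (π * detN (n := n) ω) := by
  apply isIrrCharacter_of_classInner_self_eq_one
    (isCharacter_mul (isCharacter_of_irr hπ) (isCharacter_of_irr (isIrrCharacter_detN ω)))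
  rw [← irr_classInner_self hπ]
  unfold Cfsg.classInner
  congr 1
  apply Finset.sum_congr rfl
  intro g _
  rw [Pi.mul_apply, map_mul]
  have h1 : detN ω g * conj (detN ω g) = 1 := by
    rw [Complex.mul_conj, Complex.normSq_eq_norm_sq, detN_apply,
      norm_mulChar_apply ω (gln_det_ne_zero g)]
    norm_num
  linear_combination (π g * conj (π g)) * h1

/-- If no nontrivial twist fixes the irreducible character `π` of `GL_n`, then its restriction to
`SL_n` is irreducible. -/
theorem isIrrCharacter_resN (hn : 1 ≤ n) {π : GL (Fin n) F → ℂ}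
    (hπ : Cfsg.IsIrrCharacter (GL (Fin n) F) π)
    (htw : ∀ ω : MulChar F ℂ, ω ≠ 1 → π * detN (n := n) ω ≠ π) :
    Cfsg.IsIrrCharacter (Matrix.SpecialLinearGroup (Fin n) F) (resN π) := by
  classical
  have : Fintype (MulChar F ℂ) := Fintype.ofFinite _
  apply isIrrCharacter_of_classInner_self_eq_one (isCharacter_resN (isCharacter_of_irr hπ))
  rw [classInner_resN hn]
  have hterm : ∀ ω : MulChar F ℂ, Cfsg.classInner (π * detN (n := n) ω) π =
      if ω = 1 then 1 else 0 := by
    intro ω
    rw [irr_classInner_eq (isIrrCharacter_mul_detN hπ ω) hπ]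
    by_cases h : ω = 1
    · rw [if_pos h, if_pos]
      rw [h, detN_one_eq, mul_one]
    · rw [if_neg h, if_neg (htw ω h)]
  rw [Finset.sum_congr rfl (fun ω _ => hterm ω), Finset.sum_ite_eq' Finset.univ (1 : MulChar F ℂ)]
  simp

end fin

end Cfsg.Agent.Lib.H12.StPSL
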