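import Cfsg.Agent.Lib.H12.SemiB

/-!
# Semisimple matrices: elements of order prime to the characteristic, conjugacy in `GL_n` (helper12)
-/

set_option autoImplicit false
open Polynomial

namespace Cfsg.Agent.Lib.H12.Semi

universe u w
variable {F : Type u} [Field F] {n : Type w} [Fintype n] [DecidableEq n]

lemma toLin'_pow_eq (A : Matrix n n F) (k : ℕ) : Matrix.toLin' (A ^ k) = (Matrix.toLin' A) ^ k := by
  induction k with
  | zero => simp; rfl
  | succ k ih => rw [pow_succ, pow_succ, Matrix.toLin'_mul, ih]; rfl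

lemma isSemisimple_toLin'_of_pow_eq_one (A : Matrix n n F) (N : ℕ) (hN : (N : F) ≠ 0)
    (h : A ^ N = 1) : Module.End.IsSemisimple (Matrix.toLin' A) := by
  have hsep : (X ^ N - C (1 : F)).Separable := separable_X_pow_sub_C 1 hN one_ne_zero
  refine Module.End.isSemisimple_of_squarefree_aeval_eq_zero hsep.squarefree ?_
  rw [map_sub, map_pow, aeval_X, aeval_C, ← toLin'_pow_eq, h, Matrix.toLin'_one, map_one]
  exact sub_self _

lemma isSemisimple_toLin'_of_orderOf_coprime (p : ℕ) [Fact p.Prime] [CharP F p]
    (g : Matrix.GeneralLinearGroup n F) (hg : (orderOf g).Coprime p) :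
    Module.End.IsSemisimple (Matrix.toLin' (g : Matrix n n F)) := by
  apply isSemisimple_toLin'_of_pow_eq_one _ (orderOf g)
  · rw [Ne, CharP.cast_eq_zero_iff F p]
    intro hd
    have h1 : p ∣ Nat.gcd (orderOf g) p := Nat.dvd_gcd hd dvd_rfl
    rw [hg] at h1
    exact (Fact.out : p.Prime).one_lt.ne' (Nat.dvd_one.mp h1)
  · have := pow_orderOf_eq_one g
    rw [← Units.val_pow_eq_pow_val, this]; rfl

theorem isConj_GL_of_charpoly_eq (A B : Matrix.GeneralLinearGroup n F)
    (hA : Module.End.IsSemisimple (Matrix.toLin' (A : Matrix n n F)))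
    (hB : Module.End.IsSemisimple (Matrix.toLin' (B : Matrix n n F)))
    (hc : (A : Matrix n n F).charpoly = (B : Matrix n n F).charpoly) : IsConj A B := by
  obtain ⟨e, he⟩ := exists_equiv_of_charpoly_eq _ (n → F) (n → F)
    (Matrix.toLin' (A : Matrix n n F)) (Matrix.toLin' (B : Matrix n n F)) rfl hA hB
    (by rw [Matrix.charpoly_toLin', Matrix.charpoly_toLin', hc])
  have h1 : LinearMap.toMatrix' e.toLinearMap * LinearMap.toMatrix' e.symm.toLinearMap = 1 := by
    rw [← LinearMap.toMatrix'_comp]
    simp
  have h2 : LinearMap.toMatrix' e.symm.toLinearMap * LinearMap.toMatrix' e.toLinearMap = 1 := by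
    rw [← LinearMap.toMatrix'_comp]
    simp
  let c : Matrix.GeneralLinearGroup n F :=
    ⟨LinearMap.toMatrix' e.toLinearMap, LinearMap.toMatrix' e.symm.toLinearMap, h1, h2⟩
  have h3 : c * A = B * c := by
    apply Units.ext
    show LinearMap.toMatrix' e.toLinearMap * (A : Matrix n n F) =
      (B : Matrix n n F) * LinearMap.toMatrix' e.toLinearMap
    calc LinearMap.toMatrix' e.toLinearMap * (A : Matrix n n F)
        = LinearMap.toMatrix' e.toLinearMap *
            LinearMap.toMatrix' (Matrix.toLin' (A : Matrix n n F)) := by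
          rw [LinearMap.toMatrix'_toLin']
      _ = LinearMap.toMatrix' (e.toLinearMap ∘ₗ Matrix.toLin' (A : Matrix n n F)) :=
          (LinearMap.toMatrix'_comp _ _).symm
      _ = LinearMap.toMatrix' (Matrix.toLin' (B : Matrix n n F) ∘ₗ e.toLinearMap) := by
          congr 1
          apply LinearMap.ext
          intro x
          exact he x
      _ = LinearMap.toMatrix' (Matrix.toLin' (B : Matrix n n F)) *
            LinearMap.toMatrix' e.toLinearMap := LinearMap.toMatrix'_comp _ _
      _ = (B : Matrix n n F) * LinearMap.toMatrix' e.toLinearMap := by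
          rw [LinearMap.toMatrix'_toLin']
  exact isConj_iff.mpr ⟨c, by rw [mul_inv_eq_iff_eq_mul]; exact h3⟩

lemma charpoly_eq_of_isConj {A B : Matrix.GeneralLinearGroup n F} (h : IsConj A B) :
    (A : Matrix n n F).charpoly = (B : Matrix n n F).charpoly := by
  obtain ⟨c, rfl⟩ := isConj_iff.mp h
  have h1 := (Matrix.charpoly_units_conj c (A : Matrix n n F)).symm
  rw [h1, Units.val_mul, Units.val_mul, Matrix.coe_units_inv]

end Cfsg.Agent.Lib.H12.Semi
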