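import Mathlib

/-!
# Reindexing products of modules along label-preserving bijections (helper12)
-/

set_option autoImplicit false
open Polynomial

namespace Cfsg.Agent.Lib.H12.Cls

universe u v w

section matching

variable {C : Type*} [DecidableEq C]

theorem exists_equiv_of_fiber_card_eq {α α' : Type*} [Fintype α] [Fintype α'] [DecidableEq α]
    [DecidableEq α'] (f : α → C) (f' : α' → C)
    (h : ∀ x : C, Fintype.card {a // f a = x} = Fintype.card {a // f' a = x}) :
    ∃ σ : α ≃ α', ∀ a, f' (σ a) = f a := by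
  refine ⟨(Equiv.sigmaFiberEquiv f).symm.trans ((Equiv.sigmaCongrRight fun l =>
    Fintype.equivOfCardEq (h l)).trans (Equiv.sigmaFiberEquiv f')), ?_⟩
  intro x
  simp only [Equiv.trans_apply, Equiv.sigmaCongrRight_apply, Equiv.sigmaFiberEquiv_apply]
  exact ((Fintype.equivOfCardEq (h (f x))) ⟨x, rfl⟩).2

theorem card_fiber_eq_count {α : Type*} [Fintype α] [DecidableEq α] (f : α → C) (x : C) :
    Fintype.card {a // f a = x} = Multiset.count x (Finset.univ.val.map f) := by
  rw [Multiset.count_map, Fintype.card_subtype]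
  rw [← Finset.filter_val, Finset.card_def]
  congr 2
  ext a
  simp [eq_comm]

theorem exists_equiv_of_map_eq {α α' : Type*} [Fintype α] [Fintype α'] [DecidableEq α]
    [DecidableEq α'] (f : α → C) (f' : α' → C)
    (h : Finset.univ.val.map f = Finset.univ.val.map f') :
    ∃ σ : α ≃ α', ∀ a, f' (σ a) = f a := by
  apply exists_equiv_of_fiber_card_eq
  intro x
  rw [card_fiber_eq_count, card_fiber_eq_count, h]

end matching

section pi

variable {R : Type*} [Semiring R] {C : Type*} (N : C → Type*) [∀ c, AddCommMonoid (N c)]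
  [∀ c, Module R (N c)]

theorem nonempty_piReindex {ι ι' : Type*} (c : ι → C) (c' : ι' → C) (σ : ι ≃ ι')
    (h : ∀ i, c' (σ i) = c i) :
    Nonempty ((∀ i, N (c i)) ≃ₗ[R] ∀ i', N (c' i')) := by
  have hc : c = c' ∘ σ := funext fun i => (h i).symm
  subst hc
  exact ⟨LinearEquiv.piCongrLeft R (fun i' => N (c' i')) σ⟩

/-- dropping trivial factors -/
noncomputable def piDrop {ι : Type*} (M : ι → Type*) [∀ i, AddCommMonoid (M i)] [∀ i, Module R (M i)]
    (Q : ι → Prop) [DecidablePred Q] (hQ : ∀ i, ¬ Q i → Subsingleton (M i)) :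
    (∀ i, M i) ≃ₗ[R] ∀ i : {i // Q i}, M i.1 where
  toFun g i := g i.1
  map_add' _ _ := rfl
  map_smul' _ _ := rfl
  invFun g i := if h : Q i then g ⟨i, h⟩ else 0
  left_inv g := by
    funext i
    by_cases h : Q i
    · simp [h]
    · haveI := hQ i h
      exact Subsingleton.elim _ _
  right_inv g := by
    funext i
    simp [i.2]

end pi

end Cfsg.Agent.Lib.H12.Cls
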