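import Mathlib
import Cfsg.Agent.Lib.H12.ClsA

/-!
# Primary cyclic decomposition data of an endomorphism (helper12)
-/

set_option autoImplicit false
open Polynomial DirectSum

namespace Cfsg.Agent.Lib.H12.Cls

universe u v
variable {F : Type u} [Field F] {V : Type v} [AddCommGroup V] [Module F V]

/-- the cyclic module `F[X]/(φ^e)` -/
abbrev Cyc (F : Type u) [Field F] (x : F[X] × ℕ) : Type u := F[X] ⧸ (F[X] ∙ (x.1 ^ x.2))

/-- a decomposition of `V` as `F[X]`-module into primary cyclic modules -/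
structure TypeData (f : Module.End F V) where
  /-- the index type -/
  ι : Type u
  /-- finiteness -/
  fin : Fintype ι
  /-- the labels -/
  c : ι → F[X] × ℕ
  irr : ∀ i, Irreducible (c i).1
  monic : ∀ i, (c i).1.Monic
  pos : ∀ i, (c i).2 ≠ 0
  /-- the decomposition -/
  iso : Module.AEval' f ≃ₗ[F[X]] ∀ i, Cyc F (c i)

attribute [instance] TypeData.fin

theorem exists_typeData [FiniteDimensional F V] (f : Module.End F V) : Nonempty (TypeData f) := by
  classical
  obtain ⟨ι, _, p, hp, e, ⟨φ⟩⟩ := Module.equiv_directSum_of_isTorsion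
    (Module.AEval.isTorsion_of_finiteDimensional F V f)
  set c0 : ι → F[X] × ℕ := fun i => (normalize (p i), e i) with hc0
  have h1 : ∀ i, (F[X] ∙ p i ^ e i) = (F[X] ∙ ((c0 i).1 ^ (c0 i).2)) := by
    intro i
    exact Ideal.span_singleton_eq_span_singleton.mpr (associated_normalize (p i)).pow_pow
  have h2 : ∀ i, ¬ (e i ≠ 0) → Subsingleton (Cyc F (c0 i)) := by
    intro i hi
    push Not at hi
    show Subsingleton (F[X] ⧸ (F[X] ∙ ((c0 i).1 ^ (c0 i).2)))
    rw [Submodule.Quotient.subsingleton_iff]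
    have : (c0 i).2 = 0 := hi
    rw [this, pow_zero]
    exact Ideal.span_singleton_one
  refine ⟨⟨{i // e i ≠ 0}, inferInstance, fun i => c0 i.1, ?_, ?_, ?_, ?_⟩⟩
  · intro i
    exact (associated_normalize (p i.1)).irreducible (hp i.1)
  · intro i
    exact Polynomial.monic_normalize (hp i.1).ne_zero
  · intro i
    exact i.2
  · exact φ ≪≫ₗ (DirectSum.linearEquivFunOnFintype F[X] ι _) ≪≫ₗ
      (LinearEquiv.piCongrRight fun i => Submodule.quotEquivOfEq _ _ (h1 i)) ≪≫ₗ
      (piDrop (R := F[X]) (fun i => Cyc F (c0 i)) (fun i => e i ≠ 0) h2)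

end Cfsg.Agent.Lib.H12.Cls
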