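import Mathlib
import Cfsg.Agent.Lib.H12.ClsB

/-!
# The polynomial invariants of a primary decomposition, and conjugacy from equal invariants (helper12)
-/

set_option autoImplicit false
open Polynomial DirectSum Classical

namespace Cfsg.Agent.Lib.H12.Cls

universe u v v'
variable {F : Type u} [Field F] {V : Type v} [AddCommGroup V] [Module F V]
  {V' : Type v'} [AddCommGroup V'] [Module F V']

namespace TypeData

variable {f : Module.End F V} (D : TypeData f)

/-- the irreducibles occurring with exponent `j` -/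
noncomputable def irrs (j : ℕ) : Multiset F[X] :=
  ((Finset.univ.filter (fun i => (D.c i).2 = j)).val.map (fun i => (D.c i).1))

/-- product of the irreducibles occurring with exponent `j` -/
noncomputable def gpoly (j : ℕ) : F[X] := (D.irrs j).prod

theorem mem_irrs {j : ℕ} {a : F[X]} (ha : a ∈ D.irrs j) : Irreducible a ∧ a.Monic := by
  unfold irrs at ha
  rw [Multiset.mem_map] at ha
  obtain ⟨i, -, rfl⟩ := ha
  exact ⟨D.irr i, D.monic i⟩

theorem irrs_eq (j : ℕ) : D.irrs j = UniqueFactorizationMonoid.normalizedFactors (D.gpoly j) := by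
  unfold gpoly
  rw [UniqueFactorizationMonoid.normalizedFactors_prod_eq _ (fun a ha => (D.mem_irrs ha).1)]
  have : (D.irrs j).map normalize = (D.irrs j).map id :=
    Multiset.map_congr rfl (fun a ha => (D.mem_irrs ha).2.normalize_eq_self)
  rw [this, Multiset.map_id]

theorem gpoly_monic (j : ℕ) : (D.gpoly j).Monic := by
  unfold gpoly irrs
  exact Polynomial.monic_multiset_prod_of_monic _ _ (fun i _ => D.monic i)

theorem natDegree_gpoly (j : ℕ) :
    (D.gpoly j).natDegree =
      ∑ i ∈ Finset.univ.filter (fun i => (D.c i).2 = j), (D.c i).1.natDegree := by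
  unfold gpoly
  rw [Polynomial.natDegree_multiset_prod_of_monic _ (fun a ha => (D.mem_irrs ha).2)]
  unfold irrs
  rw [Multiset.map_map]
  rfl

theorem count_label (φ : F[X]) (j : ℕ) :
      Multiset.count (φ, j) (Finset.univ.val.map D.c) = Multiset.count φ (D.irrs j) := by
  unfold irrs
  rw [Multiset.count_map, Multiset.count_map, ← Finset.filter_val, ← Finset.filter_val,
    Finset.filter_filter]
  congr 2
  ext i
  simp only [Finset.mem_filter, Finset.mem_univ, true_and]
  constructor
  · intro h
    rw [← h]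
    exact ⟨rfl, rfl⟩
  · rintro ⟨h1, h2⟩
    exact Prod.ext h2 h1.symm

end TypeData

theorem nonempty_equiv_of_gpoly_eq {f : Module.End F V} {f' : Module.End F V'} (D : TypeData f)
    (D' : TypeData f') (h : ∀ j, D.gpoly j = D'.gpoly j) :
    Nonempty (Module.AEval' f ≃ₗ[F[X]] Module.AEval' f') := by
  classical
  have hS : Finset.univ.val.map D.c = Finset.univ.val.map D'.c := by
    ext ⟨φ, j⟩
    rw [D.count_label, D'.count_label, D.irrs_eq, D'.irrs_eq, h]
  obtain ⟨σ, hσ⟩ := exists_equiv_of_map_eq D.c D'.c hS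
  obtain ⟨Φ⟩ := nonempty_piReindex (R := F[X]) (Cyc F) D.c D'.c σ hσ
  exact ⟨D.iso ≪≫ₗ Φ ≪≫ₗ D'.iso.symm⟩

theorem exists_intertwiner {f : Module.End F V} {f' : Module.End F V'}
    (Φ : Module.AEval' f ≃ₗ[F[X]] Module.AEval' f') :
    ∃ e : V ≃ₗ[F] V', ∀ v, e (f v) = f' (e v) := by
  refine ⟨(Module.AEval'.of f) ≪≫ₗ (Φ.restrictScalars F) ≪≫ₗ (Module.AEval'.of f').symm, ?_⟩
  intro v
  show (Module.AEval'.of f').symm (Φ (Module.AEval'.of f (f v))) =
    f' ((Module.AEval'.of f').symm (Φ (Module.AEval'.of f v)))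
  rw [← Module.AEval'.X_smul_of, map_smul, Module.AEval'.of_symm_X_smul]

end Cfsg.Agent.Lib.H12.Cls
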