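import Mathlib
import Cfsg.Agent.Lib.H12.ClsC

/-!
# Dimension formula and invertibility for primary decompositions (helper12)
-/

set_option autoImplicit false
open Polynomial DirectSum Classical

namespace Cfsg.Agent.Lib.H12.Cls

universe u v
variable {F : Type u} [Field F] {V : Type v} [AddCommGroup V] [Module F V]

theorem finrank_cyc (x : F[X] × ℕ) : Module.finrank F (Cyc F x) = x.2 * x.1.natDegree := by
  have h := finrank_quotient_span_eq_natDegree (f := x.1 ^ x.2)
  rw [natDegree_pow] at h
  exact h

theorem finite_cyc (x : F[X] × ℕ) (hx : x.1.Monic) : Module.Finite F (Cyc F x) :=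
  (hx.pow x.2).finite_adjoinRoot

namespace TypeData

variable {f : Module.End F V} (D : TypeData f)

theorem finrank_eq : Module.finrank F V = ∑ i, (D.c i).2 * (D.c i).1.natDegree := by
  haveI : ∀ i, Module.Finite F (Cyc F (D.c i)) := fun i => finite_cyc _ (D.monic i)
  have e : V ≃ₗ[F] ∀ i, Cyc F (D.c i) := (Module.AEval'.of f) ≪≫ₗ D.iso.restrictScalars F
  rw [e.finrank_eq, Module.finrank_pi_fintype]
  apply Finset.sum_congr rfl
  intro i _
  exact finrank_cyc _

theorem ne_X (hf : Function.Injective f) (i : D.ι) : (D.c i).1 ≠ X := by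
  intro hX
  obtain ⟨e, he⟩ : ∃ e, (D.c i).2 = e + 1 := ⟨(D.c i).2 - 1, by have := D.pos i; omega⟩
  set y : ∀ i', Cyc F (D.c i') := Pi.single i (Submodule.Quotient.mk (X ^ e : F[X])) with hy
  have hy0 : y ≠ 0 := by
    intro h0
    have h1 := congrFun h0 i
    rw [hy, Pi.single_eq_same, Pi.zero_apply, Submodule.Quotient.mk_eq_zero, hX, he,
      Submodule.mem_span_singleton] at h1
    obtain ⟨a, ha⟩ := h1
    rw [smul_eq_mul] at ha
    have h2 := congrArg (fun P : F[X] => P.coeff e) ha
    simp only [coeff_X_pow, if_true] at h2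
    rw [coeff_mul_X_pow', if_neg (by omega)] at h2
    exact zero_ne_one h2
  have hXy : (X : F[X]) • y = 0 := by
    funext i'
    rw [Pi.smul_apply, Pi.zero_apply, hy]
    by_cases hi : i' = i
    · subst hi
      rw [Pi.single_eq_same, ← Submodule.Quotient.mk_smul, Submodule.Quotient.mk_eq_zero, hX, he,
        smul_eq_mul, ← pow_succ']
      exact Submodule.mem_span_singleton_self _
    · rw [Pi.single_eq_of_ne hi, smul_zero]
  set x := D.iso.symm y with hx
  have hx0 : x ≠ 0 := by
    intro h0
    apply hy0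
    have : D.iso x = y := by rw [hx, LinearEquiv.apply_symm_apply]
    rw [← this, h0, map_zero]
  have hXx : (X : F[X]) • x = 0 := by
    rw [hx, ← map_smul, hXy, map_zero]
  obtain ⟨v, hv⟩ := (Module.AEval'.of f).surjective x
  rw [← hv, Module.AEval'.X_smul_of] at hXx
  have h1 : f v = 0 := by
    have := (Module.AEval'.of f).injective (hXx.trans (map_zero _).symm)
    exact this
  have h2 : v = 0 := hf (h1.trans (map_zero f).symm)
  apply hx0
  rw [← hv, h2, map_zero]

theorem coeff_zero_ne (hf : Function.Injective f) (i : D.ι) : (D.c i).1.coeff 0 ≠ 0 := by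
  intro h0
  have h1 : (X : F[X]) ∣ (D.c i).1 := Polynomial.X_dvd_iff.mpr h0
  have h2 : Associated (X : F[X]) (D.c i).1 := irreducible_X.associated_of_dvd (D.irr i) h1
  exact D.ne_X hf i (eq_of_monic_of_associated monic_X (D.monic i) h2).symm

end TypeData

end Cfsg.Agent.Lib.H12.Cls
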