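import Cfsg.Agent.Lib.H12.JordanD

/-!
# Unipotent classes of `GL_n(q)` are in bijection with the partitions of `n` (helper12)
-/

set_option autoImplicit false
open Polynomial

namespace Cfsg.Agent.Lib.H12.Jordan

universe u
variable {F : Type u} [Field F]

theorem exists_model (n : ℕ) (μ : Multiset ℕ) (hpos : ∀ a ∈ μ, 0 < a) (hsum : μ.sum = n) :
    ∃ (N : Module.End F (Fin n → F)) (J : JSys N), J.parts = μ := by
  classical
  set L := μ.toList with hL
  have hLμ : (L : Multiset ℕ) = μ := Multiset.coe_toList μ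
  set k : Fin L.length → ℕ := fun i => L.get i with hk
  have hcard : Fintype.card (Σ i : Fin L.length, Fin (k i)) = n := by
    rw [Fintype.card_sigma]
    simp only [Fintype.card_fin]
    rw [← hsum, ← hLμ, Multiset.sum_coe, ← List.sum_ofFn, List.ofFn_get]
  set ε : (Σ i : Fin L.length, Fin (k i)) ≃ Fin n := Fintype.equivFinOfCardEq hcard with hε
  set b : Module.Basis (Σ i : Fin L.length, Fin (k i)) F (Fin n → F) :=
    (Pi.basisFun F (Fin n)).reindex ε.symm with hb
  refine ⟨b.constr F (fun p => if h : (p.2 : ℕ) + 1 < k p.1 then b ⟨p.1, ⟨(p.2 : ℕ) + 1, h⟩⟩ else 0),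
    ⟨L.length, k, b, fun i j => by rw [Module.Basis.constr_basis]⟩, ?_⟩
  rw [JSys.parts]
  have h1 : Multiset.map k (Finset.univ : Finset (Fin L.length)).val = μ := by
    rw [Fin.univ_val_map, List.ofFn_get, hLμ]
  rw [h1, Multiset.filter_eq_self]
  intro a ha
  exact (hpos a ha).ne'

variable {n : ℕ}

/-- the nilpotent part `g - 1` as an endomorphism. -/
noncomputable def nilOf (g : GL (Fin n) F) : Module.End F (Fin n → F) :=
  Matrix.toLin' ((g : Matrix (Fin n) (Fin n) F) - 1)

theorem toLin'_eq_one_add_nilOf (g : GL (Fin n) F) :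
    Matrix.toLin' (g : Matrix (Fin n) (Fin n) F) = 1 + nilOf g := by
  rw [nilOf, map_sub, Matrix.toLin'_one]
  show _ = LinearMap.id + (_ - LinearMap.id)
  abel

theorem sub_one_pow_char_pow (p : ℕ) [Fact p.Prime] [CharP F p] (A : Matrix (Fin n) (Fin n) F)
    (a : ℕ) : (A - 1) ^ p ^ a = A ^ p ^ a - 1 := by
  have h1 : ((X : F[X]) - 1) ^ p ^ a = X ^ p ^ a - 1 := by
    rw [sub_pow_char_pow, one_pow]
  have h2 := congrArg (aeval A) h1
  simpa using h2

theorem one_add_pow_char_pow (p : ℕ) [Fact p.Prime] [CharP F p] (A : Matrix (Fin n) (Fin n) F)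
    (a : ℕ) : (1 + A) ^ p ^ a = 1 + A ^ p ^ a := by
  have h1 : ((1 : F[X]) + X) ^ p ^ a = 1 + X ^ p ^ a := by
    rw [add_pow_char_pow, one_pow]
  have h2 := congrArg (aeval A) h1
  simpa using h2

theorem isNilpotent_nilOf (p : ℕ) [Fact p.Prime] [CharP F p] (g : GL (Fin n) F)
    (h : ∃ a : ℕ, orderOf g = p ^ a) : IsNilpotent (nilOf g) := by
  obtain ⟨a, ha⟩ := h
  refine ⟨p ^ a, ?_⟩
  have h1 : (g : Matrix (Fin n) (Fin n) F) ^ p ^ a = 1 := by
    rw [← Units.val_pow_eq_pow_val, ← ha, pow_orderOf_eq_one]; rfl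
  have h2 : ((g : Matrix (Fin n) (Fin n) F) - 1) ^ p ^ a = 0 := by
    rw [sub_one_pow_char_pow p, h1, sub_self]
  rw [nilOf]
  have h3 : ∀ (A : Matrix (Fin n) (Fin n) F) (t : ℕ), Matrix.toLin' (A ^ t) = (Matrix.toLin' A) ^ t := by
    intro A t
    induction t with
    | zero => simp; rfl
    | succ t ih => rw [pow_succ, pow_succ, Matrix.toLin'_mul, ih]; rfl
  rw [← h3, h2, map_zero]

theorem isConj_of_equiv (A B : GL (Fin n) F) (e : (Fin n → F) ≃ₗ[F] (Fin n → F))
    (he : ∀ x, e (nilOf A x) = nilOf B (e x)) : IsConj A B := by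
  have he' : ∀ x, e (Matrix.toLin' (A : Matrix (Fin n) (Fin n) F) x) =
      Matrix.toLin' (B : Matrix (Fin n) (Fin n) F) (e x) := by
    intro x
    rw [toLin'_eq_one_add_nilOf, toLin'_eq_one_add_nilOf, LinearMap.add_apply, LinearMap.add_apply,
      map_add, he]
    rfl
  have h1 : LinearMap.toMatrix' e.toLinearMap * LinearMap.toMatrix' e.symm.toLinearMap = 1 := by
    rw [← LinearMap.toMatrix'_comp]
    simp
  have h2 : LinearMap.toMatrix' e.symm.toLinearMap * LinearMap.toMatrix' e.toLinearMap = 1 := by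
    rw [← LinearMap.toMatrix'_comp]
    simp
  let c : GL (Fin n) F :=
    ⟨LinearMap.toMatrix' e.toLinearMap, LinearMap.toMatrix' e.symm.toLinearMap, h1, h2⟩
  have h3 : c * A = B * c := by
    apply Units.ext
    show LinearMap.toMatrix' e.toLinearMap * (A : Matrix (Fin n) (Fin n) F) =
      (B : Matrix (Fin n) (Fin n) F) * LinearMap.toMatrix' e.toLinearMap
    calc LinearMap.toMatrix' e.toLinearMap * (A : Matrix (Fin n) (Fin n) F)
        = LinearMap.toMatrix' e.toLinearMap *
            LinearMap.toMatrix' (Matrix.toLin' (A : Matrix (Fin n) (Fin n) F)) := by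
          rw [LinearMap.toMatrix'_toLin']
      _ = LinearMap.toMatrix' (e.toLinearMap ∘ₗ Matrix.toLin' (A : Matrix (Fin n) (Fin n) F)) :=
          (LinearMap.toMatrix'_comp _ _).symm
      _ = LinearMap.toMatrix' (Matrix.toLin' (B : Matrix (Fin n) (Fin n) F) ∘ₗ e.toLinearMap) := by
          congr 1
          apply LinearMap.ext
          intro x
          exact he' x
      _ = LinearMap.toMatrix' (Matrix.toLin' (B : Matrix (Fin n) (Fin n) F)) *
            LinearMap.toMatrix' e.toLinearMap := LinearMap.toMatrix'_comp _ _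
      _ = (B : Matrix (Fin n) (Fin n) F) * LinearMap.toMatrix' e.toLinearMap := by
          rw [LinearMap.toMatrix'_toLin']
  exact isConj_iff.mpr ⟨c, by rw [mul_inv_eq_iff_eq_mul]; exact h3⟩

theorem exists_equiv_of_isConj {A B : GL (Fin n) F} (h : IsConj A B) :
    ∃ e : (Fin n → F) ≃ₗ[F] (Fin n → F), ∀ x, e (nilOf A x) = nilOf B (e x) := by
  obtain ⟨c, hc⟩ := isConj_iff.mp h
  have h1 : c * A = B * c := by rw [← hc]; group
  have h2 : (c : Matrix (Fin n) (Fin n) F) * ((A : Matrix (Fin n) (Fin n) F) - 1) =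
      ((B : Matrix (Fin n) (Fin n) F) - 1) * (c : Matrix (Fin n) (Fin n) F) := by
    have := congrArg Units.val h1
    rw [Units.val_mul, Units.val_mul] at this
    rw [mul_sub, sub_mul, this, mul_one, one_mul]
  refine ⟨LinearEquiv.ofLinearMap (Matrix.toLin' (c : Matrix (Fin n) (Fin n) F))
    (Matrix.toLin' ((c⁻¹ : GL (Fin n) F) : Matrix (Fin n) (Fin n) F)) ?_ ?_, ?_⟩
  · rw [← Matrix.toLin'_mul, ← Units.val_mul, mul_inv_cancel, Units.val_one, Matrix.toLin'_one]
  · rw [← Matrix.toLin'_mul, ← Units.val_mul, inv_mul_cancel, Units.val_one, Matrix.toLin'_one]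
  · intro x
    show Matrix.toLin' (c : Matrix (Fin n) (Fin n) F) (nilOf A x) =
      nilOf B (Matrix.toLin' (c : Matrix (Fin n) (Fin n) F) x)
    rw [nilOf, nilOf, ← LinearMap.comp_apply, ← LinearMap.comp_apply, ← Matrix.toLin'_mul,
      ← Matrix.toLin'_mul, h2]

theorem card_unipotent_classes [Fintype F] (p : ℕ) [Fact p.Prime] [CharP F p] (n : ℕ) :
    Nat.card {C : ConjClasses (GL (Fin n) F) //
      ∃ g : GL (Fin n) F, (∃ k : ℕ, orderOf g = p ^ k) ∧ ConjClasses.mk g = C} =
      Fintype.card (Nat.Partition n) := by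
  classical
  have hp : p.Prime := Fact.out
  -- models
  have hmodel : ∀ μ : Nat.Partition n, ∃ (g : GL (Fin n) F) (J : JSys (nilOf g)),
      (∃ k : ℕ, orderOf g = p ^ k) ∧ J.parts = μ.parts := by
    intro μ
    obtain ⟨N, J, hJ⟩ := exists_model (F := F) n μ.parts (fun a ha => μ.parts_pos ha) μ.parts_sum
    have hle : ∀ i, J.k i ≤ n := by
      intro i
      have h1 := J.sum_k
      rw [Module.finrank_fin_fun] at h1
      exact (Finset.single_le_sum (f := J.k) (fun _ _ => Nat.zero_le _) (Finset.mem_univ i)).trans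
        h1.le
    have hN0 : N ^ n = 0 := J.pow_eq_zero n hle
    have hA0 : (LinearMap.toMatrix' N) ^ n = 0 := by
      have h3 : ∀ t : ℕ, LinearMap.toMatrix' (N ^ t) = (LinearMap.toMatrix' N) ^ t := by
        intro t
        induction t with
        | zero => simp [Module.End.one_eq_id]
        | succ t ih => rw [pow_succ, pow_succ, Module.End.mul_eq_comp, LinearMap.toMatrix'_comp, ih]
      rw [← h3, hN0, map_zero]
    have hnil : IsNilpotent (LinearMap.toMatrix' N) := ⟨n, hA0⟩
    set g : GL (Fin n) F := (hnil.isUnit_one_add).unit with hg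
    have hgv : (g : Matrix (Fin n) (Fin n) F) = 1 + LinearMap.toMatrix' N := rfl
    have hnilOf : nilOf g = N := by
      rw [nilOf, hgv, add_sub_cancel_left, Matrix.toLin'_toMatrix']
    refine ⟨g, hnilOf ▸ J, ?_, ?_⟩
    · have h1 : g ^ p ^ n = 1 := by
        apply Units.ext
        rw [Units.val_pow_eq_pow_val, hgv, one_add_pow_char_pow p, Units.val_one]
        have h2 : n ≤ p ^ n := (Nat.lt_pow_self hp.one_lt).le
        rw [← Nat.sub_add_cancel h2, pow_add, hA0, mul_zero, add_zero]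
      obtain ⟨k, -, hk⟩ := (Nat.dvd_prime_pow hp).mp (orderOf_dvd_of_pow_eq_one h1)
      exact ⟨k, hk⟩
    · rw [← hJ]
      clear_value g
      subst hnilOf
      rfl
  choose G JG hG1 hG2 using hmodel
  have hbij : Function.Bijective (fun μ : Nat.Partition n =>
      (⟨ConjClasses.mk (G μ), G μ, hG1 μ, rfl⟩ : {C : ConjClasses (GL (Fin n) F) //
        ∃ g : GL (Fin n) F, (∃ k : ℕ, orderOf g = p ^ k) ∧ ConjClasses.mk g = C})) := by
    constructor
    · intro μ ν h
      have h1 : ConjClasses.mk (G μ) = ConjClasses.mk (G ν) := congrArg Subtype.val h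
      obtain ⟨e, he⟩ := exists_equiv_of_isConj (ConjClasses.mk_eq_mk_iff_isConj.mp h1)
      have h2 := (JG μ).parts_eq_of_equiv (JG ν) e he
      rw [hG2, hG2] at h2
      exact Nat.Partition.ext h2
    · rintro ⟨C, g, hg, rfl⟩
      obtain ⟨J⟩ := exists_jsys (nilOf g) (isNilpotent_nilOf p g hg)
      have hs : J.parts.sum = n := by rw [J.sum_parts, Module.finrank_fin_fun]
      refine ⟨⟨J.parts, fun ha => J.parts_pos ha, hs⟩, ?_⟩
      apply Subtype.ext
      show ConjClasses.mk (G _) = ConjClasses.mk g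
      rw [ConjClasses.mk_eq_mk_iff_isConj]
      obtain ⟨e, he⟩ := (JG ⟨J.parts, fun ha => J.parts_pos ha, hs⟩).exists_equiv_of_parts J
        (by rw [hG2])
      exact isConj_of_equiv _ _ e he
  rw [← Nat.card_eq_of_bijective _ hbij, Nat.card_eq_fintype_card]

end Cfsg.Agent.Lib.H12.Jordan
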