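import Mathlib
import Cfsg.Agent.Lib.H12.ClsD
import Cfsg.Agent.Lib.H12.JordanE

/-!
# The tuple of polynomials attached to an invertible matrix (helper12)
-/

set_option autoImplicit false
open Polynomial DirectSum Classical

namespace Cfsg.Agent.Lib.H12.Cls

universe u v
variable {F : Type u} [Field F] {V : Type v} [AddCommGroup V] [Module F V]

namespace TypeData

variable {f : Module.End F V} (D : TypeData f)

theorem exp_le (i : D.ι) : (D.c i).2 ≤ Module.finrank F V := by
  rw [D.finrank_eq]
  have h1 : 0 < (D.c i).1.natDegree := (D.irr i).natDegree_pos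
  calc (D.c i).2 ≤ (D.c i).2 * (D.c i).1.natDegree := Nat.le_mul_of_pos_right _ h1
    _ ≤ ∑ i, (D.c i).2 * (D.c i).1.natDegree :=
      Finset.single_le_sum (f := fun i => (D.c i).2 * (D.c i).1.natDegree)
        (fun _ _ => Nat.zero_le _) (Finset.mem_univ i)

theorem irrs_eq_zero_of_lt (j : ℕ) (hj : Module.finrank F V < j) : D.irrs j = 0 := by
  unfold irrs
  rw [Multiset.map_eq_zero, Finset.val_eq_zero, Finset.filter_eq_empty_iff]
  intro i _ h
  have := D.exp_le i
  omega

theorem irrs_zero : D.irrs 0 = 0 := by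
  unfold irrs
  rw [Multiset.map_eq_zero, Finset.val_eq_zero, Finset.filter_eq_empty_iff]
  intro i _ h
  exact D.pos i h

theorem sum_gpoly :
    ∑ j ∈ Finset.range (Module.finrank F V + 1), j * (D.gpoly j).natDegree =
      Module.finrank F V := by
  conv_rhs => rw [D.finrank_eq]
  rw [← Finset.sum_fiberwise_of_maps_to (s := Finset.univ) (t := Finset.range (Module.finrank F V + 1))
    (g := fun i => (D.c i).2)
    (fun i _ => Finset.mem_range.mpr (Nat.lt_succ_of_le (D.exp_le i)))]
  apply Finset.sum_congr rfl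
  intro j _
  rw [D.natDegree_gpoly, Finset.mul_sum]
  apply Finset.sum_congr rfl
  intro i hi
  rw [(Finset.mem_filter.mp hi).2]

theorem gpoly_coeff_zero_ne (hf : Function.Injective f) (j : ℕ) : (D.gpoly j).coeff 0 ≠ 0 := by
  unfold gpoly
  rw [Polynomial.coeff_zero_multiset_prod]
  apply Multiset.prod_ne_zero
  intro h
  rw [Multiset.mem_map] at h
  obtain ⟨a, ha, ha0⟩ := h
  unfold irrs at ha
  rw [Multiset.mem_map] at ha
  obtain ⟨i, -, rfl⟩ := ha
  exact D.coeff_zero_ne hf i ha0

end TypeData

variable {n : ℕ}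

theorem isConj_of_intertwiner (A B : GL (Fin n) F) (e : (Fin n → F) ≃ₗ[F] (Fin n → F))
    (he : ∀ x, e (Matrix.toLin' (A : Matrix (Fin n) (Fin n) F) x) =
      Matrix.toLin' (B : Matrix (Fin n) (Fin n) F) (e x)) : IsConj A B := by
  apply Jordan.isConj_of_equiv A B e
  intro x
  have hA : ∀ (g : GL (Fin n) F) (y : Fin n → F),
      Jordan.nilOf g y = Matrix.toLin' (g : Matrix (Fin n) (Fin n) F) y - y := by
    intro g y
    rw [Jordan.toLin'_eq_one_add_nilOf, LinearMap.add_apply, Module.End.one_apply]
    abel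
  rw [hA, hA, map_sub, he]

/-- the chosen decomposition of an invertible matrix -/
noncomputable def dataOf (A : GL (Fin n) F) :
    TypeData (Matrix.toLin' (A : Matrix (Fin n) (Fin n) F)) :=
  (exists_typeData _).some

/-- the tuple of polynomials of an invertible matrix -/
noncomputable def tupleOf (A : GL (Fin n) F) : Fin n → F[X] :=
  fun j => (dataOf A).gpoly ((j : ℕ) + 1)

theorem injective_toLin' (A : GL (Fin n) F) :
    Function.Injective (Matrix.toLin' (A : Matrix (Fin n) (Fin n) F)) := by
  intro x y hxy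
  have := congrArg (Matrix.toLin' ((A⁻¹ : GL (Fin n) F) : Matrix (Fin n) (Fin n) F)) hxy
  rw [← LinearMap.comp_apply, ← LinearMap.comp_apply, ← Matrix.toLin'_mul, ← Units.val_mul,
    inv_mul_cancel, Units.val_one, Matrix.toLin'_one] at this
  exact this

theorem tupleOf_monic (A : GL (Fin n) F) (j : Fin n) : (tupleOf A j).Monic :=
  (dataOf A).gpoly_monic _

theorem tupleOf_coeff_zero (A : GL (Fin n) F) (j : Fin n) : (tupleOf A j).coeff 0 ≠ 0 :=
  (dataOf A).gpoly_coeff_zero_ne (injective_toLin' A) _

theorem tupleOf_sum (A : GL (Fin n) F) :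
    ∑ j : Fin n, ((j : ℕ) + 1) * (tupleOf A j).natDegree = n := by
  have h := (dataOf A).sum_gpoly
  rw [Module.finrank_fin_fun, Finset.sum_range_succ', zero_mul, add_zero, Finset.sum_range] at h
  exact h

theorem isConj_of_tupleOf_eq (A B : GL (Fin n) F) (h : tupleOf A = tupleOf B) : IsConj A B := by
  have hg : ∀ j, (dataOf A).gpoly j = (dataOf B).gpoly j := by
    intro j
    rcases Nat.eq_zero_or_pos j with rfl | hj
    · unfold TypeData.gpoly
      rw [TypeData.irrs_zero, TypeData.irrs_zero]
    · by_cases hjn : j ≤ n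
      · have := congrFun h ⟨j - 1, by omega⟩
        unfold tupleOf at this
        simp only at this
        rw [Nat.sub_add_cancel hj] at this
        exact this
      · unfold TypeData.gpoly
        rw [TypeData.irrs_eq_zero_of_lt _ j (by rw [Module.finrank_fin_fun]; omega),
          TypeData.irrs_eq_zero_of_lt _ j (by rw [Module.finrank_fin_fun]; omega)]
  obtain ⟨Φ⟩ := nonempty_equiv_of_gpoly_eq (dataOf A) (dataOf B) hg
  obtain ⟨e, he⟩ := exists_intertwiner Φ
  exact isConj_of_intertwiner A B e he

end Cfsg.Agent.Lib.H12.Cls
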