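import Mathlib

/-!
# Semisimple endomorphisms: cyclic subspaces and peeling (helper12)

For an endomorphism `f` of a finite-dimensional space and a vector `v ≠ 0` killed by `pi(f)`, with
`pi` irreducible, the cyclic subspace `cyc f v` is a copy of `F[X]/(pi)`; the characteristic
polynomial of `f` on it is `pi`.  When `f` is semisimple it has an invariant complement, and the
characteristic polynomial splits accordingly.
-/

set_option autoImplicit false
open Polynomial

namespace Cfsg.Agent.Lib.H12.Semi

universe u v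
variable {F : Type u} [Field F] {V : Type v} [AddCommGroup V] [Module F V]

/-- the evaluation map `p ↦ p(f) v`. -/
noncomputable def evalAt (f : Module.End F V) (v : V) : F[X] →ₗ[F] V :=
  (LinearMap.applyₗ v).comp (Polynomial.aeval f).toLinearMap

@[simp] lemma evalAt_apply (f : Module.End F V) (v : V) (p : F[X]) :
    evalAt f v p = aeval f p v := rfl

/-- the cyclic subspace generated by `v`. -/
noncomputable def cyc (f : Module.End F V) (v : V) : Submodule F V := LinearMap.range (evalAt f v)

lemma mem_cyc_iff (f : Module.End F V) (v x : V) : x ∈ cyc f v ↔ ∃ p : F[X], aeval f p v = x := by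
  simp [cyc, LinearMap.mem_range]

lemma self_mem_cyc (f : Module.End F V) (v : V) : v ∈ cyc f v := by
  rw [mem_cyc_iff]; exact ⟨1, by simp⟩

lemma cyc_invt (f : Module.End F V) (v : V) : cyc f v ∈ f.invtSubmodule := by
  rw [Module.End.mem_invtSubmodule]
  intro x hx
  rw [mem_cyc_iff] at hx
  obtain ⟨p, rfl⟩ := hx
  rw [Submodule.mem_comap, mem_cyc_iff]
  refine ⟨X * p, ?_⟩
  simp [map_mul, Module.End.mul_apply]

lemma aeval_mul_apply_comm (f : Module.End F V) (p r : F[X]) (v : V) :
    aeval f (p * r) v = aeval f r (aeval f p v) := by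
  rw [mul_comm, map_mul, Module.End.mul_apply]

lemma evalAt_eq_zero_iff (f : Module.End F V) {v : V} (hv : v ≠ 0) {pi : F[X]}
    (hpi : Irreducible pi) (h : aeval f pi v = 0) (p : F[X]) :
    aeval f p v = 0 ↔ pi ∣ p := by
  constructor
  · intro hp
    by_contra hnd
    have hco : IsCoprime pi p := (Irreducible.coprime_iff_not_dvd hpi).mpr hnd
    obtain ⟨a, b, hab⟩ := hco
    apply hv
    have : aeval f (a * pi + b * p) v = v := by rw [hab]; simp
    rw [← this, map_add, LinearMap.add_apply, map_mul, map_mul, Module.End.mul_apply,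
      Module.End.mul_apply, h, hp]
    simp
  · rintro ⟨r, rfl⟩
    rw [aeval_mul_apply_comm, h, map_zero]

/-- the `F`-linear quotient map onto `AdjoinRoot pi`. -/
noncomputable def mkLin (pi : F[X]) : F[X] →ₗ[F] AdjoinRoot pi :=
  (aeval (AdjoinRoot.root pi)).toLinearMap

lemma mkLin_apply (pi p : F[X]) : mkLin pi p = AdjoinRoot.mk pi p := AdjoinRoot.aeval_eq p

lemma mkLin_surjective (pi : F[X]) : Function.Surjective (mkLin pi) := by
  intro a
  obtain ⟨p, rfl⟩ := AdjoinRoot.mk_surjective a
  exact ⟨p, mkLin_apply pi p⟩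

lemma ker_mkLin_eq (f : Module.End F V) {v : V} (hv : v ≠ 0) {pi : F[X]}
    (hpi : Irreducible pi) (h : aeval f pi v = 0) :
    LinearMap.ker (mkLin pi) = LinearMap.ker (evalAt f v) := by
  ext p
  rw [LinearMap.mem_ker, LinearMap.mem_ker, mkLin_apply, AdjoinRoot.mk_eq_zero, evalAt_apply,
    evalAt_eq_zero_iff f hv hpi h]

/-- the cyclic subspace of a vector killed by the irreducible `pi` is a copy of `F[X]/(pi)`. -/
noncomputable def cycEquiv (f : Module.End F V) {v : V} (hv : v ≠ 0) {pi : F[X]}
    (hpi : Irreducible pi) (h : aeval f pi v = 0) : AdjoinRoot pi ≃ₗ[F] cyc f v :=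
  ((LinearMap.quotKerEquivOfSurjective (mkLin pi) (mkLin_surjective pi)).symm ≪≫ₗ
    Submodule.quotEquivOfEq _ _ (ker_mkLin_eq f hv hpi h)) ≪≫ₗ
      LinearMap.quotKerEquivRange (evalAt f v)

lemma cycEquiv_mk (f : Module.End F V) {v : V} (hv : v ≠ 0) {pi : F[X]}
    (hpi : Irreducible pi) (h : aeval f pi v = 0) (p : F[X]) :
    (cycEquiv f hv hpi h (AdjoinRoot.mk pi p) : V) = aeval f p v := by
  have h1 : (LinearMap.quotKerEquivOfSurjective (mkLin pi) (mkLin_surjective pi)).symm
      (AdjoinRoot.mk pi p) = Submodule.Quotient.mk p := by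
    rw [LinearEquiv.symm_apply_eq, LinearMap.quotKerEquivOfSurjective_apply_mk, mkLin_apply]
  have h2 : (cycEquiv f hv hpi h (AdjoinRoot.mk pi p) : V) =
      (LinearMap.quotKerEquivRange (evalAt f v) (Submodule.quotEquivOfEq _ _
        (ker_mkLin_eq f hv hpi h)
        ((LinearMap.quotKerEquivOfSurjective (mkLin pi) (mkLin_surjective pi)).symm
          (AdjoinRoot.mk pi p))) : V) := rfl
  rw [h2, h1, Submodule.quotEquivOfEq_mk, LinearMap.quotKerEquivRange_apply_mk, evalAt_apply]

lemma cycEquiv_root_mul (f : Module.End F V) {v : V} (hv : v ≠ 0) {pi : F[X]}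
    (hpi : Irreducible pi) (h : aeval f pi v = 0) (a : AdjoinRoot pi) :
    (cycEquiv f hv hpi h (AdjoinRoot.root pi * a) : V) = f (cycEquiv f hv hpi h a : V) := by
  obtain ⟨p, rfl⟩ := AdjoinRoot.mk_surjective a
  rw [← AdjoinRoot.mk_X, ← map_mul, cycEquiv_mk, cycEquiv_mk]
  simp [map_mul, Module.End.mul_apply]

lemma charpoly_mulLeft_root {pi : F[X]} (hm : pi.Monic) [Module.Finite F (AdjoinRoot pi)] :
    (LinearMap.mulLeft F (AdjoinRoot.root pi)).charpoly = pi := by
  have h0 : pi ≠ 0 := hm.ne_zero
  have h1 := charpoly_leftMulMatrix (AdjoinRoot.powerBasis h0)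
  rw [AdjoinRoot.minpoly_powerBasis_gen_of_monic hm h0, Algebra.leftMulMatrix_apply,
    LinearMap.charpoly_toMatrix] at h1
  refine Eq.trans ?_ h1
  congr 1

/-- restriction of an endomorphism to an invariant subspace. -/
noncomputable def res (f : Module.End F V) {p : Submodule F V} (hp : p ∈ f.invtSubmodule) :
    Module.End F p :=
  LinearMap.restrict f ((Module.End.mem_invtSubmodule_iff_forall_mem_of_mem f).mp hp)

@[simp] lemma res_apply (f : Module.End F V) {p : Submodule F V} (hp : p ∈ f.invtSubmodule)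
    (x : p) : (res f hp x : V) = f x := rfl

lemma res_isSemisimple {f : Module.End F V} (hf : f.IsSemisimple) {p : Submodule F V}
    (hp : p ∈ f.invtSubmodule) : (res f hp).IsSemisimple := hf.restrict hp

lemma res_pow_apply (f : Module.End F V) {p : Submodule F V} (hp : p ∈ f.invtSubmodule)
    (k : ℕ) (x : p) : (((res f hp) ^ k) x : V) = (f ^ k) x := by
  induction k generalizing x with
  | zero => simp
  | succ k ih => rw [pow_succ, pow_succ, Module.End.mul_apply, Module.End.mul_apply, ih, res_apply]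

lemma aeval_res_apply (f : Module.End F V) {p : Submodule F V} (hp : p ∈ f.invtSubmodule)
    (r : F[X]) (x : p) : ((aeval (res f hp) r) x : V) = aeval f r x := by
  induction r using Polynomial.induction_on' with
  | add a b ha hb => simp [map_add, ha, hb]
  | monomial k c =>
    simp only [aeval_monomial, Module.End.mul_apply, Module.algebraMap_end_apply,
      Submodule.coe_smul, res_pow_apply]

lemma restrict_cyc_eq_conj (f : Module.End F V) {v : V} (hv : v ≠ 0) {pi : F[X]}
    (hpi : Irreducible pi) (h : aeval f pi v = 0) :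
    res f (cyc_invt f v) =
      (cycEquiv f hv hpi h).conj (LinearMap.mulLeft F (AdjoinRoot.root pi)) := by
  apply LinearMap.ext
  intro x
  obtain ⟨a, rfl⟩ := (cycEquiv f hv hpi h).surjective x
  rw [LinearEquiv.conj_apply_apply, LinearEquiv.symm_apply_apply]
  apply Subtype.ext
  rw [res_apply, LinearMap.mulLeft_apply, cycEquiv_root_mul]

variable [FiniteDimensional F V]

lemma charpoly_restrict_cyc (f : Module.End F V) {v : V} (hv : v ≠ 0) {pi : F[X]}
    (hpi : Irreducible pi) (hm : pi.Monic) (h : aeval f pi v = 0) :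
    (res f (cyc_invt f v)).charpoly = pi := by
  have : Module.Finite F (AdjoinRoot pi) := hm.finite_adjoinRoot
  rw [restrict_cyc_eq_conj f hv hpi h, LinearEquiv.charpoly_conj, charpoly_mulLeft_root hm]

lemma charpoly_of_isCompl (f : Module.End F V) {Z Z' : Submodule F V}
    (hZ : Z ∈ f.invtSubmodule) (hZ' : Z' ∈ f.invtSubmodule) (hc : IsCompl Z Z') :
    f.charpoly = (res f hZ).charpoly * (res f hZ').charpoly := by
  have hψ : (res f hZ).prodMap (res f hZ') =
      (Submodule.prodEquivOfIsCompl Z Z' hc).symm.conj f := by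
    apply LinearMap.ext
    intro x
    rw [LinearEquiv.conj_apply_apply, LinearEquiv.symm_symm, LinearEquiv.eq_symm_apply]
    simp only [Submodule.coe_prodEquivOfIsCompl', map_add, LinearMap.prodMap_apply, res_apply]
  rw [← (Submodule.prodEquivOfIsCompl Z Z' hc).symm.charpoly_conj f, ← hψ,
    LinearMap.charpoly_prodMap]

lemma exists_ne_zero_of_dvd_minpoly (f : Module.End F V) {rho : F[X]} (hr : rho ∣ minpoly F f)
    (hdeg : 0 < rho.natDegree) : ∃ v : V, v ≠ 0 ∧ aeval f rho v = 0 := by
  by_contra hcon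
  push Not at hcon
  obtain ⟨r, hr⟩ := hr
  have hm0 : minpoly F f ≠ 0 := minpoly.ne_zero (Algebra.IsIntegral.isIntegral f)
  have hr0 : r ≠ 0 := by
    rintro rfl
    rw [mul_zero] at hr
    exact hm0 hr
  have h1 : aeval f r = 0 := by
    apply LinearMap.ext
    intro x
    by_contra hx
    apply hcon _ hx
    rw [← aeval_mul_apply_comm, mul_comm, ← hr, minpoly.aeval]
    rfl
  have h2 := minpoly.dvd F f h1
  rw [hr] at h2
  have h3 := Polynomial.natDegree_le_of_dvd h2 hr0
  have hrho0 : rho ≠ 0 := by
    rintro rfl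
    simp at hdeg
  rw [Polynomial.natDegree_mul hrho0 hr0] at h3
  omega

lemma exists_peel (f : Module.End F V) (hf : f.IsSemisimple) {v : V} (hv : v ≠ 0) {pi : F[X]}
    (hpi : Irreducible pi) (hm : pi.Monic) (h : aeval f pi v = 0) :
    ∃ (Z' : Submodule F V) (hZ' : Z' ∈ f.invtSubmodule), IsCompl (cyc f v) Z' ∧
      f.charpoly = pi * (res f hZ').charpoly ∧
      Module.finrank F Z' + pi.natDegree = Module.finrank F V := by
  obtain ⟨Z', hZ', hc⟩ := Module.End.isSemisimple_iff.mp hf (cyc f v) (cyc_invt f v)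
  refine ⟨Z', hZ', hc, ?_, ?_⟩
  · rw [charpoly_of_isCompl f (cyc_invt f v) hZ' hc, charpoly_restrict_cyc f hv hpi hm h]
  · have h1 := Submodule.finrank_add_eq_of_isCompl hc
    have h2 : Module.finrank F (cyc f v) = pi.natDegree := by
      rw [← LinearMap.charpoly_natDegree (res f (cyc_invt f v)),
        charpoly_restrict_cyc f hv hpi hm h]
    omega

end Cfsg.Agent.Lib.H12.Semi
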