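import Mathlib

/-!
# Möbius function: invariance under interval-preserving embeddings, Weisner's theorem (helper12)
-/

set_option autoImplicit false
open IncidenceAlgebra Finset

namespace Cfsg.Agent.Lib.H12.Stv

section embed

variable {α β : Type*} [PartialOrder α] [LocallyFiniteOrder α] [DecidableEq α]
  [PartialOrder β] [LocallyFiniteOrder β] [DecidableEq β]

/-- the Möbius function is preserved by injective maps carrying intervals onto intervals -/
theorem mu_map (ι : β → α) (hinj : Function.Injective ι)
    (hI : ∀ a b : β, Ico (ι a) (ι b) = (Ico a b).image ι) (a : β) :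
    ∀ (N : ℕ) (b : β), (Ico a b).card = N → mu ℤ (ι a) (ι b) = mu ℤ a b := by
  intro N
  induction N using Nat.strong_induction_on with
  | _ N ih =>
    intro b hb
    rw [mu_apply, mu_apply (a := a)]
    by_cases hab : a = b
    · rw [if_pos hab, if_pos (congrArg ι hab)]
    · rw [if_neg hab, if_neg (fun h => hab (hinj h)), hI, Finset.sum_image (fun x _ y _ h => hinj h)]
      congr 1
      apply Finset.sum_congr rfl
      intro x hx
      have hx' := Finset.mem_Ico.mp hx
      have hlt : (Ico a x).card < N := by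
        rw [← hb]
        apply Finset.card_lt_card
        rw [Finset.ssubset_iff_of_subset (Finset.Ico_subset_Ico_right hx'.2.le)]
        exact ⟨x, hx, by simp⟩
      exact ih _ hlt x rfl

theorem mu_map' (ι : β → α) (hinj : Function.Injective ι)
    (hI : ∀ a b : β, Ico (ι a) (ι b) = (Ico a b).image ι) (a b : β) :
    mu ℤ (ι a) (ι b) = mu ℤ a b :=
  mu_map ι hinj hI a _ b rfl

theorem mu_orderIso (e : β ≃o α) (a b : β) : mu ℤ (e a) (e b) = mu ℤ a b := by
  apply mu_map' e e.injective
  intro a b
  ext x
  simp only [Finset.mem_Ico, Finset.mem_image]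
  constructor
  · rintro ⟨h1, h2⟩
    refine ⟨e.symm x, ⟨?_, ?_⟩, e.apply_symm_apply x⟩
    · rw [← e.le_iff_le, e.apply_symm_apply]; exact h1
    · rw [← e.lt_iff_lt, e.apply_symm_apply]; exact h2
  · rintro ⟨y, ⟨h1, h2⟩, rfl⟩
    exact ⟨e.le_iff_le.mpr h1, e.lt_iff_lt.mpr h2⟩

end embed

section weisner

variable {α : Type*} [Lattice α] [BoundedOrder α] [Fintype α] [LocallyFiniteOrder α]
  [DecidableEq α]

/-- Weisner's theorem -/
theorem weisner (a : α) (ha : a ≠ ⊥) :
    ∑ x ∈ Finset.univ.filter (fun x : α => x ⊔ a = ⊤), mu ℤ ⊥ x = 0 := by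
  classical
  have h1 : ∀ x : α, (if x ⊔ a = ⊤ then (1 : ℤ) else 0) =
      ∑ z : α, if x ⊔ a ≤ z then mu ℤ z ⊤ else 0 := by
    intro x
    rw [← sum_Icc_mu_left (𝕜 := ℤ) (x ⊔ a) ⊤, ← Finset.sum_filter]
    apply Finset.sum_congr _ (fun _ _ => rfl)
    ext z
    simp
  rw [Finset.sum_filter]
  calc ∑ x : α, (if x ⊔ a = ⊤ then mu ℤ ⊥ x else 0)
      = ∑ x : α, mu ℤ ⊥ x * (if x ⊔ a = ⊤ then (1 : ℤ) else 0) := by
        apply Finset.sum_congr rfl
        intro x _
        split_ifs <;> simp
    _ = ∑ x : α, ∑ z : α, if x ⊔ a ≤ z then mu ℤ ⊥ x * mu ℤ z ⊤ else 0 := by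
        apply Finset.sum_congr rfl
        intro x _
        rw [h1, Finset.mul_sum]
        apply Finset.sum_congr rfl
        intro z _
        split_ifs <;> simp
    _ = ∑ z : α, ∑ x : α, if x ⊔ a ≤ z then mu ℤ ⊥ x * mu ℤ z ⊤ else 0 := Finset.sum_comm
    _ = ∑ z : α, (if a ≤ z then (mu ℤ z ⊤ * ∑ x ∈ Finset.Icc ⊥ z, mu ℤ ⊥ x) else 0) := by
        apply Finset.sum_congr rfl
        intro z _
        by_cases haz : a ≤ z
        · rw [if_pos haz, Finset.mul_sum, ← Finset.sum_filter]
          have : (Finset.univ.filter fun x : α => x ⊔ a ≤ z) = Finset.Icc ⊥ z := by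
            ext x
            simp [haz]
          rw [Finset.sum_filter, ← Finset.sum_filter, this]
          apply Finset.sum_congr rfl
          intro x _
          ring
        · rw [if_neg haz]
          apply Finset.sum_eq_zero
          intro x _
          rw [if_neg]
          intro h
          exact haz (le_sup_right.trans h)
    _ = 0 := by
        apply Finset.sum_eq_zero
        intro z _
        split_ifs with haz
        · rw [sum_Icc_mu_right, if_neg, mul_zero]
          intro h
          apply ha
          rw [← h] at haz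
          exact le_bot_iff.mp haz
        · rfl

end weisner

end Cfsg.Agent.Lib.H12.Stv
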