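import Mathlib
import Cfsg.Agent.Lib.H12.StvA

/-!
# The Möbius function of the lattice of subspaces of a finite vector space (helper12)
-/

set_option autoImplicit false
open IncidenceAlgebra Finset

namespace Cfsg.Agent.Lib.H12.Stv

universe u v

section hyp

variable {K : Type u} [Field K] {V : Type v} [AddCommGroup V] [Module K V]

/-- hyperplanes complementary to the line through `v` -/
def hypSet (v : V) : Set (Submodule K V) := {H | H ⊔ (K ∙ v) = ⊤ ∧ H ≠ ⊤}

theorem mem_hypSet (v : V) (H : Submodule K V) :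
    H ∈ hypSet v ↔ H ⊔ (K ∙ v) = ⊤ ∧ H ≠ ⊤ := Iff.rfl

/-- functionals taking the value `1` at `v` -/
def funSet (v : V) : Set (Module.Dual K V) := {φ | φ v = 1}

theorem not_mem_of_mem_hypSet {v : V} {H : Submodule K V} (hH : H ∈ hypSet v) : v ∉ H := by
  intro hv
  apply hH.2
  rw [← hH.1]
  apply le_antisymm le_sup_left
  apply sup_le le_rfl
  rw [Submodule.span_singleton_le_iff_mem]
  exact hv

theorem ker_mem_hypSet {v : V} {φ : Module.Dual K V} (hφ : φ ∈ funSet v) :
    LinearMap.ker φ ∈ hypSet v := by
  have hφv : φ v = 1 := hφ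
  constructor
  · rw [eq_top_iff]
    intro x _
    have hx : x = (x - φ x • v) + φ x • v := by abel
    rw [hx]
    apply Submodule.add_mem_sup
    · rw [LinearMap.mem_ker, map_sub, map_smul, hφv, smul_eq_mul, mul_one, sub_self]
    · exact Submodule.smul_mem _ _ (Submodule.mem_span_singleton_self v)
  · intro h
    have : v ∈ LinearMap.ker φ := by rw [h]; trivial
    rw [LinearMap.mem_ker, hφv] at this
    exact one_ne_zero this

theorem ker_injOn (v : V) {φ ψ : Module.Dual K V} (hφ : φ ∈ funSet v) (hψ : ψ ∈ funSet v)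
    (h : LinearMap.ker φ = LinearMap.ker ψ) : φ = ψ := by
  have hφv : φ v = 1 := hφ
  have hψv : ψ v = 1 := hψ
  apply LinearMap.ext
  intro x
  have h1 : x - φ x • v ∈ LinearMap.ker φ := by
    rw [LinearMap.mem_ker, map_sub, map_smul, hφv, smul_eq_mul, mul_one, sub_self]
  rw [h, LinearMap.mem_ker, map_sub, map_smul, hψv, smul_eq_mul, mul_one, sub_eq_zero] at h1
  exact h1.symm

theorem exists_fun_of_hyp {v : V} {H : Submodule K V} (hH : H ∈ hypSet v) :
    ∃ φ ∈ funSet v, LinearMap.ker φ = H := by
  have hv := not_mem_of_mem_hypSet hH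
  obtain ⟨f, hfv, hf⟩ := H.exists_dual_map_eq_bot_of_notMem hv inferInstance
  refine ⟨(f v)⁻¹ • f, ?_, ?_⟩
  · show ((f v)⁻¹ • f) v = 1
    rw [LinearMap.smul_apply, smul_eq_mul, inv_mul_cancel₀ hfv]
  · apply le_antisymm
    · intro x hx
      rw [LinearMap.mem_ker, LinearMap.smul_apply, smul_eq_mul] at hx
      have hfx : f x = 0 := by
        rcases mul_eq_zero.mp hx with h | h
        · exact absurd (inv_eq_zero.mp h) hfv
        · exact h
      have hx' : x ∈ H ⊔ (K ∙ v) := by rw [hH.1]; trivial
      rw [Submodule.mem_sup] at hx'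
      obtain ⟨h, hh, y, hy, rfl⟩ := hx'
      rw [Submodule.mem_span_singleton] at hy
      obtain ⟨c, rfl⟩ := hy
      have hfh : f h = 0 := by
        have : f h ∈ H.map f := Submodule.mem_map_of_mem hh
        rw [hf] at this
        exact (Submodule.mem_bot K).mp this
      rw [map_add, hfh, zero_add, map_smul, smul_eq_mul] at hfx
      have hc : c = 0 := by
        rcases mul_eq_zero.mp hfx with h | h
        · exact h
        · exact absurd h hfv
      rw [hc, zero_smul, add_zero]
      exact hh
    · intro x hx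
      have : f x ∈ H.map f := Submodule.mem_map_of_mem hx
      rw [hf] at this
      rw [LinearMap.mem_ker, LinearMap.smul_apply, (Submodule.mem_bot K).mp this, smul_zero]

/-- the bijection between functionals with `φ v = 1` and hyperplanes avoiding `v` -/
noncomputable def funHypEquiv (v : V) : funSet (K := K) v ≃ hypSet (K := K) v :=
  Equiv.ofBijective (fun φ => ⟨LinearMap.ker φ.1, ker_mem_hypSet φ.2⟩) (by
    constructor
    · intro φ ψ h
      apply Subtype.ext
      exact ker_injOn v φ.2 ψ.2 (congrArg Subtype.val h)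
    · intro H
      obtain ⟨φ, hφ, hk⟩ := exists_fun_of_hyp H.2
      exact ⟨⟨φ, hφ⟩, Subtype.ext hk⟩)

variable [Fintype K] [Finite V]

theorem card_funSet (v : V) (hv : v ≠ 0) :
    Nat.card (funSet (K := K) v) = Fintype.card K ^ (Module.finrank K V - 1) := by
  classical
  haveI : Fintype V := Fintype.ofFinite V
  haveI : FiniteDimensional K V := Module.Finite.of_finite
  set ev : Module.Dual K V →ₗ[K] K := LinearMap.applyₗ v with hev
  obtain ⟨φ₀, hφ₀⟩ : ∃ φ₀ : Module.Dual K V, φ₀ v = 1 := by
    have hinj : LinearMap.ker (LinearMap.toSpanSingleton K V v) = ⊥ := by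
      rw [LinearMap.ker_eq_bot]
      intro a b hab
      simp only [LinearMap.toSpanSingleton_apply] at hab
      exact smul_left_injective K hv hab
    obtain ⟨g, hg⟩ := LinearMap.exists_leftInverse_of_injective _ hinj
    refine ⟨g, ?_⟩
    have := congrArg (fun f : K →ₗ[K] K => f 1) hg
    simpa using this
  have e : funSet (K := K) v ≃ LinearMap.ker ev :=
    { toFun := fun φ => ⟨φ.1 - φ₀, by
        have h1 : φ.1 v = 1 := φ.2
        rw [LinearMap.mem_ker, hev, LinearMap.applyₗ_apply_apply, LinearMap.sub_apply, h1, hφ₀,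
          sub_self]⟩
      invFun := fun ψ => ⟨ψ.1 + φ₀, by
        have h1 : ψ.1 v = 0 := LinearMap.mem_ker.mp ψ.2
        show (ψ.1 + φ₀) v = 1
        rw [LinearMap.add_apply, h1, hφ₀, zero_add]⟩
      left_inv := by intro φ; apply Subtype.ext; simp
      right_inv := by intro ψ; apply Subtype.ext; simp }
  rw [Nat.card_congr e]
  haveI : Finite (Module.Dual K V) :=
    Finite.of_injective (fun φ : Module.Dual K V => (φ : V → K)) DFunLike.coe_injective
  haveI : Fintype (LinearMap.ker ev) := Fintype.ofFinite _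
  rw [Nat.card_eq_fintype_card, Module.card_eq_pow_finrank (K := K)]
  congr 1
  have h1 := LinearMap.finrank_range_add_finrank_ker ev
  have h2 : LinearMap.range ev = ⊤ := by
    rw [LinearMap.range_eq_top]
    intro c
    refine ⟨c • φ₀, ?_⟩
    rw [hev, LinearMap.applyₗ_apply_apply, LinearMap.smul_apply, hφ₀, smul_eq_mul, mul_one]
  rw [h2, finrank_top, Module.finrank_self, Subspace.dual_finrank_eq] at h1
  omega

theorem card_hypSet (v : V) (hv : v ≠ 0) :
    Nat.card (hypSet (K := K) v) = Fintype.card K ^ (Module.finrank K V - 1) := by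
  rw [← Nat.card_congr (funHypEquiv v), card_funSet v hv]

theorem finrank_of_mem_hypSet {v : V} (hv : v ≠ 0) {H : Submodule K V} (hH : H ∈ hypSet v) :
    Module.finrank K H + 1 = Module.finrank K V := by
  haveI : FiniteDimensional K V := Module.Finite.of_finite
  have h1 := Submodule.finrank_sup_add_finrank_inf_eq H (K ∙ v)
  have h2 : H ⊓ (K ∙ v) = ⊥ := by
    rw [eq_bot_iff]
    intro x hx
    rw [Submodule.mem_inf, Submodule.mem_span_singleton] at hx
    obtain ⟨hxH, c, rfl⟩ := hx
    by_cases hc : c = 0
    · rw [hc, zero_smul]; exact Submodule.zero_mem _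
    · exfalso
      apply not_mem_of_mem_hypSet hH
      have := H.smul_mem c⁻¹ hxH
      rwa [smul_smul, inv_mul_cancel₀ hc, one_smul] at this
  rw [hH.1, h2, finrank_top, finrank_bot, add_zero, finrank_span_singleton hv] at h1
  exact h1.symm

end hyp

end Cfsg.Agent.Lib.H12.Stv
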