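import Mathlib
import Cfsg.Agent.Lib.H12.StvB

/-!
# `μ(0, V) = (-1)^m q^(m(m-1)/2)` for the lattice of subspaces (helper12)
-/

set_option autoImplicit false
open IncidenceAlgebra Finset

namespace Cfsg.Agent.Lib.H12.Stv

universe u v

section sub

variable {R : Type u} [Ring R] {M : Type v} [AddCommGroup M] [Module R M]

/-- the Möbius function of the lattice of submodules of a submodule `H`, computed inside `M` -/
theorem mu_map_subtype (H : Submodule R M) [LocallyFiniteOrder (Submodule R M)]
    [DecidableEq (Submodule R M)] [LocallyFiniteOrder (Submodule R H)]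
    [DecidableEq (Submodule R H)] (a b : Submodule R H) :
    mu ℤ (a.map H.subtype) (b.map H.subtype) = mu ℤ a b := by
  have hinj : Function.Injective (Submodule.map H.subtype) :=
    Submodule.map_injective_of_injective H.injective_subtype
  apply mu_map' (Submodule.map H.subtype) hinj
  intro a b
  ext x
  simp only [Finset.mem_Ico, Finset.mem_image]
  constructor
  · rintro ⟨h1, h2⟩
    have hx : (x.comap H.subtype).map H.subtype = x := by
      rw [Submodule.map_comap_subtype, inf_eq_right]
      exact h2.le.trans (Submodule.map_subtype_le H b)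
    refine ⟨x.comap H.subtype, ⟨?_, ?_⟩, hx⟩
    · rw [← Submodule.map_le_map_iff_of_injective H.injective_subtype, hx]; exact h1
    · rw [lt_iff_le_and_ne]
      constructor
      · rw [← Submodule.map_le_map_iff_of_injective H.injective_subtype, hx]; exact h2.le
      · intro h
        rw [← h, hx] at h2
        exact lt_irrefl _ h2
  · rintro ⟨y, ⟨h1, h2⟩, rfl⟩
    refine ⟨Submodule.map_mono h1, ?_⟩
    rw [lt_iff_le_and_ne]
    exact ⟨Submodule.map_mono h2.le, fun h => h2.ne (hinj h)⟩

end sub

theorem mu_subspace (K : Type u) [Field K] [Fintype K] :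
    ∀ (m : ℕ) (V : Type v) [AddCommGroup V] [Module K V] [Finite V]
      [LocallyFiniteOrder (Submodule K V)] [DecidableEq (Submodule K V)],
      Module.finrank K V = m →
      mu ℤ (⊥ : Submodule K V) ⊤ = (-1) ^ m * (Fintype.card K : ℤ) ^ (m * (m - 1) / 2) := by
  intro m
  induction m with
  | zero =>
    intro V _ _ _ _ _ hV
    haveI : FiniteDimensional K V := Module.Finite.of_finite
    have h1 : (⊥ : Submodule K V) = ⊤ := by
      haveI : Subsingleton V := Module.finrank_zero_iff.mp hV
      exact Subsingleton.elim _ _
    rw [h1, mu_self]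
    simp
  | succ m ih =>
    intro V _ _ _ _ _ hV
    classical
    haveI : FiniteDimensional K V := Module.Finite.of_finite
    haveI : Fintype (Submodule K V) := Fintype.ofFinite _
    obtain ⟨v, hv⟩ : ∃ v : V, v ≠ 0 := by
      rw [← Module.finrank_pos_iff_exists_ne_zero (R := K), hV]
      exact Nat.succ_pos m
    have hl : (K ∙ v) ≠ ⊥ := by
      rw [Ne, Submodule.span_singleton_eq_bot]
      exact hv
    have hW := weisner (α := Submodule K V) (K ∙ v) hl
    -- the filter is `{⊤} ∪ hypSet`
    have hfilter : (Finset.univ.filter fun x : Submodule K V => x ⊔ (K ∙ v) = ⊤) =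
        insert ⊤ (Finset.univ.filter fun x : Submodule K V => x ∈ hypSet v) := by
      ext x
      simp only [Finset.mem_filter, Finset.mem_univ, true_and, Finset.mem_insert, mem_hypSet]
      constructor
      · intro h
        by_cases hx : x = ⊤
        · exact Or.inl hx
        · exact Or.inr ⟨h, hx⟩
      · rintro (h | h)
        · rw [h]; exact top_sup_eq _
        · exact h.1
    have hnot : (⊤ : Submodule K V) ∉ (Finset.univ.filter fun x : Submodule K V => x ∈ hypSet v) := by
      simp only [Finset.mem_filter, Finset.mem_univ, true_and, mem_hypSet]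
      intro h
      exact h.2 rfl
    rw [hfilter, Finset.sum_insert hnot] at hW
    have hH : ∀ H ∈ (Finset.univ.filter fun x : Submodule K V => x ∈ hypSet v),
        mu ℤ (⊥ : Submodule K V) H = (-1) ^ m * (Fintype.card K : ℤ) ^ (m * (m - 1) / 2) := by
      intro H hH
      have hH' : H ∈ hypSet v := (Finset.mem_filter.mp hH).2
      have hdim : Module.finrank K H = m := by
        have := finrank_of_mem_hypSet hv hH'
        omega
      haveI : Fintype (Submodule K H) := Fintype.ofFinite _
      letI : LocallyFiniteOrder (Submodule K H) := Fintype.toLocallyFiniteOrder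
      have h1 := mu_map_subtype H (⊥ : Submodule K H) ⊤
      rw [Submodule.map_bot, Submodule.map_subtype_top] at h1
      rw [h1]
      exact ih H hdim
    rw [Finset.sum_congr rfl hH, Finset.sum_const] at hW
    have hcard : (Finset.univ.filter fun x : Submodule K V => x ∈ hypSet v).card =
        Fintype.card K ^ m := by
      have := card_hypSet (K := K) v hv
      rw [hV, Nat.add_sub_cancel] at this
      rw [← this, Nat.card_eq_fintype_card, Fintype.card_subtype]
    rw [hcard] at hW
    have hexp : (m + 1) * (m + 1 - 1) / 2 = m + m * (m - 1) / 2 := by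
      rw [Nat.add_sub_cancel]
      have h2 : (m + 1) * m = 2 * m + m * (m - 1) := by
        rcases m with _ | k
        · rfl
        · rw [Nat.add_sub_cancel]; ring
      rw [h2, Nat.mul_add_div (by norm_num : 0 < 2)]
    rw [hexp, pow_add, pow_succ]
    have hW' : mu ℤ (⊥ : Submodule K V) ⊤ =
        -((Fintype.card K ^ m : ℕ) • ((-1) ^ m * (Fintype.card K : ℤ) ^ (m * (m - 1) / 2))) := by
      rw [eq_neg_iff_add_eq_zero]
      exact hW
    rw [hW', nsmul_eq_mul]
    push_cast
    ring

end Cfsg.Agent.Lib.H12.Stv
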