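import Mathlib
import Cfsg.Agent.Lib.H12.StvC

/-!
# Submodule lattices of products with coprime annihilators; change of scalars (helper12)
-/

set_option autoImplicit false
open IncidenceAlgebra Finset

namespace Cfsg.Agent.Lib.H12.Stv

universe u v w

section prod

variable {R : Type u} [CommRing R] {M₁ : Type v} {M₂ : Type w} [AddCommGroup M₁] [Module R M₁]
  [AddCommGroup M₂] [Module R M₂]

/-- submodules of a product of modules with "coprime annihilators" are products -/
def prodSubIso (c₁ c₂ : R) (h11 : ∀ x : M₁, c₁ • x = x) (h12 : ∀ y : M₂, c₁ • y = 0)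
    (h21 : ∀ x : M₁, c₂ • x = 0) (h22 : ∀ y : M₂, c₂ • y = y) :
    Submodule R (M₁ × M₂) ≃o Submodule R M₁ × Submodule R M₂ where
  toFun W := (W.comap (LinearMap.inl R M₁ M₂), W.comap (LinearMap.inr R M₁ M₂))
  invFun p := p.1.prod p.2
  left_inv W := by
    ext ⟨x, y⟩
    simp only [Submodule.mem_prod, Submodule.mem_comap, LinearMap.inl_apply, LinearMap.inr_apply]
    constructor
    · rintro ⟨hx, hy⟩
      have := W.add_mem hx hy
      simpa using this
    · intro h
      constructor
      · have := W.smul_mem c₁ h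
        rwa [Prod.smul_mk, h11, h12] at this
      · have := W.smul_mem c₂ h
        rwa [Prod.smul_mk, h21, h22] at this
  right_inv p := by
    apply Prod.ext
    · ext x
      simp [Submodule.mem_prod]
    · ext y
      simp [Submodule.mem_prod]
  map_rel_iff' := by
    intro W W'
    constructor
    · intro h
      rintro ⟨x, y⟩ hxy
      have h1 : (x, (0 : M₂)) ∈ W := by
        have := W.smul_mem c₁ hxy
        rwa [Prod.smul_mk, h11, h12] at this
      have h2 : ((0 : M₁), y) ∈ W := by
        have := W.smul_mem c₂ hxy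
        rwa [Prod.smul_mk, h21, h22] at this
      have h3 : (x, (0 : M₂)) ∈ W' := h.1 h1
      have h4 : ((0 : M₁), y) ∈ W' := h.2 h2
      have := W'.add_mem h3 h4
      simpa using this
    · intro h
      exact ⟨Submodule.comap_mono h, Submodule.comap_mono h⟩

theorem prodSubIso_bot (c₁ c₂ : R) (h11 : ∀ x : M₁, c₁ • x = x) (h12 : ∀ y : M₂, c₁ • y = 0)
    (h21 : ∀ x : M₁, c₂ • x = 0) (h22 : ∀ y : M₂, c₂ • y = y) :
    prodSubIso c₁ c₂ h11 h12 h21 h22 ⊥ = (⊥, ⊥) := (prodSubIso c₁ c₂ h11 h12 h21 h22).map_bot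

theorem prodSubIso_top (c₁ c₂ : R) (h11 : ∀ x : M₁, c₁ • x = x) (h12 : ∀ y : M₂, c₁ • y = 0)
    (h21 : ∀ x : M₁, c₂ • x = 0) (h22 : ∀ y : M₂, c₂ • y = y) :
    prodSubIso c₁ c₂ h11 h12 h21 h22 ⊤ = (⊤, ⊤) := (prodSubIso c₁ c₂ h11 h12 h21 h22).map_top

theorem mu_prod_decomp (c₁ c₂ : R) (h11 : ∀ x : M₁, c₁ • x = x) (h12 : ∀ y : M₂, c₁ • y = 0)
    (h21 : ∀ x : M₁, c₂ • x = 0) (h22 : ∀ y : M₂, c₂ • y = y)
    [LocallyFiniteOrder (Submodule R (M₁ × M₂))] [DecidableEq (Submodule R (M₁ × M₂))]
    [LocallyFiniteOrder (Submodule R M₁)] [DecidableEq (Submodule R M₁)]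
    [LocallyFiniteOrder (Submodule R M₂)] [DecidableEq (Submodule R M₂)] :
    mu ℤ (⊥ : Submodule R (M₁ × M₂)) ⊤ =
      mu ℤ (⊥ : Submodule R M₁) ⊤ * mu ℤ (⊥ : Submodule R M₂) ⊤ := by
  classical
  have h := mu_orderIso (prodSubIso c₁ c₂ h11 h12 h21 h22) ⊥ ⊤
  rw [prodSubIso_bot, prodSubIso_top] at h
  rw [← h, ← mu_prod_mu]
  rfl

end prod

section scalars

variable {R : Type u} {S : Type v} [CommRing R] [CommRing S] [Algebra R S]
  {N : Type w} [AddCommGroup N] [Module R N] [Module S N] [IsScalarTower R S N]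

/-- if `R → S` is surjective, `R`-submodules and `S`-submodules of an `S`-module coincide -/
def scalarIso (hs : Function.Surjective (algebraMap R S)) : Submodule S N ≃o Submodule R N where
  toFun W := W.restrictScalars R
  invFun W :=
    { toAddSubmonoid := W.toAddSubmonoid
      smul_mem' := by
        intro s x hx
        obtain ⟨r, rfl⟩ := hs s
        rw [algebraMap_smul]
        exact W.smul_mem r hx }
  left_inv W := by ext x; rfl
  right_inv W := by ext x; rfl
  map_rel_iff' := by
    intro W W'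
    exact Submodule.restrictScalars_le R

theorem mu_scalar (hs : Function.Surjective (algebraMap R S))
    [LocallyFiniteOrder (Submodule R N)] [DecidableEq (Submodule R N)]
    [LocallyFiniteOrder (Submodule S N)] [DecidableEq (Submodule S N)] :
    mu ℤ (⊥ : Submodule R N) ⊤ = mu ℤ (⊥ : Submodule S N) ⊤ := by
  have h := mu_orderIso (scalarIso (R := R) (S := S) (N := N) hs) ⊥ ⊤
  rw [OrderIso.map_bot, OrderIso.map_top] at h
  exact h

end scalars

section equiv

variable {R : Type u} [Ring R] {M : Type v} {M' : Type w} [AddCommGroup M] [Module R M]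
  [AddCommGroup M'] [Module R M']

theorem mu_linearEquiv (e : M ≃ₗ[R] M')
    [LocallyFiniteOrder (Submodule R M)] [DecidableEq (Submodule R M)]
    [LocallyFiniteOrder (Submodule R M')] [DecidableEq (Submodule R M')] :
    mu ℤ (⊥ : Submodule R M) ⊤ = mu ℤ (⊥ : Submodule R M') ⊤ := by
  have h := mu_orderIso (Submodule.orderIsoMapComap e) ⊥ ⊤
  rw [OrderIso.map_bot, OrderIso.map_top] at h
  exact h.symm

end equiv

end Cfsg.Agent.Lib.H12.Stv
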