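import Mathlib
import Cfsg.Agent.Lib.H12.StvD

/-!
# Möbius number of the submodule lattice of a semisimple `F[X]`-module (helper12)
-/

set_option autoImplicit false
open IncidenceAlgebra Finset Polynomial

namespace Cfsg.Agent.Lib.H12.Stv

universe u v w

section split

variable {R : Type u} [Semiring R] {ι : Type v} (M : ι → Type w) [∀ i, AddCommMonoid (M i)]
  [∀ i, Module R (M i)]

/-- splitting a product of modules along a predicate -/
def piSplit (p : ι → Prop) [DecidablePred p] :
    (∀ i, M i) ≃ₗ[R] (∀ i : {i // p i}, M i.1) × (∀ i : {i // ¬ p i}, M i.1) where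
  toFun g := (fun i => g i.1, fun i => g i.1)
  map_add' _ _ := rfl
  map_smul' _ _ := rfl
  invFun g i := if h : p i then g.1 ⟨i, h⟩ else g.2 ⟨i, h⟩
  left_inv g := by
    funext i
    by_cases h : p i <;> simp [h]
  right_inv g := by
    apply Prod.ext
    · funext i
      simp [i.2]
    · funext i
      simp [i.2]

end split

section const

variable {R : Type u} [Semiring R] {C : Type v} (N : C → Type w) [∀ c, AddCommMonoid (N c)]
  [∀ c, Module R (N c)]

theorem nonempty_piConst {ι : Type*} (c : ι → C) (c₀ : C) (h : ∀ i, c i = c₀) :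
    Nonempty ((∀ i, N (c i)) ≃ₗ[R] (ι → N c₀)) := by
  have hc : c = fun _ => c₀ := funext h
  subst hc
  exact ⟨LinearEquiv.refl R _⟩

end const

variable {F : Type u} [Field F]

/-- the quotient `F[X]/(φ)` -/
abbrev Kq (φ : F[X]) : Type u := F[X] ⧸ Ideal.span {φ}

theorem smul_Kq (φ p : F[X]) (x : Kq φ) : p • x = Ideal.Quotient.mk _ p * x := by
  obtain ⟨y, rfl⟩ := Ideal.Quotient.mk_surjective x
  rfl

theorem smul_Kq_eq_zero {φ p : F[X]} (h : φ ∣ p) (x : Kq φ) : p • x = 0 := by
  rw [smul_Kq, Ideal.Quotient.eq_zero_iff_mem.mpr (Ideal.mem_span_singleton.mpr h), zero_mul]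

theorem smul_Kq_eq_self {φ p : F[X]} (h : φ ∣ 1 - p) (x : Kq φ) : p • x = x := by
  rw [smul_Kq]
  have h1 : Ideal.Quotient.mk (Ideal.span {φ}) (1 - p) = 0 :=
    Ideal.Quotient.eq_zero_iff_mem.mpr (Ideal.mem_span_singleton.mpr h)
  rw [map_sub, map_one, sub_eq_zero] at h1
  rw [← h1, one_mul]

theorem isCoprime_of_ne {φ ψ : F[X]} (hφ : Irreducible φ) (hφm : φ.Monic) (hψ : Irreducible ψ)
    (hψm : ψ.Monic) (hne : ψ ≠ φ) : IsCoprime φ ψ := by
  rw [Irreducible.coprime_iff_not_dvd hφ]
  intro hd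
  have := hφ.associated_of_dvd hψ hd
  exact hne (eq_of_monic_of_associated hφm hψm this).symm

theorem finite_Kq [Finite F] {φ : F[X]} (hφ : φ.Monic) : Finite (Kq φ) := by
  haveI : Module.Finite F (Kq φ) := hφ.finite_adjoinRoot
  exact Module.finite_of_finite F

theorem card_Kq [Fintype F] {φ : F[X]} (hφ : φ.Monic) :
    Nat.card (Kq φ) = Fintype.card F ^ φ.natDegree := by
  haveI : Module.Finite F (Kq φ) := hφ.finite_adjoinRoot
  haveI : Finite (Kq φ) := Module.finite_of_finite F
  haveI : Fintype (Kq φ) := Fintype.ofFinite _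
  rw [Nat.card_eq_fintype_card, Module.card_eq_pow_finrank (K := F), finrank_quotient_span_eq_natDegree]

end Cfsg.Agent.Lib.H12.Stv
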