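import Mathlib
import Cfsg.Agent.Lib.H12.StvE

/-!
# Möbius number of the submodule lattice of `∏ F[X]/(φ_i)` (helper12)
-/

set_option autoImplicit false
open IncidenceAlgebra Finset Polynomial Classical

namespace Cfsg.Agent.Lib.H12.Stv

universe u

variable {F : Type u} [Field F]

/-- multiplicity of `φ` in the family `c` -/
noncomputable def mult {ι : Type*} [Fintype ι] (c : ι → F[X]) (φ : F[X]) : ℕ :=
  (Finset.univ.filter (fun i => c i = φ)).card

/-- the local factor -/
noncomputable def term (q : ℕ) (φ : F[X]) (m : ℕ) : ℤ :=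
  (-1) ^ m * ((q : ℤ) ^ φ.natDegree) ^ (m * (m - 1) / 2)

variable [Fintype F]

theorem finite_pi_Kq {ι : Type*} [Finite ι] (c : ι → F[X]) (hc : ∀ i, (c i).Monic) :
    Finite (∀ i, Kq (c i)) := by
  haveI : ∀ i, Finite (Kq (c i)) := fun i => finite_Kq (hc i)
  infer_instance

theorem mu_isotypic (φ : F[X]) (hφ : Irreducible φ) (hm : φ.Monic) (ι : Type u) [Fintype ι]
    [LocallyFiniteOrder (Submodule F[X] (ι → Kq φ))] [DecidableEq (Submodule F[X] (ι → Kq φ))] :
    mu ℤ (⊥ : Submodule F[X] (ι → Kq φ)) ⊤ = term (Fintype.card F) φ (Fintype.card ι) := by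
  haveI : (Ideal.span {φ}).IsMaximal := PrincipalIdealRing.isMaximal_of_irreducible hφ
  letI : Field (Kq φ) := Ideal.Quotient.field _
  haveI : Finite (Kq φ) := finite_Kq hm
  letI : Fintype (Kq φ) := Fintype.ofFinite _
  haveI : Finite (ι → Kq φ) := inferInstance
  letI : Fintype (Submodule (Kq φ) (ι → Kq φ)) := Fintype.ofFinite _
  letI : LocallyFiniteOrder (Submodule (Kq φ) (ι → Kq φ)) := Fintype.toLocallyFiniteOrder
  rw [mu_scalar (R := F[X]) (S := Kq φ) (N := ι → Kq φ) Ideal.Quotient.mk_surjective,
    mu_subspace (Kq φ) (Fintype.card ι) (ι → Kq φ) (Module.finrank_fintype_fun_eq_card _)]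
  unfold term
  congr 2
  have h1 := card_Kq (F := F) hm
  rw [Nat.card_eq_fintype_card] at h1
  rw [h1]
  push_cast
  rfl

theorem mu_pi : ∀ (N : ℕ) (ι : Type u) [Fintype ι] (c : ι → F[X])
    (_ : ∀ i, Irreducible (c i) ∧ (c i).Monic)
    [LocallyFiniteOrder (Submodule F[X] (∀ i, Kq (c i)))]
    [DecidableEq (Submodule F[X] (∀ i, Kq (c i)))],
    Fintype.card ι = N →
    mu ℤ (⊥ : Submodule F[X] (∀ i, Kq (c i))) ⊤ =
      ∏ φ ∈ Finset.univ.image c, term (Fintype.card F) φ (mult c φ) := by
  intro N
  induction N using Nat.strong_induction_on with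
  | _ N ih =>
    intro ι _ c hc _ _ hN
    by_cases hι : IsEmpty ι
    · have h1 : (⊥ : Submodule F[X] (∀ i, Kq (c i))) = ⊤ := by
        haveI : Subsingleton (∀ i, Kq (c i)) := inferInstance
        exact Subsingleton.elim _ _
      rw [h1, mu_self]
      have h2 : (Finset.univ.image c) = ∅ := by
        rw [Finset.image_eq_empty]
        exact Finset.univ_eq_empty
      rw [h2, Finset.prod_empty]
    · rw [not_isEmpty_iff] at hι
      obtain ⟨i₀⟩ := hι
      set φ := c i₀ with hφdef
      set p : ι → Prop := fun i => c i = φ with hp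
      have hfin1 : Finite (∀ i : {i // p i}, Kq (c i.1)) := finite_pi_Kq _ (fun i => (hc i.1).2)
      have hfin2 : Finite (∀ i : {i // ¬ p i}, Kq (c i.1)) := finite_pi_Kq _ (fun i => (hc i.1).2)
      letI : Fintype (Submodule F[X] (∀ i : {i // p i}, Kq (c i.1))) := Fintype.ofFinite _
      letI : LocallyFiniteOrder (Submodule F[X] (∀ i : {i // p i}, Kq (c i.1))) :=
        Fintype.toLocallyFiniteOrder
      letI : Fintype (Submodule F[X] (∀ i : {i // ¬ p i}, Kq (c i.1))) := Fintype.ofFinite _
      letI : LocallyFiniteOrder (Submodule F[X] (∀ i : {i // ¬ p i}, Kq (c i.1))) :=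
        Fintype.toLocallyFiniteOrder
      letI : Fintype (Submodule F[X]
          ((∀ i : {i // p i}, Kq (c i.1)) × (∀ i : {i // ¬ p i}, Kq (c i.1)))) := Fintype.ofFinite _
      letI : LocallyFiniteOrder (Submodule F[X]
          ((∀ i : {i // p i}, Kq (c i.1)) × (∀ i : {i // ¬ p i}, Kq (c i.1)))) :=
        Fintype.toLocallyFiniteOrder
      -- the CRT elements
      have hcop : IsCoprime φ (∏ i : {i // ¬ p i}, c i.1) := by
        apply IsCoprime.prod_right
        intro i _
        exact isCoprime_of_ne (hc i₀).1 (hc i₀).2 (hc i.1).1 (hc i.1).2 i.2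
      obtain ⟨a, b, hab⟩ := hcop
      set P := ∏ i : {i // ¬ p i}, c i.1 with hP
      have h11 : ∀ x : (∀ i : {i // p i}, Kq (c i.1)), (b * P) • x = x := by
        intro x
        funext i
        rw [Pi.smul_apply]
        apply smul_Kq_eq_self
        rw [i.2]
        exact ⟨a, by rw [← hab]; ring⟩
      have h12 : ∀ y : (∀ i : {i // ¬ p i}, Kq (c i.1)), (b * P) • y = 0 := by
        intro y
        funext i
        rw [Pi.smul_apply, Pi.zero_apply]
        apply smul_Kq_eq_zero
        exact Dvd.dvd.mul_left (Finset.dvd_prod_of_mem (fun i : {i // ¬ p i} => c i.1)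
          (Finset.mem_univ i)) b
      have h21 : ∀ x : (∀ i : {i // p i}, Kq (c i.1)), (a * φ) • x = 0 := by
        intro x
        funext i
        rw [Pi.smul_apply, Pi.zero_apply]
        apply smul_Kq_eq_zero
        rw [i.2]
        exact Dvd.intro_left a rfl
      have h22 : ∀ y : (∀ i : {i // ¬ p i}, Kq (c i.1)), (a * φ) • y = y := by
        intro y
        funext i
        rw [Pi.smul_apply]
        apply smul_Kq_eq_self
        have h1 : 1 - a * φ = b * P := by rw [← hab]; ring
        rw [h1]
        exact Dvd.dvd.mul_left (Finset.dvd_prod_of_mem (fun i : {i // ¬ p i} => c i.1)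
          (Finset.mem_univ i)) b
      rw [mu_linearEquiv (piSplit (R := F[X]) (fun i => Kq (c i)) p),
        mu_prod_decomp (b * P) (a * φ) h11 h12 h21 h22]
      -- first factor
      obtain ⟨e1⟩ := nonempty_piConst (R := F[X]) (fun ψ : F[X] => Kq ψ)
        (fun i : {i // p i} => c i.1) φ (fun i => i.2)
      haveI : Finite ({i // p i} → Kq φ) := by
        haveI : Finite (Kq φ) := finite_Kq (hc i₀).2
        infer_instance
      letI : Fintype (Submodule F[X] ({i // p i} → Kq φ)) := Fintype.ofFinite _
      letI : LocallyFiniteOrder (Submodule F[X] ({i // p i} → Kq φ)) :=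
        Fintype.toLocallyFiniteOrder
      rw [mu_linearEquiv e1, mu_isotypic φ (hc i₀).1 (hc i₀).2]
      -- second factor
      have hlt : Fintype.card {i // ¬ p i} < N := by
        rw [← hN]
        apply Fintype.card_subtype_lt (x := i₀)
        intro h
        exact h rfl
      rw [ih _ hlt {i // ¬ p i} (fun i => c i.1) (fun i => hc i.1) rfl]
      -- combine
      have himg : Finset.univ.image c =
          insert φ (Finset.univ.image (fun i : {i // ¬ p i} => c i.1)) := by
        ext ψ
        simp only [Finset.mem_image, Finset.mem_univ, true_and, Finset.mem_insert]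
        constructor
        · rintro ⟨i, rfl⟩
          by_cases hi : p i
          · exact Or.inl hi
          · exact Or.inr ⟨⟨i, hi⟩, rfl⟩
        · rintro (h | ⟨i, rfl⟩)
          · exact ⟨i₀, h.symm⟩
          · exact ⟨i.1, rfl⟩
      have hnot : φ ∉ Finset.univ.image (fun i : {i // ¬ p i} => c i.1) := by
        simp only [Finset.mem_image, Finset.mem_univ, true_and, not_exists]
        intro i hi
        exact i.2 hi
      rw [himg, Finset.prod_insert hnot]
      congr 1
      · congr 1
        unfold mult
        rw [Fintype.card_subtype]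
      · apply Finset.prod_congr rfl
        intro ψ hψ
        congr 1
        unfold mult
        have hne : ψ ≠ φ := by
          intro h
          rw [h] at hψ
          exact hnot hψ
        rw [← Finset.card_map (Function.Embedding.subtype _)]
        congr 1
        ext i
        simp only [Finset.mem_map, Finset.mem_filter, Finset.mem_univ, true_and,
          Function.Embedding.coe_subtype]
        constructor
        · rintro ⟨j, hj, rfl⟩
          exact hj
        · intro hi
          exact ⟨⟨i, fun h => hne (hi.symm.trans h)⟩, hi, rfl⟩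

end Cfsg.Agent.Lib.H12.Stv
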