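import Mathlib
import Cfsg.Agent.Lib.H12.StvF
import Cfsg.Agent.Lib.H12.SemiA

/-!
# Characteristic polynomial of multiplication by `X` on `∏ F[X]/(φ_i)` (helper12)
-/

set_option autoImplicit false
open Polynomial Classical

namespace Cfsg.Agent.Lib.H12.Stv

universe u v w

variable {F : Type u} [Field F]

section mulX

variable (M : Type v) [AddCommGroup M] [Module F M] [Module F[X] M] [IsScalarTower F F[X] M]

/-- multiplication by `X` as an `F`-linear endomorphism -/
noncomputable def mulX : Module.End F M where
  toFun m := (X : F[X]) • m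
  map_add' := smul_add _
  map_smul' a m := by
    simp only [RingHom.id_apply]
    exact smul_comm _ _ _

theorem mulX_apply (m : M) : mulX (F := F) M m = (X : F[X]) • m := rfl

variable {M}
variable {M' : Type w} [AddCommGroup M'] [Module F M'] [Module F[X] M'] [IsScalarTower F F[X] M']

theorem charpoly_mulX_congr [Module.Finite F M] [Module.Finite F M'] (e : M ≃ₗ[F[X]] M') :
    (mulX (F := F) M').charpoly = (mulX (F := F) M).charpoly := by
  have h : (e.restrictScalars F).conj (mulX (F := F) M) = mulX (F := F) M' := by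
    apply LinearMap.ext
    intro m
    rw [LinearEquiv.conj_apply_apply, mulX_apply, mulX_apply]
    show e ((X : F[X]) • e.symm m) = _
    rw [map_smul, LinearEquiv.apply_symm_apply]
  rw [← h, LinearEquiv.charpoly_conj]

theorem charpoly_mulX_prod (M₁ : Type v) (M₂ : Type w) [AddCommGroup M₁] [Module F M₁]
    [Module F[X] M₁] [IsScalarTower F F[X] M₁] [AddCommGroup M₂] [Module F M₂] [Module F[X] M₂]
    [IsScalarTower F F[X] M₂] [Module.Finite F M₁] [Module.Finite F M₂] :
    (mulX (F := F) (M₁ × M₂)).charpoly =
      (mulX (F := F) M₁).charpoly * (mulX (F := F) M₂).charpoly := by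
  rw [← LinearMap.charpoly_prodMap]
  rfl

end mulX

theorem charpoly_mulX_aeval {V : Type v} [AddCommGroup V] [Module F V] [Module.Finite F V]
    (f : Module.End F V) : (mulX (F := F) (Module.AEval' f)).charpoly = f.charpoly := by
  have h : (Module.AEval'.of f).conj f = mulX (F := F) (Module.AEval' f) := by
    apply LinearMap.ext
    intro m
    rw [LinearEquiv.conj_apply_apply, mulX_apply]
    obtain ⟨v, rfl⟩ := (Module.AEval'.of f).surjective m
    rw [LinearEquiv.symm_apply_apply, Module.AEval'.X_smul_of]
  rw [← h, LinearEquiv.charpoly_conj]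

theorem charpoly_mulX_Kq {φ : F[X]} (hφ : φ.Monic) :
    haveI : Module.Finite F (Kq φ) := hφ.finite_adjoinRoot
    (mulX (F := F) (Kq φ)).charpoly = φ := by
  haveI : Module.Finite F (AdjoinRoot φ) := hφ.finite_adjoinRoot
  have h := Cfsg.Agent.Lib.H12.Semi.charpoly_mulLeft_root hφ
  refine Eq.trans ?_ h
  congr 1

end Cfsg.Agent.Lib.H12.Stv

namespace Cfsg.Agent.Lib.H12.Stv

universe u

variable {F : Type u} [Field F]

theorem charpoly_mulX_pi : ∀ (N : ℕ) (ι : Type u) [Fintype ι] (c : ι → F[X])
    (hc : ∀ i, (c i).Monic), Fintype.card ι = N →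
    haveI : ∀ i, Module.Finite F (Kq (c i)) := fun i => (hc i).finite_adjoinRoot
    (mulX (F := F) (∀ i, Kq (c i))).charpoly = ∏ i, c i := by
  intro N
  induction N using Nat.strong_induction_on with
  | _ N ih =>
    intro ι _ c hc hN
    haveI : ∀ i, Module.Finite F (Kq (c i)) := fun i => (hc i).finite_adjoinRoot
    by_cases hι : IsEmpty ι
    · rw [Finset.univ_eq_empty, Finset.prod_empty]
      have h1 := LinearMap.charpoly_natDegree (mulX (F := F) (∀ i, Kq (c i)))
      have h2 : Module.finrank F (∀ i, Kq (c i)) = 0 := by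
        haveI : Subsingleton (∀ i, Kq (c i)) := inferInstance
        exact Module.finrank_zero_of_subsingleton
      rw [h2] at h1
      exact (Polynomial.Monic.natDegree_eq_zero (LinearMap.charpoly_monic _)).mp h1
    · rw [not_isEmpty_iff] at hι
      obtain ⟨i₀⟩ := hι
      set p : ι → Prop := fun i => i = i₀ with hp
      haveI : Unique {i // p i} := ⟨⟨⟨i₀, rfl⟩⟩, fun x => Subtype.ext x.2⟩
      haveI : Module.Finite F (Kq (c i₀)) := (hc i₀).finite_adjoinRoot
      rw [charpoly_mulX_congr (piSplit (R := F[X]) (fun i => Kq (c i)) p).symm,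
        charpoly_mulX_prod]
      obtain ⟨e1⟩ := nonempty_piConst (R := F[X]) (fun ψ : F[X] => Kq ψ)
        (fun i : {i // p i} => c i.1) (c i₀) (fun i => by rw [i.2])
      rw [charpoly_mulX_congr (e1 ≪≫ₗ LinearEquiv.funUnique {i // p i} F[X] (Kq (c i₀))).symm,
        charpoly_mulX_Kq (hc i₀)]
      have hlt : Fintype.card {i // ¬ p i} < N := by
        rw [← hN]
        apply Fintype.card_subtype_lt (x := i₀)
        intro h
        exact h rfl
      rw [ih _ hlt {i // ¬ p i} (fun i => c i.1) (fun i => hc i.1) rfl]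
      rw [← Fintype.prod_subtype_mul_prod_subtype p c]
      congr 1
      have := Fintype.prod_eq_single (f := fun i : {i // p i} => c i.1) (⟨i₀, rfl⟩ : {i // p i})
        (fun x hx => absurd (Subtype.ext x.2) hx)
      convert this.symm

end Cfsg.Agent.Lib.H12.Stv
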