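import Mathlib
import Cfsg.Agent.Lib.H12.StvG
import Cfsg.Agent.Lib.H12.ClsE

/-!
# Möbius number of the lattice of invariant subspaces of a semisimple endomorphism (helper12)
-/

set_option autoImplicit false
open IncidenceAlgebra Polynomial Classical

namespace Cfsg.Agent.Lib.H12.Stv

open Cfsg.Agent.Lib.H12.Cls

universe u v

variable {F : Type u} [Field F] {V : Type v} [AddCommGroup V] [Module F V]

theorem exp_eq_one_of_semisimple [FiniteDimensional F V] {f : Module.End F V}
    (hf : f.IsSemisimple) (D : TypeData f) (i : D.ι) : (D.c i).2 = 1 := by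
  have hsq : Squarefree (minpoly F f) := hf.minpoly_squarefree
  set P := minpoly F f with hP
  -- `P` kills the module
  have hkill : ∀ m : Module.AEval' f, P • m = 0 := by
    intro m
    obtain ⟨v, rfl⟩ := (Module.AEval'.of f).surjective m
    rw [← Module.AEval.of_aeval_smul, hP, minpoly.aeval]
    simp
  set y : ∀ i', Cyc F (D.c i') := Pi.single i (Submodule.Quotient.mk (1 : F[X])) with hy
  have h1 : P • y = 0 := by
    have := hkill (D.iso.symm y)
    have h2 := congrArg D.iso this
    rwa [map_smul, LinearEquiv.apply_symm_apply, map_zero] at h2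
  have h2 := congrFun h1 i
  rw [Pi.smul_apply, hy, Pi.single_eq_same, Pi.zero_apply, ← Submodule.Quotient.mk_smul,
    Submodule.Quotient.mk_eq_zero, smul_eq_mul, mul_one, Submodule.mem_span_singleton] at h2
  obtain ⟨a, ha⟩ := h2
  have hdvd : (D.c i).1 ^ (D.c i).2 ∣ P := ⟨a, by rw [← ha, smul_eq_mul, mul_comm]⟩
  have hpos := D.pos i
  by_contra hne
  have h2le : 2 ≤ (D.c i).2 := by omega
  have h3 : (D.c i).1 * (D.c i).1 ∣ P := by
    refine dvd_trans ?_ hdvd
    rw [← sq]
    exact pow_dvd_pow _ h2le
  exact (D.irr i).not_isUnit (hsq _ h3)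

/-- a semisimple endomorphism makes `V` a product of fields -/
noncomputable def semisimpleIso [FiniteDimensional F V] {f : Module.End F V}
    (hf : f.IsSemisimple) (D : TypeData f) :
    Module.AEval' f ≃ₗ[F[X]] ∀ i, Kq (D.c i).1 :=
  D.iso ≪≫ₗ LinearEquiv.piCongrRight fun i => Submodule.quotEquivOfEq _ _ (by
    rw [exp_eq_one_of_semisimple hf D i, pow_one])

variable [Fintype F]

theorem charpoly_eq_prod [FiniteDimensional F V] {f : Module.End F V}
    (hf : f.IsSemisimple) (D : TypeData f) : f.charpoly = ∏ i, (D.c i).1 := by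
  haveI : ∀ i, Module.Finite F (Kq (D.c i).1) := fun i => (D.monic i).finite_adjoinRoot
  rw [← charpoly_mulX_aeval f, ← charpoly_mulX_congr (semisimpleIso hf D),
    charpoly_mulX_pi _ D.ι (fun i => (D.c i).1) D.monic rfl]

theorem normalizedFactors_charpoly [FiniteDimensional F V] {f : Module.End F V}
    (hf : f.IsSemisimple) (D : TypeData f) :
    UniqueFactorizationMonoid.normalizedFactors f.charpoly =
      Finset.univ.val.map (fun i => (D.c i).1) := by
  rw [charpoly_eq_prod hf D, Finset.prod_eq_multiset_prod,
    UniqueFactorizationMonoid.normalizedFactors_prod_eq]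
  · rw [Multiset.map_map]
    apply Multiset.map_congr rfl
    intro i _
    exact (D.monic i).normalize_eq_self
  · intro a ha
    rw [Multiset.mem_map] at ha
    obtain ⟨i, -, rfl⟩ := ha
    exact D.irr i

theorem semisimple_mu [Finite V] {f : Module.End F V} (hf : f.IsSemisimple)
    [LocallyFiniteOrder (Submodule F[X] (Module.AEval' f))]
    [DecidableEq (Submodule F[X] (Module.AEval' f))] :
    mu ℤ (⊥ : Submodule F[X] (Module.AEval' f)) ⊤ =
      ∏ φ ∈ (UniqueFactorizationMonoid.normalizedFactors f.charpoly).toFinset,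
        term (Fintype.card F) φ ((UniqueFactorizationMonoid.normalizedFactors f.charpoly).count φ) := by
  haveI : FiniteDimensional F V := Module.Finite.of_finite
  set D := (exists_typeData f).some with hD
  haveI : Finite (∀ i, Kq (D.c i).1) := finite_pi_Kq _ D.monic
  letI : Fintype (Submodule F[X] (∀ i, Kq (D.c i).1)) := Fintype.ofFinite _
  letI : LocallyFiniteOrder (Submodule F[X] (∀ i, Kq (D.c i).1)) := Fintype.toLocallyFiniteOrder
  rw [mu_linearEquiv (semisimpleIso hf D),
    mu_pi _ D.ι (fun i => (D.c i).1) (fun i => ⟨D.irr i, D.monic i⟩) rfl,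
    normalizedFactors_charpoly hf D]
  have h1 : (Finset.univ.val.map (fun i => (D.c i).1)).toFinset =
      Finset.univ.image (fun i => (D.c i).1) := by
    ext φ
    simp
  rw [h1]
  apply Finset.prod_congr rfl
  intro φ _
  congr 1
  unfold mult
  rw [Multiset.count_map, ← Finset.filter_val, Finset.card_def]
  congr 2
  ext i
  simp [eq_comm]

end Cfsg.Agent.Lib.H12.Stv
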