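import Mathlib
import Cfsg.Agent.Lib.H12.ParabC

/-!
# Permutations with `κ(i) ≤ i + 1`: block structure (helper12)
-/

set_option autoImplicit false

namespace Cfsg.Agent.Lib.H12.Stv

open Cfsg.Agent.Lib.H12.Parab

/-- permutations with `κ(i) ≤ i + 1` -/
def Good {m : ℕ} (κ : Equiv.Perm (Fin m)) : Prop := ∀ i : Fin m, (κ i : ℕ) ≤ 1 + (i : ℕ)

instance {m : ℕ} (κ : Equiv.Perm (Fin m)) : Decidable (Good κ) := by
  unfold Good; infer_instance

/-- the composition `i ↦ 1 + i - κ(i)` -/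
def muOf {m : ℕ} (κ : Equiv.Perm (Fin m)) : Fin m → ℕ := fun i => 1 + (i : ℕ) - (κ i : ℕ)

theorem coe_finRotate' : ∀ (n : ℕ) (j : Fin n),
    ((finRotate n j : Fin n) : ℕ) = if (j : ℕ) + 1 < n then (j : ℕ) + 1 else 0
  | 0, j => j.elim0
  | n + 1, j => by
    rw [coe_finRotate]
    by_cases h : j = Fin.last n
    · rw [if_pos h, if_neg]
      rw [h]
      simp
    · rw [if_neg h, if_pos]
      have : (j : ℕ) ≠ n := fun h' => h (Fin.ext h')
      have := j.2
      omega

theorem sign_finRotate' : ∀ (n : ℕ), 1 ≤ n → Equiv.Perm.sign (finRotate n) = (-1) ^ (n - 1)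
  | 0, h => absurd h (by norm_num)
  | n + 1, _ => by rw [sign_finRotate, Nat.add_sub_cancel]

/-- the positions below `a` -/
def lowEquiv (a m : ℕ) (h : a ≤ m) : Fin a ≃ {i : Fin m // (i : ℕ) < a} where
  toFun j := ⟨⟨j, lt_of_lt_of_le j.2 h⟩, j.2⟩
  invFun i := ⟨i.1, i.2⟩
  left_inv _ := rfl
  right_inv _ := rfl

/-- the positions from `a` on -/
def highEquiv (a m : ℕ) (h : a ≤ m) : Fin (m - a) ≃ {i : Fin m // ¬ (i : ℕ) < a} where
  toFun j := ⟨⟨a + j, by have := j.2; omega⟩, by simp⟩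
  invFun i := ⟨(i.1 : ℕ) - a, by have := i.2; have := i.1.2; omega⟩
  left_inv j := by
    apply Fin.ext
    simp
  right_inv i := by
    apply Subtype.ext
    apply Fin.ext
    have := i.2
    simp only
    omega

/-- extend a permutation of `Fin a` by a cycle on the positions `a, …, m-1` -/
def blockExt (a m : ℕ) (h : a ≤ m) (κ' : Equiv.Perm (Fin a)) : Equiv.Perm (Fin m) :=
  Equiv.Perm.subtypeCongr ((lowEquiv a m h).permCongr κ')
    ((highEquiv a m h).permCongr (finRotate (m - a)))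

theorem blockExt_low (a m : ℕ) (h : a ≤ m) (κ' : Equiv.Perm (Fin a)) (i : Fin m)
    (hi : (i : ℕ) < a) : ((blockExt a m h κ' i : Fin m) : ℕ) = (κ' ⟨i, hi⟩ : ℕ) := by
  unfold blockExt
  rw [Equiv.Perm.subtypeCongr.left_apply _ _ (p := fun i : Fin m => (i : ℕ) < a) hi]
  rfl

theorem blockExt_high (a m : ℕ) (h : a ≤ m) (κ' : Equiv.Perm (Fin a)) (i : Fin m)
    (hi : ¬ (i : ℕ) < a) :
    ((blockExt a m h κ' i : Fin m) : ℕ) = if (i : ℕ) + 1 < m then (i : ℕ) + 1 else a := by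
  unfold blockExt
  rw [Equiv.Perm.subtypeCongr.right_apply _ _ (p := fun i : Fin m => (i : ℕ) < a) hi]
  rw [Equiv.permCongr_apply]
  show a + ((finRotate (m - a) _ : Fin (m - a)) : ℕ) = _
  rw [coe_finRotate']
  show a + (if ((i : ℕ) - a) + 1 < m - a then ((i : ℕ) - a) + 1 else 0) = _
  have := i.2
  split_ifs <;> omega

theorem good_blockExt (a m : ℕ) (h : a < m) (κ' : Equiv.Perm (Fin a)) (hκ : Good κ') :
    Good (blockExt a m h.le κ') := by
  intro i
  by_cases hi : (i : ℕ) < a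
  · rw [blockExt_low a m h.le κ' i hi]
    exact hκ ⟨i, hi⟩
  · rw [blockExt_high a m h.le κ' i hi]
    split_ifs <;> omega

theorem blockExt_last (a m : ℕ) (h : a < m) (κ' : Equiv.Perm (Fin a)) :
    ((blockExt a m h.le κ' ⟨m - 1, by omega⟩ : Fin m) : ℕ) = a := by
  rw [blockExt_high a m h.le κ' _ (by simp; omega), if_neg]
  simp
  omega

theorem sign_blockExt (a m : ℕ) (h : a < m) (κ' : Equiv.Perm (Fin a)) :
    Equiv.Perm.sign (blockExt a m h.le κ') = Equiv.Perm.sign κ' * (-1) ^ (m - a - 1) := by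
  unfold blockExt
  rw [Equiv.Perm.sign_subtypeCongr, Equiv.Perm.sign_permCongr, Equiv.Perm.sign_permCongr,
    sign_finRotate' _ (by omega)]

theorem muOf_blockExt_low (a m : ℕ) (h : a ≤ m) (κ' : Equiv.Perm (Fin a)) (i : Fin m)
    (hi : (i : ℕ) < a) : muOf (blockExt a m h κ') i = muOf κ' ⟨i, hi⟩ := by
  unfold muOf
  rw [blockExt_low a m h κ' i hi]

theorem muOf_blockExt_high (a m : ℕ) (h : a ≤ m) (κ' : Equiv.Perm (Fin a)) (i : Fin m)
    (hi : ¬ (i : ℕ) < a) :
    muOf (blockExt a m h κ') i = if (i : ℕ) + 1 < m then 0 else m - a := by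
  unfold muOf
  rw [blockExt_high a m h κ' i hi]
  have := i.2
  split_ifs <;> omega

theorem sum_muOf {m : ℕ} (κ : Equiv.Perm (Fin m)) (hκ : Good κ) : ∑ i, muOf κ i = m := by
  have h1 : ∑ i, muOf κ i + ∑ i, ((κ i : Fin m) : ℕ) = ∑ i : Fin m, (1 + (i : ℕ)) := by
    rw [← Finset.sum_add_distrib]
    exact Finset.sum_congr rfl (fun i _ => Nat.sub_add_cancel (hκ i))
  have h2 : ∑ i, ((κ i : Fin m) : ℕ) = ∑ i : Fin m, (i : ℕ) :=
    Equiv.sum_comp κ (fun i : Fin m => (i : ℕ))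
  have h3 : ∑ i : Fin m, (1 + (i : ℕ)) = m + ∑ i : Fin m, (i : ℕ) := by
    rw [Finset.sum_add_distrib]
    simp
  omega

theorem PS_of_le {m : ℕ} (μ : Fin m → ℕ) (s : ℕ) (hs : m ≤ s) : PS μ s = ∑ i, μ i := by
  unfold PS
  apply Finset.sum_congr rfl
  intro k _
  rw [if_pos (lt_of_lt_of_le k.2 hs)]

theorem sum_fin_split (a m : ℕ) (h : a ≤ m) (g : Fin m → ℕ) :
    ∑ i, g i = ∑ j : Fin a, g ((lowEquiv a m h j).1) + ∑ j : Fin (m - a), g ((highEquiv a m h j).1) := by
  rw [← Fintype.sum_subtype_add_sum_subtype (fun i : Fin m => (i : ℕ) < a) g]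
  congr 1
  · exact (Equiv.sum_comp (lowEquiv a m h) (fun i => g i.1)).symm
  · exact (Equiv.sum_comp (highEquiv a m h) (fun i => g i.1)).symm

theorem PS_blockExt (a m : ℕ) (h : a < m) (κ' : Equiv.Perm (Fin a)) (hκ : Good κ') (s : ℕ) :
    PS (muOf (blockExt a m h.le κ')) s = if s < m then PS (muOf κ') s else m := by
  unfold PS
  rw [sum_fin_split a m h.le]
  have hlow : ∑ j : Fin a, (if (((lowEquiv a m h.le j).1 : Fin m) : ℕ) < s then
      muOf (blockExt a m h.le κ') (lowEquiv a m h.le j).1 else 0) =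
      ∑ k : Fin a, if (k : ℕ) < s then muOf κ' k else 0 := by
    apply Finset.sum_congr rfl
    intro j _
    rw [muOf_blockExt_low a m h.le κ' _ (lowEquiv a m h.le j).2]
    rfl
  have hhigh : ∑ j : Fin (m - a), (if (((highEquiv a m h.le j).1 : Fin m) : ℕ) < s then
      muOf (blockExt a m h.le κ') (highEquiv a m h.le j).1 else 0) =
      if m ≤ s then m - a else 0 := by
    rw [Finset.sum_eq_single (⟨m - a - 1, by omega⟩ : Fin (m - a))]
    · rw [muOf_blockExt_high a m h.le κ' _ (highEquiv a m h.le _).2]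
      have e : (((highEquiv a m h.le ⟨m - a - 1, by omega⟩).1 : Fin m) : ℕ) = m - 1 := by
        show a + (m - a - 1) = m - 1
        omega
      rw [e]
      split_ifs <;> omega
    · intro j _ hj
      rw [muOf_blockExt_high a m h.le κ' _ (highEquiv a m h.le _).2]
      have e : (((highEquiv a m h.le j).1 : Fin m) : ℕ) = a + j := rfl
      have hj' : (j : ℕ) ≠ m - a - 1 := fun h' => hj (Fin.ext h')
      have := j.2
      rw [e]
      split_ifs <;> omega
    · intro h'
      exact absurd (Finset.mem_univ _) h'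
  rw [hlow, hhigh]
  by_cases hs : s < m
  · rw [if_pos hs, if_neg (by omega), add_zero]
  · rw [if_neg hs, if_pos (by omega)]
    have : (∑ k : Fin a, if (k : ℕ) < s then muOf κ' k else 0) = a := by
      refine Eq.trans ?_ (sum_muOf κ' hκ)
      apply Finset.sum_congr rfl
      intro k _
      rw [if_pos (by have := k.2; omega)]
    rw [this]
    omega

end Cfsg.Agent.Lib.H12.Stv
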