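import Mathlib
import Cfsg.Agent.Lib.H12.StvI

/-!
# Good permutations: decomposition by the last block (helper12)
-/

set_option autoImplicit false

namespace Cfsg.Agent.Lib.H12.Stv

open Cfsg.Agent.Lib.H12.Parab

variable {m : ℕ}

/-- inside the last block a good permutation is a shift -/
theorem good_shift (κ : Equiv.Perm (Fin m)) (hκ : Good κ) (hm : 1 ≤ m) :
    ∀ (n : ℕ) (i : Fin m), m - (i : ℕ) = n →
      ((κ ⟨m - 1, by omega⟩ : Fin m) : ℕ) ≤ (i : ℕ) → (i : ℕ) + 1 < m →
      ((κ i : Fin m) : ℕ) = (i : ℕ) + 1 := by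
  intro n
  induction n using Nat.strong_induction_on with
  | _ n ih =>
    intro i hn hai hi
    set a := ((κ ⟨m - 1, by omega⟩ : Fin m) : ℕ) with ha
    -- the index mapped to `i + 1`
    set j := κ.symm ⟨(i : ℕ) + 1, hi⟩ with hj
    have hκj : κ j = ⟨(i : ℕ) + 1, hi⟩ := by rw [hj, Equiv.apply_symm_apply]
    have h1 : (i : ℕ) + 1 ≤ 1 + (j : ℕ) := by
      have := hκ j
      rw [hκj] at this
      exact this
    by_cases hji : (j : ℕ) = (i : ℕ)
    · have : j = i := Fin.ext hji
      rw [← this, hκj]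
      simp only
      omega
    · exfalso
      have hjgt : (i : ℕ) < (j : ℕ) := by omega
      by_cases hjl : (j : ℕ) + 1 < m
      · have h2 := ih (m - (j : ℕ)) (by omega) j rfl (by omega) hjl
        rw [hκj] at h2
        simp only at h2
        omega
      · have hjm : j = ⟨m - 1, by omega⟩ := by
          apply Fin.ext
          have := j.2
          simp only
          omega
        rw [hjm] at hκj
        have h3 : a = (i : ℕ) + 1 := by rw [ha, hκj]
        omega

theorem good_high (κ : Equiv.Perm (Fin m)) (hκ : Good κ) (hm : 1 ≤ m) (i : Fin m)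
    (hai : ((κ ⟨m - 1, by omega⟩ : Fin m) : ℕ) ≤ (i : ℕ)) :
    ((κ i : Fin m) : ℕ) =
      if (i : ℕ) + 1 < m then (i : ℕ) + 1 else ((κ ⟨m - 1, by omega⟩ : Fin m) : ℕ) := by
  split_ifs with hi
  · exact good_shift κ hκ hm _ i rfl hai hi
  · have : i = ⟨m - 1, by omega⟩ := by
      apply Fin.ext
      have := i.2
      simp only
      omega
    rw [this]

theorem good_low_iff (κ : Equiv.Perm (Fin m)) (hκ : Good κ) (hm : 1 ≤ m) (i : Fin m) :
    ((κ i : Fin m) : ℕ) < ((κ ⟨m - 1, by omega⟩ : Fin m) : ℕ) ↔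
      (i : ℕ) < ((κ ⟨m - 1, by omega⟩ : Fin m) : ℕ) := by
  set a := ((κ ⟨m - 1, by omega⟩ : Fin m) : ℕ) with ha
  have ham : a < m := (κ ⟨m - 1, by omega⟩).2
  constructor
  · intro h
    by_contra hi
    push Not at hi
    have := good_high κ hκ hm i hi
    rw [← ha] at this
    split_ifs at this <;> omega
  · intro hi
    by_contra h
    push Not at h
    -- the value `κ i ≥ a` is attained by a high index
    by_cases hv : ((κ i : Fin m) : ℕ) = a
    · have : κ i = κ ⟨m - 1, by omega⟩ := Fin.ext hv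
      have := κ.injective this
      rw [this] at hi
      simp only at hi
      omega
    · have hv1 : 1 ≤ ((κ i : Fin m) : ℕ) := by omega
      have hlt : ((κ i : Fin m) : ℕ) - 1 < m := by have := (κ i).2; omega
      have h2 := good_high κ hκ hm ⟨((κ i : Fin m) : ℕ) - 1, hlt⟩ (by rw [← ha]; simp only; omega)
      rw [if_pos (by have := (κ i).2; simp only; omega)] at h2
      have h3 : κ ⟨((κ i : Fin m) : ℕ) - 1, hlt⟩ = κ i := by
        apply Fin.ext
        rw [h2]
        simp only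
        omega
      have := κ.injective h3
      rw [← this] at hi
      simp only at hi
      omega

/-- the restriction of a good permutation to the positions before the last block -/
def lowPart (κ : Equiv.Perm (Fin m)) (hκ : Good κ) (hm : 1 ≤ m) :
    Equiv.Perm (Fin ((κ ⟨m - 1, by omega⟩ : Fin m) : ℕ)) :=
  (lowEquiv _ m (κ ⟨m - 1, by omega⟩).2.le).symm.permCongr
    (Equiv.Perm.subtypePerm κ (good_low_iff κ hκ hm))

theorem lowPart_apply (κ : Equiv.Perm (Fin m)) (hκ : Good κ) (hm : 1 ≤ m)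
    (j : Fin ((κ ⟨m - 1, by omega⟩ : Fin m) : ℕ)) :
    ((lowPart κ hκ hm j : Fin _) : ℕ) = ((κ ⟨j, lt_trans j.2 (κ ⟨m - 1, by omega⟩).2⟩ : Fin m) : ℕ) :=
  rfl

theorem good_lowPart (κ : Equiv.Perm (Fin m)) (hκ : Good κ) (hm : 1 ≤ m) :
    Good (lowPart κ hκ hm) := by
  intro j
  rw [lowPart_apply]
  exact hκ _

theorem blockExt_lowPart (κ : Equiv.Perm (Fin m)) (hκ : Good κ) (hm : 1 ≤ m) :
    blockExt _ m (κ ⟨m - 1, by omega⟩).2.le (lowPart κ hκ hm) = κ := by
  apply Equiv.ext
  intro i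
  apply Fin.ext
  by_cases hi : (i : ℕ) < ((κ ⟨m - 1, by omega⟩ : Fin m) : ℕ)
  · rw [blockExt_low _ m _ _ i hi, lowPart_apply]
  · rw [blockExt_high _ m _ _ i hi]
    push Not at hi
    exact (good_high κ hκ hm i hi).symm

theorem blockExt_injective (a b : ℕ) (ha : a < m) (hb : b < m) (κ' : Equiv.Perm (Fin a))
    (κ'' : Equiv.Perm (Fin b)) (h : blockExt a m ha.le κ' = blockExt b m hb.le κ'') :
    (⟨a, κ'⟩ : Σ a : ℕ, Equiv.Perm (Fin a)) = ⟨b, κ''⟩ := by
  have hab : a = b := by
    have h1 := blockExt_last a m ha κ'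
    have h2 := blockExt_last b m hb κ''
    rw [h] at h1
    exact h1.symm.trans h2
  subst hab
  congr 1
  apply Equiv.ext
  intro j
  apply Fin.ext
  have h1 := blockExt_low a m ha.le κ' ⟨j, lt_trans j.2 ha⟩ j.2
  have h2 := blockExt_low a m ha.le κ'' ⟨j, lt_trans j.2 ha⟩ j.2
  rw [h] at h1
  exact h1.symm.trans h2

end Cfsg.Agent.Lib.H12.Stv
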