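import Mathlib
import Cfsg.Agent.Lib.H12.StvJ

/-!
# The alternating sum over good permutations, by the last block (helper12)
-/

set_option autoImplicit false

namespace Cfsg.Agent.Lib.H12.Stv

open Cfsg.Agent.Lib.H12.Parab

theorem good_sum (m : ℕ) (hm : 1 ≤ m) (Φ : (ℕ → ℕ) → ℤ) :
    ∑ κ : Equiv.Perm (Fin m),
        (if Good κ then ((Equiv.Perm.sign κ : ℤˣ) : ℤ) * Φ (PS (muOf κ)) else 0) =
      ∑ a ∈ Finset.range m, (-1 : ℤ) ^ (m - a - 1) *
        ∑ κ' : Equiv.Perm (Fin a),
          (if Good κ' then ((Equiv.Perm.sign κ' : ℤˣ) : ℤ) *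
            Φ (fun s => if s < m then PS (muOf κ') s else m) else 0) := by
  classical
  rw [← Finset.sum_filter]
  have hR : ∀ a ∈ Finset.range m, (-1 : ℤ) ^ (m - a - 1) *
        ∑ κ' : Equiv.Perm (Fin a),
          (if Good κ' then ((Equiv.Perm.sign κ' : ℤˣ) : ℤ) *
            Φ (fun s => if s < m then PS (muOf κ') s else m) else 0) =
      ∑ κ' ∈ (Finset.univ : Finset (Equiv.Perm (Fin a))).filter Good,
        (-1 : ℤ) ^ (m - a - 1) * (((Equiv.Perm.sign κ' : ℤˣ) : ℤ) *
            Φ (fun s => if s < m then PS (muOf κ') s else m)) := by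
    intro a _
    rw [← Finset.sum_filter, Finset.mul_sum]
  rw [Finset.sum_congr rfl hR, ← Finset.sum_sigma (Finset.range m)
    (fun a => (Finset.univ : Finset (Equiv.Perm (Fin a))).filter Good)
    (fun x => (-1 : ℤ) ^ (m - x.1 - 1) * (((Equiv.Perm.sign x.2 : ℤˣ) : ℤ) *
            Φ (fun s => if s < m then PS (muOf x.2) s else m)))]
  symm
  apply Finset.sum_bij (fun x hx => blockExt x.1 m (Finset.mem_range.mp (Finset.mem_sigma.mp hx).1).le x.2)
  · intro x hx
    have h1 := Finset.mem_sigma.mp hx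
    rw [Finset.mem_filter]
    exact ⟨Finset.mem_univ _, good_blockExt x.1 m (Finset.mem_range.mp h1.1) x.2
      (Finset.mem_filter.mp h1.2).2⟩
  · intro x hx y hy h
    have h1 := Finset.mem_range.mp (Finset.mem_sigma.mp hx).1
    have h2 := Finset.mem_range.mp (Finset.mem_sigma.mp hy).1
    exact blockExt_injective x.1 y.1 h1 h2 x.2 y.2 h
  · intro κ hκ
    have hκ' : Good κ := (Finset.mem_filter.mp hκ).2
    refine ⟨⟨_, lowPart κ hκ' hm⟩, ?_, blockExt_lowPart κ hκ' hm⟩
    rw [Finset.mem_sigma]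
    exact ⟨Finset.mem_range.mpr (κ ⟨m - 1, by omega⟩).2,
      Finset.mem_filter.mpr ⟨Finset.mem_univ _, good_lowPart κ hκ' hm⟩⟩
  · intro x hx
    have h1 := Finset.mem_sigma.mp hx
    have ha := Finset.mem_range.mp h1.1
    have hg := (Finset.mem_filter.mp h1.2).2
    rw [sign_blockExt x.1 m ha x.2]
    have hps : PS (muOf (blockExt x.1 m ha.le x.2)) =
        fun s => if s < m then PS (muOf x.2) s else m := by
      funext s
      exact PS_blockExt x.1 m ha x.2 hg s
    rw [hps]
    push_cast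
    ring

end Cfsg.Agent.Lib.H12.Stv
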