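import Mathlib
import Cfsg.Agent.Lib.H12.StvK
import Cfsg.Agent.Lib.H12.StvA

/-!
# Counting flags in a ranked poset and the Möbius function (helper12)
-/

set_option autoImplicit false
open IncidenceAlgebra Classical

namespace Cfsg.Agent.Lib.H12.Stv

open Cfsg.Agent.Lib.H12.Parab

section flags

variable {α : Type*} [PartialOrder α] [Fintype α]
  (r : α → ℕ) (n : ℕ)

/-- flags below `U` with prescribed ranks -/
def FlagSet (k : ℕ → ℕ) (U : α) : Type _ :=
  {W : Fin (n + 1) → α // Monotone W ∧ (∀ s, W s ≤ U) ∧ ∀ s, r (W s) = k s}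

noncomputable instance (k : ℕ → ℕ) (U : α) : Fintype (FlagSet r n k U) := by
  unfold FlagSet
  infer_instance

/-- the number of flags below `U` with prescribed ranks -/
noncomputable def cnt (k : ℕ → ℕ) (U : α) : ℕ := Fintype.card (FlagSet r n k U)

variable {r n}

theorem eq_of_le_of_rank_eq (hr : StrictMono r) {x y : α} (h : x ≤ y) (hxy : r x = r y) : x = y := by
  by_contra hne
  have := hr (lt_of_le_of_ne h hne)
  omega

/-- flags with a given member at position `m - 1` -/
noncomputable def fiberFlagEquiv (hr : StrictMono r) (k' : ℕ → ℕ) (a m : ℕ) (ham : a < m)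
    (hmn : m ≤ n) (hk' : ∀ s, a ≤ s → k' s = a) (U : α) (hU : r U = m) (U' : α) (hU' : U' < U)
    (hrU' : r U' = a) :
    {W : FlagSet r n (fun s => if s < m then k' s else m) U //
        W.1 ⟨m - 1, by omega⟩ = U'} ≃ FlagSet r n k' U' where
  toFun W := ⟨fun s => W.1.1 ⟨min (s : ℕ) (m - 1), by omega⟩, by
    refine ⟨?_, ?_, ?_⟩
    · intro s t hst
      apply W.1.2.1
      rw [Fin.le_def]
      simp only
      have : (s : ℕ) ≤ (t : ℕ) := hst
      omega
    · intro s
      refine le_of_le_of_eq (W.1.2.1 ?_) W.2
      rw [Fin.le_def]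
      simp only
      omega
    · intro s
      rw [W.1.2.2.2]
      simp only
      rw [if_pos (by omega)]
      by_cases hs : (s : ℕ) ≤ m - 1
      · rw [min_eq_left hs]
      · rw [min_eq_right (by omega), hk' _ (by omega), hk' _ (by omega)]⟩
  invFun W' := ⟨⟨fun s => if (s : ℕ) < m then W'.1 s else U, by
    refine ⟨?_, ?_, ?_⟩
    · intro s t hst
      have hst' : (s : ℕ) ≤ (t : ℕ) := hst
      simp only
      by_cases hs : (s : ℕ) < m
      · rw [if_pos hs]
        by_cases ht : (t : ℕ) < m
        · rw [if_pos ht]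
          exact W'.2.1 hst
        · rw [if_neg ht]
          exact (W'.2.2.1 s).trans hU'.le
      · rw [if_neg hs, if_neg (by omega)]
    · intro s
      simp only
      split_ifs
      · exact (W'.2.2.1 s).trans hU'.le
      · exact le_rfl
    · intro s
      simp only
      split_ifs
      · exact W'.2.2.2 s
      · exact hU⟩, by
    simp only
    rw [if_pos (by omega)]
    apply eq_of_le_of_rank_eq hr (W'.2.2.1 _)
    rw [W'.2.2.2, hrU']
    exact hk' _ (by simp only; omega)⟩
  left_inv W := by
    apply Subtype.ext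
    apply Subtype.ext
    funext s
    simp only
    by_cases hs : (s : ℕ) < m
    · rw [if_pos hs]
      exact congrArg W.1.1 (Fin.ext (by simp only; omega))
    · rw [if_neg hs]
      symm
      apply eq_of_le_of_rank_eq hr (W.1.2.2.1 s)
      have := W.1.2.2.2 s
      simp only [if_neg hs] at this
      rw [this, hU]
  right_inv W' := by
    apply Subtype.ext
    funext s
    simp only
    rw [if_pos (by omega)]
    by_cases hs : (s : ℕ) ≤ m - 1
    · exact congrArg W'.1 (Fin.ext (by simp only; omega))
    · apply eq_of_le_of_rank_eq hr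
      · apply W'.2.1
        rw [Fin.le_def]
        simp only
        omega
      · rw [W'.2.2.2, W'.2.2.2]
        simp only
        rw [hk' _ (by omega), hk' _ (by omega)]

/-- the recursion for the number of flags -/
theorem cnt_rec (hr : StrictMono r) (k' : ℕ → ℕ) (a m : ℕ) (ham : a < m) (hmn : m ≤ n)
    (hk' : ∀ s, a ≤ s → k' s = a) (U : α) (hU : r U = m) :
    cnt r n (fun s => if s < m then k' s else m) U =
      ∑ U' ∈ Finset.univ.filter (fun U' : α => U' < U ∧ r U' = a), cnt r n k' U' := by
  unfold cnt
  rw [← Finset.card_univ, Finset.card_eq_sum_card_fiberwise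
    (f := fun W : FlagSet r n (fun s => if s < m then k' s else m) U => W.1 ⟨m - 1, by omega⟩)
    (t := Finset.univ.filter (fun U' : α => U' < U ∧ r U' = a))]
  · apply Finset.sum_congr rfl
    intro U' hU'
    rw [Finset.mem_filter] at hU'
    rw [← Fintype.card_subtype]
    exact Fintype.card_congr (fiberFlagEquiv hr k' a m ham hmn hk' U hU U' hU'.2.1 hU'.2.2)
  · intro W _
    rw [Finset.mem_coe, Finset.mem_filter]
    refine ⟨Finset.mem_univ _, ?_⟩
    have h1 : r (W.1 ⟨m - 1, by omega⟩) = a := by
      rw [W.2.2.2]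
      simp only
      rw [if_pos (by omega)]
      exact hk' _ (by omega)
    refine ⟨lt_of_le_of_ne (W.2.2.1 _) ?_, h1⟩
    intro h
    have h' : W.1 ⟨m - 1, by omega⟩ = U := h
    rw [h', hU] at h1
    omega

end flags

end Cfsg.Agent.Lib.H12.Stv
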