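import Mathlib
import Cfsg.Agent.Lib.H12.StvL

/-!
# The alternating sum of flag counts is the Möbius number (helper12)
-/

set_option autoImplicit false
open IncidenceAlgebra Classical

namespace Cfsg.Agent.Lib.H12.Stv

open Cfsg.Agent.Lib.H12.Parab

variable {α : Type*} [PartialOrder α] [OrderBot α] [Fintype α] [LocallyFiniteOrder α]

theorem cnt_zero (r : α → ℕ) (hr : StrictMono r) (hr0 : r ⊥ = 0) (n : ℕ) :
    cnt r n (fun _ => 0) (⊥ : α) = 1 := by
  unfold cnt
  rw [Fintype.card_eq_one_iff]
  refine ⟨⟨fun _ => ⊥, monotone_const, fun _ => le_rfl, fun _ => hr0⟩, ?_⟩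
  intro W
  apply Subtype.ext
  funext s
  exact le_bot_iff.mp (W.2.2.1 s)

theorem alt_sum_eq_mu [DecidableEq α] (r : α → ℕ) (hr : StrictMono r) (hr0 : r ⊥ = 0) (n : ℕ) :
    ∀ m, m ≤ n → ∀ U : α, r U = m →
      ∑ κ : Equiv.Perm (Fin m),
        (if Good κ then ((Equiv.Perm.sign κ : ℤˣ) : ℤ) * (cnt r n (PS (muOf κ)) U : ℤ) else 0) =
      (-1) ^ m * mu ℤ ⊥ U := by
  intro m
  induction m using Nat.strong_induction_on with
  | _ m ih =>
    intro hmn U hU
    rcases Nat.eq_zero_or_pos m with rfl | hm
    · have hUbot : U = ⊥ := (eq_of_le_of_rank_eq hr bot_le (by rw [hr0, hU])).symm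
      subst hUbot
      have hg : Good (default : Equiv.Perm (Fin 0)) := fun i => i.elim0
      rw [mu_self, pow_zero, mul_one, Fintype.sum_unique, if_pos hg]
      have h1 : PS (muOf (default : Equiv.Perm (Fin 0))) = fun _ => 0 := by
        funext s
        simp [PS]
      rw [h1, cnt_zero r hr hr0 n]
      simp
    · rw [good_sum m hm (fun k => (cnt r n k U : ℤ))]
      have hinner : ∀ a ∈ Finset.range m,
          (-1 : ℤ) ^ (m - a - 1) * ∑ κ' : Equiv.Perm (Fin a),
            (if Good κ' then ((Equiv.Perm.sign κ' : ℤˣ) : ℤ) *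
              ((cnt r n (fun s => if s < m then PS (muOf κ') s else m) U : ℕ) : ℤ) else 0) =
          (-1 : ℤ) ^ (m - 1) *
            ∑ U' ∈ Finset.univ.filter (fun U' : α => U' < U ∧ r U' = a), mu ℤ ⊥ U' := by
        intro a ha
        have ham : a < m := Finset.mem_range.mp ha
        have h1 : ∀ κ' : Equiv.Perm (Fin a),
            (if Good κ' then ((Equiv.Perm.sign κ' : ℤˣ) : ℤ) *
              ((cnt r n (fun s => if s < m then PS (muOf κ') s else m) U : ℕ) : ℤ) else 0) =
            ∑ U' ∈ Finset.univ.filter (fun U' : α => U' < U ∧ r U' = a),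
              (if Good κ' then ((Equiv.Perm.sign κ' : ℤˣ) : ℤ) *
                ((cnt r n (PS (muOf κ')) U' : ℕ) : ℤ) else 0) := by
          intro κ'
          by_cases hg : Good κ'
          · simp only [if_pos hg]
            rw [cnt_rec hr (PS (muOf κ')) a m ham hmn ?_ U hU]
            · push_cast
              rw [Finset.mul_sum]
            · intro s hs
              rw [PS_of_le _ s hs, sum_muOf κ' hg]
          · simp only [if_neg hg]
            rw [Finset.sum_const_zero]
        rw [Finset.sum_congr rfl (fun κ' _ => h1 κ'), Finset.sum_comm]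
        have h2 : ∀ U' ∈ Finset.univ.filter (fun U' : α => U' < U ∧ r U' = a),
            ∑ κ' : Equiv.Perm (Fin a), (if Good κ' then ((Equiv.Perm.sign κ' : ℤˣ) : ℤ) *
                ((cnt r n (PS (muOf κ')) U' : ℕ) : ℤ) else 0) = (-1) ^ a * mu ℤ ⊥ U' := by
          intro U' hU'
          rw [Finset.mem_filter] at hU'
          exact ih a ham (by omega) U' hU'.2.2
        rw [Finset.sum_congr rfl h2, ← Finset.mul_sum, ← mul_assoc, ← pow_add]
        congr 2
        omega
      rw [Finset.sum_congr rfl hinner, ← Finset.mul_sum]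
      have hfib : ∑ a ∈ Finset.range m,
          ∑ U' ∈ Finset.univ.filter (fun U' : α => U' < U ∧ r U' = a), mu ℤ ⊥ U' =
          ∑ U' ∈ Finset.Ico ⊥ U, mu ℤ ⊥ U' := by
        rw [← Finset.sum_fiberwise_of_maps_to (s := Finset.Ico ⊥ U) (t := Finset.range m)
          (g := r)]
        · apply Finset.sum_congr rfl
          intro a _
          apply Finset.sum_congr _ (fun _ _ => rfl)
          ext U'
          simp only [Finset.mem_filter, Finset.mem_univ, true_and, Finset.mem_Ico, bot_le]
        · intro U' hU'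
          rw [Finset.mem_Ico] at hU'
          rw [Finset.mem_range, ← hU]
          exact hr hU'.2
      have hne : (⊥ : α) ≠ U := by
        intro h
        rw [← h, hr0] at hU
        omega
      rw [hfib, mu_eq_neg_sum_Ico_of_ne hne]
      obtain ⟨k, rfl⟩ : ∃ k, m = k + 1 := ⟨m - 1, by omega⟩
      rw [Nat.add_sub_cancel, pow_succ]
      ring

end Cfsg.Agent.Lib.H12.Stv
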