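import Mathlib
import Cfsg.Agent.Lib.H12.DCosC
import Cfsg.Agent.Lib.H12.ParabC

/-!
# Cosets of a parabolic subgroup of `GL_n` as flags: the action and the stabiliser (helper12)
-/

set_option autoImplicit false
open scoped MatrixGroups
open Matrix

namespace Cfsg.Agent.Lib.H12.Stv

open Cfsg.Agent.Lib.H12.DCos Cfsg.Agent.Lib.H12.Parab

/-- fixed cosets of a stabiliser are the fixed points in the orbit -/
theorem card_fixedBy_quotient_stabilizer {G X : Type*} [Group G] [MulAction G X] (b : X) (g : G) :
    Nat.card (MulAction.fixedBy (G ⧸ MulAction.stabilizer G b) g) =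
      Nat.card {x : X // x ∈ MulAction.orbit G b ∧ g • x = x} := by
  apply Nat.card_congr
  refine Equiv.ofBijective (fun q => ⟨MulAction.ofQuotientStabilizer G b q.1,
    MulAction.ofQuotientStabilizer_mem_orbit G b q.1, ?_⟩) ⟨?_, ?_⟩
  · rw [← MulAction.ofQuotientStabilizer_smul]
    exact congrArg _ q.2
  · intro q q' h
    apply Subtype.ext
    apply MulAction.injective_ofQuotientStabilizer G b
    exact congrArg Subtype.val h
  · rintro ⟨x, ⟨h, rfl⟩, hx⟩
    refine ⟨⟨(h : G ⧸ MulAction.stabilizer G b), ?_⟩, ?_⟩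
    · rw [MulAction.mem_fixedBy]
      apply MulAction.injective_ofQuotientStabilizer G b
      rw [MulAction.ofQuotientStabilizer_smul, MulAction.ofQuotientStabilizer_mk]
      exact hx
    · apply Subtype.ext
      exact MulAction.ofQuotientStabilizer_mk G b h

variable {F : Type*} [Field F] {n : ℕ}

/-- flags of subspaces of the standard space -/
@[ext]
structure Flg (n : ℕ) (F : Type*) [Field F] where
  /-- the members of the flag -/
  sub : Fin (n + 1) → Submodule F (Fin n → F)

noncomputable instance flgAction (n : ℕ) (F : Type*) [Field F] :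
    MulAction (GL (Fin n) F) (Flg n F) where
  smul x W := ⟨fun s => (W.sub s).map (Matrix.toLin' (x : Matrix (Fin n) (Fin n) F))⟩
  one_smul W := by
    apply Flg.ext
    funext s
    show (W.sub s).map (Matrix.toLin' ((1 : GL (Fin n) F) : Matrix (Fin n) (Fin n) F)) = W.sub s
    rw [Units.val_one, Matrix.toLin'_one]
    exact Submodule.map_id _
  mul_smul x y W := by
    apply Flg.ext
    funext s
    show (W.sub s).map (Matrix.toLin' ((x * y : GL (Fin n) F) : Matrix (Fin n) (Fin n) F)) =
      ((W.sub s).map (Matrix.toLin' (y : Matrix (Fin n) (Fin n) F))).map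
        (Matrix.toLin' (x : Matrix (Fin n) (Fin n) F))
    rw [Units.val_mul, Matrix.toLin'_mul, Submodule.map_comp]

theorem flg_smul_apply (x : GL (Fin n) F) (W : Flg n F) (s : Fin (n + 1)) :
    (x • W).sub s = (W.sub s).map (Matrix.toLin' (x : Matrix (Fin n) (Fin n) F)) := rfl

/-- the coordinate subspace of the vectors supported on the labels below `s` -/
def stdSub (F : Type*) [Field F] {n : ℕ} (a : Fin n → ℕ) (s : ℕ) : Submodule F (Fin n → F) where
  carrier := {v | Low a s v}
  add_mem' := fun {v w} hv hw i hi => by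
    show v i + w i = 0
    rw [hv i hi, hw i hi, add_zero]
  zero_mem' := fun i _ => rfl
  smul_mem' := fun c v hv i hi => by
    show c • v i = 0
    rw [hv i hi, smul_zero]

theorem mem_stdSub (a : Fin n → ℕ) (s : ℕ) (v : Fin n → F) :
    v ∈ stdSub F a s ↔ ∀ i, s ≤ a i → v i = 0 := Iff.rfl

theorem stdSub_mono (a : Fin n → ℕ) {s t : ℕ} (h : s ≤ t) : stdSub F a s ≤ stdSub F a t :=
  fun _ hv i hi => hv i (h.trans hi)

/-- the standard flag -/
def stdFlag (F : Type*) [Field F] {n : ℕ} (a : Fin n → ℕ) : Flg n F := ⟨fun s => stdSub F a s⟩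

theorem stdFlag_apply (a : Fin n → ℕ) (s : Fin (n + 1)) :
    (stdFlag F a).sub s = stdSub F a s := rfl

theorem map_stdSub_of_mem (a : Fin n → ℕ) (s : ℕ) {p : GL (Fin n) F} (hp : p ∈ PGL F a) :
    (stdSub F a s).map (Matrix.toLin' (p : Matrix (Fin n) (Fin n) F)) = stdSub F a s := by
  apply le_antisymm
  · rintro _ ⟨v, hv, rfl⟩
    rw [Matrix.toLin'_apply]
    exact low_mulVec a s hp hv
  · intro v hv
    refine ⟨((p⁻¹ : GL (Fin n) F) : Matrix (Fin n) (Fin n) F) *ᵥ v, ?_, ?_⟩
    · exact low_mulVec a s ((PGL F a).inv_mem hp) hv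
    · rw [Matrix.toLin'_apply, coe_mulVec_inv]

theorem stabilizer_stdFlag (a : Fin n → ℕ) (ha : ∀ i, a i < n) :
    MulAction.stabilizer (GL (Fin n) F) (stdFlag F a) = PGL F a := by
  classical
  ext x
  rw [MulAction.mem_stabilizer_iff]
  constructor
  · intro h i j hij
    have hs : a j + 1 < n + 1 := by have := ha j; omega
    have h1 := congrFun (congrArg Flg.sub h) ⟨a j + 1, hs⟩
    rw [flg_smul_apply, stdFlag_apply] at h1
    have h2 : Pi.single j (1 : F) ∈ stdSub F a (a j + 1) := by
      intro k hk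
      have : k ≠ j := by
        rintro rfl
        omega
      exact Pi.single_eq_of_ne this _
    have h3 : Matrix.toLin' (x : Matrix (Fin n) (Fin n) F) (Pi.single j 1) ∈
        stdSub F a (a j + 1) := by
      rw [← h1]
      exact ⟨_, h2, rfl⟩
    have h4 := h3 i (by show a j + 1 ≤ a i; omega)
    rw [Matrix.toLin'_apply, Matrix.mulVec_single_one] at h4
    exact h4
  · intro hx
    apply Flg.ext
    funext s
    rw [flg_smul_apply, stdFlag_apply]
    exact map_stdSub_of_mem a s hx

end Cfsg.Agent.Lib.H12.Stv
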