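import Mathlib
import Cfsg.Agent.Lib.H12.StvN

/-!
# Bases adapted to a flag (helper12)
-/

set_option autoImplicit false
open scoped MatrixGroups
open Matrix

namespace Cfsg.Agent.Lib.H12.Stv

open Cfsg.Agent.Lib.H12.DCos Cfsg.Agent.Lib.H12.Parab

variable {F : Type*} [Field F] {V : Type*} [AddCommGroup V] [Module F V]

theorem exists_spanning [FiniteDimensional F V] (C : Submodule F V) (ι : Type*) [Fintype ι]
    (h : Module.finrank F C = Fintype.card ι) :
    ∃ c : ι → V, Submodule.span F (Set.range c) = C := by
  classical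
  let β : Module.Basis ι F C :=
    (Module.finBasisOfFinrankEq F C h).reindex (Fintype.equivFin ι).symm
  refine ⟨fun j => (β j : V), ?_⟩
  have h1 : Set.range (fun j => (β j : V)) = C.subtype '' Set.range β := by
    rw [← Set.range_comp]
    rfl
  rw [h1, Submodule.span_image, β.span_eq, Submodule.map_top, Submodule.range_subtype]

theorem exists_relative_compl [FiniteDimensional F V] {A B : Submodule F V} (h : A ≤ B) :
    ∃ C : Submodule F V, C ≤ B ∧ A ⊔ C = B ∧
      Module.finrank F A + Module.finrank F C = Module.finrank F B := by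
  obtain ⟨q, hq⟩ := Submodule.exists_isCompl A
  refine ⟨q ⊓ B, inf_le_right, ?_, ?_⟩
  · rw [← sup_inf_assoc_of_le q h, hq.sup_eq_top, top_inf_eq]
  · have h1 := Submodule.finrank_sup_add_finrank_inf_eq A (q ⊓ B)
    have h2 : A ⊔ q ⊓ B = B := by
      rw [← sup_inf_assoc_of_le q h, hq.sup_eq_top, top_inf_eq]
    have h3 : A ⊓ (q ⊓ B) = ⊥ := by
      rw [← inf_assoc, hq.inf_eq_bot, bot_inf_eq]
    rw [h2, h3, finrank_bot, add_zero] at h1
    exact h1.symm

theorem card_filter_lt_succ {n : ℕ} (a : Fin n → ℕ) (s : ℕ) :
    (Finset.univ.filter fun i : Fin n => a i < s + 1).card =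
      (Finset.univ.filter fun i : Fin n => a i < s).card +
        (Finset.univ.filter fun i : Fin n => a i = s).card := by
  rw [← Finset.card_union_of_disjoint]
  · congr 1
    ext i
    simp only [Finset.mem_filter, Finset.mem_univ, true_and, Finset.mem_union]
    omega
  · rw [Finset.disjoint_filter]
    intro i _ h1 h2
    omega

theorem exists_adapted [FiniteDimensional F V] {n : ℕ} (a : Fin n → ℕ) (ha : ∀ i, a i < n)
    (hV : Module.finrank F V = n) (W : Fin (n + 1) → Submodule F V) (hmono : Monotone W)
    (hW : ∀ s : Fin (n + 1), Module.finrank F (W s) =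
      (Finset.univ.filter fun i : Fin n => a i < (s : ℕ)).card) :
    ∃ b : Fin n → V, (∀ i, b i ∈ W ⟨a i + 1, by have := ha i; omega⟩) ∧
      ⊤ ≤ Submodule.span F (Set.range b) := by
  classical
  -- the relative complements
  have hC : ∀ t : Fin n, ∃ C : Submodule F V, C ≤ W t.succ ∧ W t.castSucc ⊔ C = W t.succ ∧
      Module.finrank F (W t.castSucc) + Module.finrank F C = Module.finrank F (W t.succ) :=
    fun t => exists_relative_compl (hmono (Fin.castSucc_le_succ t))
  choose C hC1 hC2 hC3 using hC
  have hCr : ∀ t : Fin n, Module.finrank F (C t) = Fintype.card {i : Fin n // a i = (t : ℕ)} := by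
    intro t
    have h1 := hC3 t
    rw [hW, hW, Fin.val_succ, Fin.val_castSucc, card_filter_lt_succ] at h1
    rw [Fintype.card_subtype]
    omega
  have hc : ∀ t : Fin n, ∃ c : {i : Fin n // a i = (t : ℕ)} → V,
      Submodule.span F (Set.range c) = C t := fun t => exists_spanning (C t) _ (hCr t)
  choose c hc using hc
  let b : Fin n → V := fun i => c ⟨a i, ha i⟩ ⟨i, rfl⟩
  have hb : ∀ (t : Fin n) (j : {i : Fin n // a i = (t : ℕ)}), c t j = b j.1 := by
    intro t j
    obtain ⟨i, hi⟩ := j
    have ht : t = ⟨a i, ha i⟩ := Fin.ext hi.symm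
    subst ht
    rfl
  have hbC : ∀ i, b i ∈ C ⟨a i, ha i⟩ := by
    intro i
    rw [← hc]
    exact Submodule.subset_span ⟨_, rfl⟩
  refine ⟨b, ?_, ?_⟩
  · intro i
    exact hC1 ⟨a i, ha i⟩ (hbC i)
  · -- the inductive claim
    have key : ∀ s : ℕ, ∀ hs : s < n + 1, W ⟨s, hs⟩ ≤
        Submodule.span F (b '' {i | a i < s}) := by
      intro s
      induction s with
      | zero =>
        intro hs
        have h0 : Module.finrank F (W ⟨0, hs⟩) = 0 := by
          rw [hW]
          simp
        rw [Submodule.finrank_eq_zero] at h0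
        rw [h0]
        exact bot_le
      | succ s ih =>
        intro hs
        have hsn : s < n := by omega
        have h1 := hC2 ⟨s, hsn⟩
        have e1 : Fin.castSucc (⟨s, hsn⟩ : Fin n) = ⟨s, by omega⟩ := rfl
        have e2 : Fin.succ (⟨s, hsn⟩ : Fin n) = ⟨s + 1, hs⟩ := rfl
        rw [e1, e2] at h1
        rw [← h1]
        apply sup_le
        · exact (ih (by omega)).trans (Submodule.span_mono (Set.image_mono (by
            intro i hi
            exact Nat.lt_succ_of_lt hi)))
        · rw [← hc]
          apply Submodule.span_mono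
          rintro _ ⟨j, rfl⟩
          refine ⟨j.1, ?_, (hb _ j).symm⟩
          show a j.1 < s + 1
          have := j.2
          simp only at this
          omega
    have htop : W ⟨n, by omega⟩ = ⊤ := by
      apply Submodule.eq_top_of_finrank_eq
      rw [hW, hV]
      have : (Finset.univ.filter fun i : Fin n => a i < n) = Finset.univ := by
        apply Finset.filter_true_of_mem
        intro i _
        exact ha i
      simp only
      rw [this, Finset.card_univ, Fintype.card_fin]
    rw [← htop]
    exact (key n (by omega)).trans (Submodule.span_mono (Set.image_subset_range _ _))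

end Cfsg.Agent.Lib.H12.Stv
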