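import Mathlib
import Cfsg.Agent.Lib.H12.StvO

/-!
# Cosets of a parabolic subgroup of `GL_n` as flags: the orbit of the standard flag (helper12)
-/

set_option autoImplicit false
open scoped MatrixGroups
open Matrix

namespace Cfsg.Agent.Lib.H12.Stv

open Cfsg.Agent.Lib.H12.DCos Cfsg.Agent.Lib.H12.Parab

variable {F : Type*} [Field F] {n : ℕ}

/-- coordinates of the standard subspace -/
noncomputable def stdSubEquiv (a : Fin n → ℕ) (s : ℕ) :
    stdSub F a s ≃ₗ[F] ({i : Fin n // a i < s} → F) where
  toFun v := fun i => v.1 i.1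
  map_add' _ _ := rfl
  map_smul' _ _ := rfl
  invFun w := ⟨fun i => if h : a i < s then w ⟨i, h⟩ else 0, fun i hi => dif_neg (by omega)⟩
  left_inv v := by
    apply Subtype.ext
    funext i
    show (if h : a i < s then v.1 i else 0) = v.1 i
    by_cases h : a i < s
    · rw [dif_pos h]
    · rw [dif_neg h]
      exact (v.2 i (not_lt.mp h)).symm
  right_inv w := by
    funext i
    exact dif_pos i.2

theorem finrank_stdSub (a : Fin n → ℕ) (s : ℕ) :
    Module.finrank F (stdSub F a s) = (Finset.univ.filter fun i : Fin n => a i < s).card := by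
  rw [(stdSubEquiv (F := F) a s).finrank_eq, Module.finrank_fintype_fun_eq_card,
    Fintype.card_subtype]

theorem toLin'_injective (x : GL (Fin n) F) :
    Function.Injective (Matrix.toLin' (x : Matrix (Fin n) (Fin n) F)) := by
  apply Function.LeftInverse.injective
    (g := Matrix.toLin' ((x⁻¹ : GL (Fin n) F) : Matrix (Fin n) (Fin n) F))
  intro v
  rw [Matrix.toLin'_apply, Matrix.toLin'_apply, coe_inv_mulVec]

theorem finrank_map_toLin' (x : GL (Fin n) F) (W : Submodule F (Fin n → F)) :
    Module.finrank F (W.map (Matrix.toLin' (x : Matrix (Fin n) (Fin n) F))) =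
      Module.finrank F W :=
  (Submodule.equivMapOfInjective _ (toLin'_injective x) W).finrank_eq.symm

/-- a linear automorphism of the standard space as an invertible matrix -/
noncomputable def glOfEquiv (e : (Fin n → F) ≃ₗ[F] (Fin n → F)) : GL (Fin n) F :=
  ⟨LinearMap.toMatrix' e.toLinearMap, LinearMap.toMatrix' e.symm.toLinearMap, by
    rw [← LinearMap.toMatrix'_comp]
    simp, by
    rw [← LinearMap.toMatrix'_comp]
    simp⟩

theorem toLin'_glOfEquiv (e : (Fin n → F) ≃ₗ[F] (Fin n → F)) :
    Matrix.toLin' ((glOfEquiv e : GL (Fin n) F) : Matrix (Fin n) (Fin n) F) = e.toLinearMap :=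
  Matrix.toLin'_toMatrix' _

theorem mem_orbit_stdFlag_iff (a : Fin n → ℕ) (ha : ∀ i, a i < n)
    (W : Flg n F) :
    W ∈ MulAction.orbit (GL (Fin n) F) (stdFlag F a) ↔
      Monotone W.sub ∧ ∀ s : Fin (n + 1), Module.finrank F (W.sub s) =
        (Finset.univ.filter fun i : Fin n => a i < (s : ℕ)).card := by
  classical
  constructor
  · rintro ⟨x, rfl⟩
    refine ⟨?_, ?_⟩
    · intro s t hst
      show (x • stdFlag F a).sub s ≤ (x • stdFlag F a).sub t
      rw [flg_smul_apply, flg_smul_apply]
      exact Submodule.map_mono (stdSub_mono a hst)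
    · intro s
      show Module.finrank F ((x • stdFlag F a).sub s) = _
      rw [flg_smul_apply, finrank_map_toLin', stdFlag_apply, finrank_stdSub]
  · rintro ⟨hmono, hW⟩
    obtain ⟨b, hb1, hb2⟩ := exists_adapted a ha (by simp) W.sub hmono hW
    let B : Module.Basis (Fin n) F (Fin n → F) :=
      basisOfTopLeSpanOfCardEqFinrank b hb2 (by simp)
    have hB : ∀ i, B i = b i := fun i => by
      show basisOfTopLeSpanOfCardEqFinrank b hb2 _ i = b i
      rw [coe_basisOfTopLeSpanOfCardEqFinrank]
    let e : (Fin n → F) ≃ₗ[F] (Fin n → F) := B.equivFun.symm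
    refine ⟨glOfEquiv e, ?_⟩
    apply Flg.ext
    funext s
    show (glOfEquiv e • stdFlag F a).sub s = W.sub s
    rw [flg_smul_apply, stdFlag_apply, toLin'_glOfEquiv]
    apply Submodule.eq_of_le_of_finrank_eq
    · rintro _ ⟨v, hv, rfl⟩
      show B.equivFun.symm v ∈ W.sub s
      rw [Module.Basis.equivFun_symm_apply]
      apply Submodule.sum_mem
      intro i _
      by_cases h : a i < (s : ℕ)
      · apply Submodule.smul_mem
        rw [hB]
        refine hmono ?_ (hb1 i)
        rw [Fin.le_def]
        show a i + 1 ≤ (s : ℕ)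
        omega
      · rw [hv i (not_lt.mp h), zero_smul]
        exact Submodule.zero_mem _
    · rw [hW]
      have := (Submodule.equivMapOfInjective e.toLinearMap e.injective (stdSub F a s)).finrank_eq
      rw [← this, finrank_stdSub]

theorem card_compLabel_lt (μ : Fin n → ℕ) (hμ : ∑ i, μ i = n) (s : ℕ) (hs : s ≤ n) :
    (Finset.univ.filter fun i : Fin n => Cfsg.compLabel μ i < s).card = PS μ s := by
  have h1 : (Finset.univ.filter fun i : Fin n => Cfsg.compLabel μ i < s) =
      Finset.univ.filter fun i : Fin n => (i : ℕ) < PS μ s := by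
    apply Finset.filter_congr
    intro i _
    have ht := compLabel_lt μ hμ i
    have h2 := (compLabel_eq_iff μ hμ i (Cfsg.compLabel μ i) ht).mp rfl
    constructor
    · intro h
      have : PS μ (Cfsg.compLabel μ i + 1) ≤ PS μ s := PS_mono μ (by omega)
      omega
    · intro h
      by_contra hc
      have : PS μ s ≤ PS μ (Cfsg.compLabel μ i) := PS_mono μ (by omega)
      omega
  rw [h1, Fin.card_filter_val_lt]
  have h2 : PS μ s ≤ n := by
    have := PS_mono μ hs
    rw [PS_top, hμ] at this
    exact this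
  exact min_eq_right h2

/-- the fixed cosets of a parabolic subgroup are the stable flags -/
theorem card_fixedBy_parabolic (μ : Fin n → ℕ) (hμ : ∑ i, μ i = n) (g : GL (Fin n) F) :
    Nat.card (MulAction.fixedBy (GL (Fin n) F ⧸ Cfsg.parabolicGL n F μ) g) =
      Nat.card {W : Fin (n + 1) → Submodule F (Fin n → F) // Monotone W ∧
        (∀ s : Fin (n + 1), Module.finrank F (W s) = PS μ s) ∧
        ∀ s, W s ∈ Module.End.invtSubmodule (Matrix.toLin' (g : Matrix (Fin n) (Fin n) F))} := by
  have ha : ∀ i, Cfsg.compLabel μ i < n := compLabel_lt μ hμ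
  rw [parabolicGL_eq, ← stabilizer_stdFlag _ ha, card_fixedBy_quotient_stabilizer]
  apply Nat.card_congr
  refine Equiv.subtypeEquiv ⟨Flg.sub, Flg.mk, fun _ => rfl, fun _ => rfl⟩ ?_
  intro W
  show (W ∈ MulAction.orbit (GL (Fin n) F) (stdFlag F (Cfsg.compLabel μ)) ∧ g • W = W) ↔
    (Monotone W.sub ∧ (∀ s : Fin (n + 1), Module.finrank F (W.sub s) = PS μ s) ∧
      ∀ s, W.sub s ∈ Module.End.invtSubmodule (Matrix.toLin' (g : Matrix (Fin n) (Fin n) F)))
  rw [mem_orbit_stdFlag_iff _ ha]
  have hk : ∀ s : Fin (n + 1),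
      (Finset.univ.filter fun i : Fin n => Cfsg.compLabel μ i < (s : ℕ)).card = PS μ s :=
    fun s => card_compLabel_lt μ hμ s (by have := s.2; omega)
  constructor
  · rintro ⟨⟨h1, h2⟩, h3⟩
    refine ⟨h1, fun s => by rw [h2, hk], ?_⟩
    intro s
    rw [Module.End.mem_invtSubmodule_iff_map_le]
    have := congrFun (congrArg Flg.sub h3) s
    rw [flg_smul_apply] at this
    exact le_of_eq this
  · rintro ⟨h1, h2, h3⟩
    refine ⟨⟨h1, fun s => by rw [h2, hk]⟩, ?_⟩
    apply Flg.ext
    funext s
    rw [flg_smul_apply]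
    apply Submodule.eq_of_le_of_finrank_eq
    · exact (Module.End.mem_invtSubmodule_iff_map_le _).mp (h3 s)
    · exact finrank_map_toLin' g (W.sub s)

end Cfsg.Agent.Lib.H12.Stv
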