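import Mathlib
import Cfsg.Agent.Lib.H12.StvP
import Cfsg.Agent.Lib.H12.StvM
import Cfsg.Agent.Lib.H12.StvH
import Cfsg.Agent.Lib.H12.SemiC

/-!
# The Steinberg character of `GL_n(q)` at semisimple elements: assembly (helper12)
-/

set_option autoImplicit false
open scoped MatrixGroups
open Matrix Polynomial IncidenceAlgebra Classical

namespace Cfsg.Agent.Lib.H12.Stv

open Cfsg.Agent.Lib.H12.DCos Cfsg.Agent.Lib.H12.Parab

section bridge

variable {F : Type*} [Field F] {V : Type*} [AddCommGroup V] [Module F V] (f : Module.End F V)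

/-- the dimension of a stable subspace -/
noncomputable def rk (Q : Submodule F[X] (Module.AEval' f)) : ℕ := Module.finrank F Q

theorem rk_map (p : (Algebra.lsmul F F V f).invtSubmodule) :
    rk f (Module.AEval.mapSubmodule F V f p) = Module.finrank F (p : Submodule F V) := by
  obtain ⟨p, hp⟩ := p
  exact (Module.AEval.equiv_mapSubmodule f p hp).finrank_eq.symm

theorem rk_eq (Q : Submodule F[X] (Module.AEval' f)) :
    rk f Q = Module.finrank F (((Module.AEval.mapSubmodule F V f).symm Q :
      (Algebra.lsmul F F V f).invtSubmodule) : Submodule F V) := by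
  obtain ⟨p, rfl⟩ := (Module.AEval.mapSubmodule F V f).surjective Q
  rw [rk_map, OrderIso.symm_apply_apply]

theorem rk_strictMono [FiniteDimensional F V] : StrictMono (rk f) := by
  intro Q Q' h
  rw [rk_eq, rk_eq]
  apply Submodule.finrank_lt_finrank_of_lt
  have := (Module.AEval.mapSubmodule F V f).symm.strictMono h
  exact this

theorem rk_bot : rk f ⊥ = 0 := by
  unfold rk
  exact Module.finrank_zero_of_subsingleton

theorem rk_top : rk f ⊤ = Module.finrank F V := by
  have h : (⊤ : Submodule F[X] (Module.AEval' f)) =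
      Module.AEval.mapSubmodule F V f ⊤ := (OrderIso.map_top _).symm
  rw [h, rk_map]
  exact finrank_top F V

theorem card_flags_eq_cnt [Fintype (Submodule F[X] (Module.AEval' f))] (n : ℕ) (k : ℕ → ℕ) :
    Nat.card {W : Fin (n + 1) → Submodule F V // Monotone W ∧
        (∀ s : Fin (n + 1), Module.finrank F (W s) = k s) ∧
        ∀ s, W s ∈ f.invtSubmodule} =
      cnt (rk f) n k (⊤ : Submodule F[X] (Module.AEval' f)) := by
  unfold cnt
  rw [← Nat.card_eq_fintype_card]
  apply Nat.card_congr
  exact
    { toFun := fun W => ⟨fun s => Module.AEval.mapSubmodule F V f ⟨W.1 s, W.2.2.2 s⟩, by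
        refine ⟨?_, fun _ => le_top, ?_⟩
        · intro s t hst
          apply (Module.AEval.mapSubmodule F V f).monotone
          exact W.2.1 hst
        · intro s
          exact (rk_map f ⟨W.1 s, W.2.2.2 s⟩).trans (W.2.2.1 s)⟩
      invFun := fun Q => ⟨fun s =>
          (((Module.AEval.mapSubmodule F V f).symm (Q.1 s) :
            (Algebra.lsmul F F V f).invtSubmodule) : Submodule F V), by
        refine ⟨?_, ?_, ?_⟩
        · intro s t hst
          exact (Module.AEval.mapSubmodule F V f).symm.monotone (Q.2.1 hst)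
        · intro s
          rw [← rk_eq]
          exact Q.2.2.2 s
        · intro s
          exact ((Module.AEval.mapSubmodule F V f).symm (Q.1 s)).2⟩
      left_inv := by
        rintro ⟨W, hW⟩
        apply Subtype.ext
        funext s
        show (((Module.AEval.mapSubmodule F V f).symm
          (Module.AEval.mapSubmodule F V f ⟨W s, hW.2.2 s⟩) :
            (Algebra.lsmul F F V f).invtSubmodule) : Submodule F V) = W s
        rw [OrderIso.symm_apply_apply]
      right_inv := by
        rintro ⟨Q, hQ⟩
        apply Subtype.ext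
        funext s
        show Module.AEval.mapSubmodule F V f
          ⟨(((Module.AEval.mapSubmodule F V f).symm (Q s) :
            (Algebra.lsmul F F V f).invtSubmodule) : Submodule F V), _⟩ = Q s
        exact OrderIso.apply_symm_apply (Module.AEval.mapSubmodule F V f) (Q s) }

end bridge

section assembly

variable {F : Type*} [Field F] [Fintype F] {n : ℕ}

theorem steinberg_value_int (p : ℕ) [Fact p.Prime] [CharP F p] (x : GL (Fin n) F)
    (hx : (orderOf x).Coprime p) :
    Cfsg.unipotentCharacterGL n F (fun _ => 1) x =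
      (((-1 : ℤ) ^ n *
        ∏ φ ∈ (UniqueFactorizationMonoid.normalizedFactors
            (x : Matrix (Fin n) (Fin n) F).charpoly).toFinset,
          term (Fintype.card F) φ ((UniqueFactorizationMonoid.normalizedFactors
            (x : Matrix (Fin n) (Fin n) F).charpoly).count φ) : ℤ) : ℂ) := by
  set f : Module.End F (Fin n → F) := Matrix.toLin' (x : Matrix (Fin n) (Fin n) F) with hf
  have hss : f.IsSemisimple :=
    Cfsg.Agent.Lib.H12.Semi.isSemisimple_toLin'_of_orderOf_coprime p x hx
  haveI : Finite (Module.AEval' f) := Finite.of_equiv _ (Module.AEval'.of f).toEquiv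
  letI : Fintype (Submodule F[X] (Module.AEval' f)) := Fintype.ofFinite _
  letI : LocallyFiniteOrder (Submodule F[X] (Module.AEval' f)) := Fintype.toLocallyFiniteOrder
  have h1 : ∀ κ : Equiv.Perm (Fin n),
      (if ∀ i : Fin n, (κ i).val ≤ 1 + i.val then
        ((Equiv.Perm.sign κ : ℤ) : ℂ) *
          Cfsg.fixedPointCharacter (Cfsg.parabolicGL n F fun i => 1 + i.val - (κ i).val) x
      else 0) =
      (((if Good κ then ((Equiv.Perm.sign κ : ℤˣ) : ℤ) *
          (cnt (rk f) n (PS (muOf κ)) (⊤ : Submodule F[X] (Module.AEval' f)) : ℤ) else 0) : ℤ) :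
        ℂ) := by
    intro κ
    by_cases hg : Good κ
    · rw [if_pos hg, if_pos (show ∀ i : Fin n, (κ i).val ≤ 1 + i.val from hg)]
      have h2 := card_fixedBy_parabolic (muOf κ) (sum_muOf κ hg) x
      rw [card_flags_eq_cnt] at h2
      unfold Cfsg.fixedPointCharacter
      have h3 : (Cfsg.parabolicGL n F fun i => 1 + i.val - (κ i).val) =
          Cfsg.parabolicGL n F (muOf κ) := rfl
      rw [h3, h2]
      push_cast
      rfl
    · rw [if_neg hg, if_neg (show ¬ ∀ i : Fin n, (κ i).val ≤ 1 + i.val from hg)]
      simp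
  unfold Cfsg.unipotentCharacterGL
  rw [Finset.sum_congr rfl (fun κ _ => h1 κ), ← Int.cast_sum,
    alt_sum_eq_mu (rk f) (rk_strictMono f) (rk_bot f) n n le_rfl ⊤ (by rw [rk_top]; simp),
    semisimple_mu hss, Matrix.charpoly_toLin']

end assembly

end Cfsg.Agent.Lib.H12.Stv
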