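import Mathlib
import Cfsg.Agent.Lib.H12.StvQ

/-!
# The Steinberg character of `GL_n(q)` at semisimple elements: the final form (helper12)
-/

set_option autoImplicit false
open scoped MatrixGroups
open Matrix Polynomial

namespace Cfsg.Agent.Lib.H12.Stv

variable {F : Type*} [Field F] [Fintype F] {n : ℕ}

theorem natDegree_eq_sum_count [DecidableEq F] [DecidableEq F[X]] (P : F[X]) (hP : P.Monic) :
    P.natDegree = ∑ φ ∈ (UniqueFactorizationMonoid.normalizedFactors P).toFinset,
      (UniqueFactorizationMonoid.normalizedFactors P).count φ * φ.natDegree := by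
  have h1 : (UniqueFactorizationMonoid.normalizedFactors P).prod = P := by
    rw [UniqueFactorizationMonoid.prod_normalizedFactors_eq hP.ne_zero, hP.normalize_eq_self]
  conv_lhs => rw [← h1]
  rw [Polynomial.natDegree_multiset_prod _
    (UniqueFactorizationMonoid.zero_notMem_normalizedFactors P), Finset.sum_multiset_map_count]
  rfl

theorem term_sign (d m : ℕ) (hd : 0 < d) :
    (-1 : ℂ) ^ (m * d) * (-1 : ℂ) ^ m = (-1 : ℂ) ^ ((d - 1) * m) := by
  obtain ⟨e, rfl⟩ : ∃ e, d = e + 1 := ⟨d - 1, by omega⟩
  rw [Nat.add_sub_cancel, ← pow_add]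
  have : m * (e + 1) + m = e * m + 2 * m := by ring
  rw [this, pow_add, pow_mul (-1 : ℂ) 2 m]
  norm_num

theorem term_exp (d m : ℕ) : d * m * (m - 1) / 2 = d * (m * (m - 1) / 2) := by
  rw [mul_assoc]
  exact Nat.mul_div_assoc d (Nat.even_mul_pred_self m).two_dvd

theorem steinberg_value [instF : DecidableEq F] [inst : DecidableEq F[X]] {q : ℕ}
    (hq : Fintype.card F = q) (p : ℕ)
    [Fact p.Prime] [CharP F p] (x : GL (Fin n) F) (hx : (orderOf x).Coprime p) :
    Cfsg.unipotentCharacterGL n F (fun _ => 1) x =
      ∏ f ∈ (UniqueFactorizationMonoid.normalizedFactors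
          (x : Matrix (Fin n) (Fin n) F).charpoly).toFinset,
        (-1 : ℂ) ^ ((f.natDegree - 1) * (UniqueFactorizationMonoid.normalizedFactors
          (x : Matrix (Fin n) (Fin n) F).charpoly).count f) *
          (q : ℂ) ^ (f.natDegree * (UniqueFactorizationMonoid.normalizedFactors
            (x : Matrix (Fin n) (Fin n) F).charpoly).count f *
            ((UniqueFactorizationMonoid.normalizedFactors
              (x : Matrix (Fin n) (Fin n) F).charpoly).count f - 1) / 2) := by
  have hmonic : (x : Matrix (Fin n) (Fin n) F).charpoly.Monic := Matrix.charpoly_monic _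
  have hn : n = ∑ φ ∈ (UniqueFactorizationMonoid.normalizedFactors
        (x : Matrix (Fin n) (Fin n) F).charpoly).toFinset,
      (UniqueFactorizationMonoid.normalizedFactors
        (x : Matrix (Fin n) (Fin n) F).charpoly).count φ * φ.natDegree := by
    rw [← natDegree_eq_sum_count _ hmonic, Matrix.charpoly_natDegree_eq_dim,
      Fintype.card_fin]
  have hpow : (-1 : ℂ) ^ n = ∏ φ ∈ (UniqueFactorizationMonoid.normalizedFactors
        (x : Matrix (Fin n) (Fin n) F).charpoly).toFinset,
      (-1 : ℂ) ^ ((UniqueFactorizationMonoid.normalizedFactors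
        (x : Matrix (Fin n) (Fin n) F).charpoly).count φ * φ.natDegree) := by
    rw [Finset.prod_pow_eq_pow_sum, ← hn]
  have hmain : Cfsg.unipotentCharacterGL n F (fun _ => 1) x =
      (((-1 : ℤ) ^ n *
        ∏ φ ∈ (UniqueFactorizationMonoid.normalizedFactors
            (x : Matrix (Fin n) (Fin n) F).charpoly).toFinset,
          term (Fintype.card F) φ ((UniqueFactorizationMonoid.normalizedFactors
            (x : Matrix (Fin n) (Fin n) F).charpoly).count φ) : ℤ) : ℂ) := by
    convert steinberg_value_int p x hx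
  rw [hmain]
  push_cast
  rw [hpow, ← Finset.prod_mul_distrib]
  apply Finset.prod_congr rfl
  intro φ hφ
  have hirr : Irreducible φ :=
    UniqueFactorizationMonoid.irreducible_of_normalized_factor φ (Multiset.mem_toFinset.mp hφ)
  have hd : 0 < φ.natDegree := hirr.natDegree_pos
  unfold term
  push_cast
  rw [← mul_assoc, term_sign _ _ hd, term_exp, hq, ← pow_mul]

end Cfsg.Agent.Lib.H12.Stv
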