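import Mathlib
import Cfsg.Agent.Lib.H12.StPSLA
import Cfsg.Agent.Lib.H12.UniD
import Cfsg.Agent.Lib.H2.PSLCard
import Cfsg.Agent.Lib.H23.DefectZero
import Cfsg.Agent.Lib.H24.CharDefl
import Cfsg.Agent.S2425

/-!
# The Steinberg character of `PSL_n(F)` (helper12)
-/

set_option autoImplicit false

namespace Cfsg.Agent.Lib.H12.StPSL

open Matrix Cfsg.Agent.Lib.L0 Cfsg.Agent.Lib.H12
open scoped ComplexConjugate

section general

variable {G : Type*} [Group G]

theorem fpc_central (H : Subgroup G) (g : G) (hg : g ∈ H) (hc : ∀ x : G, g * x = x * g) :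
    Cfsg.fixedPointCharacter H g = Cfsg.fixedPointCharacter H 1 := by
  unfold Cfsg.fixedPointCharacter
  have h1 : MulAction.fixedBy (G ⧸ H) g = MulAction.fixedBy (G ⧸ H) (1 : G) := by
    ext x
    induction x using QuotientGroup.induction_on with
    | H x =>
      simp only [MulAction.mem_fixedBy, one_smul, iff_true]
      change ((g * x : G) : G ⧸ H) = (x : G ⧸ H)
      rw [QuotientGroup.eq]
      have : (g * x)⁻¹ * x = g⁻¹ := by
        rw [hc x]
        group
      rw [this]
      exact H.inv_mem hg
  rw [h1]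

end general

variable {F : Type*} [Field F] {n : ℕ}

/-- the Steinberg character of `GL_n` -/
noncomputable def StGL (n : ℕ) (F : Type*) [Field F] : GL (Fin n) F → ℂ :=
  Cfsg.unipotentCharacterGL n F (fun _ => 1)

theorem scalar_mem_parabolic (μ : Fin n → ℕ) (g : GL (Fin n) F) (c : F)
    (hg : (g : Matrix (Fin n) (Fin n) F) = Matrix.scalar (Fin n) c) :
    g ∈ Cfsg.parabolicGL n F μ := by
  change (g : Matrix (Fin n) (Fin n) F).BlockTriangular (Cfsg.compLabel μ)
  rw [hg]
  intro i j hij
  have hne : i ≠ j := by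
    rintro rfl
    exact lt_irrefl _ hij
  simp [Matrix.scalar_apply, Matrix.diagonal_apply_ne _ hne]

theorem StGL_central (g : GL (Fin n) F) (c : F)
    (hg : (g : Matrix (Fin n) (Fin n) F) = Matrix.scalar (Fin n) c) :
    StGL n F g = StGL n F 1 := by
  have hc : ∀ x : GL (Fin n) F, g * x = x * g := by
    intro x
    apply Units.ext
    rw [Units.val_mul, Units.val_mul, hg]
    exact (Matrix.scalar_commute c (fun r => mul_comm c r) _)
  unfold StGL Cfsg.unipotentCharacterGL
  apply Finset.sum_congr rfl
  intro κ _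
  split_ifs with h
  · rw [fpc_central _ g (scalar_mem_parabolic _ g c hg) hc]
  · rfl

section fin

variable [Fintype F] [DecidableEq F]

theorem StGL_irr : Cfsg.IsIrrCharacter (GL (Fin n) F) (StGL n F) := by
  apply Cfsg.Agent.Lib.H12.Uni.isIrrCharacter_unipotent
  · intro i j _
    exact le_refl _
  · simp

theorem StGL_ne_zero (p : ℕ) [Fact p.Prime] [CharP F p] (x : GL (Fin n) F) (hx : (orderOf x).Coprime p) : StGL n F x ≠ 0 := by
  unfold StGL
  rw [Cfsg.Agent.S2425.result rfl p x hx, Finset.prod_ne_zero_iff]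
  intro f _
  apply mul_ne_zero
  · exact pow_ne_zero _ (by norm_num)
  · apply pow_ne_zero
    have : 0 < Fintype.card F := Fintype.card_pos
    exact_mod_cast this.ne'

theorem StGL_one (p : ℕ) [Fact p.Prime] [CharP F p] (hn : 1 ≤ n) :
    StGL n F 1 = ((Fintype.card F ^ (n * (n - 1) / 2) : ℕ) : ℂ) := by
  unfold StGL
  have h1 : (orderOf (1 : GL (Fin n) F)).Coprime p := by
    rw [orderOf_one]
    exact Nat.coprime_one_left p
  rw [Cfsg.Agent.S2425.result rfl p (1 : GL (Fin n) F) h1]
  have hcp : ((1 : GL (Fin n) F) : Matrix (Fin n) (Fin n) F).charpoly =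
      (Polynomial.X - Polynomial.C (1 : F)) ^ n := by
    rw [Units.val_one, Matrix.charpoly_one, Fintype.card_fin, map_one]
  have hirr : Irreducible (Polynomial.X - Polynomial.C (1 : F)) := Polynomial.irreducible_X_sub_C 1
  have hnf : UniqueFactorizationMonoid.normalizedFactors
      ((Polynomial.X - Polynomial.C (1 : F)) ^ n) =
      n • ({Polynomial.X - Polynomial.C (1 : F)} : Multiset (Polynomial F)) := by
    rw [UniqueFactorizationMonoid.normalizedFactors_pow,
      UniqueFactorizationMonoid.normalizedFactors_irreducible hirr,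
      (Polynomial.monic_X_sub_C (1 : F)).normalize_eq_self]
  rw [hcp, hnf]
  have hn0 : n ≠ 0 := by omega
  rw [Multiset.toFinset_nsmul _ _ hn0, Multiset.toFinset_singleton, Finset.prod_singleton,
    Multiset.count_nsmul, Multiset.count_singleton_self, Polynomial.natDegree_X_sub_C]
  simp

end fin

end Cfsg.Agent.Lib.H12.StPSL
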