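/-
S2345 (10u): the minimal degree of `Ω⁺_{2n}(q)`, `n ≥ 4`, `q > 3` (architect helper12; blueprint tools/blueprints/S2345.md).
Common definitions: the Siegel parabolic of the maximal totally singular subspace `⟨e_i⟩`.

* `Alt n F`   : the additive group of alternating `n × n` matrices, as the range of `M ↦ M - Mᵀ`.
* `congE A`   : the congruence `S ↦ A S Aᵀ` of `Alt n F`, `A ∈ GL_n`.
* `pair T S`  : `∑_{i<j} T i j * S i j`;  `lamA χ₀ T` : the character `S ↦ χ₀ (pair T S)` of `Alt n F`.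
* `OG n F`    : the isometry group of `quadFormPlus n F`;  `OmG n F` : its commutator subgroup `Ω`.
* `uO S = [[1, S], [0, 1]]`, `lO A = [[A, 0], [0, A⁻ᵀ]]`, `sO i` (the swap `e_i ↔ f_i`) in `OG n F`.
* `sqGL n F`  : the matrices of `GL_n` with square determinant.
* `IsR2 T`    : `T ≠ 0` and `T = a bᵀ - b aᵀ`.
-/
import Mathlib
import Cfsg.Prelude.Def_Classical

set_option autoImplicit false

namespace Cfsg.Agent.Lib.H12.OPMin

open Matrix

variable {F : Type*} [Field F] {n : ℕ}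

/-! ## alternating matrices -/

/-- `M ↦ M - Mᵀ` -/
def altHom (n : ℕ) (F : Type*) [Field F] :
    Matrix (Fin n) (Fin n) F →+ Matrix (Fin n) (Fin n) F where
  toFun M := M - Mᵀ
  map_zero' := by simp
  map_add' M N := by rw [transpose_add]; abel

@[simp] theorem altHom_apply (M : Matrix (Fin n) (Fin n) F) : altHom n F M = M - Mᵀ := rfl

/-- the alternating `n × n` matrices (`Sᵀ = -S` with zero diagonal): the range of `M ↦ M - Mᵀ` -/
def Alt (n : ℕ) (F : Type*) [Field F] : AddSubgroup (Matrix (Fin n) (Fin n) F) := (altHom n F).range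

theorem mem_Alt {S : Matrix (Fin n) (Fin n) F} : S ∈ Alt n F ↔ ∃ M : Matrix (Fin n) (Fin n) F, M - Mᵀ = S :=
  AddMonoidHom.mem_range

theorem sub_transpose_mem (M : Matrix (Fin n) (Fin n) F) : M - Mᵀ ∈ Alt n F := mem_Alt.2 ⟨M, rfl⟩

theorem transpose_of_mem {S : Matrix (Fin n) (Fin n) F} (hS : S ∈ Alt n F) : Sᵀ = -S := by
  obtain ⟨M, rfl⟩ := mem_Alt.1 hS
  rw [transpose_sub, transpose_transpose, neg_sub]

theorem diag_of_mem {S : Matrix (Fin n) (Fin n) F} (hS : S ∈ Alt n F) (i : Fin n) : S i i = 0 := by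
  obtain ⟨M, rfl⟩ := mem_Alt.1 hS
  simp

theorem apply_swap_of_mem {S : Matrix (Fin n) (Fin n) F} (hS : S ∈ Alt n F) (i j : Fin n) :
    S j i = -S i j := by
  have h := congrFun (congrFun (transpose_of_mem hS) i) j
  simpa using h

/-- `(S y) ⬝ y = 0` for alternating `S` (any characteristic) -/
theorem mulVec_dotProduct_self {S : Matrix (Fin n) (Fin n) F} (hS : S ∈ Alt n F) (y : Fin n → F) :
    (S *ᵥ y) ⬝ᵥ y = 0 := by
  obtain ⟨M, rfl⟩ := mem_Alt.1 hS
  rw [sub_mulVec, sub_dotProduct, sub_eq_zero, mulVec_transpose, ← dotProduct_mulVec, dotProduct_comm]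

theorem cong_mem (A : Matrix (Fin n) (Fin n) F) {S : Matrix (Fin n) (Fin n) F} (hS : S ∈ Alt n F) :
    A * S * Aᵀ ∈ Alt n F := by
  obtain ⟨M, rfl⟩ := mem_Alt.1 hS
  refine mem_Alt.2 ⟨A * M * Aᵀ, ?_⟩
  rw [transpose_mul, transpose_mul, transpose_transpose, Matrix.mul_sub, Matrix.sub_mul, Matrix.mul_assoc A Mᵀ]

/-- the congruence `S ↦ A S Aᵀ` -/
def congA (A : Matrix (Fin n) (Fin n) F) : Alt n F →+ Alt n F where
  toFun S := ⟨A * S.1 * Aᵀ, cong_mem A S.2⟩
  map_zero' := by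
    apply Subtype.ext
    show A * (0 : Matrix (Fin n) (Fin n) F) * Aᵀ = 0
    rw [Matrix.mul_zero, Matrix.zero_mul]
  map_add' S S' := by
    apply Subtype.ext
    show A * (S.1 + S'.1) * Aᵀ = A * S.1 * Aᵀ + A * S'.1 * Aᵀ
    rw [Matrix.mul_add, Matrix.add_mul]

@[simp] theorem congA_val (A : Matrix (Fin n) (Fin n) F) (S : Alt n F) :
    ((congA A S : Alt n F) : Matrix (Fin n) (Fin n) F) = A * S.1 * Aᵀ := rfl

theorem congA_mul (A B : Matrix (Fin n) (Fin n) F) (S : Alt n F) : congA (A * B) S = congA A (congA B S) := by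
  apply Subtype.ext
  simp only [congA_val, transpose_mul, Matrix.mul_assoc]

theorem congA_one (S : Alt n F) : congA (1 : Matrix (Fin n) (Fin n) F) S = S := by
  apply Subtype.ext
  simp

/-- the congruence `S ↦ A S Aᵀ`, `A` invertible -/
def congE (A : GL (Fin n) F) : Alt n F ≃+ Alt n F where
  toFun := congA (A : Matrix (Fin n) (Fin n) F)
  invFun := congA ((A⁻¹ : GL (Fin n) F) : Matrix (Fin n) (Fin n) F)
  left_inv S := by
    rw [← congA_mul, ← Units.val_mul, inv_mul_cancel, Units.val_one, congA_one]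
  right_inv S := by
    rw [← congA_mul, ← Units.val_mul, mul_inv_cancel, Units.val_one, congA_one]
  map_add' := (congA (A : Matrix (Fin n) (Fin n) F)).map_add

@[simp] theorem congE_val (A : GL (Fin n) F) (S : Alt n F) :
    ((congE A S : Alt n F) : Matrix (Fin n) (Fin n) F) = A.1 * S.1 * A.1ᵀ := rfl

@[simp] theorem congE_symm_val (A : GL (Fin n) F) (S : Alt n F) :
    (((congE A).symm S : Alt n F) : Matrix (Fin n) (Fin n) F) =
      (A⁻¹ : GL (Fin n) F).1 * S.1 * (A⁻¹ : GL (Fin n) F).1ᵀ := rfl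

theorem congE_mul (A B : GL (Fin n) F) (S : Alt n F) : congE (A * B) S = congE A (congE B S) :=
  congA_mul _ _ S

/-! ## the pairing and the characters of `Alt n F` -/

/-- `pair T S = ∑_{i<j} T i j * S i j` -/
def pair (T S : Matrix (Fin n) (Fin n) F) : F := ∑ i, ∑ j, if i < j then T i j * S i j else 0

theorem pair_add_right (T S S' : Matrix (Fin n) (Fin n) F) : pair T (S + S') = pair T S + pair T S' := by
  unfold pair
  rw [← Finset.sum_add_distrib]
  refine Finset.sum_congr rfl fun i _ => ?_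
  rw [← Finset.sum_add_distrib]
  refine Finset.sum_congr rfl fun j _ => ?_
  split_ifs
  · rw [Matrix.add_apply, mul_add]
  · rw [add_zero]

theorem pair_zero_right (T : Matrix (Fin n) (Fin n) F) : pair T 0 = 0 := by
  unfold pair
  simp

/-- `lamA χ₀ T : S ↦ χ₀ (pair T S)` -/
def lamA (χ₀ : AddChar F ℂ) (T : Matrix (Fin n) (Fin n) F) : AddChar (Alt n F) ℂ :=
  χ₀.compAddMonoidHom
    { toFun := fun S => pair T S.1
      map_zero' := pair_zero_right T
      map_add' := fun S S' => pair_add_right T S.1 S'.1 }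

@[simp] theorem lamA_apply (χ₀ : AddChar F ℂ) (T : Matrix (Fin n) (Fin n) F) (S : Alt n F) :
    lamA χ₀ T S = χ₀ (pair T S.1) := rfl

/-- rank two: `T ≠ 0` and `T = a bᵀ - b aᵀ` -/
def IsR2 (T : Matrix (Fin n) (Fin n) F) : Prop :=
  T ≠ 0 ∧ ∃ a b : Fin n → F, T = vecMulVec a b - vecMulVec b a

/-! ## the orthogonal group -/

/-- the isometry group `O⁺_{2n}(F)` of `∑ x_i y_i` -/
abbrev OG (n : ℕ) (F : Type*) [Field F] : Type _ := ↥(Cfsg.isometryGroup F (Cfsg.quadFormPlus n F))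

/-- `Ω⁺_{2n}(F)`, the commutator subgroup of `OG n F` -/
abbrev OmG (n : ℕ) (F : Type*) [Field F] : Type _ := ↥(Cfsg.Omega F (Cfsg.quadFormPlus n F))

theorem mem_isometryGroup_iff (g : GL (Fin n ⊕ Fin n) F) :
    g ∈ Cfsg.isometryGroup F (Cfsg.quadFormPlus n F) ↔
      ∀ v, Cfsg.quadFormPlus n F ((g : Matrix (Fin n ⊕ Fin n) (Fin n ⊕ Fin n) F) *ᵥ v) =
        Cfsg.quadFormPlus n F v :=
  ⟨fun h v => h v v, fun h v _ => h v⟩

theorem quadFormPlus_eq (v : Fin n ⊕ Fin n → F) :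
    Cfsg.quadFormPlus n F v = (fun i => v (Sum.inl i)) ⬝ᵥ (fun i => v (Sum.inr i)) := rfl

theorem quadFormPlus_elim (x y : Fin n → F) : Cfsg.quadFormPlus n F (Sum.elim x y) = x ⬝ᵥ y := rfl

omit [Field F] in
theorem elim_comp (v : Fin n ⊕ Fin n → F) : Sum.elim (v ∘ Sum.inl) (v ∘ Sum.inr) = v :=
  Sum.elim_comp_inl_inr v

/-- an element of `OG n F` from a matrix, a two-sided inverse and the invariance of the form -/
def mkO (M M' : Matrix (Fin n ⊕ Fin n) (Fin n ⊕ Fin n) F) (h₁ : M * M' = 1) (h₂ : M' * M = 1)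
    (hQ : ∀ v, Cfsg.quadFormPlus n F (M *ᵥ v) = Cfsg.quadFormPlus n F v) : OG n F :=
  ⟨⟨M, M', h₁, h₂⟩, (mem_isometryGroup_iff _).2 hQ⟩

@[simp] theorem mkO_val (M M' : Matrix (Fin n ⊕ Fin n) (Fin n ⊕ Fin n) F) (h₁ : M * M' = 1) (h₂ : M' * M = 1)
    (hQ : ∀ v, Cfsg.quadFormPlus n F (M *ᵥ v) = Cfsg.quadFormPlus n F v) :
    ((mkO M M' h₁ h₂ hQ : OG n F) : GL (Fin n ⊕ Fin n) F).1 = M := rfl

/-- two elements of `OG n F` with the same matrix are equal -/
theorem OG_ext {g h : OG n F}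
    (H : ((g : GL (Fin n ⊕ Fin n) F) : Matrix (Fin n ⊕ Fin n) (Fin n ⊕ Fin n) F) =
      ((h : GL (Fin n ⊕ Fin n) F) : Matrix (Fin n ⊕ Fin n) (Fin n ⊕ Fin n) F)) : g = h :=
  Subtype.ext (Units.ext H)

/-- the matrix `[[1, S], [0, 1]]` -/
def uMat (S : Matrix (Fin n) (Fin n) F) : Matrix (Fin n ⊕ Fin n) (Fin n ⊕ Fin n) F := fromBlocks 1 S 0 1

theorem uMat_mul (S S' : Matrix (Fin n) (Fin n) F) : uMat S * uMat S' = uMat (S + S') := by
  unfold uMat
  rw [fromBlocks_multiply]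
  simp [add_comm]

theorem uMat_zero : uMat (0 : Matrix (Fin n) (Fin n) F) = 1 := by
  unfold uMat
  exact fromBlocks_one

theorem quadFormPlus_uMat {S : Matrix (Fin n) (Fin n) F} (hS : S ∈ Alt n F) (v : Fin n ⊕ Fin n → F) :
    Cfsg.quadFormPlus n F (uMat S *ᵥ v) = Cfsg.quadFormPlus n F v := by
  rw [← elim_comp v, uMat, fromBlocks_mulVec, quadFormPlus_elim, quadFormPlus_elim]
  simp only [Sum.elim_comp_inl, Sum.elim_comp_inr, one_mulVec, zero_mulVec, zero_add, add_dotProduct,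
    mulVec_dotProduct_self hS, add_zero]

/-- `uO S = [[1, S], [0, 1]]` -/
def uO (S : Alt n F) : OG n F :=
  mkO (uMat S.1) (uMat (-S.1)) (by rw [uMat_mul, add_neg_cancel, uMat_zero])
    (by rw [uMat_mul, neg_add_cancel, uMat_zero]) (quadFormPlus_uMat S.2)

@[simp] theorem uO_val (S : Alt n F) : ((uO S : OG n F) : GL (Fin n ⊕ Fin n) F).1 = uMat S.1 := rfl

theorem uO_add (S S' : Alt n F) : uO (S + S') = uO S * uO S' := by
  apply OG_ext
  show uMat (S.1 + S'.1) = uMat S.1 * uMat S'.1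
  rw [uMat_mul]

theorem uO_injective : Function.Injective (uO : Alt n F → OG n F) := by
  intro S S' h
  have h1 : uMat S.1 = uMat S'.1 := congrArg (fun g : OG n F => (g : GL (Fin n ⊕ Fin n) F).1) h
  apply Subtype.ext
  unfold uMat at h1
  exact (fromBlocks_inj.1 h1).2.1

/-- the matrix `[[A, 0], [0, (A⁻¹)ᵀ]]` -/
def lMat (A : GL (Fin n) F) : Matrix (Fin n ⊕ Fin n) (Fin n ⊕ Fin n) F :=
  fromBlocks A.1 0 0 ((A⁻¹ : GL (Fin n) F).1)ᵀ

theorem lMat_mul (A B : GL (Fin n) F) : lMat A * lMat B = lMat (A * B) := by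
  unfold lMat
  rw [fromBlocks_multiply]
  simp [transpose_mul]

theorem lMat_one : lMat (1 : GL (Fin n) F) = 1 := by
  unfold lMat
  simp [fromBlocks_one]

theorem quadFormPlus_lMat (A : GL (Fin n) F) (v : Fin n ⊕ Fin n → F) :
    Cfsg.quadFormPlus n F (lMat A *ᵥ v) = Cfsg.quadFormPlus n F v := by
  rw [← elim_comp v, lMat, fromBlocks_mulVec, quadFormPlus_elim, quadFormPlus_elim]
  simp only [Sum.elim_comp_inl, Sum.elim_comp_inr, zero_mulVec, zero_add, add_zero]
  rw [mulVec_transpose, dotProduct_comm, ← dotProduct_mulVec, mulVec_mulVec, ← Units.val_mul,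
    inv_mul_cancel, Units.val_one, one_mulVec, dotProduct_comm]

/-- `lO A = [[A, 0], [0, (A⁻¹)ᵀ]]` -/
def lO : GL (Fin n) F →* OG n F where
  toFun A := mkO (lMat A) (lMat A⁻¹) (by rw [lMat_mul, mul_inv_cancel, lMat_one])
    (by rw [lMat_mul, inv_mul_cancel, lMat_one]) (quadFormPlus_lMat A)
  map_one' := by
    apply OG_ext
    show lMat (1 : GL (Fin n) F) = 1
    exact lMat_one
  map_mul' A B := by
    apply OG_ext
    show lMat (A * B) = lMat A * lMat B
    rw [lMat_mul]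

@[simp] theorem lO_val (A : GL (Fin n) F) : ((lO A : OG n F) : GL (Fin n ⊕ Fin n) F).1 = lMat A := rfl

/-- the Levi factor normalises the radical, acting by congruence -/
theorem lO_conj (A : GL (Fin n) F) (S : Alt n F) : lO A * uO S * (lO A)⁻¹ = uO (congE A S) := by
  rw [mul_inv_eq_iff_eq_mul]
  apply OG_ext
  show lMat A * uMat S.1 = uMat (A.1 * S.1 * A.1ᵀ) * lMat A
  unfold lMat uMat
  rw [fromBlocks_multiply, fromBlocks_multiply]
  congr 1
  · simp
  · simp only [Matrix.mul_zero, zero_add, add_zero, Matrix.mul_one]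
    rw [Matrix.mul_assoc, Matrix.mul_assoc, ← transpose_mul, ← Units.val_mul, inv_mul_cancel, Units.val_one,
      transpose_one, Matrix.mul_one]
  · simp
  · simp

/-- the swap `e_i ↔ f_i` as a permutation matrix -/
def sMat (i : Fin n) : Matrix (Fin n ⊕ Fin n) (Fin n ⊕ Fin n) F :=
  (Equiv.swap (Sum.inl i : Fin n ⊕ Fin n) (Sum.inr i)).toPEquiv.toMatrix

theorem sMat_mulVec (i : Fin n) (v : Fin n ⊕ Fin n → F) :
    sMat i *ᵥ v = v ∘ (Equiv.swap (Sum.inl i : Fin n ⊕ Fin n) (Sum.inr i)) := by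
  ext k
  unfold sMat
  rw [PEquiv.toMatrix_toPEquiv_mulVec]

theorem sMat_mul_self (i : Fin n) : sMat (F := F) i * sMat i = 1 := by
  unfold sMat
  rw [← PEquiv.toMatrix_trans, ← Equiv.toPEquiv_trans, Equiv.swap_swap, Equiv.toPEquiv_refl,
    PEquiv.toMatrix_refl]

theorem quadFormPlus_sMat (i : Fin n) (v : Fin n ⊕ Fin n → F) :
    Cfsg.quadFormPlus n F (sMat i *ᵥ v) = Cfsg.quadFormPlus n F v := by
  classical
  rw [sMat_mulVec]
  unfold Cfsg.quadFormPlus
  refine Finset.sum_congr rfl fun k _ => ?_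
  by_cases hk : k = i
  · subst hk
    simp [mul_comm]
  · have h1 : Equiv.swap (Sum.inl i : Fin n ⊕ Fin n) (Sum.inr i) (Sum.inl k) = Sum.inl k :=
      Equiv.swap_apply_of_ne_of_ne (by simpa using hk) (by simp)
    have h2 : Equiv.swap (Sum.inl i : Fin n ⊕ Fin n) (Sum.inr i) (Sum.inr k) = Sum.inr k :=
      Equiv.swap_apply_of_ne_of_ne (by simp) (by simpa using hk)
    simp only [Function.comp_apply, h1, h2]

/-- the swap `e_i ↔ f_i` (a reflection) -/
def sO (i : Fin n) : OG n F :=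
  mkO (sMat i) (sMat i) (sMat_mul_self i) (sMat_mul_self i) (quadFormPlus_sMat i)

@[simp] theorem sO_val (i : Fin n) : ((sO i : OG n F) : GL (Fin n ⊕ Fin n) F).1 = sMat i := rfl

/-- the matrices of `GL_n` with square determinant -/
def sqGL (n : ℕ) (F : Type*) [Field F] : Subgroup (GL (Fin n) F) :=
  (MonoidHom.range (powMonoidHom 2 : Fˣ →* Fˣ)).comap Matrix.GeneralLinearGroup.det

theorem mem_sqGL {A : GL (Fin n) F} : A ∈ sqGL n F ↔ ∃ c : Fˣ, c ^ 2 = Matrix.GeneralLinearGroup.det A := by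
  unfold sqGL
  rw [Subgroup.mem_comap, MonoidHom.mem_range]
  rfl

/-- the transpose of an invertible matrix -/
def trGL (A : GL (Fin n) F) : GL (Fin n) F :=
  ⟨A.1ᵀ, (A⁻¹ : GL (Fin n) F).1ᵀ, by rw [← transpose_mul, ← Units.val_mul, inv_mul_cancel, Units.val_one, transpose_one],
    by rw [← transpose_mul, ← Units.val_mul, mul_inv_cancel, Units.val_one, transpose_one]⟩

@[simp] theorem trGL_val (A : GL (Fin n) F) : (trGL A).1 = A.1ᵀ := rfl

theorem trGL_inv (A : GL (Fin n) F) : (trGL A)⁻¹ = trGL A⁻¹ := by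
  apply Units.ext
  rfl

theorem trGL_trGL (A : GL (Fin n) F) : trGL (trGL A) = A := by
  apply Units.ext
  simp

theorem det_trGL (A : GL (Fin n) F) :
    Matrix.GeneralLinearGroup.det (trGL A) = Matrix.GeneralLinearGroup.det A := by
  apply Units.ext
  simp [Matrix.GeneralLinearGroup.val_det_apply]

theorem trGL_mem_sqGL {A : GL (Fin n) F} (hA : A ∈ sqGL n F) : trGL A ∈ sqGL n F := by
  rw [mem_sqGL] at hA ⊢
  rw [det_trGL]
  exact hA

/-- the action of the Levi factor on the characters: `ψ_T ∘ (congE A)⁻¹ = ψ_{A⁻ᵀ T A⁻¹}`, given the adjointness of the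
pairing -/
theorem lamA_comp_congE (hpair : ∀ (B T S : Matrix (Fin n) (Fin n) F), T ∈ Alt n F → S ∈ Alt n F →
      pair T (B * S * Bᵀ) = pair (Bᵀ * T * B) S)
    (χ₀ : AddChar F ℂ) (T : Alt n F) (A : GL (Fin n) F) :
    (lamA χ₀ T.1).compAddMonoidHom ((congE A).symm : Alt n F →+ Alt n F) =
      lamA χ₀ (congE (trGL A⁻¹) T).1 := by
  ext S
  rw [AddChar.compAddMonoidHom_apply, lamA_apply, lamA_apply]
  congr 1
  show pair T.1 ((A⁻¹ : GL (Fin n) F).1 * S.1 * (A⁻¹ : GL (Fin n) F).1ᵀ) = _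
  rw [hpair _ _ _ T.2 S.2]
  simp

/-- the `Fintype` structure on `Alt n F` used everywhere -/
noncomputable instance instFintypeAlt [Fintype F] : Fintype (Alt n F) := Fintype.ofFinite _

open Classical in
/-- the alternating matrices of rank two -/
noncomputable def R2set (n : ℕ) (F : Type*) [Field F] [Fintype F] : Finset (Alt n F) :=
  Finset.univ.filter (fun T : Alt n F => IsR2 T.1)

theorem mem_R2set [Fintype F] {T : Alt n F} : T ∈ R2set n F ↔ IsR2 T.1 := by
  classical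
  unfold R2set
  simp

/-- the number of alternating matrices of rank two -/
noncomputable def r2 (n : ℕ) (F : Type*) [Field F] [Fintype F] : ℕ := (R2set n F).card

/-! ## the distinguished elements, `n = m + 3` -/

/-- `X₀ = E₀₁ - E₁₀` -/
def X0 (m : ℕ) (F : Type*) [Field F] : Alt (m + 3) F :=
  ⟨Matrix.single 0 1 1 - (Matrix.single 0 1 (1 : F))ᵀ, sub_transpose_mem _⟩

/-- `A₀ = 1 + E₀₁` -/
def A0 (m : ℕ) (F : Type*) [Field F] : GL (Fin (m + 3)) F :=
  ⟨1 + Matrix.single 0 1 1, 1 - Matrix.single 0 1 1, by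
    rw [Matrix.add_mul, Matrix.mul_sub, Matrix.mul_sub, Matrix.one_mul, Matrix.mul_one,
      Matrix.single_mul_single_of_ne _ _ _ _ (by simp : (1 : Fin (m + 3)) ≠ 0)]
    simp, by
    rw [Matrix.sub_mul, Matrix.mul_add, Matrix.mul_add, Matrix.one_mul, Matrix.mul_one,
      Matrix.single_mul_single_of_ne _ _ _ _ (by simp : (1 : Fin (m + 3)) ≠ 0)]
    simp⟩

/-- `w = s₁ s₂` -/
def wO (m : ℕ) (F : Type*) [Field F] : OG (m + 3) F := sO 1 * sO 2

end Cfsg.Agent.Lib.H12.OPMin
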