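import Mathlib

/-!
# Level-set counts of functions on `ι → F`, orthogonal sums, and types (helper12)

`lvl Q c` is the number of vectors with `Q v = c`.  `IsTy Q b k` says that `Q` lives on a space of
dimension `2 b` and has the level counts of a quadratic form of type `(-1) ^ k`.  Types multiply
under orthogonal sums.
-/

set_option autoImplicit false

namespace Cfsg.Agent.Lib.H12.OrdO

open Finset

variable {F : Type*}

/-- number of solutions of `Q v = c` -/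
noncomputable def lvl {ι : Type} (Q : (ι → F) → F) (c : F) : ℕ := Nat.card {v : ι → F // Q v = c}

/-- orthogonal sum of two functions -/
def sumF [Add F] {ι₁ ι₂ : Type} (Q₁ : (ι₁ → F) → F) (Q₂ : (ι₂ → F) → F) : (ι₁ ⊕ ι₂ → F) → F :=
  fun v => Q₁ (v ∘ Sum.inl) + Q₂ (v ∘ Sum.inr)

theorem lvl_congr {ι κ : Type} (Q : (ι → F) → F) (Q' : (κ → F) → F) (Φ : (ι → F) ≃ (κ → F))
    (h : ∀ v, Q v = Q' (Φ v)) (c : F) : lvl Q c = lvl Q' c := by
  unfold lvl
  apply Nat.card_congr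
  exact Φ.subtypeEquiv (fun v => by rw [h])

theorem sum_lvl [Fintype F] {ι : Type} [Fintype ι] (Q : (ι → F) → F) :
    ∑ c : F, lvl Q c = Fintype.card F ^ Fintype.card ι := by
  classical
  unfold lvl
  have h1 : ∀ c : F, Nat.card {v : ι → F // Q v = c} =
      (univ.filter (fun v : ι → F => Q v = c)).card := by
    intro c
    rw [Nat.card_eq_fintype_card, Fintype.card_subtype]
  simp_rw [h1]
  rw [← Finset.card_eq_sum_card_fiberwise (f := Q) (s := univ) (t := univ) (fun v _ => mem_univ _),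
    Finset.card_univ, Fintype.card_fun]

theorem lvl_sumF [Field F] [Fintype F] {ι₁ ι₂ : Type} [Fintype ι₁] [Fintype ι₂]
    (Q₁ : (ι₁ → F) → F) (Q₂ : (ι₂ → F) → F) (c : F) :
    lvl (sumF Q₁ Q₂) c = ∑ d : F, lvl Q₁ d * lvl Q₂ (c - d) := by
  classical
  have e1 : {v : ι₁ ⊕ ι₂ → F // sumF Q₁ Q₂ v = c} ≃
      {p : (ι₁ → F) × (ι₂ → F) // Q₁ p.1 + Q₂ p.2 = c} :=
    (Equiv.sumArrowEquivProdArrow ι₁ ι₂ F).subtypeEquiv (fun v => Iff.rfl)
  have e2 : {p : (ι₁ → F) × (ι₂ → F) // Q₁ p.1 + Q₂ p.2 = c} ≃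
      Σ v₁ : ι₁ → F, {v₂ : ι₂ → F // Q₂ v₂ = c - Q₁ v₁} :=
    (Equiv.subtypeProdEquivSigmaSubtype (fun (v₁ : ι₁ → F) (v₂ : ι₂ → F) => Q₁ v₁ + Q₂ v₂ = c)).trans
      (Equiv.sigmaCongrRight (fun v₁ => Equiv.subtypeEquivRight (fun v₂ => by
        constructor
        · intro h; rw [← h]; ring
        · intro h; rw [h]; ring)))
  unfold lvl
  rw [Nat.card_congr (e1.trans e2), Nat.card_sigma]
  have h1 : (∑ v₁ : ι₁ → F, Nat.card {v₂ : ι₂ → F // Q₂ v₂ = c - Q₁ v₁}) =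
      ∑ d ∈ univ.image Q₁, (univ.filter (fun v : ι₁ → F => Q₁ v = d)).card •
        Nat.card {v₂ : ι₂ → F // Q₂ v₂ = c - d} :=
    Finset.sum_comp (fun d : F => Nat.card {v₂ : ι₂ → F // Q₂ v₂ = c - d}) Q₁
  rw [h1]
  rw [← Finset.sum_subset (Finset.subset_univ (univ.image Q₁))]
  · apply Finset.sum_congr rfl
    intro d _
    rw [smul_eq_mul, Nat.card_eq_fintype_card (α := {v : ι₁ → F // Q₁ v = d}),
      Fintype.card_subtype]
  · intro d _ hd
    have h0 : Nat.card {v : ι₁ → F // Q₁ v = d} = 0 := by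
      rw [Nat.card_eq_fintype_card, Fintype.card_eq_zero_iff]
      constructor
      rintro ⟨v, hv⟩
      exact hd (Finset.mem_image.mpr ⟨v, mem_univ _, hv⟩)
    rw [h0, zero_mul]


/-- `Q` has the level counts of a quadratic form of type `(-1)^k` in dimension `2 b` -/
structure IsTy [Field F] [Fintype F] {ι : Type} [Fintype ι] (Q : (ι → F) → F) (b k : ℕ) :
    Prop where
  card : Fintype.card ι = 2 * b
  zero : (Fintype.card F : ℤ) * lvl Q 0 = (Fintype.card F : ℤ) ^ (2 * b) +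
    (-1) ^ k * ((Fintype.card F : ℤ) ^ (b + 1) - (Fintype.card F : ℤ) ^ b)
  ne : ∀ c : F, c ≠ 0 → (Fintype.card F : ℤ) * lvl Q c = (Fintype.card F : ℤ) ^ (2 * b) -
    (-1) ^ k * (Fintype.card F : ℤ) ^ b

theorem sum_two_step [Field F] [Fintype F] [DecidableEq F] (α₁ β₁ α₂ β₂ : ℤ) (c : F) :
    ∑ d : F, (if d = 0 then α₁ else β₁) * (if c - d = 0 then α₂ else β₂) =
      if c = 0 then α₁ * α₂ + ((Fintype.card F : ℤ) - 1) * (β₁ * β₂)
      else α₁ * β₂ + β₁ * α₂ + ((Fintype.card F : ℤ) - 2) * (β₁ * β₂) := by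
  have h1 : ∀ d : F, (if d = 0 then α₁ else β₁) * (if c - d = 0 then α₂ else β₂) =
      β₁ * β₂ + (if d = 0 then (α₁ - β₁) * β₂ else 0) + (if d = c then β₁ * (α₂ - β₂) else 0) +
        (if d = 0 then (if d = c then (α₁ - β₁) * (α₂ - β₂) else 0) else 0) := by
    intro d
    have hcd : c - d = 0 ↔ d = c := by rw [sub_eq_zero, eq_comm]
    simp only [hcd]
    split_ifs <;> ring
  simp_rw [h1]
  rw [Finset.sum_add_distrib, Finset.sum_add_distrib, Finset.sum_add_distrib, Finset.sum_const,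
    Finset.card_univ, Finset.sum_ite_eq' univ (0 : F), Finset.sum_ite_eq' univ c,
    Finset.sum_ite_eq' univ (0 : F)]
  simp only [Finset.mem_univ, if_true, nsmul_eq_mul]
  by_cases hc : c = 0
  · rw [if_pos hc, if_pos hc.symm]; ring
  · rw [if_neg hc, if_neg (Ne.symm hc)]; ring

theorem IsTy.sum [Field F] [Fintype F] {ι₁ ι₂ : Type} [Fintype ι₁] [Fintype ι₂]
    {Q₁ : (ι₁ → F) → F} {Q₂ : (ι₂ → F) → F} {b₁ k₁ b₂ k₂ : ℕ}
    (h₁ : IsTy Q₁ b₁ k₁) (h₂ : IsTy Q₂ b₂ k₂) : IsTy (sumF Q₁ Q₂) (b₁ + b₂) (k₁ + k₂) := by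
  classical
  have hq0 : (Fintype.card F : ℤ) ≠ 0 := by
    have : 0 < Fintype.card F := Fintype.card_pos
    exact_mod_cast this.ne'
  have key : ∀ c : F, (Fintype.card F : ℤ) * ((Fintype.card F : ℤ) * lvl (sumF Q₁ Q₂) c) =
      ∑ d : F, (if d = 0 then (Fintype.card F : ℤ) * lvl Q₁ 0 else
          (Fintype.card F : ℤ) ^ (2 * b₁) - (-1) ^ k₁ * (Fintype.card F : ℤ) ^ b₁) *
        (if c - d = 0 then (Fintype.card F : ℤ) * lvl Q₂ 0 else
          (Fintype.card F : ℤ) ^ (2 * b₂) - (-1) ^ k₂ * (Fintype.card F : ℤ) ^ b₂) := by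
    intro c
    rw [lvl_sumF, Nat.cast_sum, Finset.mul_sum, Finset.mul_sum]
    apply Finset.sum_congr rfl
    intro d _
    have e1 : (if d = 0 then (Fintype.card F : ℤ) * lvl Q₁ 0 else
          (Fintype.card F : ℤ) ^ (2 * b₁) - (-1) ^ k₁ * (Fintype.card F : ℤ) ^ b₁) =
        (Fintype.card F : ℤ) * lvl Q₁ d := by
      by_cases hd : d = 0
      · rw [if_pos hd, hd]
      · rw [if_neg hd, h₁.ne d hd]
    have e2 : (if c - d = 0 then (Fintype.card F : ℤ) * lvl Q₂ 0 else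
          (Fintype.card F : ℤ) ^ (2 * b₂) - (-1) ^ k₂ * (Fintype.card F : ℤ) ^ b₂) =
        (Fintype.card F : ℤ) * lvl Q₂ (c - d) := by
      by_cases hd : c - d = 0
      · rw [if_pos hd, hd]
      · rw [if_neg hd, h₂.ne _ hd]
    rw [e1, e2, Nat.cast_mul]
    ring
  refine ⟨?_, ?_, ?_⟩
  · rw [Fintype.card_sum, h₁.card, h₂.card]; ring
  · apply mul_left_cancel₀ hq0
    rw [key, sum_two_step, if_pos rfl, h₁.zero, h₂.zero]
    ring
  · intro c hc
    apply mul_left_cancel₀ hq0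
    rw [key, sum_two_step, if_neg hc, h₁.zero, h₂.zero]
    ring

end Cfsg.Agent.Lib.H12.OrdO
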