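import Mathlib
import Cfsg.Prelude.Def_Classical
import Cfsg.Agent.Lib.H2.FiberCount
import Cfsg.Agent.Lib.H12.OrdOA

/-!
# Types of the standard quadratic forms (helper12)

`quadFormPlus k` has type `+`, an anisotropic binary form has type `-`, hence `quadFormMinus k`
has type `-`.
-/

set_option autoImplicit false

namespace Cfsg.Agent.Lib.H12.OrdO

open Finset Matrix

variable {F : Type*} [Field F] [Fintype F]

theorem IsTy.congr {ι κ : Type} [Fintype ι] [Fintype κ] {Q : (ι → F) → F} {Q' : (κ → F) → F}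
    {b k : ℕ} (h : IsTy Q b k) (Φ : (ι → F) ≃ (κ → F)) (hΦ : ∀ v, Q v = Q' (Φ v))
    (hc : Fintype.card κ = Fintype.card ι) : IsTy Q' b k := by
  refine ⟨by rw [hc, h.card], ?_, ?_⟩
  · rw [← lvl_congr Q Q' Φ hΦ]; exact h.zero
  · intro c hc'
    rw [← lvl_congr Q Q' Φ hΦ]; exact h.ne c hc'

theorem lvl_plus [DecidableEq F] (m : ℕ) (c : F) :
    lvl (Cfsg.quadFormPlus m F) c = (if c = 0 then Fintype.card F ^ m else 0) +
      (Fintype.card F ^ m - 1) * Fintype.card F ^ (m - 1) := by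
  have e : {v : Fin m ⊕ Fin m → F // Cfsg.quadFormPlus m F v = c} ≃
      {p : (Fin m → F) × (Fin m → F) // p.1 ⬝ᵥ p.2 = c} :=
    (Equiv.sumArrowEquivProdArrow (Fin m) (Fin m) F).subtypeEquiv (fun v => Iff.rfl)
  unfold lvl
  rw [Nat.card_congr e, Cfsg.Agent.Lib.H2.card_hyp m c]

theorem isTy_plus (m : ℕ) : IsTy (Cfsg.quadFormPlus m F) m 0 := by
  classical
  have hq : 1 ≤ Fintype.card F := Fintype.card_pos
  have h1 : 1 ≤ Fintype.card F ^ m := Nat.one_le_pow _ _ hq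
  refine ⟨?_, ?_, ?_⟩
  · rw [Fintype.card_sum, Fintype.card_fin]; ring
  · rw [lvl_plus, if_pos rfl]
    push_cast [Nat.cast_sub h1]
    rcases Nat.eq_zero_or_pos m with rfl | hm
    · simp
    · obtain ⟨j, rfl⟩ : ∃ j, m = j + 1 := ⟨m - 1, by omega⟩
      rw [Nat.add_sub_cancel]
      ring
  · intro c hc
    rw [lvl_plus, if_neg hc]
    push_cast [Nat.cast_sub h1]
    rcases Nat.eq_zero_or_pos m with rfl | hm
    · simp
    · obtain ⟨j, rfl⟩ : ∃ j, m = j + 1 := ⟨m - 1, by omega⟩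
      rw [Nat.add_sub_cancel]
      ring


/-- the binary form `z₀² + a z₀ z₁ + c z₁²` -/
def NF (a c : F) : (Fin 2 → F) → F := fun z => z 0 ^ 2 + a * z 0 * z 1 + c * z 1 ^ 2

/-- multiplication in `F[θ]`, `θ² = a θ - c` -/
def mulN (a c : F) (w z : Fin 2 → F) : Fin 2 → F :=
  ![w 0 * z 0 - c * w 1 * z 1, w 0 * z 1 + w 1 * z 0 + a * w 1 * z 1]

omit [Fintype F] in
theorem NF_mulN (a c : F) (w z : Fin 2 → F) : NF a c (mulN a c w z) = NF a c w * NF a c z := by
  simp only [NF, mulN, Matrix.cons_val_zero, Matrix.cons_val_one]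
  ring

omit [Fintype F] in
theorem mulN_sub (a c : F) (w z z' : Fin 2 → F) :
    mulN a c w (z - z') = mulN a c w z - mulN a c w z' := by
  funext i
  fin_cases i
  · simp only [mulN, Pi.sub_apply, Fin.zero_eta, Matrix.cons_val_zero]
    ring
  · simp only [mulN, Pi.sub_apply, Fin.mk_one, Matrix.cons_val_one, Matrix.cons_val_zero]
    ring

omit [Fintype F] in
theorem NF_eq_zero_iff (a c : F)
    (hac : ∀ z₁ z₂ : F, z₁ ^ 2 + a * z₁ * z₂ + c * z₂ ^ 2 = 0 → z₁ = 0 ∧ z₂ = 0)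
    (z : Fin 2 → F) : NF a c z = 0 ↔ z = 0 := by
  constructor
  · intro h
    obtain ⟨h0, h1⟩ := hac (z 0) (z 1) h
    funext i
    fin_cases i
    · exact h0
    · exact h1
  · rintro rfl
    simp [NF]

theorem lvl_NF_le (a c : F)
    (hac : ∀ z₁ z₂ : F, z₁ ^ 2 + a * z₁ * z₂ + c * z₂ ^ 2 = 0 → z₁ = 0 ∧ z₂ = 0)
    (w : Fin 2 → F) (hw : NF a c w ≠ 0) (e : F) :
    lvl (NF a c) e ≤ lvl (NF a c) (NF a c w * e) := by
  unfold lvl
  apply Nat.card_le_card_of_injective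
    (fun z : {z : Fin 2 → F // NF a c z = e} =>
      (⟨mulN a c w z.1, by rw [NF_mulN, z.2]⟩ : {z : Fin 2 → F // NF a c z = NF a c w * e}))
  intro z z' h
  have h1 : mulN a c w z.1 = mulN a c w z'.1 := congrArg Subtype.val h
  have h2 : mulN a c w (z.1 - z'.1) = 0 := by rw [mulN_sub, h1, sub_self]
  have h3 : NF a c w * NF a c (z.1 - z'.1) = 0 := by
    rw [← NF_mulN, h2]
    simp [NF]
  have h4 : NF a c (z.1 - z'.1) = 0 := (mul_eq_zero.mp h3).resolve_left hw
  have h5 := (NF_eq_zero_iff a c hac _).mp h4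
  exact Subtype.ext (sub_eq_zero.mp h5)

theorem NF_surjective (a c : F)
    (hac : ∀ z₁ z₂ : F, z₁ ^ 2 + a * z₁ * z₂ + c * z₂ ^ 2 = 0 → z₁ = 0 ∧ z₂ = 0) (e : F) :
    ∃ w : Fin 2 → F, NF a c w = e := by
  classical
  by_cases h2 : (2 : F) = 0
  · have : CharP F 2 := CharTwo.of_one_ne_zero_of_two_eq_zero one_ne_zero h2
    obtain ⟨s, hs⟩ := FiniteField.isSquare_of_char_two (F := F) (CharP.ringChar_of_prime_eq_zero Nat.prime_two (by exact_mod_cast h2)) e
    refine ⟨![s, 0], ?_⟩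
    simp only [NF, Matrix.cons_val_zero, Matrix.cons_val_one]
    rw [hs]; ring
  · have hD : a ^ 2 - 4 * c ≠ 0 := by
      intro hD
      have h3 := (hac (-a) 2 (by linear_combination -hD)).2
      exact h2 h3
    have hodd : Fintype.card F % 2 = 1 := by
      apply FiniteField.odd_card_of_char_ne_two
      intro h
      apply h2
      have := ringChar.Nat.cast_ringChar (R := F)
      rw [h] at this
      exact_mod_cast this
    open Polynomial in
    have hf : (X ^ 2 : F[X]).degree = 2 := degree_X_pow 2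
    open Polynomial in
    have hg : (C (-(a ^ 2 - 4 * c)) * X ^ 2 + C (-e) : F[X]).degree = 2 := by
      rw [degree_add_eq_left_of_degree_lt, degree_C_mul_X_pow 2 (neg_ne_zero.mpr hD)]
      · rfl
      · rw [degree_C_mul_X_pow 2 (neg_ne_zero.mpr hD)]
        exact lt_of_le_of_lt degree_C_le (by norm_num)
    obtain ⟨x, y, hxy⟩ := FiniteField.exists_root_sum_quadratic hf hg hodd
    simp only [Polynomial.eval_pow, Polynomial.eval_X, Polynomial.eval_add, Polynomial.eval_mul,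
      Polynomial.eval_C] at hxy
    refine ⟨![x - a * y, 2 * y], ?_⟩
    simp only [NF, Matrix.cons_val_zero, Matrix.cons_val_one]
    linear_combination hxy

theorem lvl_NF (a c : F)
    (hac : ∀ z₁ z₂ : F, z₁ ^ 2 + a * z₁ * z₂ + c * z₂ ^ 2 = 0 → z₁ = 0 ∧ z₂ = 0) (e : F)
    (he : e ≠ 0) : lvl (NF a c) e = Fintype.card F + 1 := by
  classical
  have hle : ∀ e e' : F, e ≠ 0 → e' ≠ 0 → lvl (NF a c) e ≤ lvl (NF a c) e' := by
    intro e e' he he'
    obtain ⟨w, hw⟩ := NF_surjective a c hac (e' / e)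
    have hw0 : NF a c w ≠ 0 := by rw [hw]; exact div_ne_zero he' he
    have := lvl_NF_le a c hac w hw0 e
    rwa [hw, div_mul_cancel₀ e' he] at this
  have heq : ∀ e' : F, e' ≠ 0 → lvl (NF a c) e' = lvl (NF a c) e :=
    fun e' he' => le_antisymm (hle e' e he' he) (hle e e' he he')
  have h0 : lvl (NF a c) 0 = 1 := by
    unfold lvl
    rw [Nat.card_eq_one_iff_unique]
    refine ⟨⟨?_⟩, ⟨⟨0, by simp [NF]⟩⟩⟩
    intro z z'
    apply Subtype.ext
    rw [(NF_eq_zero_iff a c hac _).mp z.2, (NF_eq_zero_iff a c hac _).mp z'.2]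
  have hsum := sum_lvl (NF a c)
  rw [Fintype.card_fin, ← Finset.add_sum_erase univ _ (mem_univ (0 : F)), h0,
    Finset.sum_congr rfl (fun e' he' => heq e' (Finset.ne_of_mem_erase he')), Finset.sum_const,
    Finset.card_erase_of_mem (mem_univ _), Finset.card_univ, smul_eq_mul] at hsum
  have hq : 2 ≤ Fintype.card F := Fintype.one_lt_card
  obtain ⟨j, hj⟩ : ∃ j, Fintype.card F = j + 2 := ⟨Fintype.card F - 2, by omega⟩
  rw [hj] at hsum ⊢
  have h3 : (j + 1) * lvl (NF a c) e = (j + 1) * (j + 3) := by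
    have : j + 2 - 1 = j + 1 := by omega
    rw [this] at hsum
    have h4 : (j + 2) ^ 2 = 1 + (j + 1) * (j + 3) := by ring
    omega
  exact Nat.eq_of_mul_eq_mul_left (by omega) h3

theorem isTy_NF (a c : F)
    (hac : ∀ z₁ z₂ : F, z₁ ^ 2 + a * z₁ * z₂ + c * z₂ ^ 2 = 0 → z₁ = 0 ∧ z₂ = 0) :
    IsTy (NF a c) 1 1 := by
  refine ⟨by simp, ?_, ?_⟩
  · have h0 : lvl (NF a c) 0 = 1 := by
      unfold lvl
      rw [Nat.card_eq_one_iff_unique]
      refine ⟨⟨?_⟩, ⟨⟨0, by simp [NF]⟩⟩⟩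
      intro z z'
      apply Subtype.ext
      rw [(NF_eq_zero_iff a c hac _).mp z.2, (NF_eq_zero_iff a c hac _).mp z'.2]
    rw [h0]
    push_cast
    ring
  · intro e he
    rw [lvl_NF a c hac e he]
    push_cast
    ring

omit [Fintype F] in
theorem quadFormMinus_eq_sumF (k : ℕ) (a c : F) :
    Cfsg.quadFormMinus k F a c = sumF (Cfsg.quadFormPlus k F) (NF a c) := rfl

theorem isTy_minus (k : ℕ) (a c : F)
    (hac : ∀ z₁ z₂ : F, z₁ ^ 2 + a * z₁ * z₂ + c * z₂ ^ 2 = 0 → z₁ = 0 ∧ z₂ = 0) :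
    IsTy (Cfsg.quadFormMinus k F a c) (k + 1) 1 := by
  rw [quadFormMinus_eq_sumF]
  exact (isTy_plus k).sum (isTy_NF a c hac)

end Cfsg.Agent.Lib.H12.OrdO
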