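import Mathlib
import Cfsg.Agent.Lib.L0.CharOps
import Cfsg.Agent.Lib.L0.CharIndChar

set_option autoImplicit false

/-!
# Sums of characters of minimal norm

* `isCharacter_sub_irr`: a character minus one of its irreducible constituents is a character.
* `irr_of_sum_norm`: if `k` characters, none of them zero at `1`, add up to a function of
  norm `k`, then they are irreducible and pairwise orthogonal.
-/

namespace Cfsg.Agent.Lib.H12.CharSumIrr

open Cfsg Cfsg.Agent.Lib.L0
open scoped ComplexConjugate

variable {G : Type*} [Group G] [Fintype G]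

/-- The norm of a character that does not vanish at `1` is a positive natural number. -/
theorem classInner_self_pos {χ : G → ℂ} (hχ : IsCharacter G χ) (h1 : χ 1 ≠ 0) :
    ∃ m : ℕ, 0 < m ∧ classInner χ χ = m := by
  obtain ⟨m, hm⟩ := classInner_char_char_nat hχ hχ
  refine ⟨m, ?_, hm⟩
  rcases Nat.eq_zero_or_pos m with h0 | h0
  · exfalso
    rw [h0, Nat.cast_zero] at hm
    have := classInner_self_eq_zero hm
    exact h1 (by rw [this]; rfl)
  · exact h0

/-- A character minus one of its irreducible constituents is a character. -/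
theorem isCharacter_sub_irr {ψ χ : G → ℂ} (hψ : IsCharacter G ψ) (hχ : IsIrrCharacter G χ)
    (h : classInner ψ χ ≠ 0) : IsCharacter G (ψ - χ) := by
  classical
  refine isCharacter_of_classInner_nat ?_ ?_
  · intro g k
    have h1 := isClassFunction_of_isCharacter hψ g k
    have h2 := isClassFunction_of_isCharacter (isCharacter_of_irr hχ) g k
    simp only [Pi.sub_apply, h1, h2]
  · intro χ'
    rw [classInner_sub_left]
    obtain ⟨m, hm⟩ := classInner_char_irr_nat hψ χ'.2
    by_cases hc : χ = (χ' : G → ℂ)
    · rw [← hc, irr_classInner_self hχ]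
      rw [← hc] at hm
      have hm0 : m ≠ 0 := by
        rintro rfl
        exact h (by rw [hm]; simp)
      refine ⟨m - 1, ?_⟩
      rw [hm]
      have : 1 ≤ m := Nat.one_le_iff_ne_zero.mpr hm0
      push_cast [this]
      ring
    · rw [irr_classInner_ne hχ χ'.2 hc, hm]
      exact ⟨m, by simp⟩

/-- If `k` characters, none vanishing at `1`, add up to a function of norm `k`, then each of them
is irreducible and they are pairwise orthogonal. -/
theorem irr_of_sum_norm {ι : Type*} [Fintype ι] [DecidableEq ι] (ψ : ι → G → ℂ)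
    (hchar : ∀ i, IsCharacter G (ψ i)) (hne : ∀ i, ψ i 1 ≠ 0)
    (hnorm : classInner (∑ i, ψ i) (∑ i, ψ i) = (Fintype.card ι : ℂ)) :
    (∀ i, IsIrrCharacter G (ψ i)) ∧ ∀ i j, i ≠ j → classInner (ψ i) (ψ j) = 0 := by
  classical
  have hm : ∀ i j, ∃ m : ℕ, classInner (ψ i) (ψ j) = m := fun i j =>
    classInner_char_char_nat (hchar i) (hchar j)
  choose m hm using hm
  have hdiag : ∀ i, 1 ≤ m i i := by
    intro i
    obtain ⟨k, hk, hk'⟩ := classInner_self_pos (hchar i) (hne i)
    have : (m i i : ℂ) = k := by rw [← hm, hk']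
    have : m i i = k := by exact_mod_cast this
    omega
  have hsum : ∑ i, ∑ j, m i j = ∑ _i : ι, 1 := by
    have : ((∑ i, ∑ j, m i j : ℕ) : ℂ) = ((∑ _i : ι, 1 : ℕ) : ℂ) := by
      rw [Finset.sum_const, Finset.card_univ, smul_eq_mul, mul_one, ← hnorm, classInner_sum_left]
      push_cast
      refine Finset.sum_congr rfl fun i _ => ?_
      rw [classInner_sum_right]
      exact Finset.sum_congr rfl fun j _ => (hm i j).symm
    exact_mod_cast this
  have hrow : ∀ i, 1 ≤ ∑ j, m i j := fun i =>
    (hdiag i).trans (Finset.single_le_sum (f := fun j => m i j) (fun _ _ => Nat.zero_le _)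
      (Finset.mem_univ i))
  have hrow1 : ∀ i, ∑ j, m i j = 1 := by
    have := (Finset.sum_eq_sum_iff_of_le (s := Finset.univ) (f := fun _ : ι => 1)
      (g := fun i => ∑ j, m i j) (fun i _ => hrow i)).mp hsum.symm
    intro i
    exact (this i (Finset.mem_univ i)).symm
  have hdiag1 : ∀ i, m i i = 1 := by
    intro i
    have h1 := Finset.single_le_sum (f := fun j => m i j) (fun _ _ => Nat.zero_le _)
      (Finset.mem_univ i)
    have h2 := hrow1 i
    have h3 := hdiag i
    omega
  have hoff : ∀ i j, i ≠ j → m i j = 0 := by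
    intro i j hij
    have h1 := Finset.add_sum_erase Finset.univ (fun j => m i j) (Finset.mem_univ i)
    rw [hrow1 i, hdiag1 i] at h1
    have h2 : ∑ x ∈ Finset.univ.erase i, m i x = 0 := by omega
    have h3 := (Finset.sum_eq_zero_iff.mp h2) j (Finset.mem_erase.mpr ⟨hij.symm, Finset.mem_univ j⟩)
    exact h3
  refine ⟨fun i => ?_, fun i j hij => ?_⟩
  · apply isIrrCharacter_of_classInner_self_eq_one (hchar i)
    rw [hm, hdiag1]; simp
  · rw [hm, hoff i j hij]; simp

end Cfsg.Agent.Lib.H12.CharSumIrr
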