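import Mathlib
import Cfsg.Agent.Lib.H12.SL2Reg

set_option autoImplicit false

/-!
# Elliptic elements of `SL₂(F)` and the non-split torus
-/

namespace Cfsg.Agent.Lib.H12

open Matrix

variable {F : Type*} [Field F]

local notation "SL2" => Matrix.SpecialLinearGroup (Fin 2) F
local notation "M2" => Matrix (Fin 2) (Fin 2) F

/-- `X² - tX + 1` has no root in `F` -/
def NoRoot (t : F) : Prop := ∀ r : F, r ^ 2 ≠ -1 + t * r

theorem NoRoot.fact {t : F} (h : NoRoot t) : Fact (∀ r : F, r ^ 2 ≠ -1 + t * r) := ⟨h⟩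

/-- An element without eigenvector has an irreducible characteristic polynomial. -/
theorem noRoot_of_noEigen (g : SL2)
    (hg : ∀ (c : F) (v : Fin 2 → F), v ≠ 0 → (g : M2).mulVec v ≠ c • v) : NoRoot (g : M2).trace := by
  intro r hr
  have hdet : ((-r) • (1 : M2) + (1 : F) • (g : M2)).det = 0 := by
    rw [det_span _ g.det_coe]
    linear_combination hr
  obtain ⟨v, hv, hMv⟩ := Matrix.exists_mulVec_eq_zero_iff.mpr hdet
  apply hg r v hv
  rw [Matrix.add_mulVec, Matrix.smul_mulVec, Matrix.smul_mulVec, Matrix.one_mulVec, one_smul,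
    neg_smul, neg_add_eq_zero] at hMv
  exact hMv.symm

/-- There is an irreducible polynomial `X² - tX + 1` over a finite field. -/
theorem exists_noRoot [Fintype F] : ∃ t : F, NoRoot t := by
  classical
  by_contra hcon
  simp only [NoRoot, not_exists, not_forall, not_not] at hcon
  choose r hr using hcon
  have hr0 : ∀ t, r t ≠ 0 := by
    intro t h0
    have := hr t
    rw [h0] at this
    simp at this
  have hinj : Function.Injective (fun t : F => Units.mk0 (r t) (hr0 t)) := by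
    intro s t hst
    have h1 : r s = r t := congrArg Units.val hst
    have hs := hr s
    have ht := hr t
    rw [h1] at hs
    have h2 : (s - t) * r t = 0 := by linear_combination ht - hs
    exact sub_eq_zero.mp ((mul_eq_zero.mp h2).resolve_right (hr0 t))
  have h1 := Fintype.card_le_of_injective _ hinj
  rw [Fintype.card_units] at h1
  have h2 : 0 < Fintype.card F := Fintype.card_pos
  omega

theorem NoRoot.disc_not_isSquare {t : F} (h : NoRoot t) (h2 : (2 : F) ≠ 0) : ¬ IsSquare (t ^ 2 - 4) := by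
  rintro ⟨s, hs⟩
  apply h ((t + s) / 2)
  field_simp
  linear_combination (-1 : F) * hs

theorem NoRoot.trace_sq_ne {t : F} (h : NoRoot t) (h2 : (2 : F) ≠ 0) : t ^ 2 ≠ 4 := by
  intro h4
  apply h.disc_not_isSquare h2
  rw [h4, sub_self]
  exact IsSquare.zero

theorem nonScalar_sl2Comp (t : F) : NonScalar ((sl2Comp t : SL2) : M2) := by
  rintro ⟨-, h, -⟩
  rw [sl2Comp_val'] at h
  simp at h

theorem trace_sl2Comp (t : F) : ((sl2Comp t : SL2) : M2).trace = t := by
  rw [sl2Comp_val', Matrix.trace_fin_two]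
  simp

/-- Every element without eigenvector is conjugate into each non-split torus. -/
theorem exists_conj_mem_torusT [Fintype F] (hodd : Odd (Fintype.card F)) {t₀ : F} (h₀ : NoRoot t₀)
    (g : SL2) (hg : ∀ (c : F) (v : Fin 2 → F), v ≠ 0 → (g : M2).mulVec v ≠ c • v) :
    ∃ h : SL2, h * g * h⁻¹ ∈ torusT t₀ := by
  have h2 : (2 : F) ≠ 0 := two_ne_zero_of_odd hodd
  have h₁ : NoRoot (g : M2).trace := noRoot_of_noEigen g hg
  set t₁ := (g : M2).trace with ht₁
  have hd0 := h₀.disc_not_isSquare h2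
  have hd1 := h₁.disc_not_isSquare h2
  have hne0 : t₀ ^ 2 - 4 ≠ 0 := sub_ne_zero.mpr (h₀.trace_sq_ne h2)
  have hne1 : t₁ ^ 2 - 4 ≠ 0 := sub_ne_zero.mpr (h₁.trace_sq_ne h2)
  obtain ⟨β, hβ⟩ : IsSquare ((t₁ ^ 2 - 4) / (t₀ ^ 2 - 4)) :=
    (isSquare_div_iff hne1 hne0).mpr ⟨fun h => absurd h hd1, fun h => absurd h hd0⟩
  have hβ0 : β ≠ 0 := by
    rintro rfl
    rw [mul_zero] at hβ
    exact (div_ne_zero hne1 hne0) hβ
  have hβ' : β * β * (t₀ ^ 2 - 4) = t₁ ^ 2 - 4 := by
    rw [← hβ, div_mul_cancel₀ _ hne0]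
  set α := (t₁ - β * t₀) / 2 with hα
  have hnorm : QuadraticAlgebra.norm (⟨α, β⟩ : QuadraticAlgebra F (-1) t₀) = 1 := by
    rw [QuadraticAlgebra.norm_def]
    simp only
    rw [hα]
    field_simp
    linear_combination (-1 : F) * hβ'
  set x : SL2 := torusMk' t₀ ⟨α, β⟩ hnorm with hx
  have hxmem : x ∈ torusT t₀ := (torusMk t₀ ⟨α, β⟩ hnorm).2
  have hxns : NonScalar (x : M2) := by
    rintro ⟨-, h, -⟩
    rw [hx, torusMk'_val] at h
    simp at h
    exact hβ0 h
  have hxtr : (g : M2).trace = (x : M2).trace := by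
    rw [← ht₁, hx, torusMk'_val, Matrix.trace_fin_two]
    simp
    rw [hα]
    field_simp
    ring
  have hconj := sl2_isConj_of_trace_regular hodd g x hxns hxtr (h₁.trace_sq_ne h2)
  obtain ⟨c, hc⟩ := isConj_iff.mp hconj
  exact ⟨c, by rw [hc]; exact hxmem⟩

end Cfsg.Agent.Lib.H12
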