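import Mathlib
import Cfsg.Agent.Lib.H12.SL2Ell
import Cfsg.Agent.S2428

set_option autoImplicit false

/-!
# Centralizers of regular semisimple elements of `SL₂(F)`, `q` odd

`C(x)` is cyclic of order `q - 1` (if `tr(x)² - 4` is a square) or `q + 1` (otherwise).
-/

namespace Cfsg.Agent.Lib.H12

open Matrix

/-- Conjugate elements have isomorphic centralizers. -/
def centralizerConjEquiv {G : Type*} [Group G] (c x y : G) (h : c * x * c⁻¹ = y) :
    Subgroup.centralizer ({x} : Set G) ≃* Subgroup.centralizer ({y} : Set G) where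
  toFun g := ⟨c * g * c⁻¹, by
    have hg := Subgroup.mem_centralizer_singleton_iff.mp g.2
    rw [Subgroup.mem_centralizer_singleton_iff, ← h]
    calc c * ↑g * c⁻¹ * (c * x * c⁻¹) = c * (↑g * x) * c⁻¹ := by group
      _ = c * (x * ↑g) * c⁻¹ := by rw [hg]
      _ = c * x * c⁻¹ * (c * ↑g * c⁻¹) := by group⟩
  invFun g := ⟨c⁻¹ * g * c, by
    have hg : (g : G) * (c * x * c⁻¹) = (c * x * c⁻¹) * g := by
      have := Subgroup.mem_centralizer_singleton_iff.mp g.2
      rw [h]
      exact this
    rw [Subgroup.mem_centralizer_singleton_iff]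
    calc c⁻¹ * ↑g * c * x = c⁻¹ * (↑g * (c * x * c⁻¹)) * c := by group
      _ = c⁻¹ * ((c * x * c⁻¹) * ↑g) * c := by rw [hg]
      _ = x * (c⁻¹ * ↑g * c) := by group⟩
  left_inv g := by
    apply Subtype.ext
    simp only
    group
  right_inv g := by
    apply Subtype.ext
    simp only
    group
  map_mul' g h := by
    apply Subtype.ext
    simp only [Subgroup.coe_mul]
    group

variable {F : Type*} [Field F]

local notation "SL2" => Matrix.SpecialLinearGroup (Fin 2) F
local notation "M2" => Matrix (Fin 2) (Fin 2) F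

theorem isCyclic_centralizer_diag [Finite F] (d : SL2) (hd01 : (d : M2) 0 1 = 0) (hd10 : (d : M2) 1 0 = 0)
    (hda : (d : M2) 0 0 ^ 2 ≠ 1) : IsCyclic (Subgroup.centralizer ({d} : Set SL2)) := by
  have hmem := Cfsg.Agent.S2428.mem_centralizer_iff_diag d hd01 hd10 hda
  let f : Subgroup.centralizer ({d} : Set SL2) →* F :=
    { toFun := fun g => ((g : SL2) : M2) 0 0
      map_one' := by simp
      map_mul' := fun g h => by
        obtain ⟨h1, h2⟩ := (hmem g).mp g.2
        simp [Matrix.mul_apply, Fin.sum_univ_two, h1] }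
  apply isCyclic_of_injective_ringHom f
  intro g h hgh
  obtain ⟨g1, g2⟩ := (hmem g).mp g.2
  obtain ⟨h1, h2⟩ := (hmem h).mp h.2
  have e00 : ((g : SL2) : M2) 0 0 = ((h : SL2) : M2) 0 0 := hgh
  have dg := Cfsg.Agent.S2428.diag_entries (g : SL2) g1 g2
  have dh := Cfsg.Agent.S2428.diag_entries (h : SL2) h1 h2
  have e11 : ((g : SL2) : M2) 1 1 = ((h : SL2) : M2) 1 1 := by
    rw [eq_inv_of_mul_eq_one_right dg, eq_inv_of_mul_eq_one_right dh, e00]
  apply Subtype.ext
  apply Subtype.ext
  ext i j
  fin_cases i <;> fin_cases j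
  · exact e00
  · show ((g : SL2) : M2) 0 1 = ((h : SL2) : M2) 0 1
    rw [g1, h1]
  · show ((g : SL2) : M2) 1 0 = ((h : SL2) : M2) 1 0
    rw [g2, h2]
  · exact e11

/-- The centralizer of a regular semisimple element. -/
theorem regular_centralizer [Fintype F] (hodd : Odd (Fintype.card F)) (x : SL2)
    (ht : (x : M2).trace ^ 2 ≠ 4) :
    IsCyclic (Subgroup.centralizer ({x} : Set SL2)) ∧
    (IsSquare ((x : M2).trace ^ 2 - 4) →
      Nat.card (Subgroup.centralizer ({x} : Set SL2)) = Fintype.card F - 1) ∧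
    (¬ IsSquare ((x : M2).trace ^ 2 - 4) →
      Nat.card (Subgroup.centralizer ({x} : Set SL2)) = Fintype.card F + 1) := by
  have h2 : (2 : F) ≠ 0 := two_ne_zero_of_odd hodd
  have hx : NonScalar (x : M2) := nonScalar_of_trace_sq_ne x ht
  set t := (x : M2).trace with htdef
  by_cases hsq : IsSquare (t ^ 2 - 4)
  · obtain ⟨s, hs⟩ := hsq
    have hs0 : s ≠ 0 := by
      rintro rfl
      apply ht
      rw [mul_zero] at hs
      exact sub_eq_zero.mp hs
    have ha : (t + s) / 2 * ((t - s) / 2) = 1 := by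
      field_simp
      linear_combination hs
    have ha0 : (t + s) / 2 ≠ 0 := left_ne_zero_of_mul_eq_one ha
    set a : Fˣ := Units.mk0 _ ha0 with hadef
    have hainv : ((a⁻¹ : Fˣ) : F) = (t - s) / 2 := by
      rw [Units.val_inv_eq_inv_val, hadef, Units.val_mk0]
      exact (eq_inv_of_mul_eq_one_right ha).symm
    set d : SL2 := borelMkSL' (a, 0) with hd
    have hdv : (d : M2) = !![(a : F), 0; 0, ((a⁻¹ : Fˣ) : F)] := rfl
    have hd01 : (d : M2) 0 1 = 0 := by rw [hdv]; simp
    have hd10 : (d : M2) 1 0 = 0 := by rw [hdv]; simp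
    have hdtr : (d : M2).trace = t := by
      rw [hdv, Matrix.trace_fin_two]
      simp only [Matrix.of_apply, Matrix.cons_val', Matrix.cons_val_zero, Matrix.cons_val_one,
        Matrix.cons_val_fin_one]
      rw [hainv, hadef, Units.val_mk0]
      field_simp
      ring
    have hda : (d : M2) 0 0 ^ 2 ≠ 1 := by
      rw [hdv]
      simp only [Matrix.of_apply, Matrix.cons_val', Matrix.cons_val_zero, Matrix.cons_val_fin_one]
      rw [hadef, Units.val_mk0]
      intro h
      have h3 : (t + s) / 2 = (t - s) / 2 := by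
        have h4 : (t + s) / 2 * ((t + s) / 2) = (t + s) / 2 * ((t - s) / 2) := by rw [ha, ← sq, h]
        exact mul_left_cancel₀ ha0 h4
      apply hs0
      field_simp at h3
      have : 2 * s = 0 := by linear_combination h3
      exact (mul_eq_zero.mp this).resolve_left h2
    have hdns : NonScalar (d : M2) := by
      apply nonScalar_of_trace_sq_ne
      rw [hdtr]
      exact ht
    obtain ⟨c, hc⟩ := isConj_iff.mp (sl2_isConj_of_trace_regular hodd x d hdns (by rw [hdtr]) ht)
    let e := centralizerConjEquiv c x d hc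
    have hcyc := isCyclic_centralizer_diag d hd01 hd10 hda
    refine ⟨isCyclic_of_surjective e.symm e.symm.surjective, fun _ => ?_, fun h => absurd ⟨s, hs⟩ h⟩
    rw [Nat.card_congr e.toEquiv]
    exact Cfsg.Agent.S2428.card_centralizer d hd01 hd10 hda
  · have hnr : NoRoot t := by
      intro r hr
      apply hsq
      refine ⟨2 * r - t, ?_⟩
      linear_combination (-4 : F) * hr
    have := hnr.fact
    obtain ⟨c, hc⟩ := isConj_iff.mp (sl2_isConj_of_trace_regular hodd x (sl2Comp t)
      (nonScalar_sl2Comp t) (by rw [trace_sl2Comp]) ht)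
    let e := centralizerConjEquiv c x (sl2Comp t) hc
    have hcyc : IsCyclic (Subgroup.centralizer ({sl2Comp t} : Set SL2)) := by
      rw [centralizer_sl2Comp]
      exact isCyclic_torusT
    refine ⟨isCyclic_of_surjective e.symm e.symm.surjective, fun h => absurd h hsq, fun _ => ?_⟩
    rw [Nat.card_congr e.toEquiv, centralizer_sl2Comp]
    exact card_torusT

end Cfsg.Agent.Lib.H12
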