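import Mathlib
import Cfsg.Agent.Lib.H12.SL2RegCard
import Cfsg.Agent.Lib.H12.CardSL
import Cfsg.Agent.Lib.H22.NormalSeries

set_option autoImplicit false

/-!
# Sylow 2-subgroups of `SL₂(q)`, `q` odd

A Sylow 2-subgroup `S` contains an element `x` of order four with `⟨x⟩` normal in `S`;
`S ≤ N(C(x))`, `S ∩ C(x)` has index two in `S`, and an element of `N(S)` that conjugates
`x` to `x^{±1}` lies in `S`.
-/

namespace Cfsg.Agent.Lib.H12

open Matrix

variable {F : Type*} [Field F]

local notation "SL2" => Matrix.SpecialLinearGroup (Fin 2) F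
local notation "M2" => Matrix (Fin 2) (Fin 2) F

/-! ### The centre -/

theorem sl2_center_cases (z : SL2) (hz : z ∈ Subgroup.center SL2) : z = 1 ∨ z = -1 := by
  rw [Matrix.SpecialLinearGroup.mem_center_iff] at hz
  obtain ⟨r, hr, hz⟩ := hz
  simp only [Fintype.card_fin] at hr
  have : (r - 1) * (r + 1) = 0 := by linear_combination hr
  rcases mul_eq_zero.mp this with h | h
  · left
    apply Subtype.ext
    rw [← hz, sub_eq_zero.mp h]
    simp
  · right
    apply Subtype.ext
    rw [← hz, eq_neg_of_add_eq_zero_left h]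
    ext i j
    fin_cases i <;> fin_cases j <;> simp

theorem sl2_neg_one_mem_center : (-1 : SL2) ∈ Subgroup.center SL2 := by
  rw [Subgroup.mem_center_iff]
  intro g
  rw [mul_neg, neg_mul, mul_one, one_mul]

theorem sl2_mem_center_of_not_nonScalar (G : SL2) (h : ¬ Cfsg.Agent.Lib.H12.NonScalar (G : M2)) :
    G ∈ Subgroup.center SL2 := by
  unfold Cfsg.Agent.Lib.H12.NonScalar at h
  rw [not_not] at h
  obtain ⟨h01, h10, h00⟩ := h
  rw [Matrix.SpecialLinearGroup.mem_center_iff]
  refine ⟨(G : M2) 0 0, ?_, ?_⟩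
  · have := G.det_coe
    rw [Matrix.det_fin_two, h01, zero_mul, sub_zero, ← h00] at this
    simpa [sq] using this
  · ext i j
    fin_cases i <;> fin_cases j <;> simp [h01, h10, h00]

theorem sl2_neg_one_ne_one (h2 : (2 : F) ≠ 0) : (-1 : SL2) ≠ 1 := by
  intro h
  have h1 := congrArg (fun g : SL2 => (g : M2) 0 0) h
  simp only [Matrix.SpecialLinearGroup.coe_neg, Matrix.SpecialLinearGroup.coe_one, Matrix.neg_apply,
    Matrix.one_apply_eq] at h1
  apply h2
  linear_combination (-1 : F) * h1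

/-! ### Elements with square `-1` -/

theorem trace_eq_zero_of_mul_self (x : SL2) (hx : x * x = -1) : (x : M2).trace = 0 := by
  have h1 : (x : M2) * (x : M2) = -1 := by
    rw [← Matrix.SpecialLinearGroup.coe_mul, hx]
    simp
  have h2 := m2_cayley (x : M2) x.det_coe
  rw [h1] at h2
  have h3 : (x : M2).trace • (x : M2) = 0 := by
    have : (x : M2).trace • (x : M2) = (x : M2).trace • (x : M2) - 1 + 1 := by abel
    rw [this, ← h2]
    simp
  by_contra hne
  have h4 : (x : M2) = 0 := by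
    have := congrArg (fun M : M2 => (x : M2).trace⁻¹ • M) h3
    simpa [smul_smul, inv_mul_cancel₀ hne] using this
  have := x.det_coe
  rw [h4] at this
  simp at this

theorem trace_sq_ne_of_mul_self (h2 : (2 : F) ≠ 0) (x : SL2) (hx : x * x = -1) :
    (x : M2).trace ^ 2 ≠ 4 := by
  rw [trace_eq_zero_of_mul_self x hx]
  intro h
  apply h2
  have : (2 : F) * 2 = 0 := by linear_combination (-1 : F) * h
  exact (mul_self_eq_zero.mp this)

theorem inv_eq_neg_of_mul_self (x : SL2) (hx : x * x = -1) : x⁻¹ = -x := by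
  apply inv_eq_of_mul_eq_one_right
  rw [mul_neg, hx, neg_neg]

theorem mul_self_of_inverts {g d : SL2} (hd : Cfsg.Agent.Lib.H12.NonScalar (d : M2))
    (h : g * d * g⁻¹ = d⁻¹) : g * g = -1 := by
  apply Subtype.ext
  rw [sq_eq_neg_one_of_inverts hd h]
  simp

/-- an element of `C(d)` with the trace of `d` is `d` or `d⁻¹` -/
theorem eq_or_eq_inv_of_trace (h2 : (2 : F) ≠ 0) {d : SL2} (ht : (d : M2).trace ^ 2 ≠ 4) {y : SL2}
    (hy : y ∈ Subgroup.centralizer ({d} : Set SL2)) (htr : (y : M2).trace = (d : M2).trace) :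
    y = d ∨ y = d⁻¹ := by
  have hd : Cfsg.Agent.Lib.H12.NonScalar (d : M2) := nonScalar_of_trace_sq_ne d ht
  obtain ⟨α, β, hy'⟩ := (mem_centralizer_iff_span hd _).mp hy
  have hT : 2 * α + β * (d : M2).trace = (d : M2).trace := by
    rw [← trace_span, ← hy', htr]
  have hD : α ^ 2 + α * β * (d : M2).trace + β ^ 2 = 1 := by
    rw [← det_span _ d.det_coe, ← hy']
    exact y.det_coe
  have hβ : (1 - β ^ 2) * ((d : M2).trace ^ 2 - 4) = 0 := by
    linear_combination (-(2 * α + β * (d : M2).trace + (d : M2).trace)) * hT + 4 * hD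
  have hβ' : (β - 1) * (β + 1) = 0 := by
    rcases mul_eq_zero.mp hβ with h | h
    · linear_combination (-1 : F) * h
    · exact absurd (sub_eq_zero.mp h) ht
  rcases mul_eq_zero.mp hβ' with h | h
  · left
    have hβ1 : β = 1 := sub_eq_zero.mp h
    have hα : α = 0 := by
      rw [hβ1] at hT
      have : 2 * α = 0 := by linear_combination hT
      exact (mul_eq_zero.mp this).resolve_left h2
    apply Subtype.ext
    rw [hy', hα, hβ1]
    simp
  · right
    have hβ1 : β = -1 := eq_neg_of_add_eq_zero_left h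
    have hα : α = (d : M2).trace := by
      rw [hβ1] at hT
      have : 2 * (α - (d : M2).trace) = 0 := by linear_combination hT
      exact sub_eq_zero.mp ((mul_eq_zero.mp this).resolve_left h2)
    apply Subtype.ext
    rw [hy', hα, hβ1, sl2_inv_val]
    module

/-- an element conjugate to `d` inside `C(d)` is `d` or `d⁻¹` -/
theorem conj_cases_of_mem (h2 : (2 : F) ≠ 0) {d : SL2} (ht : (d : M2).trace ^ 2 ≠ 4) {g : SL2}
    (hy : g * d * g⁻¹ ∈ Subgroup.centralizer ({d} : Set SL2)) :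
    g * d * g⁻¹ = d ∨ g * d * g⁻¹ = d⁻¹ :=
  eq_or_eq_inv_of_trace h2 ht hy (sl2_trace_conj _ _)

/-! ### `p`-elements normalizing a Sylow subgroup -/

theorem mem_sylow_of_pow {G : Type*} [Group G] {p : ℕ} [Fact p.Prime] (S : Sylow p G) (g : G)
    (hg : g ∈ Subgroup.normalizer ((S : Subgroup G) : Set G)) (k : ℕ) (hk : g ^ p ^ k = 1) :
    g ∈ (S : Subgroup G) := by
  have hP : IsPGroup p (Subgroup.zpowers g) := by
    rintro ⟨y, hy⟩
    obtain ⟨n, rfl⟩ := Subgroup.mem_zpowers_iff.mp hy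
    refine ⟨k, ?_⟩
    apply Subtype.ext
    simp only [Subgroup.coe_pow, Subgroup.coe_one]
    rw [← zpow_natCast, ← _root_.zpow_mul, mul_comm, _root_.zpow_mul, zpow_natCast, hk, _root_.one_zpow]
  have h := hP.inf_normalizer_sylow S
  have h1 : g ∈ Subgroup.zpowers g ⊓ Subgroup.normalizer (S : Set G) :=
    ⟨Subgroup.mem_zpowers g, hg⟩
  rw [h] at h1
  exact h1.2


/-! ### A normal cyclic subgroup of order four -/

theorem card_le_two_of_forall {G : Type*} [Group G] (S : Subgroup G) (a b : G)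
    (h : ∀ s ∈ S, s = a ∨ s = b) : Nat.card S ≤ 2 := by
  have hsub : (S : Set G) ⊆ {a, b} := by
    intro s hs
    rcases h s hs with h | h
    · rw [h]; exact Set.mem_insert _ _
    · rw [h]; exact Set.mem_insert_of_mem _ rfl
  have h1 : Nat.card S = (S : Set G).ncard := (Nat.card_coe_set_eq _)
  rw [h1]
  calc (S : Set G).ncard ≤ ({a, b} : Set G).ncard := Set.ncard_le_ncard hsub (Set.toFinite _)
    _ ≤ ({b} : Set G).ncard + 1 := Set.ncard_insert_le a _
    _ = 2 := by rw [Set.ncard_singleton]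

theorem exists_normal_order_four (h2 : (2 : F) ≠ 0) (S : Subgroup SL2) [Finite S]
    (hS : IsPGroup 2 S) (hcard : 2 < Nat.card S) :
    ∃ x ∈ S, x * x = -1 ∧ ∀ s ∈ S, s * x * s⁻¹ = x ∨ s * x * s⁻¹ = x⁻¹ := by
  have hlt : (Subgroup.center SL2).subgroupOf S < ⊤ := by
    rw [lt_top_iff_ne_top]
    intro htop
    have : Nat.card S ≤ 2 := by
      apply card_le_two_of_forall S 1 (-1)
      intro s hs
      have : (⟨s, hs⟩ : S) ∈ (Subgroup.center SL2).subgroupOf S := by rw [htop]; trivial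
      rw [Subgroup.mem_subgroupOf] at this
      exact sl2_center_cases s this
    omega
  obtain ⟨M', -, -, -, -, hcomm, b, hbM', hbM, hb2, -⟩ :=
    Cfsg.Agent.Lib.H22.exists_normal_step (p := 2) hS ((Subgroup.center SL2).subgroupOf S) ⊤ hlt
  rw [Subgroup.mem_subgroupOf] at hbM hb2
  have hxx : (b : SL2) * (b : SL2) = -1 := by
    have h3 : (b : SL2) * (b : SL2) ∈ Subgroup.center SL2 := by
      have : ((b ^ 2 : S) : SL2) = (b : SL2) * (b : SL2) := by
        rw [pow_two]; rfl
      rw [← this]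
      exact hb2
    rcases sl2_center_cases _ h3 with h | h
    · exfalso
      apply hbM
      rcases (sl2_mul_self_eq_one_iff h2 (b : SL2)).mp h with h4 | h4
      · rw [h4]; exact Subgroup.one_mem _
      · rw [h4]; exact sl2_neg_one_mem_center
    · exact h
  have hinv := inv_eq_neg_of_mul_self _ hxx
  refine ⟨(b : SL2), b.2, hxx, ?_⟩
  intro s hs
  have h3 := hcomm b hbM' ⟨s, hs⟩
  rw [Subgroup.mem_subgroupOf] at h3
  have h4 : ((b * ⟨s, hs⟩ * b⁻¹ * (⟨s, hs⟩ : S)⁻¹ : S) : SL2) = (b : SL2) * s * (b : SL2)⁻¹ * s⁻¹ := rfl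
  rw [h4] at h3
  rcases sl2_center_cases _ h3 with h | h
  · left
    have : (b : SL2) * s = s * (b : SL2) := by
      have h5 : (b : SL2) * s * (b : SL2)⁻¹ = s := by
        rw [← mul_inv_eq_one]; exact h
      calc (b : SL2) * s = ((b : SL2) * s * (b : SL2)⁻¹) * (b : SL2) := by group
        _ = s * (b : SL2) := by rw [h5]
    rw [← this]; group
  · right
    apply eq_inv_of_mul_eq_one_right
    have h5 : (b : SL2) * s * (b : SL2) * s⁻¹ = 1 := by
      rw [hinv] at h
      rw [mul_neg, neg_mul] at h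
      exact neg_injective h
    rw [← h5]; group


/-! ### The order of a Sylow 2-subgroup -/

section Card

variable [Fintype F]

theorem sq_mod_eight_of_odd (q : ℕ) (h : Odd q) : q ^ 2 % 8 = 1 := by
  have h1 : q % 8 = 1 ∨ q % 8 = 3 ∨ q % 8 = 5 ∨ q % 8 = 7 := by
    rcases h with ⟨m, rfl⟩; omega
  rw [Nat.pow_mod]
  rcases h1 with h | h | h | h <;> rw [h]

theorem sq_mod_sixteen_one (q : ℕ) (h : q % 8 = 1 ∨ q % 8 = 7) : q ^ 2 % 16 = 1 := by
  have h1 : q % 16 = 1 ∨ q % 16 = 9 ∨ q % 16 = 7 ∨ q % 16 = 15 := by omega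
  rw [Nat.pow_mod]
  rcases h1 with h | h | h | h <;> rw [h]

theorem sq_mod_sixteen_nine (q : ℕ) (h : q % 8 = 3 ∨ q % 8 = 5) : q ^ 2 % 16 = 9 := by
  have h1 : q % 16 = 3 ∨ q % 16 = 11 ∨ q % 16 = 5 ∨ q % 16 = 13 := by omega
  rw [Nat.pow_mod]
  rcases h1 with h | h | h | h <;> rw [h]

theorem card_sl2_ne_zero : Nat.card SL2 ≠ 0 := Nat.card_pos.ne'

theorem eight_dvd_card_sylow (hodd : Odd (Fintype.card F)) (S : Sylow 2 SL2) :
    8 ∣ Nat.card S := by
  rw [Sylow.card_eq_multiplicity]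
  have h1 : 2 ^ 3 ∣ Nat.card SL2 := by
    rw [card_SL2]
    apply Dvd.dvd.mul_left
    have := sq_mod_eight_of_odd _ hodd
    generalize Fintype.card F ^ 2 = n at this
    omega
  have h2 := (Nat.Prime.pow_dvd_iff_le_factorization Nat.prime_two card_sl2_ne_zero).mp h1
  exact pow_dvd_pow 2 h2

theorem sixteen_dvd_card_sylow (h : Fintype.card F % 8 = 1 ∨ Fintype.card F % 8 = 7)
    (S : Sylow 2 SL2) : 16 ∣ Nat.card S := by
  rw [Sylow.card_eq_multiplicity]
  have h1 : 2 ^ 4 ∣ Nat.card SL2 := by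
    rw [card_SL2]
    apply Dvd.dvd.mul_left
    have := sq_mod_sixteen_one _ h
    generalize Fintype.card F ^ 2 = n at this
    omega
  have h2 := (Nat.Prime.pow_dvd_iff_le_factorization Nat.prime_two card_sl2_ne_zero).mp h1
  exact pow_dvd_pow 2 h2

theorem card_sylow_eq_eight (h : Fintype.card F % 8 = 3 ∨ Fintype.card F % 8 = 5)
    (S : Sylow 2 SL2) : Nat.card S = 8 := by
  have hodd : Odd (Fintype.card F) := by
    rw [Nat.odd_iff]; omega
  have h8 := eight_dvd_card_sylow hodd S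
  rw [Sylow.card_eq_multiplicity] at h8 ⊢
  have h3 : 3 ≤ (Nat.card SL2).factorization 2 :=
    (Nat.pow_dvd_pow_iff_le_right (by norm_num : 1 < 2)).mp h8
  have h4 : ¬ 4 ≤ (Nat.card SL2).factorization 2 := by
    intro h4
    have h1 : 2 ^ 4 ∣ Nat.card SL2 :=
      (Nat.Prime.pow_dvd_iff_le_factorization Nat.prime_two card_sl2_ne_zero).mpr h4
    rw [card_SL2] at h1
    have hcop : Nat.Coprime (2 ^ 4) (Fintype.card F) := by
      apply Nat.Coprime.pow_left
      rw [Nat.coprime_two_left]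
      exact hodd
    have h5 := hcop.dvd_of_dvd_mul_left h1
    have := sq_mod_sixteen_nine _ h
    generalize Fintype.card F ^ 2 = n at this h5
    omega
  have : (Nat.card SL2).factorization 2 = 3 := by omega
  rw [this]
  norm_num

end Card


/-! ### The data attached to a Sylow 2-subgroup -/

/-- `x ∈ S` of order four generating a normal subgroup of `S`, and `s₀ ∈ S` inverting `x`. -/
structure Syl2Data (S : Subgroup SL2) (x s₀ : SL2) : Prop where
  xS : x ∈ S
  xx : x * x = -1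
  norm : ∀ s ∈ S, s * x * s⁻¹ = x ∨ s * x * s⁻¹ = x⁻¹
  sS : s₀ ∈ S
  sx : s₀ * x * s₀⁻¹ = x⁻¹

section Data


theorem Syl2Data.ht {S : Subgroup SL2} {x s₀ : SL2} (h : Syl2Data S x s₀) (h2 : (2 : F) ≠ 0) : (x : M2).trace ^ 2 ≠ 4 :=
  trace_sq_ne_of_mul_self h2 x h.xx

theorem Syl2Data.nonScalar {S : Subgroup SL2} {x s₀ : SL2} (h : Syl2Data S x s₀) (h2 : (2 : F) ≠ 0) :
    Cfsg.Agent.Lib.H12.NonScalar (x : M2) :=
  nonScalar_of_trace_sq_ne x (h.ht h2)

theorem Syl2Data.x_ne_inv {S : Subgroup SL2} {x s₀ : SL2} (h : Syl2Data S x s₀) (h2 : (2 : F) ≠ 0) : x ≠ x⁻¹ := by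
  intro hx
  apply sl2_neg_one_ne_one h2
  rw [← h.xx]
  nth_rewrite 1 [hx]
  exact inv_mul_cancel x

theorem mem_centralizer_of_conj {G : Type*} [Group G] {g x : G} (h : g * x * g⁻¹ = x) :
    g ∈ Subgroup.centralizer ({x} : Set G) := by
  rw [Subgroup.mem_centralizer_singleton_iff]
  calc g * x = (g * x * g⁻¹) * g := by group
    _ = x * g := by rw [h]

theorem conj_of_mem_centralizer {G : Type*} [Group G] {g x : G}
    (h : g ∈ Subgroup.centralizer ({x} : Set G)) : g * x * g⁻¹ = x := by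
  rw [Subgroup.mem_centralizer_singleton_iff] at h
  rw [h]; group

theorem Syl2Data.s_not_mem {S : Subgroup SL2} {x s₀ : SL2} (h : Syl2Data S x s₀) (h2 : (2 : F) ≠ 0) :
    s₀ ∉ Subgroup.centralizer ({x} : Set SL2) := by
  intro hs
  apply h.x_ne_inv h2
  rw [← h.sx, conj_of_mem_centralizer hs]

theorem Syl2Data.mem_or {S : Subgroup SL2} {x s₀ : SL2} (h : Syl2Data S x s₀) {s : SL2} (hs : s ∈ S) :
    s ∈ Subgroup.centralizer ({x} : Set SL2) ∨ s * x * s⁻¹ = x⁻¹ := by
  rcases h.norm s hs with h1 | h1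
  · left; exact mem_centralizer_of_conj h1
  · right; exact h1

theorem Syl2Data.dic {S : Subgroup SL2} {x s₀ : SL2} (h : Syl2Data S x s₀) (h2 : (2 : F) ≠ 0) :
    DicData S (S ⊓ Subgroup.centralizer ({x} : Set SL2)) s₀ where
  le := inf_le_left
  ab := fun s hs t ht => centralizer_comm (h.nonScalar h2) hs.2 ht.2
  wN := h.sS
  wT := fun hs => h.s_not_mem h2 hs.2
  idx := by
    intro g hg
    rcases h.mem_or hg with h1 | h1
    · left; exact ⟨hg, h1⟩
    · right
      refine ⟨S.mul_mem (S.inv_mem h.sS) hg, ?_⟩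
      apply mem_centralizer_of_conj
      have h3 : s₀⁻¹ * x⁻¹ * s₀ = x := by
        rw [← h.sx]; group
      calc s₀⁻¹ * g * x * (s₀⁻¹ * g)⁻¹ = s₀⁻¹ * (g * x * g⁻¹) * s₀ := by group
        _ = x := by rw [h1, h3]
  inv := fun t ht => inverts_centralizer (h.nonScalar h2) h.sx ht.2

theorem Syl2Data.card {S : Subgroup SL2} {x s₀ : SL2} (h : Syl2Data S x s₀) (h2 : (2 : F) ≠ 0) :
    Nat.card S = 2 * Nat.card (S ⊓ Subgroup.centralizer ({x} : Set SL2) : Subgroup SL2) :=
  (h.dic h2).card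

end Data

theorem ne_inv_of_mul_self (h2 : (2 : F) ≠ 0) {x : SL2} (hxx : x * x = -1) : x ≠ x⁻¹ := by
  intro hx
  apply sl2_neg_one_ne_one h2
  rw [← hxx]
  nth_rewrite 1 [hx]
  exact inv_mul_cancel x

section Main

theorem exists_syl2Data [Fintype F] (hodd : Odd (Fintype.card F)) (S : Sylow 2 SL2) :
    ∃ x s₀ : SL2, Syl2Data (S : Subgroup SL2) x s₀ := by
  have h2 : (2 : F) ≠ 0 := two_ne_zero_of_odd hodd
  have h8 := eight_dvd_card_sylow hodd S
  have hcard : 2 < Nat.card (S : Subgroup SL2) := by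
    have := Nat.le_of_dvd Nat.card_pos h8
    omega
  obtain ⟨x, hxS, hxx, hnorm⟩ :=
    exists_normal_order_four h2 (S : Subgroup SL2) S.isPGroup' hcard
  have ht := trace_sq_ne_of_mul_self h2 x hxx
  have hxN := nonScalar_of_trace_sq_ne x ht
  by_cases hall : ∀ s ∈ (S : Subgroup SL2), s ∈ Subgroup.centralizer ({x} : Set SL2)
  · exfalso
    obtain ⟨w, hw⟩ := exists_inverting hodd ht
    have hwN : w ∈ Subgroup.normalizer ((S : Subgroup SL2) : Set SL2) := by
      apply Subgroup.mem_normalizer_fintype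
      intro n hn
      rw [inverts_centralizer hxN hw (hall n hn)]
      exact (S : Subgroup SL2).inv_mem hn
    have hww := mul_self_of_inverts hxN hw
    have hw4 : w ^ 2 ^ 2 = 1 := by
      have : w ^ 2 ^ 2 = (w * w) * (w * w) := by
        norm_num [pow_succ, mul_assoc]
      rw [this, hww]
      simp
    have hwS := mem_sylow_of_pow S w hwN 2 hw4
    have h3 := conj_of_mem_centralizer (hall w hwS)
    rw [hw] at h3
    exact ne_inv_of_mul_self h2 hxx h3.symm
  · push Not at hall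
    obtain ⟨s₀, hs₀S, hs₀⟩ := hall
    refine ⟨x, s₀, hxS, hxx, hnorm, hs₀S, ?_⟩
    rcases hnorm s₀ hs₀S with h | h
    · exact absurd (mem_centralizer_of_conj h) hs₀
    · exact h

/-- an element of `N(S) ∩ C(x)` lies in `S` -/
theorem Syl2Data.mem_of_centralizer {S : Sylow 2 SL2} {x s₀ : SL2}
    (h : Syl2Data (S : Subgroup SL2) x s₀) (h2 : (2 : F) ≠ 0) {g : SL2}
    (hgN : g ∈ Subgroup.normalizer ((S : Subgroup SL2) : Set SL2))
    (hgC : g ∈ Subgroup.centralizer ({x} : Set SL2)) : g ∈ (S : Subgroup SL2) := by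
  have h1 : s₀ * g * s₀⁻¹ = g⁻¹ := inverts_centralizer (h.nonScalar h2) h.sx hgC
  have h3 : g * s₀ * g⁻¹ ∈ (S : Subgroup SL2) :=
    (Subgroup.mem_normalizer_iff.mp hgN s₀).mp h.sS
  have h4 : g * g ∈ (S : Subgroup SL2) := by
    have : g * g = (g * s₀ * g⁻¹) * s₀⁻¹ := by
      calc g * g = g * (s₀ * g * s₀⁻¹)⁻¹ := by rw [h1, inv_inv]
        _ = (g * s₀ * g⁻¹) * s₀⁻¹ := by group
    rw [this]
    exact (S : Subgroup SL2).mul_mem h3 ((S : Subgroup SL2).inv_mem h.sS)
  obtain ⟨k, hk⟩ := S.isPGroup' ⟨g * g, h4⟩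
  have hk' : (g * g) ^ 2 ^ k = 1 := by
    have := congrArg Subtype.val hk
    simpa using this
  apply mem_sylow_of_pow S g hgN (k + 1)
  rw [pow_succ, pow_mul', pow_two]
  exact hk'

/-- an element of `N(S)` conjugating `x` to `x^{±1}` lies in `S` -/
theorem Syl2Data.mem_of_conj {S : Sylow 2 SL2} {x s₀ : SL2}
    (h : Syl2Data (S : Subgroup SL2) x s₀) (h2 : (2 : F) ≠ 0) {g : SL2}
    (hgN : g ∈ Subgroup.normalizer ((S : Subgroup SL2) : Set SL2))
    (hg : g * x * g⁻¹ = x ∨ g * x * g⁻¹ = x⁻¹) : g ∈ (S : Subgroup SL2) := by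
  rcases hg with hg | hg
  · exact h.mem_of_centralizer h2 hgN (mem_centralizer_of_conj hg)
  · have h1 : g * s₀ ∈ Subgroup.normalizer ((S : Subgroup SL2) : Set SL2) :=
      Subgroup.mul_mem _ hgN (Subgroup.le_normalizer h.sS)
    have h3 : (g * s₀) * x * (g * s₀)⁻¹ = x := by
      calc (g * s₀) * x * (g * s₀)⁻¹ = g * (s₀ * x * s₀⁻¹) * g⁻¹ := by group
        _ = (g * x * g⁻¹)⁻¹ := by rw [h.sx]; group
        _ = x := by rw [hg, inv_inv]
    have h4 := h.mem_of_centralizer h2 h1 (mem_centralizer_of_conj h3)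
    have : g = (g * s₀) * s₀⁻¹ := by group
    rw [this]
    exact (S : Subgroup SL2).mul_mem h4 ((S : Subgroup SL2).inv_mem h.sS)

theorem Syl2Data.centralizer_eq {S : Subgroup SL2} {x s₀ : SL2} (h : Syl2Data S x s₀)
    (h2 : (2 : F) ≠ 0) : Subgroup.centralizer (S : Set SL2) = Subgroup.center SL2 := by
  apply le_antisymm
  · intro g hg
    rw [Subgroup.mem_centralizer_iff] at hg
    have hgC : g ∈ Subgroup.centralizer ({x} : Set SL2) := by
      rw [Subgroup.mem_centralizer_singleton_iff]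
      exact (hg x h.xS).symm
    have h1 : s₀ * g * s₀⁻¹ = g⁻¹ := inverts_centralizer (h.nonScalar h2) h.sx hgC
    have h3 : s₀ * g * s₀⁻¹ = g := by
      rw [hg s₀ h.sS]; group
    have h4 : g * g = 1 := by
      rw [h3] at h1
      nth_rewrite 1 [h1]
      exact inv_mul_cancel g
    rcases (sl2_mul_self_eq_one_iff h2 g).mp h4 with h5 | h5
    · rw [h5]; exact Subgroup.one_mem _
    · rw [h5]; exact sl2_neg_one_mem_center
  · exact Subgroup.center_le_centralizer _


theorem conj_mul_self {G : Type*} [Group G] (g c : G) :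
    (g * c * g⁻¹) * (g * c * g⁻¹) = g * (c * c) * g⁻¹ := by group

theorem pow_four_of_mul_self_neg_one {c : SL2} (h : c * c = -1) : c ^ 4 = 1 := by
  have : c ^ 4 = (c * c) * (c * c) := by
    norm_num [pow_succ, mul_assoc]
  rw [this, h]
  simp

theorem pow_four_of_center {c : SL2} (h : c ∈ Subgroup.center SL2) : c ^ 4 = 1 := by
  rcases sl2_center_cases c h with h | h
  · rw [h, one_pow]
  · rw [h]
    have : (-1 : SL2) ^ 4 = ((-1) * (-1)) * ((-1) * (-1)) := by
      norm_num [pow_succ, mul_assoc]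
    rw [this]
    simp

/-- `N(S) = S` when `16 ∣ |S|` -/
theorem Syl2Data.normalizer_eq [Fintype F] {S : Sylow 2 SL2} {x s₀ : SL2}
    (h : Syl2Data (S : Subgroup SL2) x s₀) (hodd : Odd (Fintype.card F))
    (h16 : 16 ∣ Nat.card (S : Subgroup SL2)) :
    Subgroup.normalizer ((S : Subgroup SL2) : Set SL2) = (S : Subgroup SL2) := by
  have h2 : (2 : F) ≠ 0 := two_ne_zero_of_odd hodd
  have ht := h.ht h2
  have hxN := h.nonScalar h2
  apply le_antisymm _ Subgroup.le_normalizer
  intro g hgN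
  have hcardT : 8 ≤ Nat.card ((S : Subgroup SL2) ⊓ Subgroup.centralizer ({x} : Set SL2) :
      Subgroup SL2) := by
    have h1 := h.card h2
    rw [h1] at h16
    have h3 : 2 * 8 ∣ 2 * Nat.card ((S : Subgroup SL2) ⊓ Subgroup.centralizer ({x} : Set SL2) :
      Subgroup SL2) := h16
    exact Nat.le_of_dvd Nat.card_pos (Nat.dvd_of_mul_dvd_mul_left (by norm_num) h3)
  have : IsCyclic (Subgroup.centralizer ({x} : Set SL2)) := (regular_centralizer hodd x ht).1
  have : IsCyclic ((S : Subgroup SL2) ⊓ Subgroup.centralizer ({x} : Set SL2) : Subgroup SL2) :=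
    Subgroup.isCyclic_of_le inf_le_right
  obtain ⟨c, hc⟩ := IsCyclic.exists_ofOrder_eq_natCard
    (α := ((S : Subgroup SL2) ⊓ Subgroup.centralizer ({x} : Set SL2) : Subgroup SL2))
  have hc4 : (c : SL2) ^ 4 ≠ 1 := by
    intro h4
    have h5 : c ^ 4 = 1 := by
      apply Subtype.ext
      simpa using h4
    have h6 := Nat.le_of_dvd (by norm_num) (orderOf_dvd_of_pow_eq_one h5)
    omega
  have hcS : (c : SL2) ∈ (S : Subgroup SL2) := c.2.1
  have hcC : (c : SL2) ∈ Subgroup.centralizer ({x} : Set SL2) := c.2.2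
  have hyS : g * (c : SL2) * g⁻¹ ∈ (S : Subgroup SL2) :=
    (Subgroup.mem_normalizer_iff.mp hgN _).mp hcS
  have hyC : g * (c : SL2) * g⁻¹ ∈ Subgroup.centralizer ({x} : Set SL2) := by
    rcases h.mem_or hyS with h1 | h1
    · exact h1
    · exfalso
      apply hc4
      apply pow_four_of_mul_self_neg_one
      have h3 := mul_self_of_inverts hxN h1
      rw [conj_mul_self] at h3
      calc (c : SL2) * (c : SL2) = g⁻¹ * (g * ((c : SL2) * (c : SL2)) * g⁻¹) * g := by group
        _ = -1 := by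
          rw [h3, mul_neg, neg_mul, mul_one, inv_mul_cancel]
  have hyN : Cfsg.Agent.Lib.H12.NonScalar ((g * (c : SL2) * g⁻¹ : SL2) : M2) := by
    by_contra hns
    have h1 := sl2_mem_center_of_not_nonScalar _ hns
    apply hc4
    have h3 := pow_four_of_center h1
    rw [conj_pow] at h3
    calc (c : SL2) ^ 4 = g⁻¹ * (g * (c : SL2) ^ 4 * g⁻¹) * g := by group
      _ = 1 := by rw [h3]; group
  have hCeq := centralizer_eq_of_mem hxN hyN hyC
  have hxy : g * x * g⁻¹ ∈ Subgroup.centralizer ({g * (c : SL2) * g⁻¹} : Set SL2) := by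
    rw [Subgroup.mem_centralizer_singleton_iff]
    rw [Subgroup.mem_centralizer_singleton_iff] at hcC
    calc g * x * g⁻¹ * (g * (c : SL2) * g⁻¹) = g * (x * (c : SL2)) * g⁻¹ := by group
      _ = g * ((c : SL2) * x) * g⁻¹ := by rw [hcC]
      _ = g * (c : SL2) * g⁻¹ * (g * x * g⁻¹) := by group
  rw [hCeq] at hxy
  exact h.mem_of_conj h2 hgN (conj_cases_of_mem h2 ht hxy)


/-! ### The element of order three (or six) normalizing a quaternion subgroup -/

theorem quat_det (h2 : (2 : F) ≠ 0) (i j : M2) (hi : i.det = 1) (hj : j.det = 1)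
    (hti : i.trace = 0) (htj : j.trace = 0) :
    ((2 : F)⁻¹ • ((1 + i) * (1 + j))).det = 1 := by
  have h1 : ∀ A : M2, A.det = 1 → A.trace = 0 → (1 + A).det = 2 := by
    intro A hA htA
    have := det_span A hA 1 1
    rw [one_smul, one_smul, htA] at this
    rw [this]; ring
  rw [Matrix.det_smul, Matrix.det_mul, h1 i hi hti, h1 j hj htj]
  simp only [Fintype.card_fin]
  field_simp

theorem quat_conj₁ (i j : M2) (hii : i * i = -1) (hjj : j * j = -1) (hji : j * i = -(i * j)) :
    ((2 : F)⁻¹ • ((1 + i) * (1 + j))) * i = j * ((2 : F)⁻¹ • ((1 + i) * (1 + j))) := by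
  have hii' : ∀ z : M2, i * (i * z) = -z := by
    intro z; rw [← mul_assoc, hii, neg_one_mul]
  have hji' : ∀ z : M2, j * (i * z) = -(i * (j * z)) := by
    intro z; rw [← mul_assoc, hji, neg_mul, mul_assoc]
  rw [smul_mul_assoc, mul_smul_comm]
  congr 1
  simp only [mul_add, add_mul, mul_one, one_mul, mul_assoc, hii, hjj, hji, hii', hji',
    mul_neg, neg_neg]
  abel

theorem quat_conj₂ (i j : M2) (hii : i * i = -1) (hjj : j * j = -1) (hji : j * i = -(i * j)) :
    ((2 : F)⁻¹ • ((1 + i) * (1 + j))) * j = (i * j) * ((2 : F)⁻¹ • ((1 + i) * (1 + j))) := by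
  have hii' : ∀ z : M2, i * (i * z) = -z := by
    intro z; rw [← mul_assoc, hii, neg_one_mul]
  have hji' : ∀ z : M2, j * (i * z) = -(i * (j * z)) := by
    intro z; rw [← mul_assoc, hji, neg_mul, mul_assoc]
  rw [smul_mul_assoc, mul_smul_comm]
  congr 1
  simp only [mul_add, add_mul, mul_one, one_mul, mul_assoc, hii, hjj, hji, hii', hji',
    mul_neg, neg_neg]
  abel

/-- a subgroup `S ≤ N` with `N = S ∪ uS ∪ u²S`, `u, u² ∉ S`, has index three -/
theorem card_eq_three_mul {G : Type*} [Group G] [Finite G] (N S : Subgroup G) (u : G)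
    (hSN : S ≤ N) (huN : u ∈ N) (hu : u ∉ S) (huu : u * u ∉ S)
    (hcov : ∀ g ∈ N, g ∈ S ∨ u⁻¹ * g ∈ S ∨ u⁻¹ * (u⁻¹ * g) ∈ S) :
    Nat.card N = 3 * Nat.card S := by
  let f : S ⊕ (S ⊕ S) → N := fun a =>
    match a with
    | Sum.inl s => ⟨s, hSN s.2⟩
    | Sum.inr (Sum.inl s) => ⟨u * s, N.mul_mem huN (hSN s.2)⟩
    | Sum.inr (Sum.inr s) => ⟨u * (u * s), N.mul_mem huN (N.mul_mem huN (hSN s.2))⟩
  have hf : Function.Bijective f := by
    constructor
    · rintro (s | s | s) (t | t | t) hst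
      · have := congrArg Subtype.val hst
        simp only [f] at this
        rw [Subtype.ext this]
      · exfalso
        have := congrArg Subtype.val hst
        simp only [f] at this
        apply hu
        have h1 : u = s * (t : G)⁻¹ := by rw [this]; group
        rw [h1]; exact S.mul_mem s.2 (S.inv_mem t.2)
      · exfalso
        have := congrArg Subtype.val hst
        simp only [f] at this
        apply huu
        have h1 : u * u = s * (t : G)⁻¹ := by rw [this]; group
        rw [h1]; exact S.mul_mem s.2 (S.inv_mem t.2)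
      · exfalso
        have := congrArg Subtype.val hst
        simp only [f] at this
        apply hu
        have h1 : u = t * (s : G)⁻¹ := by rw [← this]; group
        rw [h1]; exact S.mul_mem t.2 (S.inv_mem s.2)
      · have := congrArg Subtype.val hst
        simp only [f] at this
        rw [Subtype.ext (mul_left_cancel this)]
      · exfalso
        have := congrArg Subtype.val hst
        simp only [f] at this
        apply hu
        have h1 : u = s * (t : G)⁻¹ := by rw [mul_left_cancel this]; group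
        rw [h1]; exact S.mul_mem s.2 (S.inv_mem t.2)
      · exfalso
        have := congrArg Subtype.val hst
        simp only [f] at this
        apply huu
        have h1 : u * u = t * (s : G)⁻¹ := by rw [← this]; group
        rw [h1]; exact S.mul_mem t.2 (S.inv_mem s.2)
      · exfalso
        have := congrArg Subtype.val hst
        simp only [f] at this
        apply hu
        have h1 : u = t * (s : G)⁻¹ := by rw [← mul_left_cancel this]; group
        rw [h1]; exact S.mul_mem t.2 (S.inv_mem s.2)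
      · have := congrArg Subtype.val hst
        simp only [f] at this
        rw [Subtype.ext (mul_left_cancel (mul_left_cancel this))]
    · rintro ⟨g, hg⟩
      rcases hcov g hg with h1 | h1 | h1
      · exact ⟨Sum.inl ⟨g, h1⟩, rfl⟩
      · refine ⟨Sum.inr (Sum.inl ⟨u⁻¹ * g, h1⟩), ?_⟩
        apply Subtype.ext
        simp [f]
      · refine ⟨Sum.inr (Sum.inr ⟨u⁻¹ * (u⁻¹ * g), h1⟩), ?_⟩
        apply Subtype.ext
        simp [f]
  rw [← Nat.card_congr (Equiv.ofBijective f hf), Nat.card_sum, Nat.card_sum]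
  ring


theorem conj_inv_eq {G : Type*} [Group G] (a x : G) : a * x⁻¹ * a⁻¹ = (a * x * a⁻¹)⁻¹ := by group

theorem coe_mul_self_neg_one {x : SL2} (h : x * x = -1) : (x : M2) * (x : M2) = -1 := by
  rw [← Matrix.SpecialLinearGroup.coe_mul, h]
  simp

/-- `|N(S)| = 3 |S|` when `|S| = 8` -/
theorem Syl2Data.card_normalizer [Fintype F] {S : Sylow 2 SL2} {x s₀ : SL2}
    (h : Syl2Data (S : Subgroup SL2) x s₀) (hodd : Odd (Fintype.card F))
    (h8 : Nat.card (S : Subgroup SL2) = 8) :
    Nat.card (Subgroup.normalizer ((S : Subgroup SL2) : Set SL2)) =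
      3 * Nat.card (S : Subgroup SL2) := by
  have h2 : (2 : F) ≠ 0 := two_ne_zero_of_odd hodd
  have ht := h.ht h2
  have hxN := h.nonScalar h2
  have hss : s₀ * s₀ = -1 := mul_self_of_inverts hxN h.sx
  have hxinv : x⁻¹ = -x := inv_eq_neg_of_mul_self x h.xx
  have hsinv : s₀⁻¹ = -s₀ := inv_eq_neg_of_mul_self s₀ hss
  have hsx' : s₀ * x = -(x * s₀) := by
    calc s₀ * x = (s₀ * x * s₀⁻¹) * s₀ := by group
      _ = -(x * s₀) := by rw [h.sx, hxinv, neg_mul]
  have hii := coe_mul_self_neg_one h.xx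
  have hjj := coe_mul_self_neg_one hss
  have hji : (s₀ : M2) * (x : M2) = -((x : M2) * (s₀ : M2)) := by
    rw [← Matrix.SpecialLinearGroup.coe_mul, hsx']
    simp
  have htx := trace_eq_zero_of_mul_self x h.xx
  have hts := trace_eq_zero_of_mul_self s₀ hss
  obtain ⟨u, hu⟩ : ∃ u : SL2, (u : M2) = (2 : F)⁻¹ • ((1 + (x : M2)) * (1 + (s₀ : M2))) :=
    ⟨⟨_, quat_det h2 _ _ x.det_coe s₀.det_coe htx hts⟩, rfl⟩
  have hu1 : u * x = s₀ * u := by
    apply Subtype.ext
    rw [Matrix.SpecialLinearGroup.coe_mul, Matrix.SpecialLinearGroup.coe_mul, hu]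
    exact quat_conj₁ _ _ hii hjj hji
  have hu2 : u * s₀ = (x * s₀) * u := by
    apply Subtype.ext
    rw [Matrix.SpecialLinearGroup.coe_mul, Matrix.SpecialLinearGroup.coe_mul,
      Matrix.SpecialLinearGroup.coe_mul, hu]
    exact quat_conj₂ _ _ hii hjj hji
  have hc1 : u * x * u⁻¹ = s₀ := by rw [hu1]; group
  have hc2 : u * s₀ * u⁻¹ = x * s₀ := by rw [hu2]; group
  have hc1' : u * x⁻¹ * u⁻¹ = s₀⁻¹ := by
    rw [← hc1]; group
  have hc3 : (u * u) * x * (u * u)⁻¹ = x * s₀ := by
    calc (u * u) * x * (u * u)⁻¹ = u * (u * x * u⁻¹) * u⁻¹ := by group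
      _ = x * s₀ := by rw [hc1, hc2]
  have hc3' : (u * u) * x⁻¹ * (u * u)⁻¹ = s₀ * x := by
    calc (u * u) * x⁻¹ * (u * u)⁻¹ = ((u * u) * x * (u * u)⁻¹)⁻¹ := conj_inv_eq _ _
      _ = s₀ * x := by
        rw [hc3, _root_.mul_inv_rev, hxinv, hsinv, neg_mul_neg]
  -- the torus part has order four
  have hcardT : Nat.card ((S : Subgroup SL2) ⊓ Subgroup.centralizer ({x} : Set SL2) :
      Subgroup SL2) = 4 := by
    have h1 := h.card h2
    omega
  have hT : ∀ t ∈ ((S : Subgroup SL2) ⊓ Subgroup.centralizer ({x} : Set SL2) : Subgroup SL2),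
      t = 1 ∨ t = -1 ∨ t = x ∨ t = x⁻¹ := by
    intro t htT
    have h1 : (⟨t, htT⟩ : ((S : Subgroup SL2) ⊓ Subgroup.centralizer ({x} : Set SL2) :
        Subgroup SL2)) ^ 4 = 1 := by
      rw [← hcardT]
      exact pow_card_eq_one'
    have h3 : t ^ 4 = 1 := by
      have := congrArg Subtype.val h1
      simpa using this
    have h4 : (t * t) * (t * t) = 1 := by
      rw [← h3]
      norm_num [pow_succ, mul_assoc]
    rcases (sl2_mul_self_eq_one_iff h2 (t * t)).mp h4 with h5 | h5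
    · rcases (sl2_mul_self_eq_one_iff h2 t).mp h5 with h6 | h6
      · left; exact h6
      · right; left; exact h6
    · right; right
      apply eq_or_eq_inv_of_trace h2 ht htT.2
      rw [trace_eq_zero_of_mul_self t h5, htx]
  have hdic := h.dic h2
  have hxs : x * s₀ ∈ (S : Subgroup SL2) := (S : Subgroup SL2).mul_mem h.xS h.sS
  have hconjT : ∀ t ∈ ((S : Subgroup SL2) ⊓ Subgroup.centralizer ({x} : Set SL2) : Subgroup SL2),
      u * t * u⁻¹ ∈ (S : Subgroup SL2) := by
    intro t htT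
    rcases hT t htT with h1 | h1 | h1 | h1
    · rw [h1]
      have : u * 1 * u⁻¹ = 1 := by group
      rw [this]; exact Subgroup.one_mem _
    · rw [h1, ← h.xx]
      have : u * (x * x) * u⁻¹ = (u * x * u⁻¹) * (u * x * u⁻¹) := by group
      rw [this, hc1]
      exact (S : Subgroup SL2).mul_mem h.sS h.sS
    · rw [h1, hc1]; exact h.sS
    · rw [h1, hc1']; exact (S : Subgroup SL2).inv_mem h.sS
  have huN : u ∈ Subgroup.normalizer ((S : Subgroup SL2) : Set SL2) := by
    apply Subgroup.mem_normalizer_fintype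
    intro n hn
    rcases hdic.idx n hn with h1 | h1
    · exact hconjT n h1
    · have : u * n * u⁻¹ = (u * s₀ * u⁻¹) * (u * (s₀⁻¹ * n) * u⁻¹) := by group
      rw [this, hc2]
      exact (S : Subgroup SL2).mul_mem hxs (hconjT _ h1)
  have hxC : x ∈ Subgroup.centralizer ({x} : Set SL2) := self_mem_centralizer x
  have hxiC : x⁻¹ ∈ Subgroup.centralizer ({x} : Set SL2) := Subgroup.inv_mem _ hxC
  have hsC := h.s_not_mem h2
  have huS : u ∉ (S : Subgroup SL2) := by
    intro huS
    apply hsC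
    rcases h.norm u huS with h1 | h1
    · rw [← hc1, h1]; exact hxC
    · rw [← hc1, h1]; exact hxiC
  have huuS : u * u ∉ (S : Subgroup SL2) := by
    intro huS
    apply hsC
    have h3 : x * s₀ ∈ Subgroup.centralizer ({x} : Set SL2) := by
      rcases h.norm (u * u) huS with h1 | h1
      · rw [← hc3, h1]; exact hxC
      · rw [← hc3, h1]; exact hxiC
    have : s₀ = x⁻¹ * (x * s₀) := by group
    rw [this]
    exact Subgroup.mul_mem _ hxiC h3
  apply card_eq_three_mul _ _ u Subgroup.le_normalizer huN huS huuS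
  intro g hgN
  have hyS : g * x * g⁻¹ ∈ (S : Subgroup SL2) :=
    (Subgroup.mem_normalizer_iff.mp hgN _).mp h.xS
  have key : ∀ v ∈ Subgroup.normalizer ((S : Subgroup SL2) : Set SL2),
      (g * x * g⁻¹ = v * x * v⁻¹ ∨ g * x * g⁻¹ = v * x⁻¹ * v⁻¹) → v⁻¹ * g ∈ (S : Subgroup SL2) := by
    intro v hv hy
    apply h.mem_of_conj h2 (Subgroup.mul_mem _ (Subgroup.inv_mem _ hv) hgN)
    have h1 : v⁻¹ * g * x * (v⁻¹ * g)⁻¹ = v⁻¹ * (g * x * g⁻¹) * v := by group
    rw [h1]
    rcases hy with hy | hy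
    · left; rw [hy]; group
    · right; rw [hy]; group
  rcases hdic.idx _ hyS with h1 | h1
  · left
    exact h.mem_of_conj h2 hgN (conj_cases_of_mem h2 ht h1.2)
  · have hy : g * x * g⁻¹ = s₀ * (s₀⁻¹ * (g * x * g⁻¹)) := by group
    rcases hT _ h1 with h3 | h3 | h3 | h3
    · right; left
      apply key u huN
      left
      rw [hy, h3, hc1, mul_one]
    · right; left
      apply key u huN
      right
      rw [hy, h3, hc1', hsinv, mul_neg, mul_one]
    · right; right
      have := key (u * u) (Subgroup.mul_mem _ huN huN) (Or.inr (by rw [hy, h3, hc3']))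
      have h4 : u⁻¹ * (u⁻¹ * g) = (u * u)⁻¹ * g := by group
      rw [h4]; exact this
    · right; right
      have h5 : s₀ * x⁻¹ = x * s₀ := by
        have : s₀ * x⁻¹ * s₀⁻¹ = x := by
          calc s₀ * x⁻¹ * s₀⁻¹ = (s₀ * x * s₀⁻¹)⁻¹ := by group
            _ = x := by rw [h.sx, inv_inv]
        calc s₀ * x⁻¹ = (s₀ * x⁻¹ * s₀⁻¹) * s₀ := by group
          _ = x * s₀ := by rw [this]
      have := key (u * u) (Subgroup.mul_mem _ huN huN) (Or.inl (by rw [hy, h3, hc3, h5]))
      have h4 : u⁻¹ * (u⁻¹ * g) = (u * u)⁻¹ * g := by group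
      rw [h4]; exact this

end Main

end Cfsg.Agent.Lib.H12
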