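import Mathlib
import Cfsg.Agent.S1475
import Cfsg.Agent.Lib.H1.Hall

/-!
# Lucido's three-primes lemma (helper12)

In a finite solvable group whose order is divisible by three different primes `a, b, c` some element
has order `a * b`, `a * c` or `b * c`.  Proof: a Hall `{a,b,c}`-subgroup (landed `Lib/H1/Hall`) and
the landed S1475 (solvable groups in which all element orders are prime powers have at most two
prime divisors).
-/

set_option autoImplicit false

namespace Cfsg.Agent.Lib.H12.Lucido

universe u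

/-- a divisor `d ≠ 1` of `a^α * b^β * c^γ` that is not a prime power is divisible by two
different primes among `a, b, c` -/
theorem two_primes_of_not_isPrimePow {a b c α β γ d : ℕ} (ha : a.Prime) (hb : b.Prime)
    (hc : c.Prime) (hd : d ∣ a ^ α * b ^ β * c ^ γ) (hd0 : d ≠ 0) (hd1 : d ≠ 1)
    (hnp : ¬ IsPrimePow d) :
    ∃ x y : ℕ, x.Prime ∧ y.Prime ∧ x ≠ y ∧ (x = a ∨ x = b ∨ x = c) ∧ (y = a ∨ y = b ∨ y = c) ∧
      x * y ∣ d := by
  have hcard : 1 < d.primeFactors.card := by
    have h0 : d.primeFactors.card ≠ 0 := by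
      intro h
      rw [Finset.card_eq_zero, Nat.primeFactors_eq_empty] at h
      rcases h with h | h
      · exact hd0 h
      · exact hd1 h
    have h1 : d.primeFactors.card ≠ 1 := by
      intro h
      exact hnp (isPrimePow_iff_card_primeFactors_eq_one.mpr h)
    omega
  obtain ⟨x, hx, y, hy, hxy⟩ := Finset.one_lt_card.mp hcard
  have hxp : x.Prime := Nat.prime_of_mem_primeFactors hx
  have hyp : y.Prime := Nat.prime_of_mem_primeFactors hy
  have hxd : x ∣ d := Nat.dvd_of_mem_primeFactors hx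
  have hyd : y ∣ d := Nat.dvd_of_mem_primeFactors hy
  have key : ∀ z : ℕ, z.Prime → z ∣ d → (z = a ∨ z = b ∨ z = c) := by
    intro z hz hzd
    have h1 : z ∣ a ^ α * b ^ β * c ^ γ := dvd_trans hzd hd
    rcases (Nat.Prime.dvd_mul hz).mp h1 with h2 | h2
    · rcases (Nat.Prime.dvd_mul hz).mp h2 with h3 | h3
      · left
        exact (Nat.prime_dvd_prime_iff_eq hz ha).mp (hz.dvd_of_dvd_pow h3)
      · right; left
        exact (Nat.prime_dvd_prime_iff_eq hz hb).mp (hz.dvd_of_dvd_pow h3)
    · right; right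
      exact (Nat.prime_dvd_prime_iff_eq hz hc).mp (hz.dvd_of_dvd_pow h2)
  refine ⟨x, y, hxp, hyp, hxy, key x hxp hxd, key y hyp hyd, ?_⟩
  exact Nat.Coprime.mul_dvd_of_dvd_of_dvd ((Nat.coprime_primes hxp hyp).mpr hxy) hxd hyd

/-- **Lucido's three-primes lemma.** -/
theorem three_primes {H : Type u} [Group H] [Finite H] [hsol : Group.IsSolvable H]
    {a b c : ℕ} (ha : a.Prime) (hb : b.Prime) (hc : c.Prime)
    (hab : a ≠ b) (hac : a ≠ c) (hbc : b ≠ c)
    (hda : a ∣ Nat.card H) (hdb : b ∣ Nat.card H) (hdc : c ∣ Nat.card H) :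
    ∃ g : H, orderOf g = a * b ∨ orderOf g = a * c ∨ orderOf g = b * c := by
  classical
  set n := Nat.card H with hn
  have hn0 : n ≠ 0 := Nat.card_pos.ne'
  -- split off the `{a,b,c}`-part of `n`
  set α := n.factorization a with hα
  set n1 := n / a ^ α with hn1
  have e1 : a ^ α * n1 = n := Nat.ordProj_mul_ordCompl_eq_self n a
  have c1 : Nat.Coprime a n1 := Nat.coprime_ordCompl ha hn0
  have hn10 : n1 ≠ 0 := by
    intro h; rw [h, mul_zero] at e1; exact hn0 e1.symm
  set β := n1.factorization b with hβ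
  set n2 := n1 / b ^ β with hn2
  have e2 : b ^ β * n2 = n1 := Nat.ordProj_mul_ordCompl_eq_self n1 b
  have c2 : Nat.Coprime b n2 := Nat.coprime_ordCompl hb hn10
  have hn20 : n2 ≠ 0 := by
    intro h; rw [h, mul_zero] at e2; exact hn10 e2.symm
  set γ := n2.factorization c with hγ
  set n3 := n2 / c ^ γ with hn3
  have e3 : c ^ γ * n3 = n2 := Nat.ordProj_mul_ordCompl_eq_self n2 c
  have c3 : Nat.Coprime c n3 := Nat.coprime_ordCompl hc hn20
  have hn3n2 : n3 ∣ n2 := Dvd.intro_left _ e3
  have hn2n1 : n2 ∣ n1 := Dvd.intro_left _ e2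
  have ca3 : Nat.Coprime a n3 := Nat.Coprime.coprime_dvd_right (dvd_trans hn3n2 hn2n1) c1
  have cb3 : Nat.Coprime b n3 := Nat.Coprime.coprime_dvd_right hn3n2 c2
  set m := a ^ α * b ^ β * c ^ γ with hm
  have hnm : n = m * n3 := by
    rw [hm, ← e1, ← e2, ← e3]; ring
  have hcop : Nat.Coprime m n3 := by
    rw [hm]
    exact Nat.Coprime.mul_left (Nat.Coprime.mul_left (Nat.Coprime.pow_left α ca3)
      (Nat.Coprime.pow_left β cb3)) (Nat.Coprime.pow_left γ c3)
  -- the primes divide `m`
  have ham : a ∣ m := by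
    have : a ∣ m * n3 := hnm ▸ hda
    exact (Nat.Coprime.dvd_mul_right ca3).mp this
  have hbm : b ∣ m := by
    have : b ∣ m * n3 := hnm ▸ hdb
    exact (Nat.Coprime.dvd_mul_right cb3).mp this
  have hcm : c ∣ m := by
    have : c ∣ m * n3 := hnm ▸ hdc
    exact (Nat.Coprime.dvd_mul_right c3).mp this
  have hm0 : m ≠ 0 := by
    intro h; rw [h, zero_mul] at hnm; exact hn0 hnm
  -- a Hall subgroup of order `m`
  obtain ⟨K, hK⟩ := Cfsg.Agent.Lib.H1.hall_exists (G := H) hnm hcop
  have h3 : 3 ≤ (Nat.card K).primeFactors.card := by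
    rw [hK]
    have hsub : ({a, b, c} : Finset ℕ) ⊆ m.primeFactors := by
      intro z hz
      simp only [Finset.mem_insert, Finset.mem_singleton] at hz
      rcases hz with rfl | rfl | rfl
      · exact Nat.mem_primeFactors.mpr ⟨ha, ham, hm0⟩
      · exact Nat.mem_primeFactors.mpr ⟨hb, hbm, hm0⟩
      · exact Nat.mem_primeFactors.mpr ⟨hc, hcm, hm0⟩
    have hc3 : ({a, b, c} : Finset ℕ).card = 3 := by
      rw [Finset.card_insert_of_notMem, Finset.card_insert_of_notMem, Finset.card_singleton]
      · simpa using hbc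
      · simp [hab, hac]
    calc 3 = ({a, b, c} : Finset ℕ).card := hc3.symm
      _ ≤ m.primeFactors.card := Finset.card_le_card hsub
  -- S1475 gives an element whose order is not a prime power
  have hex : ∃ g : K, ¬ IsPrimePow (orderOf g) ∧ g ≠ 1 := by
    by_contra hcon
    push Not at hcon
    have h2 := Cfsg.Agent.S1475.result (G := K) (fun g => by
      by_cases hg : IsPrimePow (orderOf g)
      · exact Or.inl hg
      · exact Or.inr (hcon g hg))
    omega
  obtain ⟨g, hgnp, hg1⟩ := hex
  have hd : orderOf g ∣ a ^ α * b ^ β * c ^ γ := by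
    have := orderOf_dvd_natCard g
    rw [hK] at this
    exact this
  have hd0 : orderOf g ≠ 0 := (orderOf_pos g).ne'
  have hd1 : orderOf g ≠ 1 := by
    intro h; exact hg1 (orderOf_eq_one_iff.mp h)
  obtain ⟨x, y, hxp, hyp, hxy, hx, hy, hdvd⟩ :=
    two_primes_of_not_isPrimePow ha hb hc hd hd0 hd1 hgnp
  have hord : orderOf (((g ^ (orderOf g / (x * y)) : K) : H)) = x * y := by
    rw [Subgroup.orderOf_coe]
    exact orderOf_pow_orderOf_div hd0 hdvd
  refine ⟨((g ^ (orderOf g / (x * y)) : K) : H), ?_⟩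
  rw [hord]
  rcases hx with rfl | rfl | rfl <;> rcases hy with rfl | rfl | rfl
  · exact absurd rfl hxy
  · exact Or.inl rfl
  · exact Or.inr (Or.inl rfl)
  · exact Or.inl (mul_comm _ _)
  · exact absurd rfl hxy
  · exact Or.inr (Or.inr rfl)
  · exact Or.inr (Or.inl (mul_comm _ _))
  · exact Or.inr (Or.inr (mul_comm _ _))
  · exact absurd rfl hxy

/-- Lucido's lemma inside a centralizer: if `x` has prime order `t` and three further primes divide
`|C_G(x)|` (`G` solvable), then `G` has an element of order `t * (product of two of them)`. -/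
theorem centralizer_three_primes {G : Type u} [Group G] [Finite G] [Group.IsSolvable G]
    {t a b c : ℕ} (ht : t.Prime) (ha : a.Prime) (hb : b.Prime) (hc : c.Prime)
    (hta : t ≠ a) (htb : t ≠ b) (htc : t ≠ c) (hab : a ≠ b) (hac : a ≠ c) (hbc : b ≠ c)
    (x : G) (hx : orderOf x = t)
    (hda : a ∣ Nat.card (Subgroup.centralizer ({x} : Set G)))
    (hdb : b ∣ Nat.card (Subgroup.centralizer ({x} : Set G)))
    (hdc : c ∣ Nat.card (Subgroup.centralizer ({x} : Set G))) :
    ∃ g : G, orderOf g = t * (a * b) ∨ orderOf g = t * (a * c) ∨ orderOf g = t * (b * c) := by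
  obtain ⟨y, hy⟩ := three_primes (H := Subgroup.centralizer ({x} : Set G)) ha hb hc hab hac hbc
    hda hdb hdc
  have hcomm : Commute x (y : G) := by
    have := Subgroup.mem_centralizer_iff.mp y.2 x (Set.mem_singleton x)
    exact this
  have hyo : orderOf (y : G) = orderOf y := Subgroup.orderOf_coe y
  have key : ∀ u v : ℕ, u.Prime → v.Prime → t ≠ u → t ≠ v → orderOf y = u * v →
      orderOf (x * (y : G)) = t * (u * v) := by
    intro u v hu hv htu htv huv
    have hcop : Nat.Coprime (orderOf x) (orderOf (y : G)) := by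
      rw [hx, hyo, huv]
      exact Nat.Coprime.mul_right ((Nat.coprime_primes ht hu).mpr htu)
        ((Nat.coprime_primes ht hv).mpr htv)
    rw [hcomm.orderOf_mul_eq_mul_orderOf_of_coprime hcop, hx, hyo, huv]
  refine ⟨x * (y : G), ?_⟩
  rcases hy with h | h | h
  · exact Or.inl (key a b ha hb hta htb h)
  · exact Or.inr (Or.inl (key a c ha hc hta htc h))
  · exact Or.inr (Or.inr (key b c hb hc htb htc h))

end Cfsg.Agent.Lib.H12.Lucido
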