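import Mathlib

/-!
# S2332 (minimal degree of `SL_n(q)`): the concrete objects (helper12)

Block matrices on `Fin (m + 1)`, the row radical `uEl a = [[1, a], [0, 1]]` of `SL (Fin (m + 1)) F`, its Levi complement
`lev g = diag ((det g)⁻¹, g)`, the same objects `uG`, `levG1`, `dG` in `GL (Fin (k + 1)) F`, the action `actS c g : a ↦ c • (a ᵥ* g⁻¹)`
of the Levi complement on the radical, and the characters `lam χ₀ v : a ↦ χ₀ (a ⬝ᵥ v)` of the radical.
-/

set_option autoImplicit false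
set_option linter.unusedSectionVars false

namespace Cfsg.Agent.Lib.H12.SLMin

open Matrix

variable {F : Type*} [Field F]

/-! ## block matrices -/

/-- the block matrix `[[a, r], [l, D]]` on `Fin (m + 1)` -/
def bm {m : ℕ} (a : F) (r l : Fin m → F) (D : Matrix (Fin m) (Fin m) F) :
    Matrix (Fin (m + 1)) (Fin (m + 1)) F :=
  Matrix.of (fun i j => Fin.cases (Fin.cases a r j) (fun i' => Fin.cases (l i') (D i') j) i)

section bm

variable {m : ℕ} (a a' : F) (r l r' l' : Fin m → F) (D D' : Matrix (Fin m) (Fin m) F)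

@[simp] theorem bm_zero_zero : bm a r l D 0 0 = a := rfl

@[simp] theorem bm_zero_succ (j : Fin m) : bm a r l D 0 j.succ = r j := rfl

@[simp] theorem bm_succ_zero (i : Fin m) : bm a r l D i.succ 0 = l i := rfl

@[simp] theorem bm_succ_succ (i j : Fin m) : bm a r l D i.succ j.succ = D i j := rfl

theorem bm_ext {A B : Matrix (Fin (m + 1)) (Fin (m + 1)) F} (h00 : A 0 0 = B 0 0)
    (h0s : ∀ j : Fin m, A 0 j.succ = B 0 j.succ) (hs0 : ∀ i : Fin m, A i.succ 0 = B i.succ 0)
    (hss : ∀ i j : Fin m, A i.succ j.succ = B i.succ j.succ) : A = B := by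
  ext i j
  refine Fin.cases ?_ (fun i' => ?_) i <;> refine Fin.cases ?_ (fun j' => ?_) j
  · exact h00
  · exact h0s j'
  · exact hs0 i'
  · exact hss i' j'

theorem bm_eta (M : Matrix (Fin (m + 1)) (Fin (m + 1)) F) :
    M = bm (M 0 0) (fun j => M 0 j.succ) (fun i => M i.succ 0) (M.submatrix Fin.succ Fin.succ) := by
  apply bm_ext <;> intros <;> simp

theorem bm_inj {a a' : F} {r l r' l' : Fin m → F} {D D' : Matrix (Fin m) (Fin m) F}
    (h : bm a r l D = bm a' r' l' D') : a = a' ∧ r = r' ∧ l = l' ∧ D = D' := by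
  refine ⟨?_, ?_, ?_, ?_⟩
  · have := congrFun (congrFun h 0) 0
    simpa using this
  · funext j
    have := congrFun (congrFun h 0) j.succ
    simpa using this
  · funext i
    have := congrFun (congrFun h i.succ) 0
    simpa using this
  · ext i j
    have := congrFun (congrFun h i.succ) j.succ
    simpa using this

theorem bm_mul : bm a r l D * bm a' r' l' D' =
    bm (a * a' + r ⬝ᵥ l') (a • r' + r ᵥ* D') (a' • l + D *ᵥ l') (vecMulVec l r' + D * D') := by
  apply bm_ext
  · simp [Matrix.mul_apply, Fin.sum_univ_succ, dotProduct]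
  · intro j
    simp [Matrix.mul_apply, Fin.sum_univ_succ, vecMul, dotProduct]
  · intro i
    simp [Matrix.mul_apply, Fin.sum_univ_succ, mulVec, dotProduct, mul_comm]
  · intro i j
    simp [Matrix.mul_apply, Fin.sum_univ_succ, vecMulVec_apply]

theorem bm_one : (1 : Matrix (Fin (m + 1)) (Fin (m + 1)) F) = bm 1 0 0 1 := by
  apply bm_ext
  · simp
  · intro j
    simp [(Fin.succ_ne_zero j).symm]
  · intro i
    simp [Fin.succ_ne_zero]
  · intro i j
    simp [Matrix.one_apply]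

theorem bm_mulVec (x : F) (v : Fin m → F) :
    bm a r l D *ᵥ (Fin.cons x v : Fin (m + 1) → F) = Fin.cons (a * x + r ⬝ᵥ v) (x • l + D *ᵥ v) := by
  funext i
  refine Fin.cases ?_ (fun i' => ?_) i
  · simp [mulVec, dotProduct, Fin.sum_univ_succ]
  · simp [mulVec, dotProduct, Fin.sum_univ_succ, mul_comm]

/-- the determinant of a block upper triangular matrix -/
theorem det_bm : (bm a r 0 D).det = a * D.det := by
  rw [Matrix.det_succ_column_zero, Fin.sum_univ_succ]
  have h0 : ∀ i : Fin m, (-1 : F) ^ ((i.succ : Fin (m + 1)) : ℕ) * bm a r 0 D i.succ 0 *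
      ((bm a r 0 D).submatrix (Fin.succAbove i.succ) Fin.succ).det = 0 := by
    intro i
    simp
  rw [Finset.sum_congr rfl fun i _ => h0 i, Finset.sum_const_zero, add_zero]
  have h1 : (bm a r 0 D).submatrix (Fin.succAbove 0) Fin.succ = D := by
    ext i j
    simp
  rw [h1]
  simp

/-- the product of two block diagonal matrices -/
theorem bm_diag_mul : bm a 0 0 D * bm a' 0 0 D' = bm (a * a') 0 0 (D * D') := by
  rw [bm_mul]
  congr 1 <;> simp

end bm

/-! ## the row radical and the Levi complement of `SL (Fin (m + 1)) F` -/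

section SLpart

variable {m : ℕ}

/-- `uEl a = [[1, a], [0, 1]]` -/
def uEl (a : Fin m → F) : Matrix.SpecialLinearGroup (Fin (m + 1)) F :=
  ⟨bm 1 a 0 1, by rw [det_bm, det_one, mul_one]⟩

@[simp] theorem uEl_coe (a : Fin m → F) :
    (uEl a : Matrix (Fin (m + 1)) (Fin (m + 1)) F) = bm 1 a 0 1 := rfl

theorem uEl_add (a b : Fin m → F) : uEl (a + b) = uEl a * uEl b := by
  apply Subtype.ext
  rw [Matrix.SpecialLinearGroup.coe_mul, uEl_coe, uEl_coe, uEl_coe, bm_mul]
  congr 1 <;> simp [add_comm]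

theorem uEl_zero : uEl (0 : Fin m → F) = 1 := by
  apply Subtype.ext
  rw [uEl_coe, Matrix.SpecialLinearGroup.coe_one, bm_one]

theorem uEl_injective : Function.Injective (uEl : (Fin m → F) → _) := by
  intro a b h
  have := congrArg Subtype.val h
  exact (bm_inj this).2.1

/-- `lev g = diag ((det g)⁻¹, g)` -/
noncomputable def lev : GL (Fin m) F →* Matrix.SpecialLinearGroup (Fin (m + 1)) F where
  toFun g := ⟨bm ((g : Matrix (Fin m) (Fin m) F).det)⁻¹ 0 0 g, by
    rw [det_bm]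
    exact inv_mul_cancel₀ ((Matrix.isUnit_iff_isUnit_det _).1 g.isUnit).ne_zero⟩
  map_one' := by
    apply Subtype.ext
    show bm ((1 : GL (Fin m) F) : Matrix (Fin m) (Fin m) F).det⁻¹ 0 0
      ((1 : GL (Fin m) F) : Matrix (Fin m) (Fin m) F) = (1 : Matrix _ _ F)
    rw [Units.val_one, det_one, inv_one, bm_one]
  map_mul' g h := by
    apply Subtype.ext
    show bm ((g * h : GL (Fin m) F) : Matrix (Fin m) (Fin m) F).det⁻¹ 0 0
      ((g * h : GL (Fin m) F) : Matrix (Fin m) (Fin m) F) =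
      bm (g : Matrix (Fin m) (Fin m) F).det⁻¹ 0 0 (g : Matrix (Fin m) (Fin m) F) *
      bm (h : Matrix (Fin m) (Fin m) F).det⁻¹ 0 0 (h : Matrix (Fin m) (Fin m) F)
    rw [bm_diag_mul, Units.val_mul, det_mul, mul_inv]

@[simp] theorem lev_coe (g : GL (Fin m) F) :
    (lev g : Matrix (Fin (m + 1)) (Fin (m + 1)) F) =
      bm ((g : Matrix (Fin m) (Fin m) F).det)⁻¹ 0 0 g := rfl

end SLpart

/-! ## the same objects in `GL (Fin (k + 1)) F` -/

section GLpart

variable {k : ℕ}

/-- `uG a = [[1, a], [0, 1]]` in `GL` -/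
noncomputable def uG (a : Fin k → F) : GL (Fin (k + 1)) F :=
  Matrix.SpecialLinearGroup.toGL (uEl a)

@[simp] theorem uG_coe (a : Fin k → F) :
    (uG a : Matrix (Fin (k + 1)) (Fin (k + 1)) F) = bm 1 a 0 1 := rfl

theorem uG_add (a b : Fin k → F) : uG (a + b) = uG a * uG b := by
  unfold uG
  rw [uEl_add, map_mul]

theorem uG_zero : uG (0 : Fin k → F) = 1 := by
  unfold uG
  rw [uEl_zero, map_one]

theorem det_uG (a : Fin k → F) : (uG a : Matrix (Fin (k + 1)) (Fin (k + 1)) F).det = 1 := by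
  rw [uG_coe, det_bm, det_one, mul_one]

/-- `levG1 g = diag (1, g)` -/
def levG1 : GL (Fin k) F →* GL (Fin (k + 1)) F where
  toFun g := ⟨bm 1 0 0 g, bm 1 0 0 (g⁻¹ : GL (Fin k) F),
    by rw [bm_diag_mul, mul_one, ← Units.val_mul, mul_inv_cancel, Units.val_one, bm_one],
    by rw [bm_diag_mul, mul_one, ← Units.val_mul, inv_mul_cancel, Units.val_one, bm_one]⟩
  map_one' := by
    apply Units.ext
    show bm 1 0 0 ((1 : GL (Fin k) F) : Matrix (Fin k) (Fin k) F) = (1 : Matrix _ _ F)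
    rw [Units.val_one, bm_one]
  map_mul' g h := by
    apply Units.ext
    show bm 1 0 0 ((g * h : GL (Fin k) F) : Matrix (Fin k) (Fin k) F) =
      bm 1 0 0 (g : Matrix (Fin k) (Fin k) F) * bm 1 0 0 (h : Matrix (Fin k) (Fin k) F)
    rw [bm_diag_mul, mul_one, Units.val_mul]

@[simp] theorem levG1_coe (g : GL (Fin k) F) :
    (levG1 g : Matrix (Fin (k + 1)) (Fin (k + 1)) F) = bm 1 0 0 g := rfl

/-- `dG c = diag (c, 1)` -/
def dG : Fˣ →* GL (Fin (k + 1)) F where
  toFun c := ⟨bm (c : F) 0 0 1, bm ((c⁻¹ : Fˣ) : F) 0 0 1,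
    by rw [bm_diag_mul, mul_one, ← Units.val_mul, mul_inv_cancel, Units.val_one, bm_one],
    by rw [bm_diag_mul, mul_one, ← Units.val_mul, inv_mul_cancel, Units.val_one, bm_one]⟩
  map_one' := by
    apply Units.ext
    show bm ((1 : Fˣ) : F) 0 0 1 = (1 : Matrix _ _ F)
    rw [Units.val_one, bm_one]
  map_mul' c d := by
    apply Units.ext
    show bm ((c * d : Fˣ) : F) 0 0 1 = bm (c : F) 0 0 1 * bm (d : F) 0 0 1
    rw [bm_diag_mul, mul_one, Units.val_mul]

@[simp] theorem dG_coe (c : Fˣ) :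
    ((dG c : GL (Fin (k + 1)) F) : Matrix (Fin (k + 1)) (Fin (k + 1)) F) = bm (c : F) 0 0 1 := rfl

end GLpart

/-! ## the action of the Levi complement on the radical -/

/-- `actS c g : a ↦ c • (a ᵥ* g⁻¹)` -/
def actS {m : ℕ} (c : Fˣ) (g : GL (Fin m) F) : (Fin m → F) ≃+ (Fin m → F) where
  toFun a := (c : F) • (a ᵥ* ((g⁻¹ : GL (Fin m) F) : Matrix (Fin m) (Fin m) F))
  invFun a := ((c⁻¹ : Fˣ) : F) • (a ᵥ* (g : Matrix (Fin m) (Fin m) F))
  left_inv a := by
    show ((c⁻¹ : Fˣ) : F) • (((c : F) • (a ᵥ* ((g⁻¹ : GL (Fin m) F) : Matrix (Fin m) (Fin m) F))) ᵥ*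
      (g : Matrix (Fin m) (Fin m) F)) = a
    rw [Matrix.smul_vecMul, smul_smul, ← Units.val_mul, inv_mul_cancel, Units.val_one, one_smul,
      Matrix.vecMul_vecMul, ← Units.val_mul, inv_mul_cancel, Units.val_one, Matrix.vecMul_one]
  right_inv a := by
    show (c : F) • ((((c⁻¹ : Fˣ) : F) • (a ᵥ* (g : Matrix (Fin m) (Fin m) F))) ᵥ*
      ((g⁻¹ : GL (Fin m) F) : Matrix (Fin m) (Fin m) F)) = a
    rw [Matrix.smul_vecMul, smul_smul, ← Units.val_mul, mul_inv_cancel, Units.val_one, one_smul,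
      Matrix.vecMul_vecMul, ← Units.val_mul, mul_inv_cancel, Units.val_one, Matrix.vecMul_one]
  map_add' a b := by
    show (c : F) • ((a + b) ᵥ* ((g⁻¹ : GL (Fin m) F) : Matrix (Fin m) (Fin m) F)) =
      (c : F) • (a ᵥ* ((g⁻¹ : GL (Fin m) F) : Matrix (Fin m) (Fin m) F)) +
      (c : F) • (b ᵥ* ((g⁻¹ : GL (Fin m) F) : Matrix (Fin m) (Fin m) F))
    rw [Matrix.add_vecMul, smul_add]

theorem actS_apply {m : ℕ} (c : Fˣ) (g : GL (Fin m) F) (a : Fin m → F) :
    actS c g a = (c : F) • (a ᵥ* ((g⁻¹ : GL (Fin m) F) : Matrix (Fin m) (Fin m) F)) := rfl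

theorem actS_symm_apply {m : ℕ} (c : Fˣ) (g : GL (Fin m) F) (a : Fin m → F) :
    (actS c g).symm a = ((c⁻¹ : Fˣ) : F) • (a ᵥ* (g : Matrix (Fin m) (Fin m) F)) := rfl

/-- `lev g` normalises the radical, acting through `actS (det g)⁻¹ g` -/
theorem lev_conj {m : ℕ} (g : GL (Fin m) F) (X : Fin m → F) :
    lev g * uEl X * (lev g)⁻¹ = uEl (actS (Matrix.GeneralLinearGroup.det g)⁻¹ g X) := by
  rw [mul_inv_eq_iff_eq_mul]
  apply Subtype.ext
  rw [Matrix.SpecialLinearGroup.coe_mul, Matrix.SpecialLinearGroup.coe_mul, lev_coe, uEl_coe,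
    uEl_coe, bm_mul, bm_mul]
  have hd : (((Matrix.GeneralLinearGroup.det g)⁻¹ : Fˣ) : F) =
      ((g : Matrix (Fin m) (Fin m) F).det)⁻¹ := by
    rw [Units.val_inv_eq_inv_val]
    rfl
  congr 1
  · simp
  · rw [actS_apply, hd, Matrix.smul_vecMul, Matrix.vecMul_vecMul, ← Units.val_mul, inv_mul_cancel,
      Units.val_one, Matrix.vecMul_one]
    simp
  · simp
  · simp

/-- `dG c * levG1 g` normalises the radical of `GL`, acting through `actS c g` -/
theorem dG_levG1_conj {k : ℕ} (c : Fˣ) (g : GL (Fin k) F) (X : Fin k → F) :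
    (dG c * levG1 g) * uG X * (dG c * levG1 g)⁻¹ = uG (actS c g X) := by
  rw [mul_inv_eq_iff_eq_mul]
  apply Units.ext
  rw [Units.val_mul, Units.val_mul, Units.val_mul, Units.val_mul, dG_coe, levG1_coe, uG_coe, uG_coe,
    bm_diag_mul, bm_mul, bm_mul]
  congr 1
  · simp
  · rw [actS_apply, Matrix.smul_vecMul, Matrix.vecMul_vecMul, one_mul, ← Units.val_mul,
      inv_mul_cancel, Units.val_one, Matrix.vecMul_one]
    simp
  · simp
  · simp

theorem levG1_conj {k : ℕ} (g : GL (Fin k) F) (X : Fin k → F) :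
    levG1 g * uG X * (levG1 g)⁻¹ = uG (actS 1 g X) := by
  have h := dG_levG1_conj (1 : Fˣ) g X
  rwa [map_one, one_mul] at h

/-! ## the characters of the radical -/

/-- `lam χ₀ v : a ↦ χ₀ (a ⬝ᵥ v)` -/
def lam {m : ℕ} (χ₀ : AddChar F ℂ) (v : Fin m → F) : AddChar (Fin m → F) ℂ :=
  χ₀.compAddMonoidHom
    { toFun := fun a => a ⬝ᵥ v
      map_zero' := zero_dotProduct v
      map_add' := fun a b => add_dotProduct a b v }

@[simp] theorem lam_apply {m : ℕ} (χ₀ : AddChar F ℂ) (v a : Fin m → F) :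
    lam χ₀ v a = χ₀ (a ⬝ᵥ v) := rfl

/-- the action of the Levi complement on the characters of the radical -/
theorem lam_comp_actS {m : ℕ} (χ₀ : AddChar F ℂ) (v : Fin m → F) (c : Fˣ) (g : GL (Fin m) F) :
    (lam χ₀ v).compAddMonoidHom ((actS c g).symm : (Fin m → F) →+ (Fin m → F)) =
      lam χ₀ (((c⁻¹ : Fˣ) : F) • ((g : Matrix (Fin m) (Fin m) F) *ᵥ v)) := by
  ext a
  rw [AddChar.compAddMonoidHom_apply, lam_apply, lam_apply]
  congr 1
  show (actS c g).symm a ⬝ᵥ v = _
  rw [actS_symm_apply, smul_dotProduct, dotProduct_smul, Matrix.dotProduct_mulVec]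


/-! ## the transvections, and the statement proved by induction -/

open Classical in
/-- the set of transvections of `SL (Fin (m + 1)) F`: the conjugates of the `uEl a`, `a ≠ 0` -/
noncomputable def transv (m : ℕ) (F : Type*) [Field F] [Finite F] :
    Finset (Matrix.SpecialLinearGroup (Fin (m + 1)) F) :=
  haveI : Fintype (Matrix.SpecialLinearGroup (Fin (m + 1)) F) := Fintype.ofFinite _
  Finset.univ.filter (fun x => ∃ (g : Matrix.SpecialLinearGroup (Fin (m + 1)) F) (a : Fin m → F),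
    a ≠ 0 ∧ x = g * uEl a * g⁻¹)

theorem mem_transv {m : ℕ} [Finite F] {x : Matrix.SpecialLinearGroup (Fin (m + 1)) F} :
    x ∈ transv m F ↔ ∃ (g : Matrix.SpecialLinearGroup (Fin (m + 1)) F) (a : Fin m → F),
      a ≠ 0 ∧ x = g * uEl a * g⁻¹ := by
  classical
  unfold transv
  simp only [Finset.mem_filter, Finset.mem_univ, true_and]

theorem transv_conj {m : ℕ} [Finite F] (g x : Matrix.SpecialLinearGroup (Fin (m + 1)) F)
    (hx : x ∈ transv m F) : g * x * g⁻¹ ∈ transv m F := by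
  rw [mem_transv] at hx ⊢
  obtain ⟨h, a, ha, rfl⟩ := hx
  exact ⟨g * h, a, ha, by group⟩

universe u in
/-- every non-trivial complex representation of `G` (on a space in `Type u`) has degree at least `N` -/
def MinDeg (G : Type*) [Group G] (N : ℕ) : Prop :=
  ∀ (V : Type u) [AddCommGroup V] [Module ℂ V] [FiniteDimensional ℂ V] (ρ : Representation ℂ G V),
    (∃ g, ρ g ≠ 1) → N ≤ Module.finrank ℂ V

end Cfsg.Agent.Lib.H12.SLMin
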