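import Mathlib
import Cfsg.Agent.Lib.H22.PearlDefs

/-!
# S5239 (pearls in 3-groups) — piece **T** (helper12 for architect helper22)

`comm_shift` (T1), `comm_shift_zero` (T0), `pow_S1` (T2): exact signatures of
`tools/blueprints/S5239_sigs.lean`.
-/

set_option autoImplicit false

namespace Cfsg.Agent.Lib.H12.Pearl

open Cfsg.Agent.Lib.H22.Pearl

section

variable {G : Type*} [Group G] {e : G}

theorem t_comm_mem_succ {i : ℕ} {d : G} (hd : d ∈ L G i) (g : G) :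
    d * g * d⁻¹ * g⁻¹ ∈ L G (i + 1) :=
  Cfsg.Agent.Lib.H25.MCS.comm_mem_lcs_succ hd g

theorem t_L_succ_le (i : ℕ) : L G (i + 1) ≤ L G i :=
  Subgroup.lowerCentralSeries_antitone _ (Nat.le_succ i)

theorem t_conj_mem {i : ℕ} {x : G} (hx : x ∈ L G i) (g : G) : g * x * g⁻¹ ∈ L G i :=
  (inferInstance : (L G i).Normal).conj_mem x hx g

/-- **T1**. -/
theorem comm_shift (hpdc : ∀ h ∈ S1 G, ∀ i, 1 ≤ i → ∀ y ∈ L G i, y * h * y⁻¹ * h⁻¹ ∈ L G (i + 2)) (m : ℕ)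
    (hU2 : ∀ k : ℕ, (k = 1 ∨ k = 2) → ∀ i, 1 ≤ i → i + 1 < m → ∀ d ∈ L G i, d ∉ L G (i + 1) →
      d * e ^ k * d⁻¹ * (e ^ k)⁻¹ ∉ L G (i + 2))
    (t : G) (ht : ∃ k : ℕ, (k = 1 ∨ k = 2) ∧ ∃ h ∈ S1 G, t = e ^ k * h) :
    ∀ i, 1 ≤ i → i + 1 < m → ∀ d ∈ L G i, d ∉ L G (i + 1) →
      d * t * d⁻¹ * t⁻¹ ∈ L G (i + 1) ∧ d * t * d⁻¹ * t⁻¹ ∉ L G (i + 2) := by
  obtain ⟨k, hk, h, hh, rfl⟩ := ht
  intro i hi1 him d hd hdn
  have key : d * (e ^ k * h) * d⁻¹ * (e ^ k * h)⁻¹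
      = (d * e ^ k * d⁻¹ * (e ^ k)⁻¹) * (e ^ k * (d * h * d⁻¹ * h⁻¹) * (e ^ k)⁻¹) := by group
  have h1 : e ^ k * (d * h * d⁻¹ * h⁻¹) * (e ^ k)⁻¹ ∈ L G (i + 2) :=
    t_conj_mem (hpdc h hh i hi1 d hd) _
  have h2 : d * e ^ k * d⁻¹ * (e ^ k)⁻¹ ∈ L G (i + 1) := t_comm_mem_succ hd _
  have h3 : d * e ^ k * d⁻¹ * (e ^ k)⁻¹ ∉ L G (i + 2) := hU2 k hk i hi1 him d hd hdn
  rw [key]
  refine ⟨mul_mem h2 (t_L_succ_le (i + 1) h1), fun hc => h3 ?_⟩
  exact (Subgroup.mul_mem_cancel_right _ h1).mp hc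

/-- `[a,b] ∈ N` iff the images in `G ⧸ N` commute. -/
theorem t_comm_mem_iff (N : Subgroup G) [N.Normal] (a b : G) :
    a * b * a⁻¹ * b⁻¹ ∈ N ↔
      Commute (QuotientGroup.mk' N a) (QuotientGroup.mk' N b) := by
  rw [← QuotientGroup.eq_one_iff, ← QuotientGroup.mk'_apply, map_mul, map_mul, map_mul, map_inv, map_inv,
    commute_iff_eq, mul_inv_eq_iff_eq_mul, mul_inv_eq_iff_eq_mul, one_mul]

/-- **T0**. -/
theorem comm_shift_zero (hne : ¬ L G 1 ≤ L G 2)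
    (hS1ab : ∀ x ∈ S1 G, ∀ y ∈ S1 G, x * y * x⁻¹ * y⁻¹ ∈ L G 2)
    (hidx0 : ∀ g ∈ S1 G, ∀ w ∈ S1 G, w ∉ L G 1 → ∃ j : ℕ, g * w ^ j ∈ L G 1)
    (t : G) (hidxt : ∀ g : G, ∃ j : ℕ, g * t ^ j ∈ S1 G) :
    ∀ d ∈ S1 G, d ∉ L G 1 → d * t * d⁻¹ * t⁻¹ ∉ L G 2 := by
  intro d hd hdn hc
  apply hne
  set π := QuotientGroup.mk' (L G 2) with hπ
  have hcomm : Commute (π d) (π t) := (t_comm_mem_iff (L G 2) d t).mp hc
  -- `L 1` is central modulo `L 2`
  have hL1 : ∀ x ∈ L G 1, ∀ g : G, Commute (π x) (π g) := fun x hx g =>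
    (t_comm_mem_iff (L G 2) x g).mp (t_comm_mem_succ hx g)
  -- decomposition of an arbitrary element
  have hdec : ∀ g : G, ∃ (j j' : ℕ) (l : G), l ∈ L G 1 ∧ g * t ^ j * d ^ j' = l := by
    intro g
    obtain ⟨j, hj⟩ := hidxt g
    obtain ⟨j', hj'⟩ := hidx0 _ hj d hd hdn
    exact ⟨j, j', _, hj', rfl⟩
  -- `d` is central modulo `L 2`
  have hdZ : ∀ g : G, Commute (π d) (π g) := by
    intro g
    obtain ⟨j, j', l, hl, hg⟩ := hdec g
    have hg' : g = l * (d ^ j')⁻¹ * (t ^ j)⁻¹ := by rw [← hg]; group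
    rw [hg', map_mul, map_mul, map_inv, map_inv, map_pow, map_pow]
    exact (((hL1 l hl d).symm).mul_right ((Commute.refl _).pow_right j').inv_right).mul_right
      (hcomm.pow_right j).inv_right
  -- `S₁` commutes with `t` modulo `L 2`
  have htS : ∀ s ∈ S1 G, Commute (π t) (π s) := by
    intro s hs
    obtain ⟨j', hj'⟩ := hidx0 s hs d hd hdn
    have hs' : s = (s * d ^ j') * (d ^ j')⁻¹ := by group
    rw [hs', map_mul, map_inv, map_pow]
    exact ((hL1 _ hj' t).symm).mul_right ((hdZ t).symm.pow_right j').inv_right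
  -- `t` is central modulo `L 2`
  have htZ : ∀ g : G, Commute (π t) (π g) := by
    intro g
    obtain ⟨j, hj⟩ := hidxt g
    have hg' : g = (g * t ^ j) * (t ^ j)⁻¹ := by group
    rw [hg', map_mul, map_inv, map_pow]
    exact (htS _ hj).mul_right ((Commute.refl _).pow_right j).inv_right
  -- everything is central modulo `L 2`
  have hall : ∀ a b : G, Commute (π a) (π b) := by
    intro a b
    obtain ⟨j, j', l, hl, hg⟩ := hdec a
    have ha' : a = l * (d ^ j')⁻¹ * (t ^ j)⁻¹ := by rw [← hg]; group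
    rw [ha', map_mul, map_mul, map_inv, map_inv, map_pow, map_pow]
    exact ((hL1 l hl b).mul_left ((hdZ b).pow_left j').inv_left).mul_left ((htZ b).pow_left j).inv_left
  change ⁅(⊤ : Subgroup G).lowerCentralSeries 0, (⊤ : Subgroup G)⁆ ≤ L G 2
  rw [Subgroup.commutator_le]
  intro a _ b _
  exact (t_comm_mem_iff (L G 2) a b).mpr (hall a b)

/-- **T2**. -/
theorem pow_S1 (he : e ^ 3 = 1)
    (hcube : ∀ h ∈ S1 G, (e * h) ^ 3 ∈ L G 3)
    (hpw1 : ∀ d ∈ L G 1, d ^ 3 ∈ L G 3)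
    (hT0 : ∀ d ∈ S1 G, d ∉ L G 1 → d * e * d⁻¹ * e⁻¹ ∉ L G 2)
    (hU2 : ∀ d ∈ L G 1, d ∉ L G 2 → d * e * d⁻¹ * e⁻¹ ∉ L G 3) :
    ∀ h ∈ S1 G, h ^ 3 ∈ L G 2 ∧ (h ∉ L G 1 → h ^ 3 ∉ L G 3) := by
  intro h hh
  set u : G := h⁻¹ * e * h * e⁻¹ with hu
  set v : G := u⁻¹ * e * u * e⁻¹ with hv
  -- membership of `u`, `v`
  have hS1L0 : ∀ g : G, g⁻¹ * e * g * e⁻¹ ∈ L G 1 := by
    intro g
    have : g⁻¹ ∈ L G 0 := Subgroup.mem_top _
    simpa using t_comm_mem_succ this e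
  have huL : u ∈ L G 1 := hS1L0 h
  have hvL : v ∈ L G 2 := by
    have := t_comm_mem_succ (inv_mem huL) e
    simpa using this
  -- the cube
  have he' : e⁻¹ * e⁻¹ = e := by
    have : e * e * e = 1 := by simpa [pow_succ] using he
    calc e⁻¹ * e⁻¹ = e⁻¹ * e⁻¹ * (e * e * e) := by rw [this, mul_one]
      _ = e := by group
  have key1 : (h * u) * (h * u * (u * v)) * h = e * h * e * h * (e⁻¹ * e⁻¹) * h := by
    simp only [hu, hv]; group
  have key2 : (e * h) ^ 3 = (h * u) * (h * u * (u * v)) * h := by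
    rw [key1, he']; simp [pow_succ, mul_assoc]
  have hrel : (h * u) * (h * u * (u * v)) * h ∈ L G 3 := key2 ▸ hcube h hh
  -- pass to the quotient by `L 3`
  set π := QuotientGroup.mk' (L G 3) with hπ
  have hab : Commute (π h) (π u) :=
    ((t_comm_mem_iff (L G 3) u h).mp (mem_S1.mp hh u huL)).symm
  have hvc : ∀ g : G, Commute (π v) (π g) := fun g =>
    (t_comm_mem_iff (L G 3) v g).mp (t_comm_mem_succ hvL g)
  have hac : Commute (π h) (π v) := (hvc h).symm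
  have hbc : Commute (π u) (π v) := (hvc u).symm
  have hb3 : (π u) ^ 3 = 1 := by
    rw [← map_pow]; exact (QuotientGroup.eq_one_iff _).mpr (hpw1 u huL)
  have hrel' : (π h * π u) * (π h * π u * (π u * π v)) * π h = 1 := by
    have := (QuotientGroup.eq_one_iff (N := L G 3) _).mpr hrel
    rw [← QuotientGroup.mk'_apply, ← hπ] at this
    simpa only [map_mul] using this
  have hxa : Commute (π h * π u) (π h) := (Commute.refl _).mul_left hab.symm
  have hxb : Commute (π h * π u) (π u) := hab.mul_left (Commute.refl _)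
  have hxc : Commute (π h * π u) (π v) := hac.mul_left hbc
  have hfin : (π h) ^ 3 * π v = 1 := by
    have h1 : (π h * π u) * (π h * π u * (π u * π v)) * π h = (π h * π u) ^ 3 * π v := by
      have e1 : π u * π v * π h = π h * π u * π v := by
        rw [mul_assoc, ← hac.eq, ← mul_assoc, ← hab.eq]
      calc (π h * π u) * (π h * π u * (π u * π v)) * π h
          = (π h * π u) * (π h * π u) * (π u * π v * π h) := by simp only [mul_assoc]
        _ = (π h * π u) * (π h * π u) * (π h * π u * π v) := by rw [e1]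
        _ = (π h * π u) ^ 3 * π v := by simp only [pow_succ, pow_zero, one_mul, mul_assoc]
    rw [h1, hab.mul_pow, hb3, mul_one] at hrel'
    exact hrel'
  have hmem : h ^ 3 * v ∈ L G 3 := by
    rw [← QuotientGroup.eq_one_iff, ← QuotientGroup.mk'_apply, map_mul, map_pow]; exact hfin
  refine ⟨?_, fun hn hc => ?_⟩
  · have : h ^ 3 * v ∈ L G 2 := t_L_succ_le 2 hmem
    exact (Subgroup.mul_mem_cancel_right _ hvL).mp this
  · -- `u ∉ L 2`, `v ∉ L 3`
    have hun : u ∉ L G 2 := by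
      have := hT0 h⁻¹ (inv_mem hh) (fun hc' => hn (by simpa using inv_mem hc'))
      simpa [hu] using this
    have hvn : v ∉ L G 3 := by
      have := hU2 u⁻¹ (inv_mem huL) (fun hc' => hun (by simpa using inv_mem hc'))
      simpa [hv] using this
    exact hvn ((Subgroup.mul_mem_cancel_left _ hc).mp hmem)

end

end Cfsg.Agent.Lib.H12.Pearl
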