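import Cfsg.Agent.Lib.H10.S4415BadDefs

/-!
helper12: S4415 BAD block, piece (B10): `D⁺ = Q × <z>` is elementary abelian of order `8` in `R`.
-/

set_option autoImplicit false

namespace Cfsg.Agent.Lib.H12.S4415

open Cfsg.Agent.Lib.H10.S4415

variable {S E : Type*} [Group S] [AddCommGroup E] [Module (ZMod 3) E]
  {ρ : Representation (ZMod 3) S E} {R : Subgroup S} {b : S} {W : Submodule (ZMod 3) E}

theorem b10_rho_mul (g h : S) (w : E) : ρ (g * h) w = ρ g (ρ h w) := by
  rw [map_mul]; rfl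

theorem b10_rho_inv_cancel (g : S) (w : E) : ρ g⁻¹ (ρ g w) = w := by
  rw [← b10_rho_mul]; simp

/-- Two elements of `R<b>` acting the same way on `W` are equal. -/
theorem b10_eq_of_act (hL : LinCtx ρ R b W) {g h : S} (hg : g ∈ RB R b) (hh : h ∈ RB R b)
    (hgh : ∀ w ∈ W, ρ g w = ρ h w) : g = h := by
  have h1 : h⁻¹ * g = 1 := by
    apply hL.faithful _ (Subgroup.mul_mem _ (Subgroup.inv_mem _ hh) hg)
    intro w hw
    rw [b10_rho_mul, hgh w hw, b10_rho_inv_cancel]
  calc g = h * (h⁻¹ * g) := by group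
    _ = h := by rw [h1, mul_one]

theorem b10_neg_ne {v : E} (hv : v ≠ 0) : -v ≠ v := by
  intro h
  apply hv
  have h2 : (2 : ZMod 3) • v = 0 := by
    rw [two_smul]
    nth_rewrite 1 [← h]
    exact neg_add_cancel v
  have h3 : (2 : ZMod 3) • ((2 : ZMod 3) • v) = v := by
    rw [smul_smul]
    have : (2 : ZMod 3) * 2 = 1 := by decide
    rw [this, one_smul]
  rw [← h3, h2, smul_zero]

theorem b10 : B10Stmt := by
  intro S _ _ E _ _ _ ρ R b W x₁ x₂ x₃ e₁ e₂ e₃ z hL hQ hzR hz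
  have hRle : R ≤ RB R b := le_sup_left
  have hbRB : b ∈ RB R b :=
    (le_sup_right : Subgroup.zpowers b ≤ RB R b) (Subgroup.mem_zpowers b)
  -- `z` is central in `R<b>` and an involution
  have hzc : ∀ r ∈ RB R b, r * z = z * r := by
    intro r hr
    apply b10_eq_of_act hL (Subgroup.mul_mem _ hr (hRle hzR)) (Subgroup.mul_mem _ (hRle hzR) hr)
    intro w hw
    rw [b10_rho_mul, b10_rho_mul, hz w hw, hz _ (hL.W_inv r hr w hw), map_neg]
  have hzz : z * z = 1 := by
    apply b10_eq_of_act hL (Subgroup.mul_mem _ (hRle hzR) (hRle hzR)) (Subgroup.one_mem _)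
    intro w hw
    rw [b10_rho_mul, hz w hw, map_neg, hz w hw, neg_neg]
    simp
  -- nonzero vectors
  have he₂ : e₂ ≠ 0 := by
    intro h
    apply hQ.e₁ne
    have := b10_rho_inv_cancel (ρ := ρ) b e₁
    rw [hQ.be₁, h, map_zero] at this
    exact this.symm
  have he₃ : e₃ ≠ 0 := by
    intro h
    apply he₂
    have := b10_rho_inv_cancel (ρ := ρ) b e₂
    rw [hQ.be₂, h, map_zero] at this
    exact this.symm
  have n₁ := b10_neg_ne hQ.e₁ne
  have n₂ := b10_neg_ne he₂
  have n₃ := b10_neg_ne he₃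
  -- relations in `Q`
  have x₁x₃ : x₁ * x₃ = x₂ := by
    rw [← hQ.x₁x₂, ← mul_assoc, hQ.x₁sq, one_mul]
  have x₃x₁ : x₃ * x₁ = x₂ := by
    rw [← hQ.x₂x₁, mul_assoc, hQ.x₁sq, mul_one]
  have x₂x₃ : x₂ * x₃ = x₁ := by
    rw [← hQ.x₂x₁, ← mul_assoc, hQ.x₂sq, one_mul]
  have x₃x₂ : x₃ * x₂ = x₁ := by
    rw [← hQ.x₁x₂, mul_assoc, hQ.x₂sq, mul_one]
  -- the four-group
  let Q : Subgroup S :=
    { carrier := {g | g = 1 ∨ g = x₁ ∨ g = x₂ ∨ g = x₃}
      one_mem' := Or.inl rfl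
      mul_mem' := by
        rintro g h (rfl | rfl | rfl | rfl) (rfl | rfl | rfl | rfl) <;>
          simp [hQ.x₁sq, hQ.x₂sq, hQ.x₃sq, hQ.x₁x₂, hQ.x₂x₁, x₁x₃, x₃x₁, x₂x₃, x₃x₂]
      inv_mem' := by
        rintro g (rfl | rfl | rfl | rfl)
        · simp
        · right; left; exact inv_eq_of_mul_eq_one_right hQ.x₁sq
        · right; right; left; exact inv_eq_of_mul_eq_one_right hQ.x₂sq
        · right; right; right; exact inv_eq_of_mul_eq_one_right hQ.x₃sq }
  have hQmem : ∀ g, g ∈ Q ↔ (g = 1 ∨ g = x₁ ∨ g = x₂ ∨ g = x₃) := fun g => Iff.rfl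
  have hQR : Q ≤ R := by
    rintro g (rfl | rfl | rfl | rfl)
    · exact R.one_mem
    · exact hQ.x₁R
    · exact hQ.x₂R
    · exact hQ.x₃R
  have hQcomm : ∀ g ∈ Q, ∀ h ∈ Q, g * h = h * g := by
    rintro g (rfl | rfl | rfl | rfl) h (rfl | rfl | rfl | rfl) <;>
      simp [hQ.x₁x₂, hQ.x₂x₁, x₁x₃, x₃x₁, x₂x₃, x₃x₂]
  have hQsq : ∀ g ∈ Q, g * g = 1 := by
    rintro g (rfl | rfl | rfl | rfl)
    · simp
    · exact hQ.x₁sq
    · exact hQ.x₂sq
    · exact hQ.x₃sq
  have hzQ : ∀ g ∈ Q, g * z = z * g := fun g hg => hzc g (hRle (hQR hg))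
  -- `A = Q ∪ zQ`
  let A : Subgroup S :=
    { carrier := {g | ∃ q ∈ Q, g = q ∨ g = z * q}
      one_mem' := ⟨1, Q.one_mem, Or.inl rfl⟩
      mul_mem' := by
        rintro g h ⟨q, hq, hg | hg⟩ ⟨q', hq', hh | hh⟩ <;> rw [hg, hh]
        · exact ⟨q * q', Q.mul_mem hq hq', Or.inl rfl⟩
        · refine ⟨q * q', Q.mul_mem hq hq', Or.inr ?_⟩
          rw [← mul_assoc, hzQ q hq, mul_assoc]
        · refine ⟨q * q', Q.mul_mem hq hq', Or.inr ?_⟩
          rw [mul_assoc]
        · refine ⟨q * q', Q.mul_mem hq hq', Or.inl ?_⟩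
          calc z * q * (z * q') = z * (q * z) * q' := by group
            _ = (z * z) * (q * q') := by rw [hzQ q hq]; group
            _ = q * q' := by rw [hzz, one_mul]
      inv_mem' := by
        rintro g ⟨q, hq, hg | hg⟩ <;> rw [hg]
        · exact ⟨q⁻¹, Q.inv_mem hq, Or.inl rfl⟩
        · refine ⟨q⁻¹, Q.inv_mem hq, Or.inr ?_⟩
          rw [mul_inv_rev, inv_eq_of_mul_eq_one_right hzz, hzQ _ (Q.inv_mem hq)] }
  have hAmem : ∀ g, g ∈ A ↔ ∃ q ∈ Q, g = q ∨ g = z * q := fun g => Iff.rfl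
  have hAR : A ≤ R := by
    rintro g ⟨q, hq, hg | hg⟩ <;> rw [hg]
    · exact hQR hq
    · exact R.mul_mem hzR (hQR hq)
  have hAsq : ∀ g ∈ A, g * g = 1 := by
    rintro g ⟨q, hq, hg | hg⟩ <;> rw [hg]
    · exact hQsq q hq
    · calc z * q * (z * q) = z * (q * z) * q := by group
        _ = (z * z) * (q * q) := by rw [hzQ q hq]; group
        _ = 1 := by rw [hzz, hQsq q hq, one_mul]
  have hAcomm : ∀ g ∈ A, ∀ h ∈ A, g * h = h * g := by
    rintro g ⟨q, hq, hg | hg⟩ h ⟨q', hq', hh | hh⟩ <;> rw [hg, hh]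
    · exact hQcomm q hq q' hq'
    · calc q * (z * q') = (q * z) * q' := by group
        _ = z * (q * q') := by rw [hzQ q hq]; group
        _ = z * q' * q := by rw [hQcomm q hq q' hq']; group
    · calc z * q * q' = z * (q * q') := by group
        _ = z * (q' * q) := by rw [hQcomm q hq q' hq']
        _ = (z * q') * q := by group
        _ = (q' * z) * q := by rw [hzQ q' hq']
        _ = q' * (z * q) := by group
    · calc z * q * (z * q') = z * (q * z) * q' := by group
        _ = z * (z * q) * q' := by rw [hzQ q hq]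
        _ = z * z * (q * q') := by group
        _ = z * z * (q' * q) := by rw [hQcomm q hq q' hq']
        _ = z * (z * q') * q := by group
        _ = z * (q' * z) * q := by rw [hzQ q' hq']
        _ = z * q' * (z * q) := by group
  refine ⟨A, hAR, ⟨⟨⟨fun a a' => Subtype.ext (hAcomm a a.2 a' a'.2)⟩⟩, ?_⟩, ?_⟩
  · intro a ha
    rw [pow_two]; exact hAsq a ha
  · -- cardinality: the eight sign patterns
    classical
    have hz₁ : ρ z e₁ = -e₁ := hz e₁ hQ.e₁W
    have hz₂ : ρ z e₂ = -e₂ := hz e₂ hQ.e₂W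
    have hz₃ : ρ z e₃ = -e₃ := hz e₃ hQ.e₃W
    -- encode
    have hqq : ∀ c d : Bool, ((if c then x₁ else 1) * (if d then x₂ else 1)) ∈ Q := by
      intro c d
      cases c <;> cases d <;> simp [hQmem, hQ.x₁x₂]
    have hff : ∀ a c d : Bool,
        (if a then z else 1) * ((if c then x₁ else 1) * (if d then x₂ else 1)) ∈ A := by
      intro a c d
      cases a
      · exact ⟨_, hqq c d, Or.inl (by simp)⟩
      · exact ⟨_, hqq c d, Or.inr (by simp)⟩
    let f : Bool × Bool × Bool → ↥A := fun t =>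
      ⟨(if t.1 then z else 1) * ((if t.2.1 then x₁ else 1) * (if t.2.2 then x₂ else 1)),
        hff t.1 t.2.1 t.2.2⟩
    have hfsurj : Function.Surjective f := by
      rintro ⟨g, q, (rfl | rfl | rfl | rfl), (rfl | rfl)⟩
      · exact ⟨(false, false, false), by ext; simp [f]⟩
      · exact ⟨(true, false, false), by ext; simp [f]⟩
      · exact ⟨(false, true, false), by ext; simp [f]⟩
      · exact ⟨(true, true, false), by ext; simp [f]⟩
      · exact ⟨(false, false, true), by ext; simp [f]⟩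
      · exact ⟨(true, false, true), by ext; simp [f]⟩
      · exact ⟨(false, true, true), by ext; simp [f, hQ.x₁x₂]⟩
      · exact ⟨(true, true, true), by ext; simp [f, hQ.x₁x₂]⟩
    have hfinj : Function.Injective f := by
      intro s t hst
      have h0 : ((f s : ↥A) : S) = f t := congrArg Subtype.val hst
      have h1 : ρ ((f s : ↥A) : S) e₁ = ρ ((f t : ↥A) : S) e₁ := by rw [h0]
      have h2 : ρ ((f s : ↥A) : S) e₂ = ρ ((f t : ↥A) : S) e₂ := by rw [h0]
      have h3 : ρ ((f s : ↥A) : S) e₃ = ρ ((f t : ↥A) : S) e₃ := by rw [h0]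
      obtain ⟨s1, s2, s3⟩ := s
      obtain ⟨t1, t2, t3⟩ := t
      simp only [f] at h1 h2 h3
      cases s1 <;> cases s2 <;> cases s3 <;> cases t1 <;> cases t2 <;> cases t3 <;>
        first
        | rfl
        | (exfalso
           simp only [if_true, if_false, Bool.false_eq_true, one_mul, mul_one, b10_rho_mul,
             hQ.x₁e₁, hQ.x₁e₂, hQ.x₁e₃, hQ.x₂e₁, hQ.x₂e₂, hQ.x₂e₃, hz₁, hz₂, hz₃, map_neg,
             neg_neg, map_one, Module.End.one_apply] at h1 h2 h3
           first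
           | exact n₁ h1
           | exact n₁ h1.symm
           | exact n₂ h2
           | exact n₂ h2.symm
           | exact n₃ h3
           | exact n₃ h3.symm)
    have hcard : Nat.card ↥A = Nat.card (Bool × Bool × Bool) :=
      (Nat.card_congr (Equiv.ofBijective f ⟨hfinj, hfsurj⟩)).symm
    rw [hcard]
    simp

end Cfsg.Agent.Lib.H12.S4415
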