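import Cfsg.Agent.Lib.H10.S4415BadDefs

/-!
helper12: S4415 BAD block, piece (B4'): `|X| ≡ 2 (mod 3)`.
-/

set_option autoImplicit false

namespace Cfsg.Agent.Lib.H12.S4415

open Cfsg.Agent.Lib.H10.S4415

theorem b4' : B4'Stmt := by
  intro S _ _ b z X hb3 hbX hzX hz1 hbz hfix
  classical
  haveI : Fintype ↥X := Fintype.ofFinite _
  have hbinv : b⁻¹ = b * b := by
    have : b * (b * b) = 1 := by rw [← mul_assoc]; exact hb3
    exact inv_eq_of_mul_eq_one_right this
  have hbX' : ∀ g ∈ X, b⁻¹ * g * b ∈ X := by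
    intro g hg
    have h1 := hbX _ (hbX g hg)
    have hb' : b⁻¹ * b⁻¹ = b := by
      have : b * b * b = 1 := hb3
      have h2 : (b * b)⁻¹ = b := by
        apply inv_eq_of_mul_eq_one_right; exact this
      rw [← mul_inv_rev]; exact h2
    have : b * (b * g * b⁻¹) * b⁻¹ = b⁻¹ * g * b := by
      calc b * (b * g * b⁻¹) * b⁻¹ = (b * b) * g * (b⁻¹ * b⁻¹) := by group
        _ = b⁻¹ * g * b := by rw [hb', ← hbinv]
    rwa [this] at h1
  let σ : Equiv.Perm ↥X :=
    { toFun := fun g => ⟨b * g * b⁻¹, hbX g g.2⟩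
      invFun := fun g => ⟨b⁻¹ * g * b, hbX' g g.2⟩
      left_inv := fun g => by ext; simp [mul_assoc]
      right_inv := fun g => by ext; simp [mul_assoc] }
  have hσ1 : ∀ g : ↥X, ((σ g : ↥X) : S) = b * g * b⁻¹ := fun g => rfl
  have hσ3 : σ ^ 3 ^ 1 = 1 := by
    ext g
    have : (σ ^ 3 ^ 1) g = σ (σ (σ g)) := by
      simp [pow_succ, Equiv.Perm.mul_apply]
    rw [this, hσ1, hσ1, hσ1]
    simp only [Equiv.Perm.coe_one, id_eq]
    calc b * (b * (b * g * b⁻¹) * b⁻¹) * b⁻¹ = (b * b * b) * g * (b * b * b)⁻¹ := by group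
      _ = g := by rw [hb3]; simp
  haveI : Fact (Nat.Prime 3) := ⟨by norm_num⟩
  have hmod := Equiv.Perm.card_compl_support_modEq hσ3
  have hsupp : σ.supportᶜ = {⟨1, X.one_mem⟩, ⟨z, hzX⟩} := by
    ext g
    simp only [Finset.mem_compl, Equiv.Perm.mem_support, not_not, Finset.mem_insert,
      Finset.mem_singleton]
    constructor
    · intro h
      have h1 : b * g * b⁻¹ = g := congrArg Subtype.val h
      have h2 : b * (g : S) = g * b := by
        calc b * (g : S) = (b * g * b⁻¹) * b := by group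
          _ = g * b := by rw [h1]
      rcases hfix g g.2 h2 with h3 | h3
      · left; ext; exact h3
      · right; ext; exact h3
    · rintro (rfl | rfl)
      · ext; rw [hσ1]; simp
      · ext; rw [hσ1]; simp only; rw [hbz]; simp
  have hne : (⟨1, X.one_mem⟩ : ↥X) ≠ ⟨z, hzX⟩ := by
    intro h
    exact hz1 (congrArg Subtype.val h).symm
  rw [hsupp, Finset.card_pair hne] at hmod
  rw [Nat.card_eq_fintype_card]
  have := hmod.symm
  unfold Nat.ModEq at this
  rw [this]

end Cfsg.Agent.Lib.H12.S4415
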