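import Mathlib

/-!
# The numerical bound for the number of tuples of polynomials (helper12)
-/

set_option autoImplicit false

namespace Cfsg.Agent.Lib.H12.Cls

/-- number of monic polynomials of degree `d` with non-zero constant term over a field with
`Q + 1` elements -/
def cnum (Q d : ℕ) : ℕ := if d = 0 then 1 else Q * (Q + 1) ^ (d - 1)

/-- the contribution of the tuples with non-trivial last entry -/
def unum (Q J : ℕ) (t : ℕ → ℕ) (n : ℕ) : ℕ :=
  ∑ d ∈ Finset.range (n / (J + 1)), cnum Q (d + 1) * t (n - (J + 1) * (d + 1))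

/-- number of tuples `(g_1, …, g_J)` with `∑ j deg g_j = n` -/
def tnum (Q : ℕ) : ℕ → ℕ → ℕ
  | 0, n => if n = 0 then 1 else 0
  | J + 1, n => tnum Q J n + unum Q J (tnum Q J) n

theorem tnum_succ (Q J n : ℕ) : tnum Q (J + 1) n = tnum Q J n + unum Q J (tnum Q J) n := rfl

theorem cnum_succ_succ (Q d : ℕ) : cnum Q (d + 2) = (Q + 1) * cnum Q (d + 1) := by
  unfold cnum
  rw [if_neg (by omega), if_neg (by omega)]
  have : d + 2 - 1 = (d + 1 - 1) + 1 := by omega
  rw [this, pow_succ]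
  ring

theorem cnum_one (Q : ℕ) : cnum Q 1 = Q := by
  unfold cnum
  simp

theorem unum_of_lt (Q J : ℕ) (t : ℕ → ℕ) (n : ℕ) (h : n < J + 1) : unum Q J t n = 0 := by
  unfold unum
  rw [Nat.div_eq_of_lt h, Finset.range_zero, Finset.sum_empty]

theorem unum_rec (Q J : ℕ) (t : ℕ → ℕ) (m : ℕ) :
    unum Q J t (m + (J + 1)) = Q * t m + (Q + 1) * unum Q J t m := by
  unfold unum
  rw [Nat.add_div_right _ (Nat.succ_pos J), Finset.sum_range_succ', Finset.mul_sum]
  rw [add_comm]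
  congr 1
  · rw [cnum_one]
    congr 2
    simp
  · apply Finset.sum_congr rfl
    intro d _
    rw [cnum_succ_succ, mul_assoc]
    congr 3
    have : (J + 1) * (d + 1 + 1) = (J + 1) * (d + 1) + (J + 1) := by ring
    rw [this, Nat.add_sub_add_right]

theorem tnum_zero_right (Q : ℕ) : ∀ J, tnum Q J 0 = 1
  | 0 => rfl
  | J + 1 => by
    rw [tnum_succ, tnum_zero_right Q J, unum_of_lt _ _ _ _ (Nat.succ_pos J)]

/-- bound for the `unum` part -/
theorem unum_bound (Q J : ℕ) (t : ℕ → ℕ) (h0 : t 0 = 1)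
    (ht : ∀ m, 1 ≤ m → (Q + 1) ^ J * t m + (Q + 1) ^ m ≤ (Q + 1) ^ (m + J)) :
    ∀ n, (Q + 1) ^ (J + 1) * unum Q J t n ≤ Q * (Q + 1) ^ n := by
  intro n
  induction n using Nat.strong_induction_on with
  | _ n ih =>
    by_cases hn : n < J + 1
    · rw [unum_of_lt _ _ _ _ hn, mul_zero]
      exact Nat.zero_le _
    · push Not at hn
      obtain ⟨m, rfl⟩ : ∃ m, n = m + (J + 1) := ⟨n - (J + 1), by omega⟩
      rw [unum_rec]
      have ihm := ih m (by omega)
      rcases Nat.eq_zero_or_pos m with rfl | hm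
      · rw [h0, unum_of_lt _ _ _ _ (Nat.succ_pos J), mul_zero, add_zero, mul_one, zero_add, mul_comm]
      · have h1 := ht m hm
        -- (Q+1)^(J+1) * (Q * t m + (Q+1) * U m) ≤ Q (Q+1)^(m+J+1)
        have e1 : (Q + 1) ^ (J + 1) * (Q * t m + (Q + 1) * unum Q J t m) =
            (Q + 1) * Q * ((Q + 1) ^ J * t m) + (Q + 1) * ((Q + 1) ^ (J + 1) * unum Q J t m) := by
          ring
        have e2 : Q * (Q + 1) ^ (m + (J + 1)) = (Q + 1) * Q * (Q + 1) ^ (m + J) := by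
          ring
        rw [e1, e2]
        calc (Q + 1) * Q * ((Q + 1) ^ J * t m) + (Q + 1) * ((Q + 1) ^ (J + 1) * unum Q J t m)
            ≤ (Q + 1) * Q * ((Q + 1) ^ J * t m) + (Q + 1) * (Q * (Q + 1) ^ m) :=
              Nat.add_le_add_left (Nat.mul_le_mul_left _ ihm) _
          _ = (Q + 1) * Q * ((Q + 1) ^ J * t m + (Q + 1) ^ m) := by ring
          _ ≤ (Q + 1) * Q * (Q + 1) ^ (m + J) := Nat.mul_le_mul_left _ h1

theorem tnum_bound (Q : ℕ) :
    ∀ J n, 1 ≤ n → (Q + 1) ^ J * tnum Q J n + (Q + 1) ^ n ≤ (Q + 1) ^ (n + J) := by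
  intro J
  induction J with
  | zero =>
    intro n hn
    show (Q + 1) ^ 0 * (if n = 0 then 1 else 0) + (Q + 1) ^ n ≤ (Q + 1) ^ (n + 0)
    rw [if_neg (by omega)]
    simp
  | succ J ih =>
    intro n hn
    rw [tnum_succ]
    have h1 := unum_bound Q J (tnum Q J) (tnum_zero_right Q J) ih n
    have h2 := ih n hn
    calc (Q + 1) ^ (J + 1) * (tnum Q J n + unum Q J (tnum Q J) n) + (Q + 1) ^ n
        = (Q + 1) * ((Q + 1) ^ J * tnum Q J n) + (Q + 1) ^ (J + 1) * unum Q J (tnum Q J) n +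
            (Q + 1) ^ n := by ring
      _ ≤ (Q + 1) * ((Q + 1) ^ J * tnum Q J n) + Q * (Q + 1) ^ n + (Q + 1) ^ n :=
          Nat.add_le_add_right (Nat.add_le_add_left h1 _) _
      _ = (Q + 1) * ((Q + 1) ^ J * tnum Q J n + (Q + 1) ^ n) := by ring
      _ ≤ (Q + 1) * (Q + 1) ^ (n + J) := Nat.mul_le_mul_left _ h2
      _ = (Q + 1) ^ (n + (J + 1)) := by ring

theorem tnum_lt (Q n : ℕ) (hn : 1 ≤ n) : tnum Q n n + 1 ≤ (Q + 1) ^ n := by
  have h := tnum_bound Q n n hn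
  have h1 : (Q + 1) ^ n * (tnum Q n n + 1) ≤ (Q + 1) ^ n * (Q + 1) ^ n := by
    calc (Q + 1) ^ n * (tnum Q n n + 1) = (Q + 1) ^ n * tnum Q n n + (Q + 1) ^ n := by ring
      _ ≤ (Q + 1) ^ (n + n) := h
      _ = (Q + 1) ^ n * (Q + 1) ^ n := by ring
  exact Nat.le_of_mul_le_mul_left h1 (Nat.pos_of_ne_zero (by positivity))

end Cfsg.Agent.Lib.H12.Cls
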