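import Cfsg.Agent.Lib.H12.SemiE

/-!
# Counting the classes of elements of order prime to `p` in `GL_n(q)` and `SL_n(q)` (helper12)
-/

set_option autoImplicit false
open Polynomial

namespace Cfsg.Agent.Lib.H12.Semi

universe u
variable {F : Type u} [Field F]

/-- the monic polynomial of degree `n` with prescribed lower coefficients. -/
noncomputable def polyOf {n : ℕ} (t : Fin n → F) : F[X] :=
  X ^ n + ∑ i : Fin n, C (t i) * X ^ (i : ℕ)

lemma polyOf_monic {n : ℕ} (t : Fin n → F) : (polyOf t).Monic :=
  monic_X_pow_add (degree_sum_fin_lt t)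

lemma polyOf_natDegree {n : ℕ} (t : Fin n → F) : (polyOf t).natDegree = n := by
  have h1 : (polyOf t).degree = n := by
    unfold polyOf
    rw [add_comm, degree_add_eq_right_of_degree_lt, degree_X_pow]
    rw [degree_X_pow]
    exact degree_sum_fin_lt t
  exact natDegree_eq_of_degree_eq_some h1

lemma polyOf_coeff {n : ℕ} (t : Fin n → F) (i : Fin n) : (polyOf t).coeff i = t i := by
  unfold polyOf
  rw [coeff_add, coeff_X_pow, if_neg (by omega), zero_add, finsetSum_coeff]
  rw [Finset.sum_eq_single i]
  · rw [coeff_C_mul_X_pow, if_pos rfl]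
  · intro j _ hj
    rw [coeff_C_mul_X_pow, if_neg]
    intro h
    exact hj (Fin.ext h.symm)
  · intro h; exact absurd (Finset.mem_univ i) h

lemma polyOf_coeffs {n : ℕ} (Q : F[X]) (hQ : Q.Monic) (hn : Q.natDegree = n) :
    polyOf (fun i : Fin n => Q.coeff i) = Q := by
  subst hn
  unfold polyOf
  conv_rhs => rw [hQ.as_sum]
  rw [Fin.sum_univ_eq_sum_range (fun i => C (Q.coeff i) * X ^ i)]

lemma polyOf_injective {n : ℕ} : Function.Injective (polyOf : (Fin n → F) → F[X]) := by
  intro s t h
  funext i
  rw [← polyOf_coeff s i, h, polyOf_coeff]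

/-- counting functions with one constrained coordinate. -/
lemma card_fun_constrained [Fintype F] [DecidableEq F] {n : ℕ} (i0 : Fin n) (S : Finset F) :
    Nat.card {t : Fin n → F // t i0 ∈ S} = S.card * Fintype.card F ^ (n - 1) := by
  classical
  rw [Nat.card_eq_fintype_card, Fintype.card_subtype]
  have h1 : (Finset.univ.filter fun t : Fin n → F => t i0 ∈ S) =
      Fintype.piFinset (fun j => if j = i0 then S else Finset.univ) := by
    ext t
    simp only [Finset.mem_filter, Finset.mem_univ, true_and, Fintype.mem_piFinset]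
    constructor
    · intro h j
      by_cases hj : j = i0
      · rw [if_pos hj, hj]; exact h
      · rw [if_neg hj]; exact Finset.mem_univ _
    · intro h
      have := h i0
      rwa [if_pos rfl] at this
  rw [h1, Fintype.card_piFinset]
  rw [Finset.prod_eq_mul_prod_sdiff_singleton_of_mem (Finset.mem_univ i0), if_pos rfl]
  congr 1
  rw [Finset.prod_congr rfl (g := fun _ => Fintype.card F)]
  · rw [Finset.prod_const, Finset.card_sdiff_of_subset (by simp), Finset.card_univ, Fintype.card_fin,
      Finset.card_singleton]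
  · intro j hj
    rw [Finset.mem_sdiff, Finset.mem_singleton] at hj
    rw [if_neg hj.2, Finset.card_univ]

lemma charpoly_coeff_zero_ne_zero {n : ℕ} (g : Matrix.GeneralLinearGroup (Fin n) F) :
    (g : Matrix (Fin n) (Fin n) F).charpoly.coeff 0 ≠ 0 := by
  intro h
  have h1 := Matrix.det_eq_sign_charpoly_coeff (g : Matrix (Fin n) (Fin n) F)
  rw [h, mul_zero] at h1
  exact Matrix.GeneralLinearGroup.det_ne_zero g h1

theorem card_semisimple_classes_GL [Fintype F] (p : ℕ) [Fact p.Prime] [CharP F p] (n : ℕ)
    (hn : 1 ≤ n) :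
    Nat.card {c : ConjClasses (Matrix.GeneralLinearGroup (Fin n) F) //
      ∃ g : Matrix.GeneralLinearGroup (Fin n) F, ConjClasses.mk g = c ∧ (orderOf g).Coprime p} =
      (Fintype.card F - 1) * Fintype.card F ^ (n - 1) := by
  classical
  set i0 : Fin n := ⟨0, hn⟩ with hi0
  have hex : ∀ t : {t : Fin n → F // t i0 ∈ (Finset.univ.erase 0 : Finset F)},
      ∃ g : Matrix.GeneralLinearGroup (Fin n) F, (orderOf g).Coprime p ∧
        (g : Matrix (Fin n) (Fin n) F).charpoly = polyOf t.1 := by
    intro t
    refine exists_GL_charpoly_eq p n (polyOf t.1) (polyOf_monic _) (polyOf_natDegree _) ?_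
    have h1 := polyOf_coeff t.1 i0
    have h2 : ((i0 : Fin n) : ℕ) = 0 := rfl
    rw [h2] at h1
    rw [h1]
    exact (Finset.mem_erase.mp t.2).1
  choose G hG1 hG2 using hex
  have hbij : Function.Bijective
      (fun t : {t : Fin n → F // t i0 ∈ (Finset.univ.erase 0 : Finset F)} =>
        (⟨ConjClasses.mk (G t), G t, rfl, hG1 t⟩ :
          {c : ConjClasses (Matrix.GeneralLinearGroup (Fin n) F) //
            ∃ g : Matrix.GeneralLinearGroup (Fin n) F, ConjClasses.mk g = c ∧
              (orderOf g).Coprime p})) := by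
    constructor
    · intro s t hst
      have h1 : ConjClasses.mk (G s) = ConjClasses.mk (G t) := congrArg Subtype.val hst
      have h2 := charpoly_eq_of_isConj (ConjClasses.mk_eq_mk_iff_isConj.mp h1)
      rw [hG2, hG2] at h2
      exact Subtype.ext (polyOf_injective h2)
    · rintro ⟨c, g, rfl, hg⟩
      have hQ : polyOf (fun i : Fin n => (g : Matrix (Fin n) (Fin n) F).charpoly.coeff i) =
          (g : Matrix (Fin n) (Fin n) F).charpoly :=
        polyOf_coeffs _ (Matrix.charpoly_monic _)
          (by rw [Matrix.charpoly_natDegree_eq_dim, Fintype.card_fin])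
      refine ⟨⟨fun i : Fin n => (g : Matrix (Fin n) (Fin n) F).charpoly.coeff i, ?_⟩, ?_⟩
      · rw [Finset.mem_erase]
        exact ⟨charpoly_coeff_zero_ne_zero g, Finset.mem_univ _⟩
      · apply Subtype.ext
        show ConjClasses.mk (G _) = ConjClasses.mk g
        rw [ConjClasses.mk_eq_mk_iff_isConj]
        apply isConj_GL_of_charpoly_eq _ _
          (isSemisimple_toLin'_of_orderOf_coprime p _ (hG1 _))
          (isSemisimple_toLin'_of_orderOf_coprime p _ hg)
        rw [hG2, hQ]
  rw [← Nat.card_eq_of_bijective _ hbij, card_fun_constrained, Finset.card_erase_of_mem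
    (Finset.mem_univ _), Finset.card_univ]

lemma neg_one_pow_mul_self (n : ℕ) : ((-1 : F) ^ n) * ((-1 : F) ^ n) = 1 := by
  rw [← mul_pow]; simp

theorem card_semisimple_classes_SL [Fintype F] (p : ℕ) [Fact p.Prime] [CharP F p] (n : ℕ)
    (hn : 1 ≤ n) :
    Nat.card {c : ConjClasses (Matrix.SpecialLinearGroup (Fin n) F) //
      ∃ g : Matrix.SpecialLinearGroup (Fin n) F, ConjClasses.mk g = c ∧ (orderOf g).Coprime p} =
      Fintype.card F ^ (n - 1) := by
  classical
  set i0 : Fin n := ⟨0, hn⟩ with hi0
  have hex : ∀ t : {t : Fin n → F // t i0 ∈ ({(-1 : F) ^ n} : Finset F)},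
      ∃ g : Matrix.SpecialLinearGroup (Fin n) F, (orderOf g).Coprime p ∧
        (g : Matrix (Fin n) (Fin n) F).charpoly = polyOf t.1 := by
    intro t
    have h1 := polyOf_coeff t.1 i0
    have h2 : ((i0 : Fin n) : ℕ) = 0 := rfl
    rw [h2, Finset.mem_singleton.mp t.2] at h1
    obtain ⟨g, hg1, hg2⟩ := exists_GL_charpoly_eq p n (polyOf t.1) (polyOf_monic _)
      (polyOf_natDegree _) (by rw [h1]; exact pow_ne_zero _ (by norm_num))
    have hdet : (g : Matrix (Fin n) (Fin n) F).det = 1 := by
      rw [Matrix.det_eq_sign_charpoly_coeff, hg2, h1, Fintype.card_fin, neg_one_pow_mul_self]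
    set s : Matrix.SpecialLinearGroup (Fin n) F := ⟨(g : Matrix (Fin n) (Fin n) F), hdet⟩ with hs
    refine ⟨s, ?_, hg2⟩
    have h3 : Matrix.SpecialLinearGroup.toGL s = g := Units.ext rfl
    rw [← orderOf_injective _ Matrix.SpecialLinearGroup.toGL_injective s, h3]
    exact hg1
  choose G hG1 hG2 using hex
  have hbij : Function.Bijective
      (fun t : {t : Fin n → F // t i0 ∈ ({(-1 : F) ^ n} : Finset F)} =>
        (⟨ConjClasses.mk (G t), G t, rfl, hG1 t⟩ :
          {c : ConjClasses (Matrix.SpecialLinearGroup (Fin n) F) //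
            ∃ g : Matrix.SpecialLinearGroup (Fin n) F, ConjClasses.mk g = c ∧
              (orderOf g).Coprime p})) := by
    constructor
    · intro s t hst
      have h1 : ConjClasses.mk (G s) = ConjClasses.mk (G t) := congrArg Subtype.val hst
      have h2 := charpoly_eq_of_isConj ((Matrix.SpecialLinearGroup.toGL
        (n := Fin n) (R := F)).map_isConj (ConjClasses.mk_eq_mk_iff_isConj.mp h1))
      rw [Matrix.SpecialLinearGroup.coe_GL_coe_matrix, Matrix.SpecialLinearGroup.coe_GL_coe_matrix,
        hG2, hG2] at h2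
      exact Subtype.ext (polyOf_injective h2)
    · rintro ⟨c, g, rfl, hg⟩
      have hQ : polyOf (fun i : Fin n => (g : Matrix (Fin n) (Fin n) F).charpoly.coeff i) =
          (g : Matrix (Fin n) (Fin n) F).charpoly :=
        polyOf_coeffs _ (Matrix.charpoly_monic _)
          (by rw [Matrix.charpoly_natDegree_eq_dim, Fintype.card_fin])
      refine ⟨⟨fun i : Fin n => (g : Matrix (Fin n) (Fin n) F).charpoly.coeff i, ?_⟩, ?_⟩
      · rw [Finset.mem_singleton]
        have h1 := Matrix.det_eq_sign_charpoly_coeff (g : Matrix (Fin n) (Fin n) F)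
        rw [g.2, Fintype.card_fin] at h1
        show (g : Matrix (Fin n) (Fin n) F).charpoly.coeff 0 = (-1) ^ n
        calc (g : Matrix (Fin n) (Fin n) F).charpoly.coeff 0
            = ((-1 : F) ^ n * (-1 : F) ^ n) * (g : Matrix (Fin n) (Fin n) F).charpoly.coeff 0 := by
              rw [neg_one_pow_mul_self, one_mul]
          _ = (-1 : F) ^ n * 1 := by rw [mul_assoc, ← h1]
          _ = (-1) ^ n := mul_one _
      · apply Subtype.ext
        show ConjClasses.mk (G _) = ConjClasses.mk g
        rw [ConjClasses.mk_eq_mk_iff_isConj]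
        apply isConj_SL_of_charpoly_eq p n _ _ (hG1 _) hg
        rw [hG2, hQ]
  rw [← Nat.card_eq_of_bijective _ hbij, card_fun_constrained, Finset.card_singleton, one_mul]

end Cfsg.Agent.Lib.H12.Semi
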