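import Mathlib
import Cfsg.Agent.Lib.H12.ClsF
import Cfsg.Agent.Lib.H12.SemiF

/-!
# Counting tuples of monic polynomials with non-zero constant terms (helper12)
-/

set_option autoImplicit false
open Polynomial

namespace Cfsg.Agent.Lib.H12.Cls

open Cfsg.Agent.Lib.H12.Semi

universe u
variable (F : Type u) [Field F]

/-- monic polynomials of degree `d` with non-zero constant term -/
def Mst (d : ℕ) : Type u := {h : F[X] // h.Monic ∧ h.coeff 0 ≠ 0 ∧ h.natDegree = d}

/-- tuples `(g_1, …, g_J)` of monic polynomials with non-zero constant terms and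
`∑ j deg g_j = n` -/
def TSet (J n : ℕ) : Type u :=
  {g : Fin J → F[X] // (∀ j, (g j).Monic ∧ (g j).coeff 0 ≠ 0) ∧
    ∑ j : Fin J, ((j : ℕ) + 1) * (g j).natDegree = n}

variable {F}

section mst

variable [Fintype F]

theorem card_Mst_zero : Nat.card (Mst F 0) = 1 := by
  have : Unique (Mst F 0) :=
    { default := ⟨1, monic_one, by simp, natDegree_one⟩
      uniq := by
        rintro ⟨h, hm, h0, hd⟩
        apply Subtype.ext
        exact (Polynomial.Monic.natDegree_eq_zero hm).mp hd }
  exact Nat.card_unique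

theorem card_Mst_succ (d : ℕ) :
    Nat.card (Mst F (d + 1)) = (Fintype.card F - 1) * Fintype.card F ^ d := by
  classical
  have e : Mst F (d + 1) ≃ {t : Fin (d + 1) → F // t 0 ∈ (Finset.univ.erase 0 : Finset F)} :=
    { toFun := fun h => ⟨fun i => h.1.coeff i, by
        rw [Finset.mem_erase]
        exact ⟨h.2.2.1, Finset.mem_univ _⟩⟩
      invFun := fun t => ⟨polyOf t.1, polyOf_monic _, by
        have h1 := polyOf_coeff t.1 0
        have h2 : ((0 : Fin (d + 1)) : ℕ) = 0 := rfl
        rw [h2] at h1
        rw [h1]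
        exact (Finset.mem_erase.mp t.2).1, polyOf_natDegree _⟩
      left_inv := by
        rintro ⟨h, hm, h0, hd⟩
        apply Subtype.ext
        exact polyOf_coeffs h hm hd
      right_inv := by
        rintro ⟨t, ht⟩
        apply Subtype.ext
        funext i
        exact polyOf_coeff t i }
  rw [Nat.card_congr e, card_fun_constrained, Finset.card_erase_of_mem (Finset.mem_univ _),
    Finset.card_univ, Nat.add_sub_cancel]

theorem card_Mst (d : ℕ) : Nat.card (Mst F d) = cnum (Fintype.card F - 1) d := by
  have hq : Fintype.card F - 1 + 1 = Fintype.card F := by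
    have : 1 < Fintype.card F := Fintype.one_lt_card
    omega
  rcases d with _ | d
  · rw [card_Mst_zero]; rfl
  · rw [card_Mst_succ]
    unfold cnum
    rw [if_neg (by omega), hq, Nat.add_sub_cancel]

instance (d : ℕ) : Finite (Mst F d) := by
  apply Nat.finite_of_card_ne_zero
  rw [card_Mst]
  unfold cnum
  have : 1 < Fintype.card F := Fintype.one_lt_card
  split_ifs
  · exact one_ne_zero
  · apply mul_ne_zero
    · omega
    · exact pow_ne_zero _ (by omega)

end mst

/-- the fibre of the tuples with last entry of degree `d` -/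
def fiberEquiv (J n d : ℕ) (hd : (J + 1) * d ≤ n) :
    {g : TSet F (J + 1) n // (g.1 (Fin.last J)).natDegree = d} ≃
      Mst F d × TSet F J (n - (J + 1) * d) where
  toFun g := (⟨g.1.1 (Fin.last J), (g.1.2.1 _).1, (g.1.2.1 _).2, g.2⟩,
    ⟨Fin.init g.1.1, fun j => g.1.2.1 j.castSucc, by
      have h := g.1.2.2
      rw [Fin.sum_univ_castSucc, g.2] at h
      apply Nat.eq_sub_of_add_eq
      exact h⟩)
  invFun x := ⟨⟨Fin.snoc x.2.1 x.1.1, by
      refine ⟨?_, ?_⟩
      · intro j
        refine Fin.lastCases ?_ (fun j => ?_) j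
        · rw [Fin.snoc_last]
          exact ⟨x.1.2.1, x.1.2.2.1⟩
        · rw [Fin.snoc_castSucc]
          exact x.2.2.1 j
      · rw [Fin.sum_univ_castSucc]
        simp only [Fin.snoc_castSucc, Fin.snoc_last, Fin.val_last, Fin.val_castSucc]
        rw [x.2.2.2, x.1.2.2.2]
        exact Nat.sub_add_cancel hd⟩, by
      show (Fin.snoc (α := fun _ => F[X]) x.2.1 x.1.1 (Fin.last J)).natDegree = d
      rw [Fin.snoc_last]
      exact x.1.2.2.2⟩
  left_inv g := by
    apply Subtype.ext
    apply Subtype.ext
    exact Fin.snoc_init_self _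
  right_inv x := by
    apply Prod.ext
    · apply Subtype.ext
      show Fin.snoc (α := fun _ => F[X]) x.2.1 x.1.1 (Fin.last J) = x.1.1
      rw [Fin.snoc_last]
    · apply Subtype.ext
      show Fin.init (Fin.snoc (α := fun _ => F[X]) x.2.1 x.1.1) = x.2.1
      exact Fin.init_snoc _ _

end Cfsg.Agent.Lib.H12.Cls
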