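import Mathlib
import Cfsg.Agent.Lib.H12.ClsG
import Cfsg.Agent.Lib.H12.ClsE

/-!
# The number of conjugacy classes of `GL_n(q)` is at most `q^n - 1` (helper12)
-/

set_option autoImplicit false
open Polynomial

namespace Cfsg.Agent.Lib.H12.Cls

universe u
variable {F : Type u} [Field F]

theorem natDegree_last_le (J n : ℕ) (g : TSet F (J + 1) n) :
    (g.1 (Fin.last J)).natDegree ≤ n / (J + 1) := by
  rw [Nat.le_div_iff_mul_le (Nat.succ_pos J)]
  have h := g.2.2
  rw [Fin.sum_univ_castSucc] at h
  calc (g.1 (Fin.last J)).natDegree * (J + 1) = (J + 1) * (g.1 (Fin.last J)).natDegree :=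
        mul_comm _ _
    _ ≤ ∑ i : Fin J, ((i.castSucc : ℕ) + 1) * (g.1 i.castSucc).natDegree +
          (J + 1) * (g.1 (Fin.last J)).natDegree := Nat.le_add_left _ _
    _ = n := h

/-- the degree of the last entry -/
def degLast (J n : ℕ) (g : TSet F (J + 1) n) : Fin (n / (J + 1) + 1) :=
  ⟨(g.1 (Fin.last J)).natDegree, Nat.lt_succ_of_le (natDegree_last_le J n g)⟩

/-- decomposition of the tuples according to the degree of the last entry -/
def sigmaEquiv (J n : ℕ) :
    TSet F (J + 1) n ≃ Σ d : Fin (n / (J + 1) + 1), Mst F d × TSet F J (n - (J + 1) * d) :=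
  (Equiv.sigmaFiberEquiv (degLast J n)).symm.trans (Equiv.sigmaCongrRight fun d =>
    (Equiv.subtypeEquivRight (fun g => by
      show degLast J n g = d ↔ (g.1 (Fin.last J)).natDegree = (d : ℕ)
      rw [Fin.ext_iff]
      rfl)).trans
    (fiberEquiv J n d (by
      have := Nat.le_of_lt_succ d.2
      calc (J + 1) * (d : ℕ) ≤ (J + 1) * (n / (J + 1)) := Nat.mul_le_mul_left _ this
        _ ≤ n := Nat.mul_div_le n (J + 1))))

variable [Fintype F]

theorem finite_card_TSet : ∀ J n : ℕ,
    Finite (TSet F J n) ∧ Nat.card (TSet F J n) = tnum (Fintype.card F - 1) J n := by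
  intro J
  induction J with
  | zero =>
    intro n
    have hfin : Finite (TSet F 0 n) := by
      unfold TSet
      infer_instance
    refine ⟨hfin, ?_⟩
    show _ = if n = 0 then 1 else 0
    split_ifs with hn
    · subst hn
      have : Unique (TSet F 0 0) :=
        { default := ⟨fun j => j.elim0, fun j => j.elim0, by simp⟩
          uniq := by
            intro g
            apply Subtype.ext
            funext j
            exact j.elim0 }
      exact Nat.card_unique
    · have : IsEmpty (TSet F 0 n) := by
        constructor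
        intro g
        have := g.2.2
        simp at this
        exact hn this.symm
      exact Nat.card_of_isEmpty
  | succ J ih =>
    intro n
    haveI : ∀ m, Finite (TSet F J m) := fun m => (ih m).1
    have hfin : Finite (TSet F (J + 1) n) := Finite.of_equiv _ (sigmaEquiv J n).symm
    refine ⟨hfin, ?_⟩
    rw [Nat.card_congr (sigmaEquiv J n), Nat.card_sigma, tnum_succ]
    simp only [Nat.card_prod, card_Mst, (ih _).2]
    rw [Fin.sum_univ_succ]
    congr 1
    · simp [cnum]
    · unfold unum
      rw [Finset.sum_range]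
      rfl

theorem card_TSet_lt (n : ℕ) (hn : 1 ≤ n) : Nat.card (TSet F n n) + 1 ≤ Fintype.card F ^ n := by
  have hq : Fintype.card F - 1 + 1 = Fintype.card F := by
    have : 1 < Fintype.card F := Fintype.one_lt_card
    omega
  rw [(finite_card_TSet n n).2]
  have := tnum_lt (Fintype.card F - 1) n hn
  rwa [hq] at this

end Cfsg.Agent.Lib.H12.Cls
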