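import Mathlib
import Cfsg.Agent.Lib.H12.ClsH

/-!
# Bounds for the class number of `GL_n(q)` (helper12)
-/

set_option autoImplicit false
open Polynomial

namespace Cfsg.Agent.Lib.H12.Cls

universe u
variable {F : Type u} [Field F] [Fintype F]

theorem card_conjClasses_GL_lt (n : ℕ) (hn : 1 ≤ n) :
    Nat.card (ConjClasses (Matrix.GeneralLinearGroup (Fin n) F)) + 1 ≤ Fintype.card F ^ n := by
  classical
  haveI : Finite (TSet F n n) := (finite_card_TSet n n).1
  set Φ : ConjClasses (Matrix.GeneralLinearGroup (Fin n) F) → TSet F n n := fun C =>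
    ⟨tupleOf (Quotient.out C), fun j => ⟨tupleOf_monic _ j, tupleOf_coeff_zero _ j⟩,
      tupleOf_sum _⟩ with hΦ
  have hinj : Function.Injective Φ := by
    intro C C' h
    have h1 : tupleOf (Quotient.out C) = tupleOf (Quotient.out C') := congrArg Subtype.val h
    have h2 := isConj_of_tupleOf_eq _ _ h1
    have h3 : ConjClasses.mk (Quotient.out C) = ConjClasses.mk (Quotient.out C') :=
      ConjClasses.mk_eq_mk_iff_isConj.mpr h2
    have h4 : ∀ D : ConjClasses (Matrix.GeneralLinearGroup (Fin n) F),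
        ConjClasses.mk (Quotient.out D) = D := fun D => Quotient.out_eq D
    rw [h4, h4] at h3
    exact h3
  exact (Nat.add_le_add_right (Nat.card_le_card_of_injective Φ hinj) 1).trans (card_TSet_lt n hn)

theorem card_conjClasses_GL_ge (n : ℕ) (hn : 1 ≤ n) :
    Fintype.card F ^ n - Fintype.card F ^ (n - 1) ≤
      Nat.card (ConjClasses (Matrix.GeneralLinearGroup (Fin n) F)) := by
  classical
  obtain ⟨p, hp⟩ := CharP.exists F
  haveI : Fact p.Prime := ⟨CharP.char_is_prime F p⟩
  have h := Cfsg.Agent.Lib.H12.Semi.card_semisimple_classes_GL (F := F) p n hn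
  have e : Fintype.card F ^ n - Fintype.card F ^ (n - 1) =
      (Fintype.card F - 1) * Fintype.card F ^ (n - 1) := by
    obtain ⟨m, rfl⟩ : ∃ m, n = m + 1 := ⟨n - 1, by omega⟩
    rw [Nat.add_sub_cancel, Nat.sub_mul, one_mul, pow_succ, mul_comm]
  rw [e, ← h]
  exact Nat.card_le_card_of_injective Subtype.val Subtype.val_injective

end Cfsg.Agent.Lib.H12.Cls
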