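import Mathlib

set_option autoImplicit false
set_option linter.unusedSectionVars false

open Module

namespace Cfsg.Agent.Lib.H12.CommUnip

variable {F : Type*} [Field F] [Fintype F]

/-- a nontrivial linear map of prime order `r` on an `m`-dimensional space forces `r ∣ |GL_m(q)|` -/
theorem dvd_card_GL_of_pow_eq_one {W : Type*} [AddCommGroup W] [Module F W] [FiniteDimensional F W]
    (T : W →ₗ[F] W) (r : ℕ) (hr : r.Prime) (hT : T ^ r = 1) (hT1 : T ≠ 1) :
    r ∣ ∏ i : Fin (finrank F W), (Fintype.card F ^ (finrank F W) - Fintype.card F ^ (i : ℕ)) := by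
  classical
  set m := finrank F W with hm
  let b : Basis (Fin m) F W := finBasisOfFinrankEq F W hm.symm
  let φ : (W →ₗ[F] W) ≃ₐ[F] Matrix (Fin m) (Fin m) F := LinearMap.toMatrixAlgEquiv b
  have h1 : (φ T) ^ r = 1 := by rw [← map_pow, hT, map_one]
  have h2 : φ T ≠ 1 := by
    intro h
    apply hT1
    apply φ.injective
    rw [h, map_one]
  have hr1 : 1 ≤ r := hr.one_lt.le
  let g : GL (Fin m) F := ⟨φ T, (φ T) ^ (r - 1), by
    rw [← pow_succ', Nat.sub_add_cancel hr1, h1], by
    rw [← pow_succ, Nat.sub_add_cancel hr1, h1]⟩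
  have hg : g ^ r = 1 := by
    apply Units.ext
    rw [Units.val_pow_eq_pow_val]
    exact h1
  have hg1 : g ≠ 1 := by
    intro h
    apply h2
    have := congrArg Units.val h
    exact this
  have : Fact r.Prime := ⟨hr⟩
  have hord : orderOf g = r := orderOf_eq_prime hg hg1
  rw [← Matrix.card_GL_field, ← hord]
  exact orderOf_dvd_natCard g

variable {V : Type*} [AddCommGroup V] [Module F V] [FiniteDimensional F V]

/-- an element of prime order `r ≠ p` commuting with a square-zero nilpotent `M ≠ 0` acts with order `r`
on a section of dimension at most `max (n/2) (n-2)` -/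
theorem exists_small_section (p : ℕ) [Fact p.Prime] [CharP F p] (r : ℕ) (hr : r.Prime) (hrp : r ≠ p)
    (C M : V →ₗ[F] V) (hC : C ^ r = 1) (hC1 : C ≠ 1) (hM : M ≠ 0) (hM2 : M * M = 0)
    (hcomm : C * M = M * C) :
    ∃ m : ℕ, 1 ≤ m ∧ (2 * m ≤ finrank F V ∨ m + 2 ≤ finrank F V) ∧
      r ∣ ∏ i : Fin m, (Fintype.card F ^ m - Fintype.card F ^ (i : ℕ)) := by
  classical
  set U := LinearMap.range M with hU
  set K := LinearMap.ker M with hK
  have hUK : U ≤ K := by
    rintro _ ⟨v, rfl⟩
    rw [hK, LinearMap.mem_ker]
    have := congrArg (fun f : V →ₗ[F] V => f v) hM2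
    simpa using this
  have hCM : ∀ v, C (M v) = M (C v) := by
    intro v
    have := congrArg (fun f : V →ₗ[F] V => f v) hcomm
    simpa using this
  have hUC : ∀ v ∈ U, C v ∈ U := by
    rintro _ ⟨v, rfl⟩
    exact ⟨C v, (hCM v).symm⟩
  have hKC : ∀ v ∈ K, C v ∈ K := by
    intro v hv
    rw [hK, LinearMap.mem_ker] at hv ⊢
    rw [← hCM, hv, map_zero]
  have hrank : finrank F U + finrank F K = finrank F V := LinearMap.finrank_range_add_finrank_ker M
  have hU1 : 1 ≤ finrank F U := by
    rw [Submodule.one_le_finrank_iff]
    intro h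
    exact hM (LinearMap.range_eq_bot.1 h)
  have hUKr : finrank F U ≤ finrank F K := Submodule.finrank_mono hUK
  by_cases hCU : C.restrict hUC = 1
  · -- C is trivial on U
    have hfixU : ∀ u ∈ U, C u = u := by
      intro u hu
      have := congrArg (fun f : U →ₗ[F] U => (f ⟨u, hu⟩ : V)) hCU
      simpa using this
    have hDK : ∀ v, C v - v ∈ K := by
      intro v
      rw [hK, LinearMap.mem_ker, map_sub, ← hCM, hfixU (M v) ⟨v, rfl⟩, sub_self]
    -- the quotient K / U
    set U' : Submodule F K := U.comap K.subtype with hU'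
    set CK : K →ₗ[F] K := C.restrict hKC with hCK
    have hU'C : U' ≤ U'.comap CK := by
      intro x hx
      rw [Submodule.mem_comap] at hx ⊢
      exact hUC _ hx
    set Cbar : (K ⧸ U') →ₗ[F] (K ⧸ U') := U'.mapQ U' CK hU'C with hCbar
    have hfinU' : finrank F U' = finrank F U := by
      have e : U' ≃ₗ[F] U := Submodule.comapSubtypeEquivOfLe hUK
      exact e.finrank_eq
    have hquot : finrank F (K ⧸ U') + finrank F U' = finrank F K :=
      Submodule.finrank_quotient_add_finrank U'
    by_cases hCb : Cbar = 1
    · -- unipotent: contradiction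
      exfalso
      have hDU : ∀ x ∈ K, C x - x ∈ U := by
        intro x hx
        have h1 := congrArg (fun f : (K ⧸ U') →ₗ[F] (K ⧸ U') => f (Submodule.Quotient.mk ⟨x, hx⟩)) hCb
        simp only [hCbar, Submodule.mapQ_apply, Module.End.one_apply] at h1
        rw [Submodule.Quotient.eq] at h1
        exact h1
      set D : V →ₗ[F] V := C - 1 with hD
      have hD3 : D ^ 3 = 0 := by
        apply LinearMap.ext
        intro v
        have h1 : D v ∈ K := by simpa [hD] using hDK v
        have h2 : D (D v) ∈ U := by simpa [hD] using hDU _ h1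
        have hDx : ∀ x, D x = C x - x := fun x => by simp [hD]
        have h3 : D (D (D v)) = 0 := by
          rw [hDx (D (D v)), hfixU _ h2, sub_self]
        have e3 : (D ^ 3) v = D (D (D v)) := by
          rw [pow_succ, pow_succ, pow_one]
          rfl
        rw [e3, h3]
        rfl
      have hpp : 3 ≤ p ^ 2 := by
        have := (Fact.out : p.Prime).two_le
        nlinarith
      have hDp : D ^ (p ^ 2) = 0 := by
        rw [← Nat.sub_add_cancel hpp, pow_add, hD3, mul_zero]
      have hCp : C ^ (p ^ 2) = 1 := by
        have hCD : C = 1 + D := by rw [hD]; abel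
        have hnt : Nontrivial V := by
          by_contra hnt
          rw [not_nontrivial_iff_subsingleton] at hnt
          apply hM
          apply LinearMap.ext
          intro x
          exact Subsingleton.elim _ _
        have : CharP (V →ₗ[F] V) p :=
          charP_of_injective_algebraMap (algebraMap F (V →ₗ[F] V)).injective p
        rw [hCD, add_pow_char_pow_of_commute p 2 (Commute.one_left D), one_pow, hDp, add_zero]
      have h1 : orderOf C ∣ r := orderOf_dvd_of_pow_eq_one hC
      have h2 : orderOf C ∣ p ^ 2 := orderOf_dvd_of_pow_eq_one hCp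
      have h3 : Nat.Coprime r (p ^ 2) :=
        Nat.Coprime.pow_right 2 ((Nat.coprime_primes hr Fact.out).2 hrp)
      have h4 : orderOf C = 1 := Nat.eq_one_of_dvd_coprimes h3 h1 h2
      exact hC1 (orderOf_eq_one_iff.1 h4)
    · refine ⟨finrank F (K ⧸ U'), ?_, Or.inr (by omega), ?_⟩
      · by_contra h0
        have h0' : finrank F (K ⧸ U') = 0 := by omega
        have : Subsingleton (K ⧸ U') := Module.finrank_zero_iff.1 h0'
        apply hCb
        apply LinearMap.ext
        intro x
        exact Subsingleton.elim _ _
      · apply dvd_card_GL_of_pow_eq_one Cbar r hr _ hCb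
        have hCKr : CK ^ r = 1 := by
          rw [hCK, Module.End.pow_restrict]
          apply LinearMap.ext
          intro x
          apply Subtype.ext
          simp [hC]
        rw [hCbar, ← Submodule.mapQ_pow (p := U') hU'C r]
        apply LinearMap.ext
        intro x
        induction x using Submodule.Quotient.induction_on with
        | _ x =>
          simp only [Submodule.mapQ_apply, Module.End.one_apply]
          rw [hCKr]
          rfl
  · refine ⟨finrank F U, hU1, Or.inl (by omega), ?_⟩
    apply dvd_card_GL_of_pow_eq_one _ r hr _ hCU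
    rw [Module.End.pow_restrict]
    apply LinearMap.ext
    intro x
    apply Subtype.ext
    simp [hC]

end Cfsg.Agent.Lib.H12.CommUnip
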