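import Mathlib
import Cfsg.Agent.Lib.H12.CardSL
import Cfsg.Agent.Lib.H12.CommUnip1

set_option autoImplicit false
set_option linter.unusedSectionVars false

open Matrix Module

namespace Cfsg.Agent.Lib.H12.CommUnip

variable {F : Type*} [Field F] [Fintype F]

/-- `q^j - 1` divides `|SL_N(q)|` for `2 ≤ j ≤ N` -/
theorem pow_sub_one_dvd_card_SL (N j : ℕ) (hj2 : 2 ≤ j) (hjN : j ≤ N) :
    Fintype.card F ^ j - 1 ∣ Nat.card (Matrix.SpecialLinearGroup (Fin N) F) := by
  set q := Fintype.card F with hq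
  have hq2 : 2 ≤ q := Fintype.one_lt_card
  have h1 := Cfsg.Agent.Lib.H12.card_SL_mul (F := F) N (by omega)
  rw [← hq] at h1
  -- two distinct factors
  let i₁ : Fin N := ⟨N - j, by omega⟩
  let i₂ : Fin N := ⟨N - 1, by omega⟩
  have hne : i₁ ≠ i₂ := by
    intro h
    have := congrArg Fin.val h
    simp only [i₁, i₂] at this
    omega
  have h2 : (q ^ N - q ^ (i₁ : ℕ)) * (q ^ N - q ^ (i₂ : ℕ)) ∣
      ∏ i : Fin N, (q ^ N - q ^ (i : ℕ)) := by
    have := Finset.prod_dvd_prod_of_subset ({i₁, i₂} : Finset (Fin N)) Finset.univ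
      (fun i : Fin N => q ^ N - q ^ (i : ℕ)) (Finset.subset_univ _)
    rwa [Finset.prod_pair hne] at this
  have hf1 : q ^ N - q ^ (i₁ : ℕ) = q ^ (N - j) * (q ^ j - 1) := by
    show q ^ N - q ^ (N - j) = _
    rw [Nat.mul_sub, mul_one, ← pow_add, Nat.sub_add_cancel hjN]
  have hf2 : q ^ N - q ^ (i₂ : ℕ) = q ^ (N - 1) * (q - 1) := by
    show q ^ N - q ^ (N - 1) = _
    rw [Nat.mul_sub, mul_one, ← pow_succ, Nat.sub_add_cancel (by omega)]
  rw [hf1, hf2, ← h1] at h2
  have h3 : (q - 1) * (q ^ j - 1) ∣ (q - 1) * Nat.card (Matrix.SpecialLinearGroup (Fin N) F) := by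
    refine Dvd.dvd.trans ?_ h2
    exact ⟨q ^ (N - j) * q ^ (N - 1), by ring⟩
  exact (Nat.mul_dvd_mul_iff_left (by omega)).1 h3

/-- `q` divides `|SL_N(q)|` for `N ≥ 2` -/
theorem card_dvd_card_SL (N : ℕ) (hN : 2 ≤ N) :
    Fintype.card F ∣ Nat.card (Matrix.SpecialLinearGroup (Fin N) F) := by
  set q := Fintype.card F with hq
  have hq2 : 2 ≤ q := Fintype.one_lt_card
  have h1 := Cfsg.Agent.Lib.H12.card_SL_mul (F := F) N (by omega)
  rw [← hq] at h1
  let i₂ : Fin N := ⟨N - 1, by omega⟩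
  have h2 : (q ^ N - q ^ (i₂ : ℕ)) ∣ ∏ i : Fin N, (q ^ N - q ^ (i : ℕ)) :=
    Finset.dvd_prod_of_mem _ (Finset.mem_univ _)
  have hf2 : q ^ N - q ^ (i₂ : ℕ) = q ^ (N - 1) * (q - 1) := by
    show q ^ N - q ^ (N - 1) = _
    rw [Nat.mul_sub, mul_one, ← pow_succ, Nat.sub_add_cancel (by omega)]
  rw [hf2, ← h1] at h2
  have h3 : (q - 1) * q ∣ (q - 1) * Nat.card (Matrix.SpecialLinearGroup (Fin N) F) := by
    refine Dvd.dvd.trans ?_ h2
    refine ⟨q ^ (N - 2), ?_⟩
    have : N - 1 = (N - 2) + 1 := by omega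
    rw [this, pow_succ]
    ring
  exact (Nat.mul_dvd_mul_iff_left (by omega)).1 h3

variable {n : ℕ}

/-- a scalar commutator of a matrix whose `p`-th power is scalar is trivial -/
theorem scalar_comm_eq_one (p : ℕ) [Fact p.Prime] [CharP F p]
    (A B : Matrix (Fin n) (Fin n) F) (z l : F) (hl : l ≠ 0) (hB : IsUnit B)
    (hA : A ^ p = l • (1 : Matrix (Fin n) (Fin n) F))
    (hAB : A * B = z • (B * A)) : A * B = B * A := by
  have hk : ∀ k : ℕ, A ^ k * B = z ^ k • (B * A ^ k) := by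
    intro k
    induction k with
    | zero => simp
    | succ k ih =>
      rw [pow_succ', mul_assoc, ih, Matrix.mul_smul, ← mul_assoc, hAB, Matrix.smul_mul, smul_smul,
        mul_assoc, ← pow_succ', ← pow_succ]
  have h1 := hk p
  rw [hA, Matrix.smul_mul, one_mul, Matrix.mul_smul, mul_one, smul_smul] at h1
  have h2 : (l - z ^ p * l) • B = 0 := by
    rw [sub_smul, ← h1, sub_self]
  obtain ⟨u, rfl⟩ := hB
  have h3 : (l - z ^ p * l) • (1 : Matrix (Fin n) (Fin n) F) = 0 := by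
    have := congrArg (fun X => X * (u⁻¹ : (Matrix (Fin n) (Fin n) F)ˣ).val) h2
    simpa [Matrix.smul_mul] using this
  rcases Nat.eq_zero_or_pos n with hn | hn
  · subst hn
    exact Subsingleton.elim _ _
  have h4 : l - z ^ p * l = 0 := by
    have := congrFun (congrFun h3 ⟨0, hn⟩) ⟨0, hn⟩
    simpa using this
  have h5 : z ^ p = 1 := by
    have : (1 - z ^ p) * l = 0 := by linear_combination h4
    rcases mul_eq_zero.1 this with h | h
    · exact (sub_eq_zero.1 h).symm
    · exact absurd h hl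
  have h6 : z = 1 := by
    have : (z - 1) ^ p = 0 := by rw [sub_pow_char, h5, one_pow, sub_self]
    exact sub_eq_zero.1 (pow_eq_zero_iff (Fact.out : p.Prime).ne_zero |>.1 this)
  rw [hAB, h6, one_smul]

/-- the matrix-level core -/
theorem matrix_core (p : ℕ) [Fact p.Prime] [CharP F p] (r : ℕ) (hr : r.Prime) (hrp : r ≠ p)
    (hn : 1 ≤ n)
    (A B : Matrix (Fin n) (Fin n) F) (l ζ : F) (hl : l ≠ 0) (hζ : ζ ≠ 0)
    (hA : A ^ p = l • (1 : Matrix (Fin n) (Fin n) F))
    (hAns : ∀ μ : F, A ≠ μ • (1 : Matrix (Fin n) (Fin n) F))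
    (hB : B ^ r = ζ • (1 : Matrix (Fin n) (Fin n) F))
    (hAB : A * B = B * A) :
    B ^ (Fintype.card F - 1) = 1 ∨
    ∃ m : ℕ, 1 ≤ m ∧ (2 * m ≤ n ∨ m + 2 ≤ n) ∧
      r ∣ ∏ i : Fin m, (Fintype.card F ^ m - Fintype.card F ^ (i : ℕ)) := by
  classical
  have : Nonempty (Fin n) := ⟨⟨0, hn⟩⟩
  have hpp : p.Prime := Fact.out
  have : ExpChar F p := ExpChar.prime hpp
  -- a `p`-th root of `l`
  obtain ⟨μ, hμ⟩ : ∃ μ : F, μ ^ p = l :=
    (PerfectRing.bijective_frobenius (R := F) (p := p)).surjective l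
  have hμ0 : μ ≠ 0 := by
    rintro rfl
    rw [zero_pow hpp.ne_zero] at hμ
    exact hl hμ.symm
  set A' : Matrix (Fin n) (Fin n) F := μ⁻¹ • A with hA'
  have hA'p : A' ^ p = 1 := by
    rw [hA', smul_pow, hA, smul_smul, inv_pow, hμ, inv_mul_cancel₀ hl, one_smul]
  set N : Matrix (Fin n) (Fin n) F := A' - 1 with hN
  have hNp : N ^ p = 0 := by
    rw [hN, sub_pow_char_of_commute p (Commute.one_right A'), hA'p, one_pow, sub_self]
  have hN0 : N ≠ 0 := by
    intro h0
    have h1 : A' = 1 := sub_eq_zero.1 h0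
    apply hAns μ
    rw [hA'] at h1
    have := congrArg (fun X => μ • X) h1
    simpa [smul_smul, mul_inv_cancel₀ hμ0] using this
  have hNB : N * B = B * N := by
    rw [hN, sub_mul, mul_sub, one_mul, mul_one, hA', Matrix.smul_mul, Matrix.mul_smul, hAB]
  -- the last nonzero power of `N`
  have hex : ∃ k, N ^ k = 0 := ⟨p, hNp⟩
  set k := Nat.find hex with hk
  have hk0 : N ^ k = 0 := Nat.find_spec hex
  have hk2 : 2 ≤ k := by
    by_contra hlt
    have : k = 0 ∨ k = 1 := by omega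
    rcases this with h | h
    · rw [h, pow_zero] at hk0
      exact one_ne_zero hk0
    · rw [h, pow_one] at hk0
      exact hN0 hk0
  set M : Matrix (Fin n) (Fin n) F := N ^ (k - 1) with hM
  have hM0 : M ≠ 0 := by
    intro h0
    have := Nat.find_min hex (m := k - 1) (by omega)
    exact this h0
  have hM2 : M * M = 0 := by
    rw [hM, ← pow_add]
    have : k - 1 + (k - 1) = k + (k - 2) := by omega
    rw [this, pow_add, hk0, zero_mul]
  have hMB : M * B = B * M := by
    rw [hM]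
    exact ((Commute.pow_left (show Commute N B from hNB) (k - 1))).eq
  -- the semisimple element
  set q := Fintype.card F with hq
  set C : Matrix (Fin n) (Fin n) F := B ^ (q - 1) with hC
  have hCr : C ^ r = 1 := by
    rw [hC, ← pow_mul, mul_comm, pow_mul, hB, smul_pow, one_pow, hq,
      FiniteField.pow_card_sub_one_eq_one ζ hζ, one_smul]
  have hCM : C * M = M * C := by
    rw [hC]
    exact ((Commute.pow_right (show Commute M B from hMB) (q - 1))).eq.symm
  by_cases hC1 : C = 1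
  · exact Or.inl hC1
  right
  -- transfer to linear maps
  let φ : Matrix (Fin n) (Fin n) F ≃ₐ[F] ((Fin n → F) →ₗ[F] (Fin n → F)) := Matrix.toLinAlgEquiv'
  have h1 : (φ C) ^ r = 1 := by rw [← map_pow, hCr, map_one]
  have h2 : φ C ≠ 1 := by
    intro h
    apply hC1
    apply φ.injective
    rw [h, map_one]
  have h3 : φ M ≠ 0 := by
    intro h
    apply hM0
    apply φ.injective
    rw [h, map_zero]
  have h4 : φ M * φ M = 0 := by rw [← map_mul, hM2, map_zero]
  have h5 : φ C * φ M = φ M * φ C := by rw [← map_mul, ← map_mul, hCM]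
  obtain ⟨m, hm1, hm2, hm3⟩ := exists_small_section p r hr hrp (φ C) (φ M) h1 h2 h3 h4 h5
  rw [Module.finrank_fintype_fun_eq_card, Fintype.card_fin] at hm2
  exact ⟨m, hm1, hm2, hm3⟩

end Cfsg.Agent.Lib.H12.CommUnip
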