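import Mathlib

set_option autoImplicit false
set_option linter.unusedSectionVars false

open Matrix Module Polynomial

namespace Cfsg.Agent.Lib.H12.UComm

variable {F : Type*} [Field F] {m : ℕ}

/-- conjugate transpose with respect to a ring endomorphism -/
def cj (σ : F →+* F) (X : Matrix (Fin m) (Fin m) F) : Matrix (Fin m) (Fin m) F :=
  (σ.mapMatrix X)ᵀ

variable (σ : F →+* F)

theorem cj_apply (X : Matrix (Fin m) (Fin m) F) (i j : Fin m) : cj σ X i j = σ (X j i) := rfl

theorem cj_mul (X Y : Matrix (Fin m) (Fin m) F) : cj σ (X * Y) = cj σ Y * cj σ X := by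
  rw [cj, map_mul, Matrix.transpose_mul]
  rfl

theorem cj_one : cj σ (1 : Matrix (Fin m) (Fin m) F) = 1 := by
  rw [cj, map_one, Matrix.transpose_one]

theorem cj_zero : cj σ (0 : Matrix (Fin m) (Fin m) F) = 0 := by
  rw [cj, map_zero, Matrix.transpose_zero]

theorem cj_pow (X : Matrix (Fin m) (Fin m) F) (k : ℕ) : cj σ (X ^ k) = (cj σ X) ^ k := by
  rw [cj, map_pow, Matrix.transpose_pow]
  rfl

theorem cj_add (X Y : Matrix (Fin m) (Fin m) F) : cj σ (X + Y) = cj σ X + cj σ Y := by
  rw [cj, map_add, Matrix.transpose_add]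
  rfl

theorem cj_sub (X Y : Matrix (Fin m) (Fin m) F) : cj σ (X - Y) = cj σ X - cj σ Y := by
  rw [cj, map_sub, Matrix.transpose_sub]
  rfl

theorem cj_neg (X : Matrix (Fin m) (Fin m) F) : cj σ (-X) = -cj σ X := by
  rw [cj, map_neg, Matrix.transpose_neg]
  rfl

theorem cj_smul (c : F) (X : Matrix (Fin m) (Fin m) F) : cj σ (c • X) = σ c • cj σ X := by
  ext i j
  simp [cj_apply]

theorem cj_sum {ι : Type*} (s : Finset ι) (f : ι → Matrix (Fin m) (Fin m) F) :
    cj σ (∑ i ∈ s, f i) = ∑ i ∈ s, cj σ (f i) := by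
  rw [cj, map_sum, Matrix.transpose_sum]
  rfl

theorem cj_cj (hσ : ∀ x, σ (σ x) = x) (X : Matrix (Fin m) (Fin m) F) : cj σ (cj σ X) = X := by
  ext i j
  simp [cj_apply, hσ]

theorem cj_aeval (P : F[X]) (X : Matrix (Fin m) (Fin m) F) :
    cj σ (aeval X P) = aeval (cj σ X) (P.map σ) := by
  have h1 : P.natDegree < P.natDegree + 1 := Nat.lt_succ_self _
  have h2 : (P.map σ).natDegree < P.natDegree + 1 :=
    lt_of_le_of_lt (Polynomial.natDegree_map_le) h1
  rw [Polynomial.aeval_eq_sum_range' h1, Polynomial.aeval_eq_sum_range' h2, cj_sum]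
  apply Finset.sum_congr rfl
  intro i _
  rw [cj_smul, cj_pow, Polynomial.coeff_map]

/-- a matrix preserving the `σ`-sesquilinear dot product is `cj`-unitary -/
theorem cj_mul_self_of_preserves (g : Matrix (Fin m) (Fin m) F)
    (h : ∀ u v : Fin m → F, ∑ i, (g *ᵥ u) i * σ ((g *ᵥ v) i) = ∑ i, u i * σ (v i)) :
    cj σ g * g = 1 := by
  classical
  ext i j
  have h1 := h (Pi.single j 1) (Pi.single i 1)
  simp only [Matrix.mulVec_single_one, Matrix.col_apply] at h1
  rw [Matrix.mul_apply]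
  simp only [cj_apply]
  rw [Matrix.one_apply]
  have h2 : ∑ x, σ (g x i) * g x j = ∑ x, g x j * σ (g x i) :=
    Finset.sum_congr rfl (fun x _ => mul_comm _ _)
  rw [h2, h1]
  by_cases hij : i = j
  · subst hij
    simp [Pi.single_apply]
  · rw [if_neg hij]
    apply Finset.sum_eq_zero
    intro x _
    by_cases hx : x = j
    · subst hx
      simp [Pi.single_apply, Ne.symm hij]
    · simp [Pi.single_apply, hx]

end Cfsg.Agent.Lib.H12.UComm
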