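import Mathlib
import Cfsg.Agent.Lib.H12.UCommA

set_option autoImplicit false
set_option linter.unusedSectionVars false

open Matrix Module Polynomial

namespace Cfsg.Agent.Lib.H12.UComm

variable {F : Type*} [Field F] {m : ℕ}

theorem aeval_restrict_apply {V : Type*} [AddCommGroup V] [Module F V] (f : Module.End F V)
    (W : Submodule F V) (hW : ∀ x ∈ W, f x ∈ W) (Q : F[X]) (w : W) :
    ((aeval (f.restrict hW) Q) w : V) = (aeval f Q) (w : V) := by
  induction Q using Polynomial.induction_on' with
  | add p q hp hq => simp [map_add, hp, hq]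
  | monomial n a =>
    simp only [Polynomial.aeval_monomial]
    rw [Module.End.pow_restrict n hW]
    simp [Module.algebraMap_end_apply]

/-- matrix polynomial commutes with anything commuting with the matrix -/
theorem aeval_comm (C M : Matrix (Fin m) (Fin m) F) (h : C * M = M * C) (Q : F[X]) :
    aeval C Q * M = M * aeval C Q := by
  have h1 : Commute C M := h
  suffices Commute (aeval C Q) M from this
  induction Q using Polynomial.induction_on' with
  | add p q hp hq =>
    rw [map_add]
    exact hp.add_left hq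
  | monomial n a =>
    rw [Polynomial.aeval_monomial]
    exact (Algebra.commute_algebraMap_left a M).mul_left (h1.pow_left n)

section key

variable [Fintype F] (p : ℕ) [Fact p.Prime] [CharP F p]

/-- the key bound: the order of `(-q)⁻¹` modulo `r` is at most the rank of `M` -/
theorem key_bound (q a : ℕ) (hqa : q = p ^ a)
    (σ : F →+* F) (hσ : ∀ x, σ x = x ^ q)
    (r : ℕ) (hr : r.Prime) (hrp : r ≠ p)
    (C M D D' : Matrix (Fin m) (Fin m) F)
    (hC : cj σ C * C = 1) (hCr : C ^ r = 1) (hCM : C * M = M * C) (hM : M ≠ 0)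
    (hMD : cj σ M = M * D) (hDD' : D * D' = 1) (hCD : C * D = D * C)
    (hΦ : (∑ i ∈ Finset.range r, C ^ i) * M = 0)
    (t : (ZMod r)ˣ) (ht : (t : ZMod r) * (q : ZMod r) = -1) :
    orderOf t ≤ finrank F (LinearMap.range (Matrix.toLin' M)) := by
  classical
  have hpp : p.Prime := Fact.out
  have hr1 : 1 ≤ r := hr.one_lt.le
  have : Fact r.Prime := ⟨hr⟩
  set Cl : Module.End F (Fin m → F) := Matrix.toLin' C with hCl
  set W := LinearMap.range (Matrix.toLin' M) with hWdef
  have hW : ∀ x ∈ W, Cl x ∈ W := by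
    rintro _ ⟨v, rfl⟩
    refine ⟨C *ᵥ v, ?_⟩
    simp only [hCl, Matrix.toLin'_apply, Matrix.mulVec_mulVec, hCM]
  set c : Module.End F W := Cl.restrict hW with hc
  -- the bridge between `c` and matrices
  have bridge : ∀ Q : F[X], aeval c Q = 0 ↔ aeval C Q * M = 0 := by
    intro Q
    have h1 : ∀ v : Fin m → F, (aeval Cl Q) (M *ᵥ v) = (aeval C Q * M) *ᵥ v := by
      intro v
      have : aeval Cl Q = Matrix.toLin' (aeval C Q) := by
        rw [hCl]
        exact (Polynomial.aeval_algHom_apply (Matrix.toLinAlgEquiv' : Matrix (Fin m) (Fin m) F ≃ₐ[F] _).toAlgHom C Q)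
      rw [this, Matrix.toLin'_apply, Matrix.mulVec_mulVec]
    constructor
    · intro h
      apply Matrix.toLin'.injective
      apply LinearMap.ext
      intro v
      rw [Matrix.toLin'_apply, ← h1, map_zero, LinearMap.zero_apply]
      have h2 := aeval_restrict_apply Cl W hW Q ⟨M *ᵥ v, ⟨v, by simp⟩⟩
      rw [hc] at h
      rw [h] at h2
      simpa using h2.symm
    · intro h
      apply LinearMap.ext
      rintro ⟨_, ⟨v, rfl⟩⟩
      apply Subtype.ext
      rw [hc, aeval_restrict_apply]
      simp only [Matrix.toLin'_apply, LinearMap.zero_apply, Submodule.coe_zero]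
      rw [h1, h, Matrix.zero_mulVec]
  set P := minpoly F c with hP
  have hint : IsIntegral F c := Algebra.IsIntegral.isIntegral c
  have hPmonic : P.Monic := minpoly.monic hint
  have hP0 : aeval C P * M = 0 := (bridge P).1 (minpoly.aeval F c)
  have hPdeg : P.natDegree ≤ finrank F W := by
    have h1 := LinearMap.minpoly_dvd_charpoly c
    have h2 := Polynomial.natDegree_le_of_dvd h1 (LinearMap.charpoly_monic c).ne_zero
    rwa [LinearMap.charpoly_natDegree] at h2
  have hPΦ : P ∣ ∑ i ∈ Finset.range r, (X : F[X]) ^ i := by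
    apply minpoly.dvd
    rw [bridge]
    simpa [map_sum] using hΦ
  have hPdeg1 : P.natDegree ≠ 0 := by
    intro h0
    have h1 : P = 1 := Polynomial.eq_one_of_monic_natDegree_zero hPmonic h0
    rw [h1] at hP0
    simp only [map_one, one_mul] at hP0
    exact hM hP0
  have hC' : cj σ C = C ^ (r - 1) := by
    have h2 : C * C ^ (r - 1) = 1 := by rw [← pow_succ', Nat.sub_add_cancel hr1, hCr]
    calc cj σ C = cj σ C * (C * C ^ (r - 1)) := by rw [h2, mul_one]
      _ = (cj σ C * C) * C ^ (r - 1) := by rw [mul_assoc]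
      _ = C ^ (r - 1) := by rw [hC, one_mul]
  have hPS : P ∣ (P.map σ).comp (X ^ (r - 1)) := by
    apply minpoly.dvd
    rw [bridge]
    have h1 : aeval C ((P.map σ).comp (X ^ (r - 1))) = aeval (C ^ (r - 1)) (P.map σ) := by
      rw [Polynomial.aeval_comp]
      simp
    rw [h1]
    have hYe : cj σ (aeval C P) = aeval (C ^ (r - 1)) (P.map σ) := by rw [cj_aeval, hC']
    rw [← hYe]
    have h2 : cj σ (aeval C P * M) = 0 := by rw [hP0, cj_zero]
    rw [cj_mul, hMD] at h2
    have hYD : cj σ (aeval C P) * D = D * cj σ (aeval C P) := by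
      rw [hYe]
      exact aeval_comm _ _ ((Commute.pow_left (show Commute C D from hCD) _).eq) _
    have hYM : cj σ (aeval C P) * M = M * cj σ (aeval C P) := by
      rw [hYe]
      exact aeval_comm _ _ ((Commute.pow_left (show Commute C M from hCM) _).eq) _
    have h3 : M * cj σ (aeval C P) * D = 0 := by
      rw [mul_assoc, hYD, ← mul_assoc]
      exact h2
    have h4 : M * cj σ (aeval C P) = 0 := by
      have := congrArg (· * D') h3
      simpa [mul_assoc, hDD'] using this
    rw [hYM, h4]
  -- pass to the algebraic closure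
  have hq0 : q ≠ 0 := by
    rw [hqa]
    exact pow_ne_zero _ hpp.ne_zero
  let L := AlgebraicClosure F
  have : CharP L p := charP_of_injective_algebraMap (algebraMap F L).injective p
  have : ExpChar L p := ExpChar.prime hpp
  let φ : L →+* L := iterateFrobenius L p a
  have hφ : ∀ y, φ y = y ^ q := fun y => by
    rw [hqa]
    rfl
  have hφσ : φ.comp (algebraMap F L) = (algebraMap F L).comp σ := by
    ext x
    simp [hφ, hσ]
  have key1 : ∀ z : L, aeval (z ^ q) (P.map σ) = (aeval z P) ^ q := by
    intro z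
    rw [← hφ, ← hφ, Polynomial.aeval_def, Polynomial.eval₂_map, ← hφσ, Polynomial.aeval_def,
      Polynomial.hom_eval₂]
  obtain ⟨lam0, hlam0⟩ : ∃ lam0 : L, aeval lam0 P = 0 := by
    apply IsAlgClosed.exists_aeval_eq_zero L P
    intro h
    apply hPdeg1
    exact Polynomial.natDegree_eq_zero_iff_degree_le_zero.2 h.le
  set w := (t : ZMod r).val with hwdef
  have hwt : ((w : ℕ) : ZMod r) = (t : ZMod r) := by
    rw [hwdef, ZMod.natCast_val, ZMod.cast_id', id]
  have hw : r ∣ w * q + 1 := by
    rw [← ZMod.natCast_eq_zero_iff]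
    push_cast
    rw [hwt, ht]
    ring
  have hclos : ∀ lam : L, aeval lam P = 0 → lam ^ r = 1 → aeval (lam ^ w) P = 0 := by
    intro lam h0 h1
    have hS0 : aeval lam ((P.map σ).comp (X ^ (r - 1))) = 0 := by
      obtain ⟨Q, hQ⟩ := hPS
      rw [hQ, map_mul, h0, zero_mul]
    rw [Polynomial.aeval_comp] at hS0
    simp only [map_pow, aeval_X] at hS0
    have hl0 : lam ≠ 0 := by
      rintro rfl
      rw [zero_pow hr.ne_zero] at h1
      exact zero_ne_one h1
    have h2 : (lam ^ w) ^ q = lam ^ (r - 1) := by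
      apply mul_right_cancel₀ hl0
      rw [← pow_mul, ← pow_succ, ← pow_succ, Nat.sub_add_cancel hr1, h1]
      obtain ⟨d, hd⟩ := hw
      rw [hd, pow_mul, h1, one_pow]
    rw [← h2, key1] at hS0
    exact (pow_eq_zero_iff hq0).1 hS0
  have hlam_r : lam0 ^ r = 1 ∧ lam0 ≠ 1 := by
    have h1 : ∑ i ∈ Finset.range r, lam0 ^ i = 0 := by
      obtain ⟨Q, hQ⟩ := hPΦ
      have := congrArg (aeval lam0) hQ
      rw [map_mul, hlam0, zero_mul] at this
      simpa [map_sum] using this
    constructor
    · have h2 := geom_sum_mul lam0 r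
      rw [h1, zero_mul] at h2
      exact (sub_eq_zero.1 h2.symm)
    · rintro rfl
      simp only [one_pow, Finset.sum_const, Finset.card_range, nsmul_eq_mul, mul_one] at h1
      have h3 := (CharP.cast_eq_zero_iff L p r).1 h1
      exact hrp ((Nat.prime_dvd_prime_iff_eq hpp hr).1 h3).symm
  have hord : orderOf lam0 = r := orderOf_eq_prime hlam_r.1 hlam_r.2
  have horb : ∀ i : ℕ, aeval (lam0 ^ (w ^ i)) P = 0 ∧ (lam0 ^ (w ^ i)) ^ r = 1 := by
    intro i
    induction i with
    | zero => simpa using ⟨hlam0, hlam_r.1⟩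
    | succ i ih =>
      rw [pow_succ, pow_mul]
      exact ⟨hclos _ ih.1 ih.2, by rw [← pow_mul, mul_comm, pow_mul, ih.2, one_pow]⟩
  let Z : Finset L := (Finset.range (orderOf t)).image (fun i => lam0 ^ (w ^ i))
  have hZcard : Z.card = orderOf t := by
    rw [Finset.card_image_of_injOn, Finset.card_range]
    intro i hi j hj hij
    simp only [Finset.coe_range, Set.mem_Iio] at hi hj
    simp only at hij
    have hl0 : lam0 ≠ 0 := by
      rintro rfl
      have := hlam_r.1
      rw [zero_pow hr.ne_zero] at this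
      exact zero_ne_one this
    have hu : (Units.mk0 lam0 hl0) ^ (w ^ i) = (Units.mk0 lam0 hl0) ^ (w ^ j) := by
      apply Units.ext
      simpa using hij
    have hordu : orderOf (Units.mk0 lam0 hl0) = r := by
      rw [← orderOf_units, Units.val_mk0, hord]
    rw [pow_eq_pow_iff_modEq, hordu] at hu
    have h1 : ((w ^ i : ℕ) : ZMod r) = ((w ^ j : ℕ) : ZMod r) :=
      (ZMod.natCast_eq_natCast_iff _ _ _).2 hu
    push_cast at h1
    rw [hwt] at h1
    have h2 : t ^ i = t ^ j := Units.ext (by push_cast; exact h1)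
    exact pow_injOn_Iio_orderOf hi hj h2
  have hZroots : Z.val ⊆ (P.map (algebraMap F L)).roots := by
    intro x hx
    have hx' : x ∈ Z := hx
    obtain ⟨i, -, rfl⟩ := Finset.mem_image.1 hx'
    rw [Polynomial.mem_roots (Polynomial.map_ne_zero hPmonic.ne_zero), Polynomial.IsRoot.def,
      Polynomial.eval_map, ← Polynomial.aeval_def]
    exact (horb i).1
  have hfin := Polynomial.card_le_degree_of_subset_roots hZroots
  rw [hZcard, hPmonic.natDegree_map] at hfin
  exact hfin.trans hPdeg

end key

end Cfsg.Agent.Lib.H12.UComm
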