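import Mathlib
import Cfsg.Agent.Lib.H12.UCommB

set_option autoImplicit false
set_option linter.unusedSectionVars false

open Matrix Module Polynomial

namespace Cfsg.Agent.Lib.H12.UComm

variable {F : Type*} [Field F] {m : ℕ}

theorem norm_of_unitary (σ : F →+* F) (q : ℕ) (hσ : ∀ x, σ x = x ^ q) (hm : 1 ≤ m)
    (X : Matrix (Fin m) (Fin m) F) (c : F) (k : ℕ)
    (hX : cj σ X * X = 1) (hXk : X ^ k = c • (1 : Matrix (Fin m) (Fin m) F)) : c ^ (q + 1) = 1 := by
  have hX' : X * cj σ X = 1 := mul_eq_one_comm.1 hX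
  have hcomm : Commute (cj σ X) X := by
    change cj σ X * X = X * cj σ X
    rw [hX, hX']
  have h1 : cj σ (X ^ k) * X ^ k = 1 := by
    rw [cj_pow, ← hcomm.mul_pow, hX, one_pow]
  rw [hXk, cj_smul, cj_one, smul_mul_smul_comm, mul_one] at h1
  have h2 := congrFun (congrFun h1 ⟨0, hm⟩) ⟨0, hm⟩
  simp only [Matrix.smul_apply, Matrix.one_apply_eq, smul_eq_mul, mul_one] at h2
  rw [hσ] at h2
  rw [pow_succ']
  rw [mul_comm] at h2
  exact h2

theorem sum_props (C : Matrix (Fin m) (Fin m) F) (r : ℕ) (hCr : C ^ r = 1) :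
    C * (∑ i ∈ Finset.range r, C ^ i) = ∑ i ∈ Finset.range r, C ^ i ∧
    (∑ i ∈ Finset.range r, C ^ i) * C = ∑ i ∈ Finset.range r, C ^ i ∧
    (∑ i ∈ Finset.range r, C ^ i) * (∑ i ∈ Finset.range r, C ^ i) =
      (r : F) • ∑ i ∈ Finset.range r, C ^ i := by
  have h1 : ∑ i ∈ Finset.range r, C ^ (i + 1) = ∑ i ∈ Finset.range r, C ^ i := by
    have ha := Finset.sum_range_succ' (fun i => C ^ i) r
    have hb := Finset.sum_range_succ (fun i => C ^ i) r
    rw [hb, hCr, pow_zero] at ha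
    exact (add_right_cancel ha).symm
  have h2 : C * (∑ i ∈ Finset.range r, C ^ i) = ∑ i ∈ Finset.range r, C ^ i := by
    rw [Finset.mul_sum, ← h1]
    exact Finset.sum_congr rfl (fun i _ => (pow_succ' C i).symm)
  have h3 : (∑ i ∈ Finset.range r, C ^ i) * C = ∑ i ∈ Finset.range r, C ^ i := by
    rw [Finset.sum_mul, ← h1]
    exact Finset.sum_congr rfl (fun i _ => (pow_succ C i).symm)
  refine ⟨h2, h3, ?_⟩
  have h4 : ∀ i : ℕ, C ^ i * (∑ i ∈ Finset.range r, C ^ i) = ∑ i ∈ Finset.range r, C ^ i := by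
    intro i
    induction i with
    | zero => rw [pow_zero, one_mul]
    | succ i ih => rw [pow_succ, mul_assoc, h2, ih]
  rw [Finset.sum_mul, Finset.sum_congr rfl (fun i _ => h4 i), Finset.sum_const, Finset.card_range,
    Nat.cast_smul_eq_nsmul]

/-- the averaging idempotent of a `cj`-unitary matrix of order dividing `r` -/
theorem proj_props (σ : F →+* F) (hσ2 : ∀ x, σ (σ x) = x) (C : Matrix (Fin m) (Fin m) F) (r : ℕ)
    (hC : cj σ C * C = 1) (hCr : C ^ r = 1) (hr0 : (r : F) ≠ 0) :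
    C * ((r : F)⁻¹ • ∑ i ∈ Finset.range r, C ^ i) = (r : F)⁻¹ • ∑ i ∈ Finset.range r, C ^ i ∧
    ((r : F)⁻¹ • ∑ i ∈ Finset.range r, C ^ i) * C = (r : F)⁻¹ • ∑ i ∈ Finset.range r, C ^ i ∧
    ((r : F)⁻¹ • ∑ i ∈ Finset.range r, C ^ i) * ((r : F)⁻¹ • ∑ i ∈ Finset.range r, C ^ i) =
      (r : F)⁻¹ • ∑ i ∈ Finset.range r, C ^ i ∧
    cj σ ((r : F)⁻¹ • ∑ i ∈ Finset.range r, C ^ i) = (r : F)⁻¹ • ∑ i ∈ Finset.range r, C ^ i ∧
    (∑ i ∈ Finset.range r, C ^ i) * (1 - (r : F)⁻¹ • ∑ i ∈ Finset.range r, C ^ i) = 0 := by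
  obtain ⟨h1, h2, h3⟩ := sum_props C r hCr
  set S := ∑ i ∈ Finset.range r, C ^ i with hS
  set E := (r : F)⁻¹ • S with hE
  have hCE : C * E = E := by rw [hE, Matrix.mul_smul, h1]
  have hEC : E * C = E := by rw [hE, Matrix.smul_mul, h2]
  have hSE : S * E = S := by
    rw [hE, Matrix.mul_smul, h3, smul_smul, inv_mul_cancel₀ hr0, one_smul]
  have hEE : E * E = E := by
    rw [hE, Matrix.smul_mul, ← hE, hSE]
  refine ⟨hCE, hEC, hEE, ?_, ?_⟩
  · -- cj E = E
    have ha : cj σ E * C = cj σ E := by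
      have := congrArg (cj σ) hCE
      rw [cj_mul] at this
      calc cj σ E * C = (cj σ E * cj σ C) * C := by rw [this]
        _ = cj σ E * (cj σ C * C) := by rw [mul_assoc]
        _ = cj σ E := by rw [hC, mul_one]
    have hb : ∀ i : ℕ, cj σ E * C ^ i = cj σ E := by
      intro i
      induction i with
      | zero => rw [pow_zero, mul_one]
      | succ i ih => rw [pow_succ, ← mul_assoc, ih, ha]
    have hc : cj σ E * S = (r : F) • cj σ E := by
      rw [hS, Finset.mul_sum, Finset.sum_congr rfl (fun i _ => hb i), Finset.sum_const,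
        Finset.card_range, Nat.cast_smul_eq_nsmul]
    have hd : cj σ E * E = cj σ E := by
      rw [hE, Matrix.mul_smul, ← hE, hc, smul_smul, inv_mul_cancel₀ hr0, one_smul]
    have he := congrArg (cj σ) hd
    rw [cj_mul, cj_cj σ hσ2] at he
    exact hd.symm.trans he
  · rw [mul_sub, mul_one, hSE, sub_self]

theorem finrank_range_le_of_sq_zero (M : Matrix (Fin m) (Fin m) F) (h : M * M = 0) :
    2 * finrank F (LinearMap.range (Matrix.toLin' M)) ≤ m := by
  have h1 := LinearMap.finrank_range_add_finrank_ker (Matrix.toLin' M)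
  rw [Module.finrank_fintype_fun_eq_card, Fintype.card_fin] at h1
  have h2 : LinearMap.range (Matrix.toLin' M) ≤ LinearMap.ker (Matrix.toLin' M) := by
    rintro _ ⟨v, rfl⟩
    rw [LinearMap.mem_ker, Matrix.toLin'_apply, Matrix.toLin'_apply, Matrix.mulVec_mulVec, h,
      Matrix.zero_mulVec]
  have h3 := Submodule.finrank_mono h2
  omega

theorem finrank_range_proj_le (P M0 : Matrix (Fin m) (Fin m) F) (hPP : P * P = P)
    (hPM : P * M0 = 0) (hMP : M0 * P = 0) (hMM : M0 * M0 = 0) (hM0 : M0 ≠ 0) :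
    finrank F (LinearMap.range (Matrix.toLin' P)) + 2 ≤ m := by
  have h1 := LinearMap.finrank_range_add_finrank_ker (Matrix.toLin' M0)
  rw [Module.finrank_fintype_fun_eq_card, Fintype.card_fin] at h1
  set R1 := LinearMap.range (Matrix.toLin' P) with hR1
  set R2 := LinearMap.range (Matrix.toLin' M0) with hR2
  set K := LinearMap.ker (Matrix.toLin' M0) with hK
  have hR1K : R1 ≤ K := by
    rintro _ ⟨v, rfl⟩
    rw [hK, LinearMap.mem_ker, Matrix.toLin'_apply, Matrix.toLin'_apply, Matrix.mulVec_mulVec, hMP,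
      Matrix.zero_mulVec]
  have hR2K : R2 ≤ K := by
    rintro _ ⟨v, rfl⟩
    rw [hK, LinearMap.mem_ker, Matrix.toLin'_apply, Matrix.toLin'_apply, Matrix.mulVec_mulVec, hMM,
      Matrix.zero_mulVec]
  have hinf : R1 ⊓ R2 = ⊥ := by
    rw [eq_bot_iff]
    rintro x ⟨⟨y, hy⟩, ⟨z, hz⟩⟩
    rw [Submodule.mem_bot]
    rw [Matrix.toLin'_apply] at hy hz
    have h2 : P *ᵥ x = x := by rw [← hy, Matrix.mulVec_mulVec, hPP]
    have h3 : P *ᵥ x = 0 := by rw [← hz, Matrix.mulVec_mulVec, hPM, Matrix.zero_mulVec]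
    rw [← h2, h3]
  have h4 := Submodule.finrank_sup_add_finrank_inf_eq R1 R2
  rw [hinf, finrank_bot, add_zero] at h4
  have h5 : finrank F ↥(R1 ⊔ R2) ≤ finrank F K := Submodule.finrank_mono (sup_le hR1K hR2K)
  have h6 : 1 ≤ finrank F R2 := by
    rw [Nat.one_le_iff_ne_zero]
    intro h0
    have h7 : R2 = ⊥ := Submodule.finrank_eq_zero.1 h0
    apply hM0
    apply Matrix.toLin'.injective
    rw [map_zero]
    exact LinearMap.range_eq_bot.1 h7
  omega

end Cfsg.Agent.Lib.H12.UComm
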