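import Mathlib
import Cfsg.Agent.Lib.H12.UCommC

set_option autoImplicit false
set_option linter.unusedSectionVars false
set_option maxHeartbeats 1000000

open Matrix Module Polynomial

namespace Cfsg.Agent.Lib.H12.UComm

variable {F : Type*} [Field F] {m : ℕ}

theorem unitary_core [Fintype F] (p : ℕ) [Fact p.Prime] [CharP F p] (q a : ℕ) (hqa : q = p ^ a)
    (hF : Fintype.card F = q ^ 2) (σ : F →+* F) (hσ : ∀ x, σ x = x ^ q)
    (hm : 4 ≤ m) (r : ℕ) (hr : r.Prime) (hrp : r ≠ p)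
    (A B : Matrix (Fin m) (Fin m) F) (l ζ : F) (hl : l ≠ 0) (hζ : ζ ≠ 0)
    (hA : cj σ A * A = 1) (hB : cj σ B * B = 1)
    (hAp : A ^ p = l • (1 : Matrix (Fin m) (Fin m) F))
    (hAns : ∀ μ : F, A ≠ μ • (1 : Matrix (Fin m) (Fin m) F))
    (hBr : B ^ r = ζ • (1 : Matrix (Fin m) (Fin m) F))
    (hBns : ∀ μ : F, B ≠ μ • (1 : Matrix (Fin m) (Fin m) F)) (hAB : A * B = B * A) :
    ∃ e, 1 ≤ e ∧ e ≤ m - 2 ∧ (-(q : ZMod r)) ^ e = 1 := by
  classical
  have hpp : p.Prime := Fact.out
  have : Nonempty (Fin m) := ⟨⟨0, by omega⟩⟩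
  have : Fact r.Prime := ⟨hr⟩
  have : ExpChar F p := ExpChar.prime hpp
  have hr1 : 1 ≤ r := hr.one_lt.le
  have hp1 : 1 ≤ p := hpp.one_lt.le
  have hσ2 : ∀ x, σ (σ x) = x := by
    intro x
    rw [hσ, hσ, ← pow_mul, ← sq, ← hF, FiniteField.pow_card]
  by_cases hrq : r ∣ q + 1
  · refine ⟨1, le_rfl, by omega, ?_⟩
    rw [pow_one]
    have h1 : ((q + 1 : ℕ) : ZMod r) = 0 := (ZMod.natCast_eq_zero_iff _ _).2 hrq
    push_cast at h1
    linear_combination (-1 : ZMod r) * h1
  -- Step 1: normalise `B`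
  have hζn : ζ ^ (q + 1) = 1 := norm_of_unitary σ q hσ (by omega) B ζ r hB hBr
  have hcop : Nat.Coprime r (q + 1) := (Nat.Prime.coprime_iff_not_dvd hr).2 hrq
  have hq0 : q ≠ 0 := by
    rw [hqa]
    exact pow_ne_zero _ hpp.ne_zero
  obtain ⟨s, -, hs⟩ := Nat.exists_mul_mod_eq_one_of_coprime hcop (by omega : 1 < q + 1)
  set ν : F := (ζ⁻¹) ^ s with hν
  have hζi : (ζ⁻¹) ^ (q + 1) = 1 := by rw [inv_pow, hζn, inv_one]
  have hν1 : ν ^ (q + 1) = 1 := by
    rw [hν, ← pow_mul, mul_comm, pow_mul, hζi, one_pow]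
  have hν2 : ν ^ r * ζ = 1 := by
    have h1 := Nat.div_add_mod (r * s) (q + 1)
    rw [hs] at h1
    rw [hν, ← pow_mul, mul_comm s r, ← h1, pow_add, pow_mul, hζi, one_pow, one_mul, pow_one,
      inv_mul_cancel₀ hζ]
  have hν0 : ν ≠ 0 := by
    rintro h0
    rw [h0, zero_pow (by omega), zero_mul] at hν2
    exact zero_ne_one hν2
  set C : Matrix (Fin m) (Fin m) F := ν • B with hCdef
  clear_value C
  have hC : cj σ C * C = 1 := by
    rw [hCdef, cj_smul, smul_mul_smul_comm, hB, hσ, ← pow_succ, hν1, one_smul]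
  have hCr : C ^ r = 1 := by
    rw [hCdef, _root_.smul_pow, hBr, smul_smul, hν2, one_smul]
  have hC1 : C ≠ 1 := by
    intro h1
    apply hBns ν⁻¹
    rw [← h1, hCdef, smul_smul, inv_mul_cancel₀ hν0, one_smul]
  have hAC : A * C = C * A := by
    rw [hCdef, Matrix.mul_smul, Matrix.smul_mul, hAB]
  -- Step 2: the unipotent part of `A`
  obtain ⟨μ, hμ⟩ : ∃ μ : F, μ ^ p = l :=
    (PerfectRing.bijective_frobenius (R := F) (p := p)).surjective l
  have hμ0 : μ ≠ 0 := by
    rintro rfl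
    rw [zero_pow hpp.ne_zero] at hμ
    exact hl hμ.symm
  have hln : l ^ (q + 1) = 1 := norm_of_unitary σ q hσ (by omega) A l p hA hAp
  have hμn : μ ^ (q + 1) = 1 := by
    apply frobenius_inj F p
    rw [frobenius_def, frobenius_def, one_pow, ← pow_mul, mul_comm, pow_mul, hμ, hln]
  set u : Matrix (Fin m) (Fin m) F := μ⁻¹ • A with hu
  clear_value u
  have huu : cj σ u * u = 1 := by
    rw [hu, cj_smul, smul_mul_smul_comm, hA, hσ, ← pow_succ, inv_pow, hμn, inv_one, one_smul]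
  have hup : u ^ p = 1 := by
    rw [hu, _root_.smul_pow, hAp, smul_smul, inv_pow, hμ, inv_mul_cancel₀ hl, one_smul]
  set N : Matrix (Fin m) (Fin m) F := u - 1 with hN
  clear_value N
  have hNp : N ^ p = 0 := by
    rw [hN, sub_pow_char_of_commute p (Commute.one_right u), hup, one_pow, sub_self]
  have hN0 : N ≠ 0 := by
    intro h0
    rw [hN] at h0
    have h1 : u = 1 := sub_eq_zero.1 h0
    apply hAns μ
    rw [← h1, hu, smul_smul, mul_inv_cancel₀ hμ0, one_smul]
  have huC : u * C = C * u := by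
    rw [hu, Matrix.smul_mul, Matrix.mul_smul, hAC]
  have hNC : N * C = C * N := by
    rw [hN, sub_mul, mul_sub, one_mul, mul_one, huC]
  set u' : Matrix (Fin m) (Fin m) F := u ^ (p - 1) with hu'
  clear_value u'
  have huu' : u * u' = 1 := by rw [hu', ← pow_succ', Nat.sub_add_cancel hp1, hup]
  have hu'u : u' * u = 1 := by rw [hu', ← pow_succ, Nat.sub_add_cancel hp1, hup]
  have hcju : cj σ u = u' := by
    calc cj σ u = cj σ u * (u * u') := by rw [huu', mul_one]
      _ = (cj σ u * u) * u' := by rw [mul_assoc]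
      _ = u' := by rw [huu, one_mul]
  have hNu' : N * u' = u' * N := by
    rw [hN, sub_mul, mul_sub, one_mul, mul_one, huu', hu'u]
  have hcjN : cj σ N = -(N * u') := by
    rw [hN, cj_sub, cj_one, hcju, sub_mul, one_mul, huu']
    abel
  have hu'C : u' * C = C * u' := by
    rw [hu']
    exact (Commute.pow_left (show Commute u C from huC) _).eq
  -- Step 3: the projections
  have hr0 : (r : F) ≠ 0 := by
    intro h0
    have h3 := (CharP.cast_eq_zero_iff F p r).1 h0
    exact hrp ((Nat.prime_dvd_prime_iff_eq hpp hr).1 h3).symm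
  obtain ⟨hCE, hEC, hEE, hcjE, hSP⟩ := proj_props σ hσ2 C r hC hCr hr0
  set S := ∑ i ∈ Finset.range r, C ^ i with hS
  clear_value S
  set E := (r : F)⁻¹ • S with hE
  clear_value E
  set Pj : Matrix (Fin m) (Fin m) F := 1 - E with hPj
  clear_value Pj
  have hPjPj : Pj * Pj = Pj := by
    rw [hPj, mul_sub, mul_one, sub_mul, one_mul, hEE, sub_self, sub_zero]
  have hPj0 : Pj ≠ 0 := by
    intro h0
    rw [hPj] at h0
    have h1 : E = 1 := (sub_eq_zero.1 h0).symm
    apply hC1
    rw [h1, mul_one] at hCE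
    exact hCE
  have hcjPj : cj σ Pj = Pj := by rw [hPj, cj_sub, cj_one, hcjE]
  have hNS : N * S = S * N := by
    rw [hS]
    exact (Commute.sum_right _ _ _ (fun i _ => Commute.pow_right (show Commute N C from hNC) i)).eq
  have hNE : N * E = E * N := by
    rw [hE, Matrix.mul_smul, Matrix.smul_mul, hNS]
  have hNPj : N * Pj = Pj * N := by
    rw [hPj, mul_sub, sub_mul, mul_one, one_mul, hNE]
  have hCPj : C * Pj = Pj * C := by
    rw [hPj, mul_sub, sub_mul, mul_one, one_mul, hCE, hEC]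
  -- Step 4: choose `M`
  have hex : ∃ k, N ^ (k + 1) * Pj = 0 := ⟨p - 1, by rw [Nat.sub_add_cancel hp1, hNp, zero_mul]⟩
  obtain ⟨k, hk2, hk1⟩ : ∃ k, N ^ (k + 1) * Pj = 0 ∧ N ^ k * Pj ≠ 0 := by
    refine ⟨Nat.find hex, Nat.find_spec hex, ?_⟩
    rcases Nat.eq_zero_or_pos (Nat.find hex) with h0 | h0
    · rw [h0, pow_zero, one_mul]
      exact hPj0
    · have := Nat.find_min hex (Nat.sub_lt h0 Nat.one_pos)
      rwa [Nat.sub_add_cancel h0] at this
  set M := N ^ k * Pj with hMdef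
  clear_value M
  have hNkPj : N ^ k * Pj = Pj * N ^ k := (Commute.pow_left (show Commute N Pj from hNPj) k).eq
  have hNkC : N ^ k * C = C * N ^ k := (Commute.pow_left (show Commute N C from hNC) k).eq
  have hCM : C * M = M * C := by
    rw [hMdef, ← mul_assoc, ← hNkC, mul_assoc, hCPj, ← mul_assoc]
  have hSNk : S * N ^ k = N ^ k * S := (Commute.pow_right (show Commute S N from hNS.symm) k).eq
  have hΦ : S * M = 0 := by
    rw [hMdef, ← mul_assoc, hSNk, mul_assoc, hSP, mul_zero]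
  set D : Matrix (Fin m) (Fin m) F := ((-1 : F) ^ k) • u' ^ k with hD
  clear_value D
  set D' : Matrix (Fin m) (Fin m) F := ((-1 : F) ^ k) • u ^ k with hD'
  clear_value D'
  have hDD' : D * D' = 1 := by
    rw [hD, hD', smul_mul_smul_comm, ← mul_pow, ← (show Commute u' u from by
      change u' * u = u * u'
      rw [huu', hu'u]).mul_pow, hu'u]
    simp
  have hcjNk : cj σ (N ^ k) = ((-1 : F) ^ k) • (N ^ k * u' ^ k) := by
    rw [cj_pow, hcjN, ← (show Commute N u' from hNu').mul_pow]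
    have : -(N * u') = (-1 : F) • (N * u') := by simp
    rw [this, _root_.smul_pow]
  have hMD : cj σ M = M * D := by
    rw [hMdef, cj_mul, hcjPj, hcjNk, hD, Matrix.mul_smul, Matrix.mul_smul, ← mul_assoc, ← hNkPj]
  have hu'kC : u' ^ k * C = C * u' ^ k := (Commute.pow_left (show Commute u' C from hu'C) k).eq
  have hCD : C * D = D * C := by
    rw [hD, Matrix.mul_smul, Matrix.smul_mul, hu'kC]
  have hrq' : ¬ r ∣ q := by
    intro h
    rw [hqa] at h
    exact hrp ((Nat.prime_dvd_prime_iff_eq hr hpp).1 (hr.dvd_of_dvd_pow h))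
  have hcopq : Nat.Coprime q r := ((Nat.Prime.coprime_iff_not_dvd hr).2 hrq').symm
  set t : (ZMod r)ˣ := -(ZMod.unitOfCoprime q hcopq)⁻¹ with htdef
  have ht : (t : ZMod r) * (q : ZMod r) = -1 := by
    rw [htdef, Units.val_neg, neg_mul, ← ZMod.coe_unitOfCoprime q hcopq, ← Units.val_mul,
      inv_mul_cancel, Units.val_one]
  have hM0 : M ≠ 0 := hk1
  have hkey := key_bound p q a hqa σ hσ r hr hrp C M D D' hC hCr hCM hM0 hMD hDD' hCD
    (by rw [← hS]; exact hΦ) t ht
  have hrank : finrank F (LinearMap.range (Matrix.toLin' M)) ≤ m - 2 := by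
    rcases Nat.eq_zero_or_pos k with hk0 | hkpos
    · rw [hk0, pow_zero, one_mul] at hMdef
      rw [hk0, zero_add, pow_one] at hk2
      have hex2 : ∃ j, N ^ (j + 1) = 0 := ⟨p - 1, by rw [Nat.sub_add_cancel hp1, hNp]⟩
      obtain ⟨j, hj2, hj1, hjpos⟩ : ∃ j, N ^ (j + 1) = 0 ∧ N ^ j ≠ 0 ∧ 0 < j := by
        have hpos : 0 < Nat.find hex2 := by
          rw [Nat.pos_iff_ne_zero]
          intro h0
          have := Nat.find_spec hex2
          rw [h0, zero_add, pow_one] at this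
          exact hN0 this
        refine ⟨Nat.find hex2, Nat.find_spec hex2, ?_, hpos⟩
        have := Nat.find_min hex2 (Nat.sub_lt hpos Nat.one_pos)
        rwa [Nat.sub_add_cancel hpos] at this
      have hM0Pj : N ^ j * Pj = 0 := by
        have : j = (j - 1) + 1 := by omega
        rw [this, pow_succ, mul_assoc, hk2, mul_zero]
      have hPjM0 : Pj * N ^ j = 0 := by
        rw [← (Commute.pow_left (show Commute N Pj from hNPj) j).eq, hM0Pj]
      have hM0M0 : N ^ j * N ^ j = 0 := by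
        have : j + j = (j - 1) + (j + 1) := by omega
        rw [← pow_add, this, pow_add, hj2, mul_zero]
      have := finrank_range_proj_le Pj (N ^ j) hPjPj hPjM0 hM0Pj hM0M0 hj1
      rw [hMdef]
      omega
    · have hMM : M * M = 0 := by
        have e1 : M * M = N ^ k * N ^ k * (Pj * Pj) := by
          rw [hMdef, mul_assoc, ← mul_assoc Pj, ← hNkPj, mul_assoc, ← mul_assoc]
        have e2 : k + k = (k - 1) + (k + 1) := by omega
        rw [e1, hPjPj, ← pow_add, e2, pow_add, mul_assoc, hk2, mul_zero]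
      have := finrank_range_le_of_sq_zero M hMM
      omega
  refine ⟨orderOf t, orderOf_pos t, hkey.trans hrank, ?_⟩
  have h1 : (-(q : ZMod r)) * (t : ZMod r) = 1 := by rw [neg_mul, mul_comm, ht, neg_neg]
  have h2 : (t : ZMod r) ^ orderOf t = 1 := by
    rw [← Units.val_pow_eq_pow_val, pow_orderOf_eq_one, Units.val_one]
  calc (-(q : ZMod r)) ^ orderOf t = (-(q : ZMod r)) ^ orderOf t * (t : ZMod r) ^ orderOf t := by
        rw [h2, mul_one]
    _ = ((-(q : ZMod r)) * (t : ZMod r)) ^ orderOf t := (mul_pow _ _ _).symm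
    _ = 1 := by rw [h1, one_pow]

end Cfsg.Agent.Lib.H12.UComm
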