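import Mathlib
import Cfsg.Agent.Lib.H12.UCommD
import Cfsg.Agent.Lib.H12.CommUnip2
import Cfsg.Agent.Lib.H2.Unitary6

set_option autoImplicit false
set_option linter.unusedSectionVars false

open Matrix Module

namespace Cfsg.Agent.Lib.H12.UComm

variable {F : Type*} [Field F] [Fintype F] {q : ℕ}

theorem card_SU_eq (hF : Fintype.card F = q ^ 2) (N : ℕ) (hN : 1 ≤ N) :
    Nat.card (Cfsg.SU N F q) = q ^ (N * (N - 1) / 2) *
      ∏ i ∈ Finset.range (N - 1), (if Even (i + 1) then q ^ (i + 2) + 1 else q ^ (i + 2) - 1) := by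
  have h1 := Cfsg.Agent.Lib.H2.Unitary.card_SU_mul (F := F) (q := q) (n := N) hF hN
  obtain ⟨N', rfl⟩ : ∃ N', N = N' + 1 := ⟨N - 1, by omega⟩
  unfold Cfsg.Agent.Lib.H2.Unitary.ordGU at h1
  rw [Finset.prod_range_succ'] at h1
  simp only [Nat.add_sub_cancel, Even.zero, if_true, zero_add, pow_one] at h1
  have h2 : (q + 1) * Nat.card (Cfsg.SU (N' + 1) F q) = (q + 1) * (q ^ ((N' + 1) * N' / 2) *
      ∏ i ∈ Finset.range N', (if Even (i + 1) then q ^ (i + 1 + 1) + 1 else q ^ (i + 1 + 1) - 1)) := by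
    rw [h1]
    ring
  have h3 := Nat.eq_of_mul_eq_mul_left (by omega : 0 < q + 1) h2
  rw [h3]
  simp only [Nat.add_sub_cancel]

theorem dvd_card_SU (hF : Fintype.card F = q ^ 2) (N : ℕ) (hN : 2 ≤ N) (r : ℕ) (hr : r.Prime)
    (e : ℕ) (he1 : 1 ≤ e) (heN : e ≤ N) (h : (-(q : ZMod r)) ^ e = 1) :
    r ∣ Nat.card (Cfsg.SU N F q) := by
  have hq2 : 2 ≤ q := Cfsg.Agent.Lib.H2.Herm.two_le_q hF
  rw [card_SU_eq hF N (by omega)]
  apply Dvd.dvd.mul_left
  rcases Nat.lt_or_ge e 2 with he | he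
  · have he' : e = 1 := by omega
    subst he'
    rw [pow_one] at h
    have h1 : r ∣ q + 1 := by
      rw [← ZMod.natCast_eq_zero_iff]
      push_cast
      linear_combination (-1 : ZMod r) * h
    have hmem : 0 ∈ Finset.range (N - 1) := Finset.mem_range.2 (by omega)
    refine Dvd.dvd.trans ?_ (Finset.dvd_prod_of_mem _ hmem)
    simp only [zero_add]
    rw [if_neg (by decide)]
    have : q ^ 2 - 1 = (q + 1) * (q - 1) := by
      have := Nat.sq_sub_sq q 1
      simpa using this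
    rw [this]
    exact Dvd.dvd.mul_right h1 _
  · have hmem : e - 2 ∈ Finset.range (N - 1) := Finset.mem_range.2 (by omega)
    refine Dvd.dvd.trans ?_ (Finset.dvd_prod_of_mem _ hmem)
    have e1 : e - 2 + 2 = e := by omega
    have e2 : e - 2 + 1 = e - 1 := by omega
    simp only [e1, e2]
    rcases Nat.even_or_odd e with hev | hod
    · have hne : ¬ Even (e - 1) := by
        rw [Nat.not_even_iff_odd]
        obtain ⟨c, hc⟩ := hev
        exact ⟨c - 1, by omega⟩
      rw [if_neg hne]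
      rw [hev.neg_pow] at h
      rw [← ZMod.natCast_eq_zero_iff, Nat.cast_sub (Nat.one_le_pow _ _ (by omega))]
      push_cast
      rw [h, sub_self]
    · have hev' : Even (e - 1) := by
        obtain ⟨c, hc⟩ := hod
        exact ⟨c, by omega⟩
      rw [if_pos hev']
      rw [hod.neg_pow] at h
      rw [← ZMod.natCast_eq_zero_iff]
      push_cast
      linear_combination (-1 : ZMod r) * h

variable {m : ℕ}

theorem scalar_of_center (hF : Fintype.card F = q ^ 2) (hm : 1 ≤ m) (X : Cfsg.SU m F q)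
    (hX : X ∈ Subgroup.center (Cfsg.SU m F q)) :
    ∃ l : F, l ≠ 0 ∧ ((X : Matrix.SpecialLinearGroup (Fin m) F) : Matrix (Fin m) (Fin m) F) =
      l • (1 : Matrix (Fin m) (Fin m) F) := by
  obtain ⟨l, h1, h2, rfl⟩ := Cfsg.Agent.Lib.H2.Unitary.center_scalar hF hm X hX
  exact ⟨(l : F), l.ne_zero, Cfsg.Agent.Lib.H2.Unitary.scSU_val l h1 h2⟩

theorem center_of_scalar (X : Cfsg.SU m F q) (l : F)
    (h : ((X : Matrix.SpecialLinearGroup (Fin m) F) : Matrix (Fin m) (Fin m) F) =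
      l • (1 : Matrix (Fin m) (Fin m) F)) : X ∈ Subgroup.center (Cfsg.SU m F q) := by
  rw [Subgroup.mem_center_iff]
  intro B
  apply Subtype.ext
  apply Subtype.ext
  change ((B : Matrix.SpecialLinearGroup (Fin m) F) : Matrix (Fin m) (Fin m) F) *
      ((X : Matrix.SpecialLinearGroup (Fin m) F) : Matrix (Fin m) (Fin m) F) =
    ((X : Matrix.SpecialLinearGroup (Fin m) F) : Matrix (Fin m) (Fin m) F) *
      ((B : Matrix.SpecialLinearGroup (Fin m) F) : Matrix (Fin m) (Fin m) F)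
  rw [h, Matrix.mul_smul, Matrix.smul_mul, mul_one, one_mul]

theorem val_pow (X : Cfsg.SU m F q) (k : ℕ) :
    (((X ^ k : Cfsg.SU m F q) : Matrix.SpecialLinearGroup (Fin m) F) : Matrix (Fin m) (Fin m) F) =
      ((X : Matrix.SpecialLinearGroup (Fin m) F) : Matrix (Fin m) (Fin m) F) ^ k := by
  rw [Subgroup.coe_pow, Matrix.SpecialLinearGroup.coe_pow]

theorem val_mul (X Y : Cfsg.SU m F q) :
    (((X * Y : Cfsg.SU m F q) : Matrix.SpecialLinearGroup (Fin m) F) : Matrix (Fin m) (Fin m) F) =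
      ((X : Matrix.SpecialLinearGroup (Fin m) F) : Matrix (Fin m) (Fin m) F) *
        ((Y : Matrix.SpecialLinearGroup (Fin m) F) : Matrix (Fin m) (Fin m) F) := by
  rw [Subgroup.coe_mul, Matrix.SpecialLinearGroup.coe_mul]

/-- the main theorem on the level of `PSU` -/
theorem psu_main (p : ℕ) [Fact p.Prime] [CharP F p] (hm : 4 ≤ m) (hF : Fintype.card F = q ^ 2)
    (a b : Cfsg.PSU m F q) (ha : orderOf a = p) (hab : Commute a b)
    (r : ℕ) (hr : r.Prime) (hrb : orderOf b = r) (hrp : r ≠ p) :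
    r ∣ Nat.card (Cfsg.SU (m - 2) F q) := by
  classical
  have hpp : p.Prime := Fact.out
  have : ExpChar F p := ExpChar.prime hpp
  -- `q` is a power of `p`
  obtain ⟨a', hqa⟩ : ∃ a' : ℕ, q = p ^ a' := by
    obtain ⟨k, -, hk⟩ := FiniteField.card F p
    rw [hF] at hk
    have h1 : q ∣ p ^ (k : ℕ) := by
      rw [← hk]
      exact dvd_pow_self q two_ne_zero
    obtain ⟨a', -, ha'⟩ := (Nat.dvd_prime_pow hpp).1 h1
    exact ⟨a', ha'⟩
  set σ : F →+* F := iterateFrobenius F p a' with hσdef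
  have hσ : ∀ x, σ x = x ^ q := fun x => by
    rw [hqa]
    rfl
  obtain ⟨A, rfl⟩ := QuotientGroup.mk_surjective a
  obtain ⟨B, rfl⟩ := QuotientGroup.mk_surjective b
  have unit_of : ∀ X : Cfsg.SU m F q,
      cj σ ((X : Matrix.SpecialLinearGroup (Fin m) F) : Matrix (Fin m) (Fin m) F) *
        ((X : Matrix.SpecialLinearGroup (Fin m) F) : Matrix (Fin m) (Fin m) F) = 1 := by
    intro X
    apply cj_mul_self_of_preserves
    intro u v
    simp only [hσ]
    exact X.2 u v
  have h1 : A ^ p ∈ Subgroup.center (Cfsg.SU m F q) := by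
    rw [← QuotientGroup.eq_one_iff, QuotientGroup.mk_pow, ← ha]
    exact pow_orderOf_eq_one _
  obtain ⟨l, hl, hAp⟩ := scalar_of_center hF (by omega) _ h1
  have h2 : B ^ r ∈ Subgroup.center (Cfsg.SU m F q) := by
    rw [← QuotientGroup.eq_one_iff, QuotientGroup.mk_pow, ← hrb]
    exact pow_orderOf_eq_one _
  obtain ⟨ζ, hζ, hBr⟩ := scalar_of_center hF (by omega) _ h2
  rw [val_pow] at hAp hBr
  have hAns : ∀ μ : F, ((A : Matrix.SpecialLinearGroup (Fin m) F) : Matrix (Fin m) (Fin m) F) ≠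
      μ • (1 : Matrix (Fin m) (Fin m) F) := by
    intro μ hμ
    have h3 := center_of_scalar A μ hμ
    rw [← QuotientGroup.eq_one_iff] at h3
    rw [h3, orderOf_one] at ha
    exact hpp.one_lt.ne ha
  have hBns : ∀ μ : F, ((B : Matrix.SpecialLinearGroup (Fin m) F) : Matrix (Fin m) (Fin m) F) ≠
      μ • (1 : Matrix (Fin m) (Fin m) F) := by
    intro μ hμ
    have h3 := center_of_scalar B μ hμ
    rw [← QuotientGroup.eq_one_iff] at h3
    rw [h3, orderOf_one] at hrb
    exact hr.one_lt.ne hrb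
  have h4 : (B * A)⁻¹ * (A * B) ∈ Subgroup.center (Cfsg.SU m F q) := by
    rw [← QuotientGroup.eq]
    have := hab.eq
    rw [QuotientGroup.mk_mul, QuotientGroup.mk_mul]
    exact this.symm
  obtain ⟨z, hz, hzAB⟩ := scalar_of_center hF (by omega) _ h4
  have hAB' : ((A : Matrix.SpecialLinearGroup (Fin m) F) : Matrix (Fin m) (Fin m) F) *
      ((B : Matrix.SpecialLinearGroup (Fin m) F) : Matrix (Fin m) (Fin m) F) =
      z • (((B : Matrix.SpecialLinearGroup (Fin m) F) : Matrix (Fin m) (Fin m) F) *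
        ((A : Matrix.SpecialLinearGroup (Fin m) F) : Matrix (Fin m) (Fin m) F)) := by
    have h5 : A * B = (B * A) * ((B * A)⁻¹ * (A * B)) := by rw [mul_inv_cancel_left]
    have h6 := congrArg (fun X : Cfsg.SU m F q =>
      ((X : Matrix.SpecialLinearGroup (Fin m) F) : Matrix (Fin m) (Fin m) F)) h5
    rw [val_mul, val_mul (B * A), hzAB, val_mul, Matrix.mul_smul, mul_one] at h6
    exact h6
  have hBu : IsUnit ((B : Matrix.SpecialLinearGroup (Fin m) F) : Matrix (Fin m) (Fin m) F) := by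
    rw [Matrix.isUnit_iff_isUnit_det, (B : Matrix.SpecialLinearGroup (Fin m) F).2]
    exact isUnit_one
  have hAB := Cfsg.Agent.Lib.H12.CommUnip.scalar_comm_eq_one p _ _ z l hl hBu hAp hAB'
  obtain ⟨e, he1, he2, he3⟩ := unitary_core p q a' hqa hF σ hσ hm r hr hrp _ _ l ζ hl hζ
    (unit_of A) (unit_of B) hAp hAns hBr hBns hAB
  exact dvd_card_SU hF (m - 2) (by omega) r hr e he1 he2 he3

end Cfsg.Agent.Lib.H12.UComm
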