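import Mathlib

/-!
# S1950 (cyclic Sylow `p`, pairs of elements of order `p`): shared definitions (helper12)

`fusE p z` : the residues `t ≠ 0` mod `p` with `z ^ t` conjugate to `z` (a subgroup of `F_p^×` when `orderOf z = p`).
`strN E a b c` : the structure constant `#{r ∈ E : (a + b r) / c ∈ E}`.
`gper ψ E x` : the Gauss period `∑_{t ∈ E} ψ (t x)`.
-/

set_option autoImplicit false

namespace Cfsg.Agent.Lib.H12.CY

open scoped Classical in
/-- The fusion set of `z`: residues `t ≠ 0` with `z ^ t` conjugate to `z`. -/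
noncomputable def fusE {G : Type*} [Group G] (p : ℕ) [Fact p.Prime] (z : G) : Finset (ZMod p) :=
  Finset.univ.filter (fun t : ZMod p => t ≠ 0 ∧ IsConj (z ^ t.val) z)

/-- The structure constant `#{r ∈ E : (a + b r) / c ∈ E}`. -/
def strN {p : ℕ} [Fact p.Prime] (E : Finset (ZMod p)) (a b c : ZMod p) : ℕ :=
  (E.filter (fun r : ZMod p => (a + b * r) * c⁻¹ ∈ E)).card

/-- The Gauss period `∑_{t ∈ E} ψ (t x)`. -/
noncomputable def gper {p : ℕ} (ψ : AddChar (ZMod p) ℂ) (E : Finset (ZMod p)) (x : ZMod p) : ℂ :=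
  ∑ t ∈ E, ψ (t * x)

theorem mem_fusE {G : Type*} [Group G] {p : ℕ} [Fact p.Prime] {z : G} {t : ZMod p} :
    t ∈ fusE p z ↔ t ≠ 0 ∧ IsConj (z ^ t.val) z := by
  classical
  unfold fusE
  simp

end Cfsg.Agent.Lib.H12.CY
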