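import Cfsg.Agent.Lib.H11.IsoReindex
import Cfsg.Agent.Lib.H11.S8V0

/-!
# S3590 farm-out, task U7 (for helper11): an isometry of order 4 of the plus form in dimension 4
(characteristic 2) whose geometric sum `1 + u + u² + u³` is nonzero.
-/

set_option autoImplicit false

namespace Cfsg.Agent.Lib.H12.S8V

open Matrix Cfsg.Agent.Lib.H11.S8V
open scoped MatrixGroups

variable {F : Type*} [Field F]

/-- an endomorphism `f` preserving `Q` with `f ^ 2^(k+1) = 1`, `f ^ 2^k ≠ 1` gives an isometry of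
order `2^(k+1)` with matrix `toMatrix' f`. -/
theorem exists_of_end_mat {ι : Type} [Fintype ι] [DecidableEq ι] (Q : (ι → F) → F)
    (f : Module.End F (ι → F)) (hQ : ∀ v, Q (f v) = Q v) (k : ℕ)
    (h1 : f ^ (2 ^ (k + 1)) = 1) (h2 : f ^ (2 ^ k) ≠ 1) :
    ∃ u ∈ Cfsg.isometryGroup F Q, orderOf u = 2 ^ (k + 1) ∧
      (u : Matrix ι ι F) = LinearMap.toMatrix' f := by
  have hn : 2 ^ (k + 1) ≠ 0 := by positivity
  let U : (Module.End F (ι → F))ˣ := Units.ofPowEqOne f _ h1 hn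
  have hU : (U : Module.End F (ι → F)) = f := rfl
  let Φ : (Module.End F (ι → F))ˣ ≃* GL ι F :=
    Units.mapEquiv (LinearMap.toMatrixAlgEquiv' (R := F) (n := ι)).toMulEquiv
  have hΦ : ((Φ U : GL ι F) : Matrix ι ι F) = LinearMap.toMatrix' f := rfl
  refine ⟨Φ U, ?_, ?_, hΦ⟩
  · rw [Cfsg.Agent.Lib.H11.IsoReindex.mem_iso_iff']
    intro x
    rw [hΦ, LinearMap.toMatrix'_mulVec, hQ]
  · rw [MulEquiv.orderOf_eq]
    have : Fact (Nat.Prime 2) := ⟨Nat.prime_two⟩
    apply orderOf_eq_prime_pow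
    · intro h
      apply h2
      have := congrArg (fun V : (Module.End F (ι → F))ˣ => (V : Module.End F (ι → F))) h
      simpa [hU] using this
    · apply Units.ext
      rw [Units.val_pow_eq_pow_val, hU, h1]
      rfl

/-- `gsum` of the matrix of an endomorphism -/
theorem gsum_toMatrix' {ι : Type} [Fintype ι] [DecidableEq ι] (f : Module.End F (ι → F)) (n : ℕ) :
    gsum (LinearMap.toMatrix' f) n = LinearMap.toMatrix' (∑ i ∈ Finset.range n, f ^ i) := by
  rw [gsum_def, map_sum]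
  refine Finset.sum_congr rfl fun i _ => ?_
  exact (map_pow (LinearMap.toMatrixAlgEquiv' (R := F) (n := ι)) f i).symm

/-- the unipotent map `(x₀, y₀, x₁, y₁) ↦ (x₀ + y₁, y₀, y₁, x₁ + y₀)` -/
def fP : Module.End F (Fin 2 ⊕ Fin 2 → F) where
  toFun v := fun s => match s with
    | Sum.inl i => if i = 0 then v (Sum.inl 0) + v (Sum.inr 1) else v (Sum.inr 1)
    | Sum.inr i => if i = 0 then v (Sum.inr 0) else v (Sum.inl 1) + v (Sum.inr 0)
  map_add' v w := by
    funext s
    rcases s with i | i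
    · by_cases hi : i = 0 <;> simp [hi] <;> ring
    · by_cases hi : i = 0 <;> simp [hi] <;> ring
  map_smul' c v := by
    funext s
    rcases s with i | i
    · by_cases hi : i = 0 <;> simp [hi] <;> ring
    · by_cases hi : i = 0 <;> simp [hi] <;> ring

theorem fP_x0 (v : Fin 2 ⊕ Fin 2 → F) : fP v (Sum.inl 0) = v (Sum.inl 0) + v (Sum.inr 1) := rfl
theorem fP_x1 (v : Fin 2 ⊕ Fin 2 → F) : fP v (Sum.inl 1) = v (Sum.inr 1) := rfl
theorem fP_y0 (v : Fin 2 ⊕ Fin 2 → F) : fP v (Sum.inr 0) = v (Sum.inr 0) := rfl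
theorem fP_y1 (v : Fin 2 ⊕ Fin 2 → F) : fP v (Sum.inr 1) = v (Sum.inl 1) + v (Sum.inr 0) := rfl

theorem funext4 {v w : Fin 2 ⊕ Fin 2 → F} (h1 : v (Sum.inl 0) = w (Sum.inl 0))
    (h2 : v (Sum.inl 1) = w (Sum.inl 1)) (h3 : v (Sum.inr 0) = w (Sum.inr 0))
    (h4 : v (Sum.inr 1) = w (Sum.inr 1)) : v = w := by
  funext s
  rcases s with i | i
  · have hi : i = 0 ∨ i = 1 := by fin_cases i <;> simp
    rcases hi with rfl | rfl
    · exact h1
    · exact h2
  · have hi : i = 0 ∨ i = 1 := by fin_cases i <;> simp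
    rcases hi with rfl | rfl
    · exact h3
    · exact h4

/-- **U7** -/
theorem exists_u4_plus [Fintype F] [CharP F 2] :
    ∃ u ∈ Cfsg.isometryGroup F (Cfsg.quadFormPlus 2 F), orderOf u = 4 ∧
      gsum (u : Matrix (Fin 2 ⊕ Fin 2) (Fin 2 ⊕ Fin 2) F) 4 ≠ 0 := by
  have h2 : (2 : F) = 0 := CharTwo.two_eq_zero
  have e2 : ∀ v : Fin 2 ⊕ Fin 2 → F, ((fP : Module.End F (Fin 2 ⊕ Fin 2 → F)) ^ 2) v
      = fP (fP v) := by
    intro v
    simp [pow_succ, Module.End.mul_apply]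
  have e3 : ∀ v : Fin 2 ⊕ Fin 2 → F, ((fP : Module.End F (Fin 2 ⊕ Fin 2 → F)) ^ 3) v
      = fP (fP (fP v)) := by
    intro v
    simp [pow_succ, Module.End.mul_apply]
  have e4 : ∀ v : Fin 2 ⊕ Fin 2 → F, ((fP : Module.End F (Fin 2 ⊕ Fin 2 → F)) ^ 4) v
      = fP (fP (fP (fP v))) := by
    intro v
    simp [pow_succ, Module.End.mul_apply]
  have key := exists_of_end_mat (Cfsg.quadFormPlus 2 F) (fP : Module.End F _) ?_ 1 ?_ ?_
  · obtain ⟨u, hu, ho, hm⟩ := key
    refine ⟨u, hu, by simpa using ho, ?_⟩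
    rw [hm, gsum_toMatrix']
    intro h
    have h0 : (∑ i ∈ Finset.range 4, (fP : Module.End F (Fin 2 ⊕ Fin 2 → F)) ^ i) = 0 := by
      apply (LinearMap.toMatrix' (R := F)).injective
      rw [h, map_zero]
    have h3 := congrFun (LinearMap.congr_fun h0
      (fun s => if s = Sum.inr 0 then 1 else 0)) (Sum.inl 0)
    simp only [Finset.sum_range_succ, Finset.range_zero, Finset.sum_empty, zero_add, pow_zero,
      pow_one, LinearMap.add_apply, Module.End.one_apply, e2, e3, Pi.add_apply, fP_x0, fP_x1, fP_y0,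
      fP_y1, LinearMap.zero_apply, Pi.zero_apply] at h3
    simp at h3
    have h4 : (1 : F) = 0 := by linear_combination h3 - h2
    exact one_ne_zero h4
  · intro v
    unfold Cfsg.quadFormPlus
    rw [Fin.sum_univ_two, Fin.sum_univ_two, fP_x0, fP_x1, fP_y0, fP_y1]
    linear_combination (v (Sum.inr 0) * v (Sum.inr 1)) * h2
  · apply LinearMap.ext
    intro v
    have : (2 : ℕ) ^ (1 + 1) = 4 := by norm_num
    rw [this, e4, Module.End.one_apply]
    apply funext4
    · simp only [fP_x0, fP_x1, fP_y0, fP_y1]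
      linear_combination (v (Sum.inr 1) + v (Sum.inl 1) + 2 * v (Sum.inr 0)) * h2
    · simp only [fP_x0, fP_x1, fP_y0, fP_y1]
      linear_combination (v (Sum.inr 0)) * h2
    · simp only [fP_y0]
    · simp only [fP_x0, fP_x1, fP_y0, fP_y1]
      linear_combination (v (Sum.inr 0)) * h2
  · intro h
    have h3 := congrFun (LinearMap.congr_fun h
      (fun s => if s = Sum.inr 0 then 1 else 0)) (Sum.inl 0)
    have : (2 : ℕ) ^ 1 = 2 := by norm_num
    rw [this, e2, Module.End.one_apply] at h3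
    simp only [fP_x0, fP_x1, fP_y0, fP_y1] at h3
    simp at h3

end Cfsg.Agent.Lib.H12.S8V
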