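import Mathlib
import Cfsg.Prelude.Def_Characters
import Cfsg.Agent.Lib.L0.CharOps
import Cfsg.Agent.Lib.H24.CharKer

/-!
# S3017 (Shult), CASE A: the group-side dictionary for the pure endgame `enda`

`mult`  : multiplicities of linear characters of a subgroup in a restricted character;
`ker`   : a character of `G` that is constant on `H` with `⟨H^G⟩ = G` is trivial;
`invn`  : class-function invariance under conjugation;
`nt`    : non-transitivity of `N_G(H)` on `H#` in the form used by `enda`;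
`centr` : the conclusion of `enda` in group terms.
-/

namespace Cfsg.Agent.Lib.H12.SH

open scoped ComplexConjugate
open Cfsg Cfsg.Agent.Lib.L0

variable {G : Type*} [Group G]

/-- MULT: the multiplicity of a linear character `l` of `H` in `χ|_H` is a natural number. -/
theorem mult {χ : G → ℂ} (hχ : IsCharacter G χ) (H : Subgroup G) [Fintype H]
    (l : H →* ℂˣ) :
    ∃ m : ℕ, ∑ b : H, χ b * conj ((l b : ℂˣ) : ℂ) = (Fintype.card H : ℂ) * m := by
  obtain ⟨m, hm⟩ := classInner_char_irr_nat (isCharacter_restrict H hχ) (isIrrCharacter_of_hom l)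
  refine ⟨m, ?_⟩
  have hH : (Nat.card H : ℂ) ≠ 0 := by exact_mod_cast (Nat.card_pos (α := H)).ne'
  rw [classInner] at hm
  rw [← hm, ← Nat.card_eq_fintype_card, ← mul_assoc, mul_inv_cancel₀ hH, one_mul]

/-- KER: if `χ` is irreducible, constant on `H`, and the normal closure of `H` is `G`,
then `χ` is the trivial character. -/
theorem ker [Finite G] {χ : G → ℂ} (hχ : IsIrrCharacter G χ) (H : Subgroup G)
    (hncl : Subgroup.normalClosure (H : Set G) = ⊤) (hconst : ∀ a ∈ H, χ a = χ 1) :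
    χ = fun _ => 1 := by
  apply Cfsg.Agent.Lib.H24.irr_eq_trivial_of_charKer_eq_top hχ
  rw [eq_top_iff, ← hncl]
  apply Subgroup.normalClosure_le_normal
  intro a ha
  exact Cfsg.Agent.Lib.H24.mem_charKer.mpr (hconst a ha)

theorem ker_apply [Finite G] {χ : G → ℂ} (hχ : IsIrrCharacter G χ) (H : Subgroup G)
    (hncl : Subgroup.normalClosure (H : Set G) = ⊤) (hconst : ∀ a ∈ H, χ a = χ 1) (g : G) :
    χ g = 1 := by
  rw [ker hχ H hncl hconst]

/-- INVN: characters are invariant under conjugation. -/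
theorem invn {χ : G → ℂ} (hχ : IsCharacter G χ) (n a : G) : χ (n * a * n⁻¹) = χ a :=
  isClassFunction_of_isCharacter hχ a n

/-- `N_G(H)` is transitive on `H#` by conjugation. -/
def TransN (H : Subgroup G) : Prop :=
  ∀ a ∈ H, ∀ b ∈ H, a ≠ 1 → b ≠ 1 → ∃ n ∈ Subgroup.normalizer (H : Set G), n * b * n⁻¹ = a

/-- NT: non-transitivity in the form used by `enda`. -/
theorem nt {H : Subgroup G} (h : ¬ TransN H) :
    ∃ a ∈ H, ∃ b ∈ H, a ≠ 1 ∧ b ≠ 1 ∧
      ∀ n ∈ Subgroup.normalizer (H : Set G), a * (n * b * n⁻¹) ≠ 1 := by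
  unfold TransN at h
  push Not at h
  obtain ⟨a, ha, b, hb, ha1, hb1, hn⟩ := h
  refine ⟨a⁻¹, H.inv_mem ha, b, hb, inv_ne_one.mpr ha1, hb1, ?_⟩
  intro n hnN hcontra
  apply hn n hnN
  rw [inv_mul_eq_one] at hcontra
  exact hcontra.symm

/-- CENTR: if every element of `N_G(H)` centralizes `H`, then `N_G(H) ≤ C_G(H)`. -/
theorem centr {H : Subgroup G}
    (h : ∀ n ∈ Subgroup.normalizer (H : Set G), ∀ a ∈ H, n * a * n⁻¹ = a) :
    Subgroup.normalizer (H : Set G) ≤ Subgroup.centralizer (H : Set G) := by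
  intro n hn
  rw [Subgroup.mem_centralizer_iff]
  intro a ha
  have := h n hn a ha
  rw [mul_inv_eq_iff_eq_mul] at this
  exact this.symm

/-- In a 2-group `H ≠ ⊥` there is an involution. -/
theorem exists_involution {H : Subgroup G} [Finite H] (hH2 : IsPGroup 2 H) (hH : H ≠ ⊥) :
    ∃ a ∈ H, orderOf a = 2 := by
  have hcard : 2 ∣ Nat.card H := by
    obtain ⟨k, hk⟩ := (IsPGroup.iff_card).mp hH2
    have hk0 : k ≠ 0 := by
      rintro rfl
      apply hH
      rw [pow_zero] at hk
      exact Subgroup.card_eq_one.mp hk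
    rw [hk]
    exact dvd_pow_self 2 hk0
  obtain ⟨x, hx⟩ := exists_prime_orderOf_dvd_card' (G := H) 2 hcard
  exact ⟨x, x.2, by rwa [Subgroup.orderOf_coe] ⟩

end Cfsg.Agent.Lib.H12.SH
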