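import Mathlib
import Cfsg.Prelude.Def_GeometricClasses
import Cfsg.Agent.Lib.H13.SympBasis
import Cfsg.Agent.Lib.H4.Symp
import Cfsg.Agent.Lib.H2.SpOrder
import Cfsg.Agent.Lib.H12.CardSL

/-!
# Derangements of `PSL_n(q)` on the cosets of a subgroup of type `Sp_n(q)` (part A)
(helper12)

The index of the symplectic-type subgroup `H` of `SL_n(q)` divides `|SL_n(q)| / |Sp_n(q)|`, so an
odd prime `r` dividing the index is the characteristic or divides `q^(2j+1) - 1` for some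
`1 ≤ j ≤ n/2 - 1`.
-/

set_option autoImplicit false
set_option linter.unusedSectionVars false

namespace Cfsg.Agent.Lib.H12.BGSp

open Matrix Module

section form

variable {F : Type*} [Field F] {n : ℕ} {f : (Fin n → F) → (Fin n → F) → F}

/-- the bilinear form of a `Geo` bilinear form -/
noncomputable def toB (hb : Cfsg.Geo.IsBilinearForm f) : LinearMap.BilinForm F (Fin n → F) :=
  LinearMap.mk₂ F f hb.add_left hb.smul_left hb.add_right hb.smul_right

theorem toB_apply (hb : Cfsg.Geo.IsBilinearForm f) (u v : Fin n → F) : toB hb u v = f u v := rfl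

theorem toB_alt (hf : Cfsg.Geo.IsSymplecticForm f) (v : Fin n → F) : toB hf.bilinear v v = 0 :=
  hf.alternating v

theorem toB_nd (hf : Cfsg.Geo.IsSymplecticForm f) (v : Fin n → F)
    (h : ∀ w, toB hf.bilinear v w = 0) : v = 0 := by
  by_contra hne
  obtain ⟨-, ⟨x, hx⟩⟩ := hf.nondegenerate v hne
  exact hx (h x)

/-- the subgroup of type `Sp_n` of `SL_n` -/
noncomputable def HSp (f : (Fin n → F) → (Fin n → F) → F) :
    Subgroup (Matrix.SpecialLinearGroup (Fin n) F) :=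
  (Cfsg.Geo.similarityGroup f).comap
    (Matrix.SpecialLinearGroup.toGL : Matrix.SpecialLinearGroup (Fin n) F →* GL (Fin n) F)

theorem mem_HSp (x : Matrix.SpecialLinearGroup (Fin n) F) :
    x ∈ HSp f ↔ ∃ c : Fˣ, ∀ u v, f ((x : Matrix (Fin n) (Fin n) F) *ᵥ u)
      ((x : Matrix (Fin n) (Fin n) F) *ᵥ v) = (c : F) * f u v := by
  unfold HSp
  rw [Subgroup.mem_comap]
  rfl

end form

section embed

variable {F : Type*} [Field F] {n m : ℕ}

/-- transport of matrices along a linear equivalence -/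
noncomputable def psi (e : (Fin n → F) ≃ₗ[F] (Fin m ⊕ Fin m → F))
    (A : Matrix (Fin m ⊕ Fin m) (Fin m ⊕ Fin m) F) : Matrix (Fin n) (Fin n) F :=
  LinearMap.toMatrix' ((e.symm.toLinearMap ∘ₗ Matrix.toLin' A) ∘ₗ e.toLinearMap)

theorem psi_mulVec (e : (Fin n → F) ≃ₗ[F] (Fin m ⊕ Fin m → F))
    (A : Matrix (Fin m ⊕ Fin m) (Fin m ⊕ Fin m) F) (u : Fin n → F) :
    psi e A *ᵥ u = e.symm (A *ᵥ e u) := by
  unfold psi
  rw [← Matrix.toLin'_apply, Matrix.toLin'_toMatrix']
  simp [Matrix.toLin'_apply]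

theorem psi_one (e : (Fin n → F) ≃ₗ[F] (Fin m ⊕ Fin m → F)) : psi e 1 = 1 := by
  apply Matrix.toLin'.injective
  apply LinearMap.ext
  intro u
  rw [Matrix.toLin'_apply, psi_mulVec, Matrix.one_mulVec, e.symm_apply_apply, Matrix.toLin'_one]
  rfl

theorem psi_mul (e : (Fin n → F) ≃ₗ[F] (Fin m ⊕ Fin m → F))
    (A B : Matrix (Fin m ⊕ Fin m) (Fin m ⊕ Fin m) F) : psi e (A * B) = psi e A * psi e B := by
  apply Matrix.toLin'.injective
  apply LinearMap.ext
  intro u
  rw [Matrix.toLin'_apply, psi_mulVec, ← Matrix.mulVec_mulVec, Matrix.toLin'_apply,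
    ← Matrix.mulVec_mulVec, psi_mulVec, psi_mulVec, e.apply_symm_apply]

theorem psi_injective (e : (Fin n → F) ≃ₗ[F] (Fin m ⊕ Fin m → F)) :
    Function.Injective (psi e) := by
  intro A B h
  apply Matrix.toLin'.injective
  apply LinearMap.ext
  intro w
  have h1 := congrArg (fun M => M *ᵥ e.symm w) h
  simp only [psi_mulVec, e.apply_symm_apply] at h1
  rw [Matrix.toLin'_apply, Matrix.toLin'_apply]
  exact e.symm.injective h1

theorem psi_det (e : (Fin n → F) ≃ₗ[F] (Fin m ⊕ Fin m → F))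
    (A : Matrix (Fin m ⊕ Fin m) (Fin m ⊕ Fin m) F) : (psi e A).det = A.det := by
  unfold psi
  rw [LinearMap.det_toMatrix']
  have h := LinearMap.det_conj (Matrix.toLin' A) e.symm
  rw [LinearMap.det_toLin'] at h
  rw [← h]
  rfl

/-- the embedding of `Sp_{2m}(F)` into `SL_n(F)` attached to a symplectic coordinate system -/
noncomputable def phi (e : (Fin n → F) ≃ₗ[F] (Fin m ⊕ Fin m → F)) :
    ↥(Matrix.symplecticGroup (Fin m) F) →* Matrix.SpecialLinearGroup (Fin n) F where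
  toFun A := ⟨psi e (A : Matrix (Fin m ⊕ Fin m) (Fin m ⊕ Fin m) F), by
    rw [psi_det]; exact SymplecticGroup.det_eq_one A.2⟩
  map_one' := by
    apply Subtype.ext
    exact psi_one e
  map_mul' A B := by
    apply Subtype.ext
    exact psi_mul e _ _

theorem phi_coe (e : (Fin n → F) ≃ₗ[F] (Fin m ⊕ Fin m → F))
    (A : ↥(Matrix.symplecticGroup (Fin m) F)) :
    ((phi e A : Matrix.SpecialLinearGroup (Fin n) F) : Matrix (Fin n) (Fin n) F) =
      psi e (A : Matrix (Fin m ⊕ Fin m) (Fin m ⊕ Fin m) F) := rfl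

theorem phi_injective (e : (Fin n → F) ≃ₗ[F] (Fin m ⊕ Fin m → F)) :
    Function.Injective (phi e) := by
  intro A B h
  apply Subtype.ext
  apply psi_injective e
  have := congrArg (fun x : Matrix.SpecialLinearGroup (Fin n) F =>
    (x : Matrix (Fin n) (Fin n) F)) h
  exact this

end embed

section index

variable {F : Type*} [Field F] [Fintype F] {n : ℕ} {f : (Fin n → F) → (Fin n → F) → F}

/-- `|Sp_n(q)|` times the index of `H` divides `|SL_n(q)|` -/
theorem card_sp_mul_index_dvd (hf : Cfsg.Geo.IsSymplecticForm f) (m : ℕ) (hnm : n = 2 * m) :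
    Nat.card (Matrix.symplecticGroup (Fin m) F) * (HSp f).index ∣
      Nat.card (Matrix.SpecialLinearGroup (Fin n) F) := by
  classical
  obtain ⟨b, hb⟩ := Cfsg.Agent.Lib.H13.exists_symp_basis (toB hf.bilinear) (toB_alt hf) (toB_nd hf)
    (m := m) (by rw [Module.finrank_fintype_fun_eq_card, Fintype.card_fin, hnm])
  have hform := Cfsg.Agent.Lib.H13.sympForm_of_isSymp (toB hf.bilinear) (toB_alt hf) b hb
  set e : (Fin n → F) ≃ₗ[F] (Fin m ⊕ Fin m → F) :=
    (b.reindex (Equiv.sumComm (Fin m) (Fin m))).equivFun with he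
  have hle : (phi e).range ≤ HSp f := by
    rintro x ⟨A, rfl⟩
    rw [mem_HSp]
    refine ⟨1, fun u v => ?_⟩
    rw [Units.val_one, one_mul, phi_coe, psi_mulVec, psi_mulVec, ← toB_apply hf.bilinear,
      ← toB_apply hf.bilinear, hform, hform, e.apply_symm_apply, e.apply_symm_apply]
    exact (Cfsg.Agent.Lib.H4.mem_symplecticGroup_iff_sympForm (m := m)
      (A : Matrix (Fin m ⊕ Fin m) (Fin m ⊕ Fin m) F)).1 A.2 _ _
  have h1 : (HSp f).index ∣ (phi e).range.index := Subgroup.index_dvd_of_le hle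
  have h2 : Nat.card (phi e).range = Nat.card (Matrix.symplecticGroup (Fin m) F) :=
    (Nat.card_congr (MonoidHom.ofInjective (phi_injective e)).toEquiv).symm
  rw [← Subgroup.card_mul_index (phi e).range, h2]
  exact Nat.mul_dvd_mul_left _ h1

end index

section arith

open Finset

theorem gl_prod (q n : ℕ) :
    ∏ i ∈ range n, (q ^ n - q ^ i) = q ^ (∑ i ∈ range n, i) * ∏ k ∈ range n, (q ^ (k + 1) - 1) := by
  have h1 : ∀ i ∈ range n, q ^ n - q ^ i = q ^ i * (q ^ (n - 1 - i + 1) - 1) := by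
    intro i hi
    rw [mem_range] at hi
    have h2 : n - 1 - i + 1 = n - i := by omega
    rw [h2, Nat.mul_sub, mul_one, ← pow_add]
    congr 2
    omega
  rw [prod_congr rfl h1, prod_mul_distrib, prod_pow_eq_pow_sum]
  congr 1
  exact prod_range_reflect (fun k => q ^ (k + 1) - 1) n

theorem prod_split (q m : ℕ) :
    ∏ k ∈ range (2 * m), (q ^ (k + 1) - 1) =
      (∏ i ∈ range m, (q ^ (2 * (i + 1)) - 1)) * ∏ i ∈ range m, (q ^ (2 * i + 1) - 1) := by
  induction m with
  | zero => simp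
  | succ m ih =>
    have h : 2 * (m + 1) = 2 * m + 1 + 1 := by ring
    rw [h, prod_range_succ, prod_range_succ, ih, prod_range_succ, prod_range_succ]
    have h2 : 2 * m + 1 + 1 = 2 * (m + 1) := by ring
    rw [h2]
    ring

/-- the arithmetic of the index -/
theorem arith (q m r S : ℕ) (hq : 2 ≤ q) (hr : r.Prime) (hm : 1 ≤ m)
    (hS : (q - 1) * S = ∏ i ∈ range (2 * m), (q ^ (2 * m) - q ^ i))
    (h : q ^ (m ^ 2) * (∏ i ∈ range m, (q ^ (2 * (i + 1)) - 1)) * r ∣ S) :
    r ∣ q ∨ ∃ j, 1 ≤ j ∧ j ≤ m - 1 ∧ r ∣ q ^ (2 * j + 1) - 1 := by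
  obtain ⟨m', rfl⟩ : ∃ m', m = m' + 1 := ⟨m - 1, by omega⟩
  set E := ∏ i ∈ range (m' + 1), (q ^ (2 * (i + 1)) - 1) with hE
  set O := ∏ j ∈ range m', (q ^ (2 * (j + 1) + 1) - 1) with hO
  have hEpos : 0 < E := by
    apply prod_pos
    intro i _
    have : 2 ^ 1 ≤ q ^ (2 * (i + 1)) :=
      le_trans (Nat.pow_le_pow_left hq 1) (Nat.pow_le_pow_right (by omega) (by omega))
    omega
  have hsplit : ∏ i ∈ range (m' + 1), (q ^ (2 * i + 1) - 1) = (q - 1) * O := by
    rw [prod_range_succ', hO, mul_comm]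
    simp
  have h1 : (q - 1) * (q ^ ((m' + 1) ^ 2) * E * r) ∣ (q - 1) * S := Nat.mul_dvd_mul_left _ h
  rw [hS, gl_prod q _, prod_split, ← hE, hsplit] at h1
  have h2 : (q - 1) * E * (q ^ ((m' + 1) ^ 2) * r) ∣
      (q - 1) * E * (q ^ (∑ i ∈ range (2 * (m' + 1)), i) * O) := by
    have e1 : (q - 1) * E * (q ^ ((m' + 1) ^ 2) * r) = (q - 1) * (q ^ ((m' + 1) ^ 2) * E * r) := by
      ring
    have e2 : (q - 1) * E * (q ^ (∑ i ∈ range (2 * (m' + 1)), i) * O) =
        q ^ (∑ i ∈ range (2 * (m' + 1)), i) * (E * ((q - 1) * O)) := by ring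
    rw [e1, e2]
    exact h1
  have hpos : 0 < (q - 1) * E := Nat.mul_pos (by omega) hEpos
  have h3 := Nat.dvd_of_mul_dvd_mul_left hpos h2
  have h4 : r ∣ q ^ (∑ i ∈ range (2 * (m' + 1)), i) * O := dvd_trans (dvd_mul_left r _) h3
  rcases (Nat.Prime.dvd_mul hr).1 h4 with h5 | h5
  · left
    exact hr.dvd_of_dvd_pow h5
  · right
    rw [hO, Prime.dvd_finsetProd_iff hr.prime] at h5
    obtain ⟨j, hj, hj2⟩ := h5
    rw [mem_range] at hj
    exact ⟨j + 1, by omega, by omega, hj2⟩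

end arith

section main

variable {F : Type*} [Field F] [Fintype F] {n : ℕ} {f : (Fin n → F) → (Fin n → F) → F}

/-- a prime dividing the index of `H` is the characteristic or divides some `q^(2j+1) - 1` -/
theorem prime_dvd_index (hf : Cfsg.Geo.IsSymplecticForm f) (m : ℕ) (hm : 1 ≤ m) (hnm : n = 2 * m)
    (r : ℕ) (hr : r.Prime) (hdvd : r ∣ (HSp f).index) :
    r ∣ Fintype.card F ∨ ∃ j, 1 ≤ j ∧ j ≤ m - 1 ∧ r ∣ Fintype.card F ^ (2 * j + 1) - 1 := by
  have h1 := card_sp_mul_index_dvd hf m hnm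
  have h2 := Cfsg.Agent.Lib.H12.card_SL_mul (F := F) n (by omega)
  rw [Fin.prod_univ_eq_prod_range (fun i => Fintype.card F ^ n - Fintype.card F ^ i) n] at h2
  subst hnm
  refine arith (Fintype.card F) m r _ Fintype.one_lt_card hr hm h2 ?_
  rw [← Cfsg.Agent.Lib.H2.Sp.card_Sp]
  exact dvd_trans (Nat.mul_dvd_mul_left _ hdvd) h1

end main

end Cfsg.Agent.Lib.H12.BGSp
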