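import Mathlib
import Cfsg.Agent.Lib.H2.Deg60

set_option autoImplicit false

/-!
# S4150 piece E6 (helper12): an element of type `3^2` and a `5`-cycle in `S_6`

`closure {x, y}` is `A_6` or a (transitive) group of order `60` with more than one Sylow
`5`-subgroup, hence `≅ A_5` (helper2's `Deg60` / `Simple60`).  No case distinction is needed:
the closure `L` lies in `A_6`, its order is divisible by `3`, `5` and `4` (two commuting involutions
given by explicit words, checked by a kernel computation over the `40` elements of type `3^2`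
after conjugating `y` to a fixed `5`-cycle), so `|L| ∈ {60, 120, 180, 360}`; `A_6` is simple, so
it has no subgroup of index `2` or `3`.
-/

namespace Cfsg.Agent.Lib.H12.AG

open Equiv Equiv.Perm Subgroup

/-- two distinct commuting involutions give a subgroup of order `4` -/
theorem four_dvd_card_of_comm_invol {G : Type*} [Group G] [Finite G] (u v : G)
    (hu1 : u ≠ 1) (hv1 : v ≠ 1) (huv : u ≠ v) (hu : u * u = 1) (hv : v * v = 1)
    (hc : u * v = v * u) : 4 ∣ Nat.card G := by
  classical
  have hui : u⁻¹ = u := inv_eq_of_mul_eq_one_right hu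
  have hvi : v⁻¹ = v := inv_eq_of_mul_eq_one_right hv
  have huc : ∀ x, u * (u * x) = x := fun x => by rw [← mul_assoc, hu, one_mul]
  have hvc : ∀ x, v * (v * x) = x := fun x => by rw [← mul_assoc, hv, one_mul]
  have hvu : v * u = u * v := hc.symm
  have hvux : ∀ x, v * (u * x) = u * (v * x) := fun x => by rw [← mul_assoc, hvu, mul_assoc]
  let V : Subgroup G :=
    { carrier := {g | g = 1 ∨ g = u ∨ g = v ∨ g = u * v}
      one_mem' := Or.inl rfl
      mul_mem' := by
        rintro a b (rfl | rfl | rfl | rfl) (rfl | rfl | rfl | rfl) <;>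
          simp [mul_assoc, hu, hv, huc, hvu, hvux]
      inv_mem' := by
        rintro a (rfl | rfl | rfl | rfl)
        · exact Or.inl inv_one
        · exact Or.inr (Or.inl hui)
        · exact Or.inr (Or.inr (Or.inl hvi))
        · exact Or.inr (Or.inr (Or.inr (by rw [mul_inv_rev, hui, hvi, hvu]))) }
  have hV : (V : Set G) = {1, u, v, u * v} := by
    ext g
    simp only [Set.mem_insert_iff, Set.mem_singleton_iff]
    rfl
  have h1 : (1 : G) ∉ ({u, v, u * v} : Set G) := by
    simp only [Set.mem_insert_iff, Set.mem_singleton_iff, not_or]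
    refine ⟨fun h => hu1 h.symm, fun h => hv1 h.symm, fun h => huv ?_⟩
    have : u = v⁻¹ := eq_inv_of_mul_eq_one_left h.symm
    rw [this, hvi]
  have h2 : u ∉ ({v, u * v} : Set G) := by
    simp only [Set.mem_insert_iff, Set.mem_singleton_iff, not_or]
    refine ⟨huv, fun h => hv1 ?_⟩
    exact (left_eq_mul.mp h)
  have h3 : v ∉ ({u * v} : Set G) := by
    simp only [Set.mem_singleton_iff]
    intro h
    exact hu1 (right_eq_mul.mp h)
  have hcard : Nat.card V = 4 := by
    have : Nat.card V = (V : Set G).ncard := (Nat.card_coe_set_eq (V : Set G))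
    rw [this, hV, Set.ncard_insert_of_notMem h1, Set.ncard_insert_of_notMem h2,
      Set.ncard_insert_of_notMem h3, Set.ncard_singleton]
  rw [← hcard]
  exact Subgroup.card_subgroup_dvd_card V

/-- the fixed `5`-cycle `(0 1 2 3 4)` of `S_6` -/
def y0 : Perm (Fin 6) where
  toFun := ![1, 2, 3, 4, 0, 5]
  invFun := ![4, 0, 1, 2, 3, 5]
  left_inv := by decide
  right_inv := by decide

/-- `u`, `v` are distinct commuting involutions -/
abbrev IsK4 (u v : Perm (Fin 6)) : Prop :=
  u ≠ 1 ∧ v ≠ 1 ∧ u ≠ v ∧ u * u = 1 ∧ v * v = 1 ∧ u * v = v * u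

set_option synthInstance.maxSize 1024 in
set_option synthInstance.maxHeartbeats 400000 in
/-- the kernel computation: for every fixed-point-free `z` of order `3`, the conjugate
`z y0 z⁻¹` is not a power of `y0`, and one of four pairs of words is a pair of distinct commuting
involutions. -/
theorem key : ∀ z : Perm (Fin 6), z * z * z = 1 → (∀ i, z i ≠ i) →
    ((z * y0 * (z * z) ≠ 1 ∧ z * y0 * (z * z) ≠ y0 ∧ z * y0 * (z * z) ≠ y0 * y0 ∧
      z * y0 * (z * z) ≠ y0 * y0 * y0 ∧ z * y0 * (z * z) ≠ y0 * y0 * y0 * y0) ∧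
    (IsK4 (z * y0 * z * y0⁻¹) (z * z * y0 * (z * z) * y0⁻¹) ∨
     IsK4 (z * y0 * (z * z) * y0⁻¹) (z * z * y0 * z * y0⁻¹) ∨
     IsK4 (z * (y0 * y0) * z * (y0⁻¹ * y0⁻¹)) (z * z * (y0 * y0) * (z * z) * (y0⁻¹ * y0⁻¹)) ∨
     IsK4 (z * (y0 * y0) * (z * z) * (y0⁻¹ * y0⁻¹)) (z * z * (y0 * y0) * z * (y0⁻¹ * y0⁻¹)))) := by
  decide +kernel

theorem orderOf_y0 : orderOf y0 = 5 :=
  orderOf_eq_prime (by decide) (by decide)

theorem cycleType_y0 : y0.cycleType = {5} := by
  have hc : y0.IsCycle :=
    isCycle_of_prime_order' (by rw [orderOf_y0]; norm_num) (by rw [orderOf_y0]; simp)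
  rw [hc.cycleType, ← hc.orderOf, orderOf_y0]


theorem card_alt6 : Nat.card (alternatingGroup (Fin 6)) = 360 := by
  have h := two_mul_nat_card_alternatingGroup (α := Fin 6)
  rw [Nat.card_eq_fintype_card (α := Perm (Fin 6)), Fintype.card_perm, Fintype.card_fin] at h
  have : Nat.factorial 6 = 720 := by decide
  omega

/-- the normalised statement: `y = y0` -/
theorem core6 (z : Perm (Fin 6)) (hz : z.cycleType = {3, 3}) :
    ∃ d : ℕ, 5 ≤ d ∧ Nonempty (closure ({z, y0} : Set (Perm (Fin 6))) ≃*
      alternatingGroup (Fin d)) := by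
  classical
  set L := closure ({z, y0} : Set (Perm (Fin 6))) with hL
  have hzL : z ∈ L := subset_closure (by simp)
  have hyL : y0 ∈ L := subset_closure (by simp)
  have ho : orderOf z = 3 := by
    rw [← lcm_cycleType, hz]; decide
  have hz3 : z * z * z = 1 := by
    have h := pow_orderOf_eq_one z
    rw [ho] at h
    rw [← h]; simp [pow_succ]
  have hzinv : z * z = z⁻¹ := eq_inv_of_mul_eq_one_left hz3
  have hfpf : ∀ i, z i ≠ i := by
    have hs : z.support.card = 6 := by rw [← sum_cycleType, hz]; rfl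
    have hu : z.support = Finset.univ :=
      Finset.eq_univ_of_card _ (by rw [hs, Fintype.card_fin])
    intro i
    exact mem_support.mp (hu ▸ Finset.mem_univ i)
  obtain ⟨hne, hK⟩ := key z hz3 hfpf
  have hsz : sign z = 1 := by rw [sign_of_cycleType, hz]; decide
  have hsy : sign y0 = 1 := by rw [sign_of_cycleType, cycleType_y0]; decide
  have hLA : L ≤ alternatingGroup (Fin 6) := by
    rw [hL, closure_le]
    intro w hw
    rcases hw with rfl | hw
    · exact mem_alternatingGroup.mpr hsz
    · rw [Set.mem_singleton_iff] at hw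
      subst hw
      exact mem_alternatingGroup.mpr hsy
  by_cases hEq : L = alternatingGroup (Fin 6)
  · exact ⟨6, by norm_num, ⟨MulEquiv.subgroupCongr hEq⟩⟩
  refine ⟨5, le_rfl, ?_⟩
  -- divisibility of `|L|`
  have h3 : 3 ∣ Nat.card L := by
    have h := orderOf_dvd_natCard (⟨z, hzL⟩ : L)
    rwa [Subgroup.orderOf_mk, ho] at h
  have h5 : 5 ∣ Nat.card L := by
    have h := orderOf_dvd_natCard (⟨y0, hyL⟩ : L)
    rwa [Subgroup.orderOf_mk, orderOf_y0] at h
  have aux : ∀ u v : Perm (Fin 6), u ∈ L → v ∈ L → IsK4 u v → 4 ∣ Nat.card L := by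
    intro u v hu hv ⟨k1, k2, k3, k4, k5, k6⟩
    refine four_dvd_card_of_comm_invol (⟨u, hu⟩ : L) ⟨v, hv⟩ ?_ ?_ ?_ ?_ ?_ ?_
    · intro h; exact k1 (congrArg Subtype.val h)
    · intro h; exact k2 (congrArg Subtype.val h)
    · intro h; exact k3 (congrArg Subtype.val h)
    · exact Subtype.ext k4
    · exact Subtype.ext k5
    · exact Subtype.ext k6
  have h4 : 4 ∣ Nat.card L := by
    rcases hK with h | h | h | h
    · refine aux _ _ ?_ ?_ h <;>
        repeat' (first | exact hzL | exact hyL | apply mul_mem | apply inv_mem)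
    · refine aux _ _ ?_ ?_ h <;>
        repeat' (first | exact hzL | exact hyL | apply mul_mem | apply inv_mem)
    · refine aux _ _ ?_ ?_ h <;>
        repeat' (first | exact hzL | exact hyL | apply mul_mem | apply inv_mem)
    · refine aux _ _ ?_ ?_ h <;>
        repeat' (first | exact hzL | exact hyL | apply mul_mem | apply inv_mem)
  have h60 : 60 ∣ Nat.card L := by
    have h12 : 4 * 3 ∣ Nat.card L :=
      Nat.Coprime.mul_dvd_of_dvd_of_dvd (by norm_num) h4 h3
    have : 4 * 3 * 5 ∣ Nat.card L :=
      Nat.Coprime.mul_dvd_of_dvd_of_dvd (by norm_num) h12 h5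
    simpa using this
  -- `A_6` is simple, so `L` has index at least `6`
  have hsimple : IsSimpleGroup (alternatingGroup (Fin 6)) :=
    alternatingGroup.isSimpleGroup (by simp)
  have hL'top : L.subgroupOf (alternatingGroup (Fin 6)) ≠ ⊤ := fun h =>
    hEq (le_antisymm hLA (subgroupOf_eq_top.mp h))
  have hle := Cfsg.Agent.Lib.H2.card_le_factorial_index hL'top
  have hcardL' : Nat.card (L.subgroupOf (alternatingGroup (Fin 6))) = Nat.card L :=
    Nat.card_congr (subgroupOfEquivOfLe hLA).toEquiv
  have hidx := (L.subgroupOf (alternatingGroup (Fin 6))).card_mul_index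
  rw [hcardL', card_alt6] at hidx
  rw [card_alt6] at hle
  have hcardL : Nat.card L = 60 := by
    obtain ⟨k, hk⟩ := h60
    rw [hk] at hidx
    have hkpos : 0 < k := by
      rcases Nat.eq_zero_or_pos k with h | h
      · rw [h] at hidx; omega
      · exact h
    have hipos : 0 < (L.subgroupOf (alternatingGroup (Fin 6))).index := by
      rcases Nat.eq_zero_or_pos (L.subgroupOf (alternatingGroup (Fin 6))).index with h | h
      · rw [h] at hidx; omega
      · exact h
    have hk6 : k * (L.subgroupOf (alternatingGroup (Fin 6))).index = 6 := by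
      have : 60 * (k * (L.subgroupOf (alternatingGroup (Fin 6))).index) = 60 * 6 := by
        rw [← mul_assoc]; exact hidx
      exact Nat.eq_of_mul_eq_mul_left (by norm_num) this
    have hkle : k ≤ 6 := by
      calc k = k * 1 := (mul_one k).symm
        _ ≤ k * (L.subgroupOf (alternatingGroup (Fin 6))).index :=
            Nat.mul_le_mul_left k hipos
        _ = 6 := hk6
    interval_cases k
    · rw [hk]
    · have : (L.subgroupOf (alternatingGroup (Fin 6))).index = 3 := by omega
      rw [this] at hle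
      exact absurd hle (by decide)
    · have : (L.subgroupOf (alternatingGroup (Fin 6))).index = 2 := by omega
      rw [this] at hle
      exact absurd hle (by decide)
    · omega
    · omega
    · have : (L.subgroupOf (alternatingGroup (Fin 6))).index = 1 := by omega
      rw [this] at hle
      exact absurd hle (by decide)
  -- two Sylow `5`-subgroups, so `L` is not solvable
  have hns : ¬ Group.IsSolvable L := by
    intro hs
    have : Group.IsSolvable L := hs
    have h1 := Cfsg.Agent.Lib.H2.Deg60.card_sylow_five_of_solvable hcardL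
    have hbL : z * y0 * (z * z) ∈ L := mul_mem (mul_mem hzL hyL) (mul_mem hzL hzL)
    have hoa : orderOf (⟨y0, hyL⟩ : L) = 5 := by rw [Subgroup.orderOf_mk]; exact orderOf_y0
    have hob : orderOf (⟨z * y0 * (z * z), hbL⟩ : L) = 5 := by
      rw [Subgroup.orderOf_mk, hzinv, ← MulAut.conj_apply, MulEquiv.orderOf_eq]
      exact orderOf_y0
    have hfac : (Nat.card L).factorization 5 = 1 := by
      rw [hcardL]; exact Cfsg.Agent.Lib.H2.Deg60.factorization_60_5
    let Pa : Sylow 5 L := Sylow.ofCard (zpowers (⟨y0, hyL⟩ : L))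
      (by rw [Nat.card_zpowers, hoa, hfac, pow_one])
    let Pb : Sylow 5 L := Sylow.ofCard (zpowers (⟨z * y0 * (z * z), hbL⟩ : L))
      (by rw [Nat.card_zpowers, hob, hfac, pow_one])
    have hsub : Subsingleton (Sylow 5 L) := (Nat.card_eq_one_iff_unique.mp h1).1
    have hab : Pa = Pb := Subsingleton.elim _ _
    have hzp : zpowers (⟨y0, hyL⟩ : L) = zpowers (⟨z * y0 * (z * z), hbL⟩ : L) := by
      have := congrArg (fun P : Sylow 5 L => (P : Subgroup L)) hab
      simpa [Pa, Pb] using this
    have hmem : (⟨z * y0 * (z * z), hbL⟩ : L) ∈ zpowers (⟨y0, hyL⟩ : L) := by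
      rw [hzp]; exact mem_zpowers _
    rw [mem_zpowers_iff_mem_range_orderOf, hoa] at hmem
    obtain ⟨k, hk, hkb⟩ := Finset.mem_image.mp hmem
    have hkb' : y0 ^ k = z * y0 * (z * z) := by
      have := congrArg Subtype.val hkb
      simpa using this
    rw [Finset.mem_range] at hk
    obtain ⟨n1, n2, n3, n4, n5⟩ := hne
    interval_cases k
    · exact n1 (by rw [← hkb']; simp)
    · exact n2 (by rw [← hkb']; simp)
    · exact n3 (by rw [← hkb']; simp [pow_succ])
    · exact n4 (by rw [← hkb']; simp [pow_succ])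
    · exact n5 (by rw [← hkb']; simp [pow_succ])
  have hsim : IsSimpleGroup L := Cfsg.Agent.Lib.H2.Deg60.simple_of_card_60' L hcardL hns
  exact Cfsg.Agent.Lib.H2.simple60_iso_A5 hcardL

/-- (E6) the exotic case in degree 6: the closure is `A_6` or a transitive `PSL(2,5) ≅ A_5`. -/
theorem exotic6 (x y : Perm (Fin 6)) (hx : x.cycleType = {3, 3}) (hy : y.cycleType = {5}) :
    ∃ d : ℕ, 5 ≤ d ∧ Nonempty (closure ({x, y} : Set (Perm (Fin 6))) ≃*
      alternatingGroup (Fin d)) := by
  obtain ⟨g, hg⟩ := isConj_iff.mp (isConj_iff_cycleType_eq.mpr (hy.trans cycleType_y0.symm))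
  have hzc : (g * x * g⁻¹).cycleType = {3, 3} := by rw [cycleType_conj, hx]
  obtain ⟨d, hd, ⟨e2⟩⟩ := core6 (g * x * g⁻¹) hzc
  refine ⟨d, hd, ⟨MulEquiv.trans ?_ e2⟩⟩
  have hmap : (closure ({x, y} : Set (Perm (Fin 6)))).map (MulAut.conj g).toMonoidHom =
      closure ({g * x * g⁻¹, y0} : Set (Perm (Fin 6))) := by
    rw [MonoidHom.map_closure, Set.image_pair]
    simp only [MulEquiv.coe_toMonoidHom, MulAut.conj_apply, hg]
  exact ((MulAut.conj g).subgroupMap (closure ({x, y} : Set (Perm (Fin 6))))).trans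
    (MulEquiv.subgroupCongr hmap)

end Cfsg.Agent.Lib.H12.AG
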