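import Mathlib

set_option autoImplicit false

namespace Cfsg.Agent.Lib.H12.AbFac

variable {V : Type*} [CommGroup V] {p : ℕ} [hp : Fact p.Prime]

/-- exponents of an element of order dividing `p` only matter modulo `p` -/
theorem pow_val_add {G : Type*} [Monoid G] {z : G} (hz : z ^ p = 1) (a b : ZMod p) :
    z ^ (a + b).val = z ^ a.val * z ^ b.val := by
  rw [← pow_add, ZMod.val_add, ← pow_eq_pow_mod _ hz]

theorem pow_val_mul {G : Type*} [Monoid G] {z : G} (hz : z ^ p = 1) (a b : ZMod p) :
    z ^ (a * b).val = z ^ (a.val * b.val) := by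
  rw [ZMod.val_mul, ← pow_eq_pow_mod _ hz]

theorem pow_val_one {G : Type*} [Monoid G] (z : G) : z ^ (1 : ZMod p).val = z := by
  have : Fact (1 < p) := ⟨hp.out.one_lt⟩
  rw [ZMod.val_one, pow_one]

/-- The norm map of an automorphism `x` (meant for `x ^ p = 1`). -/
noncomputable def normMap (p : ℕ) [Fact p.Prime] (x : MulAut V) : V →* V where
  toFun v := ∏ k : ZMod p, (x ^ k.val) v
  map_one' := by simp
  map_mul' a b := by simp [Finset.prod_mul_distrib]

theorem normMap_apply (x : MulAut V) (v : V) : normMap p x v = ∏ k : ZMod p, (x ^ k.val) v := rfl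

theorem apply_normMap {x : MulAut V} (hx : x ^ p = 1) (v : V) : x (normMap p x v) = normMap p x v := by
  rw [normMap_apply, map_prod]
  have : ∀ k : ZMod p, x ((x ^ k.val) v) = (x ^ (k + 1).val) v := by
    intro k
    rw [pow_val_add hx, pow_val_one, ← MulAut.mul_apply, ← pow_succ']
    rfl
  rw [Finset.prod_congr rfl fun k _ => this k]
  exact Fintype.prod_equiv (Equiv.addRight (1 : ZMod p)) _ _ fun k => rfl

theorem normMap_of_fixed {x : MulAut V} {v : V} (h : x v = v) : normMap p x v = v ^ p := by
  rw [normMap_apply]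
  have : ∀ k : ZMod p, (x ^ k.val) v = v := by
    intro k
    induction k.val with
    | zero => simp
    | succ n ih => rw [pow_succ, MulAut.mul_apply, h, ih]
  rw [Finset.prod_congr rfl fun k _ => this k, Finset.prod_const, Finset.card_univ, ZMod.card]

theorem conj_normMap (g x : MulAut V) (v : V) :
    g (normMap p x v) = normMap p (g * x * g⁻¹) (g v) := by
  rw [normMap_apply, normMap_apply, map_prod]
  refine Finset.prod_congr rfl fun k _ => ?_
  rw [conj_pow]
  simp [MulAut.mul_apply]

theorem comm_normMap {g x : MulAut V} (h : g * x = x * g) (v : V) :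
    g (normMap p x v) = normMap p x (g v) := by
  rw [conj_normMap, h, mul_inv_cancel_right]

/-- the elements `y z^k` of the elementary abelian group `⟨z, y⟩` -/
def xk (z y : MulAut V) (k : ZMod p) : MulAut V := y * z ^ k.val

section zy
variable {z y : MulAut V} (hz : z ^ p = 1) (hy : y ^ p = 1) (hc : y * z = z * y)
include hz hy hc

omit hp hz hy in
theorem xk_pow (k : ZMod p) (i : ℕ) : (xk z y k) ^ i = y ^ i * z ^ (k.val * i) := by
  have : Commute y (z ^ k.val) := (show Commute y z from hc).pow_right _
  rw [xk, this.mul_pow, ← pow_mul]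

omit hp in
theorem xk_pow_p (k : ZMod p) : (xk z y k) ^ p = 1 := by
  rw [xk_pow hc, hy, one_mul, mul_comm, pow_mul, hz, one_pow]

omit hy hc in
theorem xk_eq (k l : ZMod p) : xk z y l = xk z y k * z ^ (l - k).val := by
  rw [xk, xk, mul_assoc, ← pow_val_add hz, add_sub_cancel]

omit hp hz hy in
theorem xk_comm_z (k : ZMod p) (i : ℕ) : xk z y k * z ^ i = z ^ i * xk z y k := by
  have h1 : Commute y (z ^ i) := (show Commute y z from hc).pow_right _
  have h2 : Commute (z ^ k.val) (z ^ i) := (Commute.refl z).pow_pow _ _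
  exact (h1.mul_left h2).eq

omit hy in
/-- If `t` is fixed by `y z^k` and `l ≠ k`, the norm map of `y z^l` at `t` is the norm map of `z`. -/
theorem normMap_xk_of_fixed {k l : ZMod p} (hkl : l ≠ k) {t : V} (ht : xk z y k t = t) :
    normMap p (xk z y l) t = normMap p z t := by
  rw [normMap_apply, normMap_apply]
  have h1 : ∀ i : ZMod p, ((xk z y l) ^ i.val) t = (z ^ ((l - k) * i).val) t := by
    intro i
    rw [xk_eq hz k l]
    have hcm : Commute (xk z y k) (z ^ (l - k).val) := xk_comm_z hc k _
    have : ((xk z y k) ^ i.val) t = t := by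
      induction i.val with
      | zero => simp
      | succ n ih => rw [pow_succ, MulAut.mul_apply, ht, ih]
    rw [hcm.mul_pow, (hcm.pow_pow i.val i.val).eq, MulAut.mul_apply, this, ← pow_mul,
      pow_val_mul hz]
  rw [Finset.prod_congr rfl fun i _ => h1 i]
  have hne : l - k ≠ 0 := sub_ne_zero.mpr hkl
  exact Fintype.prod_equiv (Equiv.mulLeft₀ (l - k) hne) _ _ fun i => rfl

omit hy in
/-- The key identity `v ^ p = ∏ₖ N_{y z^k}(v)` when the norm map of `z` is trivial. -/
theorem pow_eq_prod_normMap (hfpf : ∀ v : V, normMap p z v = 1) (v : V) :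
    v ^ p = ∏ k : ZMod p, normMap p (xk z y k) v := by
  simp only [normMap_apply]
  rw [Finset.prod_comm]
  rw [Fintype.prod_eq_single (0 : ZMod p)]
  · simp [ZMod.card]
  · intro i hi
    have h1 : ∀ k : ZMod p, ((xk z y k) ^ i.val) v = (y ^ i.val) ((z ^ (k * i).val) v) := by
      intro k
      rw [xk_pow hc, MulAut.mul_apply, pow_val_mul hz]
    rw [Finset.prod_congr rfl fun k _ => h1 k, ← map_prod]
    have h2 : ∏ k : ZMod p, (z ^ (k * i).val) v = normMap p z v := by
      rw [normMap_apply]
      exact Fintype.prod_equiv (Equiv.mulRight₀ i hi) _ _ fun k => rfl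
    rw [h2, hfpf, map_one]

end zy

end Cfsg.Agent.Lib.H12.AbFac
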