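import Mathlib
import Cfsg.Agent.Lib.H12.AbelianFactor
import Cfsg.Agent.S3380

set_option autoImplicit false

namespace Cfsg.Agent.Lib.H12.AbFac

universe uP u

variable {P : Type uP} [Group P]

/-- Restriction of an action to an invariant subgroup. -/
def restrictAut {V : Type*} [CommGroup V] (φ : P →* MulAut V) (W : Subgroup V)
    (hW : ∀ g : P, ∀ w ∈ W, φ g w ∈ W) : P →* MulAut ↥W where
  toFun g :=
    { toFun := fun w => ⟨φ g w, hW g w w.2⟩
      invFun := fun w => ⟨φ g⁻¹ w, hW g⁻¹ w w.2⟩
      left_inv := fun w => by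
        apply Subtype.ext
        show φ g⁻¹ (φ g w) = w
        rw [← MulAut.mul_apply, ← map_mul, inv_mul_cancel, map_one]; rfl
      right_inv := fun w => by
        apply Subtype.ext
        show φ g (φ g⁻¹ w) = w
        rw [← MulAut.mul_apply, ← map_mul, mul_inv_cancel, map_one]; rfl
      map_mul' := fun a b => by
        apply Subtype.ext
        show φ g (a * b : V) = φ g a * φ g b
        exact map_mul _ _ _ }
  map_one' := by
    apply MulEquiv.ext
    intro w
    apply Subtype.ext
    show φ 1 (w : V) = w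
    rw [map_one]; rfl
  map_mul' a b := by
    apply MulEquiv.ext
    intro w
    apply Subtype.ext
    show φ (a * b) (w : V) = φ a (φ b w)
    rw [map_mul]; rfl

theorem restrictAut_apply {V : Type*} [CommGroup V] (φ : P →* MulAut V) (W : Subgroup V)
    (hW : ∀ g : P, ∀ w ∈ W, φ g w ∈ W) (g : P) (w : W) :
    ((restrictAut φ W hW g w : W) : V) = φ g w := rfl

/-- The factorization hypothesis. -/
def Fac {V : Type*} [CommGroup V] (C D : Set P) (φ : P →* MulAut V) : Prop :=
  ∀ c ∈ C, ∀ d ∈ D, ∀ v : V, ∃ a b : V, φ c a = a ∧ φ d b = b ∧ v = a * b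

/-- The statement proved by induction on `n = |V|`. -/
def Goal.{v, w} {P : Type v} [Group P] (p : ℕ) (C D : Set P) (n : ℕ) : Prop :=
  ∀ (V : Type w) [CommGroup V] [Finite V] (φ : P →* MulAut V), Nat.card V = n →
    (Nat.card V).Coprime p → Fac C D φ → ∀ g v, φ g v = v

/-- The induction hypothesis applied to the range of an equivariant endomorphism. -/
theorem ih_range {p : ℕ} {C D : Set P} {n : ℕ} (ih : ∀ m < n, Goal.{uP, u} p C D m)
    {V : Type u} [CommGroup V] [Finite V] (φ : P →* MulAut V) (_hn : Nat.card V = n)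
    (hcop : (Nat.card V).Coprime p) (hfac : Fac C D φ)
    (e : V →* V) (he : ∀ g v, e (φ g v) = φ g (e v)) (hlt : Nat.card e.range < n) :
    ∀ g v, φ g (e v) = e v := by
  have hW : ∀ g : P, ∀ w ∈ e.range, φ g w ∈ e.range := by
    rintro g w ⟨v, rfl⟩
    exact ⟨φ g v, he g v⟩
  have hcop' : (Nat.card e.range).Coprime p :=
    Nat.Coprime.coprime_dvd_left (Subgroup.card_subgroup_dvd_card _) hcop
  have hfac' : Fac C D (restrictAut φ e.range hW) := by
    intro c hc d hd w
    obtain ⟨v, hv⟩ := w.2
    obtain ⟨a, b, ha, hb, hab⟩ := hfac c hc d hd v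
    refine ⟨⟨e a, a, rfl⟩, ⟨e b, b, rfl⟩, ?_, ?_, ?_⟩
    · apply Subtype.ext
      show φ c (e a) = e a
      rw [← he, ha]
    · apply Subtype.ext
      show φ d (e b) = e b
      rw [← he, hb]
    · apply Subtype.ext
      show (w : V) = e a * e b
      rw [← hv, hab, map_mul]
  intro g v
  have := ih _ hlt ↥e.range (restrictAut φ e.range hW) rfl hcop' hfac' g ⟨e v, v, rfl⟩
  exact congrArg Subtype.val this


theorem card_range_lt_of_not_surjective {V : Type*} [Group V] [Finite V] (e : V →* V)
    (h : ¬ Function.Surjective e) : Nat.card e.range < Nat.card V := by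
  have hle : Nat.card e.range ≤ Nat.card V := Subgroup.card_le_card_group _
  rcases lt_or_eq_of_le hle with h1 | h1
  · exact h1
  · exfalso
    apply h
    have := Subgroup.eq_top_of_card_eq _ h1
    exact MonoidHom.range_eq_top.mp this

theorem eq_of_pow_eq {V : Type*} [CommGroup V] [Finite V] {p : ℕ} (hcop : (Nat.card V).Coprime p)
    {a b : V} (h : a ^ p = b ^ p) : a = b :=
  (powCoprime hcop).injective h

/-- Step `z`: a central element of order `p` either lets the induction finish or acts
fixed-point-freely. -/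
theorem step_z {p : ℕ} [hp : Fact p.Prime] {C D : Set P} {n : ℕ} (ih : ∀ m < n, Goal.{uP, u} p C D m)
    {V : Type u} [CommGroup V] [Finite V] (φ : P →* MulAut V) (hn : Nat.card V = n)
    (hcop : (Nat.card V).Coprime p) (hfac : Fac C D φ)
    (z : MulAut V) (hzp : z ^ p = 1) (hz1 : z ≠ 1) (hzc : ∀ g : P, φ g * z = z * φ g) :
    (∀ g v, φ g v = v) ∨ (∀ v, z v = v → v = 1) := by
  by_cases hfix : ∃ v, v ≠ 1 ∧ z v = v
  · left
    obtain ⟨v1, hv1, hzv1⟩ := hfix
    obtain ⟨v0, hv0⟩ : ∃ v0, z v0 ≠ v0 := by
      by_contra hcon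
      push Not at hcon
      exact hz1 (MulEquiv.ext hcon)
    set T : V →* V := normMap p z with hT
    set S : V →* V := powMonoidHom p / T with hS
    have hTe : ∀ g v, T (φ g v) = φ g (T v) := fun g v => (comm_normMap (hzc g) v).symm
    have hSe : ∀ g v, S (φ g v) = φ g (S v) := by
      intro g v
      rw [hS, MonoidHom.div_apply, MonoidHom.div_apply, hTe, powMonoidHom_apply,
        powMonoidHom_apply, map_div, map_pow]
    have hTlt : Nat.card T.range < n := by
      rw [← hn]
      apply card_range_lt_of_not_surjective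
      intro hsurj
      obtain ⟨u, hu⟩ := hsurj v0
      apply hv0
      rw [← hu]
      exact apply_normMap hzp u
    have hSlt : Nat.card S.range < n := by
      rw [← hn]
      apply card_range_lt_of_not_surjective
      intro hsurj
      have hinj : Function.Injective S := Finite.injective_iff_surjective.mpr hsurj
      apply hv1
      apply hinj
      rw [map_one, hS, MonoidHom.div_apply, powMonoidHom_apply, hT, normMap_of_fixed hzv1, div_self']
    have h1 := ih_range ih φ hn hcop hfac T hTe hTlt
    have h2 := ih_range ih φ hn hcop hfac S hSe hSlt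
    intro g v
    apply eq_of_pow_eq hcop
    have hv : v ^ p = S v * T v := by
      rw [hS, MonoidHom.div_apply, powMonoidHom_apply, div_mul_cancel]
    rw [← map_pow, hv, map_mul, h1, h2]
  · right
    intro v hv
    by_contra hne
    exact hfix ⟨v, hne, hv⟩

end Cfsg.Agent.Lib.H12.AbFac
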