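import Mathlib
import Cfsg.Agent.Lib.H12.AbelianFactor2

set_option autoImplicit false

namespace Cfsg.Agent.Lib.H12.AbFac

universe uP u

variable {P : Type uP} [Group P]

/-- fixed points of an automorphism -/
def fixedSub {V : Type*} [CommGroup V] (a : MulAut V) : Subgroup V where
  carrier := {v | a v = v}
  one_mem' := map_one a
  mul_mem' := fun {x y} hx hy => by
    show a (x * y) = x * y
    rw [map_mul, show a x = x from hx, show a y = y from hy]
  inv_mem' := fun {x} hx => by
    show a x⁻¹ = x⁻¹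
    rw [map_inv, show a x = x from hx]

theorem mem_fixedSub {V : Type*} [CommGroup V] (a : MulAut V) (v : V) : v ∈ fixedSub a ↔ a v = v :=
  Iff.rfl

section
variable {V : Type u} [CommGroup V] [Finite V] {p : ℕ} [hp : Fact p.Prime]
  {z y : MulAut V}

/-- the norm maps `U k` of the elements `y z^k` -/
noncomputable abbrev Uk (p : ℕ) [Fact p.Prime] (z y : MulAut V) (k : ZMod p) : V →* V :=
  normMap p (xk z y k)

omit [Finite V] in
theorem shift_Uk {g : MulAut V} {k κ : ZMod p} (hg : g * xk z y k * g⁻¹ = xk z y (k + κ)) (v : V) :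
    g (Uk p z y k v) = Uk p z y (k + κ) (g v) := by
  rw [Uk, conj_normMap, hg]

omit [Finite V] in
theorem Uk_eq_one_of_fixed
    {g : MulAut V} {κ : ZMod p} (hκ : κ ≠ 0)
    (hg : ∀ k, g * xk z y k * g⁻¹ = xk z y (k + κ)) {v : V} (hv : g v = v)
    (h0 : Uk p z y 0 v = 1) (k : ZMod p) : Uk p z y k v = 1 := by
  have h1 : ∀ j : ℕ, Uk p z y ((j : ZMod p) * κ) v = 1 := by
    intro j
    induction j with
    | zero => simpa using h0
    | succ j ih =>
      have := shift_Uk (hg ((j : ZMod p) * κ)) v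
      rw [ih, map_one, hv] at this
      rw [Nat.cast_succ, add_mul, one_mul]
      exact this.symm
  have h2 := h1 (k / κ).val
  rwa [ZMod.natCast_zmod_val, div_mul_cancel₀ _ hκ] at h2

theorem card_fixedSub_le (hcop : (Nat.card V).Coprime p)
    (hzp : z ^ p = 1) (hyz : y * z = z * y) (hN : ∀ v : V, normMap p z v = 1)
    {g : MulAut V} {κ : ZMod p} (hκ : κ ≠ 0)
    (hg : ∀ k, g * xk z y k * g⁻¹ = xk z y (k + κ)) :
    Nat.card (fixedSub g) ≤ Nat.card (Uk p z y 0).range := by
  let f : fixedSub g →* (Uk p z y 0).range := ((Uk p z y 0).rangeRestrict).comp (fixedSub g).subtype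
  apply Nat.card_le_card_of_injective f
  rw [injective_iff_map_eq_one]
  intro a ha
  have ha' : Uk p z y 0 (a : V) = 1 := congrArg Subtype.val ha
  have hall := Uk_eq_one_of_fixed hκ hg a.2 ha'
  apply Subtype.ext
  apply eq_of_pow_eq hcop
  rw [pow_eq_prod_normMap hzp hyz hN, Subgroup.coe_one, one_pow]
  exact Finset.prod_eq_one fun k _ => hall k


theorem card_range_Uk_le {g : MulAut V} {k κ : ZMod p}
    (hg : g * xk z y k * g⁻¹ = xk z y (k + κ)) :
    Nat.card (Uk p z y k).range ≤ Nat.card (Uk p z y (k + κ)).range := by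
  have hmem : ∀ u ∈ (Uk p z y k).range, g u ∈ (Uk p z y (k + κ)).range := by
    rintro u ⟨v, rfl⟩
    exact ⟨g v, (shift_Uk hg v).symm⟩
  apply Nat.card_le_card_of_injective (fun u : (Uk p z y k).range =>
    (⟨g u, hmem u u.2⟩ : (Uk p z y (k + κ)).range))
  intro a b hab
  apply Subtype.ext
  exact g.injective (congrArg Subtype.val hab)

theorem card_range_Uk_eq {g : MulAut V} {κ : ZMod p} (hκ : κ ≠ 0)
    (hg : ∀ k, g * xk z y k * g⁻¹ = xk z y (k + κ)) (k : ZMod p) :
    Nat.card (Uk p z y k).range = Nat.card (Uk p z y 0).range := by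
  have h1 : ∀ (k0 : ZMod p) (j : ℕ),
      Nat.card (Uk p z y k0).range ≤ Nat.card (Uk p z y (k0 + (j : ZMod p) * κ)).range := by
    intro k0 j
    induction j with
    | zero => simp
    | succ j ih =>
      refine ih.trans ?_
      have := card_range_Uk_le (hg (k0 + (j : ZMod p) * κ))
      rwa [add_assoc, ← add_one_mul, ← Nat.cast_succ] at this
  apply le_antisymm
  · have := h1 k ((0 - k) / κ).val
    rwa [ZMod.natCast_zmod_val, div_mul_cancel₀ _ hκ, add_sub_cancel] at this
  · have := h1 0 (k / κ).val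
    rwa [ZMod.natCast_zmod_val, div_mul_cancel₀ _ hκ, zero_add] at this

/-- the product map on the ranges of the `U k` -/
noncomputable def prodMap (p : ℕ) [Fact p.Prime] (z y : MulAut V) :
    (∀ k : ZMod p, ↥(Uk p z y k).range) →* V where
  toFun f := ∏ k, (f k : V)
  map_one' := by simp
  map_mul' a b := by simp [Finset.prod_mul_distrib]

theorem prodMap_injective (hcop : (Nat.card V).Coprime p)
    (hzp : z ^ p = 1) (hyp : y ^ p = 1) (hyz : y * z = z * y) (hN : ∀ v : V, normMap p z v = 1) :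
    Function.Injective (prodMap p z y) := by
  rw [injective_iff_map_eq_one]
  intro f hf
  funext l
  apply Subtype.ext
  apply eq_of_pow_eq hcop
  rw [Pi.one_apply, Subgroup.coe_one, one_pow]
  have hfix : ∀ k : ZMod p, xk z y k (f k : V) = f k := by
    intro k
    obtain ⟨v, hv⟩ := (f k).2
    rw [← hv]
    exact apply_normMap (xk_pow_p hzp hyp hyz k) v
  have h1 : Uk p z y l (∏ k, (f k : V)) = 1 := by
    have : ∏ k, (f k : V) = 1 := hf
    rw [this, map_one]
  rw [map_prod, Fintype.prod_eq_single l] at h1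
  · rw [← h1]
    exact (normMap_of_fixed (hfix l)).symm
  · intro k hk
    rw [Uk, normMap_xk_of_fixed hzp hyz hk.symm (hfix k), hN]

theorem pow_card_range_le (hcop : (Nat.card V).Coprime p)
    (hzp : z ^ p = 1) (hyp : y ^ p = 1) (hyz : y * z = z * y) (hN : ∀ v : V, normMap p z v = 1)
    {g : MulAut V} {κ : ZMod p} (hκ : κ ≠ 0)
    (hg : ∀ k, g * xk z y k * g⁻¹ = xk z y (k + κ)) :
    (Nat.card (Uk p z y 0).range) ^ p ≤ Nat.card V := by
  have h := Nat.card_le_card_of_injective _ (prodMap_injective hcop hzp hyp hyz hN)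
  rw [Nat.card_pi, Finset.prod_congr rfl fun k _ => card_range_Uk_eq hκ hg k, Finset.prod_const,
    Finset.card_univ, ZMod.card] at h
  exact h


omit [Finite V] in
theorem conj_xk (hzp : z ^ p = 1) {g : MulAut V} (hgz : g * z = z * g) {κ : ZMod p}
    (hgy : g * y * g⁻¹ = y * z ^ κ.val) (k : ZMod p) :
    g * xk z y k * g⁻¹ = xk z y (k + κ) := by
  have hgzk : g * z ^ k.val * g⁻¹ = z ^ k.val := by
    have : Commute g (z ^ k.val) := (show Commute g z from hgz).pow_right _
    rw [this.eq, mul_inv_cancel_right]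
  have : g * xk z y k * g⁻¹ = (g * y * g⁻¹) * (g * z ^ k.val * g⁻¹) := by
    rw [xk]; group
  rw [this, hgy, hgzk, xk, mul_assoc, ← pow_val_add hzp, add_comm]

end

/-- Step `y`. -/
theorem step_y {p : ℕ} [hp : Fact p.Prime] (hp3 : 3 ≤ p) {C D : Set P}
    (hC : Subgroup.closure C = ⊤) (hD : Subgroup.closure D = ⊤)
    {n : ℕ} (ih : ∀ m < n, Goal.{uP, u} p C D m)
    {V : Type u} [CommGroup V] [Finite V] (φ : P →* MulAut V) (hn : Nat.card V = n)
    (hcop : (Nat.card V).Coprime p) (hfac : Fac C D φ)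
    (z y : MulAut V) (hzp : z ^ p = 1) (hyp : y ^ p = 1) (hyz : y * z = z * y)
    (hzc : ∀ g : P, φ g * z = z * φ g) (hfpf : ∀ v, z v = v → v = 1)
    (hne : ∀ k : ZMod p, xk z y k ≠ 1)
    (hconj : ∀ g : P, ∃ κ : ZMod p, φ g * y * (φ g)⁻¹ = y * z ^ κ.val) :
    ∀ g v, φ g v = v := by
  have hN : ∀ v : V, normMap p z v = 1 := fun v => hfpf _ (apply_normMap hzp v)
  by_cases hcent : ∀ g : P, φ g * y = y * φ g
  · -- `y` is central: all `U k` are equivariant
    have hcomm : ∀ (g : P) (k : ZMod p), φ g * xk z y k = xk z y k * φ g := by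
      intro g k
      have h1 : Commute (φ g) (z ^ k.val) := (show Commute (φ g) z from hzc g).pow_right _
      exact ((show Commute (φ g) y from hcent g).mul_right h1).eq
    have hUe : ∀ (k : ZMod p) g v, Uk p z y k (φ g v) = φ g (Uk p z y k v) :=
      fun k g v => (comm_normMap (hcomm g k) v).symm
    have hUlt : ∀ k : ZMod p, Nat.card (Uk p z y k).range < n := by
      intro k
      rw [← hn]
      apply card_range_lt_of_not_surjective
      intro hsurj
      apply hne k
      apply MulEquiv.ext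
      intro v
      obtain ⟨u, hu⟩ := hsurj v
      rw [← hu]
      exact apply_normMap (xk_pow_p hzp hyp hyz k) u
    intro g v
    apply eq_of_pow_eq hcop
    rw [← map_pow, pow_eq_prod_normMap hzp hyz hN, map_prod]
    exact Finset.prod_congr rfl fun k _ => ih_range ih φ hn hcop hfac _ (hUe k) (hUlt k) g v
  · -- `y` is not central
    have key : ∀ S : Set P, Subgroup.closure S = ⊤ → ∃ s ∈ S, ¬ (φ s * y = y * φ s) := by
      intro S hS
      by_contra hcon
      push Not at hcon
      apply hcent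
      intro g
      have hle : Subgroup.closure S ≤ (Subgroup.centralizer {y}).comap φ := by
        rw [Subgroup.closure_le]
        intro s hs
        show φ s ∈ Subgroup.centralizer {y}
        rw [Subgroup.mem_centralizer_singleton_iff]
        exact hcon s hs
      have hg : g ∈ (Subgroup.centralizer {y}).comap φ := hle (by rw [hS]; trivial)
      have : φ g ∈ Subgroup.centralizer {y} := hg
      rw [Subgroup.mem_centralizer_singleton_iff] at this
      exact this
    obtain ⟨c, hcC, hcy⟩ := key C hC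
    obtain ⟨d, hdD, hdy⟩ := key D hD
    have hκ : ∀ s : P, ¬ (φ s * y = y * φ s) → ∃ κ : ZMod p, κ ≠ 0 ∧
        ∀ k, φ s * xk z y k * (φ s)⁻¹ = xk z y (k + κ) := by
      intro s hs
      obtain ⟨κ, hκ⟩ := hconj s
      refine ⟨κ, ?_, conj_xk hzp (hzc s) hκ⟩
      rintro rfl
      apply hs
      rw [ZMod.val_zero, pow_zero, mul_one] at hκ
      exact mul_inv_eq_iff_eq_mul.mp hκ
    obtain ⟨κc, hκc, hgc⟩ := hκ c hcy
    obtain ⟨κd, hκd, hgd⟩ := hκ d hdy
    set w := Nat.card (Uk p z y 0).range with hw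
    have h1 : Nat.card (fixedSub (φ c)) ≤ w := card_fixedSub_le hcop hzp hyz hN hκc hgc
    have h2 : Nat.card (fixedSub (φ d)) ≤ w := card_fixedSub_le hcop hzp hyz hN hκd hgd
    have h3 : w ^ p ≤ Nat.card V := pow_card_range_le hcop hzp hyp hyz hN hκc hgc
    have h4 : Nat.card V ≤ Nat.card (fixedSub (φ c)) * Nat.card (fixedSub (φ d)) := by
      rw [← Nat.card_prod]
      apply Nat.card_le_card_of_surjective
        (fun ab : fixedSub (φ c) × fixedSub (φ d) => (ab.1 : V) * (ab.2 : V))
      intro v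
      obtain ⟨a, b, ha, hb, hab⟩ := hfac c hcC d hdD v
      exact ⟨(⟨a, ha⟩, ⟨b, hb⟩), hab.symm⟩
    have hw1 : w ≤ 1 := by
      by_contra hcon
      push Not at hcon
      have h5 : w ^ 3 ≤ w ^ p := Nat.pow_le_pow_right (by omega) hp3
      have h6 : w ^ 3 ≤ w * w := by
        calc w ^ 3 ≤ w ^ p := h5
          _ ≤ Nat.card V := h3
          _ ≤ _ := h4
          _ ≤ w * w := Nat.mul_le_mul h1 h2
      have h7 : w * w * 2 ≤ w ^ 3 := by
        rw [pow_succ, pow_two]
        exact Nat.mul_le_mul_left _ hcon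
      have h8 : 0 < w * w := by positivity
      omega
    have hV : Nat.card V ≤ 1 := by
      calc Nat.card V ≤ _ := h4
        _ ≤ w * w := Nat.mul_le_mul h1 h2
        _ ≤ 1 * 1 := Nat.mul_le_mul hw1 hw1
    have : Subsingleton V := Finite.card_le_one_iff_subsingleton.mp hV
    intro g v
    exact Subsingleton.elim _ _

end Cfsg.Agent.Lib.H12.AbFac
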