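import Mathlib
import Cfsg.Agent.Lib.H12.AbelianFactor3
import Cfsg.Agent.S3380

set_option autoImplicit false

namespace Cfsg.Agent.Lib.H12.AbFac

universe uP u

/-- In a nontrivial finite cyclic `p`-group every generating set contains a generator. -/
theorem exists_generator_of_closure {G : Type*} [Group G] [Finite G] {p : ℕ} [hp : Fact p.Prime]
    (hG : IsPGroup p G) [hc : IsCyclic G] [Nontrivial G] (S : Set G)
    (hS : Subgroup.closure S = ⊤) : ∃ s ∈ S, Subgroup.zpowers s = ⊤ := by
  obtain ⟨q0, hq0⟩ := hc.exists_generator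
  obtain ⟨k, hk⟩ := IsPGroup.iff_card.mp hG
  have hord : orderOf q0 = p ^ k := by
    rw [orderOf_eq_card_of_forall_mem_zpowers hq0, hk]
  have hk0 : k ≠ 0 := by
    rintro rfl
    rw [pow_zero] at hk
    have := (Nat.card_eq_one_iff_unique.mp hk).1
    exact not_subsingleton G this
  by_contra hcon
  push Not at hcon
  have hsub : ∀ s ∈ S, s ∈ Subgroup.zpowers (q0 ^ p) := by
    intro s hs
    obtain ⟨i, hi⟩ := (Subgroup.mem_zpowers_iff).mp (hq0 s)
    by_cases hpi : (p : ℤ) ∣ i
    · obtain ⟨j, rfl⟩ := hpi
      rw [Subgroup.mem_zpowers_iff]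
      refine ⟨j, ?_⟩
      rw [← hi, zpow_mul, zpow_natCast]
    · exfalso
      apply hcon s hs
      have hcop : IsCoprime i ((orderOf q0 : ℕ) : ℤ) := by
        rw [hord]
        push_cast
        apply IsCoprime.pow_right
        exact ((Nat.prime_iff_prime_int.mp hp.out).coprime_iff_not_dvd.mpr hpi).symm
      obtain ⟨a, b, hab⟩ := hcop
      rw [eq_top_iff]
      intro x _
      have hq0s : q0 ∈ Subgroup.zpowers s := by
        rw [Subgroup.mem_zpowers_iff]
        refine ⟨a, ?_⟩
        have hone : q0 ^ (b * (orderOf q0 : ℤ)) = 1 := by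
          rw [mul_comm, zpow_mul, zpow_natCast, pow_orderOf_eq_one, one_zpow]
        have h1 : q0 ^ (a * i + b * (orderOf q0 : ℤ)) = q0 := by rw [hab, zpow_one]
        rw [zpow_add, hone, mul_one, mul_comm a i, zpow_mul, hi] at h1
        exact h1
      obtain ⟨m, hm⟩ := (Subgroup.mem_zpowers_iff).mp (hq0 x)
      rw [← hm]
      exact Subgroup.zpow_mem _ hq0s m
  have hle : Subgroup.closure S ≤ Subgroup.zpowers (q0 ^ p) := (Subgroup.closure_le _).mpr hsub
  rw [hS] at hle
  have hcard : Nat.card (Subgroup.zpowers (q0 ^ p)) = Nat.card G := by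
    have := top_le_iff.mp hle
    rw [this, Subgroup.card_top]
  rw [Nat.card_zpowers, hk] at hcard
  have hdvd : p ∣ orderOf q0 := by
    rw [hord]; exact dvd_pow_self p hk0
  have h2 := orderOf_pow_of_dvd hp.out.ne_zero hdvd
  rw [h2, hord] at hcard
  have hpos : 0 < p ^ k := pow_pos hp.out.pos k
  have hlt : p ^ k / p < p ^ k := Nat.div_lt_self hpos hp.out.one_lt
  omega

theorem zpow_apply_of_fixed {V : Type*} [CommGroup V] {a : MulAut V} {v : V} (h : a v = v) (m : ℤ) :
    (a ^ m) v = v := by
  have hn : ∀ n : ℕ, (a ^ n) v = v := by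
    intro n
    induction n with
    | zero => simp
    | succ n ih => rw [pow_succ, MulAut.mul_apply, h, ih]
  have hinv : a⁻¹ v = v := by
    rw [MulAut.inv_apply, MulEquiv.symm_apply_eq, h]
  have hn' : ∀ n : ℕ, (a⁻¹ ^ n) v = v := by
    intro n
    induction n with
    | zero => simp
    | succ n ih => rw [pow_succ, MulAut.mul_apply, hinv, ih]
  cases m with
  | ofNat n => simpa using hn n
  | negSucc n => rw [zpow_negSucc, ← inv_pow]; exact hn' (n + 1)

theorem abelian_main {P : Type uP} [Group P] [Finite P] (p : ℕ) [hp : Fact p.Prime] (hp3 : 3 ≤ p)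
    (hP : IsPGroup p P) (C D : Set P) (hC : Subgroup.closure C = ⊤)
    (hD : Subgroup.closure D = ⊤) (n : ℕ) : Goal.{uP, u} p C D n := by
  induction n using Nat.strong_induction_on with
  | _ n ih =>
  intro V _ _ φ hn hcop hfac
  have hQfin : Finite φ.range := Finite.of_surjective φ.rangeRestrict φ.rangeRestrict_surjective
  have hQp : IsPGroup p φ.range := hP.of_surjective φ.rangeRestrict φ.rangeRestrict_surjective
  by_cases htriv : ∀ g : P, φ g = 1
  · intro g v; rw [htriv g]; rfl
  push Not at htriv
  obtain ⟨g1, hg1⟩ := htriv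
  have hnt : Nontrivial φ.range :=
    ⟨⟨⟨φ g1, g1, rfl⟩, 1, fun h => hg1 (congrArg Subtype.val h)⟩⟩
  have hclos : ∀ S : Set P, Subgroup.closure S = ⊤ →
      Subgroup.closure (φ.rangeRestrict '' S) = ⊤ := by
    intro S hS
    rw [← MonoidHom.map_closure, hS]
    exact Subgroup.map_top_of_surjective _ φ.rangeRestrict_surjective
  by_cases hcyc : IsCyclic φ.range
  · obtain ⟨_, ⟨c, hcC, rfl⟩, hc⟩ := exists_generator_of_closure hQp _ (hclos C hC)
    obtain ⟨_, ⟨d, hdD, rfl⟩, hd⟩ := exists_generator_of_closure hQp _ (hclos D hD)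
    intro g v
    obtain ⟨a, b, ha, hb, rfl⟩ := hfac c hcC d hdD v
    have hgc : φ.rangeRestrict g ∈ Subgroup.zpowers (φ.rangeRestrict c) := by rw [hc]; trivial
    have hgd : φ.rangeRestrict g ∈ Subgroup.zpowers (φ.rangeRestrict d) := by rw [hd]; trivial
    obtain ⟨m, hm⟩ := Subgroup.mem_zpowers_iff.mp hgc
    obtain ⟨m', hm'⟩ := Subgroup.mem_zpowers_iff.mp hgd
    have e1 : φ g = (φ c) ^ m := by
      have := congrArg Subtype.val hm
      simpa using this.symm
    have e2 : φ g = (φ d) ^ m' := by
      have := congrArg Subtype.val hm'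
      simpa using this.symm
    rw [map_mul]
    congr 1
    · rw [e1]; exact zpow_apply_of_fixed ha m
    · rw [e2]; exact zpow_apply_of_fixed hb m'
  · have hodd : ¬ 2 ∣ Nat.card φ.range := by
      obtain ⟨k, hk⟩ := IsPGroup.iff_card.mp hQp
      rw [hk]
      intro h2
      have := (Nat.Prime.dvd_of_dvd_pow Nat.prime_two h2)
      have := (Nat.prime_dvd_prime_iff_eq Nat.prime_two hp.out).mp this
      omega
    obtain ⟨z', y', hz'c, hz'o, hy'p, hy'n, hcomm⟩ :=
      Cfsg.Agent.S3380.exists_zy p hQp hcyc
        (fun m ⟨e⟩ => by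
          apply hodd
          rw [Nat.card_congr e.toEquiv]
          rcases Nat.eq_zero_or_pos m with rfl | hm
          · exfalso
            have : Finite (QuaternionGroup 0) := Finite.of_equiv _ e.toEquiv
            have : Infinite (QuaternionGroup 0) :=
              Infinite.of_injective (fun i : ℤ => (QuaternionGroup.a i : QuaternionGroup 0))
                (fun _ _ h => QuaternionGroup.a.inj h)
            exact not_finite (QuaternionGroup 0)
          · have : NeZero m := ⟨hm.ne'⟩
            rw [Nat.card_eq_fintype_card, QuaternionGroup.card]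
            exact ⟨2 * m, by ring⟩)
        (fun m ⟨e⟩ => by
          apply hodd
          rw [Nat.card_congr e.toEquiv]
          rcases Nat.eq_zero_or_pos m with rfl | hm
          · exfalso
            have : Finite (DihedralGroup 0) := Finite.of_equiv _ e.toEquiv
            exact not_finite (DihedralGroup 0)
          · have : NeZero m := ⟨hm.ne'⟩
            rw [DihedralGroup.nat_card]
            exact ⟨m, rfl⟩)
        (fun ⟨m, _, hm, _⟩ => by
          apply hodd
          rw [hm, pow_succ]
          exact ⟨2 ^ m, by ring⟩)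
    set z : MulAut V := (z' : MulAut V) with hz
    set y : MulAut V := (y' : MulAut V) with hy
    have hzp : z ^ p = 1 := by
      have : z' ^ p = 1 := by rw [← hz'o]; exact pow_orderOf_eq_one z'
      have := congrArg Subtype.val this
      simpa using this
    have hz1 : z ≠ 1 := by
      intro h
      have : z' = 1 := Subtype.ext h
      rw [this, orderOf_one] at hz'o
      exact hp.out.one_lt.ne hz'o
    have hyp : y ^ p = 1 := by
      have := congrArg Subtype.val hy'p
      simpa using this
    have hcen := Subgroup.mem_center_iff.mp hz'c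
    have hzc : ∀ g : P, φ g * z = z * φ g := by
      intro g
      have := congrArg Subtype.val (hcen ⟨φ g, g, rfl⟩)
      simpa using this
    have hyz : y * z = z * y := by
      have := congrArg Subtype.val (hcen y')
      simpa using this
    rcases step_z ih φ hn hcop hfac z hzp hz1 hzc with hdone | hfpf
    · exact hdone
    have hne : ∀ k : ZMod p, xk z y k ≠ 1 := by
      intro k hk
      apply hy'n
      have h1 : y' = (z' ^ k.val)⁻¹ := by
        apply Subtype.ext
        have : y * z ^ k.val = 1 := hk
        rw [mul_eq_one_iff_eq_inv] at this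
        simpa using this
      rw [h1]
      exact Subgroup.inv_mem _ (Subgroup.pow_mem _ (Subgroup.mem_zpowers z') _)
    have hconj : ∀ g : P, ∃ κ : ZMod p, φ g * y * (φ g)⁻¹ = y * z ^ κ.val := by
      intro g
      obtain ⟨m, hm⟩ := Subgroup.mem_zpowers_iff.mp (hcomm ⟨φ g, g, rfl⟩)
      refine ⟨(m : ZMod p), ?_⟩
      have h1 : z ^ m = φ g * y * (φ g)⁻¹ * y⁻¹ := by
        have := congrArg Subtype.val hm
        simpa using this
      have h2 : z ^ m = z ^ ((m : ZMod p).val) := by
        have hzp' : z ^ (p : ℤ) = 1 := by rw [zpow_natCast]; exact hzp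
        rw [zpow_eq_zpow_emod m hzp', ← ZMod.val_intCast, zpow_natCast]
      have h3 : Commute y (z ^ ((m : ZMod p).val)) := (show Commute y z from hyz).pow_right _
      rw [h3.eq, ← h2, h1, inv_mul_cancel_right]
    exact step_y hp3 hC hD ih φ hn hcop hfac z y hzp hyp hyz hzc hfpf hne hconj

end Cfsg.Agent.Lib.H12.AbFac
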