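import Mathlib
import Cfsg.Agent.Lib.H24.CharOrth
import Cfsg.Agent.Lib.H24.CharLinearMul

set_option autoImplicit false

/-!
# Functions with integral multiplicities on a finite abelian group

If `h : A → ℂ` has integral inner products with all irreducible characters of the finite abelian
group `A`, `⟨h, h⟩ = h 1 = n`, then `h` is a sum of `n` distinct linear characters (`n = 1, 2`).
-/

namespace Cfsg.Agent.Lib.H12

open Cfsg Cfsg.Agent.Lib.L0 Cfsg.Agent.Lib.H24
open scoped ComplexConjugate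

/-! ### Integer combinatorics -/

theorem int_sq_sub_self_nonneg (d : ℤ) : 0 ≤ d ^ 2 - d := by
  rcases le_or_gt d 0 with h | h
  · nlinarith
  · nlinarith

theorem int_zero_or_one_of_sum {ι : Type*} [Fintype ι] (d : ι → ℤ) (n : ℤ)
    (h1 : ∑ i, d i = n) (h2 : ∑ i, d i ^ 2 = n) : ∀ i, d i = 0 ∨ d i = 1 := by
  have h3 : ∑ i, (d i ^ 2 - d i) = 0 := by
    rw [Finset.sum_sub_distrib, h1, h2, sub_self]
  have h4 := (Finset.sum_eq_zero_iff_of_nonneg (fun i _ => int_sq_sub_self_nonneg (d i))).mp h3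
  intro i
  have h5 := h4 i (Finset.mem_univ i)
  have h6 : d i * (d i - 1) = 0 := by linear_combination h5
  rcases mul_eq_zero.mp h6 with h | h
  · left; exact h
  · right; linarith

theorem card_filter_eq_of_sum {ι : Type*} [Fintype ι] [DecidableEq ι] (d : ι → ℤ) (n : ℕ)
    (h1 : ∑ i, d i = n) (h2 : ∑ i, d i ^ 2 = n) :
    (Finset.univ.filter fun i => d i = 1).card = n := by
  have h01 := int_zero_or_one_of_sum d n h1 h2
  have h3 : ∑ i, d i = ∑ i, (if d i = 1 then (1 : ℤ) else 0) := by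
    refine Finset.sum_congr rfl (fun i _ => ?_)
    rcases h01 i with h | h
    · rw [h]; simp
    · rw [h]; simp
  rw [h3, Finset.sum_boole] at h1
  exact_mod_cast h1

/-! ### Expansion and Parseval -/

section Parseval

variable {A : Type*} [Group A] [Fintype A]

theorem apply_eq_sum_irr [Fintype (IrrCharacter A)] (h : A → ℂ) (hcf : IsClassFunction A h) (a : A) :
    h a = ∑ ψ : IrrCharacter A, classInner h (ψ : A → ℂ) * (ψ : A → ℂ) a := by
  have := congrFun (classFunction_expansion h hcf) a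
  rw [Finset.sum_apply] at this
  simpa [Pi.smul_apply, smul_eq_mul] using this

theorem classInner_self_eq_sum [Fintype (IrrCharacter A)] (h : A → ℂ) (hcf : IsClassFunction A h) :
    classInner h h = ∑ ψ : IrrCharacter A, classInner h (ψ : A → ℂ) * conj (classInner h (ψ : A → ℂ)) := by
  nth_rewrite 1 [classFunction_expansion h hcf]
  rw [classInner_sum_left]
  refine Finset.sum_congr rfl (fun ψ _ => ?_)
  rw [classInner_smul_left, classInner_conj_symm]

end Parseval

/-! ### Abelian groups -/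

section Abelian

variable {A : Type*} [Group A] [Fintype A]

/-- the multiplicities of `h` are integers -/
def IntCoeff (h : A → ℂ) : Prop := ∀ ψ : IrrCharacter A, ∃ d : ℤ, classInner h (ψ : A → ℂ) = d

omit [Fintype A] in
theorem isClassFunction_of_comm (hcomm : ∀ a b : A, a * b = b * a) (h : A → ℂ) : IsClassFunction A h := by
  intro g x
  rw [hcomm x g, mul_inv_cancel_right]

/-- the homomorphism attached to an irreducible character of an abelian group -/
noncomputable def irrHom (hcomm : ∀ a b : A, a * b = b * a) (ψ : IrrCharacter A) : A →* ℂˣ :=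
  linearCharHom (isCharacter_of_irr ψ.2) (Cfsg.Agent.Lib.H24.irr_apply_one_of_comm hcomm ψ)

theorem irrHom_apply (hcomm : ∀ a b : A, a * b = b * a) (ψ : IrrCharacter A) (a : A) :
    (irrHom hcomm ψ a : ℂ) = (ψ : A → ℂ) a := rfl

theorem irrHom_injective (hcomm : ∀ a b : A, a * b = b * a) : Function.Injective (irrHom hcomm) := by
  intro ψ ψ' h
  apply Subtype.ext
  funext a
  rw [← irrHom_apply hcomm ψ, ← irrHom_apply hcomm ψ', h]

theorem exists_sum_homs (hcomm : ∀ a b : A, a * b = b * a) (h : A → ℂ) (hint : IntCoeff h) (n : ℕ)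
    (hnorm : classInner h h = n) (h1 : h 1 = n) :
    ∃ T : Finset (A →* ℂˣ), T.card = n ∧ ∀ a, h a = ∑ θ ∈ T, (θ a : ℂ) := by
  classical
  have : Fintype (IrrCharacter A) := Fintype.ofFinite _
  have hcf := isClassFunction_of_comm hcomm h
  choose d hd using hint
  have hsum1 : ∑ ψ : IrrCharacter A, d ψ = n := by
    have h2 := apply_eq_sum_irr h hcf 1
    rw [h1] at h2
    have h3 : (n : ℂ) = ((∑ ψ : IrrCharacter A, d ψ : ℤ) : ℂ) := by
      rw [h2]
      push_cast
      refine Finset.sum_congr rfl (fun ψ _ => ?_)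
      rw [hd ψ, Cfsg.Agent.Lib.H24.irr_apply_one_of_comm hcomm ψ, mul_one]
    exact_mod_cast h3.symm
  have hsum2 : ∑ ψ : IrrCharacter A, d ψ ^ 2 = n := by
    have h2 := classInner_self_eq_sum h hcf
    rw [hnorm] at h2
    have h3 : (n : ℂ) = ((∑ ψ : IrrCharacter A, d ψ ^ 2 : ℤ) : ℂ) := by
      rw [h2]
      push_cast
      refine Finset.sum_congr rfl (fun ψ _ => ?_)
      rw [hd ψ, map_intCast]
      ring
    exact_mod_cast h3.symm
  have h01 := int_zero_or_one_of_sum d n hsum1 hsum2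
  have hcard := card_filter_eq_of_sum d n hsum1 hsum2
  refine ⟨(Finset.univ.filter fun ψ => d ψ = 1).image (irrHom hcomm), ?_, ?_⟩
  · rw [Finset.card_image_of_injective _ (irrHom_injective hcomm), hcard]
  · intro a
    rw [Finset.sum_image (fun x _ y _ hxy => irrHom_injective hcomm hxy), apply_eq_sum_irr h hcf a,
      Finset.sum_filter]
    refine Finset.sum_congr rfl (fun ψ _ => ?_)
    rw [hd ψ, irrHom_apply]
    rcases h01 ψ with h0 | h0
    · rw [h0]; simp
    · rw [h0]; simp

theorem gc_one (hcomm : ∀ a b : A, a * b = b * a) (h : A → ℂ) (hint : IntCoeff h)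
    (hnorm : classInner h h = 1) (h1 : h 1 = 1) :
    ∃ θ : A →* ℂˣ, ∀ a, h a = (θ a : ℂ) := by
  obtain ⟨T, hT, hh⟩ := exists_sum_homs hcomm h hint 1 (by simpa using hnorm) (by simpa using h1)
  obtain ⟨θ, rfl⟩ := Finset.card_eq_one.mp hT
  exact ⟨θ, fun a => by rw [hh a, Finset.sum_singleton]⟩

theorem gc_two (hcomm : ∀ a b : A, a * b = b * a) (h : A → ℂ) (hint : IntCoeff h)
    (hnorm : classInner h h = 2) (h1 : h 1 = 2) :
    ∃ θ₁ θ₂ : A →* ℂˣ, θ₁ ≠ θ₂ ∧ ∀ a, h a = (θ₁ a : ℂ) + (θ₂ a : ℂ) := by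
  obtain ⟨T, hT, hh⟩ := exists_sum_homs hcomm h hint 2 (by simpa using hnorm) (by simpa using h1)
  obtain ⟨θ₁, θ₂, hne, rfl⟩ := Finset.card_eq_two.mp hT
  exact ⟨θ₁, θ₂, hne, fun a => by rw [hh a, Finset.sum_pair hne]⟩


/-! ### Homomorphisms to `ℂˣ` as functions -/

/-- the function of a homomorphism -/
def homFun (θ : A →* ℂˣ) : A → ℂ := fun a => (θ a : ℂ)

omit [Fintype A] in
theorem homFun_apply (θ : A →* ℂˣ) (a : A) : homFun θ a = (θ a : ℂ) := rfl

theorem classInner_homFun (θ θ' : A →* ℂˣ) :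
    classInner (homFun θ) (homFun θ') = if θ = θ' then 1 else 0 := by
  have h := irr_orthonormal (homIrr θ) (homIrr θ')
  have h1 : ((homIrr θ : IrrCharacter A) : A → ℂ) = homFun θ := rfl
  have h2 : ((homIrr θ' : IrrCharacter A) : A → ℂ) = homFun θ' := rfl
  rw [h1, h2] at h
  rw [h]
  by_cases hθ : θ = θ'
  · rw [if_pos hθ, if_pos (by rw [hθ])]
  · rw [if_neg hθ, if_neg (fun hh => hθ (homIrr_injective hh))]

omit [Fintype A] in
theorem homFun_inv (θ : A →* ℂˣ) (a : A) : homFun θ⁻¹ a = homFun θ a⁻¹ := by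
  simp [homFun]

theorem homFun_inv_conj (θ : A →* ℂˣ) (a : A) : homFun θ⁻¹ a = conj (homFun θ a) := by
  have h := hom_mul_conj θ a
  simp only [homFun, MonoidHom.inv_apply, Units.val_inv_eq_inv_val]
  have hne : (θ a : ℂ) ≠ 0 := Units.ne_zero _
  field_simp
  linear_combination (-1 : ℂ) * h

omit [Fintype A] in
theorem homFun_one (a : A) : homFun (1 : A →* ℂˣ) a = 1 := by
  simp [homFun]

/-- a sum of two distinct homomorphisms that is invariant under inversion -/
theorem real_of_gc_two (θ₁ θ₂ : A →* ℂˣ) (hne : θ₁ ≠ θ₂)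
    (hinv : ∀ a, homFun θ₁ a⁻¹ + homFun θ₂ a⁻¹ = homFun θ₁ a + homFun θ₂ a) :
    θ₂ = θ₁⁻¹ ∨ (θ₁⁻¹ = θ₁ ∧ θ₂⁻¹ = θ₂) := by
  have hfun : homFun θ₁⁻¹ + homFun θ₂⁻¹ = homFun θ₁ + homFun θ₂ := by
    funext a
    simp only [Pi.add_apply, homFun_inv]
    exact hinv a
  have hne' : θ₂⁻¹ ≠ θ₁⁻¹ := fun h => hne (inv_injective h).symm
  by_cases h21 : θ₂ = θ₁⁻¹
  · left; exact h21
  · right
    have key : ∀ φ : A →* ℂˣ, classInner (homFun θ₁⁻¹ + homFun θ₂⁻¹) (homFun φ) =
        classInner (homFun θ₁ + homFun θ₂) (homFun φ) := fun φ => by rw [hfun]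
    have k1 := key θ₁⁻¹
    rw [classInner_add_left, classInner_add_left, classInner_homFun, classInner_homFun,
      classInner_homFun, classInner_homFun, if_pos rfl, if_neg hne', if_neg h21] at k1
    have h11 : θ₁ = θ₁⁻¹ := by
      by_contra hc
      rw [if_neg hc] at k1
      norm_num at k1
    have k2 := key θ₂⁻¹
    rw [classInner_add_left, classInner_add_left, classInner_homFun, classInner_homFun,
      classInner_homFun, classInner_homFun, if_pos rfl, if_neg hne'.symm] at k2
    have h12 : θ₁ ≠ θ₂⁻¹ := by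
      intro hc
      apply h21
      ext x
      rw [hc]
      simp
    rw [if_neg h12] at k2
    have h22 : θ₂ = θ₂⁻¹ := by
      by_contra hc
      rw [if_neg hc] at k2
      norm_num at k2
    exact ⟨h11.symm, h22.symm⟩

omit [Fintype A] in
/-- a homomorphism equal to its inverse takes values `±1` -/
theorem hom_real_apply (θ : A →* ℂˣ) (hθ : θ⁻¹ = θ) (a : A) : θ a = 1 ∨ θ a = -1 := by
  have h1 : (θ a)⁻¹ = θ a := by
    have := congrArg (fun φ : A →* ℂˣ => φ a) hθ
    simpa using this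
  have h2 : (θ a) * (θ a) = 1 := by
    nth_rewrite 1 [← h1]
    exact inv_mul_cancel _
  have h3 : ((θ a : ℂ) - 1) * ((θ a : ℂ) + 1) = 0 := by
    have := congrArg Units.val h2
    rw [Units.val_mul, Units.val_one] at this
    linear_combination this
  rcases mul_eq_zero.mp h3 with h | h
  · left; apply Units.ext; rw [Units.val_one]; linear_combination h
  · right; apply Units.ext; rw [Units.val_neg, Units.val_one]; linear_combination h

omit [Fintype A] in
theorem hom_eq_of_generator {g : A} (hg : ∀ x : A, x ∈ Subgroup.zpowers g) (θ θ' : A →* ℂˣ)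
    (h : θ g = θ' g) : θ = θ' := by
  ext x
  obtain ⟨k, rfl⟩ := Subgroup.mem_zpowers_iff.mp (hg x)
  rw [map_zpow, map_zpow, h]

omit [Fintype A] in
/-- on a cyclic group there is at most one nontrivial homomorphism equal to its inverse -/
theorem hom_real_unique [IsCyclic A] (θ θ' : A →* ℂˣ) (hθ : θ⁻¹ = θ) (hθ' : θ'⁻¹ = θ')
    (h1 : θ ≠ 1) (h1' : θ' ≠ 1) : θ = θ' := by
  obtain ⟨g, hg⟩ := IsCyclic.exists_generator (α := A)
  apply hom_eq_of_generator hg
  have key : ∀ φ : A →* ℂˣ, φ⁻¹ = φ → φ ≠ 1 → φ g = -1 := by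
    intro φ hφ hφ1
    rcases hom_real_apply φ hφ g with h | h
    · exfalso
      apply hφ1
      apply hom_eq_of_generator hg
      rw [h, MonoidHom.one_apply]
    · exact h
  rw [key θ hθ h1, key θ' hθ' h1']

/-- the nontrivial real homomorphism of a cyclic group of order `2m` is trivial exactly on the
`m`-torsion -/
theorem hom_real_eq_one_iff [IsCyclic A] (m : ℕ) (hm : Nat.card A = 2 * m) (θ : A →* ℂˣ)
    (hθ : θ⁻¹ = θ) (h1 : θ ≠ 1) (a : A) : θ a = 1 ↔ a ^ m = 1 := by
  obtain ⟨g, hg⟩ := IsCyclic.exists_generator (α := A)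
  have hθg : θ g = -1 := by
    rcases hom_real_apply θ hθ g with h | h
    · exfalso
      apply h1
      apply hom_eq_of_generator hg
      rw [h, MonoidHom.one_apply]
    · exact h
  have hord : orderOf g = 2 * m := by
    rw [← hm]
    exact orderOf_eq_card_of_forall_mem_zpowers hg
  have hmpos : 0 < m := by
    have : 0 < Nat.card A := Nat.card_pos
    omega
  obtain ⟨k, hk⟩ : ∃ k : ℕ, g ^ k = a := by
    have := hg a
    rw [Subgroup.mem_zpowers_iff] at this
    obtain ⟨z, hz⟩ := this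
    refine ⟨(z % (orderOf g : ℤ)).toNat, ?_⟩
    rw [← zpow_natCast, Int.toNat_of_nonneg (Int.emod_nonneg _ (by rw [hord]; positivity)),
      zpow_mod_orderOf, hz]
  have hne : (-1 : ℂˣ) ≠ 1 := by
    intro h
    have := congrArg Units.val h
    rw [Units.val_neg, Units.val_one] at this
    norm_num at this
  rw [← hk, map_pow, hθg, ← pow_mul, neg_one_pow_eq_one_iff_even hne, ← orderOf_dvd_iff_pow_eq_one, hord]
  constructor
  · rintro ⟨j, rfl⟩
    exact ⟨j, by ring⟩
  · rintro ⟨j, hj⟩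
    have : k = 2 * j := by
      have h3 : k * m = (2 * j) * m := by rw [hj]; ring
      exact Nat.eq_of_mul_eq_mul_right hmpos h3
    exact ⟨j, by rw [this]; ring⟩

end Abelian

end Cfsg.Agent.Lib.H12
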