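import Mathlib
import Cfsg.Prelude.Def_Blocks

/-!
S4484 small piece (R1): a `p`-th root of unity is `≡ 1 (mod M)` for a `p`-modular ideal `M`.
-/

set_option autoImplicit false

namespace Cfsg.Agent.Lib.H12.BB

open Cfsg

/-- (R1) a `p`-th root of unity is `≡ 1 (mod M)`. -/
theorem root_sub_one_mem {p : ℕ} {M : Ideal AlgInt} (hM : IsPModular p M) (u : ℂ)
    (hu : u ^ p = 1) : MemLocalIdeal M (u - 1) := by
  obtain ⟨hp, hmax, hpM⟩ := hM
  have hprime : M.IsPrime := hmax.isPrime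
  have hint : IsIntegral ℤ u := by
    refine ⟨Polynomial.X ^ p - 1, Polynomial.monic_X_pow_sub_C (1 : ℤ) hp.ne_zero, ?_⟩
    simp [hu]
  set U : AlgInt := ⟨u, hint⟩ with hU
  have hUp : U ^ p = 1 := by
    apply Subtype.ext
    simp [hU, hu]
  set v : AlgInt := U - 1 with hv
  obtain ⟨r, hr⟩ := exists_add_pow_prime_eq hp v 1
  have hv1 : v + 1 = U := by rw [hv]; ring
  rw [hv1, hUp, one_pow] at hr
  have hvp : v ^ p = -((p : AlgInt) * v * 1 * r) := by
    have : v ^ p + (p : AlgInt) * v * 1 * r = 0 := by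
      have h2 : (1 : AlgInt) = v ^ p + 1 + (p : AlgInt) * v * 1 * r := hr
      have h3 : v ^ p + 1 + (p : AlgInt) * v * 1 * r = 1 + (v ^ p + (p : AlgInt) * v * 1 * r) := by ring
      rw [h3] at h2
      exact (add_eq_left.mp h2.symm)
    exact eq_neg_of_add_eq_zero_left this
  have hmem : v ^ p ∈ M := by
    rw [hvp]
    apply M.neg_mem
    have : (p : AlgInt) * v * 1 * r = (p : AlgInt) * (v * 1 * r) := by ring
    rw [this]
    exact M.mul_mem_right _ hpM
  have hvM : v ∈ M := hprime.mem_of_pow_mem p hmem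
  refine ⟨v, 1, hvM, ?_, ?_⟩
  · intro h1
    exact hprime.ne_top ((Ideal.eq_top_iff_one M).mpr h1)
  · simp [hv, hU]

end Cfsg.Agent.Lib.H12.BB
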