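import Mathlib

set_option autoImplicit false
set_option linter.unusedSectionVars false

/-!
# Commuting elements of prime orders `r`, `s` in `GL(V)`: dimension constraints
-/

open Module

namespace Cfsg.Agent.Lib.H12.PGraph

variable {F : Type*} [Field F] {V : Type*} [AddCommGroup V] [Module F V]

theorem pow_apply_of_fixed (T : V →ₗ[F] V) (v : V) (h : T v = v) (i : ℕ) : (T ^ i) v = v := by
  induction i with
  | zero => simp
  | succ i ih => rw [pow_succ, Module.End.mul_apply, h, ih]

/-- a fixed vector in the range of `T - 1` vanishes when `T ^ r = 1` and `r` is invertible -/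
theorem eq_zero_of_fixed_of_mem_range (T : V →ₗ[F] V) (r : ℕ) (hT : T ^ r = 1)
    (hr : (r : F) ≠ 0) (v : V) (hv : v ∈ LinearMap.range (T - 1)) (hfix : T v = v) : v = 0 := by
  obtain ⟨w, rfl⟩ := hv
  have h1 : (∑ i ∈ Finset.range r, T ^ i) * (T - 1) = 0 := by
    rw [geom_sum_mul, hT, sub_self]
  have h2 : (∑ i ∈ Finset.range r, T ^ i) ((T - 1) w) = (r : F) • ((T - 1) w) := by
    rw [LinearMap.sum_apply]
    rw [Finset.sum_congr rfl (fun i _ => pow_apply_of_fixed T _ hfix i)]
    rw [Finset.sum_const, Finset.card_range, Nat.cast_smul_eq_nsmul]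
  have h3 : (∑ i ∈ Finset.range r, T ^ i) ((T - 1) w) = 0 := by
    rw [← Module.End.mul_apply, h1, LinearMap.zero_apply]
  rw [h2] at h3
  exact (smul_eq_zero.1 h3).resolve_left hr

theorem pow_mem_of_invariant (T : V →ₗ[F] V) (W : Submodule F V) (hinv : ∀ w ∈ W, T w ∈ W)
    (i : ℕ) : ∀ w ∈ W, (T ^ i) w ∈ W := by
  induction i with
  | zero => intro w hw; simpa using hw
  | succ i ih =>
    intro w hw
    rw [pow_succ', Module.End.mul_apply]
    exact hinv _ (ih w hw)

variable [Fintype F] [FiniteDimensional F V]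

/-- if `T` of prime order `r` acts on a subspace `W` of `range (T - 1)`, then the order of `q`
modulo `r` divides `dim W` -/
theorem orderOf_dvd_finrank (T : V →ₗ[F] V) (r : ℕ) [Fact r.Prime] (hT : T ^ r = 1)
    (hr : (r : F) ≠ 0) (W : Submodule F V) (hW : W ≤ LinearMap.range (T - 1))
    (hinv : ∀ w ∈ W, T w ∈ W) :
    orderOf ((Fintype.card F : ℕ) : ZMod r) ∣ finrank F W := by
  classical
  have hrpos : 1 ≤ r := (Fact.out : r.Prime).one_lt.le
  have : Finite V := Module.finite_of_finite F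
  have : Fintype W := Fintype.ofFinite W
  let σ : Equiv.Perm W :=
    { toFun := fun w => ⟨T w.1, hinv w.1 w.2⟩
      invFun := fun w => ⟨(T ^ (r - 1)) w.1, pow_mem_of_invariant T W hinv (r - 1) w.1 w.2⟩
      left_inv := by
        intro w
        apply Subtype.ext
        change (T ^ (r - 1)) (T w.1) = w.1
        rw [← Module.End.mul_apply, ← pow_succ, Nat.sub_add_cancel hrpos, hT, Module.End.one_apply]
      right_inv := by
        intro w
        apply Subtype.ext
        change T ((T ^ (r - 1)) w.1) = w.1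
        rw [← Module.End.mul_apply, ← pow_succ', Nat.sub_add_cancel hrpos, hT,
          Module.End.one_apply] }
  have hσi : ∀ (i : ℕ) (w : W), ((σ ^ i) w).1 = (T ^ i) w.1 := by
    intro i
    induction i with
    | zero => intro w; simp
    | succ i ih =>
      intro w
      rw [pow_succ', Equiv.Perm.mul_apply, pow_succ', Module.End.mul_apply, ← ih w]
      rfl
  have hσ : σ ^ r ^ 1 = 1 := by
    rw [pow_one]
    ext w
    rw [hσi, hT, Module.End.one_apply, Equiv.Perm.one_apply]
  have hmod := Equiv.Perm.card_compl_support_modEq hσ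
  have hsupp : σ.supportᶜ = {0} := by
    ext w
    rw [Finset.mem_compl, Equiv.Perm.notMem_support, Finset.mem_singleton]
    constructor
    · intro hw
      have h1 : T w.1 = w.1 := congrArg Subtype.val hw
      have h2 := eq_zero_of_fixed_of_mem_range T r hT hr w.1 (hW w.2) h1
      exact Subtype.ext h2
    · rintro rfl
      apply Subtype.ext
      change T 0 = 0
      exact map_zero T
  rw [hsupp, Finset.card_singleton, Module.card_eq_pow_finrank (K := F) (V := W)] at hmod
  apply orderOf_dvd_of_pow_eq_one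
  have h3 := (ZMod.natCast_eq_natCast_iff _ _ _).2 hmod
  rw [Nat.cast_one, Nat.cast_pow] at h3
  exact h3.symm

/-- a nontrivial `T` of prime order `r` forces `ord_r(q) ≤ dim V` -/
theorem orderOf_le_finrank (T : V →ₗ[F] V) (r : ℕ) [Fact r.Prime] (hT : T ^ r = 1)
    (hr : (r : F) ≠ 0) (hT1 : T ≠ 1) :
    orderOf ((Fintype.card F : ℕ) : ZMod r) ≤ finrank F V := by
  have h1 := orderOf_dvd_finrank T r hT hr (LinearMap.range (T - 1)) le_rfl (by
    rintro _ ⟨v, rfl⟩
    refine ⟨T v, ?_⟩
    simp [map_sub])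
  have h2 : 0 < finrank F (LinearMap.range (T - 1)) := by
    rw [Module.finrank_pos_iff_exists_ne_zero]
    have : T - 1 ≠ 0 := sub_ne_zero.2 hT1
    obtain ⟨v, hv⟩ : ∃ v, (T - 1) v ≠ 0 := by
      by_contra hcon
      push Not at hcon
      exact this (LinearMap.ext hcon)
    exact ⟨⟨(T - 1) v, v, rfl⟩, fun h => hv (congrArg Subtype.val h)⟩
  exact le_trans (Nat.le_of_dvd h2 h1) (Submodule.finrank_le _)

/-- the main dichotomy for commuting elements of prime orders `r` and `s` -/
theorem core (A B : V →ₗ[F] V) (r s : ℕ) [Fact r.Prime] [Fact s.Prime]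
    (hA : A ^ r = 1) (hB : B ^ s = 1) (hA1 : A ≠ 1) (hB1 : B ≠ 1)
    (hr : (r : F) ≠ 0) (hs : (s : F) ≠ 0) (hAB : A * B = B * A) :
    orderOf ((Fintype.card F : ℕ) : ZMod r) + orderOf ((Fintype.card F : ℕ) : ZMod s) ≤
      finrank F V ∨
    ∃ d : ℕ, 1 ≤ d ∧ d ≤ finrank F V ∧ orderOf ((Fintype.card F : ℕ) : ZMod r) ∣ d ∧
      orderOf ((Fintype.card F : ℕ) : ZMod s) ∣ d := by
  classical
  set X := LinearMap.range (A - 1) with hX
  set Y := LinearMap.range (B - 1) with hY
  set U := LinearMap.range ((A - 1) * (B - 1)) with hU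
  have hcomm : (A - 1) * (B - 1) = (B - 1) * (A - 1) := by
    rw [sub_mul, mul_sub, mul_sub, sub_mul, mul_sub, mul_sub, hAB]
    simp only [mul_one, one_mul]
    abel
  have hcA : A * (A - 1) = (A - 1) * A := by rw [mul_sub, sub_mul, mul_one, one_mul]
  have hcB : B * (B - 1) = (B - 1) * B := by rw [mul_sub, sub_mul, mul_one, one_mul]
  have hcAB : A * (B - 1) = (B - 1) * A := by rw [mul_sub, sub_mul, mul_one, one_mul, hAB]
  have hcBA : B * (A - 1) = (A - 1) * B := by rw [mul_sub, sub_mul, mul_one, one_mul, hAB]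
  have hUX : U ≤ X := by
    rintro _ ⟨v, rfl⟩
    exact ⟨(B - 1) v, rfl⟩
  have hUY : U ≤ Y := by
    rintro _ ⟨v, rfl⟩
    rw [hcomm]
    exact ⟨(A - 1) v, rfl⟩
  have hXA : ∀ w ∈ X, A w ∈ X := by
    rintro _ ⟨v, rfl⟩
    refine ⟨A v, ?_⟩
    rw [← Module.End.mul_apply, ← hcA, Module.End.mul_apply]
  have hYB : ∀ w ∈ Y, B w ∈ Y := by
    rintro _ ⟨v, rfl⟩
    refine ⟨B v, ?_⟩
    rw [← Module.End.mul_apply, ← hcB, Module.End.mul_apply]
  have hUA : ∀ w ∈ U, A w ∈ U := by
    rintro _ ⟨v, rfl⟩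
    refine ⟨A v, ?_⟩
    rw [← Module.End.mul_apply, ← Module.End.mul_apply, mul_assoc, ← hcAB, ← mul_assoc, ← hcA,
      mul_assoc]
  have hUB : ∀ w ∈ U, B w ∈ U := by
    rintro _ ⟨v, rfl⟩
    refine ⟨B v, ?_⟩
    rw [← Module.End.mul_apply, ← Module.End.mul_apply, mul_assoc, ← hcB, ← mul_assoc, ← hcBA,
      mul_assoc]
  have hkX := orderOf_dvd_finrank A r hA hr X le_rfl hXA
  have hlY := orderOf_dvd_finrank B s hB hs Y le_rfl hYB
  have hkU := orderOf_dvd_finrank A r hA hr U hUX hUA
  have hlU := orderOf_dvd_finrank B s hB hs U hUY hUB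
  have hpos : ∀ (T : V →ₗ[F] V), T ≠ 1 → 0 < finrank F (LinearMap.range (T - 1)) := by
    intro T hT1
    rw [Module.finrank_pos_iff_exists_ne_zero]
    have : T - 1 ≠ 0 := sub_ne_zero.2 hT1
    obtain ⟨v, hv⟩ : ∃ v, (T - 1) v ≠ 0 := by
      by_contra hcon
      push Not at hcon
      exact this (LinearMap.ext hcon)
    exact ⟨⟨(T - 1) v, v, rfl⟩, fun h => hv (congrArg Subtype.val h)⟩
  by_cases hU0 : U = ⊥
  · left
    have hXY : X ⊓ Y = ⊥ := by
      rw [Submodule.eq_bot_iff]
      rintro v ⟨hvX, hvY⟩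
      obtain ⟨w, rfl⟩ := hvX
      have h0 : ((A - 1) * (B - 1)) w = 0 := by
        have : ((A - 1) * (B - 1)) w ∈ U := ⟨w, rfl⟩
        rw [hU0] at this
        exact (Submodule.mem_bot F).1 this
      have hfix : B ((A - 1) w) = (A - 1) w := by
        have h1 : ((B - 1) * (A - 1)) w = 0 := by rw [← hcomm]; exact h0
        rw [Module.End.mul_apply, LinearMap.sub_apply, Module.End.one_apply, sub_eq_zero] at h1
        exact h1
      exact eq_zero_of_fixed_of_mem_range B s hB hs _ hvY hfix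
    have h1 := Submodule.finrank_sup_add_finrank_inf_eq X Y
    rw [hXY, finrank_bot, add_zero] at h1
    have h2 : finrank F (X ⊔ Y : Submodule F V) ≤ finrank F V := Submodule.finrank_le _
    have h3 : _ ≤ finrank F X := Nat.le_of_dvd (hpos A hA1) hkX
    have h4 : _ ≤ finrank F Y := Nat.le_of_dvd (hpos B hB1) hlY
    omega
  · right
    refine ⟨finrank F U, ?_, Submodule.finrank_le _, hkU, hlU⟩
    have : 0 < finrank F U := by
      rw [Module.finrank_pos_iff_exists_ne_zero]
      obtain ⟨u, hu, hu0⟩ := (Submodule.ne_bot_iff U).1 hU0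
      exact ⟨⟨u, hu⟩, fun h => hu0 (congrArg Subtype.val h)⟩
    omega

end Cfsg.Agent.Lib.H12.PGraph
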