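import Cfsg.Agent.Lib.H12.SemiA

/-!
# Semisimple endomorphisms with equal characteristic polynomial are conjugate (helper12)
-/

set_option autoImplicit false
open Polynomial

namespace Cfsg.Agent.Lib.H12.Semi

universe u v
variable {F : Type u} [Field F]

lemma exists_monic_irreducible_factor {p : F[X]} (hp : 0 < p.natDegree) :
    ∃ rho : F[X], rho.Monic ∧ Irreducible rho ∧ rho ∣ p := by
  obtain ⟨r0, hr0, hdvd⟩ := Polynomial.exists_irreducible_of_natDegree_pos hp
  have h0 : r0 ≠ 0 := hr0.ne_zero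
  refine ⟨r0 * C r0.leadingCoeff⁻¹, monic_mul_leadingCoeff_inv h0,
    (irreducible_mul_leadingCoeff_inv).mpr hr0, ?_⟩
  have hu : IsUnit (C r0.leadingCoeff⁻¹) := by
    rw [Polynomial.isUnit_C]
    exact IsUnit.mk0 _ (inv_ne_zero (leadingCoeff_ne_zero.mpr h0))
  exact (IsUnit.mul_right_dvd hu).mpr hdvd

theorem exists_ne_zero_of_dvd_charpoly : ∀ (n : ℕ) (W : Type v) [AddCommGroup W] [Module F W]
    [FiniteDimensional F W] (g : Module.End F W), Module.finrank F W = n → g.IsSemisimple →
    ∀ pi : F[X], Irreducible pi → pi ∣ g.charpoly → ∃ w : W, w ≠ 0 ∧ aeval g pi w = 0 := by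
  intro n
  induction n using Nat.strong_induction_on with
  | _ n ih =>
    intro W _ _ _ g hn hg pi hpi hdvd
    by_cases hn0 : n = 0
    · exfalso
      have h1 : g.charpoly.natDegree = 0 := by rw [LinearMap.charpoly_natDegree, hn, hn0]
      have h2 : g.charpoly = 1 := Polynomial.eq_one_of_monic_natDegree_zero g.charpoly_monic h1
      rw [h2] at hdvd
      exact hpi.not_isUnit (isUnit_of_dvd_one hdvd)
    · have hpos : 0 < Module.finrank F W := by omega
      have hnt : Nontrivial W := Module.nontrivial_of_finrank_pos hpos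
      have hmp : 0 < (minpoly F g).natDegree :=
        minpoly.natDegree_pos (Algebra.IsIntegral.isIntegral g)
      obtain ⟨rho, hrm, hri, hrd⟩ := exists_monic_irreducible_factor hmp
      obtain ⟨w, hw0, hw⟩ := exists_ne_zero_of_dvd_minpoly g hrd hri.natDegree_pos
      obtain ⟨Z', hZ', hc, hcp, hfr⟩ := exists_peel g hg hw0 hri hrm hw
      rw [hcp] at hdvd
      rcases (hpi.prime.dvd_or_dvd hdvd) with h1 | h1
      · refine ⟨w, hw0, ?_⟩
        have h2 : rho ∣ pi := (hpi.dvd_symm hri h1)
        exact (evalAt_eq_zero_iff g hw0 hri hw pi).mpr h2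
      · have hlt : Module.finrank F Z' < n := by
          have := hri.natDegree_pos
          omega
        obtain ⟨w', hw'0, hw'⟩ := ih _ hlt Z' (res g hZ') rfl (res_isSemisimple hg hZ') pi hpi h1
        refine ⟨(w' : W), fun h => hw'0 (Subtype.ext h), ?_⟩
        rw [← aeval_res_apply g hZ' pi w', hw']
        rfl

lemma res_cycEquiv {V : Type v} [AddCommGroup V] [Module F V] (f : Module.End F V) {v : V}
    (hv : v ≠ 0) {pi : F[X]} (hpi : Irreducible pi) (h : aeval f pi v = 0) (a : AdjoinRoot pi) :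
    res f (cyc_invt f v) (cycEquiv f hv hpi h a) = cycEquiv f hv hpi h (AdjoinRoot.root pi * a) := by
  apply Subtype.ext
  rw [res_apply, cycEquiv_root_mul]

lemma glue {V W : Type v} [AddCommGroup V] [Module F V] [AddCommGroup W] [Module F W]
    (f : Module.End F V) (g : Module.End F W) {Z Z' : Submodule F V} {Y Y' : Submodule F W}
    (hZ : Z ∈ f.invtSubmodule) (hZ' : Z' ∈ f.invtSubmodule)
    (hY : Y ∈ g.invtSubmodule) (hY' : Y' ∈ g.invtSubmodule)
    (hc : IsCompl Z Z') (hd : IsCompl Y Y') (e0 : Z ≃ₗ[F] Y) (e1 : Z' ≃ₗ[F] Y')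
    (h0 : ∀ z, e0 (res f hZ z) = res g hY (e0 z))
    (h1 : ∀ z, e1 (res f hZ' z) = res g hY' (e1 z)) :
    ∃ e : V ≃ₗ[F] W, ∀ x, e (f x) = g (e x) := by
  refine ⟨((Submodule.prodEquivOfIsCompl Z Z' hc).symm ≪≫ₗ (e0.prodCongr e1)) ≪≫ₗ
    Submodule.prodEquivOfIsCompl Y Y' hd, ?_⟩
  intro x
  obtain ⟨⟨z, z'⟩, rfl⟩ := (Submodule.prodEquivOfIsCompl Z Z' hc).surjective x
  have hf : f (Submodule.prodEquivOfIsCompl Z Z' hc (z, z')) =
      Submodule.prodEquivOfIsCompl Z Z' hc (res f hZ z, res f hZ' z') := by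
    simp only [Submodule.coe_prodEquivOfIsCompl', map_add, res_apply]
  rw [hf]
  simp only [LinearEquiv.trans_apply, LinearEquiv.symm_apply_apply, LinearEquiv.prodCongr_apply]
  simp only [Submodule.coe_prodEquivOfIsCompl', h0, h1, res_apply, map_add]

theorem exists_equiv_of_charpoly_eq : ∀ (n : ℕ) (V W : Type v) [AddCommGroup V] [Module F V]
    [FiniteDimensional F V] [AddCommGroup W] [Module F W] [FiniteDimensional F W]
    (f : Module.End F V) (g : Module.End F W), Module.finrank F V = n → f.IsSemisimple →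
    g.IsSemisimple → f.charpoly = g.charpoly → ∃ e : V ≃ₗ[F] W, ∀ x, e (f x) = g (e x) := by
  intro n
  induction n using Nat.strong_induction_on with
  | _ n ih =>
    intro V W _ _ _ _ _ _ f g hn hf hg hfg
    have hW : Module.finrank F W = n := by
      rw [← LinearMap.charpoly_natDegree g, ← hfg, LinearMap.charpoly_natDegree, hn]
    by_cases hn0 : n = 0
    · have hsW : Subsingleton W := Module.finrank_zero_iff.mp (by rw [hW, hn0])
      refine ⟨LinearEquiv.ofFinrankEq V W (by rw [hn, hW]), fun x => Subsingleton.elim _ _⟩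
    · have hpos : 0 < Module.finrank F V := by omega
      have hnt : Nontrivial V := Module.nontrivial_of_finrank_pos hpos
      have hmp : 0 < (minpoly F f).natDegree :=
        minpoly.natDegree_pos (Algebra.IsIntegral.isIntegral f)
      obtain ⟨pi, hpm, hpi, hpd⟩ := exists_monic_irreducible_factor hmp
      obtain ⟨v, hv0, hv⟩ := exists_ne_zero_of_dvd_minpoly f hpd hpi.natDegree_pos
      obtain ⟨Z', hZ', hc, hcp, hfr⟩ := exists_peel f hf hv0 hpi hpm hv
      have hdvd : pi ∣ g.charpoly := by rw [← hfg, hcp]; exact dvd_mul_right _ _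
      obtain ⟨w, hw0, hw⟩ := exists_ne_zero_of_dvd_charpoly n W g hW hg pi hpi hdvd
      obtain ⟨Y', hY', hd, hcq, hfs⟩ := exists_peel g hg hw0 hpi hpm hw
      have hlt : Module.finrank F Z' < n := by
        have := hpi.natDegree_pos
        omega
      have hcc : (res f hZ').charpoly = (res g hY').charpoly := by
        rw [hcp, hcq] at hfg
        exact mul_left_cancel₀ hpi.ne_zero hfg
      obtain ⟨e1, he1⟩ := ih _ hlt Z' Y' (res f hZ') (res g hY') rfl (res_isSemisimple hf hZ')
        (res_isSemisimple hg hY') hcc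
      refine glue f g (cyc_invt f v) hZ' (cyc_invt g w) hY' hc hd
        ((cycEquiv f hv0 hpi hv).symm ≪≫ₗ cycEquiv g hw0 hpi hw) e1 ?_ he1
      intro z
      obtain ⟨a, rfl⟩ := (cycEquiv f hv0 hpi hv).surjective z
      rw [res_cycEquiv, LinearEquiv.trans_apply, LinearEquiv.trans_apply,
        LinearEquiv.symm_apply_apply, LinearEquiv.symm_apply_apply, res_cycEquiv]

end Cfsg.Agent.Lib.H12.Semi
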