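import Mathlib
import Cfsg.Agent.Lib.H12.SemiB

/-!
# Isometries of alternating forms: basic lemmas (helper12)
-/

set_option autoImplicit false
set_option linter.unusedSectionVars false
open Polynomial

namespace Cfsg.Agent.Lib.H12.SpSemi

open Cfsg.Agent.Lib.H12.Semi

universe u v
variable {F : Type u} [Field F] {V : Type v} [AddCommGroup V] [Module F V]

/-- an alternating non-degenerate form with an isometry -/
structure SpData (B : LinearMap.BilinForm F V) (g : Module.End F V) : Prop where
  alt : ∀ v, B v v = 0
  nd : ∀ v, (∀ w, B v w = 0) → v = 0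
  iso : ∀ x y, B (g x) (g y) = B x y

variable {B : LinearMap.BilinForm F V} {g : Module.End F V}

theorem skew_of_alt (halt : ∀ v, B v v = 0) (x y : V) : B y x = - B x y := by
  have h := halt (x + y)
  simp only [map_add, LinearMap.add_apply, halt, zero_add, add_zero] at h
  exact eq_neg_of_add_eq_zero_left h

theorem SpData.skew (h : SpData B g) (x y : V) : B y x = - B x y := skew_of_alt h.alt x y

theorem SpData.nd_right (h : SpData B g) (v : V) (hv : ∀ w, B w v = 0) : v = 0 := by
  apply h.nd
  intro w
  rw [h.skew, hv, neg_zero]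

theorem SpData.injective (h : SpData B g) : Function.Injective g := by
  rw [← LinearMap.ker_eq_bot, LinearMap.ker_eq_bot']
  intro x hx
  apply h.nd
  intro w
  rw [← h.iso, hx, map_zero, LinearMap.zero_apply]

theorem SpData.iso_pow (h : SpData B g) (i : ℕ) (x y : V) : B ((g ^ i) x) ((g ^ i) y) = B x y := by
  induction i with
  | zero => simp
  | succ i ih => rw [pow_succ', Module.End.mul_apply, Module.End.mul_apply, h.iso, ih]

theorem SpData.iso_pow_le (h : SpData B g) {i m : ℕ} (him : i ≤ m) (x y : V) :
    B ((g ^ i) x) ((g ^ m) y) = B x ((g ^ (m - i)) y) := by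
  have : m = i + (m - i) := by omega
  conv_lhs => rw [this, pow_add, Module.End.mul_apply, h.iso_pow]

/-- the adjoint of `π(g)` is `g ^ (-d) π~(g)`, `π~` the reversed polynomial -/
theorem SpData.form_reverse (h : SpData B g) (π : F[X]) (x z : V) :
    B (aeval g π x) ((g ^ π.natDegree) z) = B x (aeval g π.reverse z) := by
  set d := π.natDegree with hd
  rw [aeval_eq_sum_range, aeval_eq_sum_range' (lt_of_le_of_lt (reverse_natDegree_le π)
    (Nat.lt_succ_self d)), LinearMap.sum_apply, LinearMap.sum_apply, map_sum, map_sum,
    LinearMap.sum_apply]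
  rw [← Finset.sum_range_reflect]
  apply Finset.sum_congr rfl
  intro j hj
  rw [Finset.mem_range] at hj
  have hj' : d + 1 - 1 - j ≤ d := by omega
  rw [LinearMap.smul_apply, LinearMap.smul_apply, map_smul, map_smul, LinearMap.smul_apply,
    h.iso_pow_le hj', coeff_reverse, ← hd, revAt_le (by omega : j ≤ d)]
  have e1 : d + 1 - 1 - j = d - j := by omega
  have e2 : d - (d - j) = j := by omega
  rw [e1, e2]

section findim

variable [FiniteDimensional F V]

theorem SpData.surjective (h : SpData B g) : Function.Surjective g :=
  LinearMap.surjective_of_injective h.injective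

/-- an invariant subspace is mapped onto itself -/
theorem SpData.map_eq (h : SpData B g) {H : Submodule F V} (hH : H ∈ g.invtSubmodule) :
    H.map g = H := by
  have h1 : H.map g ≤ H := by
    rintro _ ⟨x, hx, rfl⟩
    exact (Module.End.mem_invtSubmodule_iff_forall_mem_of_mem g).1 hH x hx
  apply Submodule.eq_of_le_of_finrank_le h1
  rw [← LinearEquiv.finrank_eq (Submodule.equivMapOfInjective g h.injective H)]

/-- the orthogonal complement of an invariant subspace is invariant -/
theorem SpData.orthogonal_invt (h : SpData B g) {H : Submodule F V} (hH : H ∈ g.invtSubmodule) :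
    B.orthogonal H ∈ g.invtSubmodule := by
  rw [Module.End.mem_invtSubmodule_iff_forall_mem_of_mem g]
  intro y hy
  rw [LinearMap.BilinForm.mem_orthogonal_iff] at hy ⊢
  intro x hx
  have hx' : x ∈ H.map g := by rw [h.map_eq hH]; exact hx
  obtain ⟨x0, hx0, rfl⟩ := hx'
  rw [h.iso]
  exact hy x0 hx0

end findim

/-- vectors killed by `π(g)` and `ρ(g)` are orthogonal if `ρ` is coprime to the reverse of `π` -/
theorem SpData.ortho_of_coprime (h : SpData B g) {π ρ : F[X]} (hco : IsCoprime ρ π.reverse)
    {x y : V} (hx : aeval g π x = 0) (hy : aeval g ρ y = 0) : B x y = 0 := by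
  obtain ⟨a, b, hab⟩ := hco
  have h1 : y = aeval g π.reverse (aeval g b y) := by
    have h2 : aeval g (a * ρ + b * π.reverse) y = y := by rw [hab]; simp
    rw [map_add, LinearMap.add_apply, mul_comm a ρ, aeval_mul_apply_comm g ρ a, hy, map_zero,
      zero_add, aeval_mul_apply_comm g b π.reverse] at h2
    exact h2.symm
  rw [h1, ← h.form_reverse, hx, map_zero, LinearMap.zero_apply]

/-- for a self-reciprocal `π`, `ker π(g)` is orthogonal to `range π(g)` -/
theorem SpData.ortho_range (h : SpData B g) {π : F[X]} {c : F} (hc : c ≠ 0)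
    (hrev : π.reverse = C c * π) {x : V} (hx : aeval g π x = 0) (z : V) :
    B x (aeval g π z) = 0 := by
  have h1 : aeval g π z = c⁻¹ • aeval g π.reverse z := by
    rw [hrev, map_mul, Module.End.mul_apply, aeval_C, Module.algebraMap_end_apply, smul_smul,
      inv_mul_cancel₀ hc, one_smul]
  rw [h1, map_smul, ← h.form_reverse, hx, map_zero, LinearMap.zero_apply, smul_zero]

end Cfsg.Agent.Lib.H12.SpSemi
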