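import Mathlib
import Cfsg.Agent.Lib.H12.SpSemiA

/-!
# Isometries of alternating forms: restriction, gluing, hyperbolic pairs (helper12)
-/

set_option autoImplicit false
set_option linter.unusedSectionVars false
open Polynomial

namespace Cfsg.Agent.Lib.H12.SpSemi

open Cfsg.Agent.Lib.H12.Semi

universe u v
variable {F : Type u} [Field F] {V : Type v} [AddCommGroup V] [Module F V]
  {W : Type v} [AddCommGroup W] [Module F W]
variable {B : LinearMap.BilinForm F V} {g : Module.End F V}
  {B' : LinearMap.BilinForm F W} {g' : Module.End F W}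

/-- restriction to a non-degenerate invariant subspace -/
theorem SpData.restrict (h : SpData B g) {H : Submodule F V} (hH : H ∈ g.invtSubmodule)
    (hnd : ∀ x ∈ H, (∀ y ∈ H, B x y = 0) → x = 0) : SpData (B.restrict H) (res g hH) where
  alt := fun v => h.alt v
  nd := by
    intro x hx
    apply Subtype.ext
    apply hnd x x.2
    intro y hy
    exact hx ⟨y, hy⟩
  iso := fun x y => h.iso x y

section findim
variable [FiniteDimensional F V]

theorem SpData.isCompl_orthogonal (h : SpData B g) {H : Submodule F V}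
    (hnd : ∀ x ∈ H, (∀ y ∈ H, B x y = 0) → x = 0) : IsCompl H (B.orthogonal H) := by
  have hrefl : B.IsRefl := by
    intro x y hxy
    rw [h.skew, hxy, neg_zero]
  apply LinearMap.BilinForm.isCompl_orthogonal_of_restrict_nondegenerate hrefl
  constructor
  · intro x hx
    apply Subtype.ext
    apply hnd x x.2
    intro y hy
    exact hx ⟨y, hy⟩
  · intro x hx
    apply Subtype.ext
    apply hnd x x.2
    intro y hy
    have := hx ⟨y, hy⟩
    change B y x = 0 at this
    rw [h.skew, this, neg_zero]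

/-- the orthogonal complement of a non-degenerate subspace is non-degenerate -/
theorem SpData.nd_orthogonal (h : SpData B g) {H : Submodule F V}
    (hnd : ∀ x ∈ H, (∀ y ∈ H, B x y = 0) → x = 0) :
    ∀ x ∈ B.orthogonal H, (∀ y ∈ B.orthogonal H, B x y = 0) → x = 0 := by
  intro x hx hxy
  apply h.nd
  intro w
  have hc := h.isCompl_orthogonal hnd
  have hw : w ∈ H ⊔ B.orthogonal H := by rw [hc.sup_eq_top]; exact Submodule.mem_top
  obtain ⟨a, ha, b, hb, rfl⟩ := Submodule.mem_sup.1 hw
  rw [map_add, hxy b hb, add_zero, h.skew]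
  rw [LinearMap.BilinForm.mem_orthogonal_iff] at hx
  rw [hx a ha, neg_zero]

end findim

/-- gluing equivariant isometries along orthogonal decompositions -/
theorem glue_iso (hV : SpData B g) (hW : SpData B' g') {H : Submodule F V} {H' : Submodule F W}
    (hH : H ∈ g.invtSubmodule) (hH' : H' ∈ g'.invtSubmodule)
    (hP : B.orthogonal H ∈ g.invtSubmodule) (hP' : B'.orthogonal H' ∈ g'.invtSubmodule)
    (hc : IsCompl H (B.orthogonal H)) (hc' : IsCompl H' (B'.orthogonal H'))
    (e0 : H ≃ₗ[F] H') (e1 : ↥(B.orthogonal H) ≃ₗ[F] ↥(B'.orthogonal H'))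
    (h0 : ∀ z, e0 (res g hH z) = res g' hH' (e0 z))
    (h0i : ∀ x y : H, B' (e0 x) (e0 y) = B x y)
    (h1 : ∀ z, e1 (res g hP z) = res g' hP' (e1 z))
    (h1i : ∀ x y : ↥(B.orthogonal H), B' (e1 x) (e1 y) = B x y) :
    ∃ e : V ≃ₗ[F] W, (∀ x, e (g x) = g' (e x)) ∧ ∀ x y, B' (e x) (e y) = B x y := by
  refine ⟨((Submodule.prodEquivOfIsCompl H _ hc).symm ≪≫ₗ (e0.prodCongr e1)) ≪≫ₗ
    Submodule.prodEquivOfIsCompl H' _ hc', ?_, ?_⟩
  · intro x
    obtain ⟨⟨z, z'⟩, rfl⟩ := (Submodule.prodEquivOfIsCompl H _ hc).surjective x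
    have hf : g (Submodule.prodEquivOfIsCompl H _ hc (z, z')) =
        Submodule.prodEquivOfIsCompl H _ hc (res g hH z, res g hP z') := by
      simp only [Submodule.coe_prodEquivOfIsCompl', map_add, res_apply]
    rw [hf]
    simp only [LinearEquiv.trans_apply, LinearEquiv.symm_apply_apply, LinearEquiv.prodCongr_apply]
    simp only [Submodule.coe_prodEquivOfIsCompl', h0, h1, res_apply, map_add]
  · intro x y
    obtain ⟨⟨z, z'⟩, rfl⟩ := (Submodule.prodEquivOfIsCompl H _ hc).surjective x
    obtain ⟨⟨w, w'⟩, rfl⟩ := (Submodule.prodEquivOfIsCompl H _ hc).surjective y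
    simp only [LinearEquiv.trans_apply, LinearEquiv.symm_apply_apply, LinearEquiv.prodCongr_apply]
    simp only [Submodule.coe_prodEquivOfIsCompl', map_add, LinearMap.add_apply]
    have c1 : B (z : V) (w' : V) = 0 := by
      have := w'.2
      rw [LinearMap.BilinForm.mem_orthogonal_iff] at this
      exact this z z.2
    have c2 : B (z' : V) (w : V) = 0 := by
      have := z'.2
      rw [LinearMap.BilinForm.mem_orthogonal_iff] at this
      rw [hV.skew, this w w.2, neg_zero]
    have c1' : B' (e0 z : W) (e1 w' : W) = 0 := by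
      have := (e1 w').2
      rw [LinearMap.BilinForm.mem_orthogonal_iff] at this
      exact this (e0 z) (e0 z).2
    have c2' : B' (e1 z' : W) (e0 w : W) = 0 := by
      have := (e1 z').2
      rw [LinearMap.BilinForm.mem_orthogonal_iff] at this
      rw [hW.skew, this (e0 w) (e0 w).2, neg_zero]
    rw [c1, c2, c1', c2', h0i, h1i]

/-- the sum of two disjoint subspaces as a product -/
noncomputable def supEquiv (W1 W2 : Submodule F V) (hd : Disjoint W1 W2) :
    (W1 × W2) ≃ₗ[F] ↥(W1 ⊔ W2) :=
  LinearEquiv.ofBijective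
    ((W1.subtype.coprod W2.subtype).codRestrict (W1 ⊔ W2) (by
      rintro ⟨a, b⟩
      rw [LinearMap.coprod_apply]
      exact Submodule.add_mem_sup a.2 b.2)) (by
    constructor
    · rw [← LinearMap.ker_eq_bot, LinearMap.ker_eq_bot']
      rintro ⟨a, b⟩ hab
      have h1 : (a : V) + (b : V) = 0 := by
        have := congrArg Subtype.val hab
        simpa using this
      have h2 : (a : V) ∈ W1 ⊓ W2 := by
        refine ⟨a.2, ?_⟩
        rw [eq_neg_of_add_eq_zero_left h1]
        exact W2.neg_mem b.2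
      rw [hd.eq_bot, Submodule.mem_bot] at h2
      have h3 : (b : V) = 0 := by rw [h2, zero_add] at h1; exact h1
      exact Prod.ext (Subtype.ext h2) (Subtype.ext h3)
    · rintro ⟨x, hx⟩
      obtain ⟨a, ha, b, hb, rfl⟩ := Submodule.mem_sup.1 hx
      exact ⟨(⟨a, ha⟩, ⟨b, hb⟩), Subtype.ext (by simp)⟩)

@[simp] theorem supEquiv_apply (W1 W2 : Submodule F V) (hd : Disjoint W1 W2) (a : W1) (b : W2) :
    (supEquiv W1 W2 hd (a, b) : V) = (a : V) + (b : V) := by
  rfl

end Cfsg.Agent.Lib.H12.SpSemi
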