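import Mathlib
import Cfsg.Agent.Lib.H12.SpSemiB

/-!
# Hyperbolic pairs of invariant isotropic subspaces (helper12)
-/

set_option autoImplicit false
set_option linter.unusedSectionVars false
open Polynomial

namespace Cfsg.Agent.Lib.H12.SpSemi

open Cfsg.Agent.Lib.H12.Semi

universe u v
variable {F : Type u} [Field F] {V : Type v} [AddCommGroup V] [Module F V]
  {W : Type v} [AddCommGroup W] [Module F W]
variable {B : LinearMap.BilinForm F V} {g : Module.End F V}
  {B' : LinearMap.BilinForm F W} {g' : Module.End F W}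

/-- a pair of invariant totally isotropic subspaces in perfect duality -/
structure HypPair (B : LinearMap.BilinForm F V) (g : Module.End F V) (W1 W2 : Submodule F V) :
    Prop where
  inv1 : W1 ∈ g.invtSubmodule
  inv2 : W2 ∈ g.invtSubmodule
  iso1 : ∀ x ∈ W1, ∀ y ∈ W1, B x y = 0
  iso2 : ∀ x ∈ W2, ∀ y ∈ W2, B x y = 0
  pL : ∀ x ∈ W1, (∀ y ∈ W2, B x y = 0) → x = 0
  pR : ∀ y ∈ W2, (∀ x ∈ W1, B x y = 0) → y = 0

variable {W1 W2 : Submodule F V} {W1' W2' : Submodule F W}

theorem HypPair.disjoint (hp : HypPair B g W1 W2) : Disjoint W1 W2 := by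
  rw [Submodule.disjoint_def]
  intro x h1 h2
  exact hp.pL x h1 (fun y hy => hp.iso2 x h2 y hy)

theorem HypPair.sup_invt (hp : HypPair B g W1 W2) : W1 ⊔ W2 ∈ g.invtSubmodule :=
  Module.End.invtSubmodule.sup_mem hp.inv1 hp.inv2

theorem HypPair.nd_sup (hV : SpData B g) (hp : HypPair B g W1 W2) :
    ∀ x ∈ W1 ⊔ W2, (∀ y ∈ W1 ⊔ W2, B x y = 0) → x = 0 := by
  intro x hx hxy
  obtain ⟨a, ha, b, hb, rfl⟩ := Submodule.mem_sup.1 hx
  have hb0 : b = 0 := by
    apply hp.pR b hb
    intro y hy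
    have h1 := hxy y (Submodule.mem_sup_left hy)
    rw [map_add, LinearMap.add_apply, hp.iso1 a ha y hy, zero_add] at h1
    rw [hV.skew, h1, neg_zero]
  have ha0 : a = 0 := by
    apply hp.pL a ha
    intro y hy
    have h1 := hxy y (Submodule.mem_sup_right hy)
    rw [hb0, add_zero] at h1
    exact h1
  rw [ha0, hb0, add_zero]

section findim
variable [FiniteDimensional F V] [FiniteDimensional F W]

/-- the duality map `W2 → W1*` -/
noncomputable def HypPair.dualMap (_hp : HypPair B g W1 W2) : W2 →ₗ[F] Module.Dual F W1 :=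
  B.flip.domRestrict₁₂ W2 W1

theorem HypPair.dualMap_apply (hp : HypPair B g W1 W2) (y : W2) (x : W1) :
    hp.dualMap y x = B x y := rfl

theorem HypPair.dualMap_injective (hp : HypPair B g W1 W2) : Function.Injective hp.dualMap := by
  rw [← LinearMap.ker_eq_bot, LinearMap.ker_eq_bot']
  intro y hy
  apply Subtype.ext
  apply hp.pR y y.2
  intro x hx
  have := congrArg (fun l : Module.Dual F W1 => l ⟨x, hx⟩) hy
  exact this

theorem HypPair.finrank_eq (hp : HypPair B g W1 W2) :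
    Module.finrank F W2 = Module.finrank F W1 := by
  apply le_antisymm
  · have := LinearMap.finrank_le_finrank_of_injective hp.dualMap_injective
    rwa [Subspace.dual_finrank_eq] at this
  · let Ψ : W1 →ₗ[F] Module.Dual F W2 := B.domRestrict₁₂ W1 W2
    have hΨ : Function.Injective Ψ := by
      rw [← LinearMap.ker_eq_bot, LinearMap.ker_eq_bot']
      intro x hx
      apply Subtype.ext
      apply hp.pL x x.2
      intro y hy
      have := congrArg (fun l : Module.Dual F W2 => l ⟨y, hy⟩) hx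
      exact this
    have := LinearMap.finrank_le_finrank_of_injective hΨ
    rwa [Subspace.dual_finrank_eq] at this

/-- the duality isomorphism `W2 ≃ W1*` -/
noncomputable def HypPair.dualEquiv (hp : HypPair B g W1 W2) : W2 ≃ₗ[F] Module.Dual F W1 :=
  LinearEquiv.ofBijective hp.dualMap
    ⟨hp.dualMap_injective, by
      apply (LinearMap.injective_iff_surjective_of_finrank_eq_finrank ?_).1 hp.dualMap_injective
      rw [Subspace.dual_finrank_eq, hp.finrank_eq]⟩

theorem HypPair.dualEquiv_apply (hp : HypPair B g W1 W2) (y : W2) (x : W1) :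
    hp.dualEquiv y x = B x y := rfl

/-- the partner map `W2 ≃ W2'` induced by `W1 ≃ W1'` -/
noncomputable def HypPair.partner (hp : HypPair B g W1 W2) (hp' : HypPair B' g' W1' W2')
    (φ1 : W1 ≃ₗ[F] W1') : W2 ≃ₗ[F] W2' :=
  (hp.dualEquiv ≪≫ₗ φ1.symm.dualMap) ≪≫ₗ hp'.dualEquiv.symm

theorem HypPair.partner_spec (hp : HypPair B g W1 W2) (hp' : HypPair B' g' W1' W2')
    (φ1 : W1 ≃ₗ[F] W1') (x : W1) (y : W2) :
    B' (φ1 x : W) (hp.partner hp' φ1 y : W) = B x y := by
  have h1 : hp'.dualEquiv (hp.partner hp' φ1 y) = φ1.symm.dualMap (hp.dualEquiv y) := by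
    unfold HypPair.partner
    rw [LinearEquiv.trans_apply, LinearEquiv.apply_symm_apply, LinearEquiv.trans_apply]
  have h2 := congrArg (fun l : Module.Dual F W1' => l (φ1 x)) h1
  simp only [HypPair.dualEquiv_apply, LinearEquiv.dualMap_apply, LinearEquiv.symm_apply_apply]
    at h2
  exact h2

theorem HypPair.partner_equivariant (hV : SpData B g) (hW : SpData B' g')
    (hp : HypPair B g W1 W2) (hp' : HypPair B' g' W1' W2')
    (φ1 : W1 ≃ₗ[F] W1') (hφ1 : ∀ z, φ1 (res g hp.inv1 z) = res g' hp'.inv1 (φ1 z)) (y : W2) :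
    hp.partner hp' φ1 (res g hp.inv2 y) = res g' hp'.inv2 (hp.partner hp' φ1 y) := by
  apply Subtype.ext
  rw [← sub_eq_zero]
  apply hp'.pR _ (W2'.sub_mem (Subtype.mem _) (Subtype.mem _))
  intro x' hx'
  -- `x' = g' x''` with `x'' ∈ W1'`
  have hx'' : x' ∈ W1'.map g' := by rw [hW.map_eq hp'.inv1]; exact hx'
  obtain ⟨x'', hx''m, rfl⟩ := hx''
  obtain ⟨x, hx⟩ := φ1.surjective ⟨x'', hx''m⟩
  have hxv : x'' = (φ1 x : W) := by rw [hx]
  rw [hxv]
  have e1 : g' ((φ1 x : W)) = (φ1 (res g hp.inv1 x) : W) := by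
    rw [hφ1]
    rfl
  rw [map_sub, sub_eq_zero]
  change B' (g' (φ1 x : W)) (hp.partner hp' φ1 (res g hp.inv2 y) : W) =
    B' (g' (φ1 x : W)) (g' (hp.partner hp' φ1 y : W))
  rw [hW.iso, hp.partner_spec hp' φ1, e1, hp.partner_spec hp' φ1]
  change B (g x) (g y) = B x y
  exact hV.iso _ _

/-- extension of an equivariant isomorphism `W1 ≃ W1'` to an equivariant isometry of the
hyperbolic spaces `W1 ⊕ W2 ≃ W1' ⊕ W2'` -/
theorem HypPair.extend (hV : SpData B g) (hW : SpData B' g')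
    (hp : HypPair B g W1 W2) (hp' : HypPair B' g' W1' W2')
    (φ1 : W1 ≃ₗ[F] W1') (hφ1 : ∀ z, φ1 (res g hp.inv1 z) = res g' hp'.inv1 (φ1 z)) :
    ∃ e : ↥(W1 ⊔ W2) ≃ₗ[F] ↥(W1' ⊔ W2'),
      (∀ z, e (res g hp.sup_invt z) = res g' hp'.sup_invt (e z)) ∧
      ∀ x y : ↥(W1 ⊔ W2), B' (e x) (e y) = B x y := by
  set φ2 := hp.partner hp' φ1 with hφ2
  refine ⟨((supEquiv W1 W2 hp.disjoint).symm ≪≫ₗ (φ1.prodCongr φ2)) ≪≫ₗ
    supEquiv W1' W2' hp'.disjoint, ?_, ?_⟩
  · intro z
    obtain ⟨⟨a, b⟩, rfl⟩ := (supEquiv W1 W2 hp.disjoint).surjective z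
    have h1 : res g hp.sup_invt (supEquiv W1 W2 hp.disjoint (a, b)) =
        supEquiv W1 W2 hp.disjoint (res g hp.inv1 a, res g hp.inv2 b) := by
      apply Subtype.ext
      rw [res_apply, supEquiv_apply, supEquiv_apply, map_add, res_apply, res_apply]
    rw [h1]
    simp only [LinearEquiv.trans_apply, LinearEquiv.symm_apply_apply, LinearEquiv.prodCongr_apply]
    apply Subtype.ext
    rw [res_apply, supEquiv_apply, supEquiv_apply, map_add, hφ1,
      hp.partner_equivariant hV hW hp' φ1 hφ1]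
    rfl
  · intro x y
    obtain ⟨⟨a, b⟩, rfl⟩ := (supEquiv W1 W2 hp.disjoint).surjective x
    obtain ⟨⟨c, d⟩, rfl⟩ := (supEquiv W1 W2 hp.disjoint).surjective y
    simp only [LinearEquiv.trans_apply, LinearEquiv.symm_apply_apply, LinearEquiv.prodCongr_apply]
    rw [supEquiv_apply, supEquiv_apply, supEquiv_apply, supEquiv_apply]
    simp only [map_add, LinearMap.add_apply]
    rw [hp'.iso1 _ (φ1 a).2 _ (φ1 c).2, hp'.iso2 _ (φ2 b).2 _ (φ2 d).2,
      hp.iso1 _ a.2 _ c.2, hp.iso2 _ b.2 _ d.2, hp.partner_spec hp' φ1 a d,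
      hW.skew (φ1 c : W) (φ2 b : W), hp.partner_spec hp' φ1 c b, hV.skew (c : V) (b : V)]

end findim

end Cfsg.Agent.Lib.H12.SpSemi
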