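import Mathlib

/-!
# Invariant alternating forms on `F[X]/(π)` for a self-reciprocal irreducible `π` (helper12)
-/

set_option autoImplicit false
set_option linter.unusedSectionVars false
open Polynomial

namespace Cfsg.Agent.Lib.H12.SpSemi

universe u
variable {F : Type u} [Field F] (π : F[X]) [hirr : Fact (Irreducible π)]

/-- data of a self-reciprocal irreducible polynomial of degree at least two -/
structure SelfRec (π : F[X]) (c : F) : Prop where
  monic : π.Monic
  c_ne : c ≠ 0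
  rev : π.reverse = C c * π
  deg : 2 ≤ π.natDegree

variable {π} {c : F}

theorem SelfRec.coeff_zero_ne (h : SelfRec π c) : π.coeff 0 ≠ 0 := by
  intro h0
  have h1 := coeff_zero_reverse π
  rw [h.rev, coeff_C_mul, h0, mul_zero, h.monic.leadingCoeff] at h1
  exact zero_ne_one h1

theorem SelfRec.root_ne_zero (h : SelfRec π c) : AdjoinRoot.root π ≠ 0 := by
  intro h0
  have h1 : aeval (AdjoinRoot.root π) π = 0 := by
    rw [AdjoinRoot.aeval_eq, AdjoinRoot.mk_self]
  rw [h0, ← Polynomial.coeff_zero_eq_aeval_zero'] at h1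
  have h2 : π.coeff 0 = 0 := by
    have := (algebraMap F (AdjoinRoot π)).injective
    apply this
    rw [h1, map_zero]
  exact h.coeff_zero_ne h2

theorem SelfRec.eval_inv (h : SelfRec π c) :
    π.eval₂ (Algebra.ofId F (AdjoinRoot π)) (AdjoinRoot.root π)⁻¹ = 0 := by
  have hα := h.root_ne_zero
  let _ : Invertible (AdjoinRoot.root π) := invertibleOfNonzero hα
  have h1 := eval₂_reverse_mul_pow (algebraMap F (AdjoinRoot π)) (AdjoinRoot.root π) π
  have h2 : eval₂ (algebraMap F (AdjoinRoot π)) (AdjoinRoot.root π) π = 0 := by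
    have : aeval (AdjoinRoot.root π) π = 0 := by
      rw [AdjoinRoot.aeval_eq, AdjoinRoot.mk_self]
    exact this
  rw [h2, h.rev, eval₂_mul, eval₂_C] at h1
  have h3 : (⅟(AdjoinRoot.root π)) = (AdjoinRoot.root π)⁻¹ := invOf_eq_inv _
  rw [h3] at h1
  have hc : algebraMap F (AdjoinRoot π) c ≠ 0 := by
    intro h0
    apply h.c_ne
    apply (algebraMap F (AdjoinRoot π)).injective
    rw [h0, map_zero]
  rcases mul_eq_zero.1 h1 with h4 | h4
  · rcases mul_eq_zero.1 h4 with h5 | h5
    · exact absurd h5 hc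
    · exact h5
  · exact absurd (pow_eq_zero_iff (by have := h.deg; omega) |>.1 h4) hα

/-- the involution `α ↦ α⁻¹` -/
noncomputable def SelfRec.sigma (h : SelfRec π c) : AdjoinRoot π →ₐ[F] AdjoinRoot π :=
  AdjoinRoot.liftAlgHom π (Algebra.ofId F (AdjoinRoot π)) (AdjoinRoot.root π)⁻¹ h.eval_inv

theorem SelfRec.sigma_root (h : SelfRec π c) : h.sigma (AdjoinRoot.root π) = (AdjoinRoot.root π)⁻¹ := by
  unfold SelfRec.sigma
  rw [AdjoinRoot.liftAlgHom_root]

theorem SelfRec.sigma_sigma (h : SelfRec π c) (x : AdjoinRoot π) : h.sigma (h.sigma x) = x := by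
  have h1 : h.sigma.comp h.sigma = AlgHom.id F (AdjoinRoot π) := by
    apply AdjoinRoot.algHom_ext
    rw [AlgHom.comp_apply, h.sigma_root, map_inv₀, h.sigma_root, inv_inv]
    rfl
  have := congrArg (fun f : AdjoinRoot π →ₐ[F] AdjoinRoot π => f x) h1
  exact this

theorem SelfRec.sigma_ne_id (h : SelfRec π c) : h.sigma (AdjoinRoot.root π) ≠ AdjoinRoot.root π := by
  intro h0
  rw [h.sigma_root] at h0
  have hα := h.root_ne_zero
  have h1 : AdjoinRoot.root π * AdjoinRoot.root π = 1 := by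
    nth_rewrite 1 [← h0]
    exact inv_mul_cancel₀ hα
  have h2 : AdjoinRoot.mk π (X * X - 1) = 0 := by
    rw [map_sub, map_mul, AdjoinRoot.mk_X, h1, map_one, sub_self]
  rw [AdjoinRoot.mk_eq_zero] at h2
  have h3 : (X * X - 1 : F[X]) = (X - 1) * (X + 1) := by ring
  rw [h3] at h2
  have hdeg := h.deg
  rcases hirr.out.prime.dvd_or_dvd h2 with h4 | h4
  · have := Polynomial.natDegree_le_of_dvd h4 (X_sub_C_ne_zero (1 : F))
    rw [show (X - 1 : F[X]) = X - C 1 by simp, natDegree_X_sub_C] at this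
    omega
  · have h5 : (X + 1 : F[X]) = X - C (-1) := by simp
    rw [h5] at h4
    have := Polynomial.natDegree_le_of_dvd h4 (X_sub_C_ne_zero (-1 : F))
    rw [natDegree_X_sub_C] at this
    omega


section finite

variable [Fintype F]

theorem SelfRec.finite (h : SelfRec π c) : Finite (AdjoinRoot π) := by
  have : Module.Finite F (AdjoinRoot π) := h.monic.finite_adjoinRoot
  exact Module.finite_of_finite F

/-- the involution is a Frobenius power `x ↦ x ^ Q` with `Q ^ 2 = |K|` -/
theorem SelfRec.exists_frob (h : SelfRec π c) :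
    ∃ Q : ℕ, 2 ≤ Q ∧ (∀ x : AdjoinRoot π, h.sigma x = x ^ Q) ∧
      Nat.card (AdjoinRoot π) = Q ^ 2 := by
  have hfin : Module.Finite F (AdjoinRoot π) := h.monic.finite_adjoinRoot
  have : Finite (AdjoinRoot π) := h.finite
  have : Fintype (AdjoinRoot π) := Fintype.ofFinite _
  obtain ⟨⟨n, hlt⟩, hn⟩ := (FiniteField.bijective_frobeniusAlgHom_pow F (AdjoinRoot π)).2 h.sigma
  have hn' : FiniteField.frobeniusAlgHom F (AdjoinRoot π) ^ n = h.sigma := hn
  have hσx : ∀ x : AdjoinRoot π, h.sigma x = x ^ (Fintype.card F ^ n) := by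
    intro x
    rw [← hn', AlgHom.coe_pow, FiniteField.coe_frobeniusAlgHom, pow_iterate]
  have hq2 : 2 ≤ Fintype.card F := Fintype.one_lt_card
  -- `n ≠ 0`
  have hn0 : n ≠ 0 := by
    intro h0
    apply h.sigma_ne_id
    rw [hσx, h0, pow_zero, pow_one]
  -- `d ∣ 2 n`
  have hord := FiniteField.orderOf_frobeniusAlgHom F (AdjoinRoot π)
  have h2 : FiniteField.frobeniusAlgHom F (AdjoinRoot π) ^ (2 * n) = 1 := by
    rw [two_mul, pow_add, hn']
    apply AlgHom.ext
    intro x
    rw [AlgHom.mul_apply, h.sigma_sigma, AlgHom.one_apply]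
  have h3 : Module.finrank F (AdjoinRoot π) ∣ 2 * n := by
    rw [← hord]
    exact orderOf_dvd_of_pow_eq_one h2
  have h4 : 2 * n = Module.finrank F (AdjoinRoot π) := by
    obtain ⟨t, ht⟩ := h3
    have ht0 : t ≠ 0 := by
      rintro rfl
      omega
    have ht2 : t < 2 := by
      by_contra hcon
      push Not at hcon
      have : Module.finrank F (AdjoinRoot π) * 2 ≤ Module.finrank F (AdjoinRoot π) * t :=
        Nat.mul_le_mul_left _ hcon
      omega
    have : t = 1 := by omega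
    rw [this, mul_one] at ht
    exact ht
  refine ⟨Fintype.card F ^ n, ?_, hσx, ?_⟩
  · calc 2 = 2 ^ 1 := by norm_num
      _ ≤ Fintype.card F ^ 1 := Nat.pow_le_pow_left hq2 1
      _ ≤ Fintype.card F ^ n := Nat.pow_le_pow_right (by omega) (by omega)
  · rw [Nat.card_eq_fintype_card, Module.card_eq_pow_finrank (K := F) (V := AdjoinRoot π), ← h4,
      ← pow_mul, mul_comm]

/-- norm surjectivity: fixed points of the involution are norms -/
theorem SelfRec.exists_norm (h : SelfRec π c) (e : AdjoinRoot π) (he0 : e ≠ 0)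
    (he : h.sigma e = e) : ∃ a : AdjoinRoot π, a ≠ 0 ∧ h.sigma a * a = e := by
  classical
  obtain ⟨Q, hQ2, hσ, hcard⟩ := h.exists_frob
  have : Finite (AdjoinRoot π) := h.finite
  have : Fintype (AdjoinRoot π) := Fintype.ofFinite _
  obtain ⟨γ, hγ⟩ := IsCyclic.exists_generator (α := (AdjoinRoot π)ˣ)
  have hord : orderOf γ = Q ^ 2 - 1 := by
    rw [orderOf_eq_card_of_forall_mem_zpowers hγ, Nat.card_units, hcard]
  set eu : (AdjoinRoot π)ˣ := Units.mk0 e he0 with heu
  obtain ⟨t, ht⟩ : ∃ t : ℕ, γ ^ t = eu := by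
    have h1 := hγ eu
    rw [← mem_powers_iff_mem_zpowers] at h1
    exact h1
  have h1 : eu ^ (Q - 1) = 1 := by
    apply Units.ext
    rw [Units.val_pow_eq_pow_val, Units.val_one, heu, Units.val_mk0]
    have h2 : e ^ Q = e := by rw [← hσ, he]
    have h3 : e ^ (Q - 1) * e = e := by rw [← pow_succ, Nat.sub_add_cancel (by omega), h2]
    have h4 : e ^ (Q - 1) * e = 1 * e := by rw [h3, one_mul]
    exact mul_right_cancel₀ he0 h4
  rw [← ht, ← pow_mul] at h1
  have h2 : Q ^ 2 - 1 ∣ t * (Q - 1) := by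
    rw [← hord]
    exact orderOf_dvd_of_pow_eq_one h1
  have h3 : Q ^ 2 - 1 = (Q + 1) * (Q - 1) := by
    have : 1 ≤ Q := by omega
    zify [this, Nat.one_le_pow 2 Q this]
    ring
  rw [h3] at h2
  have h4 : Q + 1 ∣ t := (Nat.mul_dvd_mul_iff_right (by omega : 0 < Q - 1)).1 h2
  obtain ⟨s, hs⟩ := h4
  refine ⟨((γ ^ s : (AdjoinRoot π)ˣ) : AdjoinRoot π), Units.ne_zero _, ?_⟩
  rw [hσ, ← pow_succ, ← Units.val_pow_eq_pow_val, ← pow_mul, mul_comm s (Q + 1), ← hs, ht, heu,
    Units.val_mk0]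

end finite

end Cfsg.Agent.Lib.H12.SpSemi
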