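import Mathlib
import Cfsg.Agent.Lib.H12.SpSemiD

/-!
# Invariant alternating forms on `F[X]/(π)`: uniqueness up to scaling by norms (helper12)
-/

set_option autoImplicit false
set_option linter.unusedSectionVars false
open Polynomial

namespace Cfsg.Agent.Lib.H12.SpSemi

universe u
variable {F : Type u} [Field F] {π : F[X]} [hirr : Fact (Irreducible π)] {c : F}

/-- an alternating non-degenerate form on `F[X]/(π)` invariant under multiplication by the root -/
structure InvForm (β : LinearMap.BilinForm F (AdjoinRoot π)) : Prop where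
  alt : ∀ a, β a a = 0
  nd : ∀ a, (∀ b, β a b = 0) → a = 0
  inv : ∀ a b, β (AdjoinRoot.root π * a) (AdjoinRoot.root π * b) = β a b

variable {β β' : LinearMap.BilinForm F (AdjoinRoot π)}

theorem InvForm.shift_root (hβ : InvForm β) (h : SelfRec π c) (a b : AdjoinRoot π) :
    β (AdjoinRoot.root π * a) b = β a ((AdjoinRoot.root π)⁻¹ * b) := by
  have hα := h.root_ne_zero
  have h1 : b = AdjoinRoot.root π * ((AdjoinRoot.root π)⁻¹ * b) := by
    rw [← mul_assoc, mul_inv_cancel₀ hα, one_mul]
  nth_rewrite 1 [h1]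
  rw [hβ.inv]

theorem InvForm.shift (hβ : InvForm β) (h : SelfRec π c) (x a b : AdjoinRoot π) :
    β (x * a) b = β a (h.sigma x * b) := by
  obtain ⟨p, rfl⟩ := AdjoinRoot.mk_surjective x
  induction p using Polynomial.induction_on generalizing a b with
  | C r =>
    have h1 : AdjoinRoot.mk π (C r) = algebraMap F (AdjoinRoot π) r := rfl
    rw [h1, AlgHom.commutes, Algebra.algebraMap_eq_smul_one, smul_mul_assoc, one_mul,
      smul_mul_assoc, one_mul, map_smul, LinearMap.smul_apply, map_smul]
  | add p q hp hq =>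
    rw [map_add, add_mul, map_add, LinearMap.add_apply, hp, hq, map_add, add_mul, map_add]
  | monomial n r ih =>
    have h1 : AdjoinRoot.mk π (C r * X ^ (n + 1)) =
        AdjoinRoot.mk π (C r * X ^ n) * AdjoinRoot.root π := by
      rw [pow_succ, ← mul_assoc, map_mul, AdjoinRoot.mk_X]
    rw [h1, mul_assoc, ih, hβ.shift_root h]
    congr 1
    rw [map_mul h.sigma, h.sigma_root]
    ring

theorem InvForm.repr (hβ : InvForm β) (h : SelfRec π c) (a b : AdjoinRoot π) :
    β a b = β 1 (h.sigma a * b) := by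
  have := hβ.shift h a 1 b
  rwa [mul_one] at this

theorem InvForm.skew (hβ : InvForm β) (a b : AdjoinRoot π) : β b a = - β a b := by
  have h := hβ.alt (a + b)
  simp only [map_add, LinearMap.add_apply, hβ.alt, zero_add, add_zero] at h
  exact eq_neg_of_add_eq_zero_left h

theorem InvForm.tau_sigma (hβ : InvForm β) (h : SelfRec π c) (z : AdjoinRoot π) :
    β 1 (h.sigma z) = - β 1 z := by
  have h1 := hβ.repr h z 1
  rw [mul_one] at h1
  rw [← h1, hβ.skew]

section finite
variable [Fintype F]

/-- two invariant forms differ by a fixed point of the involution -/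
theorem InvForm.exists_scale (hβ : InvForm β) (hβ' : InvForm β') (h : SelfRec π c) :
    ∃ e : AdjoinRoot π, e ≠ 0 ∧ h.sigma e = e ∧ ∀ z, β' 1 (e * z) = β 1 z := by
  have hfin : Module.Finite F (AdjoinRoot π) := h.monic.finite_adjoinRoot
  -- `τ' ≠ 0`
  have hτ' : ∀ e : AdjoinRoot π, (∀ z, β' 1 (e * z) = 0) → e = 0 := by
    intro e he
    by_contra he0
    have h1 : ∀ w, β' 1 w = 0 := by
      intro w
      have := he (e⁻¹ * w)
      rwa [← mul_assoc, mul_inv_cancel₀ he0, one_mul] at this
    have h2 : (1 : AdjoinRoot π) = 0 := hβ'.nd 1 h1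
    exact one_ne_zero h2
  let Θ : AdjoinRoot π →ₗ[F] Module.Dual F (AdjoinRoot π) :=
    (LinearMap.mul F (AdjoinRoot π)).compr₂ (β' 1)
  have hΘ : ∀ e z, Θ e z = β' 1 (e * z) := fun e z => rfl
  have hinj : Function.Injective Θ := by
    rw [← LinearMap.ker_eq_bot, LinearMap.ker_eq_bot']
    intro e he
    apply hτ' e
    intro z
    rw [← hΘ, he, LinearMap.zero_apply]
  have hsurj : Function.Surjective Θ := by
    apply (LinearMap.injective_iff_surjective_of_finrank_eq_finrank ?_).1 hinj
    rw [Subspace.dual_finrank_eq]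
  obtain ⟨e, he⟩ := hsurj (β 1)
  have hez : ∀ z, β' 1 (e * z) = β 1 z := by
    intro z
    rw [← hΘ, he]
  have he0 : e ≠ 0 := by
    rintro rfl
    have h1 : ∀ w, β 1 w = 0 := by
      intro w
      rw [← hez, zero_mul, map_zero]
    exact one_ne_zero (hβ.nd 1 h1)
  refine ⟨e, he0, ?_, hez⟩
  -- `σ e = e`
  have h1 : ∀ z, β' 1 ((h.sigma e - e) * z) = 0 := by
    intro z
    have h2 : β' 1 (h.sigma e * z) = β' 1 (h.sigma (e * h.sigma z)) := by
      rw [map_mul h.sigma, h.sigma_sigma]
    rw [sub_mul, map_sub, h2, hβ'.tau_sigma h, hez, hβ.tau_sigma h, hez, neg_neg, sub_self]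
  exact sub_eq_zero.1 (hτ' _ h1)

/-- two invariant forms are isometric by a multiplication -/
theorem InvForm.exists_isometry (hβ : InvForm β) (hβ' : InvForm β') (h : SelfRec π c) :
    ∃ a : AdjoinRoot π, a ≠ 0 ∧ ∀ x y, β' (a * x) (a * y) = β x y := by
  obtain ⟨e, he0, heσ, hez⟩ := hβ.exists_scale hβ' h
  obtain ⟨a, ha0, ha⟩ := h.exists_norm e he0 heσ
  refine ⟨a, ha0, ?_⟩
  intro x y
  rw [hβ'.repr h, map_mul h.sigma, hβ.repr h x y, ← hez]
  congr 1
  rw [← ha]
  ring

end finite

end Cfsg.Agent.Lib.H12.SpSemi
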