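import Mathlib
import Cfsg.Agent.Lib.H12.SpSemiC
import Cfsg.Agent.Lib.H12.SpSemiE

/-!
# Peeling lemmas for semisimple isometries of alternating forms (helper12)
-/

set_option autoImplicit false
set_option linter.unusedSectionVars false
open Polynomial

namespace Cfsg.Agent.Lib.H12.SpSemi

open Cfsg.Agent.Lib.H12.Semi

universe u v
variable {F : Type u} [Field F] {V : Type v} [AddCommGroup V] [Module F V]
  [FiniteDimensional F V]
variable {B : LinearMap.BilinForm F V} {g : Module.End F V}

theorem aeval_comm_apply (g : Module.End F V) (p r : F[X]) (x : V) :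
    aeval g p (aeval g r x) = aeval g r (aeval g p x) := by
  rw [← aeval_mul_apply_comm, ← aeval_mul_apply_comm, mul_comm]

theorem aeval_eq_zero_of_mem_cyc {g : Module.End F V} {π : F[X]} {v x : V}
    (hv : aeval g π v = 0) (hx : x ∈ cyc g v) : aeval g π x = 0 := by
  obtain ⟨a, rfl⟩ := (mem_cyc_iff g v x).1 hx
  rw [aeval_comm_apply, hv, map_zero]

theorem finrank_cyc (g : Module.End F V) {v : V} (hv : v ≠ 0) {π : F[X]} (hpi : Irreducible π)
    (hm : π.Monic) (h : aeval g π v = 0) : Module.finrank F (cyc g v) = π.natDegree := by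
  rw [← LinearMap.charpoly_natDegree (res g (cyc_invt g v)), charpoly_restrict_cyc g hv hpi hm h]

theorem cyc_le_of_mem {g : Module.End F V} {v x : V} (hx : x ∈ cyc g v) : cyc g x ≤ cyc g v := by
  intro y hy
  obtain ⟨a, rfl⟩ := (mem_cyc_iff g v x).1 hx
  obtain ⟨b, rfl⟩ := (mem_cyc_iff g _ y).1 hy
  rw [mem_cyc_iff]
  exact ⟨a * b, aeval_mul_apply_comm g a b v⟩

theorem cyc_eq_of_mem {g : Module.End F V} {v x : V} (hv : v ≠ 0) {π : F[X]}
    (hpi : Irreducible π) (hm : π.Monic) (h : aeval g π v = 0) (hx : x ∈ cyc g v) (hx0 : x ≠ 0) :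
    cyc g x = cyc g v := by
  apply Submodule.eq_of_le_of_finrank_eq (cyc_le_of_mem hx)
  rw [finrank_cyc g hv hpi hm h, finrank_cyc g hx0 hpi hm (aeval_eq_zero_of_mem_cyc h hx)]

theorem mem_of_invt_aeval {g : Module.End F V} {H : Submodule F V} (hH : H ∈ g.invtSubmodule)
    (p : F[X]) {x : V} (hx : x ∈ H) : aeval g p x ∈ H := by
  have := aeval_res_apply g hH p ⟨x, hx⟩
  rw [← this]
  exact Subtype.mem _

/-- for a semisimple endomorphism, `V = ker π(g) + range π(g)` -/
theorem exists_ker_add_range (hss : g.IsSemisimple) (π : F[X]) (z : V) :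
    ∃ z1 z2 : V, aeval g π z1 = 0 ∧ z = z1 + aeval g π z2 := by
  set K := LinearMap.ker (aeval g π) with hK
  have hKinv : K ∈ g.invtSubmodule := by
    rw [Module.End.mem_invtSubmodule_iff_forall_mem_of_mem g]
    intro x hx
    rw [hK, LinearMap.mem_ker] at hx ⊢
    have h1 : aeval g π (g x) = aeval g π (aeval g (X : F[X]) x) := by rw [aeval_X]
    rw [h1, aeval_comm_apply, hx, map_zero]
  obtain ⟨C, hC, hc⟩ := Module.End.isSemisimple_iff.mp hss K hKinv
  -- `π(g)` is injective on `C`, hence surjective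
  let T : C →ₗ[F] C := LinearMap.restrict (aeval g π) (fun x hx => mem_of_invt_aeval hC π hx)
  have hT : Function.Injective T := by
    rw [← LinearMap.ker_eq_bot, LinearMap.ker_eq_bot']
    intro x hx
    have h1 : aeval g π (x : V) = 0 := congrArg Subtype.val hx
    have h2 : (x : V) ∈ K ⊓ C := ⟨LinearMap.mem_ker.2 h1, x.2⟩
    rw [hc.inf_eq_bot, Submodule.mem_bot] at h2
    exact Subtype.ext h2
  have hTs : Function.Surjective T := LinearMap.surjective_of_injective hT
  have hz : z ∈ K ⊔ C := by rw [hc.sup_eq_top]; exact Submodule.mem_top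
  obtain ⟨z1, hz1, c, hcC, rfl⟩ := Submodule.mem_sup.1 hz
  obtain ⟨c', hc'⟩ := hTs ⟨c, hcC⟩
  refine ⟨z1, (c' : V), LinearMap.mem_ker.1 hz1, ?_⟩
  have : aeval g π (c' : V) = c := congrArg Subtype.val hc'
  rw [this]

/-- for self-reciprocal `π`, the form is non-degenerate on `ker π(g)` -/
theorem SpData.nd_ker (h : SpData B g) (hss : g.IsSemisimple) {π : F[X]} {c : F} (hc : c ≠ 0)
    (hrev : π.reverse = C c * π) {x : V} (hx : aeval g π x = 0)
    (hxy : ∀ y, aeval g π y = 0 → B x y = 0) : x = 0 := by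
  apply h.nd
  intro z
  obtain ⟨z1, z2, hz1, rfl⟩ := exists_ker_add_range hss π z
  rw [map_add, hxy z1 hz1, h.ortho_range hc hrev hx, add_zero]

/-- an irreducible monic polynomial killing a nonzero vector of an injective endomorphism has
nonzero constant coefficient -/
theorem coeff_zero_ne_of_injective (hinj : Function.Injective g) {π : F[X]} (hpi : Irreducible π)
    (hm : π.Monic) {v : V} (hv : v ≠ 0) (h : aeval g π v = 0) : π.coeff 0 ≠ 0 := by
  intro h0
  have h1 : (X : F[X]) ∣ π := X_dvd_iff.2 h0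
  have h2 : π ∣ X := (irreducible_X (R := F)).dvd_symm hpi h1
  have h3 := (evalAt_eq_zero_iff g hv hpi h X).2 h2
  rw [aeval_X] at h3
  exact hv (hinj (by rw [h3, map_zero]))

theorem reverse_reverse_of_coeff_zero_ne {π : F[X]} (h0 : π.coeff 0 ≠ 0) :
    π.reverse.reverse = π := by
  have h1 : π.natTrailingDegree = 0 := natTrailingDegree_eq_zero.2 (Or.inr h0)
  have h2 : π.reverse.natDegree = π.natDegree := by rw [reverse_natDegree, h1, Nat.sub_zero]
  ext i
  rw [coeff_reverse, coeff_reverse, h2, revAt_invol]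

/-- the dichotomy for an irreducible polynomial and its reverse -/
theorem reverse_dichotomy {π : F[X]} (hpi : Irreducible π) (hm : π.Monic) (h0 : π.coeff 0 ≠ 0) :
    IsCoprime π π.reverse ∨ ∃ c : F, c ≠ 0 ∧ π.reverse = C c * π := by
  by_cases hd : π ∣ π.reverse
  · right
    obtain ⟨r, hr⟩ := hd
    have hrev0 : π.reverse ≠ 0 := by
      rw [Ne, reverse_eq_zero]
      exact hm.ne_zero
    have hr0 : r ≠ 0 := by
      rintro rfl
      rw [mul_zero] at hr
      exact hrev0 hr
    have h1 : π.reverse.natDegree = π.natDegree + r.natDegree := by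
      rw [hr, natDegree_mul hm.ne_zero hr0]
    have h2 := reverse_natDegree_le π
    have h3 : r.natDegree = 0 := by omega
    rw [natDegree_eq_zero] at h3
    obtain ⟨c, rfl⟩ := h3
    refine ⟨c, ?_, ?_⟩
    · rintro rfl
      exact hr0 (by simp)
    · rw [hr, mul_comm]
  · left
    exact (Irreducible.coprime_iff_not_dvd hpi).2 hd

end Cfsg.Agent.Lib.H12.SpSemi
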