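import Mathlib
import Cfsg.Agent.Lib.H12.SpSemiF

/-!
# The three kinds of pieces of a semisimple isometry (helper12)
-/

set_option autoImplicit false
set_option linter.unusedSectionVars false
open Polynomial

namespace Cfsg.Agent.Lib.H12.SpSemi

open Cfsg.Agent.Lib.H12.Semi

universe u v
variable {F : Type u} [Field F] {V : Type v} [AddCommGroup V] [Module F V]
  [FiniteDimensional F V]
variable {B : LinearMap.BilinForm F V} {g : Module.End F V}

/-- type I: `π` coprime to its reverse; the cyclic subspace has an isotropic invariant partner -/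
theorem exists_hyp_of_coprime (h : SpData B g) (hss : g.IsSemisimple) {π : F[X]}
    (hpi : Irreducible π) (hm : π.Monic) (hco : IsCoprime π π.reverse) {v : V} (hv : v ≠ 0)
    (hπv : aeval g π v = 0) : ∃ W2 : Submodule F V, HypPair B g (cyc g v) W2 := by
  have h0 : π.coeff 0 ≠ 0 := coeff_zero_ne_of_injective h.injective hpi hm hv hπv
  have hrr : π.reverse.reverse = π := reverse_reverse_of_coeff_zero_ne h0
  have hinv1 : cyc g v ∈ g.invtSubmodule := cyc_invt g v
  have hPinv := h.orthogonal_invt hinv1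
  obtain ⟨W2, hW2, hc⟩ := Module.End.isSemisimple_iff.mp hss _ hPinv
  -- elements of `W2` are killed by the reverse polynomial
  have hkill : ∀ y ∈ W2, aeval g π.reverse y = 0 := by
    intro y hy
    have h1 : aeval g π.reverse y ∈ W2 := mem_of_invt_aeval hW2 _ hy
    have h2 : aeval g π.reverse y ∈ B.orthogonal (cyc g v) := by
      rw [LinearMap.BilinForm.mem_orthogonal_iff]
      intro x hx
      change B x (aeval g π.reverse y) = 0
      rw [← h.form_reverse, aeval_eq_zero_of_mem_cyc hπv hx, map_zero, LinearMap.zero_apply]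
    have h3 : aeval g π.reverse y ∈ B.orthogonal (cyc g v) ⊓ W2 := ⟨h2, h1⟩
    rw [hc.inf_eq_bot, Submodule.mem_bot] at h3
    exact h3
  refine ⟨W2, ⟨hinv1, hW2, ?_, ?_, ?_, ?_⟩⟩
  · intro x hx y hy
    exact h.ortho_of_coprime hco (aeval_eq_zero_of_mem_cyc hπv hx)
      (aeval_eq_zero_of_mem_cyc hπv hy)
  · intro x hx y hy
    have hco' : IsCoprime π.reverse π.reverse.reverse := by rw [hrr]; exact hco.symm
    exact h.ortho_of_coprime hco' (hkill x hx) (hkill y hy)
  · intro x hx hxy
    apply h.nd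
    intro z
    have hz : z ∈ B.orthogonal (cyc g v) ⊔ W2 := by rw [hc.sup_eq_top]; exact Submodule.mem_top
    obtain ⟨z1, hz1, z2, hz2, rfl⟩ := Submodule.mem_sup.1 hz
    rw [map_add, hxy z2 hz2, add_zero]
    rw [LinearMap.BilinForm.mem_orthogonal_iff] at hz1
    exact hz1 x hx
  · intro y hy hxy
    have h3 : y ∈ B.orthogonal (cyc g v) ⊓ W2 := by
      refine ⟨?_, hy⟩
      exact LinearMap.BilinForm.mem_orthogonal_iff.2 hxy
    rw [hc.inf_eq_bot, Submodule.mem_bot] at h3
    exact h3

/-- type III: `π` of degree one and self-reciprocal -/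
theorem exists_hyp_of_linear (h : SpData B g) (hss : g.IsSemisimple) {π : F[X]}
    (hpi : Irreducible π) (hm : π.Monic) (hd : π.natDegree = 1) {c : F} (hc : c ≠ 0)
    (hrev : π.reverse = C c * π) {v : V} (hv : v ≠ 0)
    (hπv : aeval g π v = 0) : ∃ W2 : Submodule F V, HypPair B g (cyc g v) W2 := by
  -- a partner vector
  obtain ⟨y, hπy, hvy⟩ : ∃ y, aeval g π y = 0 ∧ B v y ≠ 0 := by
    by_contra hcon
    push Not at hcon
    exact hv (h.nd_ker hss hc hrev hπv hcon)
  have hy0 : y ≠ 0 := by
    rintro rfl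
    rw [map_zero] at hvy
    exact hvy rfl
  have hmul : ∀ {u : V} (hu : u ≠ 0) (hπu : aeval g π u = 0) (x : V), x ∈ cyc g u →
      ∃ a : F, x = a • u := by
    intro u hu hπu x hx
    have h1 : Module.finrank F (cyc g u) = 1 := by rw [finrank_cyc g hu hpi hm hπu, hd]
    have h2 : (⟨u, self_mem_cyc g u⟩ : cyc g u) ≠ 0 := fun h0 => hu (congrArg Subtype.val h0)
    obtain ⟨a, ha⟩ := (finrank_eq_one_iff_of_nonzero' _ h2).1 h1 ⟨x, hx⟩
    exact ⟨a, (congrArg Subtype.val ha).symm⟩
  refine ⟨cyc g y, ⟨cyc_invt g v, cyc_invt g y, ?_, ?_, ?_, ?_⟩⟩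
  · intro x hx x' hx'
    obtain ⟨a, rfl⟩ := hmul hv hπv x hx
    obtain ⟨a', rfl⟩ := hmul hv hπv x' hx'
    rw [map_smul, map_smul, LinearMap.smul_apply, h.alt, smul_zero, smul_zero]
  · intro x hx x' hx'
    obtain ⟨a, rfl⟩ := hmul hy0 hπy x hx
    obtain ⟨a', rfl⟩ := hmul hy0 hπy x' hx'
    rw [map_smul, map_smul, LinearMap.smul_apply, h.alt, smul_zero, smul_zero]
  · intro x hx hxy
    obtain ⟨a, rfl⟩ := hmul hv hπv x hx
    have h1 := hxy y (self_mem_cyc g y)
    rw [map_smul, LinearMap.smul_apply, smul_eq_mul] at h1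
    rcases mul_eq_zero.1 h1 with h2 | h2
    · rw [h2, zero_smul]
    · exact absurd h2 hvy
  · intro x hx hxy
    obtain ⟨a, rfl⟩ := hmul hy0 hπy x hx
    have h1 := hxy v (self_mem_cyc g v)
    rw [map_smul, smul_eq_mul] at h1
    rcases mul_eq_zero.1 h1 with h2 | h2
    · rw [h2, zero_smul]
    · exact absurd h2 hvy

/-- type II: a self-reciprocal `π` of degree at least two has a non-degenerate cyclic subspace -/
theorem exists_nd_cyc (h : SpData B g) (hss : g.IsSemisimple) {π : F[X]}
    (hpi : Irreducible π) (hm : π.Monic) (hd : 2 ≤ π.natDegree) {c : F} (hc : c ≠ 0)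
    (hrev : π.reverse = C c * π) {v : V} (hv : v ≠ 0) (hπv : aeval g π v = 0) :
    ∃ v1 : V, v1 ≠ 0 ∧ aeval g π v1 = 0 ∧
      ∀ x ∈ cyc g v1, (∀ y ∈ cyc g v1, B x y = 0) → x = 0 := by
  by_contra hcon
  push Not at hcon
  -- every cyclic subspace is totally isotropic
  have hiso : ∀ u : V, aeval g π u = 0 → B u (g u) = 0 := by
    intro u hπu
    by_cases hu : u = 0
    · rw [hu, map_zero, LinearMap.zero_apply]
    obtain ⟨x, hx, hxy, hx0⟩ := hcon u hu hπu
    have hcyc : cyc g x = cyc g u := cyc_eq_of_mem hu hpi hm hπu hx hx0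
    -- the radical contains `cyc g x`
    have hrad : ∀ a : F[X], ∀ y ∈ cyc g u, B (aeval g a x) y = 0 := by
      intro a
      induction a using Polynomial.induction_on with
      | C r =>
        intro y hy
        rw [aeval_C, Module.algebraMap_end_apply, map_smul, LinearMap.smul_apply, hxy y hy,
          smul_zero]
      | add p q hp hq =>
        intro y hy
        rw [map_add, LinearMap.add_apply, map_add, LinearMap.add_apply, hp y hy, hq y hy, add_zero]
      | monomial n r ih =>
        intro y hy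
        have hy' : y ∈ (cyc g u).map g := by rw [h.map_eq (cyc_invt g u)]; exact hy
        obtain ⟨y0, hy0, rfl⟩ := hy'
        have h1 : aeval g (C r * X ^ (n + 1)) x = g (aeval g (C r * X ^ n) x) := by
          rw [pow_succ, ← mul_assoc, mul_comm, map_mul, aeval_X, Module.End.mul_apply]
        rw [h1, h.iso]
        exact ih y0 hy0
    have hu' : u ∈ cyc g x := by rw [hcyc]; exact self_mem_cyc g u
    obtain ⟨a, ha⟩ := (mem_cyc_iff g x u).1 hu'
    rw [← ha]
    apply hrad a
    have h2 : g (aeval g a x) = aeval g (a * X) x := by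
      rw [mul_comm, map_mul, aeval_X, Module.End.mul_apply]
    rw [h2, ← hcyc, mem_cyc_iff]
    exact ⟨a * X, rfl⟩
  have hgker : ∀ u : V, aeval g π u = 0 → aeval g π (g u) = 0 := by
    intro u hu
    have h1 : aeval g π (g u) = aeval g π (aeval g (X : F[X]) u) := by rw [aeval_X]
    rw [h1, aeval_comm_apply, hu, map_zero]
  -- polarisation
  have hpol : ∀ x y : V, aeval g π x = 0 → aeval g π y = 0 → B x (g y) + B y (g x) = 0 := by
    intro x y hx hy
    have h1 := hiso (x + y) (by rw [map_add, hx, hy, add_zero])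
    simp only [map_add, LinearMap.add_apply] at h1
    rw [hiso x hx, hiso y hy] at h1
    linear_combination h1
  have hsq : ∀ y : V, aeval g π y = 0 → g (g y) - y = 0 := by
    intro y hy
    have hπ2 : aeval g π (g (g y) - y) = 0 := by
      rw [map_sub, hgker _ (hgker y hy), hy, sub_zero]
    apply h.nd_ker hss hc hrev hπ2
    intro x hx
    have h1 := hpol x (g y) hx (hgker y hy)
    rw [h.iso] at h1
    rw [map_sub, LinearMap.sub_apply, h.skew x (g (g y))]
    linear_combination -h1
  -- hence `π ∣ X² - 1`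
  have h1 : aeval g (X * X - 1 : F[X]) v = 0 := by
    rw [map_sub, map_mul, aeval_X, map_one, LinearMap.sub_apply, Module.End.mul_apply,
      Module.End.one_apply]
    exact hsq v hπv
  have h2 : π ∣ (X * X - 1 : F[X]) := (evalAt_eq_zero_iff g hv hpi hπv _).1 h1
  have h3 : (X * X - 1 : F[X]) = (X - 1) * (X + 1) := by ring
  rw [h3] at h2
  rcases hpi.prime.dvd_or_dvd h2 with h4 | h4
  · have := Polynomial.natDegree_le_of_dvd h4 (X_sub_C_ne_zero (1 : F))
    rw [show (X - 1 : F[X]) = X - C 1 by simp, natDegree_X_sub_C] at this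
    omega
  · have h5 : (X + 1 : F[X]) = X - C (-1) := by simp
    rw [h5] at h4
    have := Polynomial.natDegree_le_of_dvd h4 (X_sub_C_ne_zero (-1 : F))
    rw [natDegree_X_sub_C] at this
    omega

end Cfsg.Agent.Lib.H12.SpSemi
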