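import Mathlib
import Cfsg.Agent.Lib.H12.SpSemiG

/-!
# Semisimple isometries of alternating forms with equal characteristic polynomial (helper12)
-/

set_option autoImplicit false
set_option linter.unusedSectionVars false
open Polynomial

namespace Cfsg.Agent.Lib.H12.SpSemi

open Cfsg.Agent.Lib.H12.Semi

universe u v
variable {F : Type u} [Field F] [Fintype F] {V : Type v} [AddCommGroup V] [Module F V]
  [FiniteDimensional F V] {W : Type v} [AddCommGroup W] [Module F W] [FiniteDimensional F W]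
variable {B : LinearMap.BilinForm F V} {g : Module.End F V}
  {B' : LinearMap.BilinForm F W} {g' : Module.End F W}

/-- multiplication by a nonzero element as a linear equivalence -/
noncomputable def mulEquiv {K : Type*} [Field K] [Algebra F K] (a : K) (ha : a ≠ 0) : K ≃ₗ[F] K where
  toFun x := a * x
  invFun x := a⁻¹ * x
  map_add' x y := mul_add a x y
  map_smul' r x := by simp
  left_inv x := by simp [← mul_assoc, inv_mul_cancel₀ ha]
  right_inv x := by simp [← mul_assoc, mul_inv_cancel₀ ha]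

theorem phi1_equivariant {π : F[X]} (hpi : Irreducible π) {v : V} (hv : v ≠ 0)
    (hπv : aeval g π v = 0) {w : W} (hw : w ≠ 0) (hπw : aeval g' π w = 0) (z : cyc g v) :
    ((cycEquiv g hv hpi hπv).symm ≪≫ₗ cycEquiv g' hw hpi hπw) (res g (cyc_invt g v) z) =
      res g' (cyc_invt g' w) (((cycEquiv g hv hpi hπv).symm ≪≫ₗ cycEquiv g' hw hpi hπw) z) := by
  obtain ⟨a, rfl⟩ := (cycEquiv g hv hpi hπv).surjective z
  rw [res_cycEquiv, LinearEquiv.trans_apply, LinearEquiv.trans_apply,
    LinearEquiv.symm_apply_apply, LinearEquiv.symm_apply_apply, res_cycEquiv]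

/-- the common piece -/
theorem exists_piece (hV : SpData B g) (hW : SpData B' g') (hssV : g.IsSemisimple)
    (hssW : g'.IsSemisimple) {π : F[X]} (hpi : Irreducible π) (hm : π.Monic) {v : V} (hv : v ≠ 0)
    (hπv : aeval g π v = 0) {w : W} (hw : w ≠ 0) (hπw : aeval g' π w = 0) :
    ∃ (H : Submodule F V) (H' : Submodule F W) (hH : H ∈ g.invtSubmodule)
      (hH' : H' ∈ g'.invtSubmodule), H ≠ ⊥ ∧ (∀ x ∈ H, (∀ y ∈ H, B x y = 0) → x = 0) ∧
      (∀ x ∈ H', (∀ y ∈ H', B' x y = 0) → x = 0) ∧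
      ∃ e : H ≃ₗ[F] H', (∀ z, e (res g hH z) = res g' hH' (e z)) ∧
        ∀ x y : H, B' (e x) (e y) = B x y := by
  have h0 : π.coeff 0 ≠ 0 := coeff_zero_ne_of_injective hV.injective hpi hm hv hπv
  have hyp : ∀ (W2 : Submodule F V) (W2' : Submodule F W), HypPair B g (cyc g v) W2 →
      HypPair B' g' (cyc g' w) W2' →
      ∃ (H : Submodule F V) (H' : Submodule F W) (hH : H ∈ g.invtSubmodule)
      (hH' : H' ∈ g'.invtSubmodule), H ≠ ⊥ ∧ (∀ x ∈ H, (∀ y ∈ H, B x y = 0) → x = 0) ∧
      (∀ x ∈ H', (∀ y ∈ H', B' x y = 0) → x = 0) ∧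
      ∃ e : H ≃ₗ[F] H', (∀ z, e (res g hH z) = res g' hH' (e z)) ∧
        ∀ x y : H, B' (e x) (e y) = B x y := by
    intro W2 W2' hp hp'
    obtain ⟨e, he1, he2⟩ := hp.extend hV hW hp'
      ((cycEquiv g hv hpi hπv).symm ≪≫ₗ cycEquiv g' hw hpi hπw)
      (phi1_equivariant hpi hv hπv hw hπw)
    refine ⟨_, _, hp.sup_invt, hp'.sup_invt, ?_, hp.nd_sup hV, hp'.nd_sup hW, e, he1, he2⟩
    intro hbot
    have : v ∈ cyc g v ⊔ W2 := Submodule.mem_sup_left (self_mem_cyc g v)
    rw [hbot, Submodule.mem_bot] at this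
    exact hv this
  rcases reverse_dichotomy hpi hm h0 with hco | ⟨c, hc, hrev⟩
  · obtain ⟨W2, hp⟩ := exists_hyp_of_coprime hV hssV hpi hm hco hv hπv
    obtain ⟨W2', hp'⟩ := exists_hyp_of_coprime hW hssW hpi hm hco hw hπw
    exact hyp W2 W2' hp hp'
  · rcases Nat.lt_or_ge π.natDegree 2 with hd | hd
    · have hd1 : π.natDegree = 1 := by
        have := hpi.natDegree_pos
        omega
      obtain ⟨W2, hp⟩ := exists_hyp_of_linear hV hssV hpi hm hd1 hc hrev hv hπv
      obtain ⟨W2', hp'⟩ := exists_hyp_of_linear hW hssW hpi hm hd1 hc hrev hw hπw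
      exact hyp W2 W2' hp hp'
    · obtain ⟨v1, hv1, hπv1, hnd1⟩ := exists_nd_cyc hV hssV hpi hm hd hc hrev hv hπv
      obtain ⟨w1, hw1, hπw1, hnd1'⟩ := exists_nd_cyc hW hssW hpi hm hd hc hrev hw hπw
      have : Fact (Irreducible π) := ⟨hpi⟩
      have hsr : SelfRec π c := ⟨hm, hc, hrev, hd⟩
      set ψ := cycEquiv g hv1 hpi hπv1 with hψ
      set ψ' := cycEquiv g' hw1 hpi hπw1 with hψ'
      let ι : AdjoinRoot π →ₗ[F] V := (cyc g v1).subtype ∘ₗ ψ.toLinearMap
      let ι' : AdjoinRoot π →ₗ[F] W := (cyc g' w1).subtype ∘ₗ ψ'.toLinearMap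
      have hι : ∀ a, ι a = (ψ a : V) := fun a => rfl
      have hι' : ∀ a, ι' a = (ψ' a : W) := fun a => rfl
      set β : LinearMap.BilinForm F (AdjoinRoot π) := B.compl₁₂ ι ι with hβ
      set β' : LinearMap.BilinForm F (AdjoinRoot π) := B'.compl₁₂ ι' ι' with hβ'
      have hβa : ∀ a b, β a b = B (ψ a : V) (ψ b : V) := fun a b => rfl
      have hβ'a : ∀ a b, β' a b = B' (ψ' a : W) (ψ' b : W) := fun a b => rfl
      have hIβ : InvForm β := by
        refine ⟨fun a => hV.alt _, ?_, ?_⟩
        · intro a ha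
          have h1 : (ψ a : V) = 0 := by
            apply hnd1 _ (ψ a).2
            intro y hy
            obtain ⟨b, hb⟩ := ψ.surjective ⟨y, hy⟩
            have := ha b
            rw [hβa, hb] at this
            exact this
          have h2 : ψ a = 0 := Subtype.ext h1
          exact (LinearEquiv.map_eq_zero_iff ψ).1 h2
        · intro a b
          rw [hβa, hβa, hψ, cycEquiv_root_mul, cycEquiv_root_mul, hV.iso]
      have hIβ' : InvForm β' := by
        refine ⟨fun a => hW.alt _, ?_, ?_⟩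
        · intro a ha
          have h1 : (ψ' a : W) = 0 := by
            apply hnd1' _ (ψ' a).2
            intro y hy
            obtain ⟨b, hb⟩ := ψ'.surjective ⟨y, hy⟩
            have := ha b
            rw [hβ'a, hb] at this
            exact this
          have h2 : ψ' a = 0 := Subtype.ext h1
          exact (LinearEquiv.map_eq_zero_iff ψ').1 h2
        · intro a b
          rw [hβ'a, hβ'a, hψ', cycEquiv_root_mul, cycEquiv_root_mul, hW.iso]
      obtain ⟨a0, ha0, hiso⟩ := hIβ.exists_isometry hIβ' hsr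
      refine ⟨cyc g v1, cyc g' w1, cyc_invt g v1, cyc_invt g' w1, ?_, hnd1, hnd1',
        (ψ.symm ≪≫ₗ mulEquiv a0 ha0) ≪≫ₗ ψ', ?_, ?_⟩
      · intro hbot
        have : v1 ∈ cyc g v1 := self_mem_cyc g v1
        rw [hbot, Submodule.mem_bot] at this
        exact hv1 this
      · intro z
        obtain ⟨k, rfl⟩ := ψ.surjective z
        rw [hψ, res_cycEquiv]
        simp only [LinearEquiv.trans_apply, LinearEquiv.symm_apply_apply]
        have hmul : (mulEquiv (F := F) a0 ha0) (AdjoinRoot.root π * k) =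
            AdjoinRoot.root π * (mulEquiv (F := F) a0 ha0 k) := by
          change a0 * (AdjoinRoot.root π * k) = AdjoinRoot.root π * (a0 * k)
          ring
        rw [hmul, hψ', res_cycEquiv]
      · intro x y
        obtain ⟨k, rfl⟩ := ψ.surjective x
        obtain ⟨l, rfl⟩ := ψ.surjective y
        simp only [LinearEquiv.trans_apply, LinearEquiv.symm_apply_apply]
        change B' (ψ' (a0 * k) : W) (ψ' (a0 * l) : W) = B (ψ k : V) (ψ l : V)
        rw [← hβ'a, ← hβa, hiso]

end Cfsg.Agent.Lib.H12.SpSemi
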