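import Mathlib
import Cfsg.Agent.Lib.H12.SpSemiH

/-!
# Semisimple isometries of alternating forms with equal characteristic polynomial are
isometrically conjugate (helper12)
-/

set_option autoImplicit false
set_option linter.unusedSectionVars false
open Polynomial

namespace Cfsg.Agent.Lib.H12.SpSemi

open Cfsg.Agent.Lib.H12.Semi

universe u v
variable {F : Type u} [Field F] [Fintype F]

theorem charpoly_res_eq_of_equiv {V W : Type v} [AddCommGroup V] [Module F V]
    [FiniteDimensional F V] [AddCommGroup W] [Module F W] [FiniteDimensional F W]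
    {g : Module.End F V} {g' : Module.End F W} {H : Submodule F V} {H' : Submodule F W}
    (hH : H ∈ g.invtSubmodule) (hH' : H' ∈ g'.invtSubmodule) (e : H ≃ₗ[F] H')
    (he : ∀ z, e (res g hH z) = res g' hH' (e z)) :
    (res g hH).charpoly = (res g' hH').charpoly := by
  have h1 : res g' hH' = e.conj (res g hH) := by
    apply LinearMap.ext
    intro x
    rw [LinearEquiv.conj_apply_apply, he, LinearEquiv.apply_symm_apply]
  rw [h1, LinearEquiv.charpoly_conj]

theorem exists_isometry_of_charpoly_eq : ∀ (n : ℕ) (V W : Type v) [AddCommGroup V] [Module F V]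
    [FiniteDimensional F V] [AddCommGroup W] [Module F W] [FiniteDimensional F W]
    (B : LinearMap.BilinForm F V) (g : Module.End F V) (B' : LinearMap.BilinForm F W)
    (g' : Module.End F W), Module.finrank F V = n → SpData B g → SpData B' g' →
    g.IsSemisimple → g'.IsSemisimple → g.charpoly = g'.charpoly →
    ∃ e : V ≃ₗ[F] W, (∀ x, e (g x) = g' (e x)) ∧ ∀ x y, B' (e x) (e y) = B x y := by
  intro n
  induction n using Nat.strong_induction_on with
  | _ n ih =>
    intro V W _ _ _ _ _ _ B g B' g' hn hV hW hf hg hfg
    have hWn : Module.finrank F W = n := by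
      rw [← LinearMap.charpoly_natDegree g', ← hfg, LinearMap.charpoly_natDegree, hn]
    by_cases hn0 : n = 0
    · have hsW : Subsingleton W := Module.finrank_zero_iff.mp (by rw [hWn, hn0])
      have hsV : Subsingleton V := Module.finrank_zero_iff.mp (by rw [hn, hn0])
      refine ⟨LinearEquiv.ofFinrankEq V W (by rw [hn, hWn]), fun x => Subsingleton.elim _ _, ?_⟩
      intro x y
      rw [Subsingleton.elim x 0, Subsingleton.elim
        ((LinearEquiv.ofFinrankEq V W (by rw [hn, hWn])) 0) 0]
      simp
    · have hpos : 0 < Module.finrank F V := by omega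
      have hnt : Nontrivial V := Module.nontrivial_of_finrank_pos hpos
      have hmp : 0 < (minpoly F g).natDegree :=
        minpoly.natDegree_pos (Algebra.IsIntegral.isIntegral g)
      obtain ⟨pi, hpm, hpi, hpd⟩ := exists_monic_irreducible_factor hmp
      obtain ⟨v, hv0, hv⟩ := exists_ne_zero_of_dvd_minpoly g hpd hpi.natDegree_pos
      have hdvd : pi ∣ g'.charpoly := by
        rw [← hfg]
        exact hpd.trans (LinearMap.minpoly_dvd_charpoly g)
      obtain ⟨w, hw0, hw⟩ := exists_ne_zero_of_dvd_charpoly n W g' hWn hg pi hpi hdvd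
      obtain ⟨H, H', hH, hH', hne, hnd, hnd', e, he1, he2⟩ :=
        exists_piece hV hW hf hg hpi hpm hv0 hv hw0 hw
      have hc := hV.isCompl_orthogonal hnd
      have hc' := hW.isCompl_orthogonal hnd'
      have hP := hV.orthogonal_invt hH
      have hP' := hW.orthogonal_invt hH'
      have hcp := charpoly_of_isCompl g hH hP hc
      have hcp' := charpoly_of_isCompl g' hH' hP' hc'
      have hHH := charpoly_res_eq_of_equiv hH hH' e he1
      have hcc : (res g hP).charpoly = (res g' hP').charpoly := by
        rw [hcp, hcp', hHH] at hfg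
        exact mul_left_cancel₀ (LinearMap.charpoly_monic _).ne_zero hfg
      have hlt : Module.finrank F ↥(B.orthogonal H) < n := by
        have h1 := Submodule.finrank_add_eq_of_isCompl hc
        have h2 : 0 < Module.finrank F H := by
          rw [Module.finrank_pos_iff_exists_ne_zero]
          obtain ⟨x, hx, hx0⟩ := (Submodule.ne_bot_iff H).1 hne
          exact ⟨⟨x, hx⟩, fun h => hx0 (congrArg Subtype.val h)⟩
        omega
      obtain ⟨e1, he1a, he1b⟩ := ih _ hlt ↥(B.orthogonal H) ↥(B'.orthogonal H')
        (B.restrict _) (res g hP) (B'.restrict _) (res g' hP') rfl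
        (hV.restrict hP (hV.nd_orthogonal hnd)) (hW.restrict hP' (hW.nd_orthogonal hnd'))
        (res_isSemisimple hf hP) (res_isSemisimple hg hP') hcc
      exact glue_iso hV hW hH hH' hP hP' hc hc' e e1 he1 he2 he1a he1b

end Cfsg.Agent.Lib.H12.SpSemi
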