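import Mathlib
import Cfsg.Agent.Lib.H12.SpSemiI
import Cfsg.Agent.Lib.H12.SemiC
import Cfsg.Agent.Lib.H4.Symp
import Cfsg.Agent.Lib.H2.SpTrans

/-!
# Semisimple symplectic matrices with equal characteristic polynomial are conjugate in `Sp`
(helper12)
-/

set_option autoImplicit false
set_option linter.unusedSectionVars false
open Polynomial

namespace Cfsg.Agent.Lib.H12.SpSemi

open Cfsg.Agent.Lib.H12.Semi

universe u
variable {F : Type u} [Field F]

/-- the standard alternating form as a bilinear form -/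
noncomputable def stdForm (n : ℕ) (F : Type u) [Field F] :
    LinearMap.BilinForm F (Fin n ⊕ Fin n → F) :=
  Matrix.toBilin' (Matrix.J (Fin n) F)

theorem stdForm_apply (n : ℕ) (x y : Fin n ⊕ Fin n → F) :
    stdForm n F x y = Cfsg.sympForm n F x y := by
  rw [stdForm, Matrix.toBilin'_apply']
  rfl

theorem spData_of_mem (n : ℕ) {A : Matrix (Fin n ⊕ Fin n) (Fin n ⊕ Fin n) F}
    (hA : A ∈ Matrix.symplecticGroup (Fin n) F) : SpData (stdForm n F) (Matrix.toLin' A) where
  alt := by
    intro v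
    rw [stdForm_apply]
    exact Cfsg.Agent.Lib.H4.sympForm_self n v
  nd := by
    intro v hv
    by_contra hne
    obtain ⟨z, hz⟩ := Cfsg.Agent.Lib.H2.Sp.exists_sympForm_ne_zero n v hne
    apply hz
    rw [← stdForm_apply]
    exact hv z
  iso := by
    intro x y
    rw [stdForm_apply, stdForm_apply, Matrix.toLin'_apply, Matrix.toLin'_apply]
    exact (Cfsg.Agent.Lib.H4.mem_symplecticGroup_iff_sympForm n A).1 hA x y

theorem exists_symp_conj [Fintype F] (n : ℕ) (A A' : Matrix (Fin n ⊕ Fin n) (Fin n ⊕ Fin n) F)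
    (hA : A ∈ Matrix.symplecticGroup (Fin n) F) (hA' : A' ∈ Matrix.symplecticGroup (Fin n) F)
    (hg : Module.End.IsSemisimple (Matrix.toLin' A))
    (hh : Module.End.IsSemisimple (Matrix.toLin' A'))
    (hc : A.charpoly = A'.charpoly) :
    ∃ C ∈ Matrix.symplecticGroup (Fin n) F, C * A = A' * C := by
  have hcp : (Matrix.toLin' A).charpoly = (Matrix.toLin' A').charpoly := by
    rw [Matrix.charpoly_toLin', Matrix.charpoly_toLin', hc]
  have hdg := spData_of_mem n hA
  have hdh := spData_of_mem n hA'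
  have key := exists_isometry_of_charpoly_eq
    (Module.finrank F (Fin n ⊕ Fin n → F)) (Fin n ⊕ Fin n → F)
    (Fin n ⊕ Fin n → F) (stdForm n F) (Matrix.toLin' A) (stdForm n F)
    (Matrix.toLin' A') rfl
  obtain ⟨e, he, hiso⟩ := key hdg hdh hg hh hcp
  have hcmem : LinearMap.toMatrix' e.toLinearMap ∈ Matrix.symplecticGroup (Fin n) F := by
    rw [Cfsg.Agent.Lib.H4.mem_symplecticGroup_iff_sympForm]
    intro x y
    rw [LinearMap.toMatrix'_mulVec, LinearMap.toMatrix'_mulVec, ← stdForm_apply, ← stdForm_apply]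
    exact hiso x y
  refine ⟨_, hcmem, ?_⟩
  calc LinearMap.toMatrix' e.toLinearMap * A
      = LinearMap.toMatrix' e.toLinearMap * LinearMap.toMatrix' (Matrix.toLin' A) := by
        rw [LinearMap.toMatrix'_toLin']
    _ = LinearMap.toMatrix' (e.toLinearMap ∘ₗ Matrix.toLin' A) :=
        (LinearMap.toMatrix'_comp _ _).symm
    _ = LinearMap.toMatrix' (Matrix.toLin' A' ∘ₗ e.toLinearMap) := by
        congr 1
        apply LinearMap.ext
        intro x
        exact he x
    _ = LinearMap.toMatrix' (Matrix.toLin' A') * LinearMap.toMatrix' e.toLinearMap :=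
        LinearMap.toMatrix'_comp _ _
    _ = A' * LinearMap.toMatrix' e.toLinearMap := by
        rw [LinearMap.toMatrix'_toLin']

theorem isConj_Sp_of_semisimple [Fintype F] (n : ℕ) (g h : ↥(Matrix.symplecticGroup (Fin n) F))
    (hg : Module.End.IsSemisimple
      (Matrix.toLin' (g : Matrix (Fin n ⊕ Fin n) (Fin n ⊕ Fin n) F)))
    (hh : Module.End.IsSemisimple
      (Matrix.toLin' (h : Matrix (Fin n ⊕ Fin n) (Fin n ⊕ Fin n) F)))
    (hc : (g : Matrix (Fin n ⊕ Fin n) (Fin n ⊕ Fin n) F).charpoly =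
      (h : Matrix (Fin n ⊕ Fin n) (Fin n ⊕ Fin n) F).charpoly) : IsConj g h := by
  obtain ⟨C, hC, h3⟩ := exists_symp_conj n _ _ g.2 h.2 hg hh hc
  refine isConj_iff.mpr ⟨⟨C, hC⟩, ?_⟩
  rw [mul_inv_eq_iff_eq_mul]
  apply Subtype.ext
  exact h3

theorem isSemisimple_of_orderOf_coprime [Fintype F] (p : ℕ) [Fact p.Prime] [CharP F p] (n : ℕ)
    (g : ↥(Matrix.symplecticGroup (Fin n) F)) (hg : (orderOf g).Coprime p) :
    Module.End.IsSemisimple (Matrix.toLin' (g : Matrix (Fin n ⊕ Fin n) (Fin n ⊕ Fin n) F)) := by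
  apply isSemisimple_toLin'_of_pow_eq_one _ (orderOf g)
  · rw [Ne, CharP.cast_eq_zero_iff F p]
    intro hd
    have h1 : p ∣ Nat.gcd (orderOf g) p := Nat.dvd_gcd hd dvd_rfl
    rw [hg] at h1
    exact (Fact.out : p.Prime).one_lt.ne' (Nat.dvd_one.mp h1)
  · have := pow_orderOf_eq_one g
    rw [← SubmonoidClass.coe_pow, this]
    rfl

end Cfsg.Agent.Lib.H12.SpSemi
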