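import Mathlib
import Cfsg.Agent.Lib.H12.SpSemiJ
import Cfsg.Agent.Lib.H12.PGraphC
import Cfsg.Agent.Lib.H11.AltForm

/-!
# Isometries of prime order of a symplectic space (helper12)
-/

set_option autoImplicit false
set_option linter.unusedSectionVars false

namespace Cfsg.Agent.Lib.H12.PSpG

open Module Polynomial
open Cfsg.Agent.Lib.H12.SpSemi Cfsg.Agent.Lib.H12.PGraph

universe u v
variable {F : Type u} [Field F] {V : Type v} [AddCommGroup V] [Module F V]
variable {B : LinearMap.BilinForm F V} {T : Module.End F V}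

theorem fix_ortho_range (h : SpData B T) {x : V} (hx : T x = x) (z : V) :
    B x ((T - 1) z) = 0 := by
  rw [LinearMap.sub_apply, Module.End.one_apply, map_sub]
  nth_rewrite 1 [← hx]
  rw [h.iso, sub_self]

theorem mem_ker_sub_one (x : V) : x ∈ LinearMap.ker (T - 1) ↔ T x = x := by
  rw [LinearMap.mem_ker, LinearMap.sub_apply, Module.End.one_apply, sub_eq_zero]

theorem range_sub_one_invt (S : Module.End F V) (hST : S * T = T * S) :
    ∀ w ∈ LinearMap.range (T - 1), S w ∈ LinearMap.range (T - 1) := by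
  rintro _ ⟨v, rfl⟩
  refine ⟨S v, ?_⟩
  have h1 : (T - 1) (S v) = ((T - 1) * S) v := rfl
  have h2 : S ((T - 1) v) = (S * (T - 1)) v := rfl
  rw [h1, h2, mul_sub, sub_mul, hST, mul_one, one_mul]

theorem ker_sub_one_invt (S : Module.End F V) (hST : S * T = T * S) :
    ∀ w ∈ LinearMap.ker (T - 1), S w ∈ LinearMap.ker (T - 1) := by
  intro w hw
  rw [mem_ker_sub_one] at hw ⊢
  have h1 : T (S w) = (T * S) w := rfl
  rw [h1, ← hST, Module.End.mul_apply, hw]

section findim

variable [FiniteDimensional F V]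

theorem isCompl_ker_range (r : ℕ) (hT : T ^ r = 1) (hr : (r : F) ≠ 0) :
    IsCompl (LinearMap.ker (T - 1)) (LinearMap.range (T - 1)) := by
  have hd : Disjoint (LinearMap.ker (T - 1)) (LinearMap.range (T - 1)) := by
    rw [Submodule.disjoint_def]
    intro x hx1 hx2
    exact eq_zero_of_fixed_of_mem_range T r hT hr x hx2 ((mem_ker_sub_one x).1 hx1)
  refine ⟨hd, ?_⟩
  rw [codisjoint_iff]
  apply Submodule.eq_top_of_disjoint _ _ _ hd
  rw [add_comm, LinearMap.finrank_range_add_finrank_ker]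

/-- the commutator space `[V, T]` is non-degenerate -/
theorem nd_range (h : SpData B T) (r : ℕ) (hT : T ^ r = 1) (hr : (r : F) ≠ 0) :
    ∀ x ∈ LinearMap.range (T - 1), (∀ y ∈ LinearMap.range (T - 1), B x y = 0) → x = 0 := by
  intro x hx hxy
  apply h.nd_right
  intro w
  have hc := isCompl_ker_range (T := T) r hT hr
  have hw : w ∈ LinearMap.ker (T - 1) ⊔ LinearMap.range (T - 1) := by
    rw [hc.sup_eq_top]; exact Submodule.mem_top
  obtain ⟨a, ha, b, hb, rfl⟩ := Submodule.mem_sup.1 hw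
  obtain ⟨z, rfl⟩ := hx
  rw [map_add, LinearMap.add_apply, fix_ortho_range h ((mem_ker_sub_one a).1 ha) z, zero_add,
    h.skew, hxy b hb, neg_zero]

theorem even_finrank_of_nd (halt : ∀ v, B v v = 0) (W : Submodule F V)
    (hnd : ∀ x ∈ W, (∀ y ∈ W, B x y = 0) → x = 0) : Even (finrank F W) := by
  apply Cfsg.Agent.Lib.H11.even_finrank_of_nondegenerate_isAlt (finrank F W) (B.restrict W)
  · intro x
    exact halt x
  · constructor
    · intro x hx
      apply Subtype.ext
      apply hnd x x.2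
      intro y hy
      exact hx ⟨y, hy⟩
    · intro x hx
      apply Subtype.ext
      apply hnd x x.2
      intro y hy
      have := hx ⟨y, hy⟩
      change B y x = 0 at this
      rw [skew_of_alt halt, this, neg_zero]
  · rfl

theorem even_finrank_range (h : SpData B T) (r : ℕ) (hT : T ^ r = 1) (hr : (r : F) ≠ 0) :
    Even (finrank F (LinearMap.range (T - 1))) :=
  even_finrank_of_nd h.alt _ (nd_range h r hT hr)

theorem finrank_range_pos (hT1 : T ≠ 1) : 0 < finrank F (LinearMap.range (T - 1)) := by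
  rw [Module.finrank_pos_iff_exists_ne_zero]
  have : T - 1 ≠ 0 := sub_ne_zero.2 hT1
  obtain ⟨v, hv⟩ : ∃ v, (T - 1) v ≠ 0 := by
    by_contra hcon
    push Not at hcon
    exact this (LinearMap.ext hcon)
  exact ⟨⟨(T - 1) v, v, rfl⟩, fun h => hv (congrArg Subtype.val h)⟩

end findim

/-- `η(k)`: `k` for odd `k`, `k / 2` for even `k` -/
def IsEta (k η : ℕ) : Prop := (Odd k ∧ η = k) ∨ (Even k ∧ 2 * η = k)

section finite

variable [Fintype F] [FiniteDimensional F V]

/-- `2 η(k)` divides the dimension of `[V, T]` -/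
theorem two_eta_dvd (h : SpData B T) (r : ℕ) [Fact r.Prime] (hT : T ^ r = 1) (hr : (r : F) ≠ 0)
    {k η : ℕ} (hk : k = orderOf ((Fintype.card F : ℕ) : ZMod r)) (hη : IsEta k η) :
    2 * η ∣ finrank F (LinearMap.range (T - 1)) := by
  have h1 : k ∣ finrank F (LinearMap.range (T - 1)) := by
    rw [hk]
    exact orderOf_dvd_finrank T r hT hr _ le_rfl (range_sub_one_invt T rfl)
  have h2 := even_finrank_range h r hT hr
  rcases hη with ⟨hodd, rfl⟩ | ⟨_, h2η⟩
  · have hcop : Nat.Coprime 2 η := by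
      rw [Nat.coprime_comm, Nat.coprime_two_right]
      exact hodd
    exact hcop.mul_dvd_of_dvd_of_dvd h2.two_dvd h1
  · rw [h2η]; exact h1

theorem two_eta_le (h : SpData B T) (r : ℕ) [Fact r.Prime] (hT : T ^ r = 1) (hr : (r : F) ≠ 0)
    (hT1 : T ≠ 1) {k η : ℕ} (hk : k = orderOf ((Fintype.card F : ℕ) : ZMod r))
    (hη : IsEta k η) : 2 * η ≤ finrank F (LinearMap.range (T - 1)) :=
  Nat.le_of_dvd (finrank_range_pos hT1) (two_eta_dvd h r hT hr hk hη)

end finite

end Cfsg.Agent.Lib.H12.PSpG
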