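import Mathlib
import Cfsg.Agent.Lib.H12.PSpA
import Cfsg.Agent.Lib.H12.SpSemiI

/-!
# A unipotent isometry commuting with an isometry of prime order `r` is trivial when
`dim V = 2 η(ord_r q)` (helper12)
-/

set_option autoImplicit false
set_option linter.unusedSectionVars false

namespace Cfsg.Agent.Lib.H12.PSpG

open Module Polynomial
open Cfsg.Agent.Lib.H12.SpSemi Cfsg.Agent.Lib.H12.PGraph Cfsg.Agent.Lib.H12.Semi

theorem sum_range_odd {R : Type*} [AddCommMonoid R] (m : ℕ) (f : ℕ → R) :
    ∑ i ∈ Finset.range (2 * m + 2), f i =
      ∑ i ∈ Finset.range (m + 1), (f i + f (2 * m + 1 - i)) := by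
  have h1 : 2 * m + 2 = (m + 1) + (m + 1) := by ring
  rw [h1, Finset.sum_range_add, Finset.sum_add_distrib]
  congr 1
  rw [← Finset.sum_range_reflect]
  apply Finset.sum_congr rfl
  intro i hi
  rw [Finset.mem_range] at hi
  congr 1
  omega

theorem root_of_odd_selfrec {F : Type*} [Field F] (P : F[X]) (hk : Odd P.natDegree) (ε : F)
    (hε : ε = 1 ∨ ε = -1) (hrev : P.reverse = C ε * P) : P.IsRoot 1 ∨ P.IsRoot (-1) := by
  obtain ⟨m, hm⟩ := hk
  have hcoef : ∀ i, i ≤ 2 * m + 1 → P.coeff (2 * m + 1 - i) = ε * P.coeff i := by
    intro i hi
    have h1 := congrArg (fun Q : F[X] => Q.coeff i) hrev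
    simp only [coeff_C_mul] at h1
    rw [coeff_reverse, hm, revAt_le hi] at h1
    exact h1
  rcases hε with rfl | rfl
  · right
    rw [IsRoot.def, eval_eq_sum_range, hm, sum_range_odd]
    apply Finset.sum_eq_zero
    intro i hi
    rw [Finset.mem_range] at hi
    rw [hcoef i (by omega), one_mul]
    have h2 : (-1 : F) ^ (2 * m + 1 - i) * (-1) ^ i = -1 := by
      rw [← pow_add]
      have : 2 * m + 1 - i + i = 2 * m + 1 := by omega
      rw [this]
      exact Odd.neg_one_pow ⟨m, rfl⟩
    have h3 : (-1 : F) ^ i * (-1) ^ i = 1 := by
      rw [← pow_add, ← two_mul]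
      exact Even.neg_one_pow ⟨i, by ring⟩
    have h4 : (-1 : F) ^ (2 * m + 1 - i) = - (-1) ^ i := by
      have : (-1 : F) ^ (2 * m + 1 - i) = (-1 : F) ^ (2 * m + 1 - i) * ((-1) ^ i * (-1) ^ i) := by
        rw [h3, mul_one]
      rw [this, ← mul_assoc, h2]
      ring
    rw [h4]
    ring
  · left
    rw [IsRoot.def, eval_eq_sum_range, hm, sum_range_odd]
    apply Finset.sum_eq_zero
    intro i hi
    rw [Finset.mem_range] at hi
    rw [hcoef i (by omega)]
    simp

universe u v
variable {F : Type u} [Field F] {V : Type v} [AddCommGroup V] [Module F V]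
variable {B : LinearMap.BilinForm F V} {T : Module.End F V}

theorem isSemisimple_of_pow_eq_one [FiniteDimensional F V] (r : ℕ) (hT : T ^ r = 1)
    (hr : (r : F) ≠ 0) : T.IsSemisimple := by
  have hsep : (X ^ r - C (1 : F)).Separable := separable_X_pow_sub_C 1 hr one_ne_zero
  refine Module.End.isSemisimple_of_squarefree_aeval_eq_zero hsep.squarefree ?_
  rw [map_sub, map_pow, aeval_X, aeval_C, hT, map_one]
  exact sub_self _

theorem ker_invt_of_comm (N : Module.End F V) (hNT : N * T = T * N) :
    LinearMap.ker N ∈ T.invtSubmodule := by
  rw [Module.End.mem_invtSubmodule_iff_forall_mem_of_mem T]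
  intro x hx
  rw [LinearMap.mem_ker] at hx ⊢
  have : N (T x) = (N * T) x := rfl
  rw [this, hNT, Module.End.mul_apply, hx, map_zero]

/-- the key statement for the adjacency of `r` and the characteristic -/
theorem unipotent_trivial [Fintype F] [FiniteDimensional F V] (h : SpData B T) (r : ℕ)
    [Fact r.Prime] (hr2 : r ≠ 2) (hT : T ^ r = 1) (hr : (r : F) ≠ 0) (hT1 : T ≠ 1)
    (hrev : T.charpoly.reverse = T.charpoly)
    {k η : ℕ} (hk : k = orderOf ((Fintype.card F : ℕ) : ZMod r)) (hη : IsEta k η)
    (hdim : finrank F V = 2 * η)
    (N : Module.End F V) (hN : IsNilpotent N) (hNT : N * T = T * N) : N = 0 := by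
  classical
  have hss : T.IsSemisimple := isSemisimple_of_pow_eq_one r hT hr
  -- `[V, T] = V`
  have h1 := two_eta_le h r hT hr hT1 hk hη
  have hrange : LinearMap.range (T - 1) = ⊤ := by
    apply Submodule.eq_top_of_finrank_eq
    have := Submodule.finrank_le (LinearMap.range (T - 1))
    omega
  have hker : LinearMap.ker (T - 1) = ⊥ := by
    have hc := isCompl_ker_range (T := T) r hT hr
    rw [hrange] at hc
    exact eq_bot_of_isCompl_top hc
  have hnofix : ∀ v : V, T v = v → v = 0 := by
    intro v hv
    have : v ∈ LinearMap.ker (T - 1) := (mem_ker_sub_one v).2 hv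
    rw [hker] at this
    exact (Submodule.mem_bot F).1 this
  have hkpos : 0 < k := by
    rcases Nat.eq_zero_or_pos k with h0 | h0
    · exfalso
      rw [h0] at hk
      have hq : ((Fintype.card F : ℕ) : ZMod r) ^ (r - 1) = 1 := by
        apply ZMod.pow_card_sub_one_eq_one
        intro hz
        rw [ZMod.natCast_eq_zero_iff] at hz
        -- `r ∣ q` forces `(r : F) = 0`
        obtain ⟨p, hp⟩ := CharP.exists F
        have hpp : p.Prime := (CharP.char_is_prime_or_zero F p).resolve_right (by
          intro h0
          subst h0
          have : CharZero F := CharP.charP_to_charZero F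
          exact (not_finite F).elim)
        have : Fact p.Prime := ⟨hpp⟩
        obtain ⟨n, hn⟩ := FiniteField.card F p
        rw [hn.2] at hz
        have hrp : r ∣ p := (Fact.out : r.Prime).dvd_of_dvd_pow hz
        have : r = p := (Nat.prime_dvd_prime_iff_eq Fact.out hpp).1 hrp
        apply hr
        rw [this]
        exact CharP.cast_eq_zero F p
      have := orderOf_dvd_of_pow_eq_one hq
      rw [← hk] at this
      have hr1 := (Fact.out : r.Prime).one_lt
      have : r - 1 = 0 := Nat.eq_zero_of_zero_dvd this
      omega
    · exact h0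
  have hηpos : 0 < η := by
    rcases hη with ⟨_, rfl⟩ | ⟨_, h2⟩
    · exact hkpos
    · omega
  have hVpos : 0 < finrank F V := by omega
  have hnt : Nontrivial V := Module.nontrivial_of_finrank_pos hVpos
  -- the kernel of `N`
  have hLinv : LinearMap.ker N ∈ T.invtSubmodule := ker_invt_of_comm N hNT
  have hLdvd : k ∣ finrank F (LinearMap.ker N) := by
    rw [hk]
    apply orderOf_dvd_finrank T r hT hr
    · rw [hrange]; exact le_top
    · exact (Module.End.mem_invtSubmodule_iff_forall_mem_of_mem T).1 hLinv
  have hLpos : 0 < finrank F (LinearMap.ker N) := by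
    rw [Module.finrank_pos_iff_exists_ne_zero]
    obtain ⟨m, hm⟩ := hN
    -- least power killing everything
    have hex : ∃ j, N ^ j = 0 := ⟨m, hm⟩
    set j := Nat.find hex with hj
    have hj0 : N ^ j = 0 := Nat.find_spec hex
    have hjpos : 0 < j := by
      rcases Nat.eq_zero_or_pos j with h0 | h0
      · rw [h0, pow_zero] at hj0
        exact absurd hj0 one_ne_zero
      · exact h0
    have hj1 : N ^ (j - 1) ≠ 0 := Nat.find_min hex (by omega)
    obtain ⟨v, hv⟩ : ∃ v, (N ^ (j - 1)) v ≠ 0 := by
      by_contra hcon
      push Not at hcon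
      exact hj1 (LinearMap.ext hcon)
    refine ⟨⟨(N ^ (j - 1)) v, ?_⟩, fun hh => hv (congrArg Subtype.val hh)⟩
    rw [LinearMap.mem_ker, ← Module.End.mul_apply, ← pow_succ']
    have : j - 1 + 1 = j := by omega
    rw [this, hj0, LinearMap.zero_apply]
  have hLle := Submodule.finrank_le (LinearMap.ker N)
  have hfull : finrank F (LinearMap.ker N) = finrank F V → N = 0 := by
    intro hh
    have : LinearMap.ker N = ⊤ := Submodule.eq_top_of_finrank_eq hh
    exact LinearMap.ker_eq_top.1 this
  rcases hη with ⟨hodd, hηk⟩ | ⟨_, h2η⟩
  swap
  · -- `k` even: `dim V = k`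
    apply hfull
    obtain ⟨c, hc⟩ := hLdvd
    have hc1 : c = 1 := by
      rcases c with _ | _ | c
      · rw [hc] at hLpos; simp at hLpos
      · rfl
      · exfalso
        rw [hc, hdim, h2η] at hLle
        nlinarith
    rw [hc, hc1, mul_one, hdim, h2η]
  · -- `k` odd: `dim V = 2 k`
    rw [hηk] at hdim
    obtain ⟨c, hc⟩ := hLdvd
    have hc12 : c = 1 ∨ c = 2 := by
      rcases c with _ | _ | _ | c
      · rw [hc] at hLpos; simp at hLpos
      · left; rfl
      · right; rfl
      · exfalso
        rw [hc, hdim] at hLle
        nlinarith
    rcases hc12 with hc1 | hc2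
    swap
    · apply hfull
      rw [hc, hc2, hdim, mul_comm]
    · exfalso
      rw [hc1, mul_one] at hc
      -- `N ^ 2 = 0`
      have hL2inv : LinearMap.ker (N * N) ∈ T.invtSubmodule := by
        apply ker_invt_of_comm
        rw [mul_assoc, hNT, ← mul_assoc, hNT, mul_assoc]
      have hL2dvd : k ∣ finrank F (LinearMap.ker (N * N)) := by
        rw [hk]
        apply orderOf_dvd_finrank T r hT hr
        · rw [hrange]; exact le_top
        · exact (Module.End.mem_invtSubmodule_iff_forall_mem_of_mem T).1 hL2inv
      have hLL2 : LinearMap.ker N ≤ LinearMap.ker (N * N) := by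
        intro x hx
        rw [LinearMap.mem_ker] at hx ⊢
        rw [Module.End.mul_apply, hx, map_zero]
      have hL2ne : LinearMap.ker (N * N) ≠ LinearMap.ker N := by
        intro heq
        -- then `ker N ^ j = ker N` for all `j ≥ 1`
        have hstab : ∀ j, 1 ≤ j → LinearMap.ker (N ^ j) = LinearMap.ker N := by
          intro j hj
          induction j with
          | zero => omega
          | succ j ih =>
            rcases Nat.eq_zero_or_pos j with h0 | h0
            · rw [h0, zero_add, pow_one]
            · apply le_antisymm
              · intro x hx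
                rw [LinearMap.mem_ker] at hx
                have hj1 : j + 1 = (j - 1) + 2 := by omega
                rw [hj1, pow_add, Module.End.mul_apply, pow_two] at hx
                -- `N ^ (j-1) x ∈ ker (N * N) = ker N`
                have h5 : (N ^ (j - 1)) x ∈ LinearMap.ker (N * N) := by
                  rw [LinearMap.mem_ker]
                  have hcomm : N ^ (j - 1) * (N * N) = (N * N) * N ^ (j - 1) := by
                    rw [← pow_two, ← pow_add, ← pow_add, add_comm]
                  have : (N * N) ((N ^ (j - 1)) x) = ((N ^ (j - 1)) * (N * N)) x := by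
                    rw [hcomm]; rfl
                  rw [this]
                  exact hx
                rw [heq, LinearMap.mem_ker] at h5
                have h6 : x ∈ LinearMap.ker (N ^ j) := by
                  rw [LinearMap.mem_ker]
                  have hj2 : j = 1 + (j - 1) := by omega
                  rw [hj2, pow_add, pow_one, Module.End.mul_apply]
                  exact h5
                rw [ih h0] at h6
                exact h6
              · intro x hx
                rw [LinearMap.mem_ker] at hx ⊢
                rw [pow_succ, Module.End.mul_apply, hx, map_zero]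
        obtain ⟨m, hm⟩ := hN
        have hm1 : 1 ≤ m := by
          rcases Nat.eq_zero_or_pos m with h0 | h0
          · rw [h0, pow_zero] at hm
            exact absurd hm one_ne_zero
          · exact h0
        have := hstab m hm1
        rw [hm, LinearMap.ker_zero] at this
        have h7 : finrank F (LinearMap.ker N) = finrank F V := by
          rw [← this, finrank_top]
        omega
      have hL2 : finrank F (LinearMap.ker (N * N)) = finrank F V := by
        obtain ⟨c2, hc2⟩ := hL2dvd
        have hlt : finrank F (LinearMap.ker N) < finrank F (LinearMap.ker (N * N)) :=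
          Submodule.finrank_lt_finrank_of_lt (lt_of_le_of_ne hLL2 (Ne.symm hL2ne))
        have hle2 := Submodule.finrank_le (LinearMap.ker (N * N))
        have hc22 : c2 = 2 := by
          rw [hc2, hc] at hlt
          rw [hc2, hdim] at hle2
          have h3 : c2 < 3 := by
            by_contra hcon
            push Not at hcon
            have : k * 3 ≤ k * c2 := Nat.mul_le_mul_left k hcon
            omega
          have h4 : 1 < c2 := by
            by_contra hcon
            push Not at hcon
            have : k * c2 ≤ k * 1 := Nat.mul_le_mul_left k hcon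
            omega
          omega
        rw [hc2, hc22, hdim, mul_comm]
      have hNN : N * N = 0 := by
        have : LinearMap.ker (N * N) = ⊤ := Submodule.eq_top_of_finrank_eq hL2
        exact LinearMap.ker_eq_top.1 this
      -- an invariant complement of `L = ker N`
      obtain ⟨L', hL', hcL⟩ := Module.End.isSemisimple_iff.mp hss (LinearMap.ker N) hLinv
      have hdimL' : finrank F L' = k := by
        have := Submodule.finrank_add_eq_of_isCompl hcL
        omega
      -- `N : L' → L` is an isomorphism
      let Nr : L' →ₗ[F] LinearMap.ker N :=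
        (N.domRestrict L').codRestrict (LinearMap.ker N) (by
          intro x
          rw [LinearMap.mem_ker, LinearMap.domRestrict_apply, ← Module.End.mul_apply, hNN,
            LinearMap.zero_apply])
      have hNr_inj : Function.Injective Nr := by
        rw [← LinearMap.ker_eq_bot, LinearMap.ker_eq_bot']
        intro x hx
        have h8 : N (x : V) = 0 := congrArg Subtype.val hx
        have h9 : (x : V) ∈ LinearMap.ker N ⊓ L' := ⟨LinearMap.mem_ker.2 h8, x.2⟩
        rw [hcL.inf_eq_bot, Submodule.mem_bot] at h9
        exact Subtype.ext h9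
      have hNr_bij : Function.Bijective Nr := by
        refine ⟨hNr_inj, ?_⟩
        apply (LinearMap.injective_iff_surjective_of_finrank_eq_finrank ?_).1 hNr_inj
        rw [hdimL', hc]
      let e : L' ≃ₗ[F] LinearMap.ker N := LinearEquiv.ofBijective Nr hNr_bij
      have he : ∀ z, e (res T hL' z) = res T hLinv (e z) := by
        intro z
        apply Subtype.ext
        change N (T (z : V)) = T (N (z : V))
        have h10 : N (T (z : V)) = (N * T) (z : V) := rfl
        rw [h10, hNT, Module.End.mul_apply]
      have hcp := charpoly_of_isCompl T hLinv hL' hcL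
      have hcpe := charpoly_res_eq_of_equiv hL' hLinv e he
      set P := (res T hLinv).charpoly with hP
      rw [hcpe] at hcp
      have hPdeg : P.natDegree = k := by
        rw [hP, LinearMap.charpoly_natDegree, hc]
      -- `P` is self-reciprocal up to sign
      have hPP : P.reverse * P.reverse = P * P := by
        rw [← reverse_mul_of_domain, ← hcp, hrev]
      have hsign : P.reverse = P ∨ P.reverse = -P := by
        have h11 : (P.reverse - P) * (P.reverse + P) = 0 := by ring_nf; rw [pow_two, hPP]; ring
        rcases mul_eq_zero.1 h11 with h12 | h12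
        · left; exact sub_eq_zero.1 h12
        · right; exact eq_neg_of_add_eq_zero_left h12
      have hroot : P.IsRoot 1 ∨ P.IsRoot (-1) := by
        rcases hsign with hs | hs
        · exact root_of_odd_selfrec P (hPdeg ▸ hodd) 1 (Or.inl rfl) (by rw [hs]; simp)
        · exact root_of_odd_selfrec P (hPdeg ▸ hodd) (-1) (Or.inr rfl) (by rw [hs]; simp)
      have hev : ∀ μ : F, P.IsRoot μ → ∃ v : V, v ≠ 0 ∧ T v = μ • v := by
        intro μ hμ
        have h13 := (Module.End.hasEigenvalue_iff_isRoot_charpoly (res T hLinv) μ).2 hμ
        obtain ⟨w, hw⟩ := h13.exists_hasEigenvector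
        refine ⟨(w : V), fun h0 => hw.2 (Subtype.ext h0), ?_⟩
        have h14 := hw.apply_eq_smul
        exact congrArg Subtype.val h14
      rcases hroot with h1r | h1r
      · obtain ⟨v, hv0, hv⟩ := hev 1 h1r
        rw [one_smul] at hv
        exact hv0 (hnofix v hv)
      · obtain ⟨v, hv0, hv⟩ := hev (-1) h1r
        have hpow : ∀ j : ℕ, (T ^ j) v = ((-1 : F) ^ j) • v := by
          intro j
          induction j with
          | zero => simp
          | succ j ih =>
            rw [pow_succ', Module.End.mul_apply, ih, map_smul, hv, smul_smul, pow_succ]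
        have h15 := hpow r
        rw [hT, Module.End.one_apply] at h15
        have hrodd : Odd r := (Fact.out : r.Prime).odd_of_ne_two hr2
        rw [hrodd.neg_one_pow, neg_smul, one_smul] at h15
        apply hv0
        apply hnofix v
        rw [hv, neg_smul, one_smul, ← h15]

end Cfsg.Agent.Lib.H12.PSpG
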