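import Mathlib
import Cfsg.Agent.Lib.H12.SemiA

/-!
# The hyperbolic module `K × K` over a Frobenius algebra `K` and the isometry `[[0,-1],[1,t]]`
(helper12)
-/

set_option autoImplicit false
set_option linter.unusedSectionVars false
open Polynomial

namespace Cfsg.Agent.Lib.H12.SpCount

universe u
variable {F : Type u} [Field F]

section Tau

variable {R : F[X]}

/-- the Frobenius functional on `F[X]/(R)`: the coefficient of `X^(n-1)` of the reduced
representative -/
noncomputable def tau0 (hR : R.Monic) : AdjoinRoot R →ₗ[F] F :=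
  (Polynomial.lcoeff F (R.natDegree - 1)) ∘ₗ (AdjoinRoot.modByMonicHom hR)

theorem tau0_mk (hR : R.Monic) (f : F[X]) :
    tau0 hR (AdjoinRoot.mk R f) = (f %ₘ R).coeff (R.natDegree - 1) := by
  rw [tau0, LinearMap.comp_apply, AdjoinRoot.modByMonicHom_mk]
  rfl

theorem exists_tau0_ne (hR : R.Monic) (x : AdjoinRoot R) (hx : x ≠ 0) :
    ∃ y, tau0 hR (x * y) ≠ 0 := by
  obtain ⟨f0, rfl⟩ := AdjoinRoot.mk_surjective x
  set f := f0 %ₘ R with hf
  have hxf : AdjoinRoot.mk R f0 = AdjoinRoot.mk R f := by
    have := AdjoinRoot.mk_leftInverse hR (AdjoinRoot.mk R f0)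
    rw [AdjoinRoot.modByMonicHom_mk] at this
    exact this.symm
  have hf0 : f ≠ 0 := by
    intro h
    apply hx
    rw [hxf, h, map_zero]
  have hdeg : f.degree < R.degree := degree_modByMonic_lt f0 hR
  have hk : f.natDegree < R.natDegree := natDegree_lt_natDegree hf0 hdeg
  refine ⟨AdjoinRoot.mk R (X ^ (R.natDegree - 1 - f.natDegree)), ?_⟩
  rw [hxf, ← map_mul, tau0_mk]
  have h1 : (f * X ^ (R.natDegree - 1 - f.natDegree)).natDegree = R.natDegree - 1 := by
    rw [natDegree_mul_X_pow _ hf0]
    omega
  have h2 : (f * X ^ (R.natDegree - 1 - f.natDegree)) %ₘ R =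
      f * X ^ (R.natDegree - 1 - f.natDegree) := by
    rw [modByMonic_eq_self_iff hR]
    apply degree_lt_degree
    rw [h1]
    omega
  rw [h2]
  have h3 : (f * X ^ (R.natDegree - 1 - f.natDegree)).coeff (R.natDegree - 1) =
      f.coeff f.natDegree := by
    obtain ⟨j, hj⟩ : ∃ j, R.natDegree - 1 = f.natDegree + j :=
      ⟨R.natDegree - 1 - f.natDegree, by omega⟩
    have hj' : R.natDegree - 1 - f.natDegree = j := by omega
    rw [hj', hj, coeff_mul_X_pow]
  rw [h3]
  exact leadingCoeff_ne_zero.mpr hf0

end Tau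

section Hyp

variable {K : Type u} [CommRing K] [Algebra F K]

/-- the alternating form `τ(ad - bc)` on `K × K` -/
noncomputable def hypForm (τ : K →ₗ[F] F) : LinearMap.BilinForm F (K × K) :=
  LinearMap.mk₂ F (fun x y => τ (x.1 * y.2 - x.2 * y.1))
    (by
      intro x x' y
      rw [← map_add]
      congr 1
      simp only [Prod.fst_add, Prod.snd_add]
      ring)
    (by
      intro c x y
      rw [← map_smul]
      congr 1
      simp only [Prod.smul_fst, Prod.smul_snd, smul_mul_assoc, smul_sub])
    (by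
      intro x y y'
      rw [← map_add]
      congr 1
      simp only [Prod.fst_add, Prod.snd_add]
      ring)
    (by
      intro c x y
      rw [← map_smul]
      congr 1
      simp only [Prod.smul_fst, Prod.smul_snd, mul_smul_comm, smul_sub])

theorem hypForm_apply (τ : K →ₗ[F] F) (x y : K × K) :
    hypForm τ x y = τ (x.1 * y.2 - x.2 * y.1) := rfl

theorem hypForm_alt (τ : K →ₗ[F] F) (x : K × K) : hypForm τ x x = 0 := by
  rw [hypForm_apply, mul_comm, sub_self, map_zero]

theorem hypForm_nd (τ : K →ₗ[F] F) (hτ : ∀ x : K, x ≠ 0 → ∃ y, τ (x * y) ≠ 0) (x : K × K)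
    (hx : ∀ y, hypForm τ x y = 0) : x = 0 := by
  have h1 : x.1 = 0 := by
    by_contra h
    obtain ⟨y, hy⟩ := hτ x.1 h
    apply hy
    have := hx (0, y)
    rw [hypForm_apply] at this
    simpa using this
  have h2 : x.2 = 0 := by
    by_contra h
    obtain ⟨y, hy⟩ := hτ x.2 h
    apply hy
    have := hx (y, 0)
    rw [hypForm_apply] at this
    simpa using this
  exact Prod.ext h1 h2

/-- the map `(a, b) ↦ (-b, a + t b)` -/
noncomputable def gEnd (F : Type u) [Field F] {K : Type u} [CommRing K] [Algebra F K] (t : K) :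
    Module.End F (K × K) where
  toFun x := (-x.2, x.1 + t * x.2)
  map_add' x y := by
    apply Prod.ext
    · simp only [Prod.snd_add, Prod.fst_add, neg_add_rev]; abel
    · simp only [Prod.snd_add, Prod.fst_add]; ring
  map_smul' c x := by
    apply Prod.ext
    · simp only [Prod.smul_snd, Prod.smul_fst, RingHom.id_apply, smul_neg]
    · simp only [Prod.smul_snd, Prod.smul_fst, RingHom.id_apply, smul_add, mul_smul_comm]

/-- the inverse map `(a, b) ↦ (t a + b, -a)` -/
noncomputable def gInv (F : Type u) [Field F] {K : Type u} [CommRing K] [Algebra F K] (t : K) :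
    Module.End F (K × K) where
  toFun x := (t * x.1 + x.2, -x.1)
  map_add' x y := by
    apply Prod.ext
    · simp only [Prod.snd_add, Prod.fst_add]; ring
    · simp only [Prod.snd_add, Prod.fst_add, neg_add_rev]; abel
  map_smul' c x := by
    apply Prod.ext
    · simp only [Prod.smul_snd, Prod.smul_fst, RingHom.id_apply, smul_add, mul_smul_comm]
    · simp only [Prod.smul_snd, Prod.smul_fst, RingHom.id_apply, smul_neg]

theorem gEnd_apply (t : K) (x : K × K) : gEnd F t x = (-x.2, x.1 + t * x.2) := rfl

theorem gInv_apply (t : K) (x : K × K) : gInv F t x = (t * x.1 + x.2, -x.1) := rfl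

theorem gEnd_mul_gInv (t : K) : gEnd F t * gInv F t = 1 := by
  apply LinearMap.ext
  intro x
  rw [Module.End.mul_apply, gInv_apply, gEnd_apply, Module.End.one_apply]
  apply Prod.ext
  · simp
  · simp only; ring

theorem gInv_mul_gEnd (t : K) : gInv F t * gEnd F t = 1 := by
  apply LinearMap.ext
  intro x
  rw [Module.End.mul_apply, gEnd_apply, gInv_apply, Module.End.one_apply]
  apply Prod.ext
  · simp only; ring
  · simp

theorem gEnd_add_gInv (t : K) :
    gEnd F t + gInv F t = (LinearMap.mulLeft F t).prodMap (LinearMap.mulLeft F t) := by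
  apply LinearMap.ext
  intro x
  rw [LinearMap.add_apply, gEnd_apply, gInv_apply, LinearMap.prodMap_apply]
  apply Prod.ext
  · simp only [Prod.fst_add, LinearMap.mulLeft_apply]; ring
  · simp only [Prod.snd_add, LinearMap.mulLeft_apply]; ring

theorem hypForm_iso (τ : K →ₗ[F] F) (t : K) (x y : K × K) :
    hypForm τ (gEnd F t x) (gEnd F t y) = hypForm τ x y := by
  rw [hypForm_apply, hypForm_apply, gEnd_apply, gEnd_apply]
  congr 1
  simp only
  ring

end Hyp

section Adjoin

variable {R : F[X]}

theorem finrank_adjoinRoot (hR : R.Monic) : Module.finrank F (AdjoinRoot R) = R.natDegree := by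
  rw [(AdjoinRoot.powerBasis' hR).finrank, AdjoinRoot.powerBasis'_dim]

theorem charpoly_gEnd_add_gInv (hR : R.Monic) [Module.Finite F (AdjoinRoot R)] :
    (gEnd F (AdjoinRoot.root R) + gInv F (AdjoinRoot.root R)).charpoly = R ^ 2 := by
  rw [gEnd_add_gInv, LinearMap.charpoly_prodMap, Cfsg.Agent.Lib.H12.Semi.charpoly_mulLeft_root hR,
    sq]

end Adjoin

end Cfsg.Agent.Lib.H12.SpCount
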