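import Mathlib
import Cfsg.Agent.Lib.H12.PSpA
import Cfsg.Agent.Lib.H12.SpSemiF
import Cfsg.Agent.Lib.H12.SpSemiD
import Cfsg.Agent.Lib.H12.SpCountB

/-!
# Commuting isometries of coprime odd prime orders of a symplectic space (helper12)
-/

set_option autoImplicit false
set_option linter.unusedSectionVars false

namespace Cfsg.Agent.Lib.H12.PSpG

open Module Polynomial
open Cfsg.Agent.Lib.H12.SpSemi Cfsg.Agent.Lib.H12.PGraph Cfsg.Agent.Lib.H12.Semi

section arith

/-- if `r ∣ q ^ m + 1` for an odd prime `r`, then the order `k` of `q` modulo `r` is even,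
`k / 2` divides `m` and the quotient is odd -/
theorem eta_of_dvd_add_one (r : ℕ) [Fact r.Prime] (hr2 : r ≠ 2) (q m : ℕ) {k η : ℕ}
    (hk : k = orderOf ((q : ℕ) : ZMod r)) (hη : IsEta k η) (h : r ∣ q ^ m + 1) :
    Even k ∧ 2 * η = k ∧ ∃ c, Odd c ∧ m = η * c := by
  have h1 : ((q : ℕ) : ZMod r) ^ m = -1 := by
    have : ((q ^ m + 1 : ℕ) : ZMod r) = 0 := (ZMod.natCast_eq_zero_iff _ _).2 h
    push_cast at this
    exact eq_neg_of_add_eq_zero_left this
  have h2 : ((q : ℕ) : ZMod r) ^ (2 * m) = 1 := by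
    rw [mul_comm, pow_mul, h1]; norm_num
  have h3 : k ∣ 2 * m := by rw [hk]; exact orderOf_dvd_of_pow_eq_one h2
  have h4 : ¬ k ∣ m := by
    intro hkm
    rw [hk] at hkm
    have h5 := orderOf_dvd_iff_pow_eq_one.1 hkm
    rw [h1] at h5
    have h6 : ((2 : ℕ) : ZMod r) = 0 := by
      push_cast
      have : (1 : ZMod r) + 1 = 0 := by
        nth_rewrite 1 [← h5]
        ring
      rw [← this]; norm_num
    rw [ZMod.natCast_eq_zero_iff] at h6
    have := (Nat.prime_dvd_prime_iff_eq (Fact.out : r.Prime) Nat.prime_two).1 h6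
    exact hr2 this
  obtain ⟨c, hc⟩ := h3
  have hcodd : Odd c := by
    rcases Nat.even_or_odd c with ⟨c', hc'⟩ | hodd
    · exfalso
      apply h4
      refine ⟨c', ?_⟩
      rw [hc'] at hc
      have : 2 * m = 2 * (k * c') := by rw [hc]; ring
      omega
    · exact hodd
  rcases hη with ⟨hodd, _⟩ | ⟨hev, h2η⟩
  · exfalso
    have : Odd (k * c) := hodd.mul hcodd
    rw [← hc] at this
    rcases this with ⟨t, ht⟩
    omega
  · refine ⟨hev, h2η, c, hcodd, ?_⟩
    rw [← h2η] at hc
    have : 2 * m = 2 * (η * c) := by rw [hc]; ring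
    omega

end arith

universe u v
variable {F : Type u} [Field F] {V : Type v} [AddCommGroup V] [Module F V]
variable {B : LinearMap.BilinForm F V} {g : Module.End F V}

/-- a totally isotropic subspace has at most half the dimension -/
theorem finrank_le_of_isotropic [FiniteDimensional F V] (h : SpData B g) (M : Submodule F V)
    (hM : ∀ x ∈ M, ∀ y ∈ M, B x y = 0) : 2 * finrank F M ≤ finrank F V := by
  have h1 := LinearMap.BilinForm.finrank_add_finrank_orthogonal' (B := B) M
  have hker : LinearMap.ker B = ⊥ := by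
    rw [LinearMap.ker_eq_bot']
    intro x hx
    apply h.nd
    intro w
    rw [hx, LinearMap.zero_apply]
  rw [hker, inf_bot_eq, finrank_bot, add_zero] at h1
  have h2 : M ≤ B.orthogonal M := by
    intro x hx
    rw [LinearMap.BilinForm.mem_orthogonal_iff]
    intro y hy
    exact hM y hy x hx
  have h3 := Submodule.finrank_mono h2
  omega

theorem pow_apply_of_pow_fixed (T : Module.End F V) (x : V) (a : ℕ) (ha : (T ^ a) x = x) (c : ℕ) :
    (T ^ (a * c)) x = x := by
  induction c with
  | zero => simp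
  | succ c ih => rw [mul_add, mul_one, pow_add, Module.End.mul_apply, ha, ih]

/-- a vector fixed by `T ^ a`, where `T ^ b = 1` and `a`, `b` are coprime, is fixed by `T` -/
theorem fixed_of_coprime (T : Module.End F V) (x : V) (a b : ℕ) (ha : (T ^ a) x = x)
    (hb : T ^ b = 1) (hco : Nat.Coprime a b) (hb1 : 1 < b) : T x = x := by
  obtain ⟨c, -, hc⟩ := Nat.exists_mul_mod_eq_one_of_coprime hco hb1
  have h1 := pow_apply_of_pow_fixed T x a ha c
  have h2 : a * c = b * (a * c / b) + 1 := by
    have := Nat.div_add_mod (a * c) b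
    omega
  rw [h2, pow_add, pow_mul, hb, one_pow, one_mul, pow_one] at h1
  exact h1

section frob

variable {π : F[X]} [hirr : Fact (Irreducible π)] {c : F} [Fintype F]

/-- the involution of a self-reciprocal irreducible polynomial of degree `2 m` is `x ↦ x ^ (q ^ m)` -/
theorem exists_frob_pow (h : SelfRec π c) :
    ∃ m : ℕ, 2 * m = π.natDegree ∧
      ∀ x : AdjoinRoot π, h.sigma x = x ^ (Fintype.card F ^ m) := by
  have hfin : Module.Finite F (AdjoinRoot π) := h.monic.finite_adjoinRoot
  have : Finite (AdjoinRoot π) := h.finite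
  have : Fintype (AdjoinRoot π) := Fintype.ofFinite _
  obtain ⟨⟨n, hlt⟩, hn⟩ := (FiniteField.bijective_frobeniusAlgHom_pow F (AdjoinRoot π)).2 h.sigma
  have hn' : FiniteField.frobeniusAlgHom F (AdjoinRoot π) ^ n = h.sigma := hn
  have hσx : ∀ x : AdjoinRoot π, h.sigma x = x ^ (Fintype.card F ^ n) := by
    intro x
    rw [← hn', AlgHom.coe_pow, FiniteField.coe_frobeniusAlgHom, pow_iterate]
  have hn0 : n ≠ 0 := by
    intro h0
    apply h.sigma_ne_id
    rw [hσx, h0, pow_zero, pow_one]
  have hord := FiniteField.orderOf_frobeniusAlgHom F (AdjoinRoot π)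
  have h2 : FiniteField.frobeniusAlgHom F (AdjoinRoot π) ^ (2 * n) = 1 := by
    rw [two_mul, pow_add, hn']
    apply AlgHom.ext
    intro x
    rw [AlgHom.mul_apply, h.sigma_sigma, AlgHom.one_apply]
  have h3 : Module.finrank F (AdjoinRoot π) ∣ 2 * n := by
    rw [← hord]
    exact orderOf_dvd_of_pow_eq_one h2
  have h4 : 2 * n = Module.finrank F (AdjoinRoot π) := by
    obtain ⟨t, ht⟩ := h3
    have ht0 : t ≠ 0 := by
      rintro rfl
      omega
    have ht2 : t < 2 := by
      by_contra hcon
      push Not at hcon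
      have : Module.finrank F (AdjoinRoot π) * 2 ≤ Module.finrank F (AdjoinRoot π) * t :=
        Nat.mul_le_mul_left _ hcon
      omega
    have : t = 1 := by omega
    rw [this, mul_one] at ht
    exact ht
  refine ⟨n, ?_, hσx⟩
  rw [h4]
  exact Cfsg.Agent.Lib.H12.SpCount.finrank_adjoinRoot h.monic

theorem root_pow_eq_one (h : SelfRec π c) {m : ℕ}
    (hσ : ∀ x : AdjoinRoot π, h.sigma x = x ^ (Fintype.card F ^ m)) :
    (AdjoinRoot.root π) ^ (Fintype.card F ^ m + 1) = 1 := by
  have h1 := hσ (AdjoinRoot.root π)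
  rw [h.sigma_root] at h1
  rw [pow_succ, ← h1, inv_mul_cancel₀ h.root_ne_zero]

end frob

section main

variable [Fintype F] [FiniteDimensional F V]

/-- on the cyclic subspace of a vector killed by a self-reciprocal irreducible `π` of degree
`2 m`, the power `g ^ (q ^ m + 1)` is trivial -/
theorem pow_fixed_on_cyc {π : F[X]} [hirr : Fact (Irreducible π)] {c : F} (h : SelfRec π c)
    {v : V} (hv : v ≠ 0) (hv0 : aeval g π v = 0) {m : ℕ}
    (hσ : ∀ x : AdjoinRoot π, h.sigma x = x ^ (Fintype.card F ^ m)) :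
    ∀ x ∈ cyc g v, (g ^ (Fintype.card F ^ m + 1)) x = x := by
  intro x hx
  set e := cycEquiv g hv hirr.out hv0 with he
  have hpow : ∀ (j : ℕ) (a : AdjoinRoot π),
      (g ^ j) (e a : V) = (e ((AdjoinRoot.root π) ^ j * a) : V) := by
    intro j
    induction j with
    | zero => intro a; simp
    | succ j ih =>
      intro a
      rw [pow_succ', Module.End.mul_apply, ih, pow_succ', mul_assoc,
        cycEquiv_root_mul g hv hirr.out hv0]
  have hxa : x = (e (e.symm ⟨x, hx⟩) : V) := by rw [LinearEquiv.apply_symm_apply]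
  rw [hxa, hpow, root_pow_eq_one h hσ, one_mul]

theorem adj_core (hg : SpData B g) {n : ℕ} (hdim : finrank F V = 2 * n)
    (r s : ℕ) [Fact r.Prime] [Fact s.Prime] (hr2 : r ≠ 2) (hs2 : s ≠ 2)
    (hr : (r : F) ≠ 0) (hs : (s : F) ≠ 0) (hg1 : g ^ (r * s) = 1) (hA1 : g ^ s ≠ 1)
    (hB1 : g ^ r ≠ 1) {k l ηk ηl : ℕ}
    (hk : k = orderOf ((Fintype.card F : ℕ) : ZMod r))
    (hl : l = orderOf ((Fintype.card F : ℕ) : ZMod s))
    (hηk : IsEta k ηk) (hηl : IsEta l ηl) (hkl : ηk ≤ ηl) :
    ηk + ηl ≤ n ∨ ∃ t, Odd t ∧ l = k * t := by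
  classical
  by_cases hn : ηk + ηl ≤ n
  · left; exact hn
  right
  push Not at hn
  set A := g ^ s with hA
  set B' := g ^ r with hB'
  have hAd : SpData B A := ⟨hg.alt, hg.nd, hg.iso_pow s⟩
  have hBd : SpData B B' := ⟨hg.alt, hg.nd, hg.iso_pow r⟩
  have hAr : A ^ r = 1 := by rw [hA, ← pow_mul, mul_comm, hg1]
  have hBs : B' ^ s = 1 := by rw [hB', ← pow_mul, hg1]
  have h2a := two_eta_le hAd r hAr hr hA1 hk hηk
  have h2b := two_eta_le hBd s hBs hs hB1 hl hηl
  have hηkk : ηk ≤ k := by
    rcases hηk with ⟨_, h⟩ | ⟨_, h⟩ <;> omega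
  have hηll : ηl ≤ l := by
    rcases hηl with ⟨_, h⟩ | ⟨_, h⟩ <;> omega
  have hW : LinearMap.range (A - 1) ⊓ LinearMap.range (B' - 1) ≠ ⊥ := by
    intro hW
    have h1 := Submodule.finrank_sup_add_finrank_inf_eq (LinearMap.range (A - 1))
      (LinearMap.range (B' - 1))
    rw [hW, finrank_bot, add_zero] at h1
    have h2 := Submodule.finrank_le (LinearMap.range (A - 1) ⊔ LinearMap.range (B' - 1))
    omega
  have hApow : ∀ j, A ^ j = g ^ (j * s) := fun j => by rw [hA, ← pow_mul, mul_comm]
  have hBpow : ∀ j, B' ^ j = g ^ (j * r) := fun j => by rw [hB', ← pow_mul, mul_comm]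
  have hcA : g * A = A * g := by rw [hA, ← pow_succ', ← pow_succ]
  have hcB : g * B' = B' * g := by rw [hB', ← pow_succ', ← pow_succ]
  have hWinv : LinearMap.range (A - 1) ⊓ LinearMap.range (B' - 1) ∈ g.invtSubmodule := by
    rw [Module.End.mem_invtSubmodule_iff_forall_mem_of_mem]
    intro x hx
    exact ⟨range_sub_one_invt g hcA x hx.1, range_sub_one_invt g hcB x hx.2⟩
  have hnt : Nontrivial ↥(LinearMap.range (A - 1) ⊓ LinearMap.range (B' - 1)) :=
    Submodule.nontrivial_iff_ne_bot.2 hW
  set gW := res g hWinv with hgW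
  have hdeg : 0 < (minpoly F gW).natDegree :=
    minpoly.natDegree_pos (Algebra.IsIntegral.isIntegral gW)
  obtain ⟨π, hπm, hπi, hπd⟩ := exists_monic_irreducible_factor hdeg
  obtain ⟨w, hw0, hw⟩ := exists_ne_zero_of_dvd_minpoly gW hπd hπi.natDegree_pos
  have hv0 : (w : V) ≠ 0 := fun h => hw0 (Subtype.ext h)
  have hv : aeval g π (w : V) = 0 := by
    rw [← aeval_res_apply g hWinv π w, hw]; rfl
  have hvA : (w : V) ∈ LinearMap.range (A - 1) := w.2.1
  have hvB : (w : V) ∈ LinearMap.range (B' - 1) := w.2.2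
  have hMinv := cyc_invt g (w : V)
  have hMW : cyc g (w : V) ≤ LinearMap.range (A - 1) ⊓ LinearMap.range (B' - 1) := by
    intro x hx
    obtain ⟨p, rfl⟩ := (mem_cyc_iff g (w : V) x).1 hx
    exact mem_of_invt_aeval hWinv p w.2
  have hd : finrank F (cyc g (w : V)) = π.natDegree := finrank_cyc g hv0 hπi hπm hv
  have hMg : ∀ x ∈ cyc g (w : V), g x ∈ cyc g (w : V) :=
    (Module.End.mem_invtSubmodule_iff_forall_mem_of_mem g).1 hMinv
  have hkd : k ∣ finrank F (cyc g (w : V)) := by
    rw [hk]
    exact orderOf_dvd_finrank A r hAr hr _ (hMW.trans inf_le_left)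
      (pow_mem_of_invariant g _ hMg s)
  have hld : l ∣ finrank F (cyc g (w : V)) := by
    rw [hl]
    exact orderOf_dvd_finrank B' s hBs hs _ (hMW.trans inf_le_right)
      (pow_mem_of_invariant g _ hMg r)
  have hdpos : 0 < π.natDegree := hπi.natDegree_pos
  have hc0 : π.coeff 0 ≠ 0 := coeff_zero_ne_of_injective hg.injective hπi hπm hv0 hv
  have hdle : finrank F (cyc g (w : V)) ≤ 2 * n := by
    rw [← hdim]; exact Submodule.finrank_le _
  have hrodd : Odd r := (Fact.out : r.Prime).odd_of_ne_two hr2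
  have hsodd : Odd s := (Fact.out : s.Prime).odd_of_ne_two hs2
  rcases reverse_dichotomy hπi hπm hc0 with hco | ⟨c, hc, hrev⟩
  · -- totally isotropic
    have hiso : ∀ x ∈ cyc g (w : V), ∀ y ∈ cyc g (w : V), B x y = 0 := by
      intro x hx y hy
      exact hg.ortho_of_coprime hco (aeval_eq_zero_of_mem_cyc hv hx)
        (aeval_eq_zero_of_mem_cyc hv hy)
    have h3 := finrank_le_of_isotropic hg _ hiso
    rw [hd] at h3 hkd hld
    obtain ⟨e, he⟩ := hld
    have he1 : e = 1 := by
      have h4 : 0 < e := by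
        rcases Nat.eq_zero_or_pos e with h0 | h0
        · rw [h0, mul_zero] at he; omega
        · exact h0
      have h5 : e < 2 := by
        by_contra hcon
        push Not at hcon
        have : l * 2 ≤ l * e := Nat.mul_le_mul_left l hcon
        omega
      omega
    rw [he1, mul_one] at he
    rw [he] at hkd h3
    obtain ⟨t, ht⟩ := hkd
    rcases Nat.even_or_odd t with ⟨t', ht'⟩ | hodd
    · exfalso
      have hlu : l = 2 * (k * t') := by rw [ht, ht']; ring
      have ht'pos : 0 < t' := by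
        rcases Nat.eq_zero_or_pos t' with h0 | h0
        · rw [h0, mul_zero, mul_zero] at hlu; omega
        · exact h0
      have hku : k ≤ k * t' := Nat.le_mul_of_pos_right k ht'pos
      rcases hηl with ⟨hlodd, _⟩ | ⟨_, h2ηl⟩
      · rcases hlodd with ⟨z, hz⟩
        omega
      · omega
    · exact ⟨t, hodd, ht⟩
  · by_cases hd1 : π.natDegree = 1
    · exfalso
      have hπeq := hπm.eq_X_add_C hd1
      set b := π.coeff 0 with hb
      have hlead : π.coeff 1 = 1 := by
        have := hπm.coeff_natDegree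
        rw [hd1] at this
        exact this
      have e0 := congrArg (fun Q : F[X] => Q.coeff 0) hrev
      have e1 := congrArg (fun Q : F[X] => Q.coeff 1) hrev
      simp only [coeff_C_mul, coeff_reverse, hd1] at e0 e1
      rw [revAt_le (by omega)] at e0 e1
      simp only [Nat.sub_zero, Nat.sub_self] at e0 e1
      rw [hlead] at e0 e1
      rw [← hb] at e0 e1
      have hcb : c = b := by rw [mul_one] at e1; exact e1.symm
      have hbb : b * b = 1 := by rw [hcb] at e0; exact e0.symm
      have hgv : g (w : V) = (-b) • (w : V) := by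
        rw [hπeq] at hv
        simp only [map_add, aeval_X, aeval_C, LinearMap.add_apply,
          Module.algebraMap_end_apply] at hv
        rw [neg_smul]
        exact eq_neg_of_add_eq_zero_left hv
      have hg2 : (g ^ 2) (w : V) = (w : V) := by
        rw [pow_two, Module.End.mul_apply, hgv, map_smul, hgv, smul_smul, neg_mul_neg, hbb,
          one_smul]
      have hA2 : (A ^ 2) (w : V) = (w : V) := by
        rw [hApow]
        exact pow_apply_of_pow_fixed g _ 2 hg2 s
      have hco2 : Nat.Coprime 2 r := by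
        rw [Nat.coprime_comm, Nat.coprime_two_right]
        exact hrodd
      have hfix := fixed_of_coprime A _ 2 r hA2 hAr hco2 (Fact.out : r.Prime).one_lt
      exact hv0 (eq_zero_of_fixed_of_mem_range A r hAr hr _ hvA hfix)
    · have hsr : SelfRec π c := ⟨hπm, hc, hrev, by omega⟩
      haveI : Fact (Irreducible π) := ⟨hπi⟩
      obtain ⟨m, h2m, hσ⟩ := exists_frob_pow hsr
      have hfix := pow_fixed_on_cyc (g := g) hsr hv0 hv hσ
      have hwM : (w : V) ∈ cyc g (w : V) := self_mem_cyc g _
      have hrQ : r ∣ Fintype.card F ^ m + 1 := by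
        by_contra hnd
        have hco : Nat.Coprime (Fintype.card F ^ m + 1) r :=
          ((Nat.Prime.coprime_iff_not_dvd Fact.out).2 hnd).symm
        have h5 : (A ^ (Fintype.card F ^ m + 1)) (w : V) = (w : V) := by
          rw [hApow]
          exact pow_apply_of_pow_fixed g _ _ (hfix _ hwM) s
        have h6 := fixed_of_coprime A _ _ r h5 hAr hco (Fact.out : r.Prime).one_lt
        exact hv0 (eq_zero_of_fixed_of_mem_range A r hAr hr _ hvA h6)
      have hsQ : s ∣ Fintype.card F ^ m + 1 := by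
        by_contra hnd
        have hco : Nat.Coprime (Fintype.card F ^ m + 1) s :=
          ((Nat.Prime.coprime_iff_not_dvd Fact.out).2 hnd).symm
        have h5 : (B' ^ (Fintype.card F ^ m + 1)) (w : V) = (w : V) := by
          rw [hBpow]
          exact pow_apply_of_pow_fixed g _ _ (hfix _ hwM) r
        have h6 := fixed_of_coprime B' _ _ s h5 hBs hco (Fact.out : s.Prime).one_lt
        exact hv0 (eq_zero_of_fixed_of_mem_range B' s hBs hs _ hvB h6)
      obtain ⟨_, h2k, c1, hc1, hm1⟩ := eta_of_dvd_add_one r hr2 _ m hk hηk hrQ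
      obtain ⟨_, h2l, c2, hc2, hm2⟩ := eta_of_dvd_add_one s hs2 _ m hl hηl hsQ
      rw [hd] at hdle
      have hc21 : c2 = 1 := by
        have h5 : c2 < 2 := by
          by_contra hcon
          push Not at hcon
          have : ηl * 2 ≤ ηl * c2 := Nat.mul_le_mul_left ηl hcon
          omega
        rcases hc2 with ⟨z, hz⟩
        omega
      rw [hc21, mul_one] at hm2
      refine ⟨c1, hc1, ?_⟩
      rw [← h2l, ← h2k, ← hm2, hm1]
      ring

end main

end Cfsg.Agent.Lib.H12.PSpG
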