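import Mathlib
import Cfsg.Agent.Lib.H2.Singer

set_option autoImplicit false
set_option linter.unusedSectionVars false

/-!
# Elements of prescribed order in `GL_n(q)`: block sums and Singer cycles
-/

open Matrix Module

namespace Cfsg.Agent.Lib.H12.PGraph

variable {F : Type*} [Field F]

section block

variable {ι κ ν : Type*} [Fintype ι] [DecidableEq ι] [Fintype κ] [DecidableEq κ]
  [Fintype ν] [DecidableEq ν]

/-- block diagonal matrices as a monoid homomorphism -/
def blockMat (F : Type*) [Field F] (ι κ : Type*) [Fintype ι] [DecidableEq ι] [Fintype κ]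
    [DecidableEq κ] : Matrix ι ι F × Matrix κ κ F →* Matrix (ι ⊕ κ) (ι ⊕ κ) F where
  toFun x := Matrix.fromBlocks x.1 0 0 x.2
  map_one' := Matrix.fromBlocks_one
  map_mul' x y := by
    simp [Matrix.fromBlocks_multiply]

theorem blockMat_apply (x : Matrix ι ι F × Matrix κ κ F) :
    blockMat F ι κ x = Matrix.fromBlocks x.1 0 0 x.2 := rfl

theorem blockMat_injective : Function.Injective (blockMat F ι κ) := by
  intro x y h
  rw [blockMat_apply, blockMat_apply, Matrix.fromBlocks_inj] at h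
  exact Prod.ext h.1 h.2.2.2

/-- the block diagonal embedding `GL_ι × GL_κ → GL_ν` along `ι ⊕ κ ≃ ν` -/
noncomputable def blockGL (e : ι ⊕ κ ≃ ν) : GL ι F × GL κ F →* GL ν F :=
  ((Units.mapEquiv (Matrix.reindexAlgEquiv F F e).toMulEquiv).toMonoidHom.comp
    (Units.map (blockMat F ι κ))).comp (MulEquiv.prodUnits (M := Matrix ι ι F)
      (N := Matrix κ κ F)).symm.toMonoidHom

theorem blockGL_injective (e : ι ⊕ κ ≃ ν) : Function.Injective (blockGL (F := F) e) := by
  intro x y h
  have h1 : (Units.mapEquiv (Matrix.reindexAlgEquiv F F e).toMulEquiv)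
      (Units.map (blockMat F ι κ) ((MulEquiv.prodUnits (M := Matrix ι ι F)
        (N := Matrix κ κ F)).symm x)) =
      (Units.mapEquiv (Matrix.reindexAlgEquiv F F e).toMulEquiv)
      (Units.map (blockMat F ι κ) ((MulEquiv.prodUnits (M := Matrix ι ι F)
        (N := Matrix κ κ F)).symm y)) := h
  have h2 := (Units.mapEquiv (Matrix.reindexAlgEquiv F F e).toMulEquiv).injective h1
  have h3 := Units.map_injective (blockMat_injective (F := F) (ι := ι) (κ := κ)) h2
  exact (MulEquiv.prodUnits (M := Matrix ι ι F) (N := Matrix κ κ F)).symm.injective h3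

end block

/-- block sum of elements: orders combine by `lcm` -/
theorem exists_orderOf_lcm {a b : ℕ} (g₁ : GL (Fin a) F) (g₂ : GL (Fin b) F) :
    ∃ g : GL (Fin (a + b)) F, orderOf g = Nat.lcm (orderOf g₁) (orderOf g₂) := by
  refine ⟨blockGL finSumFinEquiv (g₁, g₂), ?_⟩
  rw [orderOf_injective _ (blockGL_injective finSumFinEquiv), Prod.orderOf]

/-- elements of `GL_a` live in `GL_n` for `a ≤ n` -/
theorem exists_orderOf_of_le {a n : ℕ} (h : a ≤ n) (g₁ : GL (Fin a) F) :
    ∃ g : GL (Fin n) F, orderOf g = orderOf g₁ := by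
  obtain ⟨c, rfl⟩ := Nat.exists_eq_add_of_le h
  obtain ⟨g, hg⟩ := exists_orderOf_lcm g₁ (1 : GL (Fin c) F)
  refine ⟨g, ?_⟩
  rw [hg, orderOf_one, Nat.lcm_one_right]

/-- Singer cycles: `GL_d(q)` has elements of every order dividing `q^d - 1` -/
theorem exists_orderOf_of_dvd [Fintype F] {d m : ℕ} (hd : 1 ≤ d)
    (hm : m ∣ Fintype.card F ^ d - 1) : ∃ g : GL (Fin d) F, orderOf g = m := by
  have : NeZero d := ⟨by omega⟩
  obtain ⟨C, hC, hcard⟩ := Cfsg.Agent.Lib.H2.Singer.exists_singer F d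
  obtain ⟨c, hc⟩ := IsCyclic.exists_ofOrder_eq_natCard (α := C)
  have hq : 2 ≤ Fintype.card F := Fintype.one_lt_card
  have hpos : 0 < Fintype.card F ^ d - 1 := by
    have : 2 ^ 1 ≤ Fintype.card F ^ d :=
      le_trans (Nat.pow_le_pow_left hq 1) (Nat.pow_le_pow_right (by omega) hd)
    omega
  have hc0 : orderOf c ≠ 0 := by rw [hc, hcard]; omega
  have hmc : m ∣ orderOf c := by rw [hc, hcard]; exact hm
  refine ⟨((c ^ (orderOf c / m) : C) : GL (Fin d) F), ?_⟩
  rw [Subgroup.orderOf_coe]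
  exact orderOf_pow_orderOf_div hc0 hmc

end Cfsg.Agent.Lib.H12.PGraph
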