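import Mathlib
import Cfsg.Agent.Lib.H12.CommUnip2

set_option autoImplicit false
set_option linter.unusedSectionVars false

/-!
# Elements of `PSL_n(q)` commuting with an element of order `p`
-/

open Matrix Module

namespace Cfsg.Agent.Lib.H12.CommUnip

variable {F : Type*} [Field F] [Fintype F]

/-- a prime dividing `∏_{i<d} (q^d - q^i)` divides `q` or some `q^j - 1`, `0 < j ≤ d` -/
theorem prime_dvd_prod (q d r : ℕ) (hr : r.Prime)
    (h : r ∣ ∏ i : Fin d, (q ^ d - q ^ (i : ℕ))) :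
    r ∣ q ∨ ∃ j, 0 < j ∧ j ≤ d ∧ r ∣ q ^ j - 1 := by
  rw [Prime.dvd_finsetProd_iff (Nat.Prime.prime hr)] at h
  obtain ⟨i, -, hi⟩ := h
  have hfac : q ^ d - q ^ (i : ℕ) = q ^ (i : ℕ) * (q ^ (d - i) - 1) := by
    have hid : (i : ℕ) ≤ d := i.2.le
    rw [Nat.mul_sub, mul_one, ← pow_add, Nat.add_sub_cancel' hid]
  rw [hfac] at hi
  rcases (Nat.Prime.dvd_mul hr).1 hi with h1 | h1
  · exact Or.inl (hr.dvd_of_dvd_pow h1)
  · exact Or.inr ⟨d - i, by have := i.2; omega, by omega, h1⟩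

/-- `q^j - 1 ∣ |SL_N(q)|` for `1 ≤ j ≤ N`, `2 ≤ N` -/
theorem pow_sub_one_dvd_card_SL' (N j : ℕ) (hN : 2 ≤ N) (hj1 : 1 ≤ j) (hjN : j ≤ N) :
    Fintype.card F ^ j - 1 ∣ Nat.card (Matrix.SpecialLinearGroup (Fin N) F) := by
  rcases Nat.lt_or_ge j 2 with h | h
  · have hj : j = 1 := by omega
    subst hj
    refine Dvd.dvd.trans ?_ (pow_sub_one_dvd_card_SL (F := F) N 2 le_rfl hN)
    have := Nat.sub_one_dvd_pow_sub_one (Fintype.card F) 2
    simpa using this
  · exact pow_sub_one_dvd_card_SL N j h hjN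

variable {n : ℕ}

theorem scalar_of_mem_center {A : Matrix.SpecialLinearGroup (Fin n) F} (hn : 1 ≤ n)
    (h : A ∈ Subgroup.center (Matrix.SpecialLinearGroup (Fin n) F)) :
    ∃ l : F, l ≠ 0 ∧ A.val = l • (1 : Matrix (Fin n) (Fin n) F) := by
  obtain ⟨l, hl, hA⟩ := Matrix.SpecialLinearGroup.mem_center_iff.1 h
  refine ⟨l, ?_, ?_⟩
  · rintro rfl
    rw [Fintype.card_fin, zero_pow (by omega)] at hl
    exact zero_ne_one hl
  · rw [← hA, Matrix.smul_one_eq_diagonal]
    rfl

theorem mem_center_of_scalar {A : Matrix.SpecialLinearGroup (Fin n) F} (l : F)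
    (h : A.val = l • (1 : Matrix (Fin n) (Fin n) F)) :
    A ∈ Subgroup.center (Matrix.SpecialLinearGroup (Fin n) F) := by
  rw [Subgroup.mem_center_iff]
  intro B
  apply Subtype.val_injective
  change B.val * A.val = A.val * B.val
  rw [h, Matrix.mul_smul, Matrix.smul_mul, mul_one, one_mul]

/-- the main theorem on the level of `PSL` -/
theorem psl_main (p : ℕ) [Fact p.Prime] [CharP F p] (hn : 4 ≤ n)
    (a b : Matrix.ProjectiveSpecialLinearGroup (Fin n) F) (ha : orderOf a = p) (hab : Commute a b)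
    (r : ℕ) (hr : r.Prime) (hrb : orderOf b = r) (hrp : r ≠ p) :
    r ∣ Nat.card (Matrix.SpecialLinearGroup (Fin (n - 2)) F) := by
  classical
  have hpp : p.Prime := Fact.out
  set q := Fintype.card F with hq
  obtain ⟨A, rfl⟩ := QuotientGroup.mk_surjective a
  obtain ⟨B, rfl⟩ := QuotientGroup.mk_surjective b
  -- `A ^ p` is scalar
  have h1 : A ^ p ∈ Subgroup.center (Matrix.SpecialLinearGroup (Fin n) F) := by
    rw [← QuotientGroup.eq_one_iff, QuotientGroup.mk_pow, ← ha]
    exact pow_orderOf_eq_one _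
  obtain ⟨l, hl, hAp⟩ := scalar_of_mem_center (by omega) h1
  have h2 : B ^ r ∈ Subgroup.center (Matrix.SpecialLinearGroup (Fin n) F) := by
    rw [← QuotientGroup.eq_one_iff, QuotientGroup.mk_pow, ← hrb]
    exact pow_orderOf_eq_one _
  obtain ⟨ζ, hζ, hBr⟩ := scalar_of_mem_center (by omega) h2
  have hAns : ∀ μ : F, A.val ≠ μ • (1 : Matrix (Fin n) (Fin n) F) := by
    intro μ hμ
    have h3 := mem_center_of_scalar μ hμ
    rw [← QuotientGroup.eq_one_iff] at h3
    rw [h3, orderOf_one] at ha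
    exact hpp.one_lt.ne ha
  have h4 : (B * A)⁻¹ * (A * B) ∈ Subgroup.center (Matrix.SpecialLinearGroup (Fin n) F) := by
    rw [← QuotientGroup.eq]
    have := hab.eq
    rw [QuotientGroup.mk_mul, QuotientGroup.mk_mul]
    exact this.symm
  obtain ⟨z, hz, hzAB⟩ := scalar_of_mem_center (by omega) h4
  have hAB' : A.val * B.val = z • (B.val * A.val) := by
    have h5 : (A * B).val = (B * A).val * ((B * A)⁻¹ * (A * B)).val := by
      rw [← Matrix.SpecialLinearGroup.coe_mul, mul_inv_cancel_left]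
    rw [hzAB, Matrix.SpecialLinearGroup.coe_mul, Matrix.SpecialLinearGroup.coe_mul] at h5
    rw [h5, Matrix.mul_smul, mul_one]
  have hBu : IsUnit B.val := by
    rw [Matrix.isUnit_iff_isUnit_det, B.2]
    exact isUnit_one
  have hAp' : A.val ^ p = l • (1 : Matrix (Fin n) (Fin n) F) := by
    rw [← hAp, Matrix.SpecialLinearGroup.coe_pow]
  have hBr' : B.val ^ r = ζ • (1 : Matrix (Fin n) (Fin n) F) := by
    rw [← hBr, Matrix.SpecialLinearGroup.coe_pow]
  have hAB : A.val * B.val = B.val * A.val := scalar_comm_eq_one p A.val B.val z l hl hBu hAp' hAB'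
  rcases matrix_core p r hr hrp (by omega) A.val B.val l ζ hl hζ hAp' hAns hBr' hAB with
    h | ⟨m, hm1, hm2, hm3⟩
  · -- `B ^ (q - 1) = 1`
    have h6 : B ^ (q - 1) = 1 := by
      apply Subtype.val_injective
      rw [Matrix.SpecialLinearGroup.coe_pow]
      exact h
    have h7 : ((B : Matrix.SpecialLinearGroup (Fin n) F) :
        Matrix.ProjectiveSpecialLinearGroup (Fin n) F) ^ (q - 1) = 1 := by
      rw [← QuotientGroup.mk_pow, h6]
      rfl
    have h8 : r ∣ q - 1 := by
      rw [← hrb]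
      exact orderOf_dvd_of_pow_eq_one h7
    refine h8.trans ?_
    have := pow_sub_one_dvd_card_SL' (F := F) (n - 2) 1 (by omega) le_rfl (by omega)
    simpa using this
  · have hmn : m ≤ n - 2 := by omega
    rcases prime_dvd_prod q m r hr hm3 with h | ⟨j, hj0, hjm, hj⟩
    · exfalso
      obtain ⟨k, -, hk⟩ := FiniteField.card F p
      rw [← hq] at hk
      rw [hk] at h
      have := hr.dvd_of_dvd_pow h
      exact hrp ((Nat.prime_dvd_prime_iff_eq hr hpp).1 this)
    · exact hj.trans (pow_sub_one_dvd_card_SL' (F := F) (n - 2) j (by omega) hj0 (by omega))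

end Cfsg.Agent.Lib.H12.CommUnip
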