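import Mathlib
import Cfsg.Agent.Lib.H12.CommUnip3

set_option autoImplicit false
set_option linter.unusedSectionVars false

/-!
# Element orders: from `PSL_n(q)` to `GL_n(q)` and back
-/

open Matrix Module

namespace Cfsg.Agent.Lib.H12.PGraph

variable {F : Type*} [Field F] [Fintype F] {n : ℕ}

/-- an element order of `PSL_n(q)` is an element order of `GL_n(q)` -/
theorem exists_GL_of_PSL (x : Matrix.ProjectiveSpecialLinearGroup (Fin n) F) :
    ∃ g : GL (Fin n) F, orderOf g = orderOf x := by
  obtain ⟨y, rfl⟩ := QuotientGroup.mk_surjective x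
  have h1 : orderOf (QuotientGroup.mk y : Matrix.ProjectiveSpecialLinearGroup (Fin n) F) ∣
      orderOf y := orderOf_map_dvd (QuotientGroup.mk' _) y
  have h0 : orderOf y ≠ 0 := (orderOf_pos y).ne'
  refine ⟨Matrix.SpecialLinearGroup.toGL (y ^ (orderOf y / orderOf
    (QuotientGroup.mk y : Matrix.ProjectiveSpecialLinearGroup (Fin n) F))), ?_⟩
  rw [orderOf_injective _ Matrix.SpecialLinearGroup.toGL_injective]
  exact orderOf_pow_orderOf_div h0 h1

/-- central elements of `SL_n(q)` have order dividing `q - 1` -/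
theorem pow_card_sub_one_of_mem_center (hn : 1 ≤ n) (z : Matrix.SpecialLinearGroup (Fin n) F)
    (hz : z ∈ Subgroup.center (Matrix.SpecialLinearGroup (Fin n) F)) :
    z ^ (Fintype.card F - 1) = 1 := by
  obtain ⟨l, hl, hzl⟩ := Cfsg.Agent.Lib.H12.CommUnip.scalar_of_mem_center hn hz
  apply Subtype.ext
  rw [Matrix.SpecialLinearGroup.coe_pow, hzl, smul_pow, one_pow,
    FiniteField.pow_card_sub_one_eq_one l hl, one_smul]
  rfl

/-- an element of `GL_n(q)` of order prime to `q - 1` gives an element of `PSL_n(q)` of the same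
order -/
theorem exists_PSL_of_GL (hn : 1 ≤ n) (g : GL (Fin n) F)
    (hcop : (orderOf g).Coprime (Fintype.card F - 1)) :
    ∃ x : Matrix.ProjectiveSpecialLinearGroup (Fin n) F, orderOf x = orderOf g := by
  classical
  -- the determinant is trivial
  have hdet : Matrix.GeneralLinearGroup.det g = 1 := by
    have h1 : orderOf (Matrix.GeneralLinearGroup.det g) ∣ orderOf g :=
      orderOf_map_dvd Matrix.GeneralLinearGroup.det g
    have h2 : orderOf (Matrix.GeneralLinearGroup.det g) ∣ Fintype.card F - 1 := by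
      rw [← Fintype.card_units]
      exact orderOf_dvd_card
    have h3 : orderOf (Matrix.GeneralLinearGroup.det g) ∣ 1 := by
      rw [← Nat.Coprime.gcd_eq_one hcop]
      exact Nat.dvd_gcd h1 h2
    exact orderOf_eq_one_iff.1 (Nat.dvd_one.1 h3)
  have hdet' : (g : Matrix (Fin n) (Fin n) F).det = 1 := by
    have := congrArg Units.val hdet
    simpa using this
  set y : Matrix.SpecialLinearGroup (Fin n) F := ⟨g.val, hdet'⟩ with hy
  have hyg : Matrix.SpecialLinearGroup.toGL y = g := by
    apply Units.ext
    rfl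
  have hord : orderOf y = orderOf g := by
    rw [← hyg, orderOf_injective _ Matrix.SpecialLinearGroup.toGL_injective]
  refine ⟨QuotientGroup.mk y, ?_⟩
  rw [← hord]
  apply Nat.dvd_antisymm
  · exact orderOf_map_dvd (QuotientGroup.mk' _) y
  · set j := orderOf (QuotientGroup.mk y : Matrix.ProjectiveSpecialLinearGroup (Fin n) F) with hj
    have h1 : y ^ j ∈ Subgroup.center (Matrix.SpecialLinearGroup (Fin n) F) := by
      rw [← QuotientGroup.eq_one_iff, QuotientGroup.mk_pow, hj]
      exact pow_orderOf_eq_one _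
    have h2 := pow_card_sub_one_of_mem_center hn _ h1
    rw [← pow_mul] at h2
    have h3 : orderOf y ∣ j * (Fintype.card F - 1) := orderOf_dvd_of_pow_eq_one h2
    rw [hord] at h3 ⊢
    exact Nat.Coprime.dvd_of_dvd_mul_right hcop h3

end Cfsg.Agent.Lib.H12.PGraph
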