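import Mathlib
import Cfsg.Agent.Lib.H12.PGraphA
import Cfsg.Agent.Lib.H12.PGraphB
import Cfsg.Agent.Lib.H12.PGraphC

set_option autoImplicit false
set_option linter.unusedSectionVars false

/-!
# Elements of order `r * s` in `GL_n(q)`, `r`, `s` primes not dividing `q (q - 1)`
-/

open Matrix Module

namespace Cfsg.Agent.Lib.H12.PGraph

theorem dvd_pow_sub_one_iff (q r : ℕ) (hq : 1 ≤ q) (j : ℕ) :
    r ∣ q ^ j - 1 ↔ ((q : ℕ) : ZMod r) ^ j = 1 := by
  have h1 : 1 ≤ q ^ j := Nat.one_le_pow _ _ hq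
  rw [← ZMod.natCast_eq_zero_iff, Nat.cast_sub h1, Nat.cast_pow, Nat.cast_one, sub_eq_zero]

theorem dvd_pow_sub_one_iff' (q r : ℕ) (hq : 1 ≤ q) (j : ℕ) :
    r ∣ q ^ j - 1 ↔ orderOf ((q : ℕ) : ZMod r) ∣ j := by
  rw [dvd_pow_sub_one_iff q r hq, orderOf_dvd_iff_pow_eq_one]

variable {F : Type*} [Field F] [Fintype F] {n : ℕ}

/-- an element of prime order `r` (invertible in `F`) in `GL_n(q)` forces `ord_r(q) ≤ n` -/
theorem orderOf_le_of_GL (g : GL (Fin n) F) (r : ℕ) [Fact r.Prime] (hg : orderOf g = r)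
    (hr : (r : F) ≠ 0) : orderOf ((Fintype.card F : ℕ) : ZMod r) ≤ n := by
  classical
  have hr1 : (Fact.out : r.Prime).one_lt = (Fact.out : r.Prime).one_lt := rfl
  set φ := (Matrix.toLinAlgEquiv' : Matrix (Fin n) (Fin n) F ≃ₐ[F] _) with hφ
  have h1 : (φ g.val) ^ r = 1 := by
    rw [← map_pow, ← Units.val_pow_eq_pow_val, ← hg, pow_orderOf_eq_one, Units.val_one, map_one]
  have h2 : φ g.val ≠ 1 := by
    intro h
    have h3 : g.val = 1 := φ.injective (by rw [h, map_one])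
    have h4 : g = 1 := Units.ext h3
    rw [h4, orderOf_one] at hg
    exact (Fact.out : r.Prime).one_lt.ne hg
  have := orderOf_le_finrank (φ g.val) r h1 hr h2
  rwa [Module.finrank_fin_fun] at this

/-- the constraint coming from an element of order `r * s` -/
theorem constraint_of_GL (g : GL (Fin n) F) (r s : ℕ) [Fact r.Prime] [Fact s.Prime]
    (hrs : r ≠ s) (hg : orderOf g = r * s) (hr : (r : F) ≠ 0) (hs : (s : F) ≠ 0) :
    orderOf ((Fintype.card F : ℕ) : ZMod r) + orderOf ((Fintype.card F : ℕ) : ZMod s) ≤ n ∨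
    ∃ d : ℕ, 1 ≤ d ∧ d ≤ n ∧ orderOf ((Fintype.card F : ℕ) : ZMod r) ∣ d ∧
      orderOf ((Fintype.card F : ℕ) : ZMod s) ∣ d := by
  classical
  have hrp : r.Prime := Fact.out
  have hsp : s.Prime := Fact.out
  set φ := (Matrix.toLinAlgEquiv' : Matrix (Fin n) (Fin n) F ≃ₐ[F] _) with hφ
  have hpow : g.val ^ (r * s) = 1 := by
    rw [← Units.val_pow_eq_pow_val, ← hg, pow_orderOf_eq_one, Units.val_one]
  have hA : (φ (g.val ^ s)) ^ r = 1 := by
    rw [← map_pow, ← pow_mul, mul_comm s r, hpow, map_one]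
  have hB : (φ (g.val ^ r)) ^ s = 1 := by
    rw [← map_pow, ← pow_mul, hpow, map_one]
  have hA1 : φ (g.val ^ s) ≠ 1 := by
    intro h
    have h3 : g.val ^ s = 1 := φ.injective (by rw [h, map_one])
    have h4 : g ^ s = 1 := Units.ext (by rw [Units.val_pow_eq_pow_val, h3, Units.val_one])
    have h5 := orderOf_dvd_of_pow_eq_one h4
    rw [hg] at h5
    have h6 : r ∣ 1 := by
      have : r * s ∣ 1 * s := by rwa [one_mul]
      exact (Nat.mul_dvd_mul_iff_right hsp.pos).1 this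
    exact hrp.one_lt.ne' (Nat.dvd_one.1 h6)
  have hB1 : φ (g.val ^ r) ≠ 1 := by
    intro h
    have h3 : g.val ^ r = 1 := φ.injective (by rw [h, map_one])
    have h4 : g ^ r = 1 := Units.ext (by rw [Units.val_pow_eq_pow_val, h3, Units.val_one])
    have h5 := orderOf_dvd_of_pow_eq_one h4
    rw [hg] at h5
    have h6 : s ∣ 1 := by
      have : r * s ∣ r * 1 := by rwa [mul_one]
      exact (Nat.mul_dvd_mul_iff_left hrp.pos).1 this
    exact hsp.one_lt.ne' (Nat.dvd_one.1 h6)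
  have hAB : φ (g.val ^ s) * φ (g.val ^ r) = φ (g.val ^ r) * φ (g.val ^ s) := by
    rw [← map_mul, ← map_mul, ← pow_add, ← pow_add, add_comm]
  have := core (φ (g.val ^ s)) (φ (g.val ^ r)) r s hA hB hA1 hB1 hr hs hAB
  rwa [Module.finrank_fin_fun] at this

/-- the numerical consequence -/
theorem lcm_bound (k l n : ℕ) (hk : 1 ≤ k) (hkl : k ≤ l)
    (h : k + l ≤ n ∨ ∃ d : ℕ, 1 ≤ d ∧ d ≤ n ∧ k ∣ d ∧ l ∣ d) : k + l ≤ n ∨ k ∣ l := by
  rcases h with h | ⟨d, hd1, hdn, hkd, hld⟩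
  · exact Or.inl h
  · by_cases hdiv : k ∣ l
    · exact Or.inr hdiv
    · left
      have h1 : Nat.lcm k l ∣ d := Nat.lcm_dvd hkd hld
      have h2 : Nat.lcm k l ≤ d := Nat.le_of_dvd (by omega) h1
      obtain ⟨t, ht⟩ : l ∣ Nat.lcm k l := Nat.dvd_lcm_right k l
      have h3 : 0 < Nat.lcm k l := Nat.lcm_pos (by omega) (by omega)
      have ht0 : t ≠ 0 := by
        rintro rfl
        rw [mul_zero] at ht
        omega
      have ht1 : t ≠ 1 := by
        rintro rfl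
        rw [mul_one] at ht
        apply hdiv
        rw [← ht]
        exact Nat.dvd_lcm_left k l
      have h4 : 2 * l ≤ l * t := by
        have : 2 ≤ t := by omega
        nlinarith
      omega

/-- existence: Singer cycles and block sums -/
theorem exists_GL_of_numeric (r s k l : ℕ) (hr : r.Prime) (hs : s.Prime) (hrs : r ≠ s)
    (hk : k = orderOf ((Fintype.card F : ℕ) : ZMod r))
    (hl : l = orderOf ((Fintype.card F : ℕ) : ZMod s)) (hk1 : 1 ≤ k) (hl1 : 1 ≤ l) (hln : l ≤ n)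
    (h : k + l ≤ n ∨ k ∣ l) : ∃ g : GL (Fin n) F, orderOf g = r * s := by
  classical
  have hq1 : 1 ≤ Fintype.card F := Fintype.card_pos
  have hcop : Nat.Coprime r s := (Nat.coprime_primes hr hs).2 hrs
  have hrk : r ∣ Fintype.card F ^ k - 1 := by
    rw [dvd_pow_sub_one_iff' _ _ hq1, hk]
  have hsl : s ∣ Fintype.card F ^ l - 1 := by
    rw [dvd_pow_sub_one_iff' _ _ hq1, hl]
  rcases h with h | h
  · obtain ⟨g₁, hg₁⟩ := exists_orderOf_of_dvd (F := F) hk1 hrk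
    obtain ⟨g₂, hg₂⟩ := exists_orderOf_of_dvd (F := F) hl1 hsl
    obtain ⟨g₃, hg₃⟩ := exists_orderOf_lcm g₁ g₂
    obtain ⟨g, hg⟩ := exists_orderOf_of_le h g₃
    refine ⟨g, ?_⟩
    rw [hg, hg₃, hg₁, hg₂, Nat.Coprime.lcm_eq_mul hcop]
  · have hrl : r ∣ Fintype.card F ^ l - 1 := by
      rw [dvd_pow_sub_one_iff' _ _ hq1, ← hk]
      exact h
    have hrsl : r * s ∣ Fintype.card F ^ l - 1 := Nat.Coprime.mul_dvd_of_dvd_of_dvd hcop hrl hsl
    obtain ⟨g₁, hg₁⟩ := exists_orderOf_of_dvd (F := F) hl1 hrsl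
    obtain ⟨g, hg⟩ := exists_orderOf_of_le hln g₁
    exact ⟨g, by rw [hg, hg₁]⟩

end Cfsg.Agent.Lib.H12.PGraph
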