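import Mathlib
import Cfsg.Agent.Lib.H12.PSpA
import Cfsg.Agent.Lib.H12.SemiC
import Cfsg.Agent.Lib.H13.SympBasis

/-!
# Orders of elements of `Sp_{2n}(F)`: transport from abstract symplectic spaces, orthogonal sums
(helper12)
-/

set_option autoImplicit false
set_option linter.unusedSectionVars false

namespace Cfsg.Agent.Lib.H12.PSpG

open Module Polynomial
open Cfsg.Agent.Lib.H12.SpSemi Cfsg.Agent.Lib.H12.Semi

universe u v w

/-- `Sp_{2n}(F)` has an element of order `d` -/
def HasOrd (F : Type u) [Field F] (n d : ℕ) : Prop :=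
  ∃ A : ↥(Matrix.symplecticGroup (Fin n) F), orderOf A = d

variable {F : Type u} [Field F]

theorem orderOf_eq_of_pow_iff {G H : Type*} [Monoid G] [Monoid H] (a : G) (b : H)
    (h : ∀ j : ℕ, a ^ j = 1 ↔ b ^ j = 1) : orderOf a = orderOf b := by
  apply Nat.dvd_antisymm
  · rw [orderOf_dvd_iff_pow_eq_one, h, pow_orderOf_eq_one]
  · rw [orderOf_dvd_iff_pow_eq_one, ← h, pow_orderOf_eq_one]

/-- transport of an isometry of a non-degenerate alternating space to a symplectic matrix of the
same order -/
theorem hasOrd_of_isometry {V : Type v} [AddCommGroup V] [Module F V] [FiniteDimensional F V]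
    {n : ℕ} (hV : finrank F V = 2 * n) {B : LinearMap.BilinForm F V} {g : Module.End F V}
    (h : SpData B g) : HasOrd F n (orderOf g) := by
  classical
  obtain ⟨b, hb⟩ := Cfsg.Agent.Lib.H13.exists_symp_basis B h.alt h.nd hV
  have hform := Cfsg.Agent.Lib.H13.sympForm_of_isSymp B h.alt b hb
  set b' := b.reindex (Equiv.sumComm (Fin n) (Fin n)) with hb'
  set A0 := LinearMap.toMatrix b' b' g with hA0
  have hmem : A0 ∈ Matrix.symplecticGroup (Fin n) F := by
    rw [Cfsg.Agent.Lib.H4.mem_symplecticGroup_iff_sympForm]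
    intro u w
    obtain ⟨v, rfl⟩ := b'.equivFun.surjective u
    obtain ⟨v', rfl⟩ := b'.equivFun.surjective w
    have e1 : ∀ z : V, Matrix.mulVec A0 (b'.equivFun z) = b'.equivFun (g z) := by
      intro z
      exact LinearMap.toMatrix_mulVec_repr b' b' g z
    rw [e1, e1, ← hform, ← hform, h.iso]
  refine ⟨⟨A0, hmem⟩, ?_⟩
  have h3 : ∀ i : ℕ, LinearMap.toMatrix b' b' g ^ i = LinearMap.toMatrix b' b' (g ^ i) := by
    intro i
    induction i with
    | zero => rw [pow_zero, pow_zero, LinearMap.toMatrix_one]
    | succ i ih =>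
      rw [pow_succ, pow_succ, ih]
      exact (LinearMap.toMatrix_mul b' (g ^ i) g).symm
  apply orderOf_eq_of_pow_iff
  intro j
  have h1 : ((⟨A0, hmem⟩ : ↥(Matrix.symplecticGroup (Fin n) F)) ^ j = 1) ↔ A0 ^ j = 1 := by
    constructor
    · intro h2
      have := congrArg Subtype.val h2
      exact this
    · intro h2
      apply Subtype.ext
      exact h2
  rw [h1, hA0, h3]
  constructor
  · intro h4
    apply (LinearMap.toMatrix b' b').injective
    rw [h4, LinearMap.toMatrix_one]
  · intro h4
    rw [h4, LinearMap.toMatrix_one]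

/-- the orthogonal sum of two forms -/
noncomputable def sumForm {V : Type v} {W : Type w} [AddCommGroup V] [Module F V]
    [AddCommGroup W] [Module F W] (B : LinearMap.BilinForm F V) (B' : LinearMap.BilinForm F W) :
    LinearMap.BilinForm F (V × W) :=
  B.compl₁₂ (LinearMap.fst F V W) (LinearMap.fst F V W) +
    B'.compl₁₂ (LinearMap.snd F V W) (LinearMap.snd F V W)

theorem sumForm_apply {V : Type v} {W : Type w} [AddCommGroup V] [Module F V]
    [AddCommGroup W] [Module F W] (B : LinearMap.BilinForm F V) (B' : LinearMap.BilinForm F W)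
    (x y : V × W) : sumForm B B' x y = B x.1 y.1 + B' x.2 y.2 := rfl

theorem spData_sum {V : Type v} {W : Type w} [AddCommGroup V] [Module F V]
    [AddCommGroup W] [Module F W] {B : LinearMap.BilinForm F V} {B' : LinearMap.BilinForm F W}
    {g : Module.End F V} {g' : Module.End F W} (h : SpData B g) (h' : SpData B' g') :
    SpData (sumForm B B') (g.prodMap g') where
  alt := by
    intro x
    rw [sumForm_apply, h.alt, h'.alt, add_zero]
  nd := by
    intro x hx
    have h1 : x.1 = 0 := by
      apply h.nd
      intro z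
      have := hx (z, 0)
      rw [sumForm_apply] at this
      simpa using this
    have h2 : x.2 = 0 := by
      apply h'.nd
      intro z
      have := hx (0, z)
      rw [sumForm_apply] at this
      simpa using this
    exact Prod.ext h1 h2
  iso := by
    intro x y
    rw [sumForm_apply, sumForm_apply, LinearMap.prodMap_apply, LinearMap.prodMap_apply, h.iso,
      h'.iso]

theorem prodMap_pow_eq {V : Type v} {W : Type w} [AddCommGroup V] [Module F V]
    [AddCommGroup W] [Module F W] (g : Module.End F V) (g' : Module.End F W) (j : ℕ) :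
    (g.prodMap g' : Module.End F (V × W)) ^ j = (g ^ j).prodMap (g' ^ j) := by
  induction j with
  | zero => rw [pow_zero, pow_zero, pow_zero, LinearMap.prodMap_one]
  | succ j ih => rw [pow_succ, pow_succ, pow_succ, ih, LinearMap.prodMap_mul]

theorem prodMap_eq_one_iff {V : Type v} {W : Type w} [AddCommGroup V] [Module F V]
    [AddCommGroup W] [Module F W] (g : Module.End F V) (g' : Module.End F W) :
    (g.prodMap g' : Module.End F (V × W)) = 1 ↔ g = 1 ∧ g' = 1 := by
  constructor
  · intro h
    constructor
    · apply LinearMap.ext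
      intro x
      have := congrArg (fun f : Module.End F (V × W) => (f (x, 0)).1) h
      simpa using this
    · apply LinearMap.ext
      intro x
      have := congrArg (fun f : Module.End F (V × W) => (f (0, x)).2) h
      simpa using this
  · rintro ⟨rfl, rfl⟩
    exact LinearMap.prodMap_one

theorem orderOf_prodMap {V : Type v} {W : Type w} [AddCommGroup V] [Module F V]
    [AddCommGroup W] [Module F W] (g : Module.End F V) (g' : Module.End F W) :
    orderOf (g.prodMap g' : Module.End F (V × W)) = Nat.lcm (orderOf g) (orderOf g') := by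
  apply Nat.dvd_antisymm
  · rw [orderOf_dvd_iff_pow_eq_one, prodMap_pow_eq, prodMap_eq_one_iff]
    exact ⟨orderOf_dvd_iff_pow_eq_one.1 (Nat.dvd_lcm_left _ _),
      orderOf_dvd_iff_pow_eq_one.1 (Nat.dvd_lcm_right _ _)⟩
  · have h1 := pow_orderOf_eq_one (g.prodMap g' : Module.End F (V × W))
    rw [prodMap_pow_eq, prodMap_eq_one_iff] at h1
    exact Nat.lcm_dvd (orderOf_dvd_iff_pow_eq_one.2 h1.1) (orderOf_dvd_iff_pow_eq_one.2 h1.2)

/-- from a symplectic matrix to an abstract isometry of the same order -/
theorem orderOf_toLin' {n : ℕ} (A : ↥(Matrix.symplecticGroup (Fin n) F)) :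
    orderOf (Matrix.toLin' A.1) = orderOf A := by
  apply orderOf_eq_of_pow_iff
  intro j
  rw [← toLin'_pow_eq]
  constructor
  · intro h
    apply Subtype.ext
    have h1 : Matrix.toLin' (A.1 ^ j) = Matrix.toLin' (1 : Matrix _ _ F) := by
      rw [h, Matrix.toLin'_one]; rfl
    exact Matrix.toLin'.injective h1
  · intro h
    have h1 : A.1 ^ j = 1 := congrArg Subtype.val h
    rw [h1, Matrix.toLin'_one]; rfl

theorem finrank_std (n : ℕ) : finrank F (Fin n ⊕ Fin n → F) = 2 * n := by
  rw [Module.finrank_pi, Fintype.card_sum, Fintype.card_fin, two_mul]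

theorem HasOrd.add {a b d e : ℕ} (h1 : HasOrd F a d) (h2 : HasOrd F b e) :
    HasOrd F (a + b) (Nat.lcm d e) := by
  obtain ⟨A, rfl⟩ := h1
  obtain ⟨A', rfl⟩ := h2
  have hs := spData_sum (spData_of_mem a A.2) (spData_of_mem b A'.2)
  have hdim : finrank F ((Fin a ⊕ Fin a → F) × (Fin b ⊕ Fin b → F)) = 2 * (a + b) := by
    rw [Module.finrank_prod, finrank_std, finrank_std]; ring
  have := hasOrd_of_isometry hdim hs
  rw [orderOf_prodMap, orderOf_toLin', orderOf_toLin'] at this
  exact this

theorem HasOrd.one (n : ℕ) : HasOrd F n 1 := ⟨1, orderOf_one⟩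

theorem HasOrd.mono {a n d : ℕ} (h : HasOrd F a d) (han : a ≤ n) : HasOrd F n d := by
  have := h.add (HasOrd.one (F := F) (n - a))
  rw [Nat.lcm_one_right, Nat.add_sub_cancel' han] at this
  exact this

end Cfsg.Agent.Lib.H12.PSpG
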