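import Mathlib
import Cfsg.Agent.Lib.H12.PSpD
import Cfsg.Agent.Lib.H12.PGraphD
import Cfsg.Agent.Lib.H2.SpOrder
import Cfsg.Agent.Lib.H13.SpPairs

/-!
# Elements of prescribed orders in `Sp_{2n}(q)` (helper12)
-/

set_option autoImplicit false
set_option linter.unusedSectionVars false

namespace Cfsg.Agent.Lib.H12.PSpG

open Module Polynomial
open Cfsg.Agent.Lib.H12.SpSemi Cfsg.Agent.Lib.H12.Semi Cfsg.Agent.Lib.H12.PGraph

universe u v

section field

variable {F : Type u} [Field F] {K : Type v} [Field K] [Algebra F K]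

/-- the alternating form `τ (x σ(y) - σ(x) y)` on a field with an involution -/
noncomputable def twForm (σ : K ≃ₐ[F] K) (τ : K →ₗ[F] F) : LinearMap.BilinForm F K :=
  LinearMap.mk₂ F (fun x y => τ (x * σ y - σ x * y))
    (by intro a b c; rw [← map_add]; congr 1; rw [map_add]; ring)
    (by intro c a b; rw [← map_smul]; congr 1; rw [map_smul, smul_sub, smul_mul_assoc,
      smul_mul_assoc])
    (by intro a b c; rw [← map_add]; congr 1; rw [map_add]; ring)
    (by intro c a b; rw [← map_smul]; congr 1; rw [map_smul, smul_sub, mul_smul_comm,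
      mul_smul_comm])

theorem twForm_apply (σ : K ≃ₐ[F] K) (τ : K →ₗ[F] F) (x y : K) :
    twForm σ τ x y = τ (x * σ y - σ x * y) := rfl

theorem spData_field [FiniteDimensional F K] (σ : K ≃ₐ[F] K) (hσ : ∀ x, σ (σ x) = x)
    (y0 : K) (hy0 : σ y0 ≠ y0) (μ : K) (hμ : μ * σ μ = 1) :
    ∃ B : LinearMap.BilinForm F K, SpData B (Algebra.lmul F K μ) := by
  have hu : y0 - σ y0 ≠ 0 := by
    intro h
    apply hy0
    exact (sub_eq_zero.1 h).symm
  obtain ⟨τ, hτ⟩ : ∃ τ : Module.Dual F K, τ (y0 - σ y0) ≠ 0 := by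
    by_contra hcon
    push Not at hcon
    exact hu ((Module.forall_dual_apply_eq_zero_iff F _).1 hcon)
  refine ⟨twForm σ τ, ?_, ?_, ?_⟩
  · intro x
    rw [twForm_apply, mul_comm x, sub_self, map_zero]
  · intro x hx
    by_contra hx0
    have := hx (σ (y0 * x⁻¹))
    rw [twForm_apply, hσ, ← map_mul, mul_comm y0, ← mul_assoc, mul_inv_cancel₀ hx0,
      one_mul] at this
    exact hτ this
  · intro x y
    rw [twForm_apply, twForm_apply]
    congr 1
    change μ * x * σ (μ * y) - σ (μ * x) * (μ * y) = _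
    rw [map_mul, map_mul]
    have h1 : μ * x * (σ μ * σ y) = (μ * σ μ) * (x * σ y) := by ring
    have h2 : σ μ * σ x * (μ * y) = (μ * σ μ) * (σ x * y) := by ring
    rw [h1, h2, hμ, one_mul, one_mul]

end field

section finite

variable {F : Type u} [Field F] [Fintype F]

/-- `Sp_{2m}(q)` has elements of every order dividing `q ^ m + 1` -/
theorem hasOrd_of_dvd_add_one (p : ℕ) [Fact p.Prime] [CharP F p] (m : ℕ) (hm : 1 ≤ m)
    (d : ℕ) (hd : d ∣ Fintype.card F ^ m + 1) : HasOrd F m d := by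
  classical
  haveI : NeZero (2 * m) := ⟨by omega⟩
  set K := FiniteField.Extension F p (2 * m) with hK
  haveI : Fintype K := Fintype.ofFinite K
  set q := Fintype.card F with hq
  have hq2 : 2 ≤ q := Fintype.one_lt_card
  have hqn : Nat.card F = q := Nat.card_eq_fintype_card
  have hcardK : Fintype.card K = q ^ (2 * m) := by
    rw [Fintype.card_eq_nat_card, FiniteField.natCard_extension, hqn]
  set σ : K ≃ₐ[F] K := (FiniteField.Extension.frob F p (2 * m)) ^ m with hσdef
  have hσx : ∀ x : K, σ x = x ^ (q ^ m) := by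
    intro x
    rw [hσdef, FiniteField.Extension.frob_iterate_apply, hqn]
  have hσσ : ∀ x : K, σ (σ x) = x := by
    intro x
    rw [hσx, hσx, ← pow_mul, ← pow_add, ← two_mul, ← hcardK, FiniteField.pow_card]
  have hQ1 : 1 ≤ q ^ m := Nat.one_le_pow _ _ (by omega)
  have hQ2 : 2 ≤ q ^ m := by
    calc 2 = 2 ^ 1 := by norm_num
      _ ≤ q ^ 1 := Nat.pow_le_pow_left hq2 1
      _ ≤ q ^ m := Nat.pow_le_pow_right (by omega) hm
  have hfac : q ^ (2 * m) - 1 = (q ^ m - 1) * (q ^ m + 1) := by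
    have : q ^ (2 * m) = q ^ m * q ^ m := by rw [two_mul, pow_add]
    rw [this]
    obtain ⟨t, ht⟩ : ∃ t, q ^ m = t + 1 := ⟨q ^ m - 1, by omega⟩
    rw [ht]
    simp only [Nat.add_sub_cancel]
    have : (t + 1) * (t + 1) - 1 = t * (t + 1 + 1) := by
      have : (t + 1) * (t + 1) = t * (t + 1 + 1) + 1 := by ring
      omega
    exact this
  obtain ⟨γ, hγ⟩ := IsCyclic.exists_generator (α := Kˣ)
  have hordγ : orderOf γ = q ^ (2 * m) - 1 := by
    rw [orderOf_eq_card_of_forall_mem_zpowers hγ, Nat.card_units, ← Fintype.card_eq_nat_card,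
      hcardK]
  have hpos : 0 < q ^ (2 * m) - 1 := by
    rw [hfac]
    apply Nat.mul_pos <;> omega
  -- the element of order `d`
  have hdK : d ∣ orderOf γ := by
    rw [hordγ, hfac]
    exact Dvd.dvd.mul_left hd _
  have hd0 : d ≠ 0 := by
    rintro rfl
    rw [zero_dvd_iff] at hd
    omega
  set e := orderOf γ / d with he
  have hed : e * d = orderOf γ := Nat.div_mul_cancel hdK
  have he0 : e ≠ 0 := by
    rintro h0
    rw [h0, zero_mul, hordγ] at hed
    omega
  have hou : orderOf (γ ^ e) = d := by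
    rw [orderOf_pow_of_dvd he0 ⟨d, hed.symm⟩, ← hed, Nat.mul_div_cancel_left _ (Nat.pos_of_ne_zero he0)]
  set μ : K := ((γ ^ e : Kˣ) : K) with hμdef
  have hoμ : orderOf μ = d := by rw [hμdef, orderOf_units, hou]
  have hμ : μ * σ μ = 1 := by
    rw [hσx, ← pow_succ']
    apply orderOf_dvd_iff_pow_eq_one.1
    rw [hoμ]
    exact hd
  -- a non-fixed element
  have hy0 : σ (γ : K) ≠ (γ : K) := by
    intro h
    rw [hσx] at h
    have h1 : γ ^ (q ^ m) = γ := Units.ext (by rw [Units.val_pow_eq_pow_val]; exact h)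
    have h2 : γ ^ (q ^ m - 1) = 1 := by
      have : γ ^ (q ^ m - 1) * γ = 1 * γ := by
        rw [← pow_succ, Nat.sub_add_cancel hQ1, h1, one_mul]
      exact mul_right_cancel this
    have h3 := orderOf_dvd_of_pow_eq_one h2
    rw [hordγ, hfac] at h3
    have h4 := Nat.le_of_dvd (by omega) h3
    have : (q ^ m - 1) * 2 ≤ (q ^ m - 1) * (q ^ m + 1) := Nat.mul_le_mul_left _ (by omega)
    omega
  obtain ⟨B, hB⟩ := spData_field (F := F) σ hσσ (γ : K) hy0 μ hμ
  have hdim : finrank F K = 2 * m := FiniteField.finrank_extension F p (2 * m)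
  have := hasOrd_of_isometry hdim hB
  have ho : orderOf (Algebra.lmul F K μ) = orderOf μ :=
    orderOf_injective (Algebra.lmul F K : K →ₐ[F] Module.End F K).toMonoidHom
      Algebra.lmul_injective μ
  rw [ho, hoμ] at this
  exact this

/-- Cauchy in `Sp_{2η}(q)` -/
theorem hasOrd_prime (r : ℕ) [Fact r.Prime] (η i : ℕ) (hi : i < η)
    (hr : r ∣ Fintype.card F ^ (2 * (i + 1)) - 1) : HasOrd F η r := by
  have hcard := Cfsg.Agent.Lib.H2.Sp.card_Sp (F := F) η
  have h1 : r ∣ Nat.card ↥(Matrix.symplecticGroup (Fin η) F) := by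
    rw [hcard]
    apply Dvd.dvd.mul_left
    exact hr.trans (Finset.dvd_prod_of_mem _ (Finset.mem_range.2 hi))
  have : Finite ↥(Matrix.symplecticGroup (Fin η) F) := by
    apply Nat.finite_of_card_ne_zero
    rw [hcard]
    have hq : 2 ≤ Fintype.card F := Fintype.one_lt_card
    apply Nat.mul_ne_zero
    · exact pow_ne_zero _ (by omega)
    · rw [Finset.prod_ne_zero_iff]
      intro j _
      have : 2 ^ (2 * (j + 1)) ≤ Fintype.card F ^ (2 * (j + 1)) := Nat.pow_le_pow_left hq _
      have : 2 ^ 1 ≤ 2 ^ (2 * (j + 1)) := Nat.pow_le_pow_right (by omega) (by omega)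
      omega
  exact exists_prime_orderOf_dvd_card' r h1

/-- an element of order `r` in `Sp_{2 η(k)}(q)` -/
theorem hasOrd_eta (r : ℕ) [Fact r.Prime] {k η : ℕ}
    (hk : k = orderOf ((Fintype.card F : ℕ) : ZMod r)) (hkpos : 0 < k) (hη : IsEta k η) :
    HasOrd F η r := by
  have hq1 : 1 ≤ Fintype.card F := Fintype.card_pos
  have hηpos : 0 < η := by
    rcases hη with ⟨_, h⟩ | ⟨_, h⟩ <;> omega
  apply hasOrd_prime r η (η - 1) (by omega)
  rw [dvd_pow_sub_one_iff' _ _ hq1, ← hk]
  have : η - 1 + 1 = η := by omega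
  rw [this]
  rcases hη with ⟨_, h⟩ | ⟨_, h⟩
  · rw [h]; exact dvd_mul_left k 2
  · rw [h]

/-- an element of order `p` in `Sp_2(q)` -/
theorem hasOrd_char (p : ℕ) [Fact p.Prime] [CharP F p] : HasOrd F 1 p := by
  have hcard := Cfsg.Agent.Lib.H2.Sp.card_Sp (F := F) 1
  have h1 : p ∣ Nat.card ↥(Matrix.symplecticGroup (Fin 1) F) := by
    rw [hcard]
    apply Dvd.dvd.mul_right
    rw [one_pow, pow_one]
    obtain ⟨e, he⟩ := FiniteField.card F p
    rw [he.2]
    exact dvd_pow_self p (PNat.ne_zero e)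
  have : Finite ↥(Matrix.symplecticGroup (Fin 1) F) := by
    apply Nat.finite_of_card_ne_zero
    rw [hcard]
    have hq : 2 ≤ Fintype.card F := Fintype.one_lt_card
    simp only [one_pow, pow_one, Finset.range_one, Finset.prod_singleton, zero_add, mul_one]
    apply Nat.mul_ne_zero
    · omega
    · have : 2 ^ 2 ≤ Fintype.card F ^ 2 := Nat.pow_le_pow_left hq _
      omega
  exact exists_prime_orderOf_dvd_card' p h1

/-- elements of `GL_l(q)` embed into `Sp_{2l}(q)` -/
theorem hasOrd_of_dvd_sub_one (l : ℕ) (hl : 1 ≤ l) (d : ℕ) (hd : d ∣ Fintype.card F ^ l - 1) :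
    HasOrd F l d := by
  obtain ⟨g, hg⟩ := exists_orderOf_of_dvd (F := F) hl hd
  refine ⟨Cfsg.Agent.Lib.H13.SpPairs.levSp g, ?_⟩
  rw [orderOf_injective _ Cfsg.Agent.Lib.H13.SpPairs.levSp_injective, hg]

end finite

end Cfsg.Agent.Lib.H12.PSpG
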