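import Mathlib
import Cfsg.Agent.Lib.H2.SpPerfect
import Cfsg.Agent.Lib.H4.Symp

/-!
# Symplectic matrices have determinant one and a self-reciprocal characteristic polynomial
(helper12)
-/

set_option autoImplicit false
set_option linter.unusedSectionVars false
open Polynomial

namespace Cfsg.Agent.Lib.H12.SpCount

open Matrix

variable {F : Type*} [Field F]

theorem det_sympTransvection (m : ℕ) (v : Fin m ⊕ Fin m → F) (c : F) :
    (Cfsg.sympTransvection m v c).det = 1 := by
  unfold Cfsg.sympTransvection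
  rw [← Matrix.smul_vecMulVec, Matrix.vecMulVec_eq Unit,
    Matrix.det_one_add_replicateCol_mul_replicateRow, dotProduct_smul, dotProduct_comm,
    Cfsg.Agent.Lib.H4.dot_J_self, smul_zero, add_zero]

/-- the determinant on the symplectic group -/
noncomputable def detHom (m : ℕ) (F : Type*) [Field F] :
    ↥(Matrix.symplecticGroup (Fin m) F) →* F :=
  (Matrix.detMonoidHom).comp (Submonoid.subtype _)

theorem detHom_apply (m : ℕ) (A : ↥(Matrix.symplecticGroup (Fin m) F)) :
    detHom m F A = (A : Matrix (Fin m ⊕ Fin m) (Fin m ⊕ Fin m) F).det := rfl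

theorem det_eq_one (m : ℕ) (A : ↥(Matrix.symplecticGroup (Fin m) F)) :
    (A : Matrix (Fin m ⊕ Fin m) (Fin m ⊕ Fin m) F).det = 1 := by
  have h1 : Cfsg.Agent.Lib.H2.Sp.TS F m ≤ (detHom m F).ker := by
    unfold Cfsg.Agent.Lib.H2.Sp.TS
    rw [Subgroup.closure_le]
    rintro g ⟨v, c, rfl⟩
    rw [SetLike.mem_coe, MonoidHom.mem_ker, detHom_apply, Cfsg.Agent.Lib.H2.Sp.tv_val]
    exact det_sympTransvection m v c
  have h2 : A ∈ Cfsg.Agent.Lib.H2.Sp.TS F m := by
    rw [Cfsg.Agent.Lib.H2.Sp.TS_eq_top]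
    exact Subgroup.mem_top _
  have h3 := h1 h2
  rw [MonoidHom.mem_ker, detHom_apply] at h3
  exact h3

theorem det_eq_one_of_mem (m : ℕ) {A : Matrix (Fin m ⊕ Fin m) (Fin m ⊕ Fin m) F}
    (hA : A ∈ Matrix.symplecticGroup (Fin m) F) : A.det = 1 :=
  det_eq_one m ⟨A, hA⟩

/-- the inverse of a symplectic matrix has the same characteristic polynomial -/
theorem charpoly_inv (m : ℕ) (A : ↥(Matrix.symplecticGroup (Fin m) F)) :
    ((A⁻¹ : ↥(Matrix.symplecticGroup (Fin m) F)) :
      Matrix (Fin m ⊕ Fin m) (Fin m ⊕ Fin m) F).charpoly =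
    (A : Matrix (Fin m ⊕ Fin m) (Fin m ⊕ Fin m) F).charpoly := by
  rw [SymplecticGroup.coe_inv, Matrix.mul_assoc, Matrix.charpoly_mul_comm,
    Matrix.mul_assoc, Matrix.mul_neg, Matrix.J_squared, neg_neg, Matrix.mul_one,
    Matrix.charpoly_transpose]

theorem charpoly_reverse (m : ℕ) (A : ↥(Matrix.symplecticGroup (Fin m) F)) :
    (A : Matrix (Fin m ⊕ Fin m) (Fin m ⊕ Fin m) F).charpoly.reverse =
      (A : Matrix (Fin m ⊕ Fin m) (Fin m ⊕ Fin m) F).charpoly := by
  rw [Matrix.reverse_charpoly, Matrix.charpolyRev, ← charpoly_inv m A]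
  set M : Matrix (Fin m ⊕ Fin m) (Fin m ⊕ Fin m) F := A.1 with hM
  set M' : Matrix (Fin m ⊕ Fin m) (Fin m ⊕ Fin m) F :=
    (A⁻¹ : ↥(Matrix.symplecticGroup (Fin m) F)).1 with hM'
  have hMM' : M * M' = 1 := by
    have : (A * A⁻¹ : ↥(Matrix.symplecticGroup (Fin m) F)).1 = 1 := by
      rw [mul_inv_cancel]; rfl
    exact this
  have h1 : (1 : Matrix (Fin m ⊕ Fin m) (Fin m ⊕ Fin m) F[X]) - (X : F[X]) • M.map C =
      M.map C * (-(Matrix.charmatrix M')) := by
    have h2 : M.map (C : F → F[X]) * M'.map C = 1 := by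
      rw [← Matrix.map_mul, hMM', Matrix.map_one C (map_zero _) (map_one _)]
    rw [Matrix.charmatrix, neg_sub, Matrix.mul_sub, RingHom.mapMatrix_apply, h2]
    congr 1
    rw [Matrix.scalar_apply, ← Matrix.smul_one_eq_diagonal, Matrix.mul_smul, Matrix.mul_one]
  rw [h1, Matrix.det_mul, Matrix.det_neg, Matrix.charpoly, Fintype.card_sum, Fintype.card_fin]
  have h3 : (M.map (C : F → F[X])).det = 1 := by
    have := (RingHom.map_det (C : F →+* F[X]) M).symm
    rw [RingHom.mapMatrix_apply] at this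
    rw [this, hM, det_eq_one, map_one]
  rw [h3, one_mul, ← two_mul, pow_mul, neg_one_sq, one_pow, one_mul]

end Cfsg.Agent.Lib.H12.SpCount
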