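import Mathlib
import Cfsg.Agent.Lib.H12.PSpB
import Cfsg.Agent.Lib.H12.PSpC
import Cfsg.Agent.Lib.H12.PSpE
import Cfsg.Agent.Lib.H12.SpCountA
import Cfsg.Agent.Lib.H2.SpCenter
import Cfsg.Prelude.Def_Classical

/-!
# The prime graph of `PSp_{2n}(q)`: final statements (helper12)
-/

set_option autoImplicit false
set_option linter.unusedSectionVars false

namespace Cfsg.Agent.Lib.H12.PSpG

open Module Polynomial
open Cfsg.Agent.Lib.H12.SpSemi Cfsg.Agent.Lib.H12.Semi Cfsg.Agent.Lib.H12.PGraph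

universe u

variable {F : Type u} [Field F]

section lift

/-- an element of `PSp` lifts to an element of `Sp` of the same order -/
theorem hasOrd_of_psp [Finite F] (n : ℕ) (x : Cfsg.PSp n F) : HasOrd F n (orderOf x) := by
  obtain ⟨g, rfl⟩ := QuotientGroup.mk_surjective x
  have : Finite ↥(Matrix.symplecticGroup (Fin n) F) := Subtype.finite
  set d := orderOf (QuotientGroup.mk g : Cfsg.PSp n F) with hd
  have hdvd : d ∣ orderOf g :=
    orderOf_map_dvd (QuotientGroup.mk' (Subgroup.center ↥(Matrix.symplecticGroup (Fin n) F))) g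
  have hpos : 0 < orderOf g := orderOf_pos g
  have hdpos : 0 < d := Nat.pos_of_dvd_of_pos hdvd hpos
  set e := orderOf g / d with he
  have hed : e * d = orderOf g := Nat.div_mul_cancel hdvd
  have he0 : e ≠ 0 := by
    rintro h0
    rw [h0, zero_mul] at hed
    omega
  refine ⟨g ^ e, ?_⟩
  rw [orderOf_pow_of_dvd he0 ⟨d, hed.symm⟩, ← hed, Nat.mul_div_cancel_left _ (Nat.pos_of_ne_zero he0)]

/-- an element of `Sp` of odd order (or any order in characteristic 2) maps to an element of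
`PSp` of the same order -/
theorem psp_of_hasOrd (n : ℕ) (hn : 1 ≤ n) (d : ℕ) (h : HasOrd F n d)
    (hd : Odd d ∨ (2 : F) = 0) : ∃ x : Cfsg.PSp n F, orderOf x = d := by
  obtain ⟨A, rfl⟩ := h
  refine ⟨(QuotientGroup.mk A : Cfsg.PSp n F), ?_⟩
  apply Nat.dvd_antisymm
  · exact orderOf_map_dvd
      (QuotientGroup.mk' (Subgroup.center ↥(Matrix.symplecticGroup (Fin n) F))) A
  · set j := orderOf (QuotientGroup.mk A : Cfsg.PSp n F) with hj
    have h1 : (QuotientGroup.mk A : Cfsg.PSp n F) ^ j = 1 := pow_orderOf_eq_one _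
    rw [← QuotientGroup.mk_pow, QuotientGroup.eq_one_iff] at h1
    have h2 : A ^ j ∈ (Subgroup.center ↥(Matrix.symplecticGroup (Fin n) F) :
        Set ↥(Matrix.symplecticGroup (Fin n) F)) := h1
    rw [Cfsg.Agent.Lib.H2.Sp.center_eq n hn] at h2
    have hneg : (Cfsg.Agent.Lib.H2.Sp.negOne n : ↥(Matrix.symplecticGroup (Fin n) F)) ^ 2 = 1 := by
      apply Subtype.ext
      change ((-1 : Matrix (Fin n ⊕ Fin n) (Fin n ⊕ Fin n) F)) ^ 2 = 1
      rw [neg_one_sq]
    rcases h2 with h3 | h3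
    · exact orderOf_dvd_of_pow_eq_one h3
    · rw [Set.mem_singleton_iff] at h3
      rcases hd with hodd | h20
      · have h4 : A ^ (j * 2) = 1 := by rw [pow_mul, h3, hneg]
        have h5 := orderOf_dvd_of_pow_eq_one h4
        have hco : Nat.Coprime (orderOf A) 2 := Nat.coprime_two_right.2 hodd
        exact hco.dvd_of_dvd_mul_right h5
      · have h4 : (Cfsg.Agent.Lib.H2.Sp.negOne n : ↥(Matrix.symplecticGroup (Fin n) F)) = 1 := by
          apply Subtype.ext
          change (-1 : Matrix (Fin n ⊕ Fin n) (Fin n ⊕ Fin n) F) = 1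
          have h6 : (2 : Matrix (Fin n ⊕ Fin n) (Fin n ⊕ Fin n) F) = 0 := by
            ext a b
            have : (2 : Matrix (Fin n ⊕ Fin n) (Fin n ⊕ Fin n) F) =
                (1 : Matrix (Fin n ⊕ Fin n) (Fin n ⊕ Fin n) F) + 1 := by norm_num
            rw [this, Matrix.add_apply, Matrix.zero_apply]
            by_cases hab : a = b
            · rw [hab, Matrix.one_apply_eq, one_add_one_eq_two, h20]
            · rw [Matrix.one_apply_ne hab, add_zero]
          have h7 : (1 : Matrix (Fin n ⊕ Fin n) (Fin n ⊕ Fin n) F) + 1 = 0 := by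
            rw [one_add_one_eq_two, h6]
          exact (eq_neg_of_add_eq_zero_left h7).symm
        rw [h4] at h3
        exact orderOf_dvd_of_pow_eq_one h3

end lift

section finite

variable [Fintype F]

theorem natCast_ne_zero_of_ne (p : ℕ) [Fact p.Prime] [CharP F p] (r : ℕ) (hr : r.Prime)
    (hrp : r ≠ p) : (r : F) ≠ 0 := by
  intro h
  rw [CharP.cast_eq_zero_iff F p] at h
  exact hrp ((Nat.prime_dvd_prime_iff_eq Fact.out hr).1 h).symm

/-- the order of `q` modulo a prime different from the characteristic is positive -/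
theorem ord_card_pos (p : ℕ) [Fact p.Prime] [CharP F p] (r : ℕ) [Fact r.Prime] (hrp : r ≠ p) :
    0 < orderOf ((Fintype.card F : ℕ) : ZMod r) := by
  rw [orderOf_pos_iff]
  apply isOfFinOrder_iff_pow_eq_one.2
  refine ⟨r - 1, by have := (Fact.out : r.Prime).one_lt; omega, ?_⟩
  apply ZMod.pow_card_sub_one_eq_one
  intro hz
  rw [ZMod.natCast_eq_zero_iff] at hz
  obtain ⟨e, he⟩ := FiniteField.card F p
  rw [he.2] at hz
  have hdvd : r ∣ p := (Fact.out : r.Prime).dvd_of_dvd_pow hz
  exact hrp ((Nat.prime_dvd_prime_iff_eq Fact.out Fact.out).1 hdvd)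

/-- data of a symplectic matrix of order `d` as an endomorphism -/
theorem exists_end_of_hasOrd {n d : ℕ} (h : HasOrd F n d) :
    ∃ A : ↥(Matrix.symplecticGroup (Fin n) F), orderOf A = d ∧
      SpData (stdForm n F) (Matrix.toLin' A.1) ∧ orderOf (Matrix.toLin' A.1) = d := by
  obtain ⟨A, hA⟩ := h
  exact ⟨A, hA, spData_of_mem n A.2, by rw [orderOf_toLin', hA]⟩

theorem eta_le_of_hasOrd (p : ℕ) [Fact p.Prime] [CharP F p] (n r : ℕ) [Fact r.Prime]
    (hrp : r ≠ p) (h : HasOrd F n r) {k η : ℕ}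
    (hk : k = orderOf ((Fintype.card F : ℕ) : ZMod r)) (hη : IsEta k η) : η ≤ n := by
  obtain ⟨A, hA, hsp, hord⟩ := exists_end_of_hasOrd h
  have hr : (r : F) ≠ 0 := natCast_ne_zero_of_ne p r Fact.out hrp
  have hT : (Matrix.toLin' A.1) ^ r = 1 := by rw [← hord]; exact pow_orderOf_eq_one _
  have hT1 : Matrix.toLin' A.1 ≠ 1 := by
    intro h1
    rw [h1, orderOf_one] at hord
    exact (Fact.out : r.Prime).one_lt.ne hord
  have h1 := two_eta_le hsp r hT hr hT1 hk hη
  have h2 := Submodule.finrank_le (LinearMap.range (Matrix.toLin' A.1 - 1))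
  rw [finrank_std] at h2
  omega

/-- no element of order `r p` when `η(k) ≥ n` -/
theorem no_rp (p : ℕ) [Fact p.Prime] [CharP F p] (n r : ℕ) [Fact r.Prime] (hr2 : r ≠ 2)
    (hrp : r ≠ p) {k η : ℕ} (hk : k = orderOf ((Fintype.card F : ℕ) : ZMod r)) (hη : IsEta k η)
    (hge : n ≤ η) : ¬ HasOrd F n (r * p) := by
  intro h
  obtain ⟨A, hA, hsp, hord⟩ := exists_end_of_hasOrd h
  have hr : (r : F) ≠ 0 := natCast_ne_zero_of_ne p r Fact.out hrp
  have hr1 := (Fact.out : r.Prime).one_lt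
  have hp1 := (Fact.out : p.Prime).one_lt
  set G := Matrix.toLin' A.1 with hG
  have hG1 : G ^ (r * p) = 1 := by rw [← hord]; exact pow_orderOf_eq_one _
  have hspT : SpData (stdForm n F) (G ^ p) := ⟨hsp.alt, hsp.nd, hsp.iso_pow p⟩
  have hT : (G ^ p) ^ r = 1 := by rw [← pow_mul, mul_comm, hG1]
  have hT1 : G ^ p ≠ 1 := by
    intro h1
    have := orderOf_dvd_of_pow_eq_one h1
    rw [hord] at this
    have := Nat.le_of_dvd (by omega) this
    nlinarith
  have hU1 : G ^ r ≠ 1 := by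
    intro h1
    have := orderOf_dvd_of_pow_eq_one h1
    rw [hord] at this
    have := Nat.le_of_dvd (by omega) this
    nlinarith
  have hηn : η = n := by
    have h1 := two_eta_le hspT r hT hr hT1 hk hη
    have h2 := Submodule.finrank_le (LinearMap.range (G ^ p - 1))
    rw [finrank_std] at h2
    omega
  have hrev : (G ^ p).charpoly.reverse = (G ^ p).charpoly := by
    rw [hG, ← toLin'_pow_eq, Matrix.charpoly_toLin']
    exact Cfsg.Agent.Lib.H12.SpCount.charpoly_reverse n (A ^ p)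
  have hnil : IsNilpotent (G ^ r - 1) := by
    refine ⟨p, ?_⟩
    have h1 : ((X : F[X]) - 1) ^ p = X ^ p - 1 := by
      rw [sub_pow_char, one_pow]
    have h2 := congrArg (fun P : F[X] => aeval (G ^ r) P) h1
    simp only [map_pow, map_sub, aeval_X, map_one] at h2
    rw [h2, ← pow_mul, hG1, sub_self]
  have hcomm : (G ^ r - 1) * G ^ p = G ^ p * (G ^ r - 1) := by
    rw [sub_mul, mul_sub, one_mul, mul_one, ← pow_add, ← pow_add, add_comm]
  have hdim : finrank F (Fin n ⊕ Fin n → F) = 2 * η := by rw [finrank_std, hηn]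
  have := unipotent_trivial hspT r hr2 hT hr hT1 hrev hk hη hdim (G ^ r - 1) hnil hcomm
  exact hU1 (sub_eq_zero.1 this)

/-- the obstruction for two odd primes -/
theorem no_rs (p : ℕ) [Fact p.Prime] [CharP F p] (n r s : ℕ) [Fact r.Prime] [Fact s.Prime]
    (hr2 : r ≠ 2) (hs2 : s ≠ 2) (hrp : r ≠ p) (hsp : s ≠ p)
    {k l ηk ηl : ℕ} (hk : k = orderOf ((Fintype.card F : ℕ) : ZMod r))
    (hl : l = orderOf ((Fintype.card F : ℕ) : ZMod s))
    (hηk : IsEta k ηk) (hηl : IsEta l ηl) (hkl : ηk ≤ ηl) (h : HasOrd F n (r * s)) :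
    ηk + ηl ≤ n ∨ ∃ t, Odd t ∧ l = k * t := by
  obtain ⟨A, hA, hspd, hord⟩ := exists_end_of_hasOrd h
  have hr : (r : F) ≠ 0 := natCast_ne_zero_of_ne p r Fact.out hrp
  have hs : (s : F) ≠ 0 := natCast_ne_zero_of_ne p s Fact.out hsp
  have hr1 := (Fact.out : r.Prime).one_lt
  have hs1 := (Fact.out : s.Prime).one_lt
  set G := Matrix.toLin' A.1 with hG
  have hG1 : G ^ (r * s) = 1 := by rw [← hord]; exact pow_orderOf_eq_one _
  have hA1 : G ^ s ≠ 1 := by
    intro h1
    have := orderOf_dvd_of_pow_eq_one h1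
    rw [hord] at this
    have := Nat.le_of_dvd (by omega) this
    nlinarith
  have hB1 : G ^ r ≠ 1 := by
    intro h1
    have := orderOf_dvd_of_pow_eq_one h1
    rw [hord] at this
    have := Nat.le_of_dvd (by omega) this
    nlinarith
  exact adj_core hspd (finrank_std n) r s hr2 hs2 hr hs hG1 hA1 hB1 hk hl hηk hηl hkl

/-- `q ^ (η t) ≡ -1` modulo `r` for `k = 2 η` and odd `t` -/
theorem dvd_add_one_of_eta (r : ℕ) [Fact r.Prime] (q : ℕ) {k η : ℕ}
    (hk : k = orderOf ((q : ℕ) : ZMod r)) (hkpos : 0 < k) (h2 : 2 * η = k) (t : ℕ)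
    (ht : Odd t) : r ∣ q ^ (η * t) + 1 := by
  rw [← ZMod.natCast_eq_zero_iff]
  push_cast
  have h1 : (((q : ℕ) : ZMod r) ^ η) ^ 2 = 1 := by
    rw [← pow_mul, mul_comm, h2, hk, pow_orderOf_eq_one]
  have h3 : ((q : ℕ) : ZMod r) ^ η ≠ 1 := by
    intro h4
    have := orderOf_dvd_of_pow_eq_one h4
    rw [← hk] at this
    have := Nat.le_of_dvd (by omega) this
    omega
  have h5 : ((q : ℕ) : ZMod r) ^ η = -1 := by
    have h6 : (((q : ℕ) : ZMod r) ^ η - 1) * (((q : ℕ) : ZMod r) ^ η + 1) = 0 := by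
      have : (((q : ℕ) : ZMod r) ^ η - 1) * (((q : ℕ) : ZMod r) ^ η + 1) =
          (((q : ℕ) : ZMod r) ^ η) ^ 2 - 1 := by ring
      rw [this, h1, sub_self]
    rcases mul_eq_zero.1 h6 with h7 | h7
    · exact absurd (sub_eq_zero.1 h7) h3
    · exact eq_neg_of_add_eq_zero_left h7
  rw [pow_mul, h5, ht.neg_one_pow]
  ring

/-- existence of elements of order `r s` -/
theorem hasOrd_rs (p : ℕ) [Fact p.Prime] [CharP F p] (n r s : ℕ) [Fact r.Prime] [Fact s.Prime]
    (hrp : r ≠ p) (hsp : s ≠ p) (hrs : r ≠ s)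
    {k l ηk ηl : ℕ} (hk : k = orderOf ((Fintype.card F : ℕ) : ZMod r))
    (hl : l = orderOf ((Fintype.card F : ℕ) : ZMod s))
    (hηk : IsEta k ηk) (hηl : IsEta l ηl) (hln : ηl ≤ n)
    (h : ηk + ηl ≤ n ∨ ∃ t, Odd t ∧ l = k * t) : HasOrd F n (r * s) := by
  have hkpos : 0 < k := by rw [hk]; exact ord_card_pos p r hrp
  have hlpos : 0 < l := by rw [hl]; exact ord_card_pos p s hsp
  have hco : Nat.Coprime r s := (Nat.coprime_primes Fact.out Fact.out).2 hrs
  have hq1 : 1 ≤ Fintype.card F := Fintype.card_pos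
  rcases h with h | ⟨t, ht, hlt⟩
  · have h1 := (hasOrd_eta r hk hkpos hηk).add (hasOrd_eta s hl hlpos hηl)
    rw [Nat.Coprime.lcm_eq_mul hco] at h1
    exact h1.mono h
  · rcases hηl with ⟨hlodd, hηl'⟩ | ⟨hlev, h2l⟩
    · -- `l` odd
      have hsl : s ∣ Fintype.card F ^ l - 1 := by
        rw [dvd_pow_sub_one_iff' _ _ hq1, ← hl]
      have hrl : r ∣ Fintype.card F ^ l - 1 := by
        rw [dvd_pow_sub_one_iff' _ _ hq1, ← hk, hlt]
        exact dvd_mul_right k t
      have h1 := hasOrd_of_dvd_sub_one (F := F) l hlpos (r * s)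
        (Nat.Coprime.mul_dvd_of_dvd_of_dvd hco hrl hsl)
      rw [hηl'] at hln
      exact h1.mono hln
    · -- `l` even
      have hkev : Even k := by
        rcases Nat.even_or_odd k with hev | hodd
        · exact hev
        · exfalso
          have : Odd (k * t) := hodd.mul ht
          rw [← hlt] at this
          exact (Nat.not_even_iff_odd.2 this) hlev
      rcases hηk with ⟨hkodd, _⟩ | ⟨_, h2k⟩
      · exact absurd hkev (Nat.not_even_iff_odd.2 hkodd)
      · have hηlt : ηl = ηk * t := by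
          have : 2 * ηl = 2 * (ηk * t) := by rw [h2l, hlt, ← h2k]; ring
          omega
        have hr' : r ∣ Fintype.card F ^ ηl + 1 := by
          rw [hηlt]
          exact dvd_add_one_of_eta r _ hk hkpos h2k t ht
        have hs' : s ∣ Fintype.card F ^ ηl + 1 := by
          have := dvd_add_one_of_eta s _ hl hlpos h2l 1 odd_one
          rwa [mul_one] at this
        have hηlpos : 1 ≤ ηl := by omega
        have h1 := hasOrd_of_dvd_add_one (F := F) p ηl hηlpos (r * s)
          (Nat.Coprime.mul_dvd_of_dvd_of_dvd hco hr' hs')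
        exact h1.mono hln

/-- existence of elements of order `r p` -/
theorem hasOrd_rp (p : ℕ) [Fact p.Prime] [CharP F p] (n r : ℕ) [Fact r.Prime]
    (hrp : r ≠ p) {k ηk : ℕ} (hk : k = orderOf ((Fintype.card F : ℕ) : ZMod r))
    (hηk : IsEta k ηk) (h : ηk + 1 ≤ n) : HasOrd F n (r * p) := by
  have hkpos : 0 < k := by rw [hk]; exact ord_card_pos p r hrp
  have hco : Nat.Coprime r p := (Nat.coprime_primes Fact.out Fact.out).2 hrp
  have h1 := (hasOrd_eta r hk hkpos hηk).add (hasOrd_char (F := F) p)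
  rw [Nat.Coprime.lcm_eq_mul hco] at h1
  exact h1.mono h

/-- a prime dividing `|PSp|` is the order of an element of `Sp` -/
theorem hasOrd_of_dvd_card_psp (n r : ℕ) [Fact r.Prime]
    (hrG : r ∣ Nat.card (Cfsg.PSp n F)) : HasOrd F n r := by
  have : Finite ↥(Matrix.symplecticGroup (Fin n) F) := Subtype.finite
  have h1 : r ∣ Nat.card ↥(Matrix.symplecticGroup (Fin n) F) :=
    hrG.trans (Subgroup.card_quotient_dvd_card _)
  exact exists_prime_orderOf_dvd_card' r h1

end finite

end Cfsg.Agent.Lib.H12.PSpG
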