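import Mathlib
import Cfsg.Agent.Lib.H12.PSpF

/-!
# Isometries of ε-symmetric forms, the twist `B(x, g y) - B(g x, y)` (helper12)

`FData ε B g`: `B` is a non-degenerate bilinear form with `B y x = ε * B x y` and `g` is an isometry.
For an isometry `g` with `g ^ 2 - 1` surjective, the twisted form `tw B g` is non-degenerate and
`(-ε)`-symmetric, and every isometry of `B` commuting with `g` is an isometry of `tw B g`.  This
transfers isometries between orthogonal and symplectic spaces.
-/

set_option autoImplicit false
set_option linter.unusedSectionVars false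

namespace Cfsg.Agent.Lib.H12.BC

open Module
open Cfsg.Agent.Lib.H12.SpSemi Cfsg.Agent.Lib.H12.PSpG

universe u v w
variable {F : Type u} [Field F] {V : Type v} [AddCommGroup V] [Module F V]

/-- a non-degenerate `ε`-symmetric form with an isometry -/
structure FData (ε : F) (B : LinearMap.BilinForm F V) (g : Module.End F V) : Prop where
  sym : ∀ x y, B y x = ε * B x y
  nd : ∀ v, (∀ w, B v w = 0) → v = 0
  iso : ∀ x y, B (g x) (g y) = B x y

variable {ε : F} {B : LinearMap.BilinForm F V} {g k : Module.End F V}

theorem FData.one (h : FData ε B g) : FData ε B (1 : Module.End F V) :=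
  ⟨h.sym, h.nd, fun _ _ => rfl⟩

theorem FData.mul (h : FData ε B g) (h' : FData ε B k) : FData ε B (g * k) :=
  ⟨h.sym, h.nd, fun x y => by rw [Module.End.mul_apply, Module.End.mul_apply, h.iso, h'.iso]⟩

theorem FData.pow (h : FData ε B g) (j : ℕ) : FData ε B (g ^ j) := by
  induction j with
  | zero => rw [pow_zero]; exact h.one
  | succ j ih => rw [pow_succ]; exact ih.mul h

theorem FData.neg (h : FData ε B g) : FData ε B (-g) :=
  ⟨h.sym, h.nd, fun x y => by
    simp only [LinearMap.neg_apply, map_neg, neg_neg]
    exact h.iso x y⟩

theorem FData.eps_ne_zero [Nontrivial V] (h : FData ε B g) : ε ≠ 0 := by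
  rintro rfl
  obtain ⟨x, hx⟩ := exists_ne (0 : V)
  apply hx
  apply h.nd
  intro w
  have h1 := h.sym x w
  have h2 := h.sym w x
  rw [zero_mul] at h1 h2
  exact h2

theorem FData.nd_right (h : FData ε B g) (v : V) (hv : ∀ w, B w v = 0) : v = 0 := by
  apply h.nd
  intro w
  rw [h.sym, hv, mul_zero]

theorem FData.injective (h : FData ε B g) : Function.Injective g := by
  rw [injective_iff_map_eq_zero]
  intro x hx
  apply h.nd
  intro w
  rw [← h.iso, hx, map_zero, LinearMap.zero_apply]

/-- symplectic data are `(-1)`-symmetric data -/
theorem FData.of_spData (h : SpData B g) : FData (-1 : F) B g :=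
  ⟨fun x y => by rw [h.skew x y]; ring, h.nd, h.iso⟩

theorem FData.spData (h2 : (2 : F) ≠ 0) (h : FData (-1 : F) B g) : SpData B g := by
  refine ⟨fun v => ?_, h.nd, h.iso⟩
  have h1 := h.sym v v
  have h3 : (2 : F) * B v v = 0 := by linear_combination h1
  exact (mul_eq_zero.1 h3).resolve_left h2

/-- the twisted form `B(x, g y) - B(g x, y)` -/
noncomputable def tw (B : LinearMap.BilinForm F V) (g : Module.End F V) :
    LinearMap.BilinForm F V :=
  B.compl₁₂ LinearMap.id g - B.compl₁₂ g LinearMap.id

theorem tw_apply (B : LinearMap.BilinForm F V) (g : Module.End F V) (x y : V) :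
    tw B g x y = B x (g y) - B (g x) y := rfl

/-- the twist lemma -/
theorem FData.twist (h : FData ε B g) (hk : FData ε B k) (hc : k * g = g * k)
    (hsurj : Function.Surjective (g * g - 1 : Module.End F V)) : FData (-ε) (tw B g) k where
  sym := by
    intro x y
    rw [tw_apply, tw_apply, h.sym (g x) y, h.sym x (g y)]
    ring
  nd := by
    intro x hx
    apply h.nd
    intro z
    obtain ⟨y, rfl⟩ := hsurj z
    have h1 := hx (g y)
    rw [tw_apply, h.iso] at h1
    rw [LinearMap.sub_apply, Module.End.mul_apply, Module.End.one_apply, map_sub]
    exact h1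
  iso := by
    intro x y
    have e1 : g (k y) = k (g y) := by
      have := congrArg (fun f : Module.End F V => f y) hc
      simp only [Module.End.mul_apply] at this
      exact this.symm
    have e2 : g (k x) = k (g x) := by
      have := congrArg (fun f : Module.End F V => f x) hc
      simp only [Module.End.mul_apply] at this
      exact this.symm
    rw [tw_apply, tw_apply, e1, e2, hk.iso, hk.iso]

/-- orthogonal sums -/
theorem FData.sum {W : Type w} [AddCommGroup W] [Module F W] {B' : LinearMap.BilinForm F W}
    {g' : Module.End F W} (h : FData ε B g) (h' : FData ε B' g') :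
    FData ε (sumForm B B') (g.prodMap g') where
  sym := by
    intro x y
    rw [sumForm_apply, sumForm_apply, h.sym, h'.sym]
    ring
  nd := by
    intro x hx
    have h1 : x.1 = 0 := by
      apply h.nd
      intro z
      have := hx (z, 0)
      rw [sumForm_apply] at this
      simpa using this
    have h2 : x.2 = 0 := by
      apply h'.nd
      intro z
      have := hx (0, z)
      rw [sumForm_apply] at this
      simpa using this
    exact Prod.ext h1 h2
  iso := by
    intro x y
    rw [sumForm_apply, sumForm_apply, LinearMap.prodMap_apply, LinearMap.prodMap_apply, h.iso,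
      h'.iso]

theorem prodMap_eq_neg_one_iff {W : Type w} [AddCommGroup W] [Module F W]
    (g : Module.End F V) (g' : Module.End F W) :
    (g.prodMap g' : Module.End F (V × W)) = -1 ↔ g = -1 ∧ g' = -1 := by
  constructor
  · intro h
    constructor
    · apply LinearMap.ext
      intro x
      have := congrArg (fun f : Module.End F (V × W) => (f (x, 0)).1) h
      simpa using this
    · apply LinearMap.ext
      intro x
      have := congrArg (fun f : Module.End F (V × W) => (f (0, x)).2) h
      simpa using this
  · rintro ⟨rfl, rfl⟩
    apply LinearMap.ext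
    intro x
    simp
    rfl

end Cfsg.Agent.Lib.H12.BC
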