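import Mathlib
import Cfsg.Agent.Lib.H12.BCFormA

/-!
# Restriction to `[V, T]` and the restricted twist (helper12)
-/

set_option autoImplicit false
set_option linter.unusedSectionVars false

namespace Cfsg.Agent.Lib.H12.BC

open Module
open Cfsg.Agent.Lib.H12.SpSemi Cfsg.Agent.Lib.H12.PSpG Cfsg.Agent.Lib.H12.PGraph

universe u v w
variable {F : Type u} [Field F] {V : Type v} [AddCommGroup V] [Module F V]
variable {ε : F} {B : LinearMap.BilinForm F V} {T k : Module.End F V}

theorem fix_ortho_range' (h : FData ε B T) {x : V} (hx : T x = x) (z : V) :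
    B x ((T - 1) z) = 0 := by
  rw [LinearMap.sub_apply, Module.End.one_apply, map_sub]
  nth_rewrite 1 [← hx]
  rw [h.iso, sub_self]

/-- restriction of an endomorphism to an invariant subspace: powers -/
theorem restrict_pow_eq_one_iff {W : Submodule F V} (f : Module.End F V)
    (hf : ∀ w ∈ W, f w ∈ W) (j : ℕ) :
    (f.restrict hf : Module.End F W) ^ j = 1 ↔ ∀ w ∈ W, (f ^ j) w = w := by
  rw [Module.End.pow_restrict j hf]
  constructor
  · intro h w hw
    have := congrArg (fun φ : Module.End F W => ((φ ⟨w, hw⟩ : W) : V)) h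
    simpa using this
  · intro h
    apply LinearMap.ext
    intro w
    apply Subtype.ext
    rw [LinearMap.coe_restrict_apply, Module.End.one_apply]
    exact h w.1 w.2

theorem restrict_pow_eq_neg_one_iff {W : Submodule F V} (f : Module.End F V)
    (hf : ∀ w ∈ W, f w ∈ W) (j : ℕ) :
    (f.restrict hf : Module.End F W) ^ j = -1 ↔ ∀ w ∈ W, (f ^ j) w = -w := by
  rw [Module.End.pow_restrict j hf]
  constructor
  · intro h w hw
    have := congrArg (fun φ : Module.End F W => ((φ ⟨w, hw⟩ : W) : V)) h
    simpa using this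
  · intro h
    apply LinearMap.ext
    intro w
    apply Subtype.ext
    rw [LinearMap.coe_restrict_apply, LinearMap.neg_apply, Module.End.one_apply]
    exact h w.1 w.2

theorem restrict_mul {W : Submodule F V} (f f' : Module.End F V)
    (hf : ∀ w ∈ W, f w ∈ W) (hf' : ∀ w ∈ W, f' w ∈ W) :
    (f.restrict hf : Module.End F W) * f'.restrict hf' =
      (f * f').restrict (fun w hw => hf _ (hf' w hw)) := by
  apply LinearMap.ext
  intro w
  apply Subtype.ext
  rfl

/-- restriction of form data to a non-degenerate invariant subspace -/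
theorem FData.restrict (h : FData ε B k) (W : Submodule F V) (hW : ∀ w ∈ W, k w ∈ W)
    (hnd : ∀ x ∈ W, (∀ y ∈ W, B x y = 0) → x = 0) :
    FData ε (B.restrict W) (k.restrict hW) where
  sym := fun x y => h.sym x.1 y.1
  nd := by
    intro x hx
    apply Subtype.ext
    apply hnd x.1 x.2
    intro y hy
    exact hx ⟨y, hy⟩
  iso := fun x y => h.iso x.1 y.1

section findim

variable [FiniteDimensional F V]

/-- the commutator space `[V, T]` is non-degenerate -/
theorem nd_range' (h : FData ε B T) (m : ℕ) (hT : T ^ m = 1) (hm : (m : F) ≠ 0) :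
    ∀ x ∈ LinearMap.range (T - 1), (∀ y ∈ LinearMap.range (T - 1), B x y = 0) → x = 0 := by
  intro x hx hxy
  apply h.nd
  intro w
  have hc := isCompl_ker_range (T := T) m hT hm
  have hw : w ∈ LinearMap.ker (T - 1) ⊔ LinearMap.range (T - 1) := by
    rw [hc.sup_eq_top]; exact Submodule.mem_top
  obtain ⟨a, ha, b, hb, rfl⟩ := Submodule.mem_sup.1 hw
  obtain ⟨z, rfl⟩ := hx
  rw [map_add, h.sym a ((T - 1) z), fix_ortho_range' h ((mem_ker_sub_one a).1 ha) z, mul_zero,
    zero_add, hxy b hb]

/-- data restricted to `[V, T]` for a commuting isometry -/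
theorem FData.restrict_range (h : FData ε B T) (hk : FData ε B k) (hc : k * T = T * k)
    (m : ℕ) (hT : T ^ m = 1) (hm : (m : F) ≠ 0) :
    FData ε (B.restrict (LinearMap.range (T - 1))) (k.restrict (range_sub_one_invt k hc)) :=
  hk.restrict _ _ (nd_range' h m hT hm)

theorem restrict_sq_sub_one_surjective (m : ℕ) (hT : T ^ m = 1) (hm : (m : F) ≠ 0)
    (hodd : Odd m) :
    Function.Surjective ((T.restrict (range_sub_one_invt T rfl) :
      Module.End F (LinearMap.range (T - 1))) * T.restrict (range_sub_one_invt T rfl) -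
        (1 : Module.End F (LinearMap.range (T - 1)))) := by
  apply LinearMap.surjective_of_injective
  rw [injective_iff_map_eq_zero]
  intro w hw
  have h1 : T (T (w : V)) = (w : V) := by
    have := congrArg Subtype.val hw
    simp only [LinearMap.sub_apply, Module.End.mul_apply, Module.End.one_apply,
      LinearMap.coe_restrict_apply, Submodule.coe_sub, ZeroMemClass.coe_zero] at this
    exact sub_eq_zero.1 this
  -- `T w = w` since `m` is odd
  have h3 : ∀ j : ℕ, (T ^ (2 * j)) (w : V) = (w : V) := by
    intro j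
    induction j with
    | zero => simp
    | succ j ih =>
      rw [Nat.mul_succ, pow_add, Module.End.mul_apply, pow_two, Module.End.mul_apply, h1, ih]
  obtain ⟨j, hj⟩ := hodd
  have h4 : T (w : V) = (w : V) := by
    have h5 : (T ^ m) (T (w : V)) = T (w : V) := by rw [hT, Module.End.one_apply]
    have h6 : (T ^ m) (T (w : V)) = (T ^ (2 * (j + 1))) (w : V) := by
      rw [← Module.End.mul_apply, ← pow_succ, hj]
      congr 2
    rw [h6, h3] at h5
    exact h5.symm
  apply Subtype.ext
  exact eq_zero_of_fixed_of_mem_range T m hT hm _ w.2 h4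

/-- **restricted twist**: on `W = [V, T]` (`T` of odd order prime to the characteristic) the
twisted form has the opposite symmetry, and `T`, `k` restrict to isometries of it. -/
theorem exists_twist (h : FData ε B T) (hk : FData ε B k) (hc : k * T = T * k)
    (m : ℕ) (hT : T ^ m = 1) (hm : (m : F) ≠ 0) (hodd : Odd m) :
    ∃ B' : LinearMap.BilinForm F (LinearMap.range (T - 1)),
      FData (-ε) B' (T.restrict (range_sub_one_invt T rfl)) ∧
      FData (-ε) B' (k.restrict (range_sub_one_invt k hc)) := by
  have hTW := h.restrict_range h rfl m hT hm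
  have hkW := h.restrict_range hk hc m hT hm
  have hs := restrict_sq_sub_one_surjective (T := T) m hT hm hodd
  refine ⟨tw (B.restrict (LinearMap.range (T - 1))) (T.restrict (range_sub_one_invt T rfl)),
    hTW.twist hTW rfl hs, hTW.twist hkW ?_ hs⟩
  rw [restrict_mul, restrict_mul]
  congr 1

/-- powers of `T` are detected on `[V, T]` -/
theorem pow_eq_one_iff_on_range (m : ℕ) (hT : T ^ m = 1) (hm : (m : F) ≠ 0) (j : ℕ) :
    (T.restrict (range_sub_one_invt T rfl) : Module.End F (LinearMap.range (T - 1))) ^ j = 1 ↔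
      T ^ j = 1 := by
  rw [restrict_pow_eq_one_iff]
  constructor
  · intro h
    apply LinearMap.ext
    intro w
    have hc := isCompl_ker_range (T := T) m hT hm
    have hw : w ∈ LinearMap.ker (T - 1) ⊔ LinearMap.range (T - 1) := by
      rw [hc.sup_eq_top]; exact Submodule.mem_top
    obtain ⟨a, ha, b, hb, rfl⟩ := Submodule.mem_sup.1 hw
    rw [map_add, h b hb, Module.End.one_apply]
    congr 1
    exact pow_apply_of_fixed T _ ((mem_ker_sub_one a).1 ha) j
  · intro h w _
    rw [h, Module.End.one_apply]

theorem orderOf_restrict_range (m : ℕ) (hT : T ^ m = 1) (hm : (m : F) ≠ 0) :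
    orderOf (T.restrict (range_sub_one_invt T rfl) :
      Module.End F (LinearMap.range (T - 1))) = orderOf T :=
  orderOf_eq_of_pow_iff _ _ (pow_eq_one_iff_on_range m hT hm)

/-- an endomorphism that is trivial on `ker (T - 1)` and on `range (T - 1)` is trivial -/
theorem eq_one_of_ker_of_range (m : ℕ) (hT : T ^ m = 1) (hm : (m : F) ≠ 0) (f : Module.End F V)
    (h1 : ∀ w ∈ LinearMap.ker (T - 1), f w = w) (h2 : ∀ w ∈ LinearMap.range (T - 1), f w = w) :
    f = 1 := by
  apply LinearMap.ext
  intro w
  have hc := isCompl_ker_range (T := T) m hT hm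
  have hw : w ∈ LinearMap.ker (T - 1) ⊔ LinearMap.range (T - 1) := by
    rw [hc.sup_eq_top]; exact Submodule.mem_top
  obtain ⟨a, ha, b, hb, rfl⟩ := Submodule.mem_sup.1 hw
  rw [map_add, h1 a ha, h2 b hb, Module.End.one_apply]

theorem finrank_ker_add_range (T : Module.End F V) :
    finrank F (LinearMap.ker (T - 1)) + finrank F (LinearMap.range (T - 1)) = finrank F V := by
  rw [add_comm]
  exact LinearMap.finrank_range_add_finrank_ker (T - 1)

end findim

end Cfsg.Agent.Lib.H12.BC
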