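import Mathlib
import Cfsg.Prelude.Def_Classical
import Cfsg.Agent.Lib.H11.OrthConj4
import Cfsg.Agent.Lib.H11.IsoReindex
import Cfsg.Agent.Lib.H12.SemiC

/-!
# Isometries of a nondegenerate quadratic form on `ι → F`: characteristic polynomials and
conjugacy of semisimple elements of odd order (helper12)
-/

set_option autoImplicit false

namespace Cfsg.Agent.Lib.H12.OrdO

open Matrix Polynomial
open Cfsg.Agent.Lib.H11.IsoReindex

variable {F : Type*} [Field F] {ι : Type} [Fintype ι] [DecidableEq ι]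
  (Q : QuadraticForm F (ι → F))

/-- Gram matrix of the polar form -/
noncomputable def gramM : Matrix ι ι F := LinearMap.BilinForm.toMatrix' (QuadraticMap.polarBilin Q)

theorem gramM_det_ne_zero (hQ : (QuadraticMap.polarBilin Q).Nondegenerate) :
    (gramM Q).det ≠ 0 := by
  rw [← Matrix.nondegenerate_iff_det_ne_zero, gramM,
    LinearMap.BilinForm.nondegenerate_toMatrix'_iff]
  exact hQ

theorem polar_mulVec_of_mem (g : GL ι F) (hg : g ∈ Cfsg.isometryGroup F ⇑Q) (x y : ι → F) :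
    QuadraticMap.polar (⇑Q) (g.1 *ᵥ x) (g.1 *ᵥ y) = QuadraticMap.polar (⇑Q) x y := by
  have h := (mem_iso_iff' (⇑Q) g).mp hg
  simp only [QuadraticMap.polar, ← Matrix.mulVec_add, h]

theorem transpose_gramM_mul (g : GL ι F) (hg : g ∈ Cfsg.isometryGroup F ⇑Q) :
    (g.1)ᵀ * gramM Q * g.1 = gramM Q := by
  have h1 : LinearMap.BilinForm.comp (QuadraticMap.polarBilin Q)
      (Matrix.toLin' g.1) (Matrix.toLin' g.1) = QuadraticMap.polarBilin Q := by
    apply LinearMap.BilinForm.ext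
    intro v w
    rw [LinearMap.BilinForm.comp_apply, QuadraticMap.polarBilin_apply_apply,
      QuadraticMap.polarBilin_apply_apply, Matrix.toLin'_apply, Matrix.toLin'_apply]
    exact polar_mulVec_of_mem Q g hg _ _
  have h2 := LinearMap.BilinForm.toMatrix'_comp (QuadraticMap.polarBilin Q)
    (Matrix.toLin' g.1) (Matrix.toLin' g.1)
  rw [h1, LinearMap.toMatrix'_toLin'] at h2
  exact h2.symm

/-- an isometry and its inverse have the same characteristic polynomial -/
theorem charpoly_inv_eq (hQ : (QuadraticMap.polarBilin Q).Nondegenerate) (g : GL ι F)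
    (hg : g ∈ Cfsg.isometryGroup F ⇑Q) : (g⁻¹).1.charpoly = g.1.charpoly := by
  have hdet : IsUnit (gramM Q).det := (gramM_det_ne_zero Q hQ).isUnit
  have h := transpose_gramM_mul Q g hg
  have h1 : (g⁻¹).1 = (gramM Q)⁻¹ * ((g.1)ᵀ * gramM Q) := by
    have h2 : (gramM Q)⁻¹ * ((g.1)ᵀ * gramM Q) * g.1 = 1 := by
      rw [Matrix.mul_assoc, h, Matrix.nonsing_inv_mul _ hdet]
    have h3 : g.1 * (g⁻¹).1 = 1 := by rw [← Units.val_mul, mul_inv_cancel, Units.val_one]
    calc (g⁻¹).1 = ((gramM Q)⁻¹ * ((g.1)ᵀ * gramM Q) * g.1) * (g⁻¹).1 := by rw [h2, Matrix.one_mul]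
      _ = (gramM Q)⁻¹ * ((g.1)ᵀ * gramM Q) * (g.1 * (g⁻¹).1) := by rw [Matrix.mul_assoc]
      _ = _ := by rw [h3, Matrix.mul_one]
  rw [h1, Matrix.charpoly_mul_comm, Matrix.mul_assoc, Matrix.mul_nonsing_inv _ hdet, Matrix.mul_one,
    Matrix.charpoly_transpose]

/-- the characteristic polynomial of an isometry is a constant times its reverse -/
theorem charpoly_eq_C_mul_reverse (hQ : (QuadraticMap.polarBilin Q).Nondegenerate) (g : GL ι F)
    (hg : g ∈ Cfsg.isometryGroup F ⇑Q) :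
    ∃ c : F, g.1.charpoly = C c * g.1.charpoly.reverse := by
  have h1 := charpoly_inv_eq Q hQ g hg
  have h2 := Matrix.charpoly_inv g.1 (Units.isUnit g)
  rw [Matrix.coe_units_inv] at h1
  rw [h1, ← Matrix.reverse_charpoly] at h2
  refine ⟨(-1) ^ Fintype.card ι * Ring.inverse g.1.det, ?_⟩
  refine h2.trans ?_
  rw [C_mul, C_pow, C_neg, C_1]

/-- semisimple isometries of odd order with the same characteristic polynomial are conjugate in
the isometry group -/
theorem isConj_of_charpoly_eq [Fintype F] (p : ℕ) [Fact p.Prime] [CharP F p]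
    (hQ : (QuadraticMap.polarBilin Q).Nondegenerate)
    (g h : ↥(Cfsg.isometryGroup F ⇑Q)) (hodd : Odd (orderOf g)) (hg : (orderOf g).Coprime p)
    (hh : (orderOf h).Coprime p)
    (hc : (g : GL ι F).1.charpoly = (h : GL ι F).1.charpoly) : IsConj g h := by
  classical
  let e : ι ≃ Fin (Fintype.card ι) := Fintype.equivFin ι
  let Θ : ↥(Cfsg.isometryGroup F ⇑Q) ≃* ↥(Cfsg.isometryGroup F ⇑(trQF e Q)) := isoEquiv e ⇑Q
  have hQ' := nondeg_trQF e Q hQ
  have hval : ∀ x : ↥(Cfsg.isometryGroup F ⇑Q),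
      (Θ x).1.1 = Matrix.reindex e e (x : GL ι F).1 :=
    fun x => rfl
  have hord : ∀ x : ↥(Cfsg.isometryGroup F ⇑Q), orderOf (Θ x) = orderOf x :=
    fun x => MulEquiv.orderOf_eq Θ x
  have hss : ∀ x : ↥(Cfsg.isometryGroup F ⇑Q), (orderOf x).Coprime p →
      Module.End.IsSemisimple (Matrix.toLin' (Θ x).1.1) := by
    intro x hx
    apply Cfsg.Agent.Lib.H12.Semi.isSemisimple_toLin'_of_orderOf_coprime p
    rw [Subgroup.orderOf_coe, hord]
    exact hx
  have hcp : (Θ g).1.1.charpoly = (Θ h).1.1.charpoly := by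
    rw [hval, hval, Matrix.charpoly_reindex, Matrix.charpoly_reindex, hc]
  have hconj := Cfsg.Agent.Lib.H12.Semi.isConj_GL_of_charpoly_eq
    (Θ g : GL (Fin (Fintype.card ι)) F) (Θ h : GL (Fin (Fintype.card ι)) F)
    (hss g hg) (hss h hh) hcp
  obtain ⟨c, hc'⟩ := isConj_iff.mp hconj
  have hmF : ((orderOf g : ℕ) : F) ≠ 0 := by
    rw [Ne, CharP.cast_eq_zero_iff F p]
    intro hd
    have := Nat.Coprime.eq_one_of_dvd hg.symm hd
    exact (Fact.out : p.Prime).one_lt.ne' this
  obtain ⟨t, ht⟩ := Cfsg.Agent.Lib.H11.OrthConj.conj_of_matrix_conj (trQF e Q) hQ' (Θ g) (Θ h)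
    (orderOf g) hodd hmF (by rw [← map_pow, pow_orderOf_eq_one, map_one]) c.1 (c⁻¹).1
    (by rw [← Units.val_mul, mul_inv_cancel, Units.val_one])
    (by rw [← Units.val_mul, inv_mul_cancel, Units.val_one])
    (by
      have := congrArg (fun x : GL (Fin (Fintype.card ι)) F => x.1 * c.1) hc'
      simp only [Units.val_mul, Matrix.mul_assoc] at this
      rw [← Units.val_mul c⁻¹ c, inv_mul_cancel, Units.val_one, Matrix.mul_one] at this
      exact this)
  have h1 : IsConj (Θ g) (Θ h) := isConj_iff.mpr ⟨t, by rw [ht, mul_inv_cancel_right]⟩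
  obtain ⟨t', ht'⟩ := isConj_iff.mp h1
  refine isConj_iff.mpr ⟨Θ.symm t', ?_⟩
  apply Θ.injective
  rw [map_mul, map_mul, map_inv, MulEquiv.apply_symm_apply, ht']

end Cfsg.Agent.Lib.H12.OrdO
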