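import Mathlib
import Cfsg.Agent.Lib.H13.Witt
import Cfsg.Agent.Lib.H13.QuadExt
import Cfsg.Agent.Lib.H29.QuadOdd
import Cfsg.Agent.S0286

/-!
# Odd-dimensional nondegenerate quadratic spaces over a finite field are similar to the standard
one (helper12)
-/

set_option autoImplicit false

namespace Cfsg.Agent.Lib.H12.OrdO

open Module QuadraticMap Cfsg.Agent.Lib.H13

variable {F : Type*} [Field F] [Finite F]

/-- the index equivalence -/
def oddIdx (m : ℕ) : (Fin m ⊕ Fin m) ⊕ Fin 1 ≃ Unit ⊕ (Fin m ⊕ Fin m) :=
  (Equiv.sumComm _ _).trans (Equiv.sumCongr (Equiv.equivPUnit (Fin 1)) (Equiv.refl _))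

theorem exists_odd_similitude {V : Type*} [AddCommGroup V] [Module F V] [FiniteDimensional F V]
    (Q : QuadraticForm F V) (hQ : (polarBilin Q).Nondegenerate) (m : ℕ)
    (hfr : finrank F V = 2 * m + 1) :
    ∃ (d : F) (Φ : V ≃ₗ[F] (Unit ⊕ (Fin m ⊕ Fin m) → F)), d ≠ 0 ∧
      ∀ v, Q v = d * Cfsg.quadFormOdd m F (Φ v) := by
  classical
  obtain ⟨k, r', b, hstd, htail, hfin⟩ := witt Q hQ
  match r', b, hstd, htail, hfin with
  | 0, _, _, _, hfin => omega
  | 2, _, _, _, hfin => omega
  | _ + 3, _, _, htail, _ => exact htail.elim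
  | 1, b, hstd, htail, hfin =>
    have hkm : k = m := by omega
    subst hkm
    set d : F := Q (b (.inr 0)) with hd
    have hd0 : d ≠ 0 := htail
    let w : Unit ⊕ (Fin k ⊕ Fin k) → Fˣ := fun idx =>
      match idx with
      | .inl _ => 1
      | .inr (.inl _) => Units.mk0 d hd0
      | .inr (.inr _) => 1
    let b' : Basis (Unit ⊕ (Fin k ⊕ Fin k)) F V := (b.reindex (oddIdx k)).unitsSMul w
    have hb0 : b' (.inl ()) = b (.inr 0) := by
      rw [Basis.unitsSMul_apply, Basis.reindex_apply]
      show (1 : Fˣ) • _ = _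
      rw [one_smul]
      rfl
    have hbl : ∀ i, b' (.inr (.inl i)) = d • b (.inl (.inl i)) := by
      intro i
      rw [Basis.unitsSMul_apply, Basis.reindex_apply]
      rfl
    have hbr : ∀ i, b' (.inr (.inr i)) = b (.inl (.inr i)) := by
      intro i
      rw [Basis.unitsSMul_apply, Basis.reindex_apply]
      show (1 : Fˣ) • _ = _
      rw [one_smul]
      rfl
    refine ⟨d, b'.equivFun, hd0, ?_⟩
    have hself : ∀ s, b'.equivFun (b' s) = Pi.single s 1 := by
      intro s
      funext j
      rw [Basis.equivFun_self]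
      simp [Pi.single_apply, eq_comm]
    have key : Q = d • (Cfsg.Agent.S0286.oddQF F k).comp
        (b'.equivFun : V →ₗ[F] (Unit ⊕ (Fin k ⊕ Fin k) → F)) := by
      apply quadraticMap_ext_basis b'
      · intro s
        rw [_root_.smul_apply, comp_apply, LinearEquiv.coe_coe, hself,
          Cfsg.Agent.S0286.oddQF_apply]
        rcases s with ⟨⟩ | i | i
        · rw [hb0]
          unfold Cfsg.quadFormOdd
          simp
          rfl
        · rw [hbl, QuadraticMap.map_smul, hstd.sing_l]
          unfold Cfsg.quadFormOdd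
          simp
        · rw [hbr, hstd.sing_r]
          unfold Cfsg.quadFormOdd
          simp
      · intro s s'
        have hp : polar (⇑(d • (Cfsg.Agent.S0286.oddQF F k).comp
            (b'.equivFun : V →ₗ[F] (Unit ⊕ (Fin k ⊕ Fin k) → F)))) (b' s) (b' s') =
            d * polar (Cfsg.quadFormOdd k F) (Pi.single s 1) (Pi.single s' 1) := by
          simp only [polar, _root_.smul_apply, comp_apply, LinearEquiv.coe_coe, map_add,
            hself, Cfsg.Agent.S0286.oddQF_apply, smul_eq_mul]
          ring
        rw [hp, Cfsg.Agent.Lib.H29.QuadOdd.polar_quadFormOdd]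
        rcases s with ⟨⟩ | i | i <;> rcases s' with ⟨⟩ | j | j
        · rw [hb0, polar_self]
          simp
          ring
        · rw [hb0, hbl, polar_smul_right, polar_comm, hstd.orth_l]
          simp
        · rw [hb0, hbr, polar_comm, hstd.orth_r]
          simp
        · rw [hb0, hbl, polar_smul_left, hstd.orth_l]
          simp
        · rw [hbl, hbl, polar_smul_left, polar_smul_right, hstd.iso_l]
          simp
        · rw [hbl, hbr, polar_smul_left, hstd.pair]
          simp [Pi.single_apply, eq_comm]
        · rw [hb0, hbr, hstd.orth_r]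
          simp
        · rw [hbl, hbr, polar_smul_right, polar_comm, hstd.pair]
          simp [Pi.single_apply, eq_comm]
        · rw [hbr, hbr, hstd.iso_r]
          simp
    intro v
    have := congrArg (fun q : QuadraticForm F V => q v) key
    simp only [_root_.smul_apply, comp_apply, LinearEquiv.coe_coe, smul_eq_mul,
      Cfsg.Agent.S0286.oddQF_apply] at this
    exact this

end Cfsg.Agent.Lib.H12.OrdO
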