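import Mathlib
import Cfsg.Agent.Lib.H12.BCFormB
import Cfsg.Agent.Lib.H12.OrdOP
import Cfsg.Agent.Lib.H12.OrdOD
import Cfsg.Agent.Lib.H11.OmegaGen
import Cfsg.Agent.Lib.H11.SpinSign

/-!
# Transport between abstract orthogonal isometries and `O(quadFormOdd n)`; membership in `Ω`
(helper12)
-/

set_option autoImplicit false
set_option linter.unusedSectionVars false

namespace Cfsg.Agent.Lib.H12.BC

open Module Matrix
open Cfsg.Agent.Lib.H12.Semi Cfsg.Agent.Lib.H12.OrdO
open Cfsg.Agent.Lib.H11.IsoReindex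

universe u v
variable {F : Type u} [Field F] {ι : Type} [Fintype ι] [DecidableEq ι]

theorem gl_pow_val (g : GL ι F) (j : ℕ) : ((g ^ j : GL ι F) : Matrix ι ι F) = g.1 ^ j := by
  rw [Units.val_pow_eq_pow_val]

theorem toLin'_gl_pow_eq_one_iff (g : GL ι F) (j : ℕ) :
    (Matrix.toLin' g.1) ^ j = 1 ↔ g ^ j = 1 := by
  rw [← toLin'_pow_eq]
  constructor
  · intro h
    apply Units.ext
    rw [gl_pow_val]
    have h1 : Matrix.toLin' (g.1 ^ j) = Matrix.toLin' (1 : Matrix ι ι F) := by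
      rw [h, Matrix.toLin'_one]; rfl
    exact Matrix.toLin'.injective h1
  · intro h
    have h1 : g.1 ^ j = 1 := by rw [← gl_pow_val, h]; rfl
    rw [h1, Matrix.toLin'_one]; rfl

/-- an isometry of a quadratic form is form data for the polar form -/
theorem fdata_of_mem (Q : QuadraticForm F (ι → F))
    (hQ : (QuadraticMap.polarBilin Q).Nondegenerate) (g : GL ι F)
    (hg : g ∈ Cfsg.isometryGroup F ⇑Q) :
    FData (1 : F) (QuadraticMap.polarBilin Q) (Matrix.toLin' g.1) where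
  sym := by
    intro x y
    rw [one_mul, QuadraticMap.polarBilin_apply_apply, QuadraticMap.polarBilin_apply_apply,
      QuadraticMap.polar_comm]
  nd := hQ.1
  iso := by
    intro x y
    rw [QuadraticMap.polarBilin_apply_apply, QuadraticMap.polarBilin_apply_apply,
      Matrix.toLin'_apply, Matrix.toLin'_apply]
    exact polar_mulVec_of_mem Q g hg x y

theorem subgroup_pow_eq_one_iff {G : Type*} [Group G] (H : Subgroup G) (a : ↥H) (j : ℕ) :
    a ^ j = 1 ↔ (a : G) ^ j = 1 := by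
  constructor
  · intro h
    have := congrArg Subtype.val h
    simpa using this
  · intro h
    apply Subtype.ext
    simpa using h

section out

variable [Fintype F]

/-- transport of an abstract orthogonal isometry in dimension `2 n + 1` to the isometry group of
the standard form -/
theorem exists_isometry_pow_iff {V : Type v} [AddCommGroup V] [Module F V]
    [FiniteDimensional F V] (h2 : (2 : F) ≠ 0) {n : ℕ} (hV : finrank F V = 2 * n + 1)
    {B : LinearMap.BilinForm F V} {g : Module.End F V} (h : FData (1 : F) B g) :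
    ∃ A : ↥(Cfsg.isometryGroup F (Cfsg.quadFormOdd n F)), ∀ j : ℕ, A ^ j = 1 ↔ g ^ j = 1 := by
  classical
  set Q : QuadraticForm F V := LinearMap.BilinMap.toQuadraticMap B with hQdef
  have hQapp : ∀ v, Q v = B v v := fun v => LinearMap.BilinMap.toQuadraticMap_apply B v
  have hpol : ∀ x y, QuadraticMap.polarBilin Q x y = 2 * B x y := by
    intro x y
    rw [QuadraticMap.polarBilin_apply_apply, hQdef, LinearMap.BilinMap.polar_toQuadraticMap,
      h.sym x y]
    ring
  have hQ : (QuadraticMap.polarBilin Q).Nondegenerate := by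
    constructor
    · intro x hx
      apply h.nd
      intro y
      have := hx y
      rw [hpol] at this
      exact (mul_eq_zero.1 this).resolve_left h2
    · intro x hx
      apply h.nd_right
      intro y
      have := hx y
      rw [hpol] at this
      exact (mul_eq_zero.1 this).resolve_left h2
  obtain ⟨d, Φ, hd0, hΦ⟩ := exists_odd_similitude Q hQ n hV
  have hbij : Function.Bijective g :=
    ⟨h.injective, LinearMap.surjective_of_injective h.injective⟩
  set φ : Module.End F V ≃ₐ[F] Matrix (Unit ⊕ (Fin n ⊕ Fin n)) (Unit ⊕ (Fin n ⊕ Fin n)) F :=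
    (LinearEquiv.conjAlgEquiv F Φ).trans (Matrix.toLinAlgEquiv'.symm) with hφ
  set gu : (Module.End F V)ˣ := ((Module.End.isUnit_iff g).2 hbij).unit with hgu
  have hguv : (gu : Module.End F V) = g := IsUnit.unit_spec _
  set A0 : GL (Unit ⊕ (Fin n ⊕ Fin n)) F := Units.map φ.toAlgHom.toMonoidHom gu with hA0
  have hA0v : (A0 : Matrix _ _ F) = φ g := by
    rw [hA0, Units.coe_map, hguv]
    rfl
  have hact : ∀ w : Unit ⊕ (Fin n ⊕ Fin n) → F, (A0 : Matrix _ _ F) *ᵥ w = Φ (g (Φ.symm w)) := by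
    intro w
    rw [hA0v, hφ]
    simp only [AlgEquiv.trans_apply]
    rw [← Matrix.toLin'_apply]
    have : Matrix.toLin' (Matrix.toLinAlgEquiv'.symm (LinearEquiv.conjAlgEquiv F Φ g)) =
        LinearEquiv.conjAlgEquiv F Φ g := by
      exact Matrix.toLinAlgEquiv'.apply_symm_apply _
    rw [this]
    rfl
  have hmem : A0 ∈ Cfsg.isometryGroup F (Cfsg.quadFormOdd n F) := by
    rw [mem_iso_iff']
    intro w
    rw [hact]
    have h1 := hΦ (g (Φ.symm w))
    have h3 := hΦ (Φ.symm w)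
    rw [LinearEquiv.apply_symm_apply] at h3
    rw [hQapp, h.iso, ← hQapp, h3] at h1
    exact (mul_left_cancel₀ hd0 h1).symm
  refine ⟨⟨A0, hmem⟩, ?_⟩
  intro j
  rw [subgroup_pow_eq_one_iff]
  show A0 ^ j = 1 ↔ g ^ j = 1
  rw [hA0, ← map_pow, ← Units.val_inj, Units.coe_map, Units.val_pow_eq_pow_val, hguv, Units.val_one]
  constructor
  · intro h4
    apply φ.injective
    rw [map_one]
    exact h4
  · intro h4
    show φ (g ^ j) = 1
    rw [h4, map_one]

end out

section omega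

variable [Fintype F] (Q : QuadraticForm F (ι → F))

/-- squares of isometries lie in `Ω` -/
theorem sq_mem_Omega (hQ : (QuadraticMap.polarBilin Q).Nondegenerate) (h2 : (2 : F) ≠ 0)
    (a : ↥(Cfsg.isometryGroup F ⇑Q)) : a * a ∈ Cfsg.Omega F ⇑Q := by
  set e := Fintype.equivFin ι
  let b : ↥(Cfsg.isometryGroup F ⇑(trQF e Q)) := isoEquiv e ⇑Q a
  have h1 := Cfsg.Agent.Lib.H11.SpinSign.exp_two (trQF e Q) (nondeg_trQF e Q hQ) h2
    (Abelianization.of b)
  have h4 : (Abelianization.of (b * b) :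
      Abelianization ↥(Cfsg.isometryGroup F ⇑(trQF e Q))) = 1 :=
    (map_mul Abelianization.of b b).trans h1
  have h3 : b * b ∈ commutator ↥(Cfsg.isometryGroup F ⇑(trQF e Q)) :=
    (QuotientGroup.eq_one_iff (N := commutator ↥(Cfsg.isometryGroup F ⇑(trQF e Q))) (b * b)).1 h4
  have h5 : isoEquiv e ⇑Q (a * a) ∈ commutator ↥(Cfsg.isometryGroup F (tr e ⇑Q)) := by
    rw [map_mul]
    exact h3
  exact (mem_commutator_iff (isoEquiv e ⇑Q) (a * a)).1 h5

theorem pow_two_mem_Omega (hQ : (QuadraticMap.polarBilin Q).Nondegenerate) (h2 : (2 : F) ≠ 0)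
    (a : ↥(Cfsg.isometryGroup F ⇑Q)) : a ^ 2 ∈ Cfsg.Omega F ⇑Q := by
  rw [pow_two]
  exact sq_mem_Omega Q hQ h2 a

/-- elements of odd order lie in `Ω` -/
theorem mem_Omega_of_odd (hQ : (QuadraticMap.polarBilin Q).Nondegenerate) (h2 : (2 : F) ≠ 0)
    (a : ↥(Cfsg.isometryGroup F ⇑Q)) (hodd : Odd (orderOf a)) : a ∈ Cfsg.Omega F ⇑Q := by
  obtain ⟨c, hc⟩ := hodd
  have h1 : a = (a ^ 2) ^ (c + 1) := by
    rw [← pow_mul]
    have : 2 * (c + 1) = orderOf a + 1 := by omega
    rw [this, pow_succ, pow_orderOf_eq_one, one_mul]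
  rw [h1]
  exact Subgroup.pow_mem _ (pow_two_mem_Omega Q hQ h2 a) _

end omega

section pomega

variable [Fintype F]

theorem nondeg_odd (h2 : (2 : F) ≠ 0) (n : ℕ) :
    (QuadraticMap.polarBilin (Cfsg.Agent.S0286.oddQF F n)).Nondegenerate :=
  Cfsg.Agent.S0286.nondeg h2 n

theorem card_idx (n : ℕ) : Fintype.card (Unit ⊕ (Fin n ⊕ Fin n)) = 2 * n + 1 := by
  rw [Fintype.card_sum, Fintype.card_sum, Fintype.card_fin, Fintype.card_unique]
  ring

theorem center_omega_odd (h2 : (2 : F) ≠ 0) (n : ℕ) (hn : 3 ≤ n) :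
    Subgroup.center ↥(Cfsg.Omega F (Cfsg.quadFormOdd n F)) = ⊥ := by
  have := Cfsg.Agent.Lib.H11.OmegaGen.center_omega_eq_bot_of_odd (Cfsg.Agent.S0286.oddQF F n)
    (nondeg_odd h2 n) h2 (by rw [card_idx]; omega) (by rw [card_idx]; exact ⟨n, rfl⟩)
  rw [Cfsg.Agent.S0286.coe_oddQF] at this
  exact this

theorem mk_omega_injective (h2 : (2 : F) ≠ 0) (n : ℕ) (hn : 3 ≤ n) :
    Function.Injective (QuotientGroup.mk' (Subgroup.center
      ↥(Cfsg.Omega F (Cfsg.quadFormOdd n F)))) := by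
  rw [← MonoidHom.ker_eq_bot_iff, QuotientGroup.ker_mk', center_omega_odd h2 n hn]

/-- orders of elements of `PΩ_{2n+1}(q)` are the orders of elements of `Ω` -/
theorem exists_pomega_orderOf (h2 : (2 : F) ≠ 0) (n : ℕ) (hn : 3 ≤ n)
    (a : ↥(Cfsg.isometryGroup F (Cfsg.quadFormOdd n F)))
    (ha : a ∈ Cfsg.Omega F (Cfsg.quadFormOdd n F)) :
    ∃ x : Cfsg.POmega F (Cfsg.quadFormOdd n F), orderOf x = orderOf a := by
  refine ⟨QuotientGroup.mk' _ ⟨a, ha⟩, ?_⟩
  rw [orderOf_injective _ (mk_omega_injective h2 n hn)]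
  exact (orderOf_injective (Cfsg.Omega F (Cfsg.quadFormOdd n F)).subtype
    (Subgroup.subtype_injective _) ⟨a, ha⟩).symm

theorem exists_of_pomega (h2 : (2 : F) ≠ 0) (n : ℕ) (hn : 3 ≤ n)
    (x : Cfsg.POmega F (Cfsg.quadFormOdd n F)) :
    ∃ a : ↥(Cfsg.isometryGroup F (Cfsg.quadFormOdd n F)),
      a ∈ Cfsg.Omega F (Cfsg.quadFormOdd n F) ∧ orderOf a = orderOf x := by
  obtain ⟨b, rfl⟩ := QuotientGroup.mk_surjective x
  refine ⟨b.1, b.2, ?_⟩
  have h1 : orderOf (QuotientGroup.mk' (Subgroup.center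
      ↥(Cfsg.Omega F (Cfsg.quadFormOdd n F))) b) = orderOf b :=
    orderOf_injective _ (mk_omega_injective h2 n hn) b
  have h3 : orderOf (b : ↥(Cfsg.isometryGroup F (Cfsg.quadFormOdd n F))) = orderOf b :=
    orderOf_injective (Cfsg.Omega F (Cfsg.quadFormOdd n F)).subtype
      (Subgroup.subtype_injective _) b
  rw [h3]
  exact h1.symm

end pomega

end Cfsg.Agent.Lib.H12.BC
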