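import Mathlib
import Cfsg.Agent.Lib.H12.BCFormB

/-!
# Transport between abstract symplectic isometries and `Sp_{2n}(F)`, orders in `PSp` (helper12)
-/

set_option autoImplicit false
set_option linter.unusedSectionVars false

namespace Cfsg.Agent.Lib.H12.BC

open Module
open Cfsg.Agent.Lib.H12.SpSemi Cfsg.Agent.Lib.H12.PSpG Cfsg.Agent.Lib.H12.Semi

universe u v
variable {F : Type u} [Field F]

theorem sp_pow_val {n : ℕ} (A : ↥(Matrix.symplecticGroup (Fin n) F)) (j : ℕ) :
    (A ^ j).1 = A.1 ^ j := by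
  induction j with
  | zero => rfl
  | succ j ih => rw [pow_succ, pow_succ, ← ih]; rfl

theorem toLin'_pow_eq_one_iff {n : ℕ} (A : ↥(Matrix.symplecticGroup (Fin n) F)) (j : ℕ) :
    (Matrix.toLin' A.1) ^ j = 1 ↔ A ^ j = 1 := by
  rw [← toLin'_pow_eq]
  constructor
  · intro h
    apply Subtype.ext
    rw [sp_pow_val]
    have h1 : Matrix.toLin' (A.1 ^ j) = Matrix.toLin' (1 : Matrix _ _ F) := by
      rw [h, Matrix.toLin'_one]; rfl
    exact Matrix.toLin'.injective h1
  · intro h
    have h1 : A.1 ^ j = 1 := by rw [← sp_pow_val, h]; rfl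
    rw [h1, Matrix.toLin'_one]; rfl

theorem toLin'_pow_eq_neg_one_iff {n : ℕ} (A : ↥(Matrix.symplecticGroup (Fin n) F)) (j : ℕ) :
    (Matrix.toLin' A.1) ^ j = -1 ↔ A ^ j = Cfsg.Agent.Lib.H2.Sp.negOne n := by
  rw [← toLin'_pow_eq]
  constructor
  · intro h
    apply Subtype.ext
    rw [sp_pow_val]
    have h1 : Matrix.toLin' (A.1 ^ j) = Matrix.toLin' (-1 : Matrix _ _ F) := by
      rw [h, map_neg, Matrix.toLin'_one]; rfl
    exact Matrix.toLin'.injective h1
  · intro h
    have h1 : A.1 ^ j = -1 := by rw [← sp_pow_val, h]; rfl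
    rw [h1, map_neg, Matrix.toLin'_one]; rfl

/-- refined transport of an isometry of a non-degenerate alternating space to `Sp_{2n}(F)` -/
theorem exists_Sp_pow_iff {V : Type v} [AddCommGroup V] [Module F V] [FiniteDimensional F V]
    {n : ℕ} (hV : finrank F V = 2 * n) {B : LinearMap.BilinForm F V} {g : Module.End F V}
    (h : SpData B g) :
    ∃ A : ↥(Matrix.symplecticGroup (Fin n) F), (∀ j : ℕ, A ^ j = 1 ↔ g ^ j = 1) ∧
      (∀ j : ℕ, A ^ j = Cfsg.Agent.Lib.H2.Sp.negOne n ↔ g ^ j = -1) := by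
  classical
  obtain ⟨b, hb⟩ := Cfsg.Agent.Lib.H13.exists_symp_basis B h.alt h.nd hV
  have hform := Cfsg.Agent.Lib.H13.sympForm_of_isSymp B h.alt b hb
  set b' := b.reindex (Equiv.sumComm (Fin n) (Fin n)) with hb'
  set A0 := LinearMap.toMatrix b' b' g with hA0
  have hmem : A0 ∈ Matrix.symplecticGroup (Fin n) F := by
    rw [Cfsg.Agent.Lib.H4.mem_symplecticGroup_iff_sympForm]
    intro u w
    obtain ⟨v, rfl⟩ := b'.equivFun.surjective u
    obtain ⟨v', rfl⟩ := b'.equivFun.surjective w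
    have e1 : ∀ z : V, Matrix.mulVec A0 (b'.equivFun z) = b'.equivFun (g z) := by
      intro z
      exact LinearMap.toMatrix_mulVec_repr b' b' g z
    rw [e1, e1, ← hform, ← hform, h.iso]
  have h3 : ∀ i : ℕ, LinearMap.toMatrix b' b' g ^ i = LinearMap.toMatrix b' b' (g ^ i) := by
    intro i
    induction i with
    | zero => rw [pow_zero, pow_zero, LinearMap.toMatrix_one]
    | succ i ih =>
      rw [pow_succ, pow_succ, ih]
      exact (LinearMap.toMatrix_mul b' (g ^ i) g).symm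
  refine ⟨⟨A0, hmem⟩, ?_, ?_⟩
  · intro j
    have h1 : ((⟨A0, hmem⟩ : ↥(Matrix.symplecticGroup (Fin n) F)) ^ j = 1) ↔ A0 ^ j = 1 := by
      constructor
      · intro h2
        have := congrArg Subtype.val h2
        rw [sp_pow_val] at this
        exact this
      · intro h2
        apply Subtype.ext
        rw [sp_pow_val]
        exact h2
    rw [h1, hA0, h3]
    constructor
    · intro h4
      apply (LinearMap.toMatrix b' b').injective
      rw [h4, LinearMap.toMatrix_one]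
    · intro h4
      rw [h4, LinearMap.toMatrix_one]
  · intro j
    have h1 : ((⟨A0, hmem⟩ : ↥(Matrix.symplecticGroup (Fin n) F)) ^ j =
        Cfsg.Agent.Lib.H2.Sp.negOne n) ↔ A0 ^ j = -1 := by
      constructor
      · intro h2
        have := congrArg Subtype.val h2
        rw [sp_pow_val] at this
        exact this
      · intro h2
        apply Subtype.ext
        rw [sp_pow_val]
        exact h2
    rw [h1, hA0, h3]
    constructor
    · intro h4
      apply (LinearMap.toMatrix b' b').injective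
      rw [h4, map_neg, LinearMap.toMatrix_one]
    · intro h4
      rw [h4, map_neg, LinearMap.toMatrix_one]

/-- powers in `PSp` -/
theorem psp_pow_eq_one_iff (n : ℕ) (hn : 1 ≤ n) (A : ↥(Matrix.symplecticGroup (Fin n) F))
    (j : ℕ) : (QuotientGroup.mk A : Cfsg.PSp n F) ^ j = 1 ↔
      (A ^ j = 1 ∨ A ^ j = Cfsg.Agent.Lib.H2.Sp.negOne n) := by
  rw [← QuotientGroup.mk_pow, QuotientGroup.eq_one_iff]
  have h2 : A ^ j ∈ Subgroup.center ↥(Matrix.symplecticGroup (Fin n) F) ↔
      A ^ j ∈ (Subgroup.center ↥(Matrix.symplecticGroup (Fin n) F) :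
        Set ↥(Matrix.symplecticGroup (Fin n) F)) := Iff.rfl
  rw [h2, Cfsg.Agent.Lib.H2.Sp.center_eq n hn]
  simp only [Set.mem_insert_iff, Set.mem_singleton_iff]

/-- an abstract symplectic isometry whose class modulo `±1` has order `m` gives an element of
order `m` in `PSp_{2n}(F)` -/
theorem exists_psp_orderOf {V : Type v} [AddCommGroup V] [Module F V] [FiniteDimensional F V]
    {n : ℕ} (hn : 1 ≤ n) (hV : finrank F V = 2 * n) {B : LinearMap.BilinForm F V}
    {g : Module.End F V} (h : SpData B g) (m : ℕ) (hm : 0 < m) (h1 : g ^ m = 1 ∨ g ^ m = -1)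
    (h2 : ∀ l : ℕ, l.Prime → l ∣ m → g ^ (m / l) ≠ 1 ∧ g ^ (m / l) ≠ -1) :
    ∃ x : Cfsg.PSp n F, orderOf x = m := by
  obtain ⟨A, hA1, hA2⟩ := exists_Sp_pow_iff hV h
  refine ⟨(QuotientGroup.mk A : Cfsg.PSp n F), ?_⟩
  apply orderOf_eq_of_pow_and_pow_div_prime hm
  · rw [psp_pow_eq_one_iff n hn, hA1, hA2]
    exact h1
  · intro l hl hlm
    rw [Ne, psp_pow_eq_one_iff n hn, hA1, hA2]
    have := h2 l hl hlm
    tauto

/-- an element of `PSp` of order `m` gives an abstract isometry -/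
theorem exists_of_psp {n : ℕ} (hn : 1 ≤ n) (x : Cfsg.PSp n F) :
    ∃ g : Module.End F (Fin n ⊕ Fin n → F), SpData (stdForm n F) g ∧
      ∀ j : ℕ, x ^ j = 1 ↔ (g ^ j = 1 ∨ g ^ j = -1) := by
  obtain ⟨A, rfl⟩ := QuotientGroup.mk_surjective x
  refine ⟨Matrix.toLin' A.1, spData_of_mem n A.2, ?_⟩
  intro j
  rw [toLin'_pow_eq_one_iff, toLin'_pow_eq_neg_one_iff]
  exact psp_pow_eq_one_iff n hn A j

end Cfsg.Agent.Lib.H12.BC
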