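import Mathlib
import Cfsg.Agent.Lib.H12.BCTransS
import Cfsg.Agent.Lib.H12.BCTransO

/-!
# Building blocks: `OHas`, rotations, unipotent elements, `-1` (helper12)
-/

set_option autoImplicit false
set_option linter.unusedSectionVars false

namespace Cfsg.Agent.Lib.H12.BC

open Module Matrix
open Cfsg.Agent.Lib.H12.SpSemi Cfsg.Agent.Lib.H12.PSpG Cfsg.Agent.Lib.H12.Semi

universe u
variable {F : Type u} [Field F]

/-- some non-degenerate symmetric space of dimension `d` over `F` has an isometry of order `m` -/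
def OHas (F : Type u) [Field F] (d m : ℕ) : Prop :=
  ∃ (V : Type u) (_ : AddCommGroup V) (_ : Module F V) (_ : FiniteDimensional F V)
    (B : LinearMap.BilinForm F V) (g : Module.End F V),
    FData (1 : F) B g ∧ finrank F V = d ∧ orderOf g = m

theorem OHas.add {d d' m m' : ℕ} (h : OHas F d m) (h' : OHas F d' m') :
    OHas F (d + d') (Nat.lcm m m') := by
  obtain ⟨V, _, _, _, B, g, hg, hd, hm⟩ := h
  obtain ⟨V', _, _, _, B', g', hg', hd', hm'⟩ := h'
  refine ⟨V × V', inferInstance, inferInstance, inferInstance, sumForm B B', g.prodMap g',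
    hg.sum hg', ?_, ?_⟩
  · rw [Module.finrank_prod, hd, hd']
  · rw [orderOf_prodMap, hm, hm']

/-- the dot product -/
noncomputable def dotB (d : ℕ) : LinearMap.BilinForm F (Fin d → F) :=
  Matrix.toBilin' (1 : Matrix (Fin d) (Fin d) F)

theorem dotB_apply (d : ℕ) (x y : Fin d → F) : dotB d x y = x ⬝ᵥ y := by
  rw [dotB, Matrix.toBilin'_apply', Matrix.one_mulVec]

theorem fdata_dot_one (d : ℕ) : FData (1 : F) (dotB d) (1 : Module.End F (Fin d → F)) where
  sym := by
    intro x y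
    rw [dotB_apply, dotB_apply, one_mul, dotProduct_comm]
  nd := by
    intro v hv
    apply dotProduct_eq_zero
    intro w
    have := hv w
    rw [dotB_apply] at this
    exact this
  iso := fun _ _ => rfl

theorem OHas.triv (d : ℕ) : OHas F d 1 :=
  ⟨Fin d → F, inferInstance, inferInstance, inferInstance, dotB d, 1, fdata_dot_one d,
    by rw [Module.finrank_pi, Fintype.card_fin], orderOf_one⟩

theorem OHas.mono {d d' m : ℕ} (h : OHas F d m) (hd : d ≤ d') : OHas F d' m := by
  have := h.add (OHas.triv (F := F) (d' - d))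
  rw [Nat.lcm_one_right, Nat.add_sub_cancel' hd] at this
  exact this

/-- the rotation by a quarter turn -/
def rotM : Matrix (Fin 2) (Fin 2) F := !![0, -1; 1, 0]

theorem rotM_sq : (rotM : Matrix (Fin 2) (Fin 2) F) * rotM = -1 := by
  ext i j
  fin_cases i <;> fin_cases j <;> simp [rotM, Matrix.mul_apply, Fin.sum_univ_two]

theorem fdata_rot : FData (1 : F) (dotB 2) (Matrix.toLin' (rotM : Matrix (Fin 2) (Fin 2) F)) where
  sym := (fdata_dot_one 2).sym
  nd := (fdata_dot_one 2).nd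
  iso := by
    intro x y
    rw [dotB_apply, dotB_apply, Matrix.toLin'_apply, Matrix.toLin'_apply]
    simp [rotM, dotProduct, Fin.sum_univ_two, Matrix.mulVec]
    ring

theorem one_ne_neg_one_end (h2 : (2 : F) ≠ 0) {V : Type*} [AddCommGroup V] [Module F V]
    [Nontrivial V] : (1 : Module.End F V) ≠ -1 := by
  intro h
  obtain ⟨x, hx⟩ := exists_ne (0 : V)
  have h1 := congrArg (fun f : Module.End F V => f x) h
  simp only [Module.End.one_apply, LinearMap.neg_apply] at h1
  have h3 : (2 : F) • x = 0 := by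
    rw [two_smul]
    nth_rewrite 2 [h1]
    exact add_neg_cancel x
  rcases smul_eq_zero.1 h3 with h4 | h4
  · exact h2 h4
  · exact hx h4

theorem orderOf_rot (h2 : (2 : F) ≠ 0) :
    orderOf (Matrix.toLin' (rotM : Matrix (Fin 2) (Fin 2) F)) = 4 := by
  have hsq : (Matrix.toLin' (rotM : Matrix (Fin 2) (Fin 2) F)) ^ 2 = -1 := by
    rw [pow_two, Module.End.mul_eq_comp, ← Matrix.toLin'_mul, rotM_sq, map_neg, Matrix.toLin'_one]
    rfl
  have h4 : (4 : ℕ) = 2 ^ 2 := by norm_num
  rw [h4]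
  apply orderOf_eq_prime_pow
  · rw [pow_one, hsq]
    intro h
    exact one_ne_neg_one_end h2 h.symm
  · have h5 : (2 : ℕ) ^ (1 + 1) = 2 * 2 := by norm_num
    rw [h5, pow_mul, hsq]
    exact neg_one_sq (R := Module.End F (Fin 2 → F))

theorem OHas.rot (h2 : (2 : F) ≠ 0) : OHas F 2 4 :=
  ⟨Fin 2 → F, inferInstance, inferInstance, inferInstance, dotB 2, _, fdata_rot,
    by rw [Module.finrank_pi, Fintype.card_fin], orderOf_rot h2⟩

section finite

variable [Fintype F]

/-- an element of the standard odd-dimensional orthogonal group as form data -/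
theorem OHas.of_mem (h2 : (2 : F) ≠ 0) (n : ℕ)
    (a : ↥(Cfsg.isometryGroup F (Cfsg.quadFormOdd n F))) : OHas F (2 * n + 1) (orderOf a) := by
  have ha : (a : GL _ F) ∈ Cfsg.isometryGroup F ⇑(Cfsg.Agent.S0286.oddQF F n) := by
    rw [Cfsg.Agent.S0286.coe_oddQF]; exact a.2
  refine ⟨Unit ⊕ (Fin n ⊕ Fin n) → F, inferInstance, inferInstance, inferInstance,
    QuadraticMap.polarBilin (Cfsg.Agent.S0286.oddQF F n), Matrix.toLin' (a : GL _ F).1,
    fdata_of_mem _ (nondeg_odd h2 n) _ ha, ?_, ?_⟩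
  · rw [Module.finrank_pi, card_idx]
  · apply orderOf_eq_of_pow_iff
    intro j
    rw [toLin'_gl_pow_eq_one_iff, subgroup_pow_eq_one_iff]

/-- a unipotent element of order `p` in dimension 3 -/
theorem OHas.unip (p : ℕ) [Fact p.Prime] [CharP F p] (hp2 : p ≠ 2) : OHas F 3 p := by
  have hodd : Odd (Fintype.card F) := by
    obtain ⟨e, he⟩ := FiniteField.card F p
    rw [he.2]
    exact Odd.pow ((Fact.out : p.Prime).odd_of_ne_two hp2)
  have h2 : (2 : F) ≠ 0 := Cfsg.Agent.S0286.two_ne_zero_of_odd hodd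
  have hcard := Cfsg.Agent.S0286.result (F := F) rfl hodd 1
  have h1 : p ∣ Nat.card ↥(Cfsg.isometryGroup F (Cfsg.quadFormOdd 1 F)) := by
    rw [hcard]
    apply Dvd.dvd.mul_right
    apply Dvd.dvd.mul_left
    rw [one_pow, pow_one]
    obtain ⟨e, he⟩ := FiniteField.card F p
    rw [he.2]
    exact dvd_pow_self p (PNat.ne_zero e)
  have : Finite ↥(Cfsg.isometryGroup F (Cfsg.quadFormOdd 1 F)) := by
    apply Nat.finite_of_card_ne_zero
    intro h0
    rw [h0] at h1
    rw [hcard] at h0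
    have hq : 2 ≤ Fintype.card F := Fintype.one_lt_card
    have h4 : 2 ^ 2 ≤ Fintype.card F ^ 2 := Nat.pow_le_pow_left hq _
    simp only [one_pow, pow_one, Finset.range_one, Finset.prod_singleton, zero_add, mul_one] at h0
    have h5 : 0 < Fintype.card F ^ 2 - 1 := by omega
    have h6 : 0 < 2 * Fintype.card F * (Fintype.card F ^ 2 - 1) := by positivity
    omega
  obtain ⟨a, ha⟩ := exists_prime_orderOf_dvd_card' p h1
  have := OHas.of_mem h2 1 a
  rw [ha] at this
  exact this

/-- from form data in dimension `2 n + 1` to the group -/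
theorem OHas.exists_isometry (h2 : (2 : F) ≠ 0) {n m : ℕ} (h : OHas F (2 * n + 1) m) :
    ∃ A : ↥(Cfsg.isometryGroup F (Cfsg.quadFormOdd n F)), orderOf A = m := by
  obtain ⟨V, _, _, _, B, g, hg, hd, hm⟩ := h
  obtain ⟨A, hA⟩ := exists_isometry_pow_iff h2 hd hg
  exact ⟨A, (orderOf_eq_of_pow_iff _ _ hA).trans hm⟩

theorem OHas.exists_omega_of_odd (h2 : (2 : F) ≠ 0) {n m : ℕ} (h : OHas F (2 * n + 1) m)
    (hm : Odd m) : ∃ a : ↥(Cfsg.isometryGroup F (Cfsg.quadFormOdd n F)),
      a ∈ Cfsg.Omega F (Cfsg.quadFormOdd n F) ∧ orderOf a = m := by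
  obtain ⟨A, hA⟩ := h.exists_isometry h2
  refine ⟨A, ?_, hA⟩
  have key : ∀ a : ↥(Cfsg.isometryGroup F ⇑(Cfsg.Agent.S0286.oddQF F n)), Odd (orderOf a) →
      a ∈ Cfsg.Omega F ⇑(Cfsg.Agent.S0286.oddQF F n) :=
    fun a => mem_Omega_of_odd (Cfsg.Agent.S0286.oddQF F n) (nondeg_odd h2 n) h2 a
  rw [Cfsg.Agent.S0286.coe_oddQF] at key
  exact key A (hA ▸ hm)

end finite

end Cfsg.Agent.Lib.H12.BC
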