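import Mathlib
import Cfsg.Agent.Lib.H12.BCBlocks

/-!
# Elements of order `2 m` in `PSp_{2n}(q)` and in `Ω_{2n+1}(q)` from small pieces (helper12)
-/

set_option autoImplicit false
set_option linter.unusedSectionVars false

namespace Cfsg.Agent.Lib.H12.BC

open Module Matrix
open Cfsg.Agent.Lib.H12.SpSemi Cfsg.Agent.Lib.H12.PSpG Cfsg.Agent.Lib.H12.Semi

universe u
variable {F : Type u} [Field F]

theorem spData_std_one (m : ℕ) : SpData (stdForm m F) (1 : Module.End F (Fin m ⊕ Fin m → F)) := by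
  have := spData_of_mem m (1 : ↥(Matrix.symplecticGroup (Fin m) F)).2
  have h1 : Matrix.toLin' ((1 : ↥(Matrix.symplecticGroup (Fin m) F)) :
      Matrix (Fin m ⊕ Fin m) (Fin m ⊕ Fin m) F) = 1 := by
    show Matrix.toLin' (1 : Matrix (Fin m ⊕ Fin m) (Fin m ⊕ Fin m) F) = 1
    rw [Matrix.toLin'_one]; rfl
  rw [h1] at this
  exact this

theorem spData_std_neg_one (m : ℕ) :
    SpData (stdForm m F) (-1 : Module.End F (Fin m ⊕ Fin m → F)) := by
  have h := spData_std_one (F := F) m
  exact ⟨h.alt, h.nd, fun x y => by simp⟩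

theorem prime_dvd_two_mul {l m : ℕ} (hl : l.Prime) (hm : m.Prime) (h : l ∣ 2 * m) :
    l = 2 ∨ l = m := by
  rcases (Nat.Prime.dvd_mul hl).1 h with h1 | h1
  · left; exact (Nat.prime_dvd_prime_iff_eq hl Nat.prime_two).1 h1
  · right; exact (Nat.prime_dvd_prime_iff_eq hl hm).1 h1

/-- an isometry of odd prime order `m` of a symplectic space of dimension `2 w`, `w < n`, gives an
element of order `2 m` of `PSp_{2n}(F)` -/
theorem exists_psp_two_mul {V₁ : Type u} [AddCommGroup V₁] [Module F V₁] [FiniteDimensional F V₁]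
    (h2 : (2 : F) ≠ 0) {n w : ℕ} (hw : finrank F V₁ = 2 * w) (hwn : w + 1 ≤ n)
    {B₁ : LinearMap.BilinForm F V₁} {y : Module.End F V₁} (hy : SpData B₁ y)
    (m : ℕ) (hm : m.Prime) (hm2 : m ≠ 2) (hord : orderOf y = m) :
    ∃ x : Cfsg.PSp n F, orderOf x = 2 * m := by
  have hodd : Odd m := hm.odd_of_ne_two hm2
  have hy1 : y ≠ 1 := by
    intro h
    rw [h, orderOf_one] at hord
    exact hm.one_lt.ne hord
  have hnt : Nontrivial V₁ := by
    by_contra hcon
    rw [not_nontrivial_iff_subsingleton] at hcon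
    apply hy1
    apply LinearMap.ext
    intro x
    exact Subsingleton.elim _ _
  have hym : y ^ m = 1 := by rw [← hord]; exact pow_orderOf_eq_one y
  have hy2 : y ^ 2 ≠ 1 := by
    intro h
    have h1 := orderOf_dvd_of_pow_eq_one h
    rw [hord] at h1
    have := (Nat.prime_dvd_prime_iff_eq hm Nat.prime_two).1 h1
    exact hm2 this
  have hntF : Nontrivial (Fin 1 ⊕ Fin 1 → F) := by
    refine ⟨⟨fun _ => 1, 0, ?_⟩⟩
    intro h
    have := congrFun h (Sum.inl 0)
    simp at this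
  set c := n - w - 1 with hc
  set g : Module.End F (V₁ × ((Fin 1 ⊕ Fin 1 → F) × (Fin c ⊕ Fin c → F))) :=
    y.prodMap ((-1 : Module.End F (Fin 1 ⊕ Fin 1 → F)).prodMap
      (1 : Module.End F (Fin c ⊕ Fin c → F))) with hg
  have hsp : SpData (sumForm B₁ (sumForm (stdForm 1 F) (stdForm c F))) g :=
    spData_sum hy (spData_sum (spData_std_neg_one 1) (spData_std_one c))
  have hfr : finrank F (V₁ × ((Fin 1 ⊕ Fin 1 → F) × (Fin c ⊕ Fin c → F))) = 2 * n := by
    rw [Module.finrank_prod, Module.finrank_prod, finrank_std, finrank_std, hw]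
    omega
  have hpow : ∀ j : ℕ, g ^ j = (y ^ j).prodMap (((-1 : Module.End F (Fin 1 ⊕ Fin 1 → F)) ^ j).prodMap
      (1 : Module.End F (Fin c ⊕ Fin c → F))) := by
    intro j
    rw [hg, prodMap_pow_eq, prodMap_pow_eq, one_pow]
  have hneg : (-1 : Module.End F (Fin 1 ⊕ Fin 1 → F)) ^ m = -1 :=
    Odd.neg_one_pow (α := Module.End F (Fin 1 ⊕ Fin 1 → F)) hodd
  have hneg2 : (-1 : Module.End F (Fin 1 ⊕ Fin 1 → F)) ^ 2 = 1 :=
    neg_one_sq (R := Module.End F (Fin 1 ⊕ Fin 1 → F))
  apply exists_psp_orderOf (by omega) hfr hsp (2 * m) (by have := hm.pos; omega)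
  · left
    rw [hpow, mul_comm, pow_mul, hym, one_pow, pow_mul, hneg, hneg2,
      LinearMap.prodMap_one, LinearMap.prodMap_one]
  · intro l hl hlm
    rcases prime_dvd_two_mul hl hm hlm with rfl | rfl
    · rw [Nat.mul_div_cancel_left _ (by norm_num : 0 < 2), hpow, hym, hneg]
      constructor
      · intro h
        have := ((prodMap_eq_one_iff _ _).1 h).2
        have := ((prodMap_eq_one_iff _ _).1 this).1
        exact one_ne_neg_one_end h2 this.symm
      · intro h
        have := ((prodMap_eq_neg_one_iff _ _).1 h).1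
        exact one_ne_neg_one_end h2 this
    · rw [Nat.mul_div_cancel _ hm.pos, hpow, hneg2]
      constructor
      · intro h
        exact hy2 ((prodMap_eq_one_iff _ _).1 h).1
      · intro h
        have := ((prodMap_eq_neg_one_iff _ _).1 h).2
        have := ((prodMap_eq_neg_one_iff _ _).1 this).1
        exact one_ne_neg_one_end h2 this

section finite

variable [Fintype F]

/-- an isometry of order `4 m` in dimension `2 n + 1` gives an element of order `2 m` of `Ω` -/
theorem OHas.exists_omega_of_four (h2 : (2 : F) ≠ 0) {n m : ℕ}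
    (h : OHas F (2 * n + 1) (4 * m)) :
    ∃ a : ↥(Cfsg.isometryGroup F (Cfsg.quadFormOdd n F)),
      a ∈ Cfsg.Omega F (Cfsg.quadFormOdd n F) ∧ orderOf a = 2 * m := by
  obtain ⟨A, hA⟩ := h.exists_isometry h2
  refine ⟨A ^ 2, ?_, ?_⟩
  · have key : ∀ a : ↥(Cfsg.isometryGroup F ⇑(Cfsg.Agent.S0286.oddQF F n)),
        a ^ 2 ∈ Cfsg.Omega F ⇑(Cfsg.Agent.S0286.oddQF F n) :=
      fun a => pow_two_mem_Omega (Cfsg.Agent.S0286.oddQF F n) (nondeg_odd h2 n) h2 a
    rw [Cfsg.Agent.S0286.coe_oddQF] at key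
    exact key A
  · rw [orderOf_pow' A (by norm_num : (2 : ℕ) ≠ 0), hA]
    have : Nat.gcd (4 * m) 2 = 2 := by
      rw [Nat.gcd_comm]
      exact Nat.gcd_eq_left ⟨2 * m, by ring⟩
    rw [this]
    omega

/-- an isometry of odd prime order `m` of an orthogonal space of dimension `d ≤ 2 n - 1` gives an
element of order `2 m` of `Ω_{2n+1}(q)` -/
theorem OHas.exists_omega_two_mul (h2 : (2 : F) ≠ 0) {n d m : ℕ} (hm : Odd m)
    (h : OHas F d m) (hd : d + 2 ≤ 2 * n + 1) :
    ∃ a : ↥(Cfsg.isometryGroup F (Cfsg.quadFormOdd n F)),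
      a ∈ Cfsg.Omega F (Cfsg.quadFormOdd n F) ∧ orderOf a = 2 * m := by
  have h1 := (h.add (OHas.rot h2)).mono hd
  have h3 : Nat.lcm m 4 = 4 * m := by
    have hco : Nat.Coprime m 4 := by
      have : Nat.Coprime m 2 := Nat.coprime_two_right.2 hm
      exact Nat.Coprime.pow_right 2 this
    rw [hco.lcm_eq_mul, mul_comm]
  rw [h3] at h1
  exact h1.exists_omega_of_four h2

end finite

end Cfsg.Agent.Lib.H12.BC
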