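import Mathlib
import Cfsg.Agent.Lib.H12.BCBuild

/-!
# Transfer of isometries of odd order between orthogonal and symplectic spaces (helper12)
-/

set_option autoImplicit false
set_option linter.unusedSectionVars false

namespace Cfsg.Agent.Lib.H12.BC

open Module Matrix
open Cfsg.Agent.Lib.H12.SpSemi Cfsg.Agent.Lib.H12.PSpG Cfsg.Agent.Lib.H12.Semi
  Cfsg.Agent.Lib.H12.PGraph

universe u
variable {F : Type u} [Field F]

theorem even_finrank_of_spData {V : Type*} [AddCommGroup V] [Module F V] [FiniteDimensional F V]
    {B : LinearMap.BilinForm F V} {g : Module.End F V} (h : SpData B g) :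
    Even (finrank F V) := by
  apply Cfsg.Agent.Lib.H11.even_finrank_of_nondegenerate_isAlt (finrank F V) B
  · intro x
    exact h.alt x
  · constructor
    · intro x hx
      exact h.nd x hx
    · intro x hx
      apply h.nd
      intro y
      have := hx y
      rw [h.skew, this, neg_zero]
  · rfl

theorem restrict_eq_one_apply {V : Type*} [AddCommGroup V] [Module F V] {W : Submodule F V}
    (f : Module.End F V) (hf : ∀ w ∈ W, f w ∈ W) (h : (f.restrict hf : Module.End F W) = 1)
    (z : V) (hz : z ∈ W) : f z = z := by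
  have := congrArg (fun φ : Module.End F W => ((φ ⟨z, hz⟩ : W) : V)) h
  simpa using this

section general

variable {V : Type u} [AddCommGroup V] [Module F V] [FiniteDimensional F V]
variable {B : LinearMap.BilinForm F V} {g : Module.End F V}

/-- orthogonal to symplectic, odd order prime to the characteristic -/
theorem hasOrd_of_fdata_odd [Fintype F] (h2 : (2 : F) ≠ 0) (h : FData (1 : F) B g) {m n : ℕ}
    (hord : orderOf g = m) (hodd : Odd m) (hm : (m : F) ≠ 0) (hfr : finrank F V ≤ 2 * n + 1) :
    HasOrd F n m := by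
  have hT : g ^ m = 1 := by rw [← hord]; exact pow_orderOf_eq_one g
  obtain ⟨B', hB', -⟩ := exists_twist h h rfl m hT hm hodd
  have hsp := hB'.spData h2
  obtain ⟨w, hw⟩ := even_finrank_of_spData hsp
  have hw' : finrank F (LinearMap.range (g - 1)) = 2 * w := by rw [hw]; ring
  have h1 := hasOrd_of_isometry hw' hsp
  rw [orderOf_restrict_range m hT hm, hord] at h1
  have h3 := Submodule.finrank_le (LinearMap.range (g - 1))
  exact h1.mono (by omega)

/-- symplectic to orthogonal, odd order prime to the characteristic -/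
theorem oHas_of_spData_odd (h : SpData B g) {m : ℕ}
    (hord : orderOf g = m) (hodd : Odd m) (hm : (m : F) ≠ 0) :
    OHas F (finrank F (LinearMap.range (g - 1))) m := by
  have hT : g ^ m = 1 := by rw [← hord]; exact pow_orderOf_eq_one g
  obtain ⟨B', hB', -⟩ := exists_twist (FData.of_spData h) (FData.of_spData h) rfl m hT hm hodd
  rw [neg_neg] at hB'
  exact ⟨_, inferInstance, inferInstance, inferInstance, B', _, hB', rfl,
    (orderOf_restrict_range m hT hm).trans hord⟩

end general

section mixed

variable {V : Type u} [AddCommGroup V] [Module F V] [FiniteDimensional F V]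
variable {B : LinearMap.BilinForm F V} {g : Module.End F V}

theorem orderOf_pow_right {G : Type*} [Monoid G] (g : G) {r p : ℕ} (hr : 0 < r) (hp : 0 < p)
    (h : orderOf g = r * p) : orderOf (g ^ p) = r ∧ orderOf (g ^ r) = p := by
  constructor
  · rw [orderOf_pow' g hp.ne', h, Nat.gcd_mul_left_left, Nat.mul_div_cancel _ hp]
  · rw [orderOf_pow' g hr.ne', h, Nat.gcd_mul_right_left, Nat.mul_div_cancel_left _ hr]

theorem eq_one_of_pow_char (p : ℕ) [Fact p.Prime] [CharP F p] (δ : F) (h : δ ^ p = 1) : δ = 1 := by
  have h1 : (δ - 1) ^ p = 0 := by rw [sub_pow_char, h, one_pow, sub_self]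
  exact sub_eq_zero.1 (pow_eq_zero_iff (Fact.out : p.Prime).ne_zero |>.1 h1)

/-- an endomorphism of `p`-power order of a line is trivial -/
theorem eq_self_of_finrank_one (p : ℕ) [Fact p.Prime] [CharP F p] (K : Submodule F V)
    (hK : finrank F K = 1) (u : Module.End F V) (huK : ∀ w ∈ K, u w ∈ K) (hup : u ^ p = 1) :
    ∀ w ∈ K, u w = w := by
  obtain ⟨v, hv0, hv⟩ := finrank_eq_one_iff'.1 hK
  obtain ⟨δ, hδ⟩ := hv ⟨u v.1, huK v.1 v.2⟩
  have hδ' : u (v : V) = δ • (v : V) := by
    have := congrArg Subtype.val hδ
    simpa using this.symm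
  have hpow : ∀ j : ℕ, (u ^ j) (v : V) = δ ^ j • (v : V) := by
    intro j
    induction j with
    | zero => simp
    | succ j ih => rw [pow_succ', Module.End.mul_apply, ih, map_smul, hδ', smul_smul, pow_succ]
  have h1 := hpow p
  rw [hup, Module.End.one_apply] at h1
  have hv0' : (v : V) ≠ 0 := fun h => hv0 (Subtype.ext h)
  have h3 : (δ ^ p - 1) • (v : V) = 0 := by rw [sub_smul, one_smul, ← h1, sub_self]
  have hδp : δ ^ p = 1 := by
    rcases smul_eq_zero.1 h3 with h4 | h4
    · exact sub_eq_zero.1 h4
    · exact absurd h4 hv0'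
  have hδ1 := eq_one_of_pow_char p δ hδp
  intro w hw
  obtain ⟨c, hc⟩ := hv ⟨w, hw⟩
  have hc' : w = c • (v : V) := by
    have := congrArg Subtype.val hc
    simpa using this.symm
  rw [hc', map_smul, hδ', hδ1, one_smul]

variable [Fintype F]

/-- orthogonal to symplectic, order `r p` -/
theorem hasOrd_of_fdata_rp (p : ℕ) [Fact p.Prime] [CharP F p] (h2 : (2 : F) ≠ 0)
    (h : FData (1 : F) B g) {r n : ℕ} (hr : r.Prime) (hr2 : r ≠ 2) (hrp : r ≠ p)
    (hord : orderOf g = r * p) (hfr : finrank F V = 2 * n + 1) : HasOrd F n (r * p) := by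
  have hp : p.Prime := Fact.out
  obtain ⟨hox, hou⟩ := orderOf_pow_right g hr.pos hp.pos hord
  set x := g ^ p with hx
  set u := g ^ r with hu
  have hxr : x ^ r = 1 := by rw [← hox]; exact pow_orderOf_eq_one x
  have hup : u ^ p = 1 := by rw [← hou]; exact pow_orderOf_eq_one u
  have hrF : (r : F) ≠ 0 := natCast_ne_zero_of_ne p r hr hrp
  have hc : u * x = x * u := by rw [hx, hu, ← pow_add, ← pow_add, add_comm]
  obtain ⟨B', hBx, hBu⟩ := exists_twist (h.pow p) (h.pow r) hc r hxr hrF (hr.odd_of_ne_two hr2)
  have hspx := hBx.spData h2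
  have hspu := hBu.spData h2
  obtain ⟨w, hw⟩ := even_finrank_of_spData hspx
  have hw' : finrank F (LinearMap.range (x - 1)) = 2 * w := by rw [hw]; ring
  have hoxW := (orderOf_restrict_range r hxr hrF).trans hox
  have hsum := finrank_ker_add_range x
  set xW := x.restrict (range_sub_one_invt x rfl) with hxW
  set uW := u.restrict (range_sub_one_invt u hc) with huW
  have hupW : uW ^ p = 1 := by
    rw [restrict_pow_eq_one_iff]
    intro z _
    rw [hup, Module.End.one_apply]
  by_cases huW1 : uW = 1
  · -- `u` is trivial on `[V, x]`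
    have hker : finrank F (LinearMap.ker (x - 1)) ≠ 1 := by
      intro h1
      have hfix := eq_self_of_finrank_one p _ h1 u (ker_sub_one_invt u hc) hup
      have : u = 1 := by
        apply eq_one_of_ker_of_range r hxr hrF u hfix
        intro z hz
        exact restrict_eq_one_apply u _ huW1 z hz
      rw [this, orderOf_one] at hou
      exact hp.one_lt.ne hou
    have hwn : w + 1 ≤ n := by omega
    have h1 := hasOrd_of_isometry hw' hspx
    rw [hoxW] at h1
    have h3 := h1.add (hasOrd_char (F := F) p)
    have hco : Nat.Coprime r p := (Nat.coprime_primes hr hp).2 hrp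
    rw [hco.lcm_eq_mul] at h3
    exact h3.mono hwn
  · have houW : orderOf uW = p := orderOf_eq_prime hupW huW1
    have hcomm : Commute xW uW := by
      show xW * uW = uW * xW
      rw [hxW, huW, restrict_mul, restrict_mul]
      congr 1
      exact hc.symm
    have hco : Nat.Coprime (orderOf xW) (orderOf uW) := by
      rw [hoxW, houW]; exact (Nat.coprime_primes hr hp).2 hrp
    have hoy := hcomm.orderOf_mul_eq_mul_orderOf_of_coprime hco
    rw [hoxW, houW] at hoy
    have hspy : SpData B' (xW * uW) := (hBx.mul hBu).spData h2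
    have h1 := hasOrd_of_isometry hw' hspy
    rw [hoy] at h1
    have h3 := Submodule.finrank_le (LinearMap.range (x - 1))
    exact h1.mono (by omega)

/-- symplectic to orthogonal, order `r p` -/
theorem oHas_of_spData_rp (p : ℕ) [Fact p.Prime] [CharP F p] (hp2 : p ≠ 2)
    (h : SpData B g) {r n : ℕ} (hr : r.Prime) (hr2 : r ≠ 2) (hrp : r ≠ p)
    (hord : orderOf g = r * p) (hfr : finrank F V = 2 * n) : OHas F (2 * n + 1) (r * p) := by
  have hp : p.Prime := Fact.out
  obtain ⟨hox, hou⟩ := orderOf_pow_right g hr.pos hp.pos hord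
  set x := g ^ p with hx
  set u := g ^ r with hu
  have hxr : x ^ r = 1 := by rw [← hox]; exact pow_orderOf_eq_one x
  have hup : u ^ p = 1 := by rw [← hou]; exact pow_orderOf_eq_one u
  have hrF : (r : F) ≠ 0 := natCast_ne_zero_of_ne p r hr hrp
  have hc : u * x = x * u := by rw [hx, hu, ← pow_add, ← pow_add, add_comm]
  have hspx : SpData B x := ⟨h.alt, h.nd, h.iso_pow p⟩
  have hspu : SpData B u := ⟨h.alt, h.nd, h.iso_pow r⟩
  obtain ⟨B', hBx, hBu⟩ := exists_twist (FData.of_spData hspx) (FData.of_spData hspu) hc r hxr hrF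
    (hr.odd_of_ne_two hr2)
  rw [neg_neg] at hBx hBu
  have hoxW := (orderOf_restrict_range r hxr hrF).trans hox
  have hsum := finrank_ker_add_range x
  set xW := x.restrict (range_sub_one_invt x rfl) with hxW
  set uW := u.restrict (range_sub_one_invt u hc) with huW
  have hupW : uW ^ p = 1 := by
    rw [restrict_pow_eq_one_iff]
    intro z _
    rw [hup, Module.End.one_apply]
  have hco : Nat.Coprime r p := (Nat.coprime_primes hr hp).2 hrp
  by_cases huW1 : uW = 1
  · have hker : finrank F (LinearMap.ker (x - 1)) ≠ 0 := by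
      intro h1
      have hbot : LinearMap.ker (x - 1) = ⊥ := Submodule.finrank_eq_zero.1 h1
      have : u = 1 := by
        apply eq_one_of_ker_of_range r hxr hrF u
        · intro z hz
          rw [hbot, Submodule.mem_bot] at hz
          rw [hz, map_zero]
        · intro z hz
          exact restrict_eq_one_apply u _ huW1 z hz
      rw [this, orderOf_one] at hou
      exact hp.one_lt.ne hou
    obtain ⟨w, hw⟩ := even_finrank_range hspx r hxr hrF
    have h1 : OHas F (finrank F (LinearMap.range (x - 1))) r :=
      ⟨_, inferInstance, inferInstance, inferInstance, B', xW, hBx, rfl, hoxW⟩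
    have h3 := h1.add (OHas.unip (F := F) p hp2)
    rw [hco.lcm_eq_mul] at h3
    exact h3.mono (by omega)
  · have houW : orderOf uW = p := orderOf_eq_prime hupW huW1
    have hcomm : Commute xW uW := by
      show xW * uW = uW * xW
      rw [hxW, huW, restrict_mul, restrict_mul]
      congr 1
      exact hc.symm
    have hco' : Nat.Coprime (orderOf xW) (orderOf uW) := by
      rw [hoxW, houW]; exact hco
    have hoy := hcomm.orderOf_mul_eq_mul_orderOf_of_coprime hco'
    rw [hoxW, houW] at hoy
    have h1 : OHas F (finrank F (LinearMap.range (x - 1))) (r * p) :=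
      ⟨_, inferInstance, inferInstance, inferInstance, B', xW * uW, hBx.mul hBu, rfl, hoy⟩
    have h3 := Submodule.finrank_le (LinearMap.range (x - 1))
    exact h1.mono (by omega)

end mixed

end Cfsg.Agent.Lib.H12.BC
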