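import Mathlib
import Cfsg.Agent.Lib.H12.BCCaseAB
import Cfsg.Agent.Lib.H12.BCBuild

/-!
# Case `2 s`, from the symplectic to the orthogonal side (helper12)
-/

set_option autoImplicit false
set_option linter.unusedSectionVars false

namespace Cfsg.Agent.Lib.H12.BC

open Module
open Cfsg.Agent.Lib.H12.SpSemi Cfsg.Agent.Lib.H12.PSpG Cfsg.Agent.Lib.H12.Semi
  Cfsg.Agent.Lib.H12.PGraph

universe u
variable {F : Type u} [Field F]
variable {V : Type u} [AddCommGroup V] [Module F V] [FiniteDimensional F V]
variable {B : LinearMap.BilinForm F V}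

omit [FiniteDimensional F V] in
theorem range_ne_top_of_involution (τ : Module.End F V) (hτ2 : τ ^ 2 = 1) (hτ1 : τ ≠ -1) :
    LinearMap.range (τ - 1) ≠ ⊤ := by
  intro htop
  apply hτ1
  apply LinearMap.ext
  intro v
  have hv : v ∈ LinearMap.range (τ - 1) := by rw [htop]; exact Submodule.mem_top
  obtain ⟨z, rfl⟩ := hv
  have h1 : τ (τ z) = z := by
    have := congrArg (fun f : Module.End F V => f z) hτ2
    simpa [pow_two] using this
  simp only [LinearMap.sub_apply, Module.End.one_apply, map_sub, h1, LinearMap.neg_apply]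
  abel

/-- an isometry `x` of odd prime order acting non-trivially on the `(-1)`-eigenspace of a commuting
involution `τ ≠ -1`: an orthogonal space of dimension at most `2 n - 2` with an isometry of
order `s` -/
theorem oHas_of_involution (h2 : (2 : F) ≠ 0) {x τ : Module.End F V} (hx : SpData B x)
    (hτ : SpData B τ) (hc : x * τ = τ * x) (hτ2 : τ ^ 2 = 1) (hτ1 : τ ≠ -1) {s n : ℕ}
    (hs : s.Prime) (hs2 : s ≠ 2) (hsF : (s : F) ≠ 0) (hxs : x ^ s = 1)
    (hx1 : ∃ w ∈ LinearMap.range (τ - 1), x w ≠ w) (hV : finrank F V = 2 * n) :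
    ∃ d, d + 2 ≤ 2 * n ∧ OHas F d s := by
  have h2F : ((2 : ℕ) : F) ≠ 0 := by exact_mod_cast h2
  have hfd : FData (-1 : F) (B.restrict (LinearMap.range (τ - 1)))
      (x.restrict (range_sub_one_invt x hc)) :=
    FData.restrict_range (FData.of_spData hτ) (FData.of_spData hx) hc 2 hτ2 h2F
  have hspU := hfd.spData h2
  have := Fact.mk hs
  have hordU : orderOf (x.restrict (range_sub_one_invt x hc) :
      Module.End F (LinearMap.range (τ - 1))) = s := by
    apply orderOf_eq_prime
    · rw [restrict_pow_eq_one_iff]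
      intro w _
      rw [hxs, Module.End.one_apply]
    · intro h1
      obtain ⟨w, hw, hxw⟩ := hx1
      exact hxw (restrict_eq_one_apply x _ h1 w hw)
  have hO := oHas_of_spData_odd hspU hordU (hs.odd_of_ne_two hs2) hsF
  refine ⟨_, ?_, hO⟩
  have h3 := Submodule.finrank_le (LinearMap.range
    ((x.restrict (range_sub_one_invt x hc) : Module.End F (LinearMap.range (τ - 1))) - 1))
  have h4 := Submodule.finrank_lt (range_ne_top_of_involution τ hτ2 hτ1)
  obtain ⟨e, he⟩ := even_finrank_of_spData hspU
  omega

section finite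

variable [Fintype F]

/-- **symplectic to orthogonal, order `2 s`** -/
theorem omega_of_spData_two_mul (p : ℕ) [Fact p.Prime] [CharP F p] (h2 : (2 : F) ≠ 0) {n : ℕ}
    (hV : finrank F V = 2 * n) {g : Module.End F V} (h : SpData B g) (s : ℕ) (hs : s.Prime)
    (hs2 : s ≠ 2) (hsp : s ≠ p) (h1 : g ^ (2 * s) = 1 ∨ g ^ (2 * s) = -1)
    (hgs : g ^ s ≠ 1 ∧ g ^ s ≠ -1) (hg2 : g ^ 2 ≠ 1 ∧ g ^ 2 ≠ -1) :
    ∃ a : ↥(Cfsg.isometryGroup F (Cfsg.quadFormOdd n F)),
      a ∈ Cfsg.Omega F (Cfsg.quadFormOdd n F) ∧ orderOf a = 2 * s := by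
  have hsF : (s : F) ≠ 0 := natCast_ne_zero_of_ne p s hs hsp
  have hodd : Odd s := hs.odd_of_ne_two hs2
  have hnt : Nontrivial V := by
    by_contra hcon
    rw [not_nontrivial_iff_subsingleton] at hcon
    apply hg2.1
    apply LinearMap.ext
    intro x
    exact Subsingleton.elim _ _
  rcases h1 with h1 | h1
  · -- `g ^ (2 s) = 1`
    set t := g ^ s with ht
    set x := g ^ 2 with hx
    have ht2 : t ^ 2 = 1 := by rw [ht, ← pow_mul, mul_comm, h1]
    have hxs : x ^ s = 1 := by rw [hx, ← pow_mul, h1]
    have hspt : SpData B t := ⟨h.alt, h.nd, h.iso_pow s⟩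
    have hspx : SpData B x := ⟨h.alt, h.nd, h.iso_pow 2⟩
    have hc : x * t = t * x := by rw [hx, ht, ← pow_add, ← pow_add, add_comm]
    have hsptn : SpData B (-t) := ⟨h.alt, h.nd, fun a b => by
      simp only [LinearMap.neg_apply, map_neg, neg_neg]
      exact hspt.iso a b⟩
    have hcn : x * (-t) = (-t) * x := by rw [mul_neg, neg_mul, hc]
    have htn2 : (-t) ^ 2 = 1 := by rw [neg_sq, ht2]
    have htn1 : -t ≠ -1 := fun h => hgs.1 (neg_injective h)
    have hex : (∃ w ∈ LinearMap.range (t - 1), x w ≠ w) ∨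
        (∃ w ∈ LinearMap.range (-t - 1), x w ≠ w) := by
      by_contra hcon
      push Not at hcon
      apply hg2.1
      apply LinearMap.ext
      intro v
      have e1 : (2 : F) • v = -((-t - 1) v) - (t - 1) v := by
        simp only [LinearMap.sub_apply, LinearMap.neg_apply, Module.End.one_apply, two_smul]
        abel
      have e2 : x ((2 : F) • v) = (2 : F) • v := by
        rw [e1, map_sub, map_neg, hcon.1 _ ⟨v, rfl⟩, hcon.2 _ ⟨v, rfl⟩]
      rw [map_smul] at e2
      rw [Module.End.one_apply]
      exact smul_right_injective V h2 e2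
    rcases hex with hex | hex
    · obtain ⟨d, hd, hO⟩ := oHas_of_involution h2 hspx hspt hc ht2 hgs.2 hs hs2 hsF hxs hex hV
      exact OHas.exists_omega_two_mul h2 hodd hO (by omega)
    · obtain ⟨d, hd, hO⟩ := oHas_of_involution h2 hspx hsptn hcn htn2 htn1 hs hs2 hsF hxs hex hV
      exact OHas.exists_omega_two_mul h2 hodd hO (by omega)
  · -- `g ^ (2 s) = -1`
    have hg4 : g ^ 4 ≠ 1 := by
      intro h4
      apply hg2.2
      obtain ⟨k, hk⟩ := hodd
      have : g ^ (2 * s) = g ^ 2 := by
        have e : 2 * s = 4 * k + 2 := by omega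
        rw [e, pow_add, pow_mul, h4, one_pow, one_mul]
      rw [← this, h1]
    have hord : orderOf g = 4 * s := by
      apply orderOf_eq_of_pow_and_pow_div_prime (by have := hs.pos; omega)
      · have e : 4 * s = 2 * s * 2 := by ring
        rw [e, pow_mul, h1]
        exact neg_one_sq (R := Module.End F V)
      · intro l hl hl4
        have hl' : l = 2 ∨ l = s := by
          rcases (Nat.Prime.dvd_mul hl).1 hl4 with h | h
          · left
            have : l ∣ 2 ^ 2 := h
            exact (Nat.prime_dvd_prime_iff_eq hl Nat.prime_two).1 (hl.dvd_of_dvd_pow this)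
          · right; exact (Nat.prime_dvd_prime_iff_eq hl hs).1 h
        rcases hl' with rfl | rfl
        · have e : 4 * s / 2 = 2 * s := by omega
          rw [e, h1]
          exact fun h => one_ne_neg_one_end h2 h.symm
        · rw [Nat.mul_div_cancel _ hs.pos]
          exact hg4
    have hsurj : Function.Surjective (g * g - 1 : Module.End F V) := by
      apply LinearMap.surjective_of_injective
      rw [injective_iff_map_eq_zero]
      intro v hv
      have h3 : (g ^ 2) v = v := by
        rw [pow_two]
        simp only [LinearMap.sub_apply, Module.End.one_apply] at hv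
        exact sub_eq_zero.1 hv
      have h4 : (g ^ (2 * s)) v = v := by
        rw [pow_mul]
        exact pow_apply_of_fixed (g ^ 2) v h3 s
      rw [h1, LinearMap.neg_apply, Module.End.one_apply] at h4
      have h5 : (2 : F) • v = 0 := by
        rw [two_smul]
        nth_rewrite 1 [← h4]
        exact neg_add_cancel v
      rcases smul_eq_zero.1 h5 with h6 | h6
      · exact absurd h6 h2
      · exact h6
    have hfd := (FData.of_spData h).twist (FData.of_spData h) rfl hsurj
    rw [neg_neg] at hfd
    have hO : OHas F (2 * n) (4 * s) :=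
      ⟨V, inferInstance, inferInstance, inferInstance, tw B g, g, hfd, hV, hord⟩
    exact (hO.mono (by omega : 2 * n ≤ 2 * n + 1)).exists_omega_of_four h2

end finite

end Cfsg.Agent.Lib.H12.BC
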