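import Mathlib
import Cfsg.Agent.Lib.H12.BCTransO
import Cfsg.Agent.Lib.H13.OmegaCrit
import Cfsg.Agent.Lib.H11.SqCount
import Cfsg.Agent.Lib.H4.Orth

/-!
# Involutions in `Ω(Q)`: the `(-1)`-eigenspace has even dimension and `4 ∣ #{Q = 1}` on it
(helper12)
-/

set_option autoImplicit false
set_option linter.unusedSectionVars false

namespace Cfsg.Agent.Lib.H12.BC

open Module Matrix
open Cfsg.Agent.Lib.H12.Semi Cfsg.Agent.Lib.H12.PSpG Cfsg.Agent.Lib.H12.PGraph
open Cfsg.Agent.Lib.H11.SqCount

universe u
variable {F : Type u} [Field F] {ι : Type} [Fintype ι] [DecidableEq ι]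
variable (Q : QuadraticForm F (ι → F))

/-- product of the reflections along a list of vectors -/
noncomputable def reflProd (L : List (ι → F)) : Matrix ι ι F :=
  (L.map (fun v => Cfsg.reflectionMatrix ⇑Q v)).prod

theorem reflProd_nil : reflProd Q [] = 1 := rfl

theorem reflProd_cons (u : ι → F) (L : List (ι → F)) :
    reflProd Q (u :: L) = Cfsg.reflectionMatrix ⇑Q u * reflProd Q L := by
  rw [reflProd, List.map_cons, List.prod_cons]
  rfl

theorem reflProd_fix (L : List (ι → F)) (x : ι → F)
    (hx : ∀ w ∈ L, QuadraticMap.polar (⇑Q) w x = 0) : reflProd Q L *ᵥ x = x := by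
  induction L with
  | nil => rw [reflProd_nil, Matrix.one_mulVec]
  | cons u L ih =>
    rw [reflProd_cons, ← Matrix.mulVec_mulVec, ih (fun w hw => hx w (List.mem_cons_of_mem _ hw)),
      Cfsg.Agent.Lib.H4.reflectionMatrix_mulVec, hx u List.mem_cons_self, mul_zero, zero_smul,
      sub_zero]

theorem reflProd_neg (L : List (ι → F))
    (hL : L.Pairwise (fun u w => QuadraticMap.polar (⇑Q) u w = 0))
    (hQL : ∀ w ∈ L, Q w ≠ 0) (w : ι → F) (hw : w ∈ L) : reflProd Q L *ᵥ w = -w := by
  induction L with
  | nil => exact absurd hw List.not_mem_nil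
  | cons u L ih =>
    rw [List.pairwise_cons] at hL
    rw [reflProd_cons, ← Matrix.mulVec_mulVec]
    rcases List.mem_cons.1 hw with rfl | hw'
    · have h1 : reflProd Q L *ᵥ w = w := by
        apply reflProd_fix
        intro z hz
        rw [QuadraticMap.polar_comm]
        exact hL.1 z hz
      rw [h1, Cfsg.Agent.Lib.H4.reflectionMatrix_mulVec, Cfsg.Agent.Lib.H4.polar_self]
      have h3 : (Q w)⁻¹ * (2 * Q w) = 2 := by
        have := hQL w List.mem_cons_self
        field_simp
      rw [h3, two_smul]
      abel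
    · rw [ih hL.2 (fun z hz => hQL z (List.mem_cons_of_mem _ hz)) hw',
        Cfsg.Agent.Lib.H4.reflectionMatrix_mulVec, QuadraticMap.polar_neg_right, hL.1 w hw',
        neg_zero, mul_zero, zero_smul, sub_zero]

/-- the value of `Q` on a combination of pairwise orthogonal vectors -/
theorem Q_sum_orth {V : Type*} [AddCommGroup V] [Module F V] (Q' : QuadraticForm F V) {d : ℕ}
    (w : Fin d → V) (horth : ∀ i j, i ≠ j → QuadraticMap.polar (⇑Q') (w i) (w j) = 0)
    (t : Fin d → F) : Q' (∑ i, t i • w i) = ∑ i, Q' (w i) * (t i * t i) := by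
  classical
  have key : ∀ s : Finset (Fin d), Q' (∑ i ∈ s, t i • w i) = ∑ i ∈ s, Q' (w i) * (t i * t i) := by
    intro s
    induction s using Finset.induction_on with
    | empty => simp
    | insert a s ha ih =>
      rw [Finset.sum_insert ha, Finset.sum_insert ha,
        QuadraticMap.map_add Q' (t a • w a) (∑ i ∈ s, t i • w i), ih,
        QuadraticMap.map_smul, smul_eq_mul]
      have h0 : QuadraticMap.polar (⇑Q') (t a • w a) (∑ i ∈ s, t i • w i) = 0 := by
        rw [← QuadraticMap.polarBilin_apply_apply, map_sum]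
        apply Finset.sum_eq_zero
        intro i hi
        rw [QuadraticMap.polarBilin_apply_apply, QuadraticMap.polar_smul_left,
          QuadraticMap.polar_smul_right, horth a i (fun h => ha (h ▸ hi))]
        simp
      rw [h0, add_zero]
      ring
  exact key Finset.univ

section finite

variable [Fintype F]

/-- in a finite field of odd order, if a product of non-zero elements is a square then the number
of square factors is congruent to the number of factors mod 2 -/
theorem even_card_filter_isSquare [DecidableEq F] (h2 : (2 : F) ≠ 0) {d : ℕ} (a : Fin d → F)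
    (ha : ∀ i, a i ≠ 0) (hsq : IsSquare (∏ i, a i)) (hd : Even d) :
    Even (Nat.card {i : Fin d // ∃ s : F, a i * (s * s) = 1}) := by
  classical
  have hchar : ringChar F ≠ 2 := by
    intro h
    apply h2
    have := CharP.cast_eq_zero F (ringChar F)
    rw [h] at this
    exact_mod_cast this
  have hprod0 : (∏ i, a i) ≠ 0 := Finset.prod_ne_zero_iff.2 (fun i _ => ha i)
  have h1 : quadraticChar F (∏ i, a i) = 1 := (quadraticChar_one_iff_isSquare hprod0).2 hsq
  rw [map_prod] at h1
  have h3 : ∀ i, quadraticChar F (a i) = if IsSquare (a i) then 1 else -1 := by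
    intro i
    split_ifs with h
    · exact (quadraticChar_one_iff_isSquare (ha i)).2 h
    · exact (quadraticChar_neg_one_iff_not_isSquare).2 h
  simp_rw [h3] at h1
  rw [Finset.prod_ite, Finset.prod_const_one, one_mul, Finset.prod_const] at h1
  have hne : (-1 : ℤ) ≠ 1 := by decide
  have h4 : Even (Finset.univ.filter (fun i => ¬ IsSquare (a i))).card :=
    (neg_one_pow_eq_one_iff_even hne).1 h1
  have h5 := Finset.card_filter_add_card_filter_not (s := (Finset.univ : Finset (Fin d)))
    (fun i => IsSquare (a i))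
  rw [Finset.card_univ, Fintype.card_fin] at h5
  have h6 : Even (Finset.univ.filter (fun i => IsSquare (a i))).card := by
    rcases hd with ⟨e, he⟩
    rcases h4 with ⟨e', he'⟩
    refine ⟨e - e', ?_⟩
    omega
  have h7 : Nat.card {i : Fin d // ∃ s : F, a i * (s * s) = 1} =
      (Finset.univ.filter (fun i => IsSquare (a i))).card := by
    rw [Nat.card_eq_fintype_card, Fintype.card_subtype]
    congr 1
    ext i
    simp only [Finset.mem_filter, Finset.mem_univ, true_and]
    constructor
    · rintro ⟨s, hs⟩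
      have hs0 : s ≠ 0 := by
        rintro rfl
        simp at hs
      refine ⟨s⁻¹, ?_⟩
      field_simp
      linear_combination hs
    · rintro ⟨b, hb⟩
      have hb0 : b ≠ 0 := by
        rintro rfl
        exact ha i (by rw [hb, mul_zero])
      refine ⟨b⁻¹, ?_⟩
      rw [hb]
      field_simp
  rw [h7]
  exact h6

/-- **involutions of `Ω`** -/
theorem involution_omega (hQ : (QuadraticMap.polarBilin Q).Nondegenerate) (h2 : (2 : F) ≠ 0)
    (hcard : 2 ≤ Fintype.card ι) (a : ↥(Cfsg.isometryGroup F ⇑Q)) (ha : a ∈ Cfsg.Omega F ⇑Q)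
    (ha2 : a ^ 2 = 1) :
    Even (finrank F (LinearMap.range (Matrix.toLin' (a : GL ι F).1 - 1))) ∧
      4 ∣ Nat.card {w : LinearMap.range (Matrix.toLin' (a : GL ι F).1 - 1) // Q w.1 = 1} := by
  classical
  set T := Matrix.toLin' (a : GL ι F).1 with hT
  have hTd : FData (1 : F) (QuadraticMap.polarBilin Q) T := fdata_of_mem Q hQ _ a.2
  have hT2 : T ^ 2 = 1 := by
    rw [hT, toLin'_gl_pow_eq_one_iff, ← subgroup_pow_eq_one_iff]
    exact ha2
  have h2F : ((2 : ℕ) : F) ≠ 0 := by exact_mod_cast h2
  set E := LinearMap.range (T - 1) with hE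
  have hndE := nd_range' hTd 2 hT2 h2F
  -- `T = -1` on `E`
  have hTE : ∀ e ∈ E, T e = -e := by
    rintro _ ⟨z, rfl⟩
    have h1 : T (T z) = z := by
      have := congrArg (fun f : Module.End F (ι → F) => f z) hT2
      simpa [pow_two] using this
    simp only [LinearMap.sub_apply, Module.End.one_apply, map_sub, h1]
    abel
  -- orthogonal basis of `E`
  set BE := LinearMap.BilinForm.restrict (QuadraticMap.polarBilin Q) E with hBE
  have hsymm : LinearMap.IsSymm BE := ⟨fun x y => by
    show QuadraticMap.polarBilin Q x.1 y.1 = QuadraticMap.polarBilin Q y.1 x.1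
    rw [QuadraticMap.polarBilin_apply_apply, QuadraticMap.polarBilin_apply_apply,
      QuadraticMap.polar_comm]⟩
  have : Invertible (2 : F) := invertibleOfNonzero h2
  obtain ⟨v, hv⟩ := LinearMap.BilinForm.exists_orthogonal_basis hsymm
  set w : Fin (finrank F E) → (ι → F) := fun i => (v i : ι → F) with hw
  have hsep : BE.SeparatingLeft := by
    intro x hx
    apply Subtype.ext
    apply hndE x.1 x.2
    intro y hy
    exact hx ⟨y, hy⟩
  have hBEapp : ∀ x y : E, BE x y = QuadraticMap.polar (⇑Q) x.1 y.1 := fun x y => rfl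
  have horth : ∀ i j, i ≠ j → QuadraticMap.polar (⇑Q) (w i) (w j) = 0 := by
    intro i j hij
    have := hv hij
    rw [Function.onFun, hBEapp] at this
    exact this
  have hQw : ∀ i, Q (w i) ≠ 0 := by
    intro i h0
    have := hv.not_isOrtho_basis_self_of_separatingLeft hsep i
    apply this
    show BE (v i) (v i) = 0
    rw [hBEapp]
    show QuadraticMap.polar (⇑Q) (w i) (w i) = 0
    rw [Cfsg.Agent.Lib.H4.polar_self, h0, mul_zero]
  set L := List.ofFn w with hL
  have hLmem : ∀ z ∈ L, ∃ i, w i = z := by
    intro z hz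
    rw [hL, List.mem_ofFn] at hz
    exact hz
  have hLpair : L.Pairwise (fun u z => QuadraticMap.polar (⇑Q) u z = 0) := by
    rw [hL, List.pairwise_ofFn]
    intro i j hij
    exact horth i j hij.ne
  have hQL : ∀ z ∈ L, Q z ≠ 0 := by
    intro z hz
    obtain ⟨i, rfl⟩ := hLmem z hz
    exact hQw i
  -- the matrix of `a` is the product of the reflections
  have hwE : ∀ i, w i ∈ E := fun i => (v i).2
  have hneg : ∀ e : E, reflProd Q L *ᵥ (e : ι → F) = -(e : ι → F) := by
    set φ : E →ₗ[F] (ι → F) := (Matrix.toLin' (reflProd Q L)).comp E.subtype + E.subtype with hφ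
    have hφ0 : φ = 0 := by
      apply v.ext
      intro i
      rw [hφ, LinearMap.add_apply, LinearMap.comp_apply, Submodule.subtype_apply,
        Matrix.toLin'_apply, LinearMap.zero_apply]
      have : reflProd Q L *ᵥ (w i) = -(w i) :=
        reflProd_neg Q L hLpair hQL (w i) (by rw [hL, List.mem_ofFn]; exact ⟨i, rfl⟩)
      show reflProd Q L *ᵥ (w i) + w i = 0
      rw [this, neg_add_cancel]
    intro e
    have := congrArg (fun f : E →ₗ[F] (ι → F) => f e) hφ0
    simp only [hφ, LinearMap.add_apply, LinearMap.comp_apply, Submodule.subtype_apply,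
      Matrix.toLin'_apply, LinearMap.zero_apply] at this
    exact eq_neg_of_add_eq_zero_left this
  have hmat : ((a : GL ι F) : Matrix ι ι F) = reflProd Q L := by
    apply Matrix.toLin'.injective
    apply LinearMap.ext
    intro x
    have hc := isCompl_ker_range (T := T) 2 hT2 h2F
    have hx : x ∈ LinearMap.ker (T - 1) ⊔ LinearMap.range (T - 1) := by
      rw [hc.sup_eq_top]; exact Submodule.mem_top
    obtain ⟨k, hk, e, he, rfl⟩ := Submodule.mem_sup.1 hx
    rw [map_add, map_add]
    congr 1
    · rw [Matrix.toLin'_apply (reflProd Q L), reflProd_fix]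
      · exact (mem_ker_sub_one k).1 hk
      · intro z hz
        obtain ⟨i, rfl⟩ := hLmem z hz
        obtain ⟨y, hy⟩ := hwE i
        rw [QuadraticMap.polar_comm, ← QuadraticMap.polarBilin_apply_apply, ← hy]
        exact fix_ortho_range' hTd ((mem_ker_sub_one k).1 hk) y
    · rw [Matrix.toLin'_apply (reflProd Q L), hneg ⟨e, he⟩]
      exact hTE e he
  have hcrit := Cfsg.Agent.Lib.H13.OmegaCrit.mem_Omega_iff_list Q h2 hcard hQ a L hQL hmat
  obtain ⟨heven, hsq⟩ := hcrit.1 ha
  rw [hL, List.length_ofFn] at heven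
  refine ⟨heven, ?_⟩
  rw [hL, List.map_ofFn, List.prod_ofFn] at hsq
  -- counting
  have hcount : Nat.card {e : E // Q e.1 = 1} = N (fun i => Q (w i)) 1 := by
    unfold N
    apply Nat.card_congr
    refine v.equivFun.toEquiv.subtypeEquiv ?_
    intro e
    have h1 : (e : ι → F) = ∑ i, v.equivFun e i • w i := by
      have := v.sum_equivFun e
      have h3 := congrArg (Submodule.subtype E) this
      rw [map_sum] at h3
      simp only [map_smul, Submodule.subtype_apply] at h3
      exact h3.symm
    have h4 := Q_sum_orth Q w horth (v.equivFun e)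
    rw [← h1] at h4
    show Q e.1 = 1 ↔ ∑ i, Q (w i) * (v.equivFun e i * v.equivFun e i) = 1
    rw [h4]
  rw [hcount]
  have hR := even_card_filter_isSquare h2 (fun i => Q (w i)) hQw hsq heven
  have hmod := N_mod_four' h2 (fun i => Q (w i)) 1 one_ne_zero
  have hR' : R (fun i => Q (w i)) (1 : F) = Nat.card {i : Fin (finrank F E) // ∃ s : F, Q (w i) * (s * s) = 1} :=
    rfl
  rw [← hR'] at hR
  rcases hR with ⟨e, he⟩
  omega

end finite

end Cfsg.Agent.Lib.H12.BC
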