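import Mathlib

/-!
# Polynomials whose roots are `r`-th roots of unity

`ev ζ j = ζ ^ j.val` for `j : ZMod r`, the polynomial `prodPoly ζ a = ∏ j, (X - C (ev ζ j)) ^ a j`,
its roots, and the factorisation of any monic divisor of `(X ^ r - 1) ^ N`.
-/

namespace Cfsg.Agent.Lib.H12.RootCnt

open Polynomial

variable {K : Type*} [Field K] {r : ℕ} [NeZero r]

/-- the `j`-th power of `ζ`, `j : ZMod r` -/
def ev (ζ : K) (j : ZMod r) : K := ζ ^ j.val

omit [NeZero r] in
theorem ev_natCast {ζ : K} (hζ : IsPrimitiveRoot ζ r) (n : ℕ) : ev ζ (n : ZMod r) = ζ ^ n := by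
  unfold ev
  rw [ZMod.val_natCast]
  conv_lhs => rw [hζ.eq_orderOf]
  exact pow_mod_orderOf ζ n

omit [NeZero r] in
theorem ev_zero (ζ : K) : ev ζ (0 : ZMod r) = 1 := by
  unfold ev
  rw [ZMod.val_zero, pow_zero]

theorem ev_add {ζ : K} (hζ : IsPrimitiveRoot ζ r) (j k : ZMod r) :
    ev ζ (j + k) = ev ζ j * ev ζ k := by
  have h1 : j + k = ((j.val + k.val : ℕ) : ZMod r) := by
    rw [Nat.cast_add, ZMod.natCast_zmod_val, ZMod.natCast_zmod_val]
  rw [h1, ev_natCast hζ, pow_add]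
  rfl

theorem ev_natCast_mul {ζ : K} (hζ : IsPrimitiveRoot ζ r) (c : ℕ) (j : ZMod r) :
    ev ζ ((c : ZMod r) * j) = (ev ζ j) ^ c := by
  have h1 : (c : ZMod r) * j = ((c * j.val : ℕ) : ZMod r) := by
    rw [Nat.cast_mul, ZMod.natCast_zmod_val]
  rw [h1, ev_natCast hζ, mul_comm, pow_mul]
  rfl

theorem ev_neg {ζ : K} (hζ : IsPrimitiveRoot ζ r) (j : ZMod r) : ev ζ (-j) = (ev ζ j)⁻¹ := by
  apply eq_inv_of_mul_eq_one_left
  rw [← ev_add hζ, neg_add_cancel, ev_zero]

omit [NeZero r] in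
theorem ev_pow {ζ : K} (hζ : IsPrimitiveRoot ζ r) (j : ZMod r) : (ev ζ j) ^ r = 1 := by
  unfold ev
  rw [← pow_mul, mul_comm, pow_mul, hζ.pow_eq_one, one_pow]

theorem ev_ne_zero {ζ : K} (hζ : IsPrimitiveRoot ζ r) (j : ZMod r) : ev ζ j ≠ 0 := by
  intro h
  have := ev_pow hζ j
  rw [h, zero_pow (NeZero.ne r)] at this
  exact zero_ne_one this

theorem ev_injective {ζ : K} (hζ : IsPrimitiveRoot ζ r) :
    Function.Injective (ev ζ : ZMod r → K) := by
  intro j k hjk
  have := hζ.pow_inj (ZMod.val_lt j) (ZMod.val_lt k) hjk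
  exact ZMod.val_injective r this

theorem exists_ev_eq {ζ : K} (hζ : IsPrimitiveRoot ζ r) {x : K} (hx : x ^ r = 1) :
    ∃ j : ZMod r, ev ζ j = x := by
  obtain ⟨i, -, hi⟩ := hζ.eq_pow_of_pow_eq_one hx
  exact ⟨(i : ZMod r), by rw [ev_natCast hζ, hi]⟩

/-- the monic polynomial with prescribed multiplicities at the `r`-th roots of unity -/
noncomputable def prodPoly (ζ : K) (a : ZMod r → ℕ) : K[X] :=
  ∏ j : ZMod r, (X - C (ev ζ j)) ^ a j

theorem prodPoly_monic (ζ : K) (a : ZMod r → ℕ) : (prodPoly ζ a).Monic :=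
  monic_prod_of_monic _ _ (fun _ _ => (monic_X_sub_C _).pow _)

theorem prodPoly_ne_zero (ζ : K) (a : ZMod r → ℕ) : prodPoly ζ a ≠ 0 :=
  (prodPoly_monic ζ a).ne_zero

theorem prodPoly_natDegree (ζ : K) (a : ZMod r → ℕ) : (prodPoly ζ a).natDegree = ∑ j, a j := by
  unfold prodPoly
  rw [natDegree_prod_of_monic _ _ (fun j _ => (monic_X_sub_C _).pow _)]
  apply Finset.sum_congr rfl
  intro j _
  rw [natDegree_pow, natDegree_X_sub_C, mul_one]

theorem roots_prodPoly (ζ : K) (a : ZMod r → ℕ) :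
    (prodPoly ζ a).roots = ∑ j : ZMod r, a j • ({ev ζ j} : Multiset K) := by
  unfold prodPoly
  rw [roots_prod _ _ (Finset.prod_ne_zero_iff.mpr
    (fun j _ => pow_ne_zero _ (X_sub_C_ne_zero _)))]
  rw [Finset.sum_eq_multiset_sum, Multiset.bind]
  congr 1
  apply Multiset.map_congr rfl
  intro j _
  rw [roots_pow, roots_X_sub_C]

theorem count_roots_prodPoly [DecidableEq K] {ζ : K} (hζ : IsPrimitiveRoot ζ r) (a : ZMod r → ℕ)
    (j : ZMod r) : (prodPoly ζ a).roots.count (ev ζ j) = a j := by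
  classical
  rw [roots_prodPoly, Multiset.count_sum']
  rw [Finset.sum_eq_single j]
  · rw [Multiset.count_nsmul, Multiset.count_singleton_self, mul_one]
  · intro k _ hk
    rw [Multiset.count_nsmul, Multiset.count_singleton, if_neg, mul_zero]
    intro h
    exact hk (ev_injective hζ h).symm
  · intro h
    exact absurd (Finset.mem_univ j) h

theorem prodPoly_injective {ζ : K} (hζ : IsPrimitiveRoot ζ r) :
    Function.Injective (prodPoly ζ : (ZMod r → ℕ) → K[X]) := by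
  classical
  intro a b hab
  funext j
  rw [← count_roots_prodPoly hζ a j, ← count_roots_prodPoly hζ b j, hab]

theorem prodPoly_dvd (ζ : K) (hζ : IsPrimitiveRoot ζ r) (a : ZMod r → ℕ) :
    prodPoly ζ a ∣ (X ^ r - 1) ^ (∑ j, a j) := by
  unfold prodPoly
  rw [← Finset.prod_pow_eq_pow_sum]
  apply Finset.prod_dvd_prod_of_dvd
  intro j _
  apply pow_dvd_pow_of_dvd
  rw [dvd_iff_isRoot]
  simp [ev_pow hζ j]

/-- any monic divisor of a power of `X ^ r - 1` is a `prodPoly` -/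
theorem eq_prodPoly_of_dvd [DecidableEq K] {ζ : K} (hζ : IsPrimitiveRoot ζ r) (R : K[X])
    (hm : R.Monic) (hs : R.Splits) (N : ℕ) (hd : R ∣ (X ^ r - 1) ^ N) :
    R = prodPoly ζ (fun j : ZMod r => R.roots.count (ev ζ j)) := by
  classical
  have h1 : R = (R.roots.map (X - C ·)).prod := hs.eq_prod_roots_of_monic hm
  conv_lhs => rw [h1]
  rw [Finset.prod_multiset_map_count]
  unfold prodPoly
  have hsub : R.roots.toFinset ⊆ Finset.univ.image (ev ζ : ZMod r → K) := by
    intro x hx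
    rw [Multiset.mem_toFinset, mem_roots hm.ne_zero] at hx
    have h2 : IsRoot ((X ^ r - 1 : K[X]) ^ N) x := by
      obtain ⟨S, hS⟩ := hd
      rw [hS]
      exact root_mul_right_of_isRoot _ hx
    have h3 : x ^ r = 1 := by
      have h4 : ((X ^ r - 1 : K[X]) ^ N).eval x = 0 := h2
      rw [eval_pow, eval_sub, eval_pow, eval_X, eval_one] at h4
      by_cases hN : N = 0
      · subst hN
        rw [pow_zero] at h4
        exact absurd h4 one_ne_zero
      · exact sub_eq_zero.mp (pow_eq_zero_iff hN |>.mp h4)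
    obtain ⟨j, hj⟩ := exists_ev_eq hζ h3
    exact Finset.mem_image.mpr ⟨j, Finset.mem_univ _, hj⟩
  rw [Finset.prod_subset hsub]
  · rw [Finset.prod_image (fun j _ k _ h => ev_injective hζ h)]
  · intro x _ hx
    rw [Multiset.mem_toFinset] at hx
    rw [Multiset.count_eq_zero_of_notMem hx, pow_zero]

end Cfsg.Agent.Lib.H12.RootCnt
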