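import Mathlib
import Cfsg.Agent.Lib.H12.RootCntD

/-!
# Frobenius descent for polynomials with roots of unity as roots
-/

namespace Cfsg.Agent.Lib.H12.RootCnt

open Polynomial

variable {F : Type*} [Field F] [Fintype F] {K : Type*} [Field K] [Algebra F K]

/-- the fixed points of `x ↦ x ^ |F|` in an extension `K` of `F` are the elements of `F` -/
theorem mem_range_of_pow_card_eq (x : K) (hx : x ^ Fintype.card F = x) :
    x ∈ Set.range (algebraMap F K) := by
  classical
  by_contra hnot
  have hQ : 1 < Fintype.card F := Fintype.one_lt_card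
  have hdeg : (X ^ Fintype.card F - X : K[X]).natDegree = Fintype.card F :=
    FiniteField.X_pow_card_sub_X_natDegree_eq K hQ
  have hne : (X ^ Fintype.card F - X : K[X]) ≠ 0 := by
    intro h
    rw [h, natDegree_zero] at hdeg
    omega
  set T : Finset K := insert x (Finset.univ.image (algebraMap F K)) with hT
  have hTcard : T.card = Fintype.card F + 1 := by
    rw [hT, Finset.card_insert_of_notMem, Finset.card_image_of_injective _
      (algebraMap F K).injective, Finset.card_univ]
    intro h
    obtain ⟨y, _, hy⟩ := Finset.mem_image.mp h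
    exact hnot ⟨y, hy⟩
  have hsub : T ⊆ (X ^ Fintype.card F - X : K[X]).roots.toFinset := by
    intro y hy
    rw [Multiset.mem_toFinset, mem_roots hne, IsRoot, eval_sub, eval_pow, eval_X, sub_eq_zero]
    rcases Finset.mem_insert.mp hy with h | h
    · rw [h]
      exact hx
    · obtain ⟨z, _, hz⟩ := Finset.mem_image.mp h
      rw [← hz, ← map_pow, FiniteField.pow_card]
  have h1 := Finset.card_le_card hsub
  have h2 := Multiset.toFinset_card_le (X ^ Fintype.card F - X : K[X]).roots
  have h3 := card_roots' (X ^ Fintype.card F - X : K[X])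
  omega

theorem map_frobenius_eq (φ : K →+* K) (hφ : ∀ x, φ x = x ^ Fintype.card F) (P : F[X]) :
    (P.map (algebraMap F K)).map φ = P.map (algebraMap F K) := by
  rw [Polynomial.map_map]
  congr 1
  ext x
  rw [RingHom.comp_apply, hφ, ← map_pow, FiniteField.pow_card]

variable {r : ℕ} [NeZero r]

/-- root multiplicities of a polynomial over `F` are Frobenius invariant -/
theorem count_roots_frobenius [DecidableEq K] {ζ : K} (hζ : IsPrimitiveRoot ζ r)
    (φ : K →+* K) (hφ : ∀ x, φ x = x ^ Fintype.card F) (P : F[X]) (j : ZMod r) :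
    (P.map (algebraMap F K)).roots.count (ev ζ ((Fintype.card F : ZMod r) * j)) =
      (P.map (algebraMap F K)).roots.count (ev ζ j) := by
  rw [count_roots, count_roots, ev_natCast_mul hζ, ← hφ]
  conv_lhs => rw [← map_frobenius_eq φ hφ P]
  exact (eq_rootMultiplicity_map φ.injective _).symm

omit [Field F] [Algebra F K] in
theorem map_prodPoly_of_invariant {ζ : K} (hζ : IsPrimitiveRoot ζ r)
    (φ : K →+* K) (hφ : ∀ x, φ x = x ^ Fintype.card F) (u : (ZMod r)ˣ)
    (hu : (u : ZMod r) = (Fintype.card F : ZMod r)) (a : ZMod r → ℕ)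
    (ha : ∀ j, a ((u : ZMod r) * j) = a j) :
    (prodPoly ζ a).map φ = prodPoly ζ a := by
  unfold prodPoly
  rw [Polynomial.map_prod]
  have h1 : ∀ j : ZMod r, ((X - C (ev ζ j)) ^ a j).map φ =
      (fun k : ZMod r => (X - C (ev ζ k)) ^ a k) (Units.mulLeft u j) := by
    intro j
    rw [Polynomial.map_pow, Polynomial.map_sub, Polynomial.map_X, Polynomial.map_C, hφ,
      ← ev_natCast_mul hζ]
    show _ = (X - C (ev ζ ((u : ZMod r) * j))) ^ a ((u : ZMod r) * j)
    rw [ha, hu]
  rw [Finset.prod_congr rfl (fun j _ => h1 j)]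
  exact Equiv.prod_comp (Units.mulLeft u) (fun k : ZMod r => (X - C (ev ζ k)) ^ a k)

/-- descent: a Frobenius invariant multiplicity function comes from a polynomial over `F` -/
theorem exists_lift_prodPoly {ζ : K} (hζ : IsPrimitiveRoot ζ r)
    (φ : K →+* K) (hφ : ∀ x, φ x = x ^ Fintype.card F) (u : (ZMod r)ˣ)
    (hu : (u : ZMod r) = (Fintype.card F : ZMod r)) (a : ZMod r → ℕ)
    (ha : ∀ j, a ((u : ZMod r) * j) = a j) :
    ∃ P : F[X], P.map (algebraMap F K) = prodPoly ζ a := by
  apply (mem_lifts _).mp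
  rw [lifts_iff_coeff_lifts]
  intro n
  apply mem_range_of_pow_card_eq
  rw [← hφ, ← coeff_map, map_prodPoly_of_invariant hζ φ hφ u hu a ha]

end Cfsg.Agent.Lib.H12.RootCnt
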