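import Mathlib
import Cfsg.Agent.Lib.H12.RootCntD

/-!
# The reverse of a polynomial with roots of unity as roots
-/

namespace Cfsg.Agent.Lib.H12.RootCnt

open Polynomial

variable {K : Type*} [Field K] {r : ℕ} [NeZero r]

/-- `reverse` as a monoid homomorphism over a domain -/
noncomputable def revHom (K : Type*) [Field K] : K[X] →* K[X] where
  toFun := reverse
  map_one' := by
    have := reverse_C (1 : K)
    rwa [C_1] at this
  map_mul' := reverse_mul_of_domain

omit [NeZero r] in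
theorem revHom_apply (P : K[X]) : revHom K P = P.reverse := rfl

omit [NeZero r] in
theorem reverse_X_sub_C' {c : K} (hc : c ≠ 0) :
    (X - C c : K[X]).reverse = C (-c) * (X - C c⁻¹) := by
  have h1 : (X - C c : K[X]) = X + C (-c) := by rw [C_neg, sub_eq_add_neg]
  rw [h1, reverse_add_C, natDegree_X, pow_one]
  have h2 : (X : K[X]).reverse = 1 := by
    have := reverse_mul_X (1 : K[X])
    rw [one_mul] at this
    rw [this]
    have := reverse_C (1 : K)
    rwa [C_1] at this
  rw [h2, mul_sub, ← C_mul, neg_mul, mul_inv_cancel₀ hc, C_neg, C_neg, C_1]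
  ring

theorem reverse_prodPoly {ζ : K} (hζ : IsPrimitiveRoot ζ r) (a : ZMod r → ℕ) :
    (prodPoly ζ a).reverse =
      C (∏ j : ZMod r, (-(ev ζ j)) ^ a j) * prodPoly ζ (fun j => a (-j)) := by
  rw [← revHom_apply]
  unfold prodPoly
  rw [map_prod]
  have h1 : ∀ j : ZMod r, revHom K ((X - C (ev ζ j)) ^ a j) =
      C ((-(ev ζ j)) ^ a j) * (X - C (ev ζ (-j))) ^ a j := by
    intro j
    rw [map_pow, revHom_apply, reverse_X_sub_C' (ev_ne_zero hζ j), mul_pow, ← C_pow, ev_neg hζ]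
  rw [Finset.prod_congr rfl (fun j _ => h1 j), Finset.prod_mul_distrib, map_prod]
  congr 1
  have h2 : ∀ j : ZMod r, (X - C (ev ζ (-j))) ^ a j =
      (fun k : ZMod r => (X - C (ev ζ k)) ^ a (-k)) (Equiv.neg (ZMod r) j) := by
    intro j
    show _ = (X - C (ev ζ (-j))) ^ a (- -j)
    rw [neg_neg]
  rw [Finset.prod_congr rfl (fun j _ => h2 j)]
  exact Equiv.prod_comp (Equiv.neg (ZMod r)) (fun k : ZMod r => (X - C (ev ζ k)) ^ a (-k))

/-- the constant in `reverse_prodPoly` is `1` for a symmetric function of even total mass -/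
theorem prod_neg_ev_eq_one {ζ : K} (hζ : IsPrimitiveRoot ζ r) (hr : Odd r) (a : ZMod r → ℕ)
    (ha : ∀ j, a (-j) = a j) (hev : Even (∑ j, a j)) :
    ∏ j : ZMod r, (-(ev ζ j)) ^ a j = 1 := by
  have h1 : ∀ j : ZMod r, (-(ev ζ j)) ^ a j = (-1) ^ a j * (ev ζ j) ^ a j := by
    intro j
    rw [← mul_pow, neg_one_mul]
  rw [Finset.prod_congr rfl (fun j _ => h1 j), Finset.prod_mul_distrib, Finset.prod_pow_eq_pow_sum,
    hev.neg_one_pow, one_mul]
  set w : K := ∏ j : ZMod r, (ev ζ j) ^ a j with hw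
  have hw1 : w ^ r = 1 := by
    rw [hw, ← Finset.prod_pow]
    apply Finset.prod_eq_one
    intro j _
    rw [← pow_mul, mul_comm, pow_mul, ev_pow hζ, one_pow]
  have hw0 : w ≠ 0 := by
    rw [hw]
    apply Finset.prod_ne_zero_iff.mpr
    intro j _
    exact pow_ne_zero _ (ev_ne_zero hζ j)
  have h2 : w = w⁻¹ := by
    have h3 : ∀ j : ZMod r, ((ev ζ j) ^ a j)⁻¹ =
        (fun k : ZMod r => (ev ζ k) ^ a k) (Equiv.neg (ZMod r) j) := by
      intro j
      show _ = (ev ζ (-j)) ^ a (-j)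
      rw [ha, ev_neg hζ, inv_pow]
    have h4 : w⁻¹ = ∏ j : ZMod r, ((ev ζ j) ^ a j)⁻¹ := by
      rw [hw, Finset.prod_inv_distrib]
    rw [h4, Finset.prod_congr rfl (fun j _ => h3 j)]
    exact (Equiv.prod_comp (Equiv.neg (ZMod r)) (fun k : ZMod r => (ev ζ k) ^ a k)).symm
  have hw2 : w * w = 1 := by
    nth_rewrite 1 [h2]
    exact inv_mul_cancel₀ hw0
  have hw3 : w ^ 2 = 1 := by rw [pow_two, hw2]
  have := pow_gcd_eq_one.mpr ⟨hw1, hw3⟩
  rwa [Nat.coprime_two_right.mpr hr, pow_one] at this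

omit [NeZero r] in
theorem reverse_map_of_injective {F : Type*} [Field F] (f : F →+* K) (P : F[X]) :
    (P.map f).reverse = P.reverse.map f := by
  unfold reverse
  rw [natDegree_map_eq_of_injective f.injective, reflect_map]

end Cfsg.Agent.Lib.H12.RootCnt
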