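import Mathlib
import Cfsg.Agent.Lib.H12.RootCntE
import Cfsg.Agent.Lib.H12.RootCntF

/-!
# Monic palindromic divisors of `(X ^ r - 1) ^ N` over a finite field

They correspond to multiplicity functions on `ZMod r` invariant under multiplication by `|F|`
and under negation.
-/

namespace Cfsg.Agent.Lib.H12.RootCnt

open Polynomial

variable {F : Type*} [Field F] [Fintype F] {K : Type*} [Field K] [Algebra F K] [IsAlgClosed K]
variable {r : ℕ} [NeZero r]

omit [Fintype F] [IsAlgClosed K] [NeZero r] in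
theorem map_X_pow_sub_one_pow (N : ℕ) :
    ((X ^ r - 1 : F[X]) ^ N).map (algebraMap F K) = (X ^ r - 1 : K[X]) ^ N := by
  rw [Polynomial.map_pow, Polynomial.map_sub, Polynomial.map_pow, Polynomial.map_X,
    Polynomial.map_one]

/-- the multiplicity function of a divisor of `(X ^ r - 1) ^ N` -/
theorem map_eq_prodPoly [DecidableEq K] {ζ : K} (hζ : IsPrimitiveRoot ζ r) (P : F[X])
    (hm : P.Monic) (N : ℕ) (hd : P ∣ (X ^ r - 1) ^ N) :
    P.map (algebraMap F K) =
      prodPoly ζ (fun j : ZMod r => (P.map (algebraMap F K)).roots.count (ev ζ j)) := by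
  apply eq_prodPoly_of_dvd hζ _ (hm.map _) (IsAlgClosed.splits _) N
  rw [← map_X_pow_sub_one_pow (F := F) (K := K)]
  exact Polynomial.map_dvd _ hd

theorem sum_count_eq [DecidableEq K] {ζ : K} (hζ : IsPrimitiveRoot ζ r) (P : F[X])
    (hm : P.Monic) (N : ℕ) (hd : P ∣ (X ^ r - 1) ^ N) :
    ∑ j : ZMod r, (P.map (algebraMap F K)).roots.count (ev ζ j) = P.natDegree := by
  rw [← prodPoly_natDegree ζ, ← map_eq_prodPoly hζ P hm N hd, natDegree_map]

theorem count_neg_eq [DecidableEq K] {ζ : K} (hζ : IsPrimitiveRoot ζ r) (P : F[X])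
    (hm : P.Monic) (N : ℕ) (hd : P ∣ (X ^ r - 1) ^ N) (hrev : P.reverse = P) (j : ZMod r) :
    (P.map (algebraMap F K)).roots.count (ev ζ (-j)) =
      (P.map (algebraMap F K)).roots.count (ev ζ j) := by
  have h1 := map_eq_prodPoly hζ P hm N hd
  set a : ZMod r → ℕ := fun j => (P.map (algebraMap F K)).roots.count (ev ζ j) with ha
  have h2 : (P.map (algebraMap F K)).reverse = P.map (algebraMap F K) := by
    rw [reverse_map_of_injective, hrev]
  have h3 := reverse_prodPoly hζ a
  rw [← h1, h2] at h3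
  have hc : (∏ j : ZMod r, (-(ev ζ j)) ^ a j) ≠ 0 := by
    intro h0
    rw [h0, C_0, zero_mul] at h3
    exact (hm.map (algebraMap F K)).ne_zero h3
  have h4 : (P.map (algebraMap F K)).roots.count (ev ζ j) = a (-j) := by
    conv_lhs => rw [h3]
    rw [roots_C_mul _ hc, count_roots_prodPoly hζ]
  show a (-j) = a j
  rw [← h4]

omit [Fintype F] [IsAlgClosed K] in
theorem reverse_eq_of_symm {ζ : K} (hζ : IsPrimitiveRoot ζ r) (hr : Odd r) (P : F[X])
    (a : ZMod r → ℕ) (hP : P.map (algebraMap F K) = prodPoly ζ a) (ha : ∀ j, a (-j) = a j)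
    (hev : Even (∑ j, a j)) : P.reverse = P := by
  apply Polynomial.map_injective _ (algebraMap F K).injective
  rw [← reverse_map_of_injective, hP, reverse_prodPoly hζ, prod_neg_ev_eq_one hζ hr a ha hev, C_1,
    one_mul]
  congr 1
  funext j
  exact ha j

theorem card_palindromic_dvd {ζ : K} (hζ : IsPrimitiveRoot ζ r) (hr : Odd r)
    (φ : K →+* K) (hφ : ∀ x, φ x = x ^ Fintype.card F) (u : (ZMod r)ˣ)
    (hu : (u : ZMod r) = (Fintype.card F : ZMod r)) (N : ℕ) (hN : Even N) :
    Nat.card {P : F[X] // P.Monic ∧ P.natDegree = N ∧ P.reverse = P ∧ P ∣ (X ^ r - 1) ^ N} =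
      Nat.card {a : ZMod r → ℕ // ∑ j, a j = N ∧
        (∀ j, a ((u : ZMod r) * j) = a j) ∧ ∀ j, a (-j) = a j} := by
  classical
  have hex : ∀ a : {a : ZMod r → ℕ // ∑ j, a j = N ∧
        (∀ j, a ((u : ZMod r) * j) = a j) ∧ ∀ j, a (-j) = a j},
      ∃ P : F[X], P.map (algebraMap F K) = prodPoly ζ a.1 :=
    fun a => exists_lift_prodPoly hζ φ hφ u hu a.1 a.2.2.1
  choose Pa hPa using hex
  apply Nat.card_congr
  exact
    { toFun := fun P => ⟨fun j => (P.1.map (algebraMap F K)).roots.count (ev ζ j), by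
        refine ⟨?_, ?_, ?_⟩
        · rw [sum_count_eq hζ P.1 P.2.1 N P.2.2.2.2, P.2.2.1]
        · intro j
          rw [hu]
          exact count_roots_frobenius hζ φ hφ P.1 j
        · intro j
          exact count_neg_eq hζ P.1 P.2.1 N P.2.2.2.2 P.2.2.2.1 j⟩
      invFun := fun a => ⟨Pa a, by
        have hmap := hPa a
        have hmon : (Pa a).Monic := by
          apply monic_of_injective (algebraMap F K).injective
          rw [hmap]
          exact prodPoly_monic ζ a.1
        have hdeg : (Pa a).natDegree = N := by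
          rw [← natDegree_map (algebraMap F K), hmap, prodPoly_natDegree, a.2.1]
        refine ⟨hmon, hdeg, ?_, ?_⟩
        · exact reverse_eq_of_symm hζ hr (Pa a) a.1 hmap a.2.2.2 (by rw [a.2.1]; exact hN)
        · rw [← map_dvd_map' (algebraMap F K), map_X_pow_sub_one_pow, hmap]
          have := prodPoly_dvd ζ hζ a.1
          rwa [a.2.1] at this⟩
      left_inv := fun P => by
        apply Subtype.ext
        apply Polynomial.map_injective _ (algebraMap F K).injective
        rw [hPa]
        exact (map_eq_prodPoly hζ P.1 P.2.1 N P.2.2.2.2).symm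
      right_inv := fun a => by
        apply Subtype.ext
        funext j
        show ((Pa a).map (algebraMap F K)).roots.count (ev ζ j) = a.1 j
        rw [hPa, count_roots_prodPoly hζ] }

end Cfsg.Agent.Lib.H12.RootCnt
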