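import Cfsg.Agent.Lib.H12.SemiC

/-!
# Existence of an element of order prime to `p` with a prescribed characteristic polynomial (helper12)
-/

set_option autoImplicit false
open Polynomial

namespace Cfsg.Agent.Lib.H12.Semi

universe u
variable {F : Type u} [Field F]

/-- the "companion" matrix of a monic polynomial: multiplication by the root on `F[X]/(P)`. -/
lemma exists_matrix_charpoly_eq (P : F[X]) (hP : P.Monic) :
    ∃ M : Matrix (Fin P.natDegree) (Fin P.natDegree) F, M.charpoly = P := by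
  have h0 : P ≠ 0 := hP.ne_zero
  refine ⟨Algebra.leftMulMatrix (AdjoinRoot.powerBasis' hP).basis (AdjoinRoot.powerBasis' hP).gen, ?_⟩
  have h1 := charpoly_leftMulMatrix (AdjoinRoot.powerBasis' hP)
  refine Eq.trans h1 ?_
  rw [AdjoinRoot.powerBasis'_gen, AdjoinRoot.minpoly_root h0, hP.leadingCoeff, inv_one,
    map_one, mul_one]

lemma charpoly_pow_card_pow [Fintype F] {m : Type*} [Fintype m] [DecidableEq m]
    (M : Matrix m m F) (a : ℕ) : (M ^ (Fintype.card F ^ a)).charpoly = M.charpoly := by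
  induction a with
  | zero => simp
  | succ a ih => rw [pow_succ, pow_mul, FiniteField.Matrix.charpoly_pow_card, ih]

theorem exists_GL_charpoly_eq [Fintype F] (p : ℕ) [Fact p.Prime] [CharP F p] (n : ℕ) (P : F[X])
    (hP : P.Monic) (hn : P.natDegree = n) (h0 : P.coeff 0 ≠ 0) :
    ∃ g : Matrix.GeneralLinearGroup (Fin n) F, (orderOf g).Coprime p ∧
      (g : Matrix (Fin n) (Fin n) F).charpoly = P := by
  subst hn
  obtain ⟨M, hM⟩ := exists_matrix_charpoly_eq P hP
  have hdet : M.det ≠ 0 := by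
    rw [Matrix.det_eq_sign_charpoly_coeff, hM]
    exact mul_ne_zero (pow_ne_zero _ (by norm_num)) h0
  set g0 : Matrix.GeneralLinearGroup (Fin P.natDegree) F :=
    Matrix.GeneralLinearGroup.mkOfDetNeZero M hdet with hg0
  have hg0v : (g0 : Matrix _ _ F) = M := rfl
  have hp : p.Prime := Fact.out
  have hN : orderOf g0 ≠ 0 := (orderOf_pos g0).ne'
  obtain ⟨a, m, hm, hNm⟩ := Nat.exists_eq_pow_mul_and_not_dvd hN p hp.ne_one
  have hpq : p ∣ Fintype.card F := by
    obtain ⟨k, -, hk⟩ := FiniteField.card F p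
    rw [hk]
    exact dvd_pow_self p k.ne_zero
  refine ⟨g0 ^ (Fintype.card F ^ a), ?_, ?_⟩
  · have h1 : (g0 ^ (Fintype.card F ^ a)) ^ m = 1 := by
      rw [← pow_mul]
      apply orderOf_dvd_iff_pow_eq_one.mp
      rw [hNm]
      exact Nat.mul_dvd_mul (pow_dvd_pow_of_dvd hpq a) dvd_rfl
    have h2 : orderOf (g0 ^ (Fintype.card F ^ a)) ∣ m := orderOf_dvd_of_pow_eq_one h1
    have h3 : Nat.Coprime m p := ((Nat.Prime.coprime_iff_not_dvd hp).mpr hm).symm
    exact Nat.Coprime.coprime_dvd_left h2 h3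
  · rw [Units.val_pow_eq_pow_val, charpoly_pow_card_pow, hg0v, hM]

end Cfsg.Agent.Lib.H12.Semi
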