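import Mathlib
import Cfsg.Agent.Lib.H12.SpCountA
import Cfsg.Agent.Lib.H12.SpCountB
import Cfsg.Agent.Lib.H12.SemiD
import Cfsg.Agent.Lib.H13.SympBasis

/-!
# The conjugation invariant `charpoly (g + g⁻¹)` on `Sp_{2n}(F)`; transport of isometries to
symplectic matrices; passing to the `p'`-part (helper12)
-/

set_option autoImplicit false
set_option linter.unusedSectionVars false
open Polynomial

namespace Cfsg.Agent.Lib.H12.SpCount

open Cfsg.Agent.Lib.H12.Semi

universe u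
variable {F : Type u} [Field F]

/-- the conjugation invariant `charpoly (g + g⁻¹)` -/
noncomputable def traceInv (n : ℕ) (g : ↥(Matrix.symplecticGroup (Fin n) F)) : F[X] :=
  (g.1 + (g⁻¹ : ↥(Matrix.symplecticGroup (Fin n) F)).1).charpoly

theorem coe_mul_inv (n : ℕ) (c : ↥(Matrix.symplecticGroup (Fin n) F)) :
    c.1 * (c⁻¹ : ↥(Matrix.symplecticGroup (Fin n) F)).1 = 1 := by
  have : (c * c⁻¹ : ↥(Matrix.symplecticGroup (Fin n) F)).1 = 1 := by
    rw [mul_inv_cancel]; rfl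
  exact this

theorem coe_inv_mul (n : ℕ) (c : ↥(Matrix.symplecticGroup (Fin n) F)) :
    (c⁻¹ : ↥(Matrix.symplecticGroup (Fin n) F)).1 * c.1 = 1 := by
  have : (c⁻¹ * c : ↥(Matrix.symplecticGroup (Fin n) F)).1 = 1 := by
    rw [inv_mul_cancel]; rfl
  exact this

theorem traceInv_conj (n : ℕ) (g c : ↥(Matrix.symplecticGroup (Fin n) F)) :
    traceInv n (c * g * c⁻¹) = traceInv n g := by
  unfold traceInv
  have h1 : (c * g * c⁻¹)⁻¹ = c * g⁻¹ * c⁻¹ := by group
  rw [h1]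
  have h2 : (c * g * c⁻¹).1 + (c * g⁻¹ * c⁻¹).1 =
      c.1 * ((g.1 + (g⁻¹ : ↥(Matrix.symplecticGroup (Fin n) F)).1) *
        (c⁻¹ : ↥(Matrix.symplecticGroup (Fin n) F)).1) := by
    change c.1 * g.1 * (c⁻¹ : ↥(Matrix.symplecticGroup (Fin n) F)).1 +
      c.1 * (g⁻¹ : ↥(Matrix.symplecticGroup (Fin n) F)).1 *
        (c⁻¹ : ↥(Matrix.symplecticGroup (Fin n) F)).1 = _
    rw [Matrix.add_mul, Matrix.mul_add, Matrix.mul_assoc, Matrix.mul_assoc]
  rw [h2, Matrix.charpoly_mul_comm, Matrix.mul_assoc, coe_inv_mul, Matrix.mul_one]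

theorem traceInv_eq_of_isConj (n : ℕ) {g h : ↥(Matrix.symplecticGroup (Fin n) F)}
    (hc : IsConj g h) : traceInv n g = traceInv n h := by
  obtain ⟨c, rfl⟩ := isConj_iff.mp hc
  rw [traceInv_conj]

/-- transport of an isometry of a non-degenerate alternating space to a symplectic matrix -/
theorem exists_Sp_of_isometry {V : Type u} [AddCommGroup V] [Module F V] [FiniteDimensional F V]
    {n : ℕ} (hV : Module.finrank F V = 2 * n) (B : LinearMap.BilinForm F V)
    (halt : ∀ v, B v v = 0) (hnd : ∀ v, (∀ w, B v w = 0) → v = 0) (g g' : Module.End F V)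
    (h1 : g * g' = 1) (hiso : ∀ x y, B (g x) (g y) = B x y) :
    ∃ A : ↥(Matrix.symplecticGroup (Fin n) F), traceInv n A = (g + g').charpoly := by
  classical
  obtain ⟨b, hb⟩ := Cfsg.Agent.Lib.H13.exists_symp_basis B halt hnd hV
  have hform := Cfsg.Agent.Lib.H13.sympForm_of_isSymp B halt b hb
  set b' := b.reindex (Equiv.sumComm (Fin n) (Fin n)) with hb'
  set A0 := LinearMap.toMatrix b' b' g with hA0
  set A0' := LinearMap.toMatrix b' b' g' with hA0'
  have hmem : A0 ∈ Matrix.symplecticGroup (Fin n) F := by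
    rw [Cfsg.Agent.Lib.H4.mem_symplecticGroup_iff_sympForm]
    intro u w
    obtain ⟨v, rfl⟩ := b'.equivFun.surjective u
    obtain ⟨v', rfl⟩ := b'.equivFun.surjective w
    have e1 : ∀ z : V, Matrix.mulVec A0 (b'.equivFun z) = b'.equivFun (g z) := by
      intro z
      exact LinearMap.toMatrix_mulVec_repr b' b' g z
    rw [e1, e1, ← hform, ← hform, hiso]
  have h12 : A0 * A0' = 1 := by
    rw [hA0, hA0', ← LinearMap.toMatrix_mul, h1, LinearMap.toMatrix_one]
  refine ⟨⟨A0, hmem⟩, ?_⟩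
  unfold traceInv
  have h3 : ((⟨A0, hmem⟩ : ↥(Matrix.symplecticGroup (Fin n) F))⁻¹).1 = A0' := by
    have h4 := coe_inv_mul n ⟨A0, hmem⟩
    calc ((⟨A0, hmem⟩ : ↥(Matrix.symplecticGroup (Fin n) F))⁻¹).1
        = ((⟨A0, hmem⟩ : ↥(Matrix.symplecticGroup (Fin n) F))⁻¹).1 * (A0 * A0') := by
          rw [h12, Matrix.mul_one]
      _ = A0' := by rw [← Matrix.mul_assoc, h4, Matrix.one_mul]
  rw [h3]
  change (A0 + A0').charpoly = _
  rw [hA0, hA0', ← map_add, LinearMap.charpoly_toMatrix]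

/-- passing to the `p'`-part keeps the invariant -/
theorem exists_coprime_of_Sp [Fintype F] (p : ℕ) [Fact p.Prime] [CharP F p] (n : ℕ) (hn : 1 ≤ n)
    (A : ↥(Matrix.symplecticGroup (Fin n) F)) :
    ∃ S : ↥(Matrix.symplecticGroup (Fin n) F), (orderOf S).Coprime p ∧
      traceInv n S = traceInv n A := by
  classical
  have hp : p.Prime := Fact.out
  have hN : orderOf A ≠ 0 := (orderOf_pos A).ne'
  obtain ⟨a, m, hm, hNm⟩ := Nat.exists_eq_pow_mul_and_not_dvd hN p hp.ne_one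
  obtain ⟨k, -, hk⟩ := FiniteField.card F p
  have hpq : p ∣ Fintype.card F := by
    rw [hk]
    exact dvd_pow_self p k.ne_zero
  refine ⟨A ^ (Fintype.card F ^ a), ?_, ?_⟩
  · have h1 : (A ^ (Fintype.card F ^ a)) ^ m = 1 := by
      rw [← pow_mul]
      apply orderOf_dvd_iff_pow_eq_one.mp
      rw [hNm]
      exact Nat.mul_dvd_mul (pow_dvd_pow_of_dvd hpq a) dvd_rfl
    have h2 : orderOf (A ^ (Fintype.card F ^ a)) ∣ m := orderOf_dvd_of_pow_eq_one h1
    have h3 : Nat.Coprime m p := ((Nat.Prime.coprime_iff_not_dvd hp).mpr hm).symm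
    exact Nat.Coprime.coprime_dvd_left h2 h3
  · unfold traceInv
    have : Nonempty (Fin n ⊕ Fin n) := ⟨Sum.inl ⟨0, hn⟩⟩
    rw [← inv_pow]
    have e1 : (A ^ (Fintype.card F ^ a)).1 = A.1 ^ (Fintype.card F ^ a) :=
      SubmonoidClass.coe_pow A _
    have e2 : ((A⁻¹) ^ (Fintype.card F ^ a)).1 =
        (A⁻¹ : ↥(Matrix.symplecticGroup (Fin n) F)).1 ^ (Fintype.card F ^ a) :=
      SubmonoidClass.coe_pow A⁻¹ _
    rw [e1, e2]
    have hcomm : Commute A.1 (A⁻¹ : ↥(Matrix.symplecticGroup (Fin n) F)).1 := by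
      unfold Commute SemiconjBy
      rw [coe_mul_inv, coe_inv_mul]
    have e3 : A.1 ^ (Fintype.card F ^ a) +
        (A⁻¹ : ↥(Matrix.symplecticGroup (Fin n) F)).1 ^ (Fintype.card F ^ a) =
        (A.1 + (A⁻¹ : ↥(Matrix.symplecticGroup (Fin n) F)).1) ^ (Fintype.card F ^ a) := by
      rw [hk, ← pow_mul]
      exact (add_pow_char_pow_of_commute p _ hcomm).symm
    rw [e3, charpoly_pow_card_pow]

end Cfsg.Agent.Lib.H12.SpCount
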