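import Mathlib
import Cfsg.Agent.Lib.H12.SpCountC
import Cfsg.Agent.Lib.H12.SpSemiJ
import Cfsg.Agent.Lib.H12.SemiF

/-!
# The number of classes of elements of order prime to `p` in `Sp_{2n}(q)` is `q^n` (helper12)
-/

set_option autoImplicit false
set_option linter.unusedSectionVars false
open Polynomial

namespace Cfsg.Agent.Lib.H12.SpCount

open Cfsg.Agent.Lib.H12.Semi Cfsg.Agent.Lib.H12.SpSemi

universe u
variable {F : Type u} [Field F]

theorem coeff_eq_of_reverse_eq {P : F[X]} {N : ℕ} (hd : P.natDegree = N) (hr : P.reverse = P)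
    (k : ℕ) (hk : k ≤ N) : P.coeff k = P.coeff (N - k) := by
  conv_lhs => rw [← hr]
  rw [coeff_reverse, hd, revAt_le hk]

theorem eq_of_palindromic {n : ℕ} {P Q : F[X]} (hP : P.Monic) (hQ : Q.Monic)
    (hdP : P.natDegree = 2 * n) (hdQ : Q.natDegree = 2 * n) (hrP : P.reverse = P)
    (hrQ : Q.reverse = Q) (h : ∀ i : Fin n, P.coeff ((i : ℕ) + 1) = Q.coeff ((i : ℕ) + 1)) :
    P = Q := by
  have hlow : ∀ k, k ≤ n → P.coeff k = Q.coeff k := by
    intro k hk
    rcases Nat.eq_zero_or_pos k with h0 | h0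
    · subst h0
      rw [coeff_eq_of_reverse_eq hdP hrP 0 (Nat.zero_le _),
        coeff_eq_of_reverse_eq hdQ hrQ 0 (Nat.zero_le _), Nat.sub_zero]
      have h1 : P.coeff (2 * n) = 1 := by rw [← hdP]; exact hP.coeff_natDegree
      have h2 : Q.coeff (2 * n) = 1 := by rw [← hdQ]; exact hQ.coeff_natDegree
      rw [h1, h2]
    · have := h ⟨k - 1, by omega⟩
      have e : (k - 1) + 1 = k := by omega
      simp only [e] at this
      exact this
  ext k
  rcases Nat.lt_or_ge (2 * n) k with h1 | h1
  · rw [coeff_eq_zero_of_natDegree_lt (by omega), coeff_eq_zero_of_natDegree_lt (by omega)]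
  · rcases Nat.lt_or_ge n k with h2 | h2
    · rw [coeff_eq_of_reverse_eq hdP hrP k h1, coeff_eq_of_reverse_eq hdQ hrQ k h1]
      exact hlow _ (by omega)
    · exact hlow k h2

theorem sq_injective_of_monic {P Q : F[X]} (hP : P.Monic) (hQ : Q.Monic) (h : P ^ 2 = Q ^ 2) :
    P = Q := by
  have h1 : (P - Q) * (P + Q) = 0 := by ring_nf; rw [h]; ring
  rcases mul_eq_zero.mp h1 with h2 | h2
  · exact sub_eq_zero.mp h2
  · have h3 : Q = -P := by rw [eq_neg_iff_add_eq_zero, add_comm]; exact h2
    have h4 : (-1 : F) = 1 := by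
      have := hQ
      rw [h3, Monic, leadingCoeff_neg, hP.leadingCoeff] at this
      exact this
    rw [h3]
    have : -P = C (-1 : F) * P := by rw [map_neg, map_one, neg_one_mul]
    rw [this, h4, map_one, one_mul]

/-- realization of `R ^ 2` as the invariant of an element of order prime to `p` -/
theorem exists_Sp_traceInv [Fintype F] (p : ℕ) [Fact p.Prime] [CharP F p] (n : ℕ) (hn : 1 ≤ n)
    (R : F[X]) (hR : R.Monic) (hd : R.natDegree = n) :
    ∃ S : ↥(Matrix.symplecticGroup (Fin n) F), (orderOf S).Coprime p ∧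
      traceInv n S = R ^ 2 := by
  have hfin : Module.Finite F (AdjoinRoot R) := hR.finite_adjoinRoot
  have hV : Module.finrank F (AdjoinRoot R × AdjoinRoot R) = 2 * n := by
    rw [Module.finrank_prod, finrank_adjoinRoot hR, hd, two_mul]
  obtain ⟨A, hA⟩ := exists_Sp_of_isometry hV (hypForm (tau0 hR)) (hypForm_alt _)
    (hypForm_nd _ (exists_tau0_ne hR)) (gEnd F (AdjoinRoot.root R)) (gInv F (AdjoinRoot.root R))
    (gEnd_mul_gInv _) (hypForm_iso _ _)
  obtain ⟨S, hS1, hS2⟩ := exists_coprime_of_Sp p n hn A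
  exact ⟨S, hS1, by rw [hS2, hA, charpoly_gEnd_add_gInv hR]⟩

theorem card_semisimple_classes_Sp [Fintype F] (p : ℕ) [Fact p.Prime] [CharP F p] (n : ℕ) :
    Nat.card {c : ConjClasses ↥(Matrix.symplecticGroup (Fin n) F) //
      ∃ g : ↥(Matrix.symplecticGroup (Fin n) F), ConjClasses.mk g = c ∧ (orderOf g).Coprime p} =
      Fintype.card F ^ n := by
  classical
  have hcard : Nat.card (Fin n → F) = Fintype.card F ^ n := by
    rw [Nat.card_eq_fintype_card, Fintype.card_fun, Fintype.card_fin]
  apply le_antisymm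
  · -- upper bound
    rw [← hcard]
    have hch : ∀ c : {c : ConjClasses ↥(Matrix.symplecticGroup (Fin n) F) //
        ∃ g : ↥(Matrix.symplecticGroup (Fin n) F), ConjClasses.mk g = c ∧
          (orderOf g).Coprime p}, ∃ g : ↥(Matrix.symplecticGroup (Fin n) F),
          ConjClasses.mk g = c.1 ∧ (orderOf g).Coprime p := fun c => c.2
    choose G hG1 hG2 using hch
    apply Nat.card_le_card_of_injective
      (fun c => fun i : Fin n => ((G c).1.charpoly).coeff ((i : ℕ) + 1))
    intro c d hcd
    have hcoef : ∀ i : Fin n, ((G c).1.charpoly).coeff ((i : ℕ) + 1) =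
        ((G d).1.charpoly).coeff ((i : ℕ) + 1) := fun i => congrFun hcd i
    have hdeg : ∀ g : ↥(Matrix.symplecticGroup (Fin n) F), g.1.charpoly.natDegree = 2 * n := by
      intro g
      rw [Matrix.charpoly_natDegree_eq_dim, Fintype.card_sum, Fintype.card_fin, two_mul]
    have heq : (G c).1.charpoly = (G d).1.charpoly :=
      eq_of_palindromic (Matrix.charpoly_monic _) (Matrix.charpoly_monic _) (hdeg _) (hdeg _)
        (charpoly_reverse n _) (charpoly_reverse n _) hcoef
    have hconj : IsConj (G c) (G d) :=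
      isConj_Sp_of_semisimple n (G c) (G d) (isSemisimple_of_orderOf_coprime p n _ (hG2 c))
        (isSemisimple_of_orderOf_coprime p n _ (hG2 d)) heq
    apply Subtype.ext
    rw [← hG1 c, ← hG1 d]
    exact ConjClasses.mk_eq_mk_iff_isConj.mpr hconj
  · -- lower bound
    rcases Nat.eq_zero_or_pos n with hn | hn
    · subst hn
      rw [pow_zero]
      have : Nonempty {c : ConjClasses ↥(Matrix.symplecticGroup (Fin 0) F) //
          ∃ g : ↥(Matrix.symplecticGroup (Fin 0) F), ConjClasses.mk g = c ∧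
            (orderOf g).Coprime p} := ⟨⟨ConjClasses.mk 1, 1, rfl, by simp⟩⟩
      exact Nat.card_pos
    · rw [← hcard]
      have hex : ∀ t : Fin n → F, ∃ S : ↥(Matrix.symplecticGroup (Fin n) F),
          (orderOf S).Coprime p ∧ traceInv n S = (polyOf t) ^ 2 :=
        fun t => exists_Sp_traceInv p n hn (polyOf t) (polyOf_monic t) (polyOf_natDegree t)
      choose S hS1 hS2 using hex
      apply Nat.card_le_card_of_injective
        (fun t => (⟨ConjClasses.mk (S t), S t, rfl, hS1 t⟩ :
          {c : ConjClasses ↥(Matrix.symplecticGroup (Fin n) F) //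
            ∃ g : ↥(Matrix.symplecticGroup (Fin n) F), ConjClasses.mk g = c ∧
              (orderOf g).Coprime p}))
      intro s t hst
      have h1 : ConjClasses.mk (S s) = ConjClasses.mk (S t) := congrArg Subtype.val hst
      have h2 := traceInv_eq_of_isConj n (ConjClasses.mk_eq_mk_iff_isConj.mp h1)
      rw [hS2, hS2] at h2
      exact polyOf_injective (sq_injective_of_monic (polyOf_monic s) (polyOf_monic t) h2)

end Cfsg.Agent.Lib.H12.SpCount
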