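import Mathlib
import Cfsg.Agent.Lib.H12.SpCountD

/-!
# Elements of prime order `r` in `Sp_{2n}(q)` and their characteristic polynomials (helper12)

Classes of elements of order `r ≠ p` correspond to monic palindromic polynomials of degree `2n`
dividing `(X ^ r - 1) ^ (2n)` and different from `(X - 1) ^ (2n)`.
-/

set_option autoImplicit false
open Polynomial

namespace Cfsg.Agent.Lib.H12.SpOrd

open Cfsg.Agent.Lib.H12.Semi Cfsg.Agent.Lib.H12.SpSemi Cfsg.Agent.Lib.H12.SpCount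

universe u
variable {F : Type u} [Field F]

theorem dvd_pow_natDegree_of_irreducible_dvd (Q : F[X]) :
    ∀ (d : ℕ) (P : F[X]), P.natDegree = d → P ≠ 0 →
      (∀ ρ : F[X], Irreducible ρ → ρ ∣ P → ρ ∣ Q) → P ∣ Q ^ d := by
  intro d
  induction d using Nat.strong_induction_on with
  | _ d ih =>
    intro P hd hP h
    by_cases hu : IsUnit P
    · exact hu.dvd
    · obtain ⟨ρ, hρ, P', rfl⟩ := WfDvdMonoid.exists_irreducible_factor hu hP
      have hP' : P' ≠ 0 := right_ne_zero_of_mul hP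
      have hρ0 : ρ ≠ 0 := hρ.ne_zero
      have hdeg : (ρ * P').natDegree = ρ.natDegree + P'.natDegree := natDegree_mul hρ0 hP'
      have hρpos : 0 < ρ.natDegree := hρ.natDegree_pos
      have h1 : P' ∣ Q ^ P'.natDegree :=
        ih P'.natDegree (by omega) P' rfl hP' (fun σ hσ hd' => h σ hσ (hd'.mul_left ρ))
      have h2 : ρ ∣ Q := h ρ hρ (dvd_mul_right ρ P')
      have h3 : ρ * P' ∣ Q ^ (P'.natDegree + 1) := by
        rw [pow_succ, mul_comm]
        exact mul_dvd_mul h1 h2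
      exact h3.trans (pow_dvd_pow Q (by omega))

theorem charpoly_dvd_of_pow_eq_one (n : ℕ) (g : ↥(Matrix.symplecticGroup (Fin n) F))
    (hss : Module.End.IsSemisimple
      (Matrix.toLin' (g : Matrix (Fin n ⊕ Fin n) (Fin n ⊕ Fin n) F)))
    (r : ℕ) (hg : g ^ r = 1) :
    (g : Matrix (Fin n ⊕ Fin n) (Fin n ⊕ Fin n) F).charpoly ∣ (X ^ r - 1) ^ (2 * n) := by
  have hdeg : (g : Matrix (Fin n ⊕ Fin n) (Fin n ⊕ Fin n) F).charpoly.natDegree = 2 * n := by
    rw [Matrix.charpoly_natDegree_eq_dim, Fintype.card_sum, Fintype.card_fin, two_mul]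
  apply dvd_pow_natDegree_of_irreducible_dvd _ _ _ hdeg (Matrix.charpoly_monic _).ne_zero
  intro ρ hρ hdvd
  rw [← Matrix.charpoly_toLin'] at hdvd
  obtain ⟨w, hw0, hw⟩ := exists_ne_zero_of_dvd_charpoly _ _ _ rfl hss ρ hρ hdvd
  by_contra hnd
  have hcop : IsCoprime ρ (X ^ r - 1) := (hρ.coprime_iff_not_dvd).mpr hnd
  obtain ⟨a, b, hab⟩ := hcop
  have h1 : aeval (Matrix.toLin' (g : Matrix (Fin n ⊕ Fin n) (Fin n ⊕ Fin n) F))
      (X ^ r - 1 : F[X]) = 0 := by
    have h2 : (g : Matrix (Fin n ⊕ Fin n) (Fin n ⊕ Fin n) F) ^ r = 1 := by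
      have := congrArg Subtype.val hg
      rwa [SubmonoidClass.coe_pow] at this
    rw [map_sub, map_pow, aeval_X, map_one, ← toLin'_pow_eq, h2, Matrix.toLin'_one]
    exact sub_self _
  have h3 := congrArg (fun f => aeval (Matrix.toLin' (g : Matrix (Fin n ⊕ Fin n) (Fin n ⊕ Fin n) F))
    f w) hab
  simp only [map_add, map_mul, map_one, h1, mul_zero, add_zero, Module.End.mul_apply,
    Module.End.one_apply, hw, map_zero] at h3
  exact hw0 h3.symm

theorem aeval_eq_zero_of_charpoly_dvd (n : ℕ) (g : ↥(Matrix.symplecticGroup (Fin n) F))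
    (hss : Module.End.IsSemisimple
      (Matrix.toLin' (g : Matrix (Fin n ⊕ Fin n) (Fin n ⊕ Fin n) F)))
    (Q : F[X]) (N : ℕ) (hN : N ≠ 0)
    (hdvd : (g : Matrix (Fin n ⊕ Fin n) (Fin n ⊕ Fin n) F).charpoly ∣ Q ^ N) :
    aeval (g : Matrix (Fin n ⊕ Fin n) (Fin n ⊕ Fin n) F) Q = 0 := by
  have hsq : Squarefree (minpoly F (Matrix.toLin' (g : Matrix (Fin n ⊕ Fin n) (Fin n ⊕ Fin n) F))) :=
    hss.minpoly_squarefree
  rw [Matrix.minpoly_toLin'] at hsq
  have h1 : minpoly F (g : Matrix (Fin n ⊕ Fin n) (Fin n ⊕ Fin n) F) ∣ Q ^ N :=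
    (Matrix.minpoly_dvd_charpoly _).trans hdvd
  have h2 : minpoly F (g : Matrix (Fin n ⊕ Fin n) (Fin n ⊕ Fin n) F) ∣ Q :=
    (hsq.dvd_pow_iff_dvd hN).mp h1
  exact (minpoly.dvd_iff).mp h2

end Cfsg.Agent.Lib.H12.SpOrd
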