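import Mathlib
import Cfsg.Agent.Lib.H12.OrdOD
import Cfsg.Agent.Lib.H12.SpOrdA
import Cfsg.Agent.Lib.H12.RootCntG

/-!
# Multiplicity functions of elements of order `r` of an orthogonal group and the class count
(helper12)
-/

set_option autoImplicit false

namespace Cfsg.Agent.Lib.H12.OrdO

open Matrix Polynomial
open Cfsg.Agent.Lib.H12.RootCnt Cfsg.Agent.Lib.H12.Semi Cfsg.Agent.Lib.H12.SpOrd

variable {F : Type*} [Field F] {ι : Type} [Fintype ι] [DecidableEq ι]

theorem charpoly_dvd_of_pow_eq_one' (A : Matrix ι ι F)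
    (hss : Module.End.IsSemisimple (Matrix.toLin' A)) (r : ℕ) (hA : A ^ r = 1) :
    A.charpoly ∣ (X ^ r - 1) ^ Fintype.card ι := by
  have hdeg : A.charpoly.natDegree = Fintype.card ι := Matrix.charpoly_natDegree_eq_dim A
  apply dvd_pow_natDegree_of_irreducible_dvd _ _ _ hdeg (Matrix.charpoly_monic _).ne_zero
  intro ρ hρ hdvd
  rw [← Matrix.charpoly_toLin'] at hdvd
  obtain ⟨w, hw0, hw⟩ := exists_ne_zero_of_dvd_charpoly _ _ _ rfl hss ρ hρ hdvd
  by_contra hnd
  have hcop : IsCoprime ρ (X ^ r - 1) := (hρ.coprime_iff_not_dvd).mpr hnd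
  obtain ⟨a, b, hab⟩ := hcop
  have h1 : aeval (Matrix.toLin' A) (X ^ r - 1 : F[X]) = 0 := by
    rw [map_sub, map_pow, aeval_X, map_one, ← toLin'_pow_eq, hA, Matrix.toLin'_one]
    exact sub_self _
  have h3 := congrArg (fun f => aeval (Matrix.toLin' A) f w) hab
  simp only [map_add, map_mul, map_one, h1, mul_zero, add_zero, Module.End.mul_apply,
    Module.End.one_apply, hw, map_zero] at h3
  exact hw0 h3.symm

theorem eq_one_of_charpoly_eq' (A : Matrix ι ι F)
    (hss : Module.End.IsSemisimple (Matrix.toLin' A))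
    (hc : A.charpoly = (X - 1) ^ Fintype.card ι) : A = 1 := by
  rcases Nat.eq_zero_or_pos (Fintype.card ι) with hn | hn
  · have : IsEmpty ι := Fintype.card_eq_zero_iff.mp hn
    apply Matrix.ext
    intro i
    exact isEmptyElim i
  · have hsq : Squarefree (minpoly F (Matrix.toLin' A)) := hss.minpoly_squarefree
    rw [Matrix.minpoly_toLin'] at hsq
    have h1 : minpoly F A ∣ (X - 1) ^ Fintype.card ι := by
      rw [← hc]; exact Matrix.minpoly_dvd_charpoly _
    have h2 : minpoly F A ∣ (X - 1) := (hsq.dvd_pow_iff_dvd hn.ne').mp h1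
    have h3 := (minpoly.dvd_iff).mp h2
    rw [map_sub, aeval_X, map_one, sub_eq_zero] at h3
    exact h3

variable [Fintype F] {K : Type*} [Field K] [Algebra F K] [IsAlgClosed K] [DecidableEq K]
variable {r : ℕ} [NeZero r]

/-- multiplicity function of the characteristic polynomial -/
noncomputable def mf (r : ℕ) [NeZero r] (ζ : K) (g : GL ι F) : ZMod r → ℕ :=
  fun j => ((g.1.charpoly).map (algebraMap F K)).roots.count (ev ζ j)

omit [Fintype F] [IsAlgClosed K] [NeZero r] in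
theorem semisimple_of_pow (g : GL ι F) (hrF : (r : F) ≠ 0) (hg : g ^ r = 1) :
    Module.End.IsSemisimple (Matrix.toLin' g.1) := by
  apply isSemisimple_toLin'_of_pow_eq_one _ r hrF
  rw [← Units.val_pow_eq_pow_val, hg, Units.val_one]

theorem mf_spec {ζ : K} (hζ : IsPrimitiveRoot ζ r) (g : GL ι F) (hrF : (r : F) ≠ 0)
    (hg : g ^ r = 1) : (g.1.charpoly).map (algebraMap F K) = prodPoly ζ (mf r ζ g) := by
  apply map_eq_prodPoly hζ _ (Matrix.charpoly_monic _) (Fintype.card ι)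
  apply charpoly_dvd_of_pow_eq_one' _ (semisimple_of_pow g hrF hg)
  rw [← Units.val_pow_eq_pow_val, hg, Units.val_one]

theorem mf_sum {ζ : K} (hζ : IsPrimitiveRoot ζ r) (g : GL ι F) (hrF : (r : F) ≠ 0)
    (hg : g ^ r = 1) : ∑ j, mf r ζ g j = Fintype.card ι := by
  rw [← prodPoly_natDegree ζ, ← mf_spec hζ g hrF hg, natDegree_map,
    Matrix.charpoly_natDegree_eq_dim]

omit [IsAlgClosed K] in
theorem mf_frob {ζ : K} (hζ : IsPrimitiveRoot ζ r) (φ : K →+* K)
    (hφ : ∀ x, φ x = x ^ Fintype.card F) (g : GL ι F) (j : ZMod r) :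
    mf r ζ g ((Fintype.card F : ZMod r) * j) = mf r ζ g j :=
  count_roots_frobenius hζ φ hφ _ j

theorem mf_neg {ζ : K} (hζ : IsPrimitiveRoot ζ r) (Q : QuadraticForm F (ι → F))
    (hQ : (QuadraticMap.polarBilin Q).Nondegenerate) (g : GL ι F)
    (hgQ : g ∈ Cfsg.isometryGroup F ⇑Q) (hrF : (r : F) ≠ 0) (hg : g ^ r = 1) (j : ZMod r) :
    mf r ζ g (-j) = mf r ζ g j := by
  obtain ⟨c, hc⟩ := charpoly_eq_C_mul_reverse Q hQ g hgQ
  have h1 := mf_spec hζ g hrF hg
  have h2 : (g.1.charpoly).map (algebraMap F K) =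
      C (algebraMap F K c) * ((g.1.charpoly).map (algebraMap F K)).reverse := by
    conv_lhs => rw [hc]
    rw [Polynomial.map_mul, Polynomial.map_C, reverse_map_of_injective]
  have h3 := reverse_prodPoly hζ (mf r ζ g)
  rw [← h1] at h3
  rw [h3, ← mul_assoc, ← C_mul] at h2
  have hm : ((g.1.charpoly).map (algebraMap F K)).Monic := (Matrix.charpoly_monic _).map _
  have hc0 : algebraMap F K c * ∏ j : ZMod r, (-(ev ζ j)) ^ mf r ζ g j ≠ 0 := by
    intro h0
    rw [h0, C_0, zero_mul] at h2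
    exact hm.ne_zero h2
  have h4 : mf r ζ g j = (prodPoly ζ (fun k => mf r ζ g (-k))).roots.count (ev ζ j) := by
    show ((g.1.charpoly).map (algebraMap F K)).roots.count (ev ζ j) = _
    conv_lhs => rw [h2]
    rw [roots_C_mul _ hc0]
  rw [h4, count_roots_prodPoly hζ]

omit [IsAlgClosed K] [Fintype F] in
theorem mf_one (ζ : K) (hζ : IsPrimitiveRoot ζ r) :
    mf r ζ (1 : GL ι F) = fun j : ZMod r => if j = 0 then Fintype.card ι else 0 := by
  funext j
  unfold mf
  rw [Units.val_one, Matrix.charpoly_one, Polynomial.map_pow, Polynomial.map_sub,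
    Polynomial.map_X, Polynomial.map_one, ← C_1, roots_pow, roots_X_sub_C, Multiset.count_nsmul,
    Multiset.count_singleton]
  by_cases hj : j = 0
  · rw [if_pos hj, hj, ev_zero, if_pos rfl, mul_one]
  · rw [if_neg hj, if_neg, mul_zero]
    intro h
    apply hj
    apply ev_injective hζ
    rw [h, ev_zero]

theorem eq_one_of_mf_zero {ζ : K} (hζ : IsPrimitiveRoot ζ r) (g : GL ι F) (hrF : (r : F) ≠ 0)
    (hg : g ^ r = 1) (h0 : mf r ζ g 0 = Fintype.card ι) : g = 1 := by
  have hsum := mf_sum hζ g hrF hg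
  have hz : ∀ j : ZMod r, j ≠ 0 → mf r ζ g j = 0 := by
    intro j hj
    by_contra hne
    have h1 : mf r ζ g 0 + mf r ζ g j ≤ ∑ k, mf r ζ g k := by
      rw [← Finset.sum_pair (Ne.symm hj)]
      exact Finset.sum_le_sum_of_subset (Finset.subset_univ _)
    omega
  have h2 : mf r ζ g = mf r ζ (1 : GL ι F) := by
    rw [mf_one ζ hζ]
    funext j
    by_cases hj : j = 0
    · rw [if_pos hj, hj, h0]
    · rw [if_neg hj, hz j hj]
  have h3 : (g.1.charpoly).map (algebraMap F K) =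
      ((1 : GL ι F).1.charpoly).map (algebraMap F K) := by
    rw [mf_spec hζ g hrF hg, mf_spec hζ 1 hrF (one_pow r), h2]
  have h4 : g.1.charpoly = (X - 1) ^ Fintype.card ι := by
    have := Polynomial.map_injective _ (algebraMap F K).injective h3
    rw [this, Units.val_one, Matrix.charpoly_one]
  apply Units.ext
  rw [Units.val_one]
  exact eq_one_of_charpoly_eq' g.1 (semisimple_of_pow g hrF hg) h4

set_option maxHeartbeats 800000 in
/-- classes of elements of order `r` correspond to the multiplicity functions realised by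
elements of order dividing `r`, other than that of the identity -/
theorem card_classes_eq (p : ℕ) [Fact p.Prime] [CharP F p] (Q : QuadraticForm F (ι → F))
    (hQ : (QuadraticMap.polarBilin Q).Nondegenerate) (hr : r.Prime) (hr2 : r ≠ 2)
    (hrp : r ≠ p) {ζ : K} (hζ : IsPrimitiveRoot ζ r) :
    Nat.card {C : ConjClasses ↥(Cfsg.isometryGroup F ⇑Q) //
      ∃ g : ↥(Cfsg.isometryGroup F ⇑Q), ConjClasses.mk g = C ∧ orderOf g = r} =
    Nat.card {a : ZMod r → ℕ // a 0 ≠ Fintype.card ι ∧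
      ∃ g : GL ι F, g ∈ Cfsg.isometryGroup F ⇑Q ∧ g ^ r = 1 ∧ mf r ζ g = a} := by
  classical
  have hp : p.Prime := Fact.out
  have hcop : r.Coprime p := (Nat.coprime_primes hr hp).mpr hrp
  have hodd : Odd r := hr.odd_of_ne_two hr2
  have hrF : (r : F) ≠ 0 := by
    rw [Ne, CharP.cast_eq_zero_iff F p]
    intro hd
    exact hrp ((Nat.prime_dvd_prime_iff_eq hp hr).mp hd).symm
  have hch : ∀ c : {C : ConjClasses ↥(Cfsg.isometryGroup F ⇑Q) //
      ∃ g : ↥(Cfsg.isometryGroup F ⇑Q), ConjClasses.mk g = C ∧ orderOf g = r},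
      ∃ g : ↥(Cfsg.isometryGroup F ⇑Q), ConjClasses.mk g = c.1 ∧ orderOf g = r := fun c => c.2
  choose G hG1 hG2 using hch
  have hpow : ∀ g : ↥(Cfsg.isometryGroup F ⇑Q), orderOf g = r → (g : GL ι F) ^ r = 1 := by
    intro g hg
    rw [← Subgroup.coe_pow, ← hg, pow_orderOf_eq_one, Subgroup.coe_one]
  have hne1 : ∀ g : ↥(Cfsg.isometryGroup F ⇑Q), orderOf g = r →
      mf r ζ (g : GL ι F) 0 ≠ Fintype.card ι := by
    intro g hg h0
    have h1 := eq_one_of_mf_zero hζ (g : GL ι F) hrF (hpow g hg) h0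
    have h2 : g = 1 := Subtype.ext h1
    rw [h2, orderOf_one] at hg
    exact hr.one_lt.ne hg
  have hconjinv : ∀ g h : ↥(Cfsg.isometryGroup F ⇑Q), IsConj g h →
      mf r ζ (g : GL ι F) = mf r ζ (h : GL ι F) := by
    intro g h hc
    have h1 := charpoly_eq_of_isConj ((Cfsg.isometryGroup F ⇑Q).subtype.map_isConj hc)
    funext j
    show ((g : GL ι F).1.charpoly.map (algebraMap F K)).roots.count (ev ζ j) =
      ((h : GL ι F).1.charpoly.map (algebraMap F K)).roots.count (ev ζ j)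
    have h2 : (g : GL ι F).1.charpoly = (h : GL ι F).1.charpoly := h1
    rw [h2]
  let Ψ : {C : ConjClasses ↥(Cfsg.isometryGroup F ⇑Q) //
      ∃ g : ↥(Cfsg.isometryGroup F ⇑Q), ConjClasses.mk g = C ∧ orderOf g = r} →
      {a : ZMod r → ℕ // a 0 ≠ Fintype.card ι ∧
        ∃ g : GL ι F, g ∈ Cfsg.isometryGroup F ⇑Q ∧ g ^ r = 1 ∧ mf r ζ g = a} :=
    fun c => ⟨mf r ζ (G c : GL ι F), hne1 (G c) (hG2 c), (G c : GL ι F), (G c).2,
      hpow (G c) (hG2 c), rfl⟩
  have hΨinj : Function.Injective Ψ := by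
    intro c d hcd
    have heq : mf r ζ (G c : GL ι F) = mf r ζ (G d : GL ι F) := congrArg Subtype.val hcd
    have h1 : (G c : GL ι F).1.charpoly.map (algebraMap F K) =
        (G d : GL ι F).1.charpoly.map (algebraMap F K) := by
      rw [mf_spec hζ _ hrF (hpow _ (hG2 c)), mf_spec hζ _ hrF (hpow _ (hG2 d)), heq]
    have h2 := Polynomial.map_injective _ (algebraMap F K).injective h1
    have hconj : IsConj (G c) (G d) :=
      isConj_of_charpoly_eq Q p hQ (G c) (G d) (by rw [hG2 c]; exact hodd)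
        (by rw [hG2 c]; exact hcop) (by rw [hG2 d]; exact hcop) h2
    apply Subtype.ext
    rw [← hG1 c, ← hG1 d]
    exact ConjClasses.mk_eq_mk_iff_isConj.mpr hconj
  have hΨsurj : Function.Surjective Ψ := by
    rintro ⟨a, ha0, g, hgQ, hgr, hga⟩
    have h3 : (⟨g, hgQ⟩ : ↥(Cfsg.isometryGroup F ⇑Q)) ≠ 1 := by
      intro h
      have h4 : g = 1 := congrArg Subtype.val h
      apply ha0
      rw [← hga, h4, mf_one ζ hζ]
      exact if_pos rfl
    have h4 : orderOf (⟨g, hgQ⟩ : ↥(Cfsg.isometryGroup F ⇑Q)) = r := by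
      have : Fact r.Prime := ⟨hr⟩
      apply orderOf_eq_prime _ h3
      apply Subtype.ext
      rw [Subgroup.coe_pow, Subgroup.coe_one]
      exact hgr
    have h5 := hconjinv _ _
      (ConjClasses.mk_eq_mk_iff_isConj.mp (hG1 ⟨ConjClasses.mk ⟨g, hgQ⟩, ⟨g, hgQ⟩, rfl, h4⟩))
    exact ⟨⟨ConjClasses.mk ⟨g, hgQ⟩, ⟨g, hgQ⟩, rfl, h4⟩, Subtype.ext (h5.trans hga)⟩
  exact Nat.card_congr (Equiv.ofBijective Ψ ⟨hΨinj, hΨsurj⟩)

end Cfsg.Agent.Lib.H12.OrdO
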