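import Mathlib
import Cfsg.Agent.Lib.H12.OrdOB
import Cfsg.Agent.Lib.H12.OrdOE
import Cfsg.Agent.Lib.H13.OrthSum

/-!
# Realisations of multiplicity functions by isometries; sums and transport (helper12)
-/

set_option autoImplicit false

namespace Cfsg.Agent.Lib.H12.OrdO

open Matrix Polynomial
open Cfsg.Agent.Lib.H12.RootCnt Cfsg.Agent.Lib.H13.OrthSum

variable {F : Type*} [Field F]

section transport

variable {ι κ : Type} [Fintype ι] [DecidableEq ι] [Fintype κ] [DecidableEq κ]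

/-- conjugation of matrices by a linear equivalence -/
noncomputable def conjM (Φ : (ι → F) ≃ₗ[F] (κ → F)) : Matrix ι ι F →* Matrix κ κ F where
  toFun A := LinearMap.toMatrix' (Φ.conj (Matrix.toLin' A))
  map_one' := by
    rw [Matrix.toLin'_one, LinearEquiv.conj_id, LinearMap.toMatrix'_id]
  map_mul' A B := by
    rw [Matrix.toLin'_mul, LinearEquiv.conj_comp, LinearMap.toMatrix'_comp]

theorem conjM_mulVec (Φ : (ι → F) ≃ₗ[F] (κ → F)) (A : Matrix ι ι F) (w : κ → F) :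
    conjM Φ A *ᵥ w = Φ (A *ᵥ Φ.symm w) := by
  show LinearMap.toMatrix' (Φ.conj (Matrix.toLin' A)) *ᵥ w = _
  rw [LinearMap.toMatrix'_mulVec, LinearEquiv.conj_apply_apply, Matrix.toLin'_apply]

theorem conjM_charpoly (Φ : (ι → F) ≃ₗ[F] (κ → F)) (A : Matrix ι ι F) :
    (conjM Φ A).charpoly = A.charpoly := by
  show (LinearMap.toMatrix' (Φ.conj (Matrix.toLin' A))).charpoly = _
  rw [← Matrix.charpoly_toLin', Matrix.toLin'_toMatrix', LinearEquiv.charpoly_conj,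
    Matrix.charpoly_toLin']

/-- transport of isometries along a similitude -/
theorem exists_transport (Φ : (ι → F) ≃ₗ[F] (κ → F)) (Q' : (ι → F) → F) (Q : (κ → F) → F)
    (d : F) (hd : d ≠ 0) (h : ∀ v, Q' v = d * Q (Φ v)) (g' : GL ι F)
    (hg' : g' ∈ Cfsg.isometryGroup F Q') :
    ∃ g : GL κ F, g ∈ Cfsg.isometryGroup F Q ∧ g.1.charpoly = g'.1.charpoly ∧
      ∀ k : ℕ, g' ^ k = 1 → g ^ k = 1 := by
  refine ⟨Units.map (conjM Φ) g', ?_, conjM_charpoly Φ g'.1, ?_⟩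
  · rw [Cfsg.Agent.Lib.H11.IsoReindex.mem_iso_iff']
    intro w
    have h1 := (Cfsg.Agent.Lib.H11.IsoReindex.mem_iso_iff' Q' g').mp hg' (Φ.symm w)
    rw [h, h, LinearEquiv.apply_symm_apply] at h1
    rw [Units.coe_map, conjM_mulVec]
    exact mul_left_cancel₀ hd h1
  · intro k hk
    rw [← map_pow, hk, map_one]

end transport

section blocks

variable [Fintype F] {K : Type*} [Field K] [Algebra F K] [IsAlgClosed K] [DecidableEq K]
variable {r : ℕ} [NeZero r]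
variable {ι₁ ι₂ : Type} [Fintype ι₁] [DecidableEq ι₁] [Fintype ι₂] [DecidableEq ι₂]

omit [Fintype F] [IsAlgClosed K] in
theorem mf_blk (ζ : K) (g₁ : GL ι₁ F) (g₂ : GL ι₂ F) :
    mf r ζ (blkGL ι₁ ι₂ F (g₁, g₂)) = mf r ζ g₁ + mf r ζ g₂ := by
  funext j
  unfold mf
  rw [blkGL_coe, Matrix.charpoly_fromBlocks_zero₁₂, Polynomial.map_mul, Pi.add_apply]
  rw [roots_mul, Multiset.count_add]
  apply mul_ne_zero
  · exact ((Matrix.charpoly_monic _).map _).ne_zero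
  · exact ((Matrix.charpoly_monic _).map _).ne_zero

/-- realisation data: a nondegenerate quadratic space of dimension `2 b` and type `(-1)^k` with an
isometry of order dividing `r` whose multiplicity function is `a` -/
def Rz (F : Type*) [Field F] [Fintype F] {K : Type*} [Field K] [Algebra F K] [DecidableEq K]
    (r : ℕ) [NeZero r] (ζ : K) (b k : ℕ) (a : ZMod r → ℕ) : Prop :=
  ∃ (ι : Type) (_ : Fintype ι) (_ : DecidableEq ι) (Q : QuadraticForm F (ι → F)) (g : GL ι F),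
    (QuadraticMap.polarBilin Q).Nondegenerate ∧ IsTy (⇑Q) b k ∧
      g ∈ Cfsg.isometryGroup F ⇑Q ∧ g ^ r = 1 ∧ mf r ζ g = a

omit [IsAlgClosed K] in
theorem Rz.add {ζ : K} {b₁ k₁ b₂ k₂ : ℕ} {a₁ a₂ : ZMod r → ℕ} (h₁ : Rz F r ζ b₁ k₁ a₁)
    (h₂ : Rz F r ζ b₂ k₂ a₂) : Rz F r ζ (b₁ + b₂) (k₁ + k₂) (a₁ + a₂) := by
  obtain ⟨ι₁, _, _, Q₁, g₁, hQ₁, hT₁, hg₁, hr₁, ha₁⟩ := h₁
  obtain ⟨ι₂, _, _, Q₂, g₂, hQ₂, hT₂, hg₂, hr₂, ha₂⟩ := h₂
  refine ⟨ι₁ ⊕ ι₂, inferInstance, inferInstance, sumQF Q₁ Q₂, blkGL ι₁ ι₂ F (g₁, g₂),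
    nondeg_sumQF Q₁ Q₂ hQ₁ hQ₂, hT₁.sum hT₂, blk_mem Q₁ Q₂ (⟨g₁, hg₁⟩, ⟨g₂, hg₂⟩), ?_, ?_⟩
  · rw [← map_pow, Prod.pow_mk, hr₁, hr₂]
    exact map_one _
  · rw [mf_blk, ha₁, ha₂]

end blocks

end Cfsg.Agent.Lib.H12.OrdO
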