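import Mathlib
import Cfsg.Agent.Lib.H12.OrdOF
import Cfsg.Agent.Lib.H13.MinusClass
import Cfsg.Agent.Lib.H13.AutPO11
import Cfsg.Agent.S0287
import Cfsg.Agent.S0288

/-!
# Realisations: trivial pieces and transport to the standard forms (helper12)
-/

set_option autoImplicit false

namespace Cfsg.Agent.Lib.H12.OrdO

open Matrix Polynomial
open Cfsg.Agent.Lib.H12.RootCnt Cfsg.Agent.Lib.H13

variable {F : Type*} [Field F] [Fintype F]

theorem IsTy.parity {ι : Type} [Fintype ι] {Q : (ι → F) → F} {b k k' : ℕ}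
    (h : IsTy Q b k) (h' : IsTy Q b k') : Even k ↔ Even k' := by
  have h1 := h.zero
  rw [h'.zero] at h1
  have hq : (2 : ℤ) ≤ (Fintype.card F : ℤ) := by
    exact_mod_cast Fintype.one_lt_card (α := F)
  have hX : (Fintype.card F : ℤ) ^ (b + 1) - (Fintype.card F : ℤ) ^ b ≠ 0 := by
    have h2 : (Fintype.card F : ℤ) ^ (b + 1) - (Fintype.card F : ℤ) ^ b =
        (Fintype.card F : ℤ) ^ b * ((Fintype.card F : ℤ) - 1) := by ring
    rw [h2]
    apply mul_ne_zero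
    · apply pow_ne_zero; omega
    · omega
  have h3 : ((-1 : ℤ)) ^ k' = (-1) ^ k := by
    have := add_left_cancel h1
    exact mul_right_cancel₀ hX this
  rcases Nat.even_or_odd k with hk | hk <;> rcases Nat.even_or_odd k' with hk' | hk'
  · exact ⟨fun _ => hk', fun _ => hk⟩
  · rw [hk.neg_one_pow, hk'.neg_one_pow] at h3; norm_num at h3
  · rw [hk.neg_one_pow, hk'.neg_one_pow] at h3; norm_num at h3
  · exact ⟨fun h => absurd h (Nat.not_even_iff_odd.mpr hk), fun h => absurd h (Nat.not_even_iff_odd.mpr hk')⟩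

variable {K : Type*} [Field K] [Algebra F K] [DecidableEq K] {r : ℕ} [NeZero r]

theorem Rz.one_plus (ζ : K) (hζ : IsPrimitiveRoot ζ r) (t : ℕ) :
    Rz F r ζ t 0 (fun j => if j = 0 then 2 * t else 0) := by
  refine ⟨Fin t ⊕ Fin t, inferInstance, inferInstance, plusQF F t, 1, Cfsg.Agent.S0287.nondeg t,
    ?_, one_mem _, one_pow r, ?_⟩
  · rw [Cfsg.Agent.S0287.coe_plusQF]
    exact isTy_plus t
  · rw [mf_one ζ hζ]
    funext j
    rw [Fintype.card_sum, Fintype.card_fin, two_mul]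

theorem Rz.one_minus (ζ : K) (hζ : IsPrimitiveRoot ζ r) (t : ℕ) (a c : F)
    (hac : ∀ z₁ z₂ : F, z₁ ^ 2 + a * z₁ * z₂ + c * z₂ ^ 2 = 0 → z₁ = 0 ∧ z₂ = 0) :
    Rz F r ζ (t + 1) 1 (fun j => if j = 0 then 2 * (t + 1) else 0) := by
  refine ⟨(Fin t ⊕ Fin t) ⊕ Fin 2, inferInstance, inferInstance, minusQF F t a c, 1,
    Cfsg.Agent.S0288.nondeg a c hac t, ?_, one_mem _, one_pow r, ?_⟩
  · rw [Cfsg.Agent.S0288.coe_minusQF]
    exact isTy_minus t a c hac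
  · rw [mf_one ζ hζ]
    funext j
    rw [Fintype.card_sum, Fintype.card_sum, Fintype.card_fin, Fintype.card_fin]
    congr 1
    ring

omit [Fintype F] [NeZero r] in
theorem mf_congr_charpoly [NeZero r] {ι κ : Type} [Fintype ι] [DecidableEq ι] [Fintype κ]
    [DecidableEq κ] (ζ : K) (g : GL ι F) (g' : GL κ F) (h : g.1.charpoly = g'.1.charpoly) :
    mf r ζ g = mf r ζ g' := by
  funext j
  unfold mf
  rw [h]

theorem Rz.to_plus {ζ : K} {m k : ℕ} {a : ZMod r → ℕ} (h : Rz F r ζ m k a) (hm : 1 ≤ m)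
    (hk : Even k) :
    ∃ g : GL (Fin m ⊕ Fin m) F, g ∈ Cfsg.isometryGroup F (Cfsg.quadFormPlus m F) ∧ g ^ r = 1 ∧
      mf r ζ g = a := by
  obtain ⟨ι, _, _, Q, g, hQ, hT, hg, hgr, hga⟩ := h
  have hfr : Module.finrank F (ι → F) = 2 * m := by
    rw [Module.finrank_fintype_fun_eq_card, hT.card]
  rcases MinusClass.classify Q hQ hm hfr with ⟨Φ, hΦ⟩ | ⟨ζ', hζ', Φ, hΦ⟩
  · obtain ⟨g₀, hg₀, hc, hp⟩ := exists_transport Φ (⇑Q) (Cfsg.quadFormPlus m F) 1 one_ne_zero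
      (fun v => by rw [one_mul]; exact hΦ v) g hg
    exact ⟨g₀, hg₀, hp r hgr, by rw [← hga]; exact mf_congr_charpoly ζ _ _ hc⟩
  · exfalso
    have h1 : IsTy (Cfsg.quadFormMinus (m - 1) F 1 ζ') m k :=
      hT.congr Φ.toEquiv hΦ (by
        rw [hT.card, Fintype.card_sum, Fintype.card_sum, Fintype.card_fin, Fintype.card_fin]
        omega)
    have h2 := isTy_minus (m - 1) 1 ζ' (AutPO.aniso_of_as ζ' hζ')
    rw [Nat.sub_add_cancel hm] at h2
    have := (h1.parity h2).mp hk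
    exact absurd this (by decide)

theorem Rz.to_minus {ζ : K} {m k : ℕ} {a : ZMod r → ℕ} (h : Rz F r ζ m k a) (hm : 1 ≤ m)
    (hk : Odd k) (a₀ c₀ : F)
    (hac : ∀ z₁ z₂ : F, z₁ ^ 2 + a₀ * z₁ * z₂ + c₀ * z₂ ^ 2 = 0 → z₁ = 0 ∧ z₂ = 0) :
    ∃ g : GL ((Fin (m - 1) ⊕ Fin (m - 1)) ⊕ Fin 2) F,
      g ∈ Cfsg.isometryGroup F (Cfsg.quadFormMinus (m - 1) F a₀ c₀) ∧ g ^ r = 1 ∧
      mf r ζ g = a := by
  obtain ⟨ι, _, _, Q, g, hQ, hT, hg, hgr, hga⟩ := h
  have hfr : Module.finrank F (ι → F) = 2 * m := by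
    rw [Module.finrank_fintype_fun_eq_card, hT.card]
  rcases MinusClass.classify Q hQ hm hfr with ⟨Φ, hΦ⟩ | ⟨ζ', hζ', Φ, hΦ⟩
  · exfalso
    have h1 : IsTy (Cfsg.quadFormPlus m F) m k :=
      hT.congr Φ.toEquiv hΦ (by
        rw [hT.card, Fintype.card_sum, Fintype.card_fin]
        omega)
    have h2 := isTy_plus (F := F) m
    have := (h1.parity h2).mpr (by decide)
    exact absurd this (Nat.not_even_iff_odd.mpr hk)
  · obtain ⟨g₁, hg₁, hc, hp⟩ := exists_transport Φ (⇑Q) (Cfsg.quadFormMinus (m - 1) F 1 ζ') 1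
      one_ne_zero (fun v => by rw [one_mul]; exact hΦ v) g hg
    obtain ⟨L, hL⟩ := AutPO.minus_iso (m := m - 1) 1 ζ' a₀ c₀ (AutPO.aniso_of_as ζ' hζ') hac
    refine ⟨L⁻¹ * g₁ * L, ?_, ?_, ?_⟩
    · rw [Cfsg.Agent.Lib.H11.IsoReindex.mem_iso_iff']
      intro v
      have h3 := (Cfsg.Agent.Lib.H11.IsoReindex.mem_iso_iff' _ g₁).mp hg₁ (L.1 *ᵥ v)
      rw [← hL, ← hL v, ← h3]
      congr 1
      simp only [Units.val_mul, Matrix.mulVec_mulVec, ← Matrix.mul_assoc]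
      rw [← Units.val_mul, mul_inv_cancel, Units.val_one, Matrix.one_mul]
    · have : L⁻¹ * g₁ * L = L⁻¹ * g₁ * L⁻¹⁻¹ := by rw [inv_inv]
      rw [this, conj_pow, hp r hgr, mul_one, mul_inv_cancel]
    · rw [← hga]
      apply (mf_congr_charpoly ζ _ _ _).trans (mf_congr_charpoly ζ _ _ hc)
      have h4 := Matrix.charpoly_units_conj' L g₁.1
      rw [Units.val_mul, Units.val_mul, Matrix.coe_units_inv]
      exact h4

end Cfsg.Agent.Lib.H12.OrdO
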