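import Mathlib
import Cfsg.Agent.Lib.H12.BCInv
import Cfsg.Agent.Lib.H12.BCTransS
import Cfsg.Agent.Lib.H12.OrdOG

/-!
# Level counts on abstract even-dimensional quadratic spaces, fixed-point-free divisibility,
elements of order `2 s` in `PSp` from symplectic elements of order `4 s` (helper12)
-/

set_option autoImplicit false
set_option linter.unusedSectionVars false

namespace Cfsg.Agent.Lib.H12.BC

open Module
open Cfsg.Agent.Lib.H12.OrdO Cfsg.Agent.Lib.H13 Cfsg.Agent.Lib.H12.PSpG

universe u v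

section count

variable {F : Type u} [Field F] [Fintype F]

/-- the number of vectors of norm `1` in a non-degenerate quadratic space of dimension `2 d` -/
theorem card_level_one {V : Type v} [AddCommGroup V] [Module F V] [FiniteDimensional F V]
    (Q : QuadraticForm F V) (hQ : (QuadraticMap.polarBilin Q).Nondegenerate) {d : ℕ} (hd : 1 ≤ d)
    (hV : finrank F V = 2 * d) :
    ((Fintype.card F : ℤ) * (Nat.card {v : V // Q v = 1} : ℤ) =
        (Fintype.card F : ℤ) ^ (2 * d) - (Fintype.card F : ℤ) ^ d) ∨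
    ((Fintype.card F : ℤ) * (Nat.card {v : V // Q v = 1} : ℤ) =
        (Fintype.card F : ℤ) ^ (2 * d) + (Fintype.card F : ℤ) ^ d) := by
  rcases MinusClass.classify Q hQ hd hV with ⟨Φ, hΦ⟩ | ⟨ζ, hζ, Φ, hΦ⟩
  · left
    have h1 : Nat.card {v : V // Q v = 1} = lvl (Cfsg.quadFormPlus d F) 1 := by
      unfold lvl
      exact Nat.card_congr (Φ.toEquiv.subtypeEquiv (fun v => by rw [hΦ v]; rfl))
    rw [h1, (isTy_plus d).ne 1 one_ne_zero]
    ring
  · right
    have h1 : Nat.card {v : V // Q v = 1} = lvl (Cfsg.quadFormMinus (d - 1) F 1 ζ) 1 := by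
      unfold lvl
      exact Nat.card_congr (Φ.toEquiv.subtypeEquiv (fun v => by rw [hΦ v]; rfl))
    have h2 := isTy_minus (d - 1) 1 ζ (AutPO.aniso_of_as ζ hζ)
    rw [Nat.sub_add_cancel hd] at h2
    rw [h1, h2.ne 1 one_ne_zero]
    ring

theorem four_mul_dvd_of_card {q d N s : ℕ} (hs : s.Prime) (hs2 : s ≠ 2)
    (hq : Nat.Coprime (4 * s) q) (h4 : 4 ∣ N) (hsN : s ∣ N)
    (h : (q : ℤ) * (N : ℤ) = (q : ℤ) ^ (2 * d) - (q : ℤ) ^ d ∨
      (q : ℤ) * (N : ℤ) = (q : ℤ) ^ (2 * d) + (q : ℤ) ^ d) :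
    4 * s ∣ q ^ d - 1 ∨ 4 * s ∣ q ^ d + 1 := by
  have hc4 : Nat.Coprime 4 s := by
    have h2s : Nat.Coprime 2 s := by
      rw [Nat.coprime_primes Nat.prime_two hs]
      exact fun h => hs2 h.symm
    have : Nat.Coprime (2 ^ 2) s := Nat.Coprime.pow_left 2 h2s
    exact this
  have hN : 4 * s ∣ q * N := Dvd.dvd.mul_left (hc4.mul_dvd_of_dvd_of_dvd h4 hsN) q
  have hqd : Nat.Coprime (4 * s) (q ^ d) := Nat.Coprime.pow_right d hq
  have h1 : 1 ≤ q ^ d := by
    apply Nat.one_le_pow
    rcases Nat.eq_zero_or_pos q with h0 | h0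
    · rw [h0, Nat.coprime_zero_right] at hq
      have := hs.two_le
      omega
    · exact h0
  rcases h with h | h
  · left
    have h3 : q * N = q ^ d * (q ^ d - 1) := by
      have : ((q * N : ℕ) : ℤ) = ((q ^ d * (q ^ d - 1) : ℕ) : ℤ) := by
        push_cast [Nat.cast_sub h1]
        rw [h]
        ring
      exact_mod_cast this
    rw [h3] at hN
    exact hqd.dvd_of_dvd_mul_left hN
  · right
    have h3 : q * N = q ^ d * (q ^ d + 1) := by
      have : ((q * N : ℕ) : ℤ) = ((q ^ d * (q ^ d + 1) : ℕ) : ℤ) := by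
        push_cast
        rw [h]
        ring
      exact_mod_cast this
    rw [h3] at hN
    exact hqd.dvd_of_dvd_mul_left hN

end count

section fpf

variable {F : Type u} [Field F]

/-- an endomorphism of prime order `s` without fixed points on an invariant finite set `S`:
`s ∣ |S|` -/
theorem dvd_card_of_fpf_end {V : Type v} [AddCommGroup V] [Module F V] [Finite V]
    (T : Module.End F V) (s : ℕ) [Fact s.Prime] (hT : T ^ s = 1) (S : Set V)
    (hS : ∀ v ∈ S, T v ∈ S) (hfix : ∀ v ∈ S, T v ≠ v) : s ∣ Nat.card S := by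
  classical
  have : Fintype V := Fintype.ofFinite V
  let σ : Function.End S := fun v => (⟨T v.1, hS v.1 v.2⟩ : S)
  have hσ : ∀ (k : ℕ) (v : S), ((σ ^ k) v : V) = (T ^ k) v.1 := by
    intro k
    induction k with
    | zero => intro v; rfl
    | succ k ih =>
      intro v
      rw [pow_succ', pow_succ', Module.End.mul_apply, ← ih]
      rfl
  have hσr : σ ^ s ^ 1 = 1 := by
    rw [pow_one]
    funext v
    apply Subtype.ext
    rw [hσ, hT]
    rfl
  have h1 := Equiv.Perm.card_fixedPoints_modEq (f := σ) (p := s) (n := 1) hσr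
  have h2 : Fintype.card (Function.fixedPoints σ) = 0 := by
    rw [Fintype.card_eq_zero_iff]
    constructor
    rintro ⟨v, hv⟩
    have h3 : T v.1 = v.1 := congrArg Subtype.val hv
    exact hfix v.1 v.2 h3
  rw [h2] at h1
  rw [Nat.card_eq_fintype_card]
  exact (Nat.modEq_zero_iff_dvd).mp h1

end fpf

section psp

variable {F : Type u} [Field F] [Fintype F]

/-- a symplectic element of order `4 s` gives an element of order `2 s` in `PSp` -/
theorem psp_of_hasOrd_four (n : ℕ) (hn : 1 ≤ n) (s : ℕ) (hs : 0 < s) (h : HasOrd F n (4 * s)) :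
    ∃ x : Cfsg.PSp n F, orderOf x = 2 * s := by
  obtain ⟨A, hA⟩ := h
  set X : Cfsg.PSp n F := QuotientGroup.mk A with hX
  have hdvd : orderOf X ∣ orderOf A :=
    orderOf_map_dvd (QuotientGroup.mk' (Subgroup.center ↥(Matrix.symplecticGroup (Fin n) F))) A
  have hpos : 0 < orderOf A := by rw [hA]; omega
  have hXpos : 0 < orderOf X := Nat.pos_of_dvd_of_pos hdvd hpos
  have h2s : 2 * s ∣ orderOf X := by
    have h1 : X ^ orderOf X = 1 := pow_orderOf_eq_one X
    rw [hX, psp_pow_eq_one_iff n hn] at h1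
    have h3 : A ^ (2 * orderOf X) = 1 := by
      rw [mul_comm, pow_mul]
      rcases h1 with h1 | h1
      · rw [h1, one_pow]
      · rw [h1]
        apply Subtype.ext
        show (Cfsg.Agent.Lib.H2.Sp.negOne n : ↥(Matrix.symplecticGroup (Fin n) F)).1 ^ 2 = 1
        show (-1 : Matrix (Fin n ⊕ Fin n) (Fin n ⊕ Fin n) F) ^ 2 = 1
        rw [neg_one_sq]
    have h4 := orderOf_dvd_of_pow_eq_one h3
    rw [hA] at h4
    have : 2 * (2 * s) ∣ 2 * orderOf (QuotientGroup.mk A : Cfsg.PSp n F) := by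
      rw [← mul_assoc]; exact h4
    exact (Nat.mul_dvd_mul_iff_left (by norm_num)).1 this
  exact ⟨X ^ (orderOf X / (2 * s)), orderOf_pow_orderOf_div hXpos.ne' h2s⟩

end psp

end Cfsg.Agent.Lib.H12.BC
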