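import Mathlib
import Cfsg.Agent.Lib.H12.BCCaseAB
import Cfsg.Agent.Lib.H12.BCBuild
import Cfsg.Agent.Lib.H12.BCCount

/-!
# Case `2 s`, from the orthogonal to the symplectic side (helper12)
-/

set_option autoImplicit false
set_option linter.unusedSectionVars false
set_option maxHeartbeats 1600000

namespace Cfsg.Agent.Lib.H12.BC

open Module Matrix
open Cfsg.Agent.Lib.H12.SpSemi Cfsg.Agent.Lib.H12.PSpG Cfsg.Agent.Lib.H12.Semi
  Cfsg.Agent.Lib.H12.PGraph
open Cfsg.Agent.Lib.H11.IsoReindex

universe u
variable {F : Type u} [Field F] [Fintype F] {ι : Type} [Fintype ι] [DecidableEq ι]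

theorem coprime_four_mul_card (p : ℕ) [Fact p.Prime] [CharP F p] (h2 : (2 : F) ≠ 0) (s : ℕ)
    (hs : s.Prime) (hsp : s ≠ p) : Nat.Coprime (4 * s) (Fintype.card F) := by
  have hp : p.Prime := Fact.out
  have hp2 : p ≠ 2 := by
    rintro rfl
    apply h2
    have := CharP.cast_eq_zero F 2
    exact_mod_cast this
  obtain ⟨e, he⟩ := FiniteField.card F p
  rw [he.2]
  apply Nat.Coprime.pow_right
  apply Nat.Coprime.mul_left
  · have : Nat.Coprime (2 ^ 2) p :=
      Nat.Coprime.pow_left 2 ((Nat.coprime_primes Nat.prime_two hp).2 (Ne.symm hp2))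
    exact this
  · exact (Nat.coprime_primes hs hp).2 hsp

/-- **orthogonal to symplectic, order `2 s`** -/
theorem psp_of_omega_two_mul (p : ℕ) [Fact p.Prime] [CharP F p] (h2 : (2 : F) ≠ 0)
    (Q : QuadraticForm F (ι → F)) (hQ : (QuadraticMap.polarBilin Q).Nondegenerate) {n : ℕ}
    (hn : 1 ≤ n) (hcard : Fintype.card ι = 2 * n + 1)
    (a : ↥(Cfsg.isometryGroup F ⇑Q)) (ha : a ∈ Cfsg.Omega F ⇑Q) (s : ℕ) (hs : s.Prime)
    (hs2 : s ≠ 2) (hsp : s ≠ p) (hord : orderOf a = 2 * s) :
    ∃ x : Cfsg.PSp n F, orderOf x = 2 * s := by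
  classical
  have hp : p.Prime := Fact.out
  have hsF : (s : F) ≠ 0 := natCast_ne_zero_of_ne p s hs hsp
  have hodd : Odd s := hs.odd_of_ne_two hs2
  set g : Module.End F (ι → F) := Matrix.toLin' (a : GL ι F).1 with hg
  have hgd : FData (1 : F) (QuadraticMap.polarBilin Q) g := fdata_of_mem Q hQ _ a.2
  have hgpow : ∀ j : ℕ, g ^ j = 1 ↔ a ^ j = 1 := by
    intro j
    rw [hg, toLin'_gl_pow_eq_one_iff, subgroup_pow_eq_one_iff]
  have hg2s : g ^ (2 * s) = 1 := by rw [hgpow, ← hord]; exact pow_orderOf_eq_one a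
  have hgiso : ∀ v, Q (g v) = Q v := by
    intro v
    rw [hg, Matrix.toLin'_apply]
    exact (mem_iso_iff' _ (a : GL ι F)).mp a.2 v
  set x := g ^ 2 with hx
  have hxs : x ^ s = 1 := by rw [hx, ← pow_mul]; exact hg2s
  have hx1 : x ≠ 1 := by
    intro h
    rw [hx, hgpow] at h
    have h3 := orderOf_dvd_of_pow_eq_one h
    rw [hord] at h3
    have h4 := Nat.le_of_dvd (by norm_num) h3
    have h5 := hs.two_le
    omega
  have hfs := Fact.mk hs
  have hordx : orderOf x = s := orderOf_eq_prime hxs hx1
  have hxd : FData (1 : F) (QuadraticMap.polarBilin Q) x := hgd.pow 2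
  have hc : g * x = x * g := by rw [hx, ← pow_succ', ← pow_succ]
  obtain ⟨B', hB'x, hB'g⟩ := exists_twist hxd hgd hc s hxs hsF hodd
  have hspx := hB'x.spData h2
  have hspg := hB'g.spData h2
  have hordxW : orderOf (x.restrict (range_sub_one_invt x rfl) :
      Module.End F (LinearMap.range (x - 1))) = s :=
    (orderOf_restrict_range s hxs hsF).trans hordx
  obtain ⟨w, hw⟩ := even_finrank_of_spData hspx
  have hw' : finrank F (LinearMap.range (x - 1)) = 2 * w := by rw [hw]; ring
  have hfrV : finrank F (ι → F) = 2 * n + 1 := by rw [Module.finrank_fintype_fun_eq_card, hcard]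
  have hWle := Submodule.finrank_le (LinearMap.range (x - 1))
  by_cases hwn : w + 1 ≤ n
  · exact exists_psp_two_mul h2 hw' hwn hspx s hs hs2 hordxW
  have hwn' : w = n := by omega
  rw [hwn'] at hw'
  -- the square of `g` on `W`
  have hgW2s : (g.restrict (range_sub_one_invt g hc) :
      Module.End F (LinearMap.range (x - 1))) ^ (2 * s) = 1 := by
    rw [restrict_pow_eq_one_iff]
    intro v _
    rw [hg2s, Module.End.one_apply]
  have hgW2a : (g.restrict (range_sub_one_invt g hc) :
      Module.End F (LinearMap.range (x - 1))) ^ 2 ≠ 1 := by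
    rw [Ne, restrict_pow_eq_one_iff]
    intro h
    apply hx1
    exact eq_one_of_ker_of_range s hxs hsF x (fun v hv => (mem_ker_sub_one v).1 hv) h
  have hgW2b : (g.restrict (range_sub_one_invt g hc) :
      Module.End F (LinearMap.range (x - 1))) ^ 2 ≠ -1 := by
    rw [Ne, restrict_pow_eq_neg_one_iff]
    intro h
    have h3 : x ^ 2 = 1 := by
      apply eq_one_of_ker_of_range s hxs hsF (x ^ 2)
      · intro v hv
        exact pow_apply_of_fixed x v ((mem_ker_sub_one v).1 hv) 2
      · intro v hv
        rw [pow_two, Module.End.mul_apply, h v hv, map_neg, h v hv, neg_neg]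
    have h4 := orderOf_dvd_of_pow_eq_one h3
    rw [hordx] at h4
    exact hs2 ((Nat.prime_dvd_prime_iff_eq hs Nat.prime_two).1 h4)
  by_cases hA : (g.restrict (range_sub_one_invt g hc) :
      Module.End F (LinearMap.range (x - 1))) ^ s ≠ 1 ∧
      (g.restrict (range_sub_one_invt g hc) :
      Module.End F (LinearMap.range (x - 1))) ^ s ≠ -1
  · apply exists_psp_orderOf hn hw' hspg (2 * s) (by have := hs.pos; omega) (Or.inl hgW2s)
    intro l hl hlm
    rcases prime_dvd_two_mul hl hs hlm with rfl | rfl
    · rw [Nat.mul_div_cancel_left _ (by norm_num : 0 < 2)]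
      exact hA
    · rw [Nat.mul_div_cancel _ hs.pos]
      exact ⟨hgW2a, hgW2b⟩
  -- the involution `t = a ^ s`
  have ht : a ^ s ∈ Cfsg.Omega F ⇑Q := Subgroup.pow_mem _ ha s
  have ht2 : (a ^ s) ^ 2 = 1 := by
    rw [← pow_mul, mul_comm, ← hord]; exact pow_orderOf_eq_one a
  have hT : Matrix.toLin' ((a ^ s : ↥(Cfsg.isometryGroup F ⇑Q)) : GL ι F).1 = g ^ s := by
    rw [hg, ← toLin'_pow_eq, ← gl_pow_val, Subgroup.coe_pow]
  obtain ⟨hev, h4⟩ := involution_omega Q hQ h2 (by omega) (a ^ s) ht ht2
  rw [hT] at hev h4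
  have hT1 : g ^ s ≠ 1 := by
    intro h
    rw [hgpow] at h
    have h3 := orderOf_dvd_of_pow_eq_one h
    rw [hord] at h3
    have h4 := Nat.le_of_dvd hs.pos h3
    have h5 := hs.pos
    omega
  have hkr := finrank_ker_add_range (g ^ s)
  rw [hfrV] at hkr
  have hcases : (g.restrict (range_sub_one_invt g hc) :
      Module.End F (LinearMap.range (x - 1))) ^ s = 1 ∨
      (g.restrict (range_sub_one_invt g hc) :
      Module.End F (LinearMap.range (x - 1))) ^ s = -1 := by
    by_contra hcon
    push Not at hcon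
    exact hA hcon
  rcases hcases with hB | hC
  · -- `g ^ s` is trivial on `W`
    exfalso
    rw [restrict_pow_eq_one_iff] at hB
    have hle : LinearMap.range (x - 1) ≤ LinearMap.ker (g ^ s - 1) := by
      intro v hv
      rw [mem_ker_sub_one]
      exact hB v hv
    have h5 := Submodule.finrank_mono hle
    have h6 : finrank F (LinearMap.range (g ^ s - 1)) ≠ 0 := by
      intro h0
      rw [Submodule.finrank_eq_zero, LinearMap.range_eq_bot] at h0
      exact hT1 (sub_eq_zero.1 h0)
    rcases hev with ⟨e, he⟩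
    omega
  · -- `g ^ s = -1` on `W`
    rw [restrict_pow_eq_neg_one_iff] at hC
    have hle : LinearMap.range (x - 1) ≤ LinearMap.range (g ^ s - 1) := by
      intro v hv
      refine ⟨(-(2 : F)⁻¹) • v, ?_⟩
      rw [map_smul, LinearMap.sub_apply, Module.End.one_apply, hC v hv]
      have : -v - v = (-2 : F) • v := by rw [neg_smul, two_smul]; abel
      rw [this, smul_smul]
      have : -(2 : F)⁻¹ * -2 = 1 := by field_simp
      rw [this, one_smul]
    have h5 := Submodule.finrank_mono hle
    have hEW : LinearMap.range (x - 1) = LinearMap.range (g ^ s - 1) := by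
      apply Submodule.eq_of_le_of_finrank_eq hle
      rcases hev with ⟨e, he⟩
      have := Submodule.finrank_le (LinearMap.range (g ^ s - 1))
      omega
    rw [← hEW] at h4
    -- fixed-point-free action of `x`
    have hsN : s ∣ Nat.card {v : LinearMap.range (x - 1) // Q v.1 = 1} := by
      have h6 := dvd_card_of_fpf_end x s hxs {v : ι → F | v ∈ LinearMap.range (x - 1) ∧ Q v = 1}
        (by
          intro v hv
          refine ⟨range_sub_one_invt x rfl v hv.1, ?_⟩
          rw [hx, pow_two, Module.End.mul_apply, hgiso, hgiso]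
          exact hv.2)
        (by
          intro v hv hfix
          have h0 := eq_zero_of_fixed_of_mem_range x s hxs hsF v hv.1 hfix
          have h1 := hv.2
          rw [h0, map_zero] at h1
          exact zero_ne_one h1)
      have e : ({v : ι → F | v ∈ LinearMap.range (x - 1) ∧ Q v = 1} : Set (ι → F)) ≃
          {v : LinearMap.range (x - 1) // Q v.1 = 1} :=
        { toFun := fun v => ⟨⟨v.1, v.2.1⟩, v.2.2⟩
          invFun := fun v => ⟨v.1.1, v.1.2, v.2⟩
          left_inv := fun v => rfl
          right_inv := fun v => rfl }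
      rw [← Nat.card_congr e]
      exact h6
    -- the quadratic form on `W`
    set QW : QuadraticForm F (LinearMap.range (x - 1)) :=
      Q.comp (LinearMap.range (x - 1)).subtype with hQW
    have hpol : ∀ u v : LinearMap.range (x - 1),
        QuadraticMap.polarBilin QW u v = QuadraticMap.polarBilin Q u.1 v.1 := fun u v => rfl
    have hndW := nd_range' hxd s hxs hsF
    have hQWnd : (QuadraticMap.polarBilin QW).Nondegenerate := by
      constructor
      · intro u hu
        apply Subtype.ext
        apply hndW u.1 u.2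
        intro y hy
        have := hu ⟨y, hy⟩
        rw [hpol] at this
        exact this
      · intro u hu
        apply Subtype.ext
        apply hndW u.1 u.2
        intro y hy
        have := hu ⟨y, hy⟩
        rw [hpol, QuadraticMap.polarBilin_apply_apply, QuadraticMap.polar_comm] at this
        rw [QuadraticMap.polarBilin_apply_apply]
        exact this
    have hlev := card_level_one QW hQWnd hn hw'
    have hlev' : ((Fintype.card F : ℤ) *
        (Nat.card {v : LinearMap.range (x - 1) // Q v.1 = 1} : ℤ) =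
          (Fintype.card F : ℤ) ^ (2 * n) - (Fintype.card F : ℤ) ^ n) ∨
        ((Fintype.card F : ℤ) * (Nat.card {v : LinearMap.range (x - 1) // Q v.1 = 1} : ℤ) =
          (Fintype.card F : ℤ) ^ (2 * n) + (Fintype.card F : ℤ) ^ n) := hlev
    rcases four_mul_dvd_of_card hs hs2 (coprime_four_mul_card p h2 s hs hsp) h4 hsN hlev' with
      h7 | h7
    · exact psp_of_hasOrd_four n hn s hs.pos (hasOrd_of_dvd_sub_one n hn (4 * s) h7)
    · exact psp_of_hasOrd_four n hn s hs.pos (hasOrd_of_dvd_add_one p n hn (4 * s) h7)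

end Cfsg.Agent.Lib.H12.BC
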