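import Mathlib
import Cfsg.Agent.Lib.H12.BCCaseC1
import Cfsg.Agent.Lib.H12.BCCaseC2

/-!
# `PΩ_{2n+1}(q)` and `PSp_{2n}(q)` have the same prime graph: assembly (helper12)
-/

set_option autoImplicit false
set_option linter.unusedSectionVars false

namespace Cfsg.Agent.Lib.H12.BC

open Module Matrix
open Cfsg.Agent.Lib.H12.SpSemi Cfsg.Agent.Lib.H12.PSpG Cfsg.Agent.Lib.H12.Semi
  Cfsg.Agent.Lib.H12.PGraph

universe u
variable {F : Type u} [Field F] [Fintype F]

/-- `Ω_{2n+1}(q)` has an element of order `m` iff `PSp_{2n}(q)` has one -/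
def OS (F : Type u) [Field F] (n m : ℕ) : Prop :=
  (∃ a : ↥(Cfsg.isometryGroup F (Cfsg.quadFormOdd n F)),
      a ∈ Cfsg.Omega F (Cfsg.quadFormOdd n F) ∧ orderOf a = m) ↔
    (∃ x : Cfsg.PSp n F, orderOf x = m)

/-- odd order prime to the characteristic -/
theorem caseA (h2 : (2 : F) ≠ 0) (n : ℕ) (hn : 1 ≤ n) (m : ℕ) (hodd : Odd m)
    (hm : (m : F) ≠ 0) : OS F n m := by
  constructor
  · rintro ⟨a, -, hord⟩
    obtain ⟨V, _, _, _, B, g, hfd, hfr, hg⟩ := OHas.of_mem h2 n a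
    rw [hord] at hg
    have h := hasOrd_of_fdata_odd h2 hfd hg hodd hm hfr.le
    exact psp_of_hasOrd n hn m h (Or.inl hodd)
  · rintro ⟨x, hord⟩
    have h := hasOrd_of_psp n x
    rw [hord] at h
    obtain ⟨A, -, hsp, hg⟩ := exists_end_of_hasOrd h
    have hO := oHas_of_spData_odd hsp hg hodd hm
    have hle := Submodule.finrank_le (LinearMap.range (Matrix.toLin' A.1 - 1))
    rw [finrank_std] at hle
    exact (hO.mono (by omega : _ ≤ 2 * n + 1)).exists_omega_of_odd h2 hodd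

/-- order `r p` -/
theorem caseB (p : ℕ) [Fact p.Prime] [CharP F p] (h2 : (2 : F) ≠ 0) (hp2 : p ≠ 2) (n : ℕ)
    (hn : 1 ≤ n) (r : ℕ) (hr : r.Prime) (hr2 : r ≠ 2) (hrp : r ≠ p) : OS F n (r * p) := by
  have hp : p.Prime := Fact.out
  have hodd : Odd (r * p) := (hr.odd_of_ne_two hr2).mul (hp.odd_of_ne_two hp2)
  constructor
  · rintro ⟨a, -, hord⟩
    obtain ⟨V, _, _, _, B, g, hfd, hfr, hg⟩ := OHas.of_mem h2 n a
    rw [hord] at hg
    have h := hasOrd_of_fdata_rp p h2 hfd hr hr2 hrp hg hfr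
    exact psp_of_hasOrd n hn _ h (Or.inl hodd)
  · rintro ⟨x, hord⟩
    have h := hasOrd_of_psp n x
    rw [hord] at h
    obtain ⟨A, -, hsp, hg⟩ := exists_end_of_hasOrd h
    have hO := oHas_of_spData_rp p hp2 hsp hr hr2 hrp hg (finrank_std n)
    exact hO.exists_omega_of_odd h2 hodd

/-- order `2 s` -/
theorem caseC (p : ℕ) [Fact p.Prime] [CharP F p] (h2 : (2 : F) ≠ 0) (n : ℕ)
    (hn : 1 ≤ n) (s : ℕ) (hs : s.Prime) (hs2 : s ≠ 2) (hsp : s ≠ p) : OS F n (2 * s) := by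
  constructor
  · rintro ⟨a, ha, hord⟩
    have key : ∀ a : ↥(Cfsg.isometryGroup F ⇑(Cfsg.Agent.S0286.oddQF F n)),
        a ∈ Cfsg.Omega F ⇑(Cfsg.Agent.S0286.oddQF F n) → orderOf a = 2 * s →
          ∃ x : Cfsg.PSp n F, orderOf x = 2 * s :=
      fun a ha hord => psp_of_omega_two_mul p h2 (Cfsg.Agent.S0286.oddQF F n) (nondeg_odd h2 n)
        hn (card_idx n) a ha s hs hs2 hsp hord
    rw [Cfsg.Agent.S0286.coe_oddQF] at key
    exact key a ha hord
  · rintro ⟨x, hord⟩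
    obtain ⟨g, hsp', hpow⟩ := exists_of_psp hn x
    have hs3 : 3 ≤ s := by
      have := hs.two_le
      omega
    have h1 : g ^ (2 * s) = 1 ∨ g ^ (2 * s) = -1 := by
      rw [← hpow, ← hord]
      exact pow_orderOf_eq_one x
    have hgs : g ^ s ≠ 1 ∧ g ^ s ≠ -1 := by
      have : ¬ (g ^ s = 1 ∨ g ^ s = -1) := by
        rw [← hpow]
        intro h
        have h3 := orderOf_dvd_of_pow_eq_one h
        rw [hord] at h3
        have := Nat.le_of_dvd hs.pos h3
        omega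
      tauto
    have hg2 : g ^ 2 ≠ 1 ∧ g ^ 2 ≠ -1 := by
      have : ¬ (g ^ 2 = 1 ∨ g ^ 2 = -1) := by
        rw [← hpow]
        intro h
        have h3 := orderOf_dvd_of_pow_eq_one h
        rw [hord] at h3
        have := Nat.le_of_dvd (by norm_num) h3
        omega
      tauto
    exact omega_of_spData_two_mul p h2 (finrank_std n) hsp' s hs hs2 hsp h1 hgs hg2

/-- order `2 p` -/
theorem caseD (p : ℕ) [Fact p.Prime] [CharP F p] (h2 : (2 : F) ≠ 0) (hp2 : p ≠ 2) (n : ℕ)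
    (hn : 2 ≤ n) : OS F n (2 * p) := by
  have hp : p.Prime := Fact.out
  have hl : ∃ a : ↥(Cfsg.isometryGroup F (Cfsg.quadFormOdd n F)),
      a ∈ Cfsg.Omega F (Cfsg.quadFormOdd n F) ∧ orderOf a = 2 * p :=
    OHas.exists_omega_two_mul h2 (hp.odd_of_ne_two hp2) (OHas.unip p hp2) (by omega)
  have hr : ∃ x : Cfsg.PSp n F, orderOf x = 2 * p := by
    obtain ⟨A, -, hsp, hg⟩ := exists_end_of_hasOrd (hasOrd_char (F := F) p)
    exact exists_psp_two_mul h2 (finrank_std 1) (by omega) hsp p hp hp2 hg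
  exact ⟨fun _ => hr, fun _ => hl⟩

/-- **assembly** -/
theorem os_main (hodd : Odd (Fintype.card F)) (n : ℕ) (hn : 3 ≤ n) (r s : ℕ) (hr : r.Prime)
    (hs : s.Prime) (hrs : r ≠ s) : OS F n (r * s) := by
  have h2 : (2 : F) ≠ 0 := Cfsg.Agent.S0286.two_ne_zero_of_odd hodd
  obtain ⟨p, hchar⟩ := CharP.exists F
  have hp : p.Prime := CharP.char_is_prime F p
  have := Fact.mk hp
  have hp2 : p ≠ 2 := by
    rintro rfl
    apply h2
    have := CharP.cast_eq_zero F 2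
    exact_mod_cast this
  by_cases hr2 : r = 2
  · subst hr2
    by_cases hsp : s = p
    · subst hsp
      exact caseD s h2 hp2 n (by omega)
    · exact caseC p h2 n (by omega) s hs (Ne.symm hrs) hsp
  by_cases hs2 : s = 2
  · subst hs2
    rw [mul_comm]
    by_cases hrp : r = p
    · subst hrp
      exact caseD r h2 hp2 n (by omega)
    · exact caseC p h2 n (by omega) r hr hr2 hrp
  by_cases hsp : s = p
  · subst hsp
    exact caseB s h2 hp2 n (by omega) r hr hr2 hrs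
  by_cases hrp : r = p
  · subst hrp
    rw [mul_comm]
    exact caseB r h2 hp2 n (by omega) s hs hs2 (Ne.symm hrs)
  apply caseA h2 n (by omega) (r * s) ((hr.odd_of_ne_two hr2).mul (hs.odd_of_ne_two hs2))
  rw [Nat.cast_mul]
  exact mul_ne_zero (natCast_ne_zero_of_ne p r hr hrp) (natCast_ne_zero_of_ne p s hs hsp)

/-- the statement for `PΩ` -/
theorem pomega_psp_iff (hodd : Odd (Fintype.card F)) (n : ℕ) (hn : 3 ≤ n) (r s : ℕ)
    (hr : r.Prime) (hs : s.Prime) (hrs : r ≠ s) :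
    (r * s ∈ Set.range (orderOf : Cfsg.POmega F (Cfsg.quadFormOdd n F) → ℕ)) ↔
      (r * s ∈ Set.range (orderOf : Cfsg.PSp n F → ℕ)) := by
  have h2 : (2 : F) ≠ 0 := Cfsg.Agent.S0286.two_ne_zero_of_odd hodd
  have hos := os_main hodd n hn r s hr hs hrs
  rw [Set.mem_range, Set.mem_range]
  constructor
  · rintro ⟨x, hx⟩
    obtain ⟨a, ha, hord⟩ := exists_of_pomega h2 n hn x
    exact hos.1 ⟨a, ha, hord.trans hx⟩
  · intro h
    obtain ⟨a, ha, hord⟩ := hos.2 h
    obtain ⟨x, hx⟩ := exists_pomega_orderOf h2 n hn a ha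
    exact ⟨x, hx.trans hord⟩

end Cfsg.Agent.Lib.H12.BC
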