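import Mathlib
import Cfsg.Agent.Lib.H12.BCCaseAB

/-!
# Auxiliary lemmas for the difference of the spectra of `B_n(q)` and `C_n(q)` (helper12)
-/

set_option autoImplicit false
set_option linter.unusedSectionVars false

namespace Cfsg.Agent.Lib.H12.BC

open Module Polynomial
open Cfsg.Agent.Lib.H12.SpSemi Cfsg.Agent.Lib.H12.PSpG Cfsg.Agent.Lib.H12.Semi
  Cfsg.Agent.Lib.H12.PGraph

universe u v
variable {F : Type u} [Field F] {V : Type v} [AddCommGroup V] [Module F V]
variable {ε : F} {B : LinearMap.BilinForm F V} {T k : Module.End F V}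

section findim

variable [FiniteDimensional F V]

/-- ranks add up along an invariant decomposition -/
theorem finrank_range_add {P R : Submodule F V} (hc : IsCompl P R) (f : Module.End F V)
    (hP : ∀ v ∈ P, f v ∈ P) (hR : ∀ v ∈ R, f v ∈ R) :
    finrank F (LinearMap.range f) =
      finrank F (LinearMap.range (f.restrict hP)) + finrank F (LinearMap.range (f.restrict hR)) := by
  have h1 : LinearMap.range f = P.map f ⊔ R.map f := by
    rw [← Submodule.map_sup, hc.sup_eq_top, Submodule.map_top]
  have hd : Disjoint (P.map f) (R.map f) := by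
    apply hc.disjoint.mono
    · rintro _ ⟨v, hv, rfl⟩; exact hP v hv
    · rintro _ ⟨v, hv, rfl⟩; exact hR v hv
  have h2 : finrank F (P.map f ⊔ R.map f : Submodule F V) =
      finrank F (P.map f) + finrank F (R.map f) := by
    have := Submodule.finrank_sup_add_finrank_inf_eq (P.map f) (R.map f)
    rw [hd.eq_bot, finrank_bot, add_zero] at this
    exact this
  have h3 : ∀ (S : Submodule F V) (hS : ∀ v ∈ S, f v ∈ S),
      finrank F (LinearMap.range (f.restrict hS)) = finrank F (S.map f) := by
    intro S hS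
    have : (LinearMap.range (f.restrict hS)).map S.subtype = S.map f := by
      ext v
      constructor
      · rintro ⟨_, ⟨w, rfl⟩, rfl⟩
        exact ⟨w.1, w.2, rfl⟩
      · rintro ⟨w, hw, rfl⟩
        exact ⟨f.restrict hS ⟨w, hw⟩, ⟨⟨w, hw⟩, rfl⟩, rfl⟩
    rw [← this]
    exact (Submodule.equivMapOfInjective S.subtype S.injective_subtype _).finrank_eq
  rw [h1, h2, h3 P hP, h3 R hR]

/-- the fixed space `C_V(T)` is non-degenerate -/
theorem nd_ker' (h : FData ε B T) (m : ℕ) (hT : T ^ m = 1) (hm : (m : F) ≠ 0) :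
    ∀ x ∈ LinearMap.ker (T - 1), (∀ y ∈ LinearMap.ker (T - 1), B x y = 0) → x = 0 := by
  intro x hx hxy
  apply h.nd
  intro w
  have hc := isCompl_ker_range (T := T) m hT hm
  have hw : w ∈ LinearMap.ker (T - 1) ⊔ LinearMap.range (T - 1) := by
    rw [hc.sup_eq_top]; exact Submodule.mem_top
  obtain ⟨a, ha, b, hb, rfl⟩ := Submodule.mem_sup.1 hw
  obtain ⟨z, rfl⟩ := hb
  rw [map_add, hxy a ha, fix_ortho_range' h ((mem_ker_sub_one x).1 hx) z, add_zero]

/-- `T - 1` is surjective on `[V, T]` -/
theorem restrict_sub_one_surjective (m : ℕ) (hT : T ^ m = 1) (hm : (m : F) ≠ 0) :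
    Function.Surjective ((T.restrict (range_sub_one_invt T rfl) :
      Module.End F (LinearMap.range (T - 1))) -
        (1 : Module.End F (LinearMap.range (T - 1)))) := by
  apply LinearMap.surjective_of_injective
  rw [injective_iff_map_eq_zero]
  intro w hw
  have h1 : T (w : V) = (w : V) := by
    have := congrArg Subtype.val hw
    simp only [LinearMap.sub_apply, Module.End.one_apply,
      LinearMap.coe_restrict_apply, Submodule.coe_sub, ZeroMemClass.coe_zero] at this
    exact sub_eq_zero.1 this
  apply Subtype.ext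
  exact eq_zero_of_fixed_of_mem_range T m hT hm _ w.2 h1

theorem restrict_range_eq_top (m : ℕ) (hT : T ^ m = 1) (hm : (m : F) ≠ 0) :
    LinearMap.range ((T.restrict (range_sub_one_invt T rfl) :
      Module.End F (LinearMap.range (T - 1))) -
        (1 : Module.End F (LinearMap.range (T - 1)))) = ⊤ :=
  LinearMap.range_eq_top.2 (restrict_sub_one_surjective m hT hm)

/-- a unipotent isometry of a non-degenerate symmetric plane is trivial -/
theorem unipotent_eq_one_of_finrank_two (h2 : (2 : F) ≠ 0) (h : FData (1 : F) B T)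
    (hfr : finrank F V = 2) (hnil : IsNilpotent (T - 1)) : T = 1 := by
  by_contra hT1
  set N := T - 1 with hN
  have hN0 : N ≠ 0 := sub_ne_zero.2 hT1
  have hN2 : N ^ 2 = 0 := by
    have h1 := IsNilpotent.charpoly_eq_X_pow_finrank hnil
    have h3 := LinearMap.aeval_self_charpoly N
    rw [h1, hfr, map_pow, aeval_X] at h3
    exact h3
  have hTN : ∀ y, T y = y + N y := by
    intro y
    rw [hN, LinearMap.sub_apply, Module.End.one_apply]
    abel
  have hNN : ∀ y, N (N y) = 0 := by
    intro y
    have := congrArg (fun f : Module.End F V => f y) hN2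
    simpa [pow_two] using this
  have hfix : ∀ y, T (N y) = N y := by
    intro y
    rw [hTN, hNN, add_zero]
  have hNNB : ∀ y z, B (N y) (N z) = 0 := fun y z => fix_ortho_range' h (hfix y) z
  have hstar : ∀ y z, B y (N z) + B (N y) z = 0 := by
    intro y z
    have h1 := h.iso y z
    rw [hTN, hTN, map_add, map_add, LinearMap.add_apply, LinearMap.add_apply, hNNB] at h1
    linear_combination h1
  have hsym : ∀ y z, B z y = B y z := fun y z => by rw [h.sym y z, one_mul]
  -- kernel and range of `N` are one-dimensional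
  have hrk := LinearMap.finrank_range_add_finrank_ker N
  rw [hfr] at hrk
  have hle : LinearMap.range N ≤ LinearMap.ker N := by
    rintro _ ⟨y, rfl⟩
    exact LinearMap.mem_ker.2 (hNN y)
  have hle' := Submodule.finrank_mono hle
  have hpos : 0 < finrank F (LinearMap.range N) := by
    rw [Module.finrank_pos_iff_exists_ne_zero]
    obtain ⟨v, hv⟩ : ∃ v, N v ≠ 0 := by
      by_contra hcon
      push Not at hcon
      exact hN0 (LinearMap.ext hcon)
    exact ⟨⟨N v, v, rfl⟩, fun h => hv (congrArg Subtype.val h)⟩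
  have hker1 : finrank F (LinearMap.ker N) = 1 := by omega
  obtain ⟨v, hv⟩ : ∃ v, N v ≠ 0 := by
    by_contra hcon
    push Not at hcon
    exact hN0 (LinearMap.ext hcon)
  have hvv : B v (N v) = 0 := by
    have h1 := hstar v v
    rw [hsym v (N v)] at h1
    have h3 : (2 : F) * B v (N v) = 0 := by linear_combination h1
    rcases mul_eq_zero.1 h3 with h4 | h4
    · exact absurd h4 h2
    · exact h4
  apply hv
  apply h.nd_right
  intro y
  -- `N y` is a multiple of `N v`
  obtain ⟨w₀, hw₀, hspan⟩ := finrank_eq_one_iff'.1 hker1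
  obtain ⟨c, hc⟩ := hspan ⟨N y, LinearMap.mem_ker.2 (hNN y)⟩
  obtain ⟨d, hd⟩ := hspan ⟨N v, LinearMap.mem_ker.2 (hNN v)⟩
  have hc' : N y = c • (w₀ : V) := by
    have := congrArg Subtype.val hc
    simpa using this.symm
  have hd' : N v = d • (w₀ : V) := by
    have := congrArg Subtype.val hd
    simpa using this.symm
  have hd0 : d ≠ 0 := by
    rintro rfl
    rw [zero_smul] at hd'
    exact hv hd'
  have hNy : N y = (c * d⁻¹) • N v := by
    rw [hd', smul_smul, mul_assoc, inv_mul_cancel₀ hd0, mul_one, hc']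
  have h1 := hstar y v
  rw [hNy, map_smul, LinearMap.smul_apply, smul_eq_mul, hsym v (N v), hvv, mul_zero,
    add_zero] at h1
  exact h1

theorem isNilpotent_sub_one_of_pow_char (p : ℕ) [Fact p.Prime] [CharP F p] (hT : T ^ p = 1) :
    IsNilpotent (T - 1) := by
  refine ⟨p, ?_⟩
  have h1 : ((X : F[X]) - 1) ^ p = X ^ p - 1 := by
    rw [sub_pow_char, one_pow]
  have h3 := congrArg (fun P : F[X] => aeval T P) h1
  simp only [map_pow, map_sub, aeval_X, map_one] at h3
  rw [h3, hT, sub_self]

theorem unipotent_eq_one_of_finrank_two' (p : ℕ) [Fact p.Prime] [CharP F p] (h2 : (2 : F) ≠ 0)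
    (h : FData (1 : F) B T) (hfr : finrank F V = 2) (hT : T ^ p = 1) : T = 1 :=
  unipotent_eq_one_of_finrank_two h2 h hfr (isNilpotent_sub_one_of_pow_char p hT)

end findim

section finite

variable [Fintype F] [FiniteDimensional F V]

/-- `2 η(k)` divides the dimension of `[V, T]` for an orthogonal isometry `T` of odd prime order -/
theorem two_eta_dvd_orth {V : Type u} [AddCommGroup V] [Module F V] [FiniteDimensional F V]
    {B : LinearMap.BilinForm F V} {T : Module.End F V} (h2 : (2 : F) ≠ 0)
    (h : FData (1 : F) B T) (r : ℕ) [Fact r.Prime] (hr2 : r ≠ 2)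
    (hT : T ^ r = 1) (hr : (r : F) ≠ 0)
    {k η : ℕ} (hk : k = orderOf ((Fintype.card F : ℕ) : ZMod r)) (hη : IsEta k η) :
    2 * η ∣ finrank F (LinearMap.range (T - 1)) := by
  have h1 : k ∣ finrank F (LinearMap.range (T - 1)) := by
    rw [hk]
    exact orderOf_dvd_finrank T r hT hr _ le_rfl (range_sub_one_invt T rfl)
  obtain ⟨B', hB', -⟩ := exists_twist h h rfl r hT hr ((Fact.out : r.Prime).odd_of_ne_two hr2)
  have hev := even_finrank_of_spData (hB'.spData h2)
  rcases hη with ⟨hodd, rfl⟩ | ⟨_, h2η⟩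
  · have hcop : Nat.Coprime 2 η := by
      rw [Nat.coprime_comm, Nat.coprime_two_right]
      exact hodd
    exact hcop.mul_dvd_of_dvd_of_dvd hev.two_dvd h1
  · rw [h2η]; exact h1

/-- the same for a symplectic isometry and an invariant non-degenerate subspace given as
`[V, S]` for a commuting involution -/
theorem two_eta_dvd_of_le {V : Type u} [AddCommGroup V] [Module F V] [FiniteDimensional F V]
    {B : LinearMap.BilinForm F V} {T S : Module.End F V} (h2 : (2 : F) ≠ 0)
    (h : FData (-1 : F) B T) (hS : FData (-1 : F) B S) (hc : T * S = S * T) (hS2 : S ^ 2 = 1)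
    (r : ℕ) [Fact r.Prime]
    (hT : T ^ r = 1) (hr : (r : F) ≠ 0) (htop : LinearMap.range (T - 1) = ⊤)
    {k η : ℕ} (hk : k = orderOf ((Fintype.card F : ℕ) : ZMod r)) (hη : IsEta k η) :
    2 * η ∣ finrank F (LinearMap.range (S - 1)) := by
  have h2F : ((2 : ℕ) : F) ≠ 0 := by exact_mod_cast h2
  have h1 : k ∣ finrank F (LinearMap.range (S - 1)) := by
    rw [hk]
    exact orderOf_dvd_finrank T r hT hr _ (by rw [htop]; exact le_top) (range_sub_one_invt T hc)
  have hfd := FData.restrict_range hS h hc 2 hS2 h2F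
  have hev := even_finrank_of_spData (hfd.spData h2)
  rcases hη with ⟨hodd, rfl⟩ | ⟨_, h2η⟩
  · have hcop : Nat.Coprime 2 η := by
      rw [Nat.coprime_comm, Nat.coprime_two_right]
      exact hodd
    exact hcop.mul_dvd_of_dvd_of_dvd hev.two_dvd h1
  · rw [h2η]; exact h1

end finite

end Cfsg.Agent.Lib.H12.BC
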