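import Mathlib
import Cfsg.Agent.Lib.H12.BCBuild

/-!
# An element of order `2 p r` in `PSp_{2n}(q)` (helper12)
-/

set_option autoImplicit false
set_option linter.unusedSectionVars false

namespace Cfsg.Agent.Lib.H12.BC

open Module
open Cfsg.Agent.Lib.H12.SpSemi Cfsg.Agent.Lib.H12.PSpG Cfsg.Agent.Lib.H12.Semi

universe u
variable {F : Type u} [Field F] [Fintype F]

theorem prime_dvd_two_mul_mul {l p r : ℕ} (hl : l.Prime) (hp : p.Prime) (hr : r.Prime)
    (h : l ∣ 2 * p * r) : l = 2 ∨ l = p ∨ l = r := by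
  rcases (Nat.Prime.dvd_mul hl).1 h with h1 | h1
  · rcases (Nat.Prime.dvd_mul hl).1 h1 with h3 | h3
    · left; exact (Nat.prime_dvd_prime_iff_eq hl Nat.prime_two).1 h3
    · right; left; exact (Nat.prime_dvd_prime_iff_eq hl hp).1 h3
  · right; right; exact (Nat.prime_dvd_prime_iff_eq hl hr).1 h1

/-- `x` of odd prime order `r ≠ p` in dimension `2 η`, a transvection and `-1` in dimension 2 -/
theorem exists_psp_two_p_r (p : ℕ) [Fact p.Prime] [CharP F p] (h2 : (2 : F) ≠ 0) (hp2 : p ≠ 2)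
    {n η : ℕ} (hηn : η + 1 = n) (hη1 : 1 ≤ η) (r : ℕ) (hr : r.Prime) (hr2 : r ≠ 2) (hrp : r ≠ p)
    (h : HasOrd F η r) : ∃ X : Cfsg.PSp n F, orderOf X = 2 * p * r := by
  have hp : p.Prime := Fact.out
  obtain ⟨A, -, hspx, hox⟩ := exists_end_of_hasOrd h
  obtain ⟨A', -, hspu, hou⟩ := exists_end_of_hasOrd (hasOrd_char (F := F) p)
  set x := Matrix.toLin' A.1 with hx
  set u := Matrix.toLin' A'.1 with hu
  have hxr : x ^ r = 1 := by rw [← hox]; exact pow_orderOf_eq_one x
  have hup : u ^ p = 1 := by rw [← hou]; exact pow_orderOf_eq_one u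
  have hspnu : SpData (stdForm 1 F) (-u) := ⟨hspu.alt, hspu.nd, fun a b => by
    simp only [LinearMap.neg_apply, map_neg, neg_neg]
    exact hspu.iso a b⟩
  have hnt1 : Nontrivial (Fin η ⊕ Fin η → F) := by
    obtain ⟨i⟩ : Nonempty (Fin η) := ⟨⟨0, hη1⟩⟩
    refine ⟨⟨fun _ => 1, 0, ?_⟩⟩
    intro h
    have := congrFun h (Sum.inl i)
    simp at this
  have hnt2 : Nontrivial (Fin 1 ⊕ Fin 1 → F) := by
    refine ⟨⟨fun _ => 1, 0, ?_⟩⟩
    intro h
    have := congrFun h (Sum.inl 0)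
    simp at this
  set g : Module.End F ((Fin η ⊕ Fin η → F) × (Fin 1 ⊕ Fin 1 → F)) := x.prodMap (-u) with hg
  have hsp : SpData (sumForm (stdForm η F) (stdForm 1 F)) g := spData_sum hspx hspnu
  have hfr : finrank F ((Fin η ⊕ Fin η → F) × (Fin 1 ⊕ Fin 1 → F)) = 2 * n := by
    rw [Module.finrank_prod, finrank_std, finrank_std]
    omega
  have hpow : ∀ j : ℕ, g ^ j = (x ^ j).prodMap ((-u) ^ j) := fun j => prodMap_pow_eq _ _ j
  have hxne : ∀ j : ℕ, ¬ r ∣ j → x ^ j ≠ 1 := by
    intro j hj h1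
    apply hj
    rw [← hox]
    exact orderOf_dvd_of_pow_eq_one h1
  have hune : ∀ j : ℕ, ¬ p ∣ j → u ^ j ≠ 1 := by
    intro j hj h1
    apply hj
    rw [← hou]
    exact orderOf_dvd_of_pow_eq_one h1
  have hr3 : 3 ≤ r := by
    have := hr.two_le
    omega
  have hp3 : 3 ≤ p := by
    have := hp.two_le
    omega
  have hnrp : ¬ r ∣ 2 * p := by
    intro hd
    rcases (Nat.Prime.dvd_mul hr).1 hd with h1 | h1
    · exact hr2 ((Nat.prime_dvd_prime_iff_eq hr Nat.prime_two).1 h1)
    · exact hrp ((Nat.prime_dvd_prime_iff_eq hr hp).1 h1)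
  have hnpr : ¬ p ∣ 2 * r := by
    intro hd
    rcases (Nat.Prime.dvd_mul hp).1 hd with h1 | h1
    · exact hp2 ((Nat.prime_dvd_prime_iff_eq hp Nat.prime_two).1 h1)
    · exact hrp ((Nat.prime_dvd_prime_iff_eq hp hr).1 h1).symm
  have e1 : ∀ m : ℕ, (-u) ^ (2 * m) = u ^ (2 * m) := fun m =>
    Even.neg_pow (α := Module.End F (Fin 1 ⊕ Fin 1 → F)) ⟨m, by ring⟩ u
  have e2 : (-u) ^ (p * r) = -(u ^ (p * r)) :=
    Odd.neg_pow (α := Module.End F (Fin 1 ⊕ Fin 1 → F))
      ((hp.odd_of_ne_two hp2).mul (hr.odd_of_ne_two hr2)) u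
  have e3 : u ^ (p * r) = 1 := by rw [pow_mul, hup, one_pow]
  have e4 : x ^ (p * r) = 1 := by rw [mul_comm, pow_mul, hxr, one_pow]
  apply exists_psp_orderOf (by omega) hfr hsp (2 * p * r) (by positivity)
  · left
    rw [hpow, prodMap_eq_one_iff]
    constructor
    · rw [mul_assoc, mul_comm, pow_mul, e4, one_pow]
    · rw [mul_assoc, e1, mul_comm, pow_mul, e3, one_pow]
  · intro l hl hlm
    rcases prime_dvd_two_mul_mul hl hp hr hlm with rfl | rfl | rfl
    · have e : 2 * p * r / 2 = p * r := by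
        rw [mul_assoc]; exact Nat.mul_div_cancel_left _ (by norm_num)
      rw [e, hpow, e2, e3, e4]
      constructor
      · intro h1
        have := ((prodMap_eq_one_iff _ _).1 h1).2
        exact one_ne_neg_one_end h2 this.symm
      · intro h1
        have := ((prodMap_eq_neg_one_iff _ _).1 h1).1
        exact one_ne_neg_one_end h2 this
    · have e : 2 * l * r / l = 2 * r := by
        have : 2 * l * r = 2 * r * l := by ring
        rw [this]; exact Nat.mul_div_cancel _ hl.pos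
      have e5 : x ^ (2 * r) = 1 := by rw [mul_comm, pow_mul, hxr, one_pow]
      rw [e, hpow, e1, e5]
      constructor
      · intro h1
        exact hune _ hnpr ((prodMap_eq_one_iff _ _).1 h1).2
      · intro h1
        have := ((prodMap_eq_neg_one_iff _ _).1 h1).1
        exact one_ne_neg_one_end h2 this
    · have e : 2 * p * l / l = 2 * p := Nat.mul_div_cancel _ hl.pos
      have e5 : u ^ (2 * p) = 1 := by rw [mul_comm, pow_mul, hup, one_pow]
      rw [e, hpow, e1, e5]
      constructor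
      · intro h1
        exact hxne _ hnrp ((prodMap_eq_one_iff _ _).1 h1).1
      · intro h1
        have := ((prodMap_eq_neg_one_iff _ _).1 h1).2
        exact one_ne_neg_one_end h2 this

end Cfsg.Agent.Lib.H12.BC
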