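import Mathlib
import Cfsg.Agent.Lib.H12.BDiffA
import Cfsg.Agent.Lib.H12.BCCaseC2

/-!
# No element of order `2 p r` in `Ω_{2n+1}(q)` for suitable primitive prime divisors `r` (helper12)
-/

set_option autoImplicit false
set_option linter.unusedSectionVars false
set_option maxHeartbeats 3200000
set_option synthInstance.maxHeartbeats 400000

namespace Cfsg.Agent.Lib.H12.BC

open Module Matrix
open Cfsg.Agent.Lib.H12.SpSemi Cfsg.Agent.Lib.H12.PSpG Cfsg.Agent.Lib.H12.Semi
  Cfsg.Agent.Lib.H12.PGraph
open Cfsg.Agent.Lib.H11.IsoReindex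

universe u
variable {F : Type u} [Field F] [Fintype F] {ι : Type} [Fintype ι] [DecidableEq ι]

theorem no_omega_two_p_r (p : ℕ) [Fact p.Prime] [CharP F p] (h2 : (2 : F) ≠ 0)
    (Q : QuadraticForm F (ι → F)) (hQ : (QuadraticMap.polarBilin Q).Nondegenerate) {n : ℕ}
    (hcard : Fintype.card ι = 2 * n + 1) (r : ℕ) [Fact r.Prime] (hr2 : r ≠ 2) (hrp : r ≠ p)
    {k η : ℕ} (hk : k = orderOf ((Fintype.card F : ℕ) : ZMod r)) (hη : IsEta k η)
    (hηn : η + 1 = n) (hη2 : 2 ≤ η)
    (h4a : ¬ 4 * r ∣ Fintype.card F ^ η - 1) (h4b : ¬ 4 * r ∣ Fintype.card F ^ η + 1)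
    (a : ↥(Cfsg.isometryGroup F ⇑Q)) (ha : a ∈ Cfsg.Omega F ⇑Q)
    (hord : orderOf a = 2 * p * r) : False := by
  classical
  have hp : p.Prime := Fact.out
  have hr : r.Prime := Fact.out
  have hp2 : p ≠ 2 := by
    rintro rfl
    apply h2
    have := CharP.cast_eq_zero F 2
    exact_mod_cast this
  have hp3 : 3 ≤ p := by
    have := hp.two_le
    omega
  have hr3 : 3 ≤ r := by
    have := hr.two_le
    omega
  have hrF : (r : F) ≠ 0 := natCast_ne_zero_of_ne p r hr hrp
  have hrodd : Odd r := hr.odd_of_ne_two hr2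
  have h2F : ((2 : ℕ) : F) ≠ 0 := by exact_mod_cast h2
  set g : Module.End F (ι → F) := Matrix.toLin' (a : GL ι F).1 with hg
  have hgd : FData (1 : F) (QuadraticMap.polarBilin Q) g := fdata_of_mem Q hQ _ a.2
  have hgpow : ∀ j : ℕ, g ^ j = 1 ↔ a ^ j = 1 := by
    intro j
    rw [hg, toLin'_gl_pow_eq_one_iff, subgroup_pow_eq_one_iff]
  have hg1 : g ^ (2 * p * r) = 1 := by rw [hgpow, ← hord]; exact pow_orderOf_eq_one a
  have hgne : ∀ j : ℕ, 0 < j → j < 2 * p * r → g ^ j ≠ 1 := by
    intro j hj0 hj h
    rw [hgpow] at h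
    have h3 := orderOf_dvd_of_pow_eq_one h
    rw [hord] at h3
    have := Nat.le_of_dvd hj0 h3
    omega
  have hgiso : ∀ v, Q (g v) = Q v := by
    intro v
    rw [hg, Matrix.toLin'_apply]
    exact (mem_iso_iff' _ (a : GL ι F)).mp a.2 v
  have hcomm : ∀ i j : ℕ, g ^ i * g ^ j = g ^ j * g ^ i := fun i j =>
    ((Commute.refl g).pow_pow i j).eq
  set x := g ^ (2 * p) with hx
  set u := g ^ (2 * r) with hu
  set t := g ^ (p * r) with ht
  have hxr : x ^ r = 1 := by rw [hx, ← pow_mul]; exact hg1
  have hup : u ^ p = 1 := by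
    rw [hu, ← pow_mul]
    have : 2 * r * p = 2 * p * r := by ring
    rw [this]; exact hg1
  have ht2 : t ^ 2 = 1 := by
    rw [ht, ← pow_mul]
    have : p * r * 2 = 2 * p * r := by ring
    rw [this]; exact hg1
  have hx1 : x ≠ 1 := by
    apply hgne (2 * p) (by omega)
    nlinarith
  have hu1 : u ≠ 1 := by
    apply hgne (2 * r) (by omega)
    nlinarith
  have ht1 : t ≠ 1 := by
    apply hgne (p * r) (by positivity)
    nlinarith [Nat.mul_pos hp.pos hr.pos]
  have hxd : FData (1 : F) (QuadraticMap.polarBilin Q) x := hgd.pow _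
  have hud : FData (1 : F) (QuadraticMap.polarBilin Q) u := hgd.pow _
  have htd : FData (1 : F) (QuadraticMap.polarBilin Q) t := hgd.pow _
  have hcgx : g * x = x * g := by
    have := hcomm 1 (2 * p)
    rwa [pow_one] at this
  have hcux : u * x = x * u := hcomm _ _
  have hctx : t * x = x * t := hcomm _ _
  have hcut : u * t = t * u := hcomm _ _
  -- the twisted symplectic structure on `W = [V, x]`
  obtain ⟨B', hB'x, hB'g⟩ := exists_twist hxd hgd hcgx r hxr hrF hrodd
  have hspg := hB'g.spData h2
  have hfrV : finrank F (ι → F) = 2 * n + 1 := by rw [Module.finrank_fintype_fun_eq_card, hcard]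
  have hfrW : finrank F (LinearMap.range (x - 1)) = 2 * η := by
    obtain ⟨c, hc⟩ := two_eta_dvd_orth h2 hxd r hr2 hxr hrF hk hη
    have hpos := finrank_range_pos hx1
    have hle := Submodule.finrank_le (LinearMap.range (x - 1))
    rw [hfrV] at hle
    rcases c with _ | _ | c
    · rw [hc] at hpos; simp at hpos
    · rw [hc]; ring
    · exfalso
      have : 2 * η * 2 ≤ 2 * η * (c + 1 + 1) := Nat.mul_le_mul_left _ (by omega)
      omega
  -- restrictions to `W`
  have hinvW : ∀ j : ℕ, ∀ w ∈ LinearMap.range (x - 1), (g ^ j) w ∈ LinearMap.range (x - 1) :=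
    fun j => range_sub_one_invt (g ^ j) (hcomm _ _)
  have hBpow : ∀ j : ℕ, FData (-1 : F) B' ((g ^ j).restrict (hinvW j)) := by
    intro j
    have := hB'g.pow j
    rw [Module.End.pow_restrict] at this
    exact this
  have hxWd : FData (-1 : F) B' (x.restrict (hinvW (2 * p))) := hBpow _
  have huWd : FData (-1 : F) B' (u.restrict (hinvW (2 * r))) := hBpow _
  have htWd : FData (-1 : F) B' (t.restrict (hinvW (p * r))) := hBpow _
  set xW : Module.End F (LinearMap.range (x - 1)) := x.restrict (hinvW (2 * p)) with hxW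
  set uW : Module.End F (LinearMap.range (x - 1)) := u.restrict (hinvW (2 * r)) with huW
  set tW : Module.End F (LinearMap.range (x - 1)) := t.restrict (hinvW (p * r)) with htW
  have hxWr : xW ^ r = 1 := by
    rw [hxW, restrict_pow_eq_one_iff]
    intro w _
    rw [hxr, Module.End.one_apply]
  have huWp : uW ^ p = 1 := by
    rw [huW, restrict_pow_eq_one_iff]
    intro w _
    rw [hup, Module.End.one_apply]
  have htW2 : tW ^ 2 = 1 := by
    rw [htW, restrict_pow_eq_one_iff]
    intro w _
    rw [ht2, Module.End.one_apply]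
  have hxW1 : xW ≠ 1 := by
    intro h
    apply hx1
    exact eq_one_of_ker_of_range r hxr hrF x (fun v hv => (mem_ker_sub_one v).1 hv)
      (fun v hv => restrict_eq_one_apply x _ h v hv)
  have hcxuW : Commute xW uW := by
    show xW * uW = uW * xW
    rw [hxW, huW, restrict_mul, restrict_mul]
    congr 1
    exact hcux.symm
  have hcxtW : xW * tW = tW * xW := by
    rw [hxW, htW, restrict_mul, restrict_mul]
    congr 1
    exact hctx.symm
  -- `u` is trivial on `W`
  have huW1 : uW = 1 := by
    by_contra hne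
    have hoxW : orderOf xW = r := orderOf_eq_prime hxWr hxW1
    have houW : orderOf uW = p := orderOf_eq_prime huWp hne
    have hco : Nat.Coprime (orderOf xW) (orderOf uW) := by
      rw [hoxW, houW]; exact (Nat.coprime_primes hr hp).2 hrp
    have hoy := hcxuW.orderOf_mul_eq_mul_orderOf_of_coprime hco
    rw [hoxW, houW] at hoy
    have hspy : SpData B' (xW * uW) := (hxWd.mul huWd).spData h2
    have h1 := hasOrd_of_isometry hfrW hspy
    rw [hoy] at h1
    exact no_rp p η r hr2 hrp hk hη le_rfl h1
  have huWfix : ∀ w ∈ LinearMap.range (x - 1), u w = w :=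
    fun w hw => restrict_eq_one_apply u _ huW1 w hw
  -- the fixed space `C`
  have hsum := finrank_ker_add_range x
  rw [hfrV, hfrW] at hsum
  have hfrC : finrank F (LinearMap.ker (x - 1)) = 3 := by omega
  have hndC := nd_ker' hxd r hxr hrF
  have huCinv := ker_sub_one_invt u hcux
  have htCinv := ker_sub_one_invt t hctx
  have huCd := hud.restrict _ huCinv hndC
  have htCd := htd.restrict _ htCinv hndC
  set uC : Module.End F (LinearMap.ker (x - 1)) := u.restrict huCinv with huC
  set tC : Module.End F (LinearMap.ker (x - 1)) := t.restrict htCinv with htC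
  have huC1 : uC ≠ 1 := by
    intro h
    apply hu1
    exact eq_one_of_ker_of_range r hxr hrF u (fun v hv => restrict_eq_one_apply u _ h v hv) huWfix
  have huCp : uC ^ p = 1 := by
    rw [huC, restrict_pow_eq_one_iff]
    intro w _
    rw [hup, Module.End.one_apply]
  have htC2 : tC ^ 2 = 1 := by
    rw [htC, restrict_pow_eq_one_iff]
    intro w _
    rw [ht2, Module.End.one_apply]
  have hcutC : uC * tC = tC * uC := by
    rw [huC, htC, restrict_mul, restrict_mul]
    congr 1
  -- the involution `t` lies in `Ω`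
  have htΩ : a ^ (p * r) ∈ Cfsg.Omega F ⇑Q := Subgroup.pow_mem _ ha _
  have hta2 : (a ^ (p * r)) ^ 2 = 1 := by
    rw [← pow_mul]
    have : p * r * 2 = 2 * p * r := by ring
    rw [this, ← hord]; exact pow_orderOf_eq_one a
  have hT : Matrix.toLin' ((a ^ (p * r) : ↥(Cfsg.isometryGroup F ⇑Q)) : GL ι F).1 = t := by
    rw [ht, hg, ← toLin'_pow_eq, ← gl_pow_val, Subgroup.coe_pow]
  obtain ⟨hev, h4⟩ := involution_omega Q hQ h2 (by omega) (a ^ (p * r)) htΩ hta2
  rw [hT] at hev h4
  -- dimensions
  have hPinv : ∀ v ∈ LinearMap.ker (x - 1), (t - 1) v ∈ LinearMap.ker (x - 1) :=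
    fun v hv => Submodule.sub_mem _ (htCinv v hv) hv
  have hRinv : ∀ v ∈ LinearMap.range (x - 1), (t - 1) v ∈ LinearMap.range (x - 1) :=
    fun v hv => Submodule.sub_mem _ (hinvW (p * r) v hv) hv
  have hadd := finrank_range_add (isCompl_ker_range (T := x) r hxr hrF) (t - 1) hPinv hRinv
  have heC : (t - 1).restrict hPinv = tC - 1 := by
    apply LinearMap.ext
    intro w
    apply Subtype.ext
    rfl
  have heW : (t - 1).restrict hRinv = tW - 1 := by
    apply LinearMap.ext
    intro w
    apply Subtype.ext
    rfl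
  rw [heC, heW] at hadd
  have hdW : 2 * η ∣ finrank F (LinearMap.range (tW - 1)) :=
    two_eta_dvd_of_le h2 hxWd htWd hcxtW htW2 r hxWr hrF
      (restrict_range_eq_top r hxr hrF) hk hη
  have hdWle := Submodule.finrank_le (LinearMap.range (tW - 1))
  rw [hfrW] at hdWle
  have hdCle := Submodule.finrank_le (LinearMap.range (tC - 1))
  rw [hfrC] at hdCle
  have hdW' : finrank F (LinearMap.range (tW - 1)) = 0 ∨
      finrank F (LinearMap.range (tW - 1)) = 2 * η := by
    obtain ⟨c, hc⟩ := hdW
    rcases c with _ | _ | c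
    · left; rw [hc]; ring
    · right; rw [hc]; ring
    · exfalso
      have : 2 * η * 2 ≤ 2 * η * (c + 1 + 1) := Nat.mul_le_mul_left _ (by omega)
      omega
  have hdC' : finrank F (LinearMap.range (tC - 1)) = 0 ∨
      finrank F (LinearMap.range (tC - 1)) = 2 := by
    rcases hev with ⟨e, he⟩
    rcases hdW' with h | h <;> omega
  rcases hdC' with hdC | hdC
  · -- `t` is trivial on `C`
    have htCfix : ∀ c ∈ LinearMap.ker (x - 1), t c = c := by
      intro c hc
      rw [Submodule.finrank_eq_zero, LinearMap.range_eq_bot] at hdC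
      have h1 : tC = 1 := sub_eq_zero.1 hdC
      exact restrict_eq_one_apply t _ h1 c hc
    have hdWne : finrank F (LinearMap.range (tW - 1)) ≠ 0 := by
      intro h0
      rw [Submodule.finrank_eq_zero, LinearMap.range_eq_bot] at h0
      have h1 : tW = 1 := sub_eq_zero.1 h0
      apply ht1
      exact eq_one_of_ker_of_range r hxr hrF t htCfix
        (fun v hv => restrict_eq_one_apply t _ h1 v hv)
    have hdW2 : finrank F (LinearMap.range (tW - 1)) = 2 * η := by
      rcases hdW' with h | h
      · exact absurd h hdWne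
      · exact h
    have hle : LinearMap.range (t - 1) ≤ LinearMap.range (x - 1) := by
      rintro _ ⟨z, rfl⟩
      have hc := isCompl_ker_range (T := x) r hxr hrF
      have hz : z ∈ LinearMap.ker (x - 1) ⊔ LinearMap.range (x - 1) := by
        rw [hc.sup_eq_top]; exact Submodule.mem_top
      obtain ⟨c, hc', w, hw, rfl⟩ := Submodule.mem_sup.1 hz
      rw [map_add]
      have : (t - 1) c = 0 := by
        rw [LinearMap.sub_apply, Module.End.one_apply, htCfix c hc', sub_self]
      rw [this, zero_add]
      exact hRinv w hw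
    have hEW : LinearMap.range (t - 1) = LinearMap.range (x - 1) := by
      apply Submodule.eq_of_le_of_finrank_eq hle
      rw [hadd, hdC, hdW2, hfrW, zero_add]
    rw [hEW] at h4
    -- fixed-point-free action of `x`
    have hsN : r ∣ Nat.card {v : LinearMap.range (x - 1) // Q v.1 = 1} := by
      have h6 := dvd_card_of_fpf_end x r hxr {v : ι → F | v ∈ LinearMap.range (x - 1) ∧ Q v = 1}
        (by
          intro v hv
          refine ⟨range_sub_one_invt x rfl v hv.1, ?_⟩
          have hxiso : ∀ (j : ℕ) (v : ι → F), Q ((g ^ j) v) = Q v := by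
            intro j
            induction j with
            | zero => intro v; rfl
            | succ j ih => intro v; rw [pow_succ', Module.End.mul_apply, hgiso, ih]
          rw [hx, hxiso]
          exact hv.2)
        (by
          intro v hv hfix
          have h0 := eq_zero_of_fixed_of_mem_range x r hxr hrF v hv.1 hfix
          have h1 := hv.2
          rw [h0, map_zero] at h1
          exact zero_ne_one h1)
      have e : ({v : ι → F | v ∈ LinearMap.range (x - 1) ∧ Q v = 1} : Set (ι → F)) ≃
          {v : LinearMap.range (x - 1) // Q v.1 = 1} :=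
        { toFun := fun v => ⟨⟨v.1, v.2.1⟩, v.2.2⟩
          invFun := fun v => ⟨v.1.1, v.1.2, v.2⟩
          left_inv := fun v => rfl
          right_inv := fun v => rfl }
      rw [← Nat.card_congr e]
      exact h6
    set QW : QuadraticForm F (LinearMap.range (x - 1)) :=
      Q.comp (LinearMap.range (x - 1)).subtype with hQW
    have hpol : ∀ u v : LinearMap.range (x - 1),
        QuadraticMap.polarBilin QW u v = QuadraticMap.polarBilin Q u.1 v.1 := fun u v => rfl
    have hndW := nd_range' hxd r hxr hrF
    have hQWnd : (QuadraticMap.polarBilin QW).Nondegenerate := by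
      constructor
      · intro u hu
        apply Subtype.ext
        apply hndW u.1 u.2
        intro y hy
        have := hu ⟨y, hy⟩
        rw [hpol] at this
        exact this
      · intro u hu
        apply Subtype.ext
        apply hndW u.1 u.2
        intro y hy
        have := hu ⟨y, hy⟩
        rw [hpol, QuadraticMap.polarBilin_apply_apply, QuadraticMap.polar_comm] at this
        rw [QuadraticMap.polarBilin_apply_apply]
        exact this
    have hlev := card_level_one QW hQWnd (by omega : 1 ≤ η) hfrW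
    have hlev' : ((Fintype.card F : ℤ) *
        (Nat.card {v : LinearMap.range (x - 1) // Q v.1 = 1} : ℤ) =
          (Fintype.card F : ℤ) ^ (2 * η) - (Fintype.card F : ℤ) ^ η) ∨
        ((Fintype.card F : ℤ) * (Nat.card {v : LinearMap.range (x - 1) // Q v.1 = 1} : ℤ) =
          (Fintype.card F : ℤ) ^ (2 * η) + (Fintype.card F : ℤ) ^ η) := hlev
    rcases four_mul_dvd_of_card hr hr2 (coprime_four_mul_card p h2 r hr hrp) h4 hsN hlev' with
      h7 | h7
    · exact h4a h7
    · exact h4b h7
  · -- `[C, t]` is a plane: `u` is trivial on `C`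
    have hfdD := FData.restrict_range htCd huCd hcutC 2 htC2 h2F
    set uD : Module.End F (LinearMap.range (tC - 1)) :=
      uC.restrict (range_sub_one_invt uC hcutC) with huD
    have huDp : uD ^ p = 1 := by
      rw [huD, restrict_pow_eq_one_iff]
      intro w _
      rw [huCp, Module.End.one_apply]
    have hD1 := unipotent_eq_one_of_finrank_two' p h2 hfdD hdC huDp
    have hkerC := finrank_ker_add_range tC
    rw [hfrC, hdC] at hkerC
    have hker1 : finrank F (LinearMap.ker (tC - 1)) = 1 := by omega
    have hfix1 := eq_self_of_finrank_one p _ hker1 uC (ker_sub_one_invt uC hcutC) huCp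
    apply huC1
    exact eq_one_of_ker_of_range 2 htC2 h2F uC hfix1
      (fun v hv => restrict_eq_one_apply uC _ hD1 v hv)

end Cfsg.Agent.Lib.H12.BC
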