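import Mathlib
import Cfsg.Agent.Lib.H12.BDiffB
import Cfsg.Agent.Lib.H12.BDiffC
import Cfsg.Agent.Lib.H29.Zsigmondy

/-!
# The spectra of `PΩ_{2n+1}(q)` and `PSp_{2n}(q)` differ (helper12)
-/

set_option autoImplicit false
set_option linter.unusedSectionVars false

namespace Cfsg.Agent.Lib.H12.BC

open Module Matrix
open Cfsg.Agent.Lib.H12.SpSemi Cfsg.Agent.Lib.H12.PSpG Cfsg.Agent.Lib.H12.Semi
  Cfsg.Agent.Lib.H12.PGraph

universe u
variable {F : Type u} [Field F] [Fintype F]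

theorem even_pow_mod_four {q : ℕ} (hq : Odd q) (m : ℕ) : q ^ (2 * m) % 4 = 1 := by
  have h1 : q ^ 2 % 4 = 1 := by
    have h3 : q % 4 = 1 ∨ q % 4 = 3 := by
      rcases hq with ⟨c, hc⟩
      omega
    rw [Nat.pow_mod]
    rcases h3 with h3 | h3 <;> rw [h3]
  rw [pow_mul, Nat.pow_mod, h1, one_pow]
  rfl

/-- the choice of the primitive prime divisor -/
theorem exists_good_prime (p : ℕ) [Fact p.Prime] [CharP F p] (h2 : (2 : F) ≠ 0) (η : ℕ)
    (hη2 : 2 ≤ η) :
    ∃ r : ℕ, r.Prime ∧ r ≠ 2 ∧ r ≠ p ∧ ∃ k : ℕ, k = orderOf ((Fintype.card F : ℕ) : ZMod r) ∧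
      IsEta k η ∧ ¬ 4 * r ∣ Fintype.card F ^ η - 1 ∧ ¬ 4 * r ∣ Fintype.card F ^ η + 1 ∧
      HasOrd F η r := by
  have hp : p.Prime := Fact.out
  have hp2 : p ≠ 2 := by
    rintro rfl
    apply h2
    have := CharP.cast_eq_zero F 2
    exact_mod_cast this
  obtain ⟨e, he⟩ := FiniteField.card F p
  set q := Fintype.card F with hq
  have hqodd : Odd q := by
    rw [he.2]
    exact Odd.pow (hp.odd_of_ne_two hp2)
  have hq1 : 1 < q := Fintype.one_lt_card
  have hq1' : 1 ≤ q := hq1.le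
  have hpq : p ∣ q := by
    rw [he.2]
    exact dvd_pow_self p (PNat.ne_zero e)
  have hqne2 : q ≠ 2 := by
    intro h
    rw [h] at hqodd
    exact absurd hqodd (by decide)
  have hgen : ∀ (N : ℕ) (r : ℕ), 1 < N → r.Prime → r ∣ q ^ N - 1 →
      (∀ j : ℕ, 0 < j → j < N → ¬ r ∣ q ^ j - 1) →
      r ≠ 2 ∧ r ≠ p ∧ N = orderOf ((q : ℕ) : ZMod r) := by
    intro N r hN hr hrN hprim
    refine ⟨?_, ?_, ?_⟩
    · rintro rfl
      apply hprim 1 one_pos hN
      rw [pow_one]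
      rcases hqodd with ⟨c, hc⟩
      exact ⟨c, by omega⟩
    · rintro rfl
      have h1 : r ∣ q ^ N := dvd_pow hpq (by omega)
      have h3 : 1 ≤ q ^ N := Nat.one_le_pow _ _ hq1'
      have h4 : r ∣ q ^ N - (q ^ N - 1) := Nat.dvd_sub h1 hrN
      have h5 : q ^ N - (q ^ N - 1) = 1 := by omega
      rw [h5] at h4
      exact hr.one_lt.ne' (Nat.dvd_one.1 h4)
    · symm
      rw [orderOf_eq_iff (by omega)]
      refine ⟨(dvd_pow_sub_one_iff q r hq1' N).1 hrN, ?_⟩
      intro j hjN hj0 h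
      exact hprim j hj0 hjN ((dvd_pow_sub_one_iff q r hq1' j).2 h)
  have hmod : q ^ η % 4 = 1 ∨ q ^ η % 4 = 3 := by
    have : Odd (q ^ η) := Odd.pow hqodd
    rcases this with ⟨c, hc⟩
    omega
  have hη1 : 1 ≤ η := by omega
  have hqη1 : 1 ≤ q ^ η := Nat.one_le_pow _ _ hq1'
  rcases hmod with hmod | hmod
  · -- primitive prime divisor of `q ^ (2 η) - 1`
    obtain ⟨r, hr, hrN, hprim⟩ := Cfsg.Agent.Lib.H29.Zsig.zsigmondy q (2 * η) hq1 (by omega)
      (fun h => hqne2 h.1) (fun h => by omega)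
    obtain ⟨hr2, hrp, hk⟩ := hgen (2 * η) r (by omega) hr hrN hprim
    have hnd : ¬ r ∣ q ^ η - 1 := hprim η (by omega) (by omega)
    refine ⟨r, hr, hr2, hrp, 2 * η, hk, Or.inr ⟨even_two_mul η, rfl⟩, ?_, ?_, ?_⟩
    · intro h
      exact hnd (dvd_trans (dvd_mul_left r 4) h)
    · intro h
      have h4 : 4 ∣ q ^ η + 1 := dvd_trans (dvd_mul_right 4 r) h
      omega
    · have hfac : q ^ (2 * η) - 1 = (q ^ η - 1) * (q ^ η + 1) := by
        have : q ^ (2 * η) = q ^ η * q ^ η := by rw [two_mul, pow_add]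
        rw [this]
        obtain ⟨c, hc⟩ := Nat.exists_eq_add_of_le hqη1
        rw [hc]
        have : (1 + c) * (1 + c) - 1 = (1 + c - 1) * (1 + c + 1) := by
          rw [Nat.add_sub_cancel_left]
          have : (1 + c) * (1 + c) = c * (1 + c + 1) + 1 := by ring
          rw [this, Nat.add_sub_cancel]
        exact this
      rw [hfac] at hrN
      rcases (Nat.Prime.dvd_mul hr).1 hrN with h | h
      · exact absurd h hnd
      · exact hasOrd_of_dvd_add_one p η hη1 r h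
  · -- `η` is odd; primitive prime divisor of `q ^ η - 1`
    have hηodd : Odd η := by
      rcases Nat.even_or_odd η with ⟨m, hm⟩ | ho
      · exfalso
        have := even_pow_mod_four hqodd m
        rw [← two_mul] at hm
        rw [← hm] at this
        omega
      · exact ho
    have hη3 : 3 ≤ η := by
      rcases hηodd with ⟨c, hc⟩
      omega
    obtain ⟨r, hr, hrN, hprim⟩ := Cfsg.Agent.Lib.H29.Zsig.zsigmondy q η hq1 (by omega)
      (fun h => hqne2 h.1) (fun h => by omega)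
    obtain ⟨hr2, hrp, hk⟩ := hgen η r (by omega) hr hrN hprim
    refine ⟨r, hr, hr2, hrp, η, hk, Or.inl ⟨hηodd, rfl⟩, ?_, ?_, ?_⟩
    · intro h
      have h4 : 4 ∣ q ^ η - 1 := dvd_trans (dvd_mul_right 4 r) h
      omega
    · intro h
      have h1 : r ∣ q ^ η + 1 := dvd_trans (dvd_mul_left r 4) h
      have h3 : r ∣ q ^ η + 1 - (q ^ η - 1) := Nat.dvd_sub h1 hrN
      have h5 : q ^ η + 1 - (q ^ η - 1) = 2 := by omega
      rw [h5] at h3
      exact hr2 ((Nat.prime_dvd_prime_iff_eq hr Nat.prime_two).1 h3)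
    · exact hasOrd_of_dvd_sub_one η hη1 r hrN

/-- **the spectra of `B_n(q)` and `C_n(q)` differ** -/
theorem spectra_ne (hodd : Odd (Fintype.card F)) (n : ℕ) (hn : 3 ≤ n) :
    Set.range (orderOf : Cfsg.POmega F (Cfsg.quadFormOdd n F) → ℕ) ≠
      Set.range (orderOf : Cfsg.PSp n F → ℕ) := by
  have h2 : (2 : F) ≠ 0 := Cfsg.Agent.S0286.two_ne_zero_of_odd hodd
  obtain ⟨p, hchar⟩ := CharP.exists F
  have hp : p.Prime := CharP.char_is_prime F p
  have := Fact.mk hp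
  have hp2 : p ≠ 2 := by
    rintro rfl
    apply h2
    have := CharP.cast_eq_zero F 2
    exact_mod_cast this
  obtain ⟨r, hr, hr2, hrp, k, hk, hη, h4a, h4b, hH⟩ :=
    exists_good_prime (F := F) p h2 (n - 1) (by omega)
  have := Fact.mk hr
  have hηn : n - 1 + 1 = n := by omega
  intro heq
  obtain ⟨X, hX⟩ := exists_psp_two_p_r p h2 hp2 hηn (by omega) r hr hr2 hrp hH
  have hmem : 2 * p * r ∈ Set.range (orderOf : Cfsg.PSp n F → ℕ) := ⟨X, hX⟩
  rw [← heq] at hmem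
  obtain ⟨Y, hY⟩ := hmem
  obtain ⟨a, ha, hord⟩ := exists_of_pomega h2 n hn Y
  have key : ∀ a : ↥(Cfsg.isometryGroup F ⇑(Cfsg.Agent.S0286.oddQF F n)),
      a ∈ Cfsg.Omega F ⇑(Cfsg.Agent.S0286.oddQF F n) → orderOf a = 2 * p * r → False :=
    fun a ha hord => no_omega_two_p_r p h2 (Cfsg.Agent.S0286.oddQF F n) (nondeg_odd h2 n)
      (card_idx n) r hr2 hrp hk hη hηn (by omega) h4a h4b a ha hord
  rw [Cfsg.Agent.S0286.coe_oddQF] at key
  exact key a ha (hord.trans hY)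

end Cfsg.Agent.Lib.H12.BC
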