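import Mathlib
import Cfsg.Agent.Lib.H12.BGSpA

/-!
# Derangements of `PSL_n(q)` on the cosets of a subgroup of type `Sp_n(q)` (part B)
(helper12)

Reduction to "the matrix is a similitude of no symplectic form", and the unipotent case: a
unipotent matrix with Jordan blocks `(3, 1^(n-3))` in odd characteristic is a similitude of no
non-degenerate alternating form.
-/

set_option autoImplicit false
set_option linter.unusedSectionVars false

namespace Cfsg.Agent.Lib.H12.BGSp

open Matrix Module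

section reduce

variable {F : Type*} [Field F] {n : ℕ} {f : (Fin n → F) → (Fin n → F) → F}

/-- transport of a symplectic form along an invertible matrix -/
theorem symp_conj (hf : Cfsg.Geo.IsSymplecticForm f) (P Pi : Matrix (Fin n) (Fin n) F)
    (h1 : Pi * P = 1) :
    Cfsg.Geo.IsSymplecticForm (fun u v => f (Pi *ᵥ u) (Pi *ᵥ v)) := by
  refine ⟨⟨?_, ?_, ?_, ?_⟩, ?_, ?_, ?_⟩
  · intro x y v
    show f (Pi *ᵥ (x + y)) _ = _
    rw [Matrix.mulVec_add, hf.bilinear.add_left]
  · intro c x v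
    show f (Pi *ᵥ (c • x)) _ = _
    rw [Matrix.mulVec_smul, hf.bilinear.smul_left]
  · intro v x y
    show f _ (Pi *ᵥ (x + y)) = _
    rw [Matrix.mulVec_add, hf.bilinear.add_right]
  · intro c v x
    show f _ (Pi *ᵥ (c • x)) = _
    rw [Matrix.mulVec_smul, hf.bilinear.smul_right]
  · intro v w
    exact hf.skew _ _
  · intro v
    exact hf.alternating _
  · intro v hv
    have hP : P * Pi = 1 := mul_eq_one_comm.1 h1
    have hne : Pi *ᵥ v ≠ 0 := by
      intro h0
      apply hv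
      have := congrArg (fun w => P *ᵥ w) h0
      simp only [Matrix.mulVec_mulVec, hP, Matrix.one_mulVec, Matrix.mulVec_zero] at this
      exact this
    obtain ⟨⟨x, hx⟩, ⟨y, hy⟩⟩ := hf.nondegenerate _ hne
    refine ⟨⟨P *ᵥ x, ?_⟩, ⟨P *ᵥ y, ?_⟩⟩
    · show f (Pi *ᵥ (P *ᵥ x)) _ ≠ 0
      rw [Matrix.mulVec_mulVec, h1, Matrix.one_mulVec]
      exact hx
    · show f _ (Pi *ᵥ (P *ᵥ y)) ≠ 0
      rw [Matrix.mulVec_mulVec, h1, Matrix.one_mulVec]
      exact hy

/-- a matrix which is a similitude of no symplectic form has no conjugate in `H` -/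
theorem not_mem_HSp_conj (hf : Cfsg.Geo.IsSymplecticForm f)
    (x P : Matrix.SpecialLinearGroup (Fin n) F)
    (hcore : ∀ g : (Fin n → F) → (Fin n → F) → F, Cfsg.Geo.IsSymplecticForm g → ∀ c : F, c ≠ 0 →
      ¬ ∀ u v, g ((x : Matrix (Fin n) (Fin n) F) *ᵥ u) ((x : Matrix (Fin n) (Fin n) F) *ᵥ v) =
        c * g u v) :
    P⁻¹ * x * P ∉ HSp f := by
  intro hmem
  rw [mem_HSp] at hmem
  obtain ⟨c, hc⟩ := hmem
  set Pm : Matrix (Fin n) (Fin n) F := (P : Matrix (Fin n) (Fin n) F) with hPm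
  set Pi : Matrix (Fin n) (Fin n) F :=
    ((P⁻¹ : Matrix.SpecialLinearGroup (Fin n) F) : Matrix (Fin n) (Fin n) F) with hPi
  have h1 : Pi * Pm = 1 := by
    rw [hPi, hPm, ← Matrix.SpecialLinearGroup.coe_mul, inv_mul_cancel,
      Matrix.SpecialLinearGroup.coe_one]
  have hcoe : ((P⁻¹ * x * P : Matrix.SpecialLinearGroup (Fin n) F) : Matrix (Fin n) (Fin n) F) =
      Pi * (x : Matrix (Fin n) (Fin n) F) * Pm := by
    rw [Matrix.SpecialLinearGroup.coe_mul, Matrix.SpecialLinearGroup.coe_mul]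
  rw [hcoe] at hc
  refine hcore _ (symp_conj hf Pm Pi h1) (c : F) c.ne_zero (fun u v => ?_)
  have h2 : ∀ w : Fin n → F, Pi *ᵥ ((x : Matrix (Fin n) (Fin n) F) *ᵥ w) =
      (Pi * (x : Matrix (Fin n) (Fin n) F) * Pm) *ᵥ (Pi *ᵥ w) := by
    intro w
    have hP : Pm * Pi = 1 := mul_eq_one_comm.1 h1
    rw [Matrix.mulVec_mulVec, Matrix.mulVec_mulVec, Matrix.mul_assoc, hP, Matrix.mul_one]
  show f (Pi *ᵥ _) (Pi *ᵥ _) = (c : F) * f (Pi *ᵥ u) (Pi *ᵥ v)
  rw [h2, h2, hc]

/-- powers of a similitude -/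
theorem sim_pow (X : Matrix (Fin n) (Fin n) F) (c : F)
    (h : ∀ u v, f (X *ᵥ u) (X *ᵥ v) = c * f u v) (k : ℕ) (u v : Fin n → F) :
    f ((X ^ k) *ᵥ u) ((X ^ k) *ᵥ v) = c ^ k * f u v := by
  induction k generalizing u v with
  | zero => simp
  | succ k ih =>
    rw [pow_succ, ← Matrix.mulVec_mulVec, ← Matrix.mulVec_mulVec, ih, h, pow_succ, mul_assoc]

/-- the multiplier of a similitude of finite order -/
theorem mult_pow_eq_one (hf : Cfsg.Geo.IsSymplecticForm f) (hn : 0 < n)
    (X : Matrix (Fin n) (Fin n) F) (c : F)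
    (h : ∀ u v, f (X *ᵥ u) (X *ᵥ v) = c * f u v) (k : ℕ) (hX : X ^ k = 1) : c ^ k = 1 := by
  have hv : (Pi.single (⟨0, hn⟩ : Fin n) (1 : F) : Fin n → F) ≠ 0 := by
    intro h0
    have := congrFun h0 ⟨0, hn⟩
    simp at this
  obtain ⟨⟨x, hx⟩, -⟩ := hf.nondegenerate _ hv
  have h1 := sim_pow X c h k x (Pi.single (⟨0, hn⟩ : Fin n) (1 : F))
  rw [hX, Matrix.one_mulVec, Matrix.one_mulVec] at h1
  have h2 : (c ^ k - 1) * f x (Pi.single (⟨0, hn⟩ : Fin n) (1 : F)) = 0 := by
    linear_combination -h1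
  rcases mul_eq_zero.1 h2 with h3 | h3
  · exact sub_eq_zero.1 h3
  · exact absurd h3 hx

end reduce

section abstract

variable {F : Type*} [Field F] {V : Type*} [AddCommGroup V] [Module F V]

/-- an isometry `1 + M` with `M ^ 3 = 0` of a non-degenerate alternating form in characteristic
not two cannot have `M ^ 2` of rank one -/
theorem sq_zero_of_rank_one (h2 : (2 : F) ≠ 0) (B : LinearMap.BilinForm F V)
    (halt : ∀ v, B v v = 0) (hnd : ∀ v, (∀ w, B v w = 0) → v = 0)
    (M : Module.End F V) (hiso : ∀ u v, B ((1 + M) u) ((1 + M) v) = B u v)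
    (hM3 : M * M * M = 0) (φ : V →ₗ[F] F) (z : V) (hφ : ∀ u, M (M u) = φ u • z) :
    M * M = 0 := by
  have hskew : ∀ u v, B u v = - B v u := by
    intro u v
    have h := halt (u + v)
    simp only [map_add, LinearMap.add_apply, halt, zero_add, add_zero] at h
    exact eq_neg_of_add_eq_zero_right h
  set S : Module.End F V := 1 - M + M * M with hS
  have hTS : (1 + M) * S = 1 := by
    have : (1 + M) * S = 1 + M * M * M := by rw [hS]; noncomm_ring
    rw [this, hM3, add_zero]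
  have hadj : ∀ u v, B ((1 + M) u) v = B u (S v) := by
    intro u v
    have h1 : v = (1 + M) (S v) := by
      rw [← Module.End.mul_apply, hTS, Module.End.one_apply]
    conv_lhs => rw [h1]
    exact hiso u (S v)
  set W : Module.End F V := -M + M * M with hW
  have hadjM : ∀ u v, B (M u) v = B u (W v) := by
    intro u v
    have h1 := hadj u v
    have h3 : (1 + M) u = u + M u := by
      rw [LinearMap.add_apply, Module.End.one_apply]
    have h4 : S v = v + W v := by
      rw [hS, hW]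
      simp only [LinearMap.add_apply, LinearMap.sub_apply, LinearMap.neg_apply,
        Module.End.one_apply]
      abel
    rw [h3, h4, map_add, LinearMap.add_apply, map_add] at h1
    linear_combination h1
  have hWW : W * W = M * M := by
    have : W * W = M * M - 2 • (M * M * M) + M * (M * M * M) := by rw [hW]; noncomm_ring
    rw [this, hM3]
    simp
  have hadj2 : ∀ u v, B (M (M u)) v = B u (M (M v)) := by
    intro u v
    rw [hadjM, hadjM, ← Module.End.mul_apply W W, hWW, Module.End.mul_apply]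
  have hg : ∀ u, φ u * B z u = 0 := by
    intro u
    have h1 := hadj2 u u
    rw [hskew u (M (M u))] at h1
    have h3 : (2 : F) * B (M (M u)) u = 0 := by linear_combination h1
    have h4 : B (M (M u)) u = 0 := by
      rcases mul_eq_zero.1 h3 with h5 | h5
      · exact absurd h5 h2
      · exact h5
    rw [hφ, map_smul, LinearMap.smul_apply, smul_eq_mul] at h4
    exact h4
  by_contra hne
  obtain ⟨u₁, hu₁⟩ : ∃ u, (M * M) u ≠ 0 := by
    by_contra hcon
    push Not at hcon
    exact hne (LinearMap.ext hcon)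
  rw [Module.End.mul_apply, hφ] at hu₁
  have hφ1 : φ u₁ ≠ 0 := fun h0 => hu₁ (by rw [h0, zero_smul])
  have hz : z ≠ 0 := fun h0 => hu₁ (by rw [h0, smul_zero])
  obtain ⟨u₂, hu₂⟩ : ∃ w, B z w ≠ 0 := by
    by_contra hcon
    push Not at hcon
    exact hz (hnd z hcon)
  have e1 : B z u₁ = 0 := by
    rcases mul_eq_zero.1 (hg u₁) with h | h
    · exact absurd h hφ1
    · exact h
  have e2 : φ u₂ = 0 := by
    rcases mul_eq_zero.1 (hg u₂) with h | h
    · exact h
    · exact absurd h hu₂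
  have e3 := hg (u₁ + u₂)
  rw [map_add, map_add, e1, e2, add_zero, zero_add] at e3
  rcases mul_eq_zero.1 e3 with h | h
  · exact hφ1 h
  · exact hu₂ h

end abstract

section unip

variable {F : Type*} [Field F] {n : ℕ}

/-- the nilpotent matrix `E₀₁ + E₁₂` -/
def nil3 (F : Type*) [Field F] (n : ℕ) (hn : 3 ≤ n) : Matrix (Fin n) (Fin n) F :=
  Matrix.single (⟨0, by omega⟩ : Fin n) (⟨1, by omega⟩ : Fin n) (1 : F) +
    Matrix.single (⟨1, by omega⟩ : Fin n) (⟨2, by omega⟩ : Fin n) (1 : F)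

theorem nil3_sq (hn : 3 ≤ n) :
    nil3 F n hn * nil3 F n hn =
      Matrix.single (⟨0, by omega⟩ : Fin n) (⟨2, by omega⟩ : Fin n) (1 : F) := by
  unfold nil3
  have h01 : (⟨1, by omega⟩ : Fin n) ≠ ⟨0, by omega⟩ := by
    intro h; simp [Fin.ext_iff] at h
  have h20 : (⟨2, by omega⟩ : Fin n) ≠ ⟨0, by omega⟩ := by
    intro h; simp [Fin.ext_iff] at h
  have h21 : (⟨2, by omega⟩ : Fin n) ≠ ⟨1, by omega⟩ := by
    intro h; simp [Fin.ext_iff] at h
  rw [Matrix.add_mul, Matrix.mul_add, Matrix.mul_add, Matrix.single_mul_single_of_ne _ _ _ _ h01,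
    Matrix.single_mul_single_same, Matrix.single_mul_single_of_ne _ _ _ _ h20,
    Matrix.single_mul_single_of_ne _ _ _ _ h21]
  simp

theorem nil3_cube (hn : 3 ≤ n) : nil3 F n hn * nil3 F n hn * nil3 F n hn = 0 := by
  rw [nil3_sq]
  unfold nil3
  have h20 : (⟨2, by omega⟩ : Fin n) ≠ ⟨0, by omega⟩ := by
    intro h; simp [Fin.ext_iff] at h
  have h21 : (⟨2, by omega⟩ : Fin n) ≠ ⟨1, by omega⟩ := by
    intro h; simp [Fin.ext_iff] at h
  rw [Matrix.mul_add, Matrix.single_mul_single_of_ne _ _ _ _ h20,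
    Matrix.single_mul_single_of_ne _ _ _ _ h21, add_zero]

theorem nil3_pow (hn : 3 ≤ n) (k : ℕ) (hk : 3 ≤ k) : nil3 F n hn ^ k = 0 := by
  obtain ⟨j, rfl⟩ : ∃ j, k = 3 + j := ⟨k - 3, by omega⟩
  rw [pow_add, pow_succ, pow_two, nil3_cube, zero_mul]

theorem nil3_apply (hn : 3 ≤ n) (i j : Fin n) :
    nil3 F n hn i j = if (i.val = 0 ∧ j.val = 1) ∨ (i.val = 1 ∧ j.val = 2) then 1 else 0 := by
  unfold nil3
  rw [Matrix.add_apply, Matrix.single_apply, Matrix.single_apply]
  simp only [Fin.ext_iff]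
  by_cases h1 : i.val = 0 ∧ j.val = 1
  · have : ¬ (1 = i.val ∧ 2 = j.val) := by omega
    simp [h1]
  · by_cases h2 : i.val = 1 ∧ j.val = 2
    · have : ¬ (0 = i.val ∧ 1 = j.val) := by omega
      have h3 : (1 = i.val ∧ 2 = j.val) := by omega
      simp [h2]
    · have h3 : ¬ (0 = i.val ∧ 1 = j.val) := by omega
      have h4 : ¬ (1 = i.val ∧ 2 = j.val) := by omega
      have h5 : ¬ ((i.val = 0 ∧ j.val = 1) ∨ (i.val = 1 ∧ j.val = 2)) := by tauto
      simp [h3, h4, h5]

/-- the unipotent matrix `1 + E₀₁ + E₁₂` has determinant one -/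
theorem det_unip3 (hn : 3 ≤ n) : (1 + nil3 F n hn).det = 1 := by
  have htri : (1 + nil3 F n hn).BlockTriangular id := by
    intro i j hij
    simp only [id] at hij
    rw [Matrix.add_apply, nil3_apply, Matrix.one_apply_ne (by
      intro h; rw [h] at hij; exact lt_irrefl _ hij)]
    have hij' : j.val < i.val := hij
    have : ¬ ((i.val = 0 ∧ j.val = 1) ∨ (i.val = 1 ∧ j.val = 2)) := by omega
    simp [this]
  rw [Matrix.det_of_isUpperTriangular htri]
  apply Finset.prod_eq_one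
  intro i _
  rw [Matrix.add_apply, nil3_apply, Matrix.one_apply_eq]
  have : ¬ ((i.val = 0 ∧ i.val = 1) ∨ (i.val = 1 ∧ i.val = 2)) := by omega
  simp [this]

/-- the unipotent matrix has order `p` -/
theorem unip3_pow (hn : 3 ≤ n) (p : ℕ) [Fact p.Prime] [CharP F p] (hp : 3 ≤ p) :
    (1 + nil3 F n hn) ^ p = 1 := by
  have : Nonempty (Fin n) := ⟨⟨0, by omega⟩⟩
  rw [add_pow_char_of_commute p (Commute.one_left _), one_pow,
    nil3_pow hn p hp, add_zero]

theorem unip3_not_scalar (hn : 3 ≤ n) (z : F) :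
    (1 + nil3 F n hn) ≠ z • (1 : Matrix (Fin n) (Fin n) F) := by
  intro h
  have h1 := congrFun (congrFun h ⟨0, by omega⟩) ⟨1, by omega⟩
  rw [Matrix.add_apply, nil3_apply, Matrix.smul_apply, Matrix.one_apply_ne (by
    intro h; simp [Fin.ext_iff] at h)] at h1
  simp at h1

/-- the unipotent matrix is a similitude of no symplectic form -/
theorem unip3_core (hn : 3 ≤ n) (p : ℕ) [Fact p.Prime] [CharP F p] (hp : 3 ≤ p)
    (g : (Fin n → F) → (Fin n → F) → F) (hg : Cfsg.Geo.IsSymplecticForm g) (c : F) (hc : c ≠ 0) :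
    ¬ ∀ u v, g ((1 + nil3 F n hn) *ᵥ u) ((1 + nil3 F n hn) *ᵥ v) = c * g u v := by
  intro h
  have hcp : c ^ p = 1 := mult_pow_eq_one hg (by omega) _ c h p (unip3_pow hn p hp)
  have hc1 : c = 1 := by
    have h1 : (c - 1) ^ p = 0 := by
      rw [sub_pow_char, hcp, one_pow, sub_self]
    exact sub_eq_zero.1 (pow_eq_zero_iff (Fact.out : p.Prime).ne_zero |>.1 h1)
  subst hc1
  have h2 : (2 : F) ≠ 0 := by
    intro h20
    have h3 : ((2 : ℕ) : F) = 0 := by exact_mod_cast h20
    rw [CharP.cast_eq_zero_iff F p] at h3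
    have := Nat.le_of_dvd (by norm_num) h3
    omega
  set M : Module.End F (Fin n → F) := Matrix.toLin' (nil3 F n hn) with hM
  have hM1 : ∀ u, (1 + M) u = (1 + nil3 F n hn) *ᵥ u := by
    intro u
    rw [LinearMap.add_apply, Module.End.one_apply, hM, Matrix.toLin'_apply, Matrix.add_mulVec,
      Matrix.one_mulVec]
  have hMM : M * M = Matrix.toLin' (Matrix.single (⟨0, by omega⟩ : Fin n)
      (⟨2, by omega⟩ : Fin n) (1 : F)) := by
    rw [hM, Module.End.mul_eq_comp, ← Matrix.toLin'_mul, nil3_sq]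
  have key := sq_zero_of_rank_one h2 (toB hg.bilinear) (toB_alt hg) (toB_nd hg) M
    (fun u v => by
      rw [toB_apply, toB_apply, hM1, hM1, h, one_mul])
    (by rw [hM, Module.End.mul_eq_comp, Module.End.mul_eq_comp, ← Matrix.toLin'_mul,
      ← Matrix.toLin'_mul, nil3_cube, map_zero])
    (LinearMap.proj (⟨2, by omega⟩ : Fin n)) (Pi.single (⟨0, by omega⟩ : Fin n) (1 : F))
    (fun u => by
      rw [← Module.End.mul_apply, hMM, Matrix.toLin'_apply, Matrix.single_mulVec_eq, one_mul]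
      rfl)
  rw [hMM] at key
  have h3 := congrArg (fun L : Module.End F (Fin n → F) =>
    L (Pi.single (⟨2, by omega⟩ : Fin n) (1 : F)) ⟨0, by omega⟩) key
  simp only [Matrix.toLin'_apply, Matrix.single_mulVec_eq, LinearMap.zero_apply, Pi.zero_apply,
    Pi.smul_apply, Pi.single_eq_same, smul_eq_mul, mul_one] at h3
  exact one_ne_zero h3

end unip

end Cfsg.Agent.Lib.H12.BGSp
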