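import Mathlib
import Cfsg.Agent.Lib.H12.BGSpB

/-!
# Derangements of `PSL_n(q)` on the cosets of a subgroup of type `Sp_n(q)` (part C)
(helper12)

The case `r ∣ q - 1`: the diagonal matrix `diag(ω, ω, ω⁻², 1, …, 1)` is a similitude of no
non-degenerate alternating form (eigenvalue pairing), unless `(n, r) = (6, 3)`.
-/

set_option autoImplicit false
set_option linter.unusedSectionVars false

namespace Cfsg.Agent.Lib.H12.BGSp

open Matrix Module

section pairing

variable {F : Type*} [Field F] {n : ℕ} {f : (Fin n → F) → (Fin n → F) → F}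

/-- the Gram matrix of a symplectic form is invertible -/
theorem gram_det_ne_zero (hf : Cfsg.Geo.IsSymplecticForm f) :
    (LinearMap.BilinForm.toMatrix' (toB hf.bilinear)).det ≠ 0 := by
  rw [← Matrix.nondegenerate_iff_det_ne_zero, LinearMap.BilinForm.nondegenerate_toMatrix'_iff]
  constructor
  · intro x hx
    by_contra hne
    obtain ⟨-, ⟨y, hy⟩⟩ := hf.nondegenerate x hne
    exact hy (hx y)
  · intro y hy
    by_contra hne
    obtain ⟨⟨x, hx⟩, -⟩ := hf.nondegenerate y hne
    exact hx (hy x)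

/-- eigenvalue pairing for a diagonal similitude -/
theorem exists_pairing (hf : Cfsg.Geo.IsSymplecticForm f) (d : Fin n → F) (c : F)
    (h : ∀ u v, f (Matrix.diagonal d *ᵥ u) (Matrix.diagonal d *ᵥ v) = c * f u v) :
    ∃ σ : Equiv.Perm (Fin n), ∀ j, d (σ j) * d j = c := by
  classical
  set G := LinearMap.BilinForm.toMatrix' (toB hf.bilinear) with hG
  have hGapp : ∀ i j, G i j = f (Pi.single i 1) (Pi.single j 1) := by
    intro i j
    rw [hG, LinearMap.BilinForm.toMatrix'_apply, toB_apply]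
  have hdet := gram_det_ne_zero hf
  rw [← hG, Matrix.det_apply] at hdet
  obtain ⟨σ, -, hσ⟩ := Finset.exists_ne_zero_of_sum_ne_zero hdet
  have hprod : ∏ i, G (σ i) i ≠ 0 := by
    intro h0
    apply hσ
    rw [h0, smul_zero]
  refine ⟨σ, fun j => ?_⟩
  have hne : G (σ j) j ≠ 0 := by
    intro h0
    exact hprod (Finset.prod_eq_zero (Finset.mem_univ j) h0)
  have h1 := h (Pi.single (σ j) 1) (Pi.single j 1)
  rw [Matrix.diagonal_mulVec_single, Matrix.diagonal_mulVec_single, mul_one, mul_one] at h1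
  have e1 : ∀ (i : Fin n) (a : F), (Pi.single i a : Fin n → F) = a • Pi.single i (1 : F) := by
    intro i a
    ext k
    by_cases hk : k = i
    · subst hk; simp
    · simp [hk]
  rw [e1 (σ j) (d (σ j)), e1 j (d j), hf.bilinear.smul_left, hf.bilinear.smul_right,
    ← hGapp] at h1
  have h2 : (d (σ j) * d j - c) * G (σ j) j = 0 := by linear_combination h1
  rcases mul_eq_zero.1 h2 with h3 | h3
  · exact sub_eq_zero.1 h3
  · exact absurd h3 hne

end pairing

section comb

variable {F : Type*} [Field F] {n : ℕ}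

/-- the diagonal `(ω, ω, ω⁻², 1, …, 1)` -/
def dvec (n : ℕ) (ω : F) : Fin n → F :=
  fun j => if j.val < 2 then ω else if j.val = 2 then ω⁻¹ ^ 2 else 1

theorem dvec_lt (ω : F) (j : Fin n) (hj : j.val < 2) : dvec n ω j = ω := by
  unfold dvec; simp [hj]

theorem dvec_two (ω : F) (j : Fin n) (hj : j.val = 2) : dvec n ω j = ω⁻¹ ^ 2 := by
  unfold dvec; simp [hj]

theorem dvec_ge (ω : F) (j : Fin n) (hj : 3 ≤ j.val) : dvec n ω j = 1 := by
  unfold dvec
  have h1 : ¬ j.val < 2 := by omega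
  have h2 : ¬ j.val = 2 := by omega
  simp [h1, h2]

theorem dvec_cases (ω : F) (j : Fin n) :
    (j.val < 2 ∧ dvec n ω j = ω) ∨ (j.val = 2 ∧ dvec n ω j = ω⁻¹ ^ 2) ∨
      (3 ≤ j.val ∧ dvec n ω j = 1) := by
  by_cases h1 : j.val < 2
  · exact Or.inl ⟨h1, dvec_lt ω j h1⟩
  · by_cases h2 : j.val = 2
    · exact Or.inr (Or.inl ⟨h2, dvec_two ω j h2⟩)
    · exact Or.inr (Or.inr ⟨by omega, dvec_ge ω j (by omega)⟩)

/-- facts on an element of odd prime order -/
theorem omega_facts (r : ℕ) (hr : r.Prime) (hr2 : r ≠ 2) (ω : F) (hω : orderOf ω = r) :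
    ω ≠ 0 ∧ ω ≠ 1 ∧ ω ^ 2 ≠ 1 ∧ ω ^ 4 ≠ 1 ∧ (ω ^ 3 = 1 → r = 3) ∧ ω ^ r = 1 := by
  have hr3 : 3 ≤ r := by
    have := hr.two_le
    omega
  have hpow : ∀ k, ω ^ k = 1 → r ∣ k := by
    intro k hk
    rw [← hω]
    exact orderOf_dvd_of_pow_eq_one hk
  refine ⟨?_, ?_, ?_, ?_, ?_, ?_⟩
  · intro h0
    rw [h0] at hω
    have h1 : orderOf (0 : F) = 0 := by
      rw [orderOf_eq_zero_iff']
      intro k hk
      rw [zero_pow (by omega)]
      exact zero_ne_one
    omega
  · intro h1
    rw [h1, orderOf_one] at hω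
    omega
  · intro h
    have := Nat.le_of_dvd (by norm_num) (hpow 2 h)
    omega
  · intro h
    have h1 := hpow 4 h
    have h2 : r ∣ 2 ^ 2 := by norm_num; exact h1
    have h3 := (Nat.Prime.dvd_of_dvd_pow hr h2)
    have := Nat.le_of_dvd (by norm_num) h3
    omega
  · intro h
    have h1 := hpow 3 h
    have := Nat.le_of_dvd (by norm_num) h1
    omega
  · rw [← hω]
    exact pow_orderOf_eq_one ω

/-- the combinatorial core: no eigenvalue pairing -/
theorem no_pairing (hn : 4 ≤ n) (he : Even n) (r : ℕ) (hr : r.Prime) (hr2 : r ≠ 2)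
    (hgap : ¬ (n = 6 ∧ r = 3)) (ω : F) (hω : orderOf ω = r) (c : F)
    (σ : Equiv.Perm (Fin n)) (h : ∀ j, dvec n ω (σ j) * dvec n ω j = c) : False := by
  obtain ⟨hω0, hω1, hω2, hω4, hω3, -⟩ := omega_facts r hr hr2 ω hω
  set b : F := ω⁻¹ ^ 2 with hb
  have hbω : b * ω ^ 2 = 1 := by
    rw [hb, inv_pow, inv_mul_cancel₀ (pow_ne_zero 2 hω0)]
  have hb0 : b ≠ 0 := by
    intro h0
    rw [h0, zero_mul] at hbω
    exact zero_ne_one hbω
  have hb1 : b ≠ 1 := by
    intro h1
    rw [h1, one_mul] at hbω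
    exact hω2 hbω
  have hinj : ∀ a a' : Fin n, σ a = σ a' → a = a' := fun a a' h => σ.injective h
  -- step 1 : `c = 1`
  have hc1 : c = 1 := by
    by_contra hc
    have hlt : ∀ j : Fin n, 3 ≤ j.val → (σ j).val < 3 := by
      intro j hj
      have h1 := h j
      rw [dvec_ge ω j hj, mul_one] at h1
      rcases dvec_cases ω (σ j) with ⟨h2, -⟩ | ⟨h2, -⟩ | ⟨h2, h3⟩
      · omega
      · omega
      · exact absurd (h1.symm.trans h3) hc
    obtain ⟨m, hm⟩ := he
    by_cases h8 : 7 ≤ n
    · -- four indices map injectively into three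
      have e3 := hlt ⟨3, by omega⟩ (le_refl _)
      have e4 := hlt ⟨4, by omega⟩ (by simp)
      have e5 := hlt ⟨5, by omega⟩ (by simp)
      have e6 := hlt ⟨6, by omega⟩ (by simp)
      have i34 : σ ⟨3, by omega⟩ ≠ σ ⟨4, by omega⟩ := fun h => by
        have := hinj _ _ h; simp [Fin.ext_iff] at this
      have i35 : σ ⟨3, by omega⟩ ≠ σ ⟨5, by omega⟩ := fun h => by
        have := hinj _ _ h; simp [Fin.ext_iff] at this
      have i36 : σ ⟨3, by omega⟩ ≠ σ ⟨6, by omega⟩ := fun h => by
        have := hinj _ _ h; simp [Fin.ext_iff] at this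
      have i45 : σ ⟨4, by omega⟩ ≠ σ ⟨5, by omega⟩ := fun h => by
        have := hinj _ _ h; simp [Fin.ext_iff] at this
      have i46 : σ ⟨4, by omega⟩ ≠ σ ⟨6, by omega⟩ := fun h => by
        have := hinj _ _ h; simp [Fin.ext_iff] at this
      have i56 : σ ⟨5, by omega⟩ ≠ σ ⟨6, by omega⟩ := fun h => by
        have := hinj _ _ h; simp [Fin.ext_iff] at this
      rw [Ne, Fin.ext_iff] at i34 i35 i36 i45 i46 i56
      omega
    · by_cases h6 : n = 6
      · -- `σ` maps `{3,4,5}` onto `{0,1,2}`, so `ω = b`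
        have e3 := hlt ⟨3, by omega⟩ (le_refl _)
        have e4 := hlt ⟨4, by omega⟩ (by simp)
        have e5 := hlt ⟨5, by omega⟩ (by simp)
        have i34 : σ ⟨3, by omega⟩ ≠ σ ⟨4, by omega⟩ := fun h => by
          have := hinj _ _ h; simp [Fin.ext_iff] at this
        have i35 : σ ⟨3, by omega⟩ ≠ σ ⟨5, by omega⟩ := fun h => by
          have := hinj _ _ h; simp [Fin.ext_iff] at this
        have i45 : σ ⟨4, by omega⟩ ≠ σ ⟨5, by omega⟩ := fun h => by
          have := hinj _ _ h; simp [Fin.ext_iff] at this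
        rw [Ne, Fin.ext_iff] at i34 i35 i45
        have hex0 : ∃ j : Fin n, 3 ≤ j.val ∧ (σ j).val = 0 := by
          by_cases a3 : (σ ⟨3, by omega⟩).val = 0
          · exact ⟨_, le_refl _, a3⟩
          · by_cases a4 : (σ ⟨4, by omega⟩).val = 0
            · exact ⟨⟨4, by omega⟩, by simp, a4⟩
            · exact ⟨⟨5, by omega⟩, by simp, by omega⟩
        have hex2 : ∃ j : Fin n, 3 ≤ j.val ∧ (σ j).val = 2 := by
          by_cases a3 : (σ ⟨3, by omega⟩).val = 2
          · exact ⟨_, le_refl _, a3⟩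
          · by_cases a4 : (σ ⟨4, by omega⟩).val = 2
            · exact ⟨⟨4, by omega⟩, by simp, a4⟩
            · exact ⟨⟨5, by omega⟩, by simp, by omega⟩
        obtain ⟨j0, hj0, hj0'⟩ := hex0
        obtain ⟨j2, hj2, hj2'⟩ := hex2
        have f0 := h j0
        rw [dvec_ge ω j0 hj0, mul_one, dvec_lt ω _ (by omega)] at f0
        have f2 := h j2
        rw [dvec_ge ω j2 hj2, mul_one, dvec_two ω _ hj2'] at f2
        have hωb : ω = b := f0.trans f2.symm
        have h3 : ω ^ 3 = 1 := by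
          calc ω ^ 3 = ω * ω ^ 2 := by ring
            _ = b * ω ^ 2 := by rw [← hωb]
            _ = 1 := hbω
        exact hgap ⟨h6, hω3 h3⟩
      · -- `n = 4`
        have hn4 : n = 4 := by omega
        have hk := hlt ⟨3, by omega⟩ (le_refl _)
        set k := σ ⟨3, by omega⟩ with hkdef
        have hDk : dvec n ω k = c := by
          have h1 := h ⟨3, by omega⟩
          rwa [dvec_ge ω (⟨3, by omega⟩ : Fin n) (le_refl _), mul_one] at h1
        have hc0 : c ≠ 0 := by
          rw [← hDk]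
          rcases dvec_cases ω k with ⟨-, h3⟩ | ⟨-, h3⟩ | ⟨-, h3⟩
          · rw [h3]; exact hω0
          · rw [h3]; exact hb0
          · rw [h3]; exact one_ne_zero
        have hσk : (σ k).val = 3 := by
          have h1 := h k
          rw [hDk] at h1
          have h2 : dvec n ω (σ k) = 1 := by
            have : (dvec n ω (σ k) - 1) * c = 0 := by linear_combination h1
            rcases mul_eq_zero.1 this with h3 | h3
            · exact sub_eq_zero.1 h3
            · exact absurd h3 hc0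
          rcases dvec_cases ω (σ k) with ⟨-, h3⟩ | ⟨-, h3⟩ | ⟨h4, -⟩
          · exact absurd (h3.symm.trans h2) hω1
          · exact absurd (h3.symm.trans h2) hb1
          · have := (σ k).isLt
            omega
        -- an index `k' < 2` different from `k`
        obtain ⟨k', hk'2, hk'k⟩ : ∃ k' : Fin n, k'.val < 2 ∧ k' ≠ k := by
          by_cases hk0 : k.val = 0
          · refine ⟨⟨1, by omega⟩, by simp, ?_⟩
            intro h; rw [← h] at hk0; simp at hk0
          · refine ⟨⟨0, by omega⟩, by simp, ?_⟩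
            intro h; rw [← h] at hk0; simp at hk0
        have hσk' : (σ k').val < 3 := by
          have h1 : σ k' ≠ σ k := fun h => hk'k (hinj _ _ h)
          rw [Ne, Fin.ext_iff] at h1
          have := (σ k').isLt
          omega
        have h1 := h k'
        rw [dvec_lt ω k' hk'2, ← hDk] at h1
        rcases dvec_cases ω (σ k') with ⟨-, h3⟩ | ⟨-, h3⟩ | ⟨h4, -⟩
        · rcases dvec_cases ω k with ⟨-, h5⟩ | ⟨-, h5⟩ | ⟨h6, -⟩
          · rw [h3, h5] at h1
            have : ω * (ω - 1) = 0 := by linear_combination h1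
            rcases mul_eq_zero.1 this with h7 | h7
            · exact hω0 h7
            · exact hω1 (sub_eq_zero.1 h7)
          · rw [h3, h5] at h1
            apply hω4
            calc ω ^ 4 = (ω * ω) * ω ^ 2 := by ring
              _ = b * ω ^ 2 := by rw [h1]
              _ = 1 := hbω
          · omega
        · rcases dvec_cases ω k with ⟨-, h5⟩ | ⟨-, h5⟩ | ⟨h6, -⟩
          · rw [h3, h5] at h1
            have : (b - 1) * ω = 0 := by linear_combination h1
            rcases mul_eq_zero.1 this with h7 | h7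
            · exact hb1 (sub_eq_zero.1 h7)
            · exact hω0 h7
          · rw [h3, h5] at h1
            have : b * (ω - 1) = 0 := by linear_combination h1
            rcases mul_eq_zero.1 this with h7 | h7
            · exact hb0 h7
            · exact hω1 (sub_eq_zero.1 h7)
          · omega
        · omega
  -- step 2 : contradiction
  subst hc1
  have h1 := h ⟨0, by omega⟩
  rw [dvec_lt ω ⟨0, by omega⟩ (by simp)] at h1
  rcases dvec_cases ω (σ ⟨0, by omega⟩) with ⟨-, h3⟩ | ⟨-, h3⟩ | ⟨-, h3⟩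
  · rw [h3] at h1
    apply hω2
    rw [pow_two]; exact h1
  · rw [h3] at h1
    apply hω1
    calc ω = (b * ω) * ω := by rw [h1, one_mul]
      _ = b * ω ^ 2 := by ring
      _ = 1 := hbω
  · rw [h3, one_mul] at h1
    exact hω1 h1

end comb

section diag

variable {F : Type*} [Field F] {n : ℕ}

theorem prod_dvec3 (hn : 4 ≤ n) (ω : F) (hω0 : ω ≠ 0) : ∏ j, dvec n ω j = 1 := by
  have h1 : ∏ j : Fin n, dvec n ω j =
      ∏ k ∈ Finset.range n, (if k < 2 then ω else if k = 2 then ω⁻¹ ^ 2 else 1) :=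
    Fin.prod_univ_eq_prod_range (fun k => if k < 2 then ω else if k = 2 then ω⁻¹ ^ 2 else 1) n
  rw [h1]
  have h2 : ∏ k ∈ Finset.range n, (if k < 2 then ω else if k = 2 then ω⁻¹ ^ 2 else (1 : F)) =
      ∏ k ∈ Finset.range 3, (if k < 2 then ω else if k = 2 then ω⁻¹ ^ 2 else (1 : F)) := by
    symm
    apply Finset.prod_subset
    · intro k hk
      rw [Finset.mem_range] at hk ⊢
      omega
    · intro k _ hk
      rw [Finset.mem_range] at hk
      have e1 : ¬ k < 2 := by omega
      have e2 : ¬ k = 2 := by omega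
      simp [e1, e2]
  rw [h2, Finset.prod_range_succ, Finset.prod_range_succ, Finset.prod_range_succ,
    Finset.prod_range_zero]
  simp only [one_mul]
  norm_num
  rw [← pow_two, mul_inv_cancel₀ (pow_ne_zero 2 hω0)]

theorem dvec_pow (r : ℕ) (ω : F) (hωr : ω ^ r = 1) (j : Fin n) : dvec n ω j ^ r = 1 := by
  rcases dvec_cases ω j with ⟨-, h⟩ | ⟨-, h⟩ | ⟨-, h⟩
  · rw [h, hωr]
  · rw [h, ← pow_mul, mul_comm, pow_mul, inv_pow, hωr, inv_one, one_pow]
  · rw [h, one_pow]

/-- the diagonal element: determinant, order, non-scalar, and the core property -/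
theorem diag_det (hn : 4 ≤ n) (ω : F) (hω0 : ω ≠ 0) : (Matrix.diagonal (dvec n ω)).det = 1 := by
  rw [Matrix.det_diagonal, prod_dvec3 hn ω hω0]

theorem diag_pow (r : ℕ) (ω : F) (hωr : ω ^ r = 1) :
    (Matrix.diagonal (dvec n ω)) ^ r = 1 := by
  rw [Matrix.diagonal_pow, ← Matrix.diagonal_one]
  congr 1
  funext j
  exact dvec_pow r ω hωr j

theorem diag_not_scalar (hn : 4 ≤ n) (ω : F) (hω1 : ω ≠ 1) (z : F) :
    Matrix.diagonal (dvec n ω) ≠ z • (1 : Matrix (Fin n) (Fin n) F) := by
  intro h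
  have h0 := congrFun (congrFun h ⟨0, by omega⟩) ⟨0, by omega⟩
  have h3 := congrFun (congrFun h ⟨3, by omega⟩) ⟨3, by omega⟩
  rw [Matrix.diagonal_apply_eq, Matrix.smul_apply, Matrix.one_apply_eq, smul_eq_mul, mul_one]
    at h0 h3
  rw [dvec_lt ω _ (by simp)] at h0
  rw [dvec_ge ω _ (le_refl _)] at h3
  exact hω1 (h0.trans h3.symm)

theorem diag_core (hn : 4 ≤ n) (he : Even n) (r : ℕ) (hr : r.Prime) (hr2 : r ≠ 2)
    (hgap : ¬ (n = 6 ∧ r = 3)) (ω : F) (hω : orderOf ω = r)
    (g : (Fin n → F) → (Fin n → F) → F) (hg : Cfsg.Geo.IsSymplecticForm g) (c : F) :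
    ¬ ∀ u v, g (Matrix.diagonal (dvec n ω) *ᵥ u) (Matrix.diagonal (dvec n ω) *ᵥ v) = c * g u v := by
  intro h
  obtain ⟨σ, hσ⟩ := exists_pairing hg (dvec n ω) c h
  exact no_pairing hn he r hr hr2 hgap ω hω c σ hσ

end diag

end Cfsg.Agent.Lib.H12.BGSp
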