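import Mathlib
import Cfsg.Agent.Lib.H12.BGSpB
import Cfsg.Agent.Lib.H12.PSpA
import Cfsg.Agent.Lib.H12.PGraphD

/-!
# Derangements of `PSL_n(q)` on the cosets of a subgroup of type `Sp_n(q)` (part D)
(helper12)

The case `r ∤ q(q-1)` with `i = ord_r(q)` odd, `i < n`: the block matrix `[Λ, I_{n-i}]` with
`Λ ∈ GL_i(q)` of order `r` is a similitude of no non-degenerate alternating form.
-/

set_option autoImplicit false
set_option linter.unusedSectionVars false

namespace Cfsg.Agent.Lib.H12.BGSp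

open Matrix Module

section block

variable {F : Type*} [Field F] {n i : ℕ}

/-- the index equivalence -/
def blockEquiv (i n : ℕ) (h : i ≤ n) : Fin i ⊕ Fin (n - i) ≃ Fin n :=
  finSumFinEquiv.trans (finCongr (by omega))

/-- the block matrix `[Λ, I]` -/
noncomputable def blockMat (h : i ≤ n) (Λ : Matrix (Fin i) (Fin i) F) :
    Matrix (Fin n) (Fin n) F :=
  Matrix.reindexAlgEquiv F F (blockEquiv i n h) (Matrix.fromBlocks Λ 0 0 1)

theorem blockMat_det (h : i ≤ n) (Λ : Matrix (Fin i) (Fin i) F) :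
    (blockMat h Λ).det = Λ.det := by
  unfold blockMat
  rw [Matrix.det_reindexAlgEquiv, Matrix.det_fromBlocks_zero₂₁, Matrix.det_one, mul_one]

theorem blockMat_pow (h : i ≤ n) (Λ : Matrix (Fin i) (Fin i) F) (k : ℕ) :
    blockMat h Λ ^ k = blockMat h (Λ ^ k) := by
  unfold blockMat
  rw [← map_pow, Matrix.fromBlocks_diagonal_pow, one_pow]

theorem blockMat_one (h : i ≤ n) : blockMat h (1 : Matrix (Fin i) (Fin i) F) = 1 := by
  unfold blockMat
  rw [Matrix.fromBlocks_one, map_one]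

theorem blockMat_injective (h : i ≤ n) :
    Function.Injective (blockMat (F := F) h) := by
  intro A B hAB
  unfold blockMat at hAB
  have h1 := (Matrix.reindexAlgEquiv F F (blockEquiv i n h)).injective hAB
  rw [Matrix.fromBlocks_inj] at h1
  exact h1.1

theorem blockMat_sub_one_rank (h : i ≤ n) (Λ : Matrix (Fin i) (Fin i) F) :
    (blockMat h Λ - 1).rank ≤ i := by
  have e1 : blockMat h Λ - 1 = Matrix.reindexAlgEquiv F F (blockEquiv i n h)
      (Matrix.fromBlocks (Λ - 1) 0 0 (0 : Matrix (Fin (n - i)) (Fin (n - i)) F)) := by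
    rw [← blockMat_one (F := F) h]
    unfold blockMat
    rw [← map_sub]
    congr 1
    ext (a | a) (b | b) <;> simp [Matrix.one_apply]
  have e2 : Matrix.fromBlocks (Λ - 1) 0 0 (0 : Matrix (Fin (n - i)) (Fin (n - i)) F) =
      Matrix.fromRows (1 : Matrix (Fin i) (Fin i) F) (0 : Matrix (Fin (n - i)) (Fin i) F) *
        Matrix.fromCols (Λ - 1) (0 : Matrix (Fin i) (Fin (n - i)) F) := by
    rw [Matrix.fromRows_mul_fromCols]
    simp
  rw [e1, Matrix.coe_reindexAlgEquiv, Matrix.rank_reindex, e2]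
  refine (Matrix.rank_mul_le_left _ _).trans ((Matrix.rank_le_card_width _).trans ?_)
  simp

theorem blockMat_not_scalar (h : i + 1 ≤ n) (Λ : Matrix (Fin i) (Fin i) F) (hΛ : Λ ≠ 1) (z : F) :
    blockMat (by omega : i ≤ n) Λ ≠ z • (1 : Matrix (Fin n) (Fin n) F) := by
  intro hz
  unfold blockMat at hz
  have h1 := congrArg (Matrix.reindexAlgEquiv F F (blockEquiv i n (by omega))).symm hz
  rw [AlgEquiv.symm_apply_apply, map_smul, map_one, ← Matrix.fromBlocks_one,
    Matrix.fromBlocks_smul, Matrix.fromBlocks_inj] at h1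
  obtain ⟨h2, -, -, h3⟩ := h1
  have h4 := congrFun (congrFun h3 ⟨0, by omega⟩) ⟨0, by omega⟩
  rw [Matrix.smul_apply, Matrix.one_apply_eq, smul_eq_mul, mul_one] at h4
  rw [← h4, one_smul] at h2
  exact hΛ h2

end block

section core

variable {F : Type*} [Field F] [Fintype F] {n i : ℕ}

/-- the block matrix is a similitude of no symplectic form -/
theorem block_core (p : ℕ) [Fact p.Prime] [CharP F p] (h : i + 1 ≤ n) (r : ℕ) [Fact r.Prime]
    (hrp : r ≠ p) (hi : i = orderOf ((Fintype.card F : ℕ) : ZMod r)) (hiodd : Odd i)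
    (hrq : ¬ r ∣ Fintype.card F - 1)
    (Λ : Matrix (Fin i) (Fin i) F) (hΛr : Λ ^ r = 1) (hΛ1 : Λ ≠ 1)
    (g : (Fin n → F) → (Fin n → F) → F) (hg : Cfsg.Geo.IsSymplecticForm g) (c : F) (hc : c ≠ 0) :
    ¬ ∀ u v, g (blockMat (by omega : i ≤ n) Λ *ᵥ u) (blockMat (by omega : i ≤ n) Λ *ᵥ v) =
      c * g u v := by
  intro hsim
  have hr : r.Prime := Fact.out
  set X := blockMat (F := F) (by omega : i ≤ n) Λ with hX
  have hXr : X ^ r = 1 := by
    rw [hX, blockMat_pow, hΛr, blockMat_one]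
  have hcr : c ^ r = 1 := mult_pow_eq_one hg (by omega) X c hsim r hXr
  have hcq : c ^ (Fintype.card F - 1) = 1 := FiniteField.pow_card_sub_one_eq_one c hc
  have hc1 : c = 1 := by
    have h1 := pow_gcd_eq_one.2 ⟨hcr, hcq⟩
    have h2 : Nat.gcd r (Fintype.card F - 1) = 1 := (Nat.Prime.coprime_iff_not_dvd hr).2 hrq
    rwa [h2, pow_one] at h1
  subst hc1
  set T : Module.End F (Fin n → F) := Matrix.toLin' X with hT
  have hsp : Cfsg.Agent.Lib.H12.SpSemi.SpData (toB hg.bilinear) T := by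
    refine ⟨toB_alt hg, toB_nd hg, fun u v => ?_⟩
    rw [toB_apply, toB_apply, hT, Matrix.toLin'_apply, Matrix.toLin'_apply, hsim, one_mul]
  have hTr : T ^ r = 1 := by
    rw [hT, ← Matrix.toLin'_pow, hXr, Matrix.toLin'_one]
    rfl
  have hrF : (r : F) ≠ 0 := by
    intro h0
    rw [CharP.cast_eq_zero_iff F p] at h0
    exact hrp ((Nat.prime_dvd_prime_iff_eq Fact.out hr).1 h0).symm
  have hdvd := Cfsg.Agent.Lib.H12.PSpG.two_eta_dvd hsp r hTr hrF hi (Or.inl ⟨hiodd, rfl⟩)
  have hT1 : T ≠ 1 := by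
    intro h1
    apply hΛ1
    apply blockMat_injective (F := F) (by omega : i ≤ n)
    rw [blockMat_one]
    apply Matrix.toLin'.injective
    rw [Matrix.toLin'_one]
    exact h1
  have hpos := Cfsg.Agent.Lib.H12.PSpG.finrank_range_pos hT1
  have hle : finrank F (LinearMap.range (T - 1)) ≤ i := by
    have h1 : T - 1 = (X - 1).mulVecLin := by
      apply LinearMap.ext
      intro u
      rw [LinearMap.sub_apply, Module.End.one_apply, hT, Matrix.toLin'_apply,
        Matrix.mulVecLin_apply, Matrix.sub_mulVec, Matrix.one_mulVec]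
    rw [h1]
    exact blockMat_sub_one_rank (by omega : i ≤ n) Λ
  have h2 := Nat.le_of_dvd hpos hdvd
  omega

end core

section exist

variable {F : Type*} [Field F] [Fintype F]

/-- a matrix of order `r` and determinant one in `GL_i(q)`, `i = ord_r(q) ≥ 2` -/
theorem exists_singer_block (r : ℕ) [Fact r.Prime] (i : ℕ)
    (hi : i = orderOf ((Fintype.card F : ℕ) : ZMod r)) (hi1 : 1 ≤ i)
    (hrq : ¬ r ∣ Fintype.card F - 1) :
    ∃ Λ : Matrix (Fin i) (Fin i) F, Λ ^ r = 1 ∧ Λ ≠ 1 ∧ Λ.det = 1 := by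
  have hr : r.Prime := Fact.out
  have hdvd : r ∣ Fintype.card F ^ i - 1 := by
    rw [Cfsg.Agent.Lib.H12.PGraph.dvd_pow_sub_one_iff' _ _ Fintype.card_pos, hi]
  obtain ⟨γ, hγ⟩ := Cfsg.Agent.Lib.H12.PGraph.exists_orderOf_of_dvd (F := F) hi1 hdvd
  have hγr : γ ^ r = 1 := by rw [← hγ]; exact pow_orderOf_eq_one γ
  have hγ1 : γ ≠ 1 := by
    intro h1
    rw [h1, orderOf_one] at hγ
    exact hr.one_lt.ne' hγ.symm
  refine ⟨(γ : Matrix (Fin i) (Fin i) F), ?_, ?_, ?_⟩
  · rw [← Units.val_pow_eq_pow_val, hγr, Units.val_one]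
  · intro h1
    apply hγ1
    apply Units.ext
    rw [h1, Units.val_one]
  · have hd0 : (γ : Matrix (Fin i) (Fin i) F).det ≠ 0 := by
      have := (Matrix.GeneralLinearGroup.det γ).ne_zero
      rwa [Matrix.GeneralLinearGroup.val_det_apply] at this
    have h1 : (γ : Matrix (Fin i) (Fin i) F).det ^ r = 1 := by
      rw [← Matrix.det_pow, ← Units.val_pow_eq_pow_val, hγr, Units.val_one, Matrix.det_one]
    have h2 : (γ : Matrix (Fin i) (Fin i) F).det ^ (Fintype.card F - 1) = 1 :=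
      FiniteField.pow_card_sub_one_eq_one _ hd0
    have h3 := pow_gcd_eq_one.2 ⟨h1, h2⟩
    have h4 : Nat.gcd r (Fintype.card F - 1) = 1 := (Nat.Prime.coprime_iff_not_dvd hr).2 hrq
    rwa [h4, pow_one] at h3

end exist

end Cfsg.Agent.Lib.H12.BGSp
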