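import Mathlib
import Cfsg.Prelude.Def_Blocks
import Cfsg.Agent.Lib.L0.BlockPReg
import Cfsg.Agent.Lib.L0.BlockQuotDefect
import Cfsg.Agent.Lib.H24.CharDefl

/-!
# S4719 Part I, piece B2a (helper12): blocks of `C ⧸ N` from blocks of `C`, `N` a central `p`-subgroup

If the inflations of `ψ`, `φ` lie in the same block of `C` then `ψ`, `φ` lie in the same block of
`C ⧸ N`: by the `p`-regular criterion in `C ⧸ N`, every `p`-regular element of `C ⧸ N` is the image
of a `p`-regular `g`, and the class sizes of `g` and its image agree.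
-/

set_option autoImplicit false

namespace Cfsg.Agent.Lib.H12.BI

open Cfsg Cfsg.Agent.Lib.H23 Cfsg.Agent.Lib.H24

variable {C : Type*} [Group C] [Finite C] {p : ℕ} {M : Ideal AlgInt}

/-- (B2a INFLa) for a CENTRAL `p`-subgroup `N`: if the inflations lie in the same block of `C`, the
characters lie in the same block of `C ⧸ N`. -/
theorem sameBlock_of_inflIrr (hM : IsPModular p M) (N : Subgroup C) [N.Normal]
    (hNc : N ≤ Subgroup.center C) (hNp : IsPGroup p N) (ψ φ : IrrCharacter (C ⧸ N))
    (h : SameBlock M (inflIrr N ψ : C → ℂ) (inflIrr N φ : C → ℂ)) :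
    SameBlock M (ψ : C ⧸ N → ℂ) (φ : C ⧸ N → ℂ) := by
  classical
  have : Fintype C := Fintype.ofFinite C
  have : Fintype (C ⧸ N) := Fintype.ofFinite _
  apply Cfsg.Agent.Lib.L0.BlockPReg.sameBlock_of_pRegular hM ψ φ
  intro q hq
  obtain ⟨g, hg, rfl⟩ := Cfsg.Agent.Lib.H23.exists_pRegular_preimage N hM.1 hq
  have hidx := Cfsg.Agent.Lib.L0.BlockQuotDefect.index_centralizer_mk_of_le N hM.1 hNp hg
    (hNc.trans (Subgroup.center_le_centralizer _))
  have hg' := h g
  unfold centralChar at hg' ⊢
  rw [hidx]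
  simpa only [inflIrr_apply, QuotientGroup.mk_one] using hg'

end Cfsg.Agent.Lib.H12.BI
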