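import Mathlib
import Cfsg.Agent.Lib.H8.BQ0

/-!
# S4719 Part II, piece G4a (helper12): index of an intersection of centralizers

`|G : C_G(y)| ≤ c` for all `y ∈ S` gives `|G : C_G(S)| ≤ c ^ |S|` (Finset induction with
`Subgroup.relIndex_inf_le`).
-/

set_option autoImplicit false

universe u

namespace Cfsg.Agent.Lib.H12.BQ

open Subgroup Cfsg.Agent.Lib.H8.BQ

/-- For `A ≤ G`: `|G| ≤ k |A|` iff `|G : A| ≤ k`. -/
theorem card_le_mul_card_iff_relIndex_le {Γ : Type u} [Group Γ] [Finite Γ] {A G : Subgroup Γ}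
    (hAG : A ≤ G) (k : ℕ) : Nat.card G ≤ k * Nat.card A ↔ A.relIndex G ≤ k := by
  have h : Nat.card A * A.relIndex G = Nat.card G := by
    have h1 := (A.subgroupOf G).card_mul_index
    rwa [Nat.card_congr (Subgroup.subgroupOfEquivOfLe hAG).toEquiv] at h1
  have hpos : 0 < Nat.card A := Nat.card_pos
  rw [← h, mul_comm k]
  exact Nat.mul_le_mul_left_iff hpos

/-- G4a. Index of an intersection of centralizers. -/
theorem card_le_pow_mul_card_inf_centralizer {Γ : Type u} [Group Γ] [Finite Γ] (G : Subgroup Γ)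
    (S : Finset Γ) (c : ℕ)
    (hS : ∀ y ∈ S, Nat.card G ≤ c * Nat.card ↥(G ⊓ centralizer {y})) :
    Nat.card G ≤ c ^ S.card * Nat.card ↥(G ⊓ centralizer ((S : Finset Γ) : Set Γ)) := by
  classical
  induction S using Finset.induction_on with
  | empty =>
    have h : G ⊓ centralizer ((∅ : Finset Γ) : Set Γ) = G := by
      apply inf_eq_left.mpr
      intro x _
      rw [mem_centralizer_iff]
      intro z hz
      simp at hz
    rw [h]
    simp
  | insert y S' hy ih =>
    have ih' := ih (fun z hz => hS z (Finset.mem_insert_of_mem hz))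
    have hy' := hS y (Finset.mem_insert_self y S')
    rw [card_le_mul_card_iff_relIndex_le inf_le_left] at ih' hy' ⊢
    have heq : G ⊓ centralizer ((insert y S' : Finset Γ) : Set Γ)
        = (G ⊓ centralizer {y}) ⊓ (G ⊓ centralizer ((S' : Finset Γ) : Set Γ)) := by
      ext x
      simp only [Finset.coe_insert, mem_inf, mem_centralizer_iff, Set.mem_insert_iff,
        Set.mem_singleton_iff, Finset.mem_coe]
      constructor
      · rintro ⟨hxG, hx⟩
        exact ⟨⟨hxG, fun z hz => hx z (Or.inl hz)⟩, hxG, fun z hz => hx z (Or.inr hz)⟩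
      · rintro ⟨⟨hxG, hx1⟩, -, hx2⟩
        refine ⟨hxG, fun z hz => ?_⟩
        rcases hz with hz | hz
        · exact hx1 z hz
        · exact hx2 z hz
    rw [heq, Finset.card_insert_of_notMem hy, pow_succ']
    exact (Subgroup.relIndex_inf_le).trans (Nat.mul_le_mul hy' ih')

end Cfsg.Agent.Lib.H12.BQ
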