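import Mathlib
import Cfsg.Agent.Lib.H12.SL2Ind2
import Cfsg.Agent.Lib.H12.SL2Odd

set_option autoImplicit false

/-!
# The class number of the Borel subgroup of `SL₂(q)`, `q` odd
-/

namespace Cfsg.Agent.Lib.H12

open Matrix

section borel

variable {F : Type*} [Field F]

theorem borelMkSL_mul (a b : Fˣ) (e f : F) :
    borelMkSL (a, e) * borelMkSL (b, f) =
      borelMkSL (a * b, (a : F) * f + e * ((b⁻¹ : Fˣ) : F)) := by
  apply Subtype.ext
  apply Subtype.ext
  rw [Subgroup.coe_mul, Matrix.SpecialLinearGroup.coe_mul, borelMkSL_val, borelMkSL_val, borelMkSL_val]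
  ext i j
  fin_cases i <;> fin_cases j <;> simp [Matrix.mul_apply, Fin.sum_univ_two, mul_comm]

theorem commute_borelMkSL_iff (a b : Fˣ) (e f : F) :
    Commute (borelMkSL (a, e)) (borelMkSL (b, f)) ↔
      f * ((a : F) - ((a⁻¹ : Fˣ) : F)) = e * ((b : F) - ((b⁻¹ : Fˣ) : F)) := by
  rw [Commute, SemiconjBy, borelMkSL_mul, borelMkSL_mul, borelMkSL_bijective.1.eq_iff, Prod.mk.injEq]
  constructor
  · rintro ⟨-, h⟩
    linear_combination h
  · intro h
    exact ⟨mul_comm a b, by linear_combination h⟩

variable [Fintype F] [DecidableEq F]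

/-- the number of solutions of a linear equation in two unknowns -/
theorem card_line (α β : F) :
    (Finset.univ.filter (fun p : F × F => p.2 * α = p.1 * β)).card =
      if α = 0 ∧ β = 0 then Fintype.card F ^ 2 else Fintype.card F := by
  split_ifs with h
  · obtain ⟨rfl, rfl⟩ := h
    simp [sq]
  · rw [not_and_or] at h
    by_cases hα : α = 0
    · have hβ : β ≠ 0 := h.resolve_left (fun h' => h' hα)
      subst hα
      -- `p.1 = 0`
      have : (Finset.univ.filter (fun p : F × F => p.2 * 0 = p.1 * β)) =
          Finset.univ.image (fun t : F => ((0 : F), t)) := by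
        ext ⟨x, y⟩
        simp only [mul_zero, Finset.mem_filter, Finset.mem_univ, true_and, Finset.mem_image,
          Prod.mk.injEq]
        constructor
        · intro hx
          have : x = 0 := by
            rcases mul_eq_zero.mp hx.symm with h' | h'
            · exact h'
            · exact absurd h' hβ
          exact ⟨y, this.symm, rfl⟩
        · rintro ⟨t, rfl, rfl⟩
          simp
      rw [this, Finset.card_image_of_injective _ (fun s t hst => (Prod.mk.inj hst).2),
        Finset.card_univ]
    · have : (Finset.univ.filter (fun p : F × F => p.2 * α = p.1 * β)) =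
          Finset.univ.image (fun t : F => (t, t * β / α)) := by
        ext ⟨x, y⟩
        simp only [Finset.mem_filter, Finset.mem_univ, true_and, Finset.mem_image, Prod.mk.injEq]
        constructor
        · intro hx
          refine ⟨x, rfl, ?_⟩
          rw [← hx]
          field_simp
        · rintro ⟨t, rfl, rfl⟩
          field_simp
      rw [this, Finset.card_image_of_injective _ (fun s t hst => (Prod.mk.inj hst).1),
        Finset.card_univ]

end borel

section borel2

variable {F : Type*} [Field F] [Fintype F] [DecidableEq F]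

theorem sum_ite_const {α : Type*} [Fintype α] (P : α → Prop) [DecidablePred P] (x y : ℕ) :
    ∑ a : α, (if P a then x else y) =
      (Finset.univ.filter P).card * x + (Fintype.card α - (Finset.univ.filter P).card) * y := by
  rw [Finset.sum_ite, Finset.sum_const, Finset.sum_const, smul_eq_mul, smul_eq_mul]
  congr 2
  have := Finset.card_filter_add_card_filter_not (s := (Finset.univ : Finset α)) P
  rw [Finset.card_univ] at this
  omega

/-- for odd `q` exactly two units are their own inverses -/
theorem card_units_self_inv (h2 : (2 : F) ≠ 0) :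
    (Finset.univ.filter (fun a : Fˣ => (a : F) - ((a⁻¹ : Fˣ) : F) = 0)).card = 2 := by
  have : (Finset.univ.filter (fun a : Fˣ => (a : F) - ((a⁻¹ : Fˣ) : F) = 0)) = {1, -1} := by
    ext a
    simp only [Finset.mem_filter, Finset.mem_univ, true_and, Finset.mem_insert, Finset.mem_singleton]
    constructor
    · intro h
      have ha := a.ne_zero
      have h1 : ((a : F) - 1) * ((a : F) + 1) = 0 := by
        have h3 : (a : F) * ((a : F) - ((a⁻¹ : Fˣ) : F)) = 0 := by rw [h, mul_zero]
        rw [Units.val_inv_eq_inv_val, mul_sub, mul_inv_cancel₀ ha] at h3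
        linear_combination h3
      rcases mul_eq_zero.mp h1 with h' | h'
      · left; apply Units.ext; rw [Units.val_one]; linear_combination h'
      · right; apply Units.ext; rw [Units.val_neg, Units.val_one]; linear_combination h'
    · rintro (rfl | rfl)
      · simp
      · simp
  rw [this, Finset.card_pair]
  intro h
  have := congrArg Units.val h
  rw [Units.val_neg, Units.val_one] at this
  apply h2
  linear_combination this

/-- the number of commuting pairs in the Borel subgroup -/
theorem card_commute_borelSL (hodd : Odd (Fintype.card F)) :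
    Nat.card {p : borelSL F × borelSL F // Commute p.1 p.2} =
      Fintype.card F * (Fintype.card F - 1) * (Fintype.card F + 3) := by
  classical
  have h2 : (2 : F) ≠ 0 := two_ne_zero_of_odd hodd
  let eB : (Fˣ × F) ≃ borelSL F := Equiv.ofBijective _ (borelMkSL_bijective (F := F))
  have e : {p : borelSL F × borelSL F // Commute p.1 p.2} ≃
      {x : (Fˣ × F) × (Fˣ × F) //
        x.2.2 * ((x.1.1 : F) - ((x.1.1⁻¹ : Fˣ) : F)) = x.1.2 * ((x.2.1 : F) - ((x.2.1⁻¹ : Fˣ) : F))} :=
    ((Equiv.prodCongr eB eB).subtypeEquiv (fun x => by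
      obtain ⟨⟨a, e⟩, ⟨b, f⟩⟩ := x
      exact (commute_borelMkSL_iff a b e f).symm)).symm
  rw [Nat.card_congr e, Nat.card_eq_fintype_card, Fintype.card_subtype, Finset.card_filter,
    Fintype.sum_prod_type]
  simp only [Fintype.sum_prod_type]
  -- reorder the sums
  have hswap : ∀ a : Fˣ, ∑ e : F, ∑ b : Fˣ, ∑ f : F,
      (if f * ((a : F) - ((a⁻¹ : Fˣ) : F)) = e * ((b : F) - ((b⁻¹ : Fˣ) : F)) then 1 else 0) =
      ∑ b : Fˣ, (if (a : F) - ((a⁻¹ : Fˣ) : F) = 0 ∧ (b : F) - ((b⁻¹ : Fˣ) : F) = 0
        then Fintype.card F ^ 2 else Fintype.card F) := by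
    intro a
    rw [Finset.sum_comm]
    apply Finset.sum_congr rfl
    intro b _
    rw [← card_line, Finset.card_filter, Fintype.sum_prod_type]
  rw [Finset.sum_congr rfl (fun a _ => hswap a)]
  have hinner : ∀ a : Fˣ, ∑ b : Fˣ, (if (a : F) - ((a⁻¹ : Fˣ) : F) = 0 ∧ (b : F) - ((b⁻¹ : Fˣ) : F) = 0
        then Fintype.card F ^ 2 else Fintype.card F) =
      if (a : F) - ((a⁻¹ : Fˣ) : F) = 0 then 2 * Fintype.card F ^ 2 + (Fintype.card F - 1 - 2) * Fintype.card F
      else (Fintype.card F - 1) * Fintype.card F := by
    intro a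
    split_ifs with ha
    · simp only [ha, true_and]
      rw [sum_ite_const, card_units_self_inv h2, Fintype.card_units]
    · simp only [ha, false_and, if_false]
      rw [Finset.sum_const, Finset.card_univ, Fintype.card_units, smul_eq_mul]
  rw [Finset.sum_congr rfl (fun a _ => hinner a), sum_ite_const, card_units_self_inv h2,
    Fintype.card_units]
  obtain ⟨m, hm⟩ := hodd
  have hq : 1 < Fintype.card F := Fintype.one_lt_card
  have hm1 : 1 ≤ m := by omega
  obtain ⟨k, rfl⟩ : ∃ k, m = k + 1 := ⟨m - 1, by omega⟩
  rw [hm]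
  have e1 : 2 * (k + 1) + 1 - 1 = 2 * k + 2 := by omega
  have e2 : 2 * k + 2 - 2 = 2 * k := by omega
  rw [e1, e2]
  ring

end borel2

end Cfsg.Agent.Lib.H12
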