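import Mathlib
import Cfsg.Agent.Lib.H12.SL2Cliff

set_option autoImplicit false

/-!
# Classification of the irreducible characters of `SL₂(F)` by restriction from `GL₂(F)`

* `IsCuspGL2 π` : `π` is an irreducible character of `GL₂` outside the principal series
* `stCharSL` : the Steinberg character of `SL₂`
* `dg δ` : the diagonal matrix `diag(δ, 1)`
* `sl2_irr_classification`
-/

namespace Cfsg.Agent.Lib.H12

open Matrix Cfsg.Agent.Lib.L0 Cfsg.Agent.Lib.H24
open scoped ComplexConjugate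

variable {F : Type*} [Field F]

/-- The diagonal matrix `diag(δ, 1)` of `GL₂`. -/
noncomputable def dg (δ : Fˣ) : GL (Fin 2) F :=
  ((borelMk (δ, 1, 0) : Cfsg.upperTriangularGL 2 F) : GL (Fin 2) F)

theorem dg_val (δ : Fˣ) : ((dg δ : GL (Fin 2) F) : Matrix (Fin 2) (Fin 2) F) = !![(δ : F), 0; 0, 1] := by
  rw [dg, borelMk_val]
  simp

/-- Every element of `GL₂` is an element of `SL₂` times a diagonal matrix `diag(δ, 1)`. -/
theorem exists_eq_toGL_mul_dg (x : GL (Fin 2) F) :
    ∃ (m : Matrix.SpecialLinearGroup (Fin 2) F) (δ : Fˣ), x = Matrix.SpecialLinearGroup.toGL m * dg δ := by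
  set δ : Fˣ := Matrix.GeneralLinearGroup.det x with hδ
  have hdetdg : Matrix.GeneralLinearGroup.det (dg δ) = δ := by
    apply Units.ext
    rw [Matrix.GeneralLinearGroup.val_det_apply, dg_val, Matrix.det_fin_two_of]
    simp
  have hdet : ((x * (dg δ)⁻¹ : GL (Fin 2) F) : Matrix (Fin 2) (Fin 2) F).det = 1 := by
    rw [← Matrix.GeneralLinearGroup.val_det_apply, map_mul, map_inv, hdetdg, hδ, mul_inv_cancel]
    rfl
  let m : Matrix.SpecialLinearGroup (Fin 2) F := ⟨_, hdet⟩
  refine ⟨m, δ, ?_⟩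
  have hm : Matrix.SpecialLinearGroup.toGL m = x * (dg δ)⁻¹ := by
    apply Matrix.GeneralLinearGroup.ext
    intro i j
    rfl
  rw [hm, inv_mul_cancel_right]

/-- Conjugation by an arbitrary element of `GL₂` can be replaced by conjugation by `diag(δ, 1)`. -/
theorem exists_dg_conj (x : GL (Fin 2) F) : ∃ δ : Fˣ,
    ∀ (χ : Matrix.SpecialLinearGroup (Fin 2) F → ℂ),
      Cfsg.IsClassFunction (Matrix.SpecialLinearGroup (Fin 2) F) χ →
      ∀ n, χ (conjSL x n) = χ (conjSL (dg δ) n) := by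
  obtain ⟨m, δ, rfl⟩ := exists_eq_toGL_mul_dg x
  refine ⟨δ, fun χ hχ n => ?_⟩
  rw [← conjSL_conjSL, conjSL_toGL, hχ]

section fin

variable [Fintype F] [DecidableEq F]

/-- `π` is an irreducible character of `GL₂(F)` outside the principal series. -/
def IsCuspGL2 (π : GL (Fin 2) F → ℂ) : Prop :=
  Cfsg.IsIrrCharacter (GL (Fin 2) F) π ∧
    (∀ α β : MulChar F ℂ, Cfsg.classInner (psChar α β) π = 0) ∧
    π 1 = (Fintype.card F : ℂ) - 1 ∧
    π ((borelMk (1, 1, 1) : Cfsg.upperTriangularGL 2 F) : GL (Fin 2) F) = -1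

/-- The Steinberg character of `SL₂(F)`. -/
noncomputable def stCharSL : Matrix.SpecialLinearGroup (Fin 2) F → ℂ :=
  psCharSL (1 : MulChar F ℂ) - 1

theorem resSL_stChar (α : MulChar F ℂ) : resSL (stChar α) = stCharSL := by
  unfold stChar stCharSL
  rw [resSL_sub, resSL_detChar]
  have := resSL_psChar α α
  rw [mul_inv_cancel] at this
  rw [← this]

theorem psCharSL_one_apply (γ : MulChar F ℂ) :
    psCharSL γ (1 : Matrix.SpecialLinearGroup (Fin 2) F) = (Fintype.card F : ℂ) + 1 := by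
  have h := resSL_psChar γ 1
  rw [inv_one, mul_one] at h
  rw [← h, resSL_one, psChar_one]

theorem stCharSL_one : stCharSL (1 : Matrix.SpecialLinearGroup (Fin 2) F) = (Fintype.card F : ℂ) := by
  unfold stCharSL
  rw [Pi.sub_apply, psCharSL_one_apply, Pi.one_apply]
  ring

/-- **Classification of the irreducible characters of `SL₂(F)`**. -/
theorem sl2_irr_classification {χ : Matrix.SpecialLinearGroup (Fin 2) F → ℂ}
    (hχ : Cfsg.IsIrrCharacter (Matrix.SpecialLinearGroup (Fin 2) F) χ) :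
    χ = 1 ∨ χ = stCharSL ∨ (∃ γ : MulChar F ℂ, γ ^ 2 ≠ 1 ∧ χ = psCharSL γ) ∨
    (Odd (Fintype.card F) ∧ ∃ (γ : MulChar F ℂ) (χ' : Matrix.SpecialLinearGroup (Fin 2) F → ℂ) (δ : Fˣ),
      γ ≠ 1 ∧ γ ^ 2 = 1 ∧ Cfsg.IsIrrCharacter (Matrix.SpecialLinearGroup (Fin 2) F) χ' ∧ χ' ≠ χ ∧
      psCharSL γ = χ + χ' ∧ ∀ n, χ' (conjSL (dg δ) n) = χ n) ∨
    (∃ π : GL (Fin 2) F → ℂ, IsCuspGL2 π ∧ χ = resSL π) ∨
    (Odd (Fintype.card F) ∧ ∃ (π : GL (Fin 2) F → ℂ) (χ' : Matrix.SpecialLinearGroup (Fin 2) F → ℂ) (δ : Fˣ),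
      IsCuspGL2 π ∧ Cfsg.IsIrrCharacter (Matrix.SpecialLinearGroup (Fin 2) F) χ' ∧ χ' ≠ χ ∧
      resSL π = χ + χ' ∧ ∀ n, χ' (conjSL (dg δ) n) = χ n) := by
  classical
  obtain ⟨π, hπ, hcase⟩ := sl2_irr_under hχ
  -- normalise the conjugating element
  have hcase' : χ = resSL π ∨ (Odd (Fintype.card F) ∧
      ∃ (χ' : Matrix.SpecialLinearGroup (Fin 2) F → ℂ) (δ : Fˣ),
        Cfsg.IsIrrCharacter (Matrix.SpecialLinearGroup (Fin 2) F) χ' ∧ χ' ≠ χ ∧
        resSL π = χ + χ' ∧ ∀ n, χ' (conjSL (dg δ) n) = χ n) := by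
    rcases hcase with h | ⟨hodd, χ', x, hχ', hne, hsum, hx⟩
    · exact Or.inl h
    · right
      obtain ⟨δ, hδ⟩ := exists_dg_conj x
      refine ⟨hodd, χ', δ, hχ', hne, hsum, fun n => ?_⟩
      rw [← hδ χ' (isClassFunction_of_isCharacter (isCharacter_of_irr hχ')), hx]
  -- degrees in the split case
  have hdegsplit : ∀ (χ' : Matrix.SpecialLinearGroup (Fin 2) F → ℂ) (δ : Fˣ),
      resSL π = χ + χ' → (∀ n, χ' (conjSL (dg δ) n) = χ n) → π 1 = 2 * χ 1 := by
    intro χ' δ hsum hx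
    have h1 := hx 1
    rw [conjSL_one] at h1
    have h2 := congrFun hsum 1
    rw [resSL_one, Pi.add_apply, h1] at h2
    rw [h2]; ring
  obtain ⟨k, hk, hk1⟩ := irr_one_eq ⟨χ, hχ⟩
  have hk1' : χ 1 = (k : ℂ) := hk1
  rcases gl2_irr_classification π hπ with ⟨α, rfl⟩ | ⟨α, rfl⟩ | ⟨α, β, hαβ, rfl⟩ | ⟨hc, hd, hu⟩
  · -- `π = α ∘ det`
    rcases hcase' with h | ⟨hodd, χ', δ, hχ', hne, hsum, hx⟩
    · left
      rw [h, resSL_detChar]
    · exfalso
      have := hdegsplit χ' δ hsum hx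
      rw [detChar_one, hk1'] at this
      have h2 : (1 : ℕ) = 2 * k := by exact_mod_cast this
      omega
  · -- `π` Steinberg
    rcases hcase' with h | ⟨hodd, χ', δ, hχ', hne, hsum, hx⟩
    · right; left
      rw [h, resSL_stChar]
    · exfalso
      have := hdegsplit χ' δ hsum hx
      rw [stChar_one, hk1'] at this
      have h2 : Fintype.card F = 2 * k := by exact_mod_cast this
      rw [h2] at hodd
      exact (Nat.not_odd_iff_even.mpr (even_two_mul k)) hodd
  · -- principal series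
    have hres : resSL (psChar α β) = psCharSL (α * β⁻¹) := resSL_psChar α β
    have hγ1 : α * β⁻¹ ≠ 1 := by
      intro h
      apply hαβ
      rw [mul_inv_eq_one] at h
      exact h
    rcases hcase' with h | ⟨hodd, χ', δ, hχ', hne, hsum, hx⟩
    · right; right; left
      refine ⟨α * β⁻¹, ?_, by rw [h, hres]⟩
      intro hsq
      have hinv : (α * β⁻¹)⁻¹ = α * β⁻¹ := by
        rw [inv_eq_iff_mul_eq_one, ← sq]
        exact hsq
      have hnorm := classInner_psCharSL (α * β⁻¹) (α * β⁻¹)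
      rw [← hres, ← h, irr_classInner_self hχ] at hnorm
      simp only [hinv, if_true] at hnorm
      norm_num at hnorm
    · right; right; right; left
      refine ⟨hodd, α * β⁻¹, χ', δ, hγ1, ?_, hχ', hne, by rw [← hres, hsum], hx⟩
      by_contra hsq
      have hinv : ¬ (α * β⁻¹ = (α * β⁻¹)⁻¹) := by
        intro h
        apply hsq
        rw [sq]
        nth_rewrite 2 [h]
        rw [mul_inv_cancel]
      have hnorm := classInner_psCharSL (α * β⁻¹) (α * β⁻¹)
      rw [← hres, hsum] at hnorm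
      simp only [if_true, if_neg hinv, add_zero] at hnorm
      rw [classInner_add_left, classInner_add_right, classInner_add_right, irr_classInner_self hχ,
        irr_classInner_self hχ', irr_classInner_ne hχ hχ' (fun h => hne h.symm),
        irr_classInner_ne hχ' hχ hne] at hnorm
      norm_num at hnorm
  · -- cuspidal
    have hcusp : IsCuspGL2 π := ⟨hπ, hc, hd, hu⟩
    rcases hcase' with h | ⟨hodd, χ', δ, hχ', hne, hsum, hx⟩
    · right; right; right; right; left
      exact ⟨π, hcusp, h⟩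
    · right; right; right; right; right
      exact ⟨hodd, π, χ', δ, hcusp, hχ', hne, hsum, hx⟩

end fin

end Cfsg.Agent.Lib.H12
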