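import Mathlib
import Cfsg.Agent.Lib.H12.SL2Irr

set_option autoImplicit false

/-!
# Counting the irreducible characters of `SL₂(F)` by degree
-/

namespace Cfsg.Agent.Lib.H12

open Matrix Cfsg.Agent.Lib.L0 Cfsg.Agent.Lib.H24
open scoped ComplexConjugate

/-- If the fibres of `f` on `S` are the orbits `{x, σ x}` of a fixed point free involution, then
`|S| = 2 |f(S)|`. -/
theorem card_eq_two_mul_card_image {α β : Type*} [DecidableEq α] [DecidableEq β] (S : Finset α)
    (σ : α → α) (hσS : ∀ x ∈ S, σ x ∈ S) (hσne : ∀ x ∈ S, σ x ≠ x) (f : α → β)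
    (hf : ∀ x ∈ S, ∀ y ∈ S, f y = f x ↔ (y = x ∨ y = σ x)) :
    S.card = 2 * (S.image f).card := by
  rw [Finset.card_eq_sum_card_image f S, mul_comm, ← smul_eq_mul, ← Finset.sum_const]
  apply Finset.sum_congr rfl
  intro b hb
  obtain ⟨x, hx, rfl⟩ := Finset.mem_image.mp hb
  have : S.filter (fun a => f a = f x) = {x, σ x} := by
    ext y
    simp only [Finset.mem_filter, Finset.mem_insert, Finset.mem_singleton]
    constructor
    · rintro ⟨hy, hfy⟩
      exact (hf x hx y hy).mp hfy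
    · rintro (rfl | rfl)
      · exact ⟨hx, rfl⟩
      · exact ⟨hσS x hx, (hf x hx _ (hσS x hx)).mpr (Or.inr rfl)⟩
  rw [this, Finset.card_pair (fun h => hσne x hx h.symm)]

variable {F : Type*} [Field F] [Fintype F]

/-- For odd `q` there is a multiplicative character of order two. -/
theorem exists_mulChar_order_two (hodd : Odd (Fintype.card F)) :
    ∃ γ₀ : MulChar F ℂ, γ₀ ≠ 1 ∧ γ₀ ^ 2 = 1 := by
  classical
  have : Fintype (MulChar F ℂ) := Fintype.ofFinite _
  have h2 : 2 ∣ Fintype.card (MulChar F ℂ) := by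
    rw [← Nat.card_eq_fintype_card, card_mulChar]
    obtain ⟨k, hk⟩ := hodd
    exact ⟨k, by omega⟩
  have : Fact (Nat.Prime 2) := ⟨Nat.prime_two⟩
  obtain ⟨γ₀, hγ₀⟩ := exists_prime_orderOf_dvd_card 2 h2
  refine ⟨γ₀, ?_, ?_⟩
  · intro h
    rw [h, orderOf_one] at hγ₀
    norm_num at hγ₀
  · rw [← hγ₀]
    exact pow_orderOf_eq_one γ₀

/-- The character of order two is unique. -/
theorem mulChar_order_two_unique {γ₀ γ : MulChar F ℂ} (h0 : γ₀ ≠ 1) (h0' : γ₀ ^ 2 = 1)
    (h1 : γ ≠ 1) (h1' : γ ^ 2 = 1) : γ = γ₀ := by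
  classical
  have : Fintype (MulChar F ℂ) := Fintype.ofFinite _
  by_contra hne
  have hsub : ({1, γ₀, γ} : Finset (MulChar F ℂ)) ⊆ Finset.univ.filter fun ω : MulChar F ℂ => ω ^ 2 = 1 := by
    intro ω hω
    simp only [Finset.mem_insert, Finset.mem_singleton] at hω
    rw [Finset.mem_filter]
    refine ⟨Finset.mem_univ _, ?_⟩
    rcases hω with rfl | rfl | rfl
    · exact one_pow 2
    · exact h0'
    · exact h1'
  have hcard : ({1, γ₀, γ} : Finset (MulChar F ℂ)).card = 3 := by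
    rw [Finset.card_insert_of_notMem, Finset.card_pair (fun h => hne h.symm)]
    simp only [Finset.mem_insert, Finset.mem_singleton, not_or]
    exact ⟨fun h => h0 h.symm, fun h => h1 h.symm⟩
  have := (Finset.card_le_card hsub).trans card_mulChar_sq_eq_one_le
  omega

theorem card_mulChar_sq_ne_one_odd [Fintype (MulChar F ℂ)] [DecidableEq (MulChar F ℂ)]
    (hodd : Odd (Fintype.card F)) :
    (Finset.univ.filter fun ω : MulChar F ℂ => ω ^ 2 ≠ 1).card = Fintype.card F - 3 := by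
  obtain ⟨γ₀, h0, h0'⟩ := exists_mulChar_order_two hodd
  have h1 : (Finset.univ.filter fun ω : MulChar F ℂ => ω ^ 2 = 1) = {1, γ₀} := by
    ext ω
    simp only [Finset.mem_filter, Finset.mem_univ, true_and, Finset.mem_insert, Finset.mem_singleton]
    constructor
    · intro h
      by_cases hω : ω = 1
      · exact Or.inl hω
      · exact Or.inr (mulChar_order_two_unique h0 h0' hω h)
    · rintro (rfl | rfl)
      · exact one_pow 2
      · exact h0'
  have h2 : (Finset.univ.filter fun ω : MulChar F ℂ => ω ^ 2 = 1).card = 2 := by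
    rw [h1, Finset.card_pair (fun h => h0 h.symm)]
  have h3 : (Finset.univ.filter fun ω : MulChar F ℂ => ω ^ 2 = 1).card +
      (Finset.univ.filter fun ω : MulChar F ℂ => ω ^ 2 ≠ 1).card = (Finset.univ : Finset (MulChar F ℂ)).card :=
    Finset.card_filter_add_card_filter_not (s := (Finset.univ : Finset (MulChar F ℂ)))
      (fun ω : MulChar F ℂ => ω ^ 2 = 1)
  rw [h2, Finset.card_univ, ← Nat.card_eq_fintype_card, card_mulChar] at h3
  omega

theorem card_mulChar_sq_ne_one_even [Fintype (MulChar F ℂ)] [DecidableEq (MulChar F ℂ)]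
    (heven : Even (Fintype.card F)) :
    (Finset.univ.filter fun ω : MulChar F ℂ => ω ^ 2 ≠ 1).card = Fintype.card F - 2 := by
  have h1 : (Finset.univ.filter fun ω : MulChar F ℂ => ω ^ 2 = 1) = {1} := by
    ext ω
    simp only [Finset.mem_filter, Finset.mem_univ, true_and, Finset.mem_singleton]
    constructor
    · intro h
      exact mulChar_eq_one_of_sq_of_even heven ω h
    · rintro rfl
      exact one_pow 2
  have h2 : (Finset.univ.filter fun ω : MulChar F ℂ => ω ^ 2 = 1).card = 1 := by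
    rw [h1, Finset.card_singleton]
  have h3 : (Finset.univ.filter fun ω : MulChar F ℂ => ω ^ 2 = 1).card +
      (Finset.univ.filter fun ω : MulChar F ℂ => ω ^ 2 ≠ 1).card = (Finset.univ : Finset (MulChar F ℂ)).card :=
    Finset.card_filter_add_card_filter_not (s := (Finset.univ : Finset (MulChar F ℂ)))
      (fun ω : MulChar F ℂ => ω ^ 2 = 1)
  rw [h2, Finset.card_univ, ← Nat.card_eq_fintype_card, card_mulChar] at h3
  omega

section ps

variable [DecidableEq F]

theorem psCharSL_inv (γ : MulChar F ℂ) : psCharSL γ⁻¹ = psCharSL γ := by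
  classical
  have h1 := classInner_psCharSL γ γ
  have h2 := classInner_psCharSL γ γ⁻¹
  have h3 := classInner_psCharSL γ⁻¹ γ
  have h4 := classInner_psCharSL γ⁻¹ γ⁻¹
  have hz : Cfsg.classInner (psCharSL γ⁻¹ - psCharSL γ) (psCharSL γ⁻¹ - psCharSL γ) = 0 := by
    rw [classInner_sub_left, classInner_sub_right, classInner_sub_right, h1, h2, h3, h4]
    simp only [inv_inv, if_true]
    by_cases h : γ = γ⁻¹
    · have h' : γ⁻¹ = γ := h.symm
      rw [if_pos h, if_pos h']
      ring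
    · have h' : ¬ γ⁻¹ = γ := fun e => h e.symm
      rw [if_neg h, if_neg h']
      ring
  exact sub_eq_zero.mp (classInner_self_eq_zero hz)

theorem psCharSL_eq_iff (γ γ' : MulChar F ℂ) :
    psCharSL γ' = psCharSL γ ↔ (γ' = γ ∨ γ' = γ⁻¹) := by
  classical
  constructor
  · intro h
    have h1 := classInner_psCharSL γ' γ
    have h2 := classInner_psCharSL γ γ
    rw [h, h2] at h1
    by_contra hcon
    rw [not_or] at hcon
    rw [if_neg hcon.1, if_neg hcon.2, if_pos rfl] at h1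
    split_ifs at h1 <;> norm_num at h1
  · rintro (rfl | rfl)
    · rfl
    · exact psCharSL_inv γ

theorem isIrrCharacter_psCharSL {γ : MulChar F ℂ} (hγ : γ ^ 2 ≠ 1) :
    Cfsg.IsIrrCharacter (Matrix.SpecialLinearGroup (Fin 2) F) (psCharSL γ) := by
  apply isIrrCharacter_of_classInner_self_eq_one (isCharacter_psCharSL γ)
  rw [classInner_psCharSL, if_pos rfl, if_neg, add_zero]
  intro h
  apply hγ
  rw [sq]
  nth_rewrite 2 [h]
  exact mul_inv_cancel γ

theorem isIrrCharacter_stCharSL :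
    Cfsg.IsIrrCharacter (Matrix.SpecialLinearGroup (Fin 2) F) (stCharSL (F := F)) := by
  classical
  have hst : Cfsg.IsIrrCharacter (GL (Fin 2) F) (stChar (1 : MulChar F ℂ)) := isIrrCharacter_stChar 1
  have hch : Cfsg.IsCharacter (Matrix.SpecialLinearGroup (Fin 2) F) (resSL (stChar (1 : MulChar F ℂ))) :=
    isCharacter_resSL (isCharacter_of_irr hst)
  rw [← resSL_stChar (1 : MulChar F ℂ)]
  rcases norm_resSL_cases hst with h1 | ⟨h2, hodd⟩
  · exact isIrrCharacter_of_classInner_self_eq_one hch h1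
  · exfalso
    obtain ⟨χ₁, χ₂, h₁, h₂, h12, hsum⟩ := exists_two_irr_of_norm_two hch h2
    have hc₁ : Cfsg.classInner ((stChar (1 : MulChar F ℂ)) ∘ Matrix.SpecialLinearGroup.toGL) χ₁ ≠ 0 := by
      show Cfsg.classInner (resSL (stChar (1 : MulChar F ℂ))) χ₁ ≠ 0
      rw [hsum, classInner_add_left, irr_classInner_self h₁,
        irr_classInner_ne h₂ h₁ (fun h => h12 h.symm)]
      norm_num
    have hc₂ : Cfsg.classInner ((stChar (1 : MulChar F ℂ)) ∘ Matrix.SpecialLinearGroup.toGL) χ₂ ≠ 0 := by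
      show Cfsg.classInner (resSL (stChar (1 : MulChar F ℂ))) χ₂ ≠ 0
      rw [hsum, classInner_add_left, irr_classInner_self h₂, irr_classInner_ne h₁ h₂ h12]
      norm_num
    obtain ⟨x, hx⟩ := exists_conj_of_constituents (Matrix.SpecialLinearGroup.toGL) toGL_injective
      conjSL toGL_conjSL hst h₁ h₂ hc₁ hc₂
    have hdeg : χ₂ 1 = χ₁ 1 := by
      have := hx 1
      rwa [conjSL_one] at this
    have h1sum := congrFun hsum 1
    rw [resSL_one, stChar_one, Pi.add_apply, hdeg] at h1sum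
    obtain ⟨k, hk, hk1⟩ := irr_one_eq ⟨χ₁, h₁⟩
    have hk1' : χ₁ 1 = (k : ℂ) := hk1
    rw [hk1'] at h1sum
    have h2 : Fintype.card F = k + k := by exact_mod_cast h1sum
    rw [h2] at hodd
    exact (Nat.not_odd_iff_even.mpr ⟨k, rfl⟩) hodd

/-- The degree of a half of a conjugation-invariant sum. -/
theorem two_mul_apply_one_of_conj {ψ χ χ' : Matrix.SpecialLinearGroup (Fin 2) F → ℂ} {δ : Fˣ}
    (hsum : ψ = χ + χ') (hx : ∀ n, χ' (conjSL (dg δ) n) = χ n) : ψ 1 = 2 * χ 1 := by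
  have h1 := hx 1
  rw [conjSL_one] at h1
  rw [hsum, Pi.add_apply, h1]
  ring

/-- **Classification of the irreducible characters of `SL₂(F)`, with degrees** (as natural numbers). -/
theorem sl2_irr_classification_deg {χ : Matrix.SpecialLinearGroup (Fin 2) F → ℂ}
    (hχ : Cfsg.IsIrrCharacter (Matrix.SpecialLinearGroup (Fin 2) F) χ) :
    ∃ k : ℕ, χ 1 = (k : ℂ) ∧
    ((χ = 1 ∧ k = 1) ∨ (χ = stCharSL ∧ k = Fintype.card F) ∨
    (∃ γ : MulChar F ℂ, γ ^ 2 ≠ 1 ∧ χ = psCharSL γ ∧ k = Fintype.card F + 1) ∨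
    (∃ (γ : MulChar F ℂ) (χ' : Matrix.SpecialLinearGroup (Fin 2) F → ℂ) (δ : Fˣ),
      γ ≠ 1 ∧ γ ^ 2 = 1 ∧ Cfsg.IsIrrCharacter (Matrix.SpecialLinearGroup (Fin 2) F) χ' ∧ χ' ≠ χ ∧
      psCharSL γ = χ + χ' ∧ (∀ n, χ' (conjSL (dg δ) n) = χ n) ∧ 2 * k = Fintype.card F + 1) ∨
    (∃ π : GL (Fin 2) F → ℂ, IsCuspGL2 π ∧ χ = resSL π ∧ k + 1 = Fintype.card F) ∨
    (∃ (π : GL (Fin 2) F → ℂ) (χ' : Matrix.SpecialLinearGroup (Fin 2) F → ℂ) (δ : Fˣ),
      IsCuspGL2 π ∧ Cfsg.IsIrrCharacter (Matrix.SpecialLinearGroup (Fin 2) F) χ' ∧ χ' ≠ χ ∧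
      resSL π = χ + χ' ∧ (∀ n, χ' (conjSL (dg δ) n) = χ n) ∧ 2 * k + 1 = Fintype.card F)) := by
  obtain ⟨k, hk, hk1⟩ := irr_one_eq ⟨χ, hχ⟩
  have hk1' : χ 1 = (k : ℂ) := hk1
  refine ⟨k, hk1', ?_⟩
  have hq : 1 < Fintype.card F := Fintype.one_lt_card
  rcases sl2_irr_classification hχ with h | h | ⟨γ, hγ, h⟩ | ⟨-, γ, χ', δ, hγ1, hγ2, hχ', hne, hsum, hx⟩ |
      ⟨π, hπ, h⟩ | ⟨-, π, χ', δ, hπ, hχ', hne, hsum, hx⟩
  · left
    refine ⟨h, ?_⟩
    rw [h, Pi.one_apply] at hk1'
    exact_mod_cast hk1'.symm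
  · right; left
    refine ⟨h, ?_⟩
    rw [h, stCharSL_one] at hk1'
    exact_mod_cast hk1'.symm
  · right; right; left
    refine ⟨γ, hγ, h, ?_⟩
    rw [h, psCharSL_one_apply] at hk1'
    exact_mod_cast hk1'.symm
  · right; right; right; left
    refine ⟨γ, χ', δ, hγ1, hγ2, hχ', hne, hsum, hx, ?_⟩
    have := two_mul_apply_one_of_conj hsum hx
    rw [psCharSL_one_apply, hk1'] at this
    exact_mod_cast this.symm
  · right; right; right; right; left
    refine ⟨π, hπ, h, ?_⟩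
    rw [h, resSL_one, hπ.2.2.1] at hk1'
    have : (k : ℂ) + 1 = (Fintype.card F : ℂ) := by rw [← hk1']; ring
    exact_mod_cast this
  · right; right; right; right; right
    refine ⟨π, χ', δ, hπ, hχ', hne, hsum, hx, ?_⟩
    have := two_mul_apply_one_of_conj hsum hx
    rw [resSL_one, hπ.2.2.1, hk1'] at this
    have : 2 * (k : ℂ) + 1 = (Fintype.card F : ℂ) := by rw [← this]; ring
    exact_mod_cast this

end ps

end Cfsg.Agent.Lib.H12
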