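import Mathlib
import Cfsg.Agent.Lib.H12.SL2Count
import Cfsg.Agent.Lib.H12.SL2OddClasses
import Cfsg.Agent.S2307
import Cfsg.Agent.S2331

set_option autoImplicit false

/-!
# Counting the irreducible characters of `SL₂(F)` by degree (II)
-/

namespace Cfsg.Agent.Lib.H12

open Matrix Cfsg.Agent.Lib.L0 Cfsg.Agent.Lib.H24
open scoped ComplexConjugate

/-- Counting irreducible characters satisfying a predicate via a `Finset` of functions. -/
theorem natCard_irr_subtype_eq_card {N : Type*} [Group N] (P : (N → ℂ) → Prop) (T : Finset (N → ℂ))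
    (hT : ∀ f, f ∈ T ↔ (Cfsg.IsIrrCharacter N f ∧ P f)) :
    Nat.card {χ : Cfsg.IrrCharacter N // P (χ : N → ℂ)} = T.card := by
  have e : {χ : Cfsg.IrrCharacter N // P (χ : N → ℂ)} ≃ {f // f ∈ T} :=
    { toFun := fun χ => ⟨χ.1.1, (hT _).mpr ⟨χ.1.2, χ.2⟩⟩
      invFun := fun f => ⟨⟨f.1, ((hT _).mp f.2).1⟩, ((hT _).mp f.2).2⟩
      left_inv := fun χ => rfl
      right_inv := fun f => rfl }
  rw [Nat.card_congr e, Nat.card_eq_fintype_card, Fintype.card_coe]

section degN

variable {N : Type*} [Group N] [Fintype N]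

/-- The degree of an irreducible character, as a natural number. -/
noncomputable def degN (χ : Cfsg.IrrCharacter N) : ℕ := Classical.choose (irr_one_eq χ)

theorem degN_pos (χ : Cfsg.IrrCharacter N) : 0 < degN χ := (Classical.choose_spec (irr_one_eq χ)).1

theorem degN_spec (χ : Cfsg.IrrCharacter N) : (χ : N → ℂ) 1 = (degN χ : ℂ) :=
  (Classical.choose_spec (irr_one_eq χ)).2

theorem apply_one_eq_iff_degN (χ : Cfsg.IrrCharacter N) (v : ℕ) :
    (χ : N → ℂ) 1 = (v : ℂ) ↔ degN χ = v := by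
  rw [degN_spec, Nat.cast_inj]

theorem natCard_deg_eq [Fintype (Cfsg.IrrCharacter N)] (v : ℕ) :
    Nat.card {χ : Cfsg.IrrCharacter N // (χ : N → ℂ) 1 = (v : ℂ)} =
      (Finset.univ.filter fun χ : Cfsg.IrrCharacter N => degN χ = v).card := by
  classical
  rw [Nat.card_congr (Equiv.subtypeEquivRight (fun χ => apply_one_eq_iff_degN χ v)),
    Nat.card_eq_fintype_card, Fintype.card_subtype]

theorem sum_natCard_deg [Fintype (Cfsg.IrrCharacter N)] (V : Finset ℕ)
    (hV : ∀ χ : Cfsg.IrrCharacter N, degN χ ∈ V) :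
    ∑ v ∈ V, Nat.card {χ : Cfsg.IrrCharacter N // (χ : N → ℂ) 1 = (v : ℂ)} =
      Nat.card (Cfsg.IrrCharacter N) := by
  classical
  simp only [natCard_deg_eq]
  rw [Nat.card_eq_fintype_card, ← Finset.card_univ]
  exact (Finset.card_eq_sum_card_fiberwise (f := degN) (s := Finset.univ) (t := V)
    (fun χ _ => hV χ)).symm

theorem sum_natCard_deg_sq [Fintype (Cfsg.IrrCharacter N)] (V : Finset ℕ)
    (hV : ∀ χ : Cfsg.IrrCharacter N, degN χ ∈ V) :
    ∑ v ∈ V, Nat.card {χ : Cfsg.IrrCharacter N // (χ : N → ℂ) 1 = (v : ℂ)} * v ^ 2 = Nat.card N := by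
  classical
  simp only [natCard_deg_eq]
  have h1 := sum_irr_one_sq (G := N)
  have h2 : ∑ χ : Cfsg.IrrCharacter N, (χ : N → ℂ) 1 ^ 2 =
      ((∑ χ : Cfsg.IrrCharacter N, degN χ ^ 2 : ℕ) : ℂ) := by
    push_cast
    apply Finset.sum_congr rfl
    intro χ _
    rw [degN_spec]
  rw [h2] at h1
  have h3 : ∑ χ : Cfsg.IrrCharacter N, degN χ ^ 2 = Nat.card N := by exact_mod_cast h1
  rw [← h3, ← Finset.sum_fiberwise_of_maps_to (s := Finset.univ) (t := V) (g := degN)
    (fun χ _ => hV χ) (fun χ => degN χ ^ 2)]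
  apply Finset.sum_congr rfl
  intro v _
  rw [Finset.card_eq_sum_ones, Finset.sum_mul]
  apply Finset.sum_congr rfl
  intro χ hχ
  rw [Finset.mem_filter] at hχ
  rw [hχ.2, one_mul]

end degN

theorem solve_counts_odd (c : ℕ → ℕ) (q : ℕ) (hodd : Odd q) (hq : 5 ≤ q) (h1 : c 1 = 1) (hq' : c q = 1)
    (hp : 2 * c (q + 1) = q - 3) (hh : c ((q + 1) / 2) = 2)
    (hs : ∑ v ∈ ({1, q, q + 1, q - 1, (q + 1) / 2, (q - 1) / 2} : Finset ℕ), c v = q + 4)
    (hs2 : ∑ v ∈ ({1, q, q + 1, q - 1, (q + 1) / 2, (q - 1) / 2} : Finset ℕ), c v * v ^ 2 =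
      q * (q ^ 2 - 1)) :
    c (q - 1) = (q - 1) / 2 ∧ c ((q - 1) / 2) = 2 := by
  obtain ⟨m, rfl⟩ := hodd
  have e1 : (2 * m + 1 + 1) / 2 = m + 1 := by omega
  have e2 : (2 * m + 1 - 1) / 2 = m := by omega
  have e3 : 2 * m + 1 - 1 = 2 * m := by omega
  have e5 : (2 * m + 1) ^ 2 - 1 = 4 * m ^ 2 + 4 * m := by
    have : (2 * m + 1) ^ 2 = 4 * m ^ 2 + 4 * m + 1 := by ring
    omega
  rw [e1] at hh
  rw [e1, e2, e3] at hs hs2
  rw [e2, e3]
  rw [e5] at hs2
  have hm : 2 ≤ m := by omega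
  rw [Finset.sum_insert (by simp only [Finset.mem_insert, Finset.mem_singleton]; omega), Finset.sum_insert (by simp only [Finset.mem_insert, Finset.mem_singleton]; omega),
    Finset.sum_insert (by simp only [Finset.mem_insert, Finset.mem_singleton]; omega), Finset.sum_insert (by simp only [Finset.mem_insert, Finset.mem_singleton]; omega),
    Finset.sum_insert (by simp only [Finset.mem_insert, Finset.mem_singleton]; omega), Finset.sum_singleton] at hs hs2
  rw [h1, hq', hh] at hs hs2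
  have hp' : c (2 * m + 1 + 1) = m - 1 := by omega
  rw [hp'] at hs hs2
  have hsum : c (2 * m) + c m = m + 2 := by omega
  have key : (m : ℤ) ^ 2 * (4 * (c (2 * m) : ℤ) + (c m : ℤ) - (4 * m + 2)) = 0 := by
    have h := congrArg (Nat.cast : ℕ → ℤ) hs2
    push_cast [Nat.cast_sub (by omega : 1 ≤ m)] at h
    linear_combination h
  have hm0 : (m : ℤ) ^ 2 ≠ 0 := by positivity
  have key2 := (mul_eq_zero.mp key).resolve_left hm0
  omega

theorem solve_counts_even (c : ℕ → ℕ) (q : ℕ) (heven : Even q) (hq : 4 ≤ q) (h1 : c 1 = 1) (hq' : c q = 1)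
    (hp : 2 * c (q + 1) = q - 2)
    (hs : ∑ v ∈ ({1, q, q + 1, q - 1} : Finset ℕ), c v = q + 1) :
    c (q - 1) = q / 2 := by
  obtain ⟨m, rfl⟩ := heven
  rw [Finset.sum_insert (by simp only [Finset.mem_insert, Finset.mem_singleton]; omega), Finset.sum_insert (by simp only [Finset.mem_insert, Finset.mem_singleton]; omega),
    Finset.sum_insert (by simp only [Finset.mem_insert, Finset.mem_singleton]; omega), Finset.sum_singleton] at hs
  omega

variable {F : Type*} [Field F] [Fintype F] [DecidableEq F]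

local notation "SL2" => Matrix.SpecialLinearGroup (Fin 2) F

theorem natCard_irr_deg_one (hq : 4 ≤ Fintype.card F) :
    Nat.card {χ : Cfsg.IrrCharacter SL2 // (χ : SL2 → ℂ) 1 = ((1 : ℕ) : ℂ)} = 1 := by
  classical
  rw [natCard_irr_subtype_eq_card (fun f => f 1 = ((1 : ℕ) : ℂ)) {(1 : SL2 → ℂ)}]
  · rfl
  · intro f
    rw [Finset.mem_singleton]
    constructor
    · rintro rfl
      exact ⟨Cfsg.Agent.Lib.L0.isIrrCharacter_one, by simp⟩
    · rintro ⟨hf, h1⟩
      obtain ⟨k, hk, hcases⟩ := sl2_irr_classification_deg hf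
      rw [hk] at h1
      have hk1 : k = 1 := by exact_mod_cast h1
      rcases hcases with ⟨h, -⟩ | ⟨-, h⟩ | ⟨γ, -, -, h⟩ | ⟨γ, χ', δ, -, -, -, -, -, -, h⟩ |
        ⟨π, -, -, h⟩ | ⟨π, χ', δ, -, -, -, -, -, h⟩
      · exact h
      all_goals (exfalso; omega)

theorem natCard_irr_deg_q (hq : 4 ≤ Fintype.card F) :
    Nat.card {χ : Cfsg.IrrCharacter SL2 // (χ : SL2 → ℂ) 1 = ((Fintype.card F : ℕ) : ℂ)} = 1 := by
  classical
  rw [natCard_irr_subtype_eq_card (fun f => f 1 = ((Fintype.card F : ℕ) : ℂ)) {(stCharSL : SL2 → ℂ)}]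
  · rfl
  · intro f
    rw [Finset.mem_singleton]
    constructor
    · rintro rfl
      exact ⟨isIrrCharacter_stCharSL, stCharSL_one⟩
    · rintro ⟨hf, h1⟩
      obtain ⟨k, hk, hcases⟩ := sl2_irr_classification_deg hf
      rw [hk] at h1
      have hk1 : k = Fintype.card F := by exact_mod_cast h1
      rcases hcases with ⟨-, h⟩ | ⟨h, -⟩ | ⟨γ, -, -, h⟩ | ⟨γ, χ', δ, -, -, -, -, -, -, h⟩ |
        ⟨π, -, -, h⟩ | ⟨π, χ', δ, -, -, -, -, -, h⟩
      · exfalso; omega
      · exact h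
      all_goals (exfalso; omega)

/-- The irreducible characters of degree `q + 1` are the `psCharSL γ` with `γ² ≠ 1`. -/
theorem natCard_irr_deg_q_add_one [Fintype (MulChar F ℂ)] :
    2 * Nat.card {χ : Cfsg.IrrCharacter SL2 // (χ : SL2 → ℂ) 1 = ((Fintype.card F + 1 : ℕ) : ℂ)} =
      (Finset.univ.filter fun ω : MulChar F ℂ => ω ^ 2 ≠ 1).card := by
  classical
  set S := Finset.univ.filter fun ω : MulChar F ℂ => ω ^ 2 ≠ 1 with hS
  rw [natCard_irr_subtype_eq_card (fun f => f 1 = ((Fintype.card F + 1 : ℕ) : ℂ))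
    (S.image fun γ => psCharSL γ)]
  · symm
    apply card_eq_two_mul_card_image S (fun γ => γ⁻¹)
    · intro γ hγ
      rw [hS, Finset.mem_filter] at hγ ⊢
      refine ⟨Finset.mem_univ _, ?_⟩
      rw [inv_pow]
      intro h
      exact hγ.2 (inv_eq_one.mp h)
    · intro γ hγ h
      rw [hS, Finset.mem_filter] at hγ
      apply hγ.2
      rw [sq]
      nth_rewrite 1 [← h]
      exact inv_mul_cancel γ
    · intro γ _ γ' _
      exact psCharSL_eq_iff γ γ'
  · intro f
    rw [Finset.mem_image]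
    constructor
    · rintro ⟨γ, hγ, rfl⟩
      rw [hS, Finset.mem_filter] at hγ
      refine ⟨isIrrCharacter_psCharSL hγ.2, ?_⟩
      rw [psCharSL_one_apply]
      push_cast
      rfl
    · rintro ⟨hf, h1⟩
      obtain ⟨k, hk, hcases⟩ := sl2_irr_classification_deg hf
      rw [hk] at h1
      have hk1 : k = Fintype.card F + 1 := by exact_mod_cast h1
      have hq : 1 < Fintype.card F := Fintype.one_lt_card
      rcases hcases with ⟨-, h⟩ | ⟨-, h⟩ | ⟨γ, hγ, hfγ, h⟩ | ⟨γ, χ', δ, -, -, -, -, -, -, h⟩ |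
        ⟨π, -, -, h⟩ | ⟨π, χ', δ, -, -, -, -, -, h⟩
      · exfalso; omega
      · exfalso; omega
      · refine ⟨γ, ?_, hfγ.symm⟩
        rw [hS, Finset.mem_filter]
        exact ⟨Finset.mem_univ _, hγ⟩
      all_goals (exfalso; omega)

/-- For odd `q ≥ 5` there are exactly two irreducible characters of degree `(q + 1) / 2`. -/
theorem natCard_irr_deg_half_add (hodd : Odd (Fintype.card F)) (hq : 5 ≤ Fintype.card F) :
    Nat.card {χ : Cfsg.IrrCharacter SL2 // (χ : SL2 → ℂ) 1 = (((Fintype.card F + 1) / 2 : ℕ) : ℂ)} = 2 := by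
  classical
  obtain ⟨γ₀, h0, h0'⟩ := exists_mulChar_order_two hodd
  obtain ⟨χ₁, χ₂, h₁, h₂, h12, hsum, hd₁, hd₂, -⟩ := Cfsg.Agent.S2307.result hodd γ₀ h0' h0
  have hsum' : psCharSL γ₀ = χ₁ + χ₂ := hsum
  rw [natCard_irr_subtype_eq_card (fun f => f 1 = (((Fintype.card F + 1) / 2 : ℕ) : ℂ)) {χ₁, χ₂}]
  · exact Finset.card_pair h12
  · intro f
    rw [Finset.mem_insert, Finset.mem_singleton]
    constructor
    · rintro (rfl | rfl)
      · exact ⟨h₁, hd₁⟩
      · exact ⟨h₂, hd₂⟩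
    · rintro ⟨hf, h1⟩
      obtain ⟨k, hk, hcases⟩ := sl2_irr_classification_deg hf
      rw [hk] at h1
      have hk1 : k = (Fintype.card F + 1) / 2 := by exact_mod_cast h1
      obtain ⟨m, hm⟩ := hodd
      rcases hcases with ⟨-, h⟩ | ⟨-, h⟩ | ⟨γ, -, -, h⟩ | ⟨γ, χ', δ, hγ1, hγ2, hχ', hne, hs, -, h⟩ |
        ⟨π, -, -, h⟩ | ⟨π, χ', δ, -, -, -, -, -, h⟩
      · exfalso; omega
      · exfalso; omega
      · exfalso; omega
      · have hγ : γ = γ₀ := mulChar_order_two_unique h0 h0' hγ1 hγ2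
        rw [hγ, hsum'] at hs
        by_contra hcon
        rw [not_or] at hcon
        have e1 : Cfsg.classInner (χ₁ + χ₂) f = 0 := by
          rw [classInner_add_left, irr_classInner_ne h₁ hf (fun h => hcon.1 h.symm),
            irr_classInner_ne h₂ hf (fun h => hcon.2 h.symm), add_zero]
        rw [hs, classInner_add_left, irr_classInner_self hf, irr_classInner_ne hχ' hf hne] at e1
        norm_num at e1
      · exfalso; omega
      · exfalso; omega

/-- Every degree of an irreducible character of `SL₂(F)` lies in the standard list. -/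
theorem degN_mem_list (χ : Cfsg.IrrCharacter SL2) :
    degN χ ∈ ({1, Fintype.card F, Fintype.card F + 1, Fintype.card F - 1,
      (Fintype.card F + 1) / 2, (Fintype.card F - 1) / 2} : Finset ℕ) := by
  obtain ⟨k, hk, hcases⟩ := sl2_irr_classification_deg χ.2
  have hk' : degN χ = k := (apply_one_eq_iff_degN χ k).mp hk
  rw [hk']
  simp only [Finset.mem_insert, Finset.mem_singleton]
  rcases hcases with ⟨-, h⟩ | ⟨-, h⟩ | ⟨γ, -, -, h⟩ | ⟨γ, χ', δ, -, -, -, -, -, -, h⟩ |
    ⟨π, -, -, h⟩ | ⟨π, χ', δ, -, -, -, -, -, h⟩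
  · left; exact h
  · right; left; exact h
  · right; right; left; exact h
  · right; right; right; right; left; omega
  · right; right; right; left; omega
  · right; right; right; right; right; omega

/-- In even characteristic the degrees lie in the shorter list. -/
theorem degN_mem_list_even (heven : Even (Fintype.card F)) (χ : Cfsg.IrrCharacter SL2) :
    degN χ ∈ ({1, Fintype.card F, Fintype.card F + 1, Fintype.card F - 1} : Finset ℕ) := by
  obtain ⟨k, hk, hcases⟩ := sl2_irr_classification_deg χ.2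
  have hk' : degN χ = k := (apply_one_eq_iff_degN χ k).mp hk
  rw [hk']
  simp only [Finset.mem_insert, Finset.mem_singleton]
  obtain ⟨m, hm⟩ := heven
  rcases hcases with ⟨-, h⟩ | ⟨-, h⟩ | ⟨γ, -, -, h⟩ | ⟨γ, χ', δ, -, -, -, -, -, -, h⟩ |
    ⟨π, -, -, h⟩ | ⟨π, χ', δ, -, -, -, -, -, h⟩
  · left; exact h
  · right; left; exact h
  · right; right; left; exact h
  · exfalso; omega
  · right; right; right; omega
  · exfalso; omega

/-- The numbers of irreducible characters of `SL₂(F)` of degrees `q - 1` and `(q - 1)/2`, `q ≥ 5` odd. -/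
theorem natCard_irr_deg_cusp_odd (hodd : Odd (Fintype.card F)) (hq : 5 ≤ Fintype.card F) :
    Nat.card {χ : Cfsg.IrrCharacter SL2 // (χ : SL2 → ℂ) 1 = ((Fintype.card F - 1 : ℕ) : ℂ)} =
      (Fintype.card F - 1) / 2 ∧
    Nat.card {χ : Cfsg.IrrCharacter SL2 // (χ : SL2 → ℂ) 1 = (((Fintype.card F - 1) / 2 : ℕ) : ℂ)} = 2 := by
  classical
  have : Fintype (Cfsg.IrrCharacter SL2) := Fintype.ofFinite _
  have : Fintype (MulChar F ℂ) := Fintype.ofFinite _
  apply solve_counts_odd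
    (fun v => Nat.card {χ : Cfsg.IrrCharacter SL2 // (χ : SL2 → ℂ) 1 = ((v : ℕ) : ℂ)})
    (Fintype.card F) hodd hq
  · exact natCard_irr_deg_one (by omega)
  · exact natCard_irr_deg_q (by omega)
  · show 2 * Nat.card {χ : Cfsg.IrrCharacter SL2 // (χ : SL2 → ℂ) 1 = ((Fintype.card F + 1 : ℕ) : ℂ)} = _
    rw [natCard_irr_deg_q_add_one, card_mulChar_sq_ne_one_odd hodd]
  · exact natCard_irr_deg_half_add hodd hq
  · rw [sum_natCard_deg _ degN_mem_list, card_irr_eq_card_conjClasses, card_conjClasses_sl2_odd hodd]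
  · rw [sum_natCard_deg_sq _ degN_mem_list, card_SL2]

/-- The number of irreducible characters of `SL₂(F)` of degree `q - 1`, `q ≥ 4` even. -/
theorem natCard_irr_deg_cusp_even [CharP F 2] (hq : 4 ≤ Fintype.card F) :
    Nat.card {χ : Cfsg.IrrCharacter SL2 // (χ : SL2 → ℂ) 1 = ((Fintype.card F - 1 : ℕ) : ℂ)} =
      Fintype.card F / 2 := by
  classical
  have : Fintype (Cfsg.IrrCharacter SL2) := Fintype.ofFinite _
  have : Fintype (MulChar F ℂ) := Fintype.ofFinite _
  have heven : Even (Fintype.card F) := by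
    rw [Nat.even_iff]
    exact FiniteField.even_card_of_char_two (ringChar.eq F 2)
  apply solve_counts_even
    (fun v => Nat.card {χ : Cfsg.IrrCharacter SL2 // (χ : SL2 → ℂ) 1 = ((v : ℕ) : ℂ)})
    (Fintype.card F) heven hq
  · exact natCard_irr_deg_one hq
  · exact natCard_irr_deg_q hq
  · show 2 * Nat.card {χ : Cfsg.IrrCharacter SL2 // (χ : SL2 → ℂ) 1 = ((Fintype.card F + 1 : ℕ) : ℂ)} = _
    rw [natCard_irr_deg_q_add_one, card_mulChar_sq_ne_one_even heven]
  · rw [sum_natCard_deg _ (degN_mem_list_even heven), card_irr_eq_card_conjClasses,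
      Cfsg.Agent.S2331.result]

end Cfsg.Agent.Lib.H12
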