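import Mathlib
import Cfsg.Agent.Lib.H12.SL2Count2
import Cfsg.Agent.Lib.H23.DegreeDvd
import Cfsg.Agent.Lib.H23.Ito
import Cfsg.Agent.Lib.L0.CharOps
import Cfsg.Agent.Lib.L0.CharLinear

set_option autoImplicit false

/-!
# Counting irreducible characters of degree prime to `ℓ`
-/

namespace Cfsg.Agent.Lib.H12

open Cfsg Cfsg.Agent.Lib.L0 Cfsg.Agent.Lib.H24

/-- the number of irreducible characters of degree prime to `ℓ` -/
noncomputable def mckay (ℓ : ℕ) (N : Type*) [Group N] : ℕ :=
  Nat.card {χ : Cfsg.IrrCharacter N // ¬ ℓ ∣ Cfsg.charDegree (χ : N → ℂ)}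

section general

variable {N : Type*} [Group N] [Fintype N]

theorem charDegree_eq_degN (χ : Cfsg.IrrCharacter N) : Cfsg.charDegree (χ : N → ℂ) = degN χ :=
  Cfsg.Agent.Lib.H23.charDegree_eq_of_apply_one (degN_spec χ)

theorem degN_dvd_card (χ : Cfsg.IrrCharacter N) : degN χ ∣ Nat.card N := by
  rw [← charDegree_eq_degN]
  exact Cfsg.Agent.Lib.H23.charDegree_dvd_card _ χ.2

/-- the McKay count as a sum over the possible degrees -/
theorem mckay_eq_sum [Fintype (Cfsg.IrrCharacter N)] (ℓ : ℕ) (V : Finset ℕ)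
    (hV : ∀ χ : Cfsg.IrrCharacter N, degN χ ∈ V) :
    mckay ℓ N = ∑ v ∈ V, if ℓ ∣ v then 0
      else Nat.card {χ : Cfsg.IrrCharacter N // (χ : N → ℂ) 1 = (v : ℂ)} := by
  classical
  unfold mckay
  simp only [natCard_deg_eq]
  have h1 : Nat.card {χ : Cfsg.IrrCharacter N // ¬ ℓ ∣ Cfsg.charDegree (χ : N → ℂ)} =
      (Finset.univ.filter fun χ : Cfsg.IrrCharacter N => ¬ ℓ ∣ degN χ).card := by
    rw [Nat.card_congr (Equiv.subtypeEquivRight (fun χ => by rw [charDegree_eq_degN])),
      Nat.card_eq_fintype_card, Fintype.card_subtype]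
  rw [h1, Finset.card_eq_sum_card_fiberwise (f := degN) (t := V) (fun χ _ => hV χ)]
  apply Finset.sum_congr rfl
  intro v _
  split_ifs with h
  · rw [Finset.card_eq_zero, Finset.filter_eq_empty_iff]
    intro χ hχ hv
    rw [Finset.mem_filter] at hχ
    apply hχ.2
    rw [hv]
    exact h
  · congr 1
    ext χ
    simp only [Finset.mem_filter, Finset.mem_univ, true_and]
    constructor
    · exact fun hh => hh.2
    · intro hh
      exact ⟨by rw [hh]; exact h, hh⟩

/-- if no degree is divisible by `ℓ`, the McKay count is the class number -/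
theorem mckay_eq_card_conjClasses (ℓ : ℕ)
    (h : ∀ χ : Cfsg.IrrCharacter N, ¬ ℓ ∣ Cfsg.charDegree (χ : N → ℂ)) :
    mckay ℓ N = Nat.card (ConjClasses N) := by
  unfold mckay
  rw [← card_irr_eq_card_conjClasses]
  exact Nat.card_congr (Equiv.subtypeUnivEquiv h)

end general

section congr

variable {A B : Type*} [Group A] [Group B]

/-- transport of irreducible characters along an isomorphism -/
noncomputable def irrCongr (e : A ≃* B) : Cfsg.IrrCharacter B ≃ Cfsg.IrrCharacter A where
  toFun χ := ⟨(χ : B → ℂ) ∘ e.toMonoidHom,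
    isIrrCharacter_comp_of_surjective e.toMonoidHom e.surjective χ.2⟩
  invFun χ := ⟨(χ : A → ℂ) ∘ e.symm.toMonoidHom,
    isIrrCharacter_comp_of_surjective e.symm.toMonoidHom e.symm.surjective χ.2⟩
  left_inv χ := by
    apply Subtype.ext
    funext b
    simp
  right_inv χ := by
    apply Subtype.ext
    funext a
    simp

theorem mckay_congr (ℓ : ℕ) (e : A ≃* B) : mckay ℓ A = mckay ℓ B := by
  unfold mckay
  symm
  apply Nat.card_congr
  refine (irrCongr e).subtypeEquiv ?_
  intro χ
  have : Cfsg.charDegree ((irrCongr e χ : Cfsg.IrrCharacter A) : A → ℂ) =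
      Cfsg.charDegree (χ : B → ℂ) := by
    unfold Cfsg.charDegree
    simp [irrCongr]
  rw [this]

end congr

end Cfsg.Agent.Lib.H12
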