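import Mathlib
import Cfsg.Agent.Lib.H12.BorelClasses
import Cfsg.Agent.Lib.H12.McKayCount
import Cfsg.Agent.Lib.H2.SL2Sylow

set_option autoImplicit false

/-!
# The McKay count of the normalizer of a Sylow `p`-subgroup of `SL₂(q)`, `p ∣ q`
-/

namespace Cfsg.Agent.Lib.H12

open Matrix

section borel3

variable {F : Type*} [Field F]

/-- the diagonal entry as a homomorphism on the Borel subgroup -/
noncomputable def borelDiag (F : Type*) [Field F] : borelSL F →* Fˣ where
  toFun b := Units.mk0 (((b : Matrix.SpecialLinearGroup (Fin 2) F) : Matrix (Fin 2) (Fin 2) F) 0 0) (by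
    have h10 := (mem_borelSL (b : Matrix.SpecialLinearGroup (Fin 2) F)).mp b.2
    have hdet := (b : Matrix.SpecialLinearGroup (Fin 2) F).det_coe
    rw [Matrix.det_fin_two, h10, mul_zero, sub_zero] at hdet
    exact left_ne_zero_of_mul_eq_one hdet)
  map_one' := by
    apply Units.ext
    simp
  map_mul' := fun b c => by
    apply Units.ext
    have h10 := (mem_borelSL (c : Matrix.SpecialLinearGroup (Fin 2) F)).mp c.2
    simp [Matrix.mul_apply, Fin.sum_univ_two, h10]

theorem borelDiag_borelMkSL (a : Fˣ) (e : F) : borelDiag F (borelMkSL (a, e)) = a := by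
  apply Units.ext
  simp [borelDiag, borelMkSL_val]

theorem borelDiag_surjective : Function.Surjective (borelDiag F) :=
  fun a => ⟨borelMkSL (a, 0), borelDiag_borelMkSL a 0⟩

theorem mem_ker_borelDiag (b : borelSL F) : b ∈ (borelDiag F).ker ↔ ∃ e : F, b = borelMkSL (1, e) := by
  obtain ⟨⟨a, e⟩, rfl⟩ := borelMkSL_bijective.2 b
  rw [MonoidHom.mem_ker, borelDiag_borelMkSL]
  constructor
  · rintro rfl
    exact ⟨e, rfl⟩
  · rintro ⟨e', h⟩
    exact (Prod.mk.inj (borelMkSL_bijective.1 h)).1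

theorem ker_borelDiag_comm : ∀ a ∈ (borelDiag F).ker, ∀ b ∈ (borelDiag F).ker, a * b = b * a := by
  intro a ha b hb
  obtain ⟨e, rfl⟩ := (mem_ker_borelDiag a).mp ha
  obtain ⟨f, rfl⟩ := (mem_ker_borelDiag b).mp hb
  rw [borelMkSL_mul, borelMkSL_mul]
  congr 2
  simp
  ring

variable [Fintype F] [DecidableEq F]

omit [DecidableEq F] in
theorem index_ker_borelDiag : (borelDiag F).ker.index = Fintype.card F - 1 := by
  rw [Subgroup.index_ker, MonoidHom.range_eq_top.mpr borelDiag_surjective, Subgroup.card_top,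
    Nat.card_units, Nat.card_eq_fintype_card]

/-- the class number of the Borel subgroup -/
theorem card_conjClasses_borelSL (hodd : Odd (Fintype.card F)) :
    Nat.card (ConjClasses (borelSL F)) = Fintype.card F + 3 := by
  have h1 := card_comm_eq_card_conjClasses_mul_card (borelSL F)
  rw [card_commute_borelSL hodd, card_borelSL] at h1
  have hq : 1 < Fintype.card F := Fintype.one_lt_card
  have hpos : 0 < (Fintype.card F - 1) * Fintype.card F := by
    apply Nat.mul_pos <;> omega
  have h2 : (Fintype.card F + 3) * ((Fintype.card F - 1) * Fintype.card F) =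
      Nat.card (ConjClasses (borelSL F)) * ((Fintype.card F - 1) * Fintype.card F) := by
    rw [← h1]; ring
  exact (Nat.eq_of_mul_eq_mul_right hpos h2).symm

/-- the McKay count of the Borel subgroup at a prime dividing `q` -/
theorem mckay_borelSL (hodd : Odd (Fintype.card F)) (ℓ : ℕ) (hℓ : ℓ.Prime) (hdvd : ℓ ∣ Fintype.card F) :
    mckay ℓ (borelSL F) = Fintype.card F + 3 := by
  have : Fintype (borelSL F) := Fintype.ofFinite _
  rw [mckay_eq_card_conjClasses ℓ, card_conjClasses_borelSL hodd]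
  intro χ hχ
  obtain ⟨d, hd1, hd2⟩ := Cfsg.Agent.Lib.H23.ito_char (borelDiag F).ker ker_borelDiag_comm χ.2
  rw [Cfsg.Agent.Lib.H23.charDegree_eq_of_apply_one hd1] at hχ
  have h1 := hχ.trans hd2
  rw [index_ker_borelDiag] at h1
  have hq : 1 < Fintype.card F := Fintype.one_lt_card
  have h2 : ℓ ∣ Fintype.card F - (Fintype.card F - 1) := Nat.dvd_sub hdvd h1
  have h3 : Fintype.card F - (Fintype.card F - 1) = 1 := by omega
  rw [h3] at h2
  exact hℓ.one_lt.ne' (Nat.dvd_one.mp h2)

end borel3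

section sylowp

variable {F : Type*} [Field F]

local notation "SL2" => Matrix.SpecialLinearGroup (Fin 2) F

/-- the normalizer of the upper unitriangular group is the Borel subgroup -/
theorem normalizer_U_eq :
    Subgroup.normalizer (Cfsg.Agent.Lib.H2.SL2.U F : Set SL2) = borelSL F := by
  apply le_antisymm
  · intro g hg
    rw [mem_borelSL]
    have h1 : g * Cfsg.Agent.Lib.H2.SL2.uSL 1 * g⁻¹ ∈ Cfsg.Agent.Lib.H2.SL2.U F :=
      (Subgroup.mem_normalizer_iff.mp hg _).mp (Cfsg.Agent.Lib.H2.SL2.uSL_mem 1)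
    obtain ⟨t, ht⟩ := (Cfsg.Agent.Lib.H2.SL2.mem_U_iff _).mp h1
    have h2 : Cfsg.Agent.Lib.H2.SL2.uSL t * g = g * Cfsg.Agent.Lib.H2.SL2.uSL 1 := by
      rw [ht]; group
    have h3 := congrArg (fun m : SL2 => (m : Matrix (Fin 2) (Fin 2) F) 1 1) h2
    simp only [Cfsg.Agent.Lib.H2.SL2.mul_val, Cfsg.Agent.Lib.H2.SL2.uSL_val] at h3
    simp at h3
    exact h3
  · intro g hg
    exact Cfsg.Agent.Lib.H2.SL2.mem_normalizer_U_of_upper ((mem_borelSL g).mp hg)

variable [Fintype F] [DecidableEq F]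

/-- the McKay count of the normalizer of a Sylow subgroup in the defining characteristic -/
theorem mckay_normalizer_sylow_char (hodd : Odd (Fintype.card F)) (ℓ : ℕ) [Fact ℓ.Prime]
    (hdvd : ℓ ∣ Fintype.card F) (S : Sylow ℓ SL2) :
    mckay ℓ (Subgroup.normalizer ((S : Subgroup SL2) : Set SL2)) = Fintype.card F + 3 := by
  have hℓ : ℓ.Prime := Fact.out
  -- `ℓ` is the characteristic
  obtain ⟨p, hp⟩ := CharP.exists F
  obtain ⟨n, hpp, hn⟩ := FiniteField.card F p
  have hℓp : ℓ = p := by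
    rw [hn] at hdvd
    exact (Nat.prime_dvd_prime_iff_eq hℓ hpp).mp (hℓ.dvd_of_dvd_pow hdvd)
  subst hℓp
  obtain ⟨g, hg⟩ := MulAction.exists_smul_eq SL2 (Cfsg.Agent.Lib.H2.SL2.USylow (F := F) ℓ) S
  have hS : (S : Subgroup SL2) = (Cfsg.Agent.Lib.H2.SL2.U F).map (MulAut.conj g).toMonoidHom := by
    rw [← hg, Sylow.coe_subgroup_smul, Cfsg.Agent.Lib.H2.SL2.coe_USylow]
    rfl
  have hN : Subgroup.normalizer ((S : Subgroup SL2) : Set SL2) =
      (borelSL F).map (MulAut.conj g).toMonoidHom := by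
    rw [hS, ← Subgroup.map_equiv_normalizer_eq, normalizer_U_eq]
  rw [mckay_congr ℓ (MulEquiv.subgroupCongr hN),
    ← mckay_congr ℓ ((borelSL F).equivMapOfInjective _ (MulAut.conj g).injective)]
  exact mckay_borelSL hodd ℓ hℓ hdvd

end sylowp

end Cfsg.Agent.Lib.H12
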