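import Mathlib

set_option autoImplicit false

/-!
# The chain of iterated fixed spaces of a `p`-subgroup of `SL_n(q)` (Borel-Tits flag)
-/

namespace Cfsg.Agent.Lib.H12

open Matrix

section BT

variable {F : Type*} [Field F] {n : ℕ}

local notation "SLn" => Matrix.SpecialLinearGroup (Fin n) F
local notation "Mn" => (Fin n → F)

/-- vectors moved by `U` only inside `W` -/
def nxt (U : Subgroup SLn) (W : Submodule F Mn) : Submodule F Mn where
  carrier := {v | ∀ u ∈ U, (u : Matrix (Fin n) (Fin n) F).mulVec v - v ∈ W}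
  add_mem' := fun {a b} ha hb u hu => by
    have : (u : Matrix (Fin n) (Fin n) F).mulVec (a + b) - (a + b) =
        ((u : Matrix (Fin n) (Fin n) F).mulVec a - a) + ((u : Matrix (Fin n) (Fin n) F).mulVec b - b) := by
      rw [Matrix.mulVec_add]; abel
    rw [this]
    exact W.add_mem (ha u hu) (hb u hu)
  zero_mem' := fun u _ => by
    rw [Matrix.mulVec_zero, sub_zero]
    exact W.zero_mem
  smul_mem' := fun c {a} ha u hu => by
    have : (u : Matrix (Fin n) (Fin n) F).mulVec (c • a) - c • a =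
        c • ((u : Matrix (Fin n) (Fin n) F).mulVec a - a) := by
      rw [Matrix.mulVec_smul, smul_sub]
    rw [this]
    exact W.smul_mem c (ha u hu)

theorem mem_nxt (U : Subgroup SLn) (W : Submodule F Mn) (v : Mn) :
    v ∈ nxt U W ↔ ∀ u ∈ U, (u : Matrix (Fin n) (Fin n) F).mulVec v - v ∈ W := Iff.rfl

theorem nxt_mono (U : Subgroup SLn) {W W' : Submodule F Mn} (h : W ≤ W') : nxt U W ≤ nxt U W' :=
  fun _ hv u hu => h (hv u hu)

/-- the ascending chain of iterated fixed spaces -/
def fixChain (U : Subgroup SLn) : ℕ → Submodule F Mn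
  | 0 => ⊥
  | (j + 1) => nxt U (fixChain U j)

theorem fixChain_zero (U : Subgroup SLn) : fixChain U 0 = ⊥ := rfl
theorem fixChain_succ (U : Subgroup SLn) (j : ℕ) : fixChain U (j + 1) = nxt U (fixChain U j) := rfl

theorem fixChain_le_succ (U : Subgroup SLn) (j : ℕ) : fixChain U j ≤ fixChain U (j + 1) := by
  induction j with
  | zero => rw [fixChain_zero]; exact bot_le
  | succ j ih =>
    rw [fixChain_succ U (j + 1), fixChain_succ U j]
    exact nxt_mono U ih

theorem fixChain_stable (U : Subgroup SLn) (j : ℕ) {u : SLn} (hu : u ∈ U) {v : Mn}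
    (hv : v ∈ fixChain U j) : (u : Matrix (Fin n) (Fin n) F).mulVec v ∈ fixChain U j := by
  cases j with
  | zero =>
    rw [fixChain_zero, Submodule.mem_bot] at hv ⊢
    rw [hv, Matrix.mulVec_zero]
  | succ j =>
    have h1 : (u : Matrix (Fin n) (Fin n) F).mulVec v - v ∈ fixChain U (j + 1) :=
      fixChain_le_succ U j (hv u hu)
    have := (fixChain U (j + 1)).add_mem h1 hv
    rwa [sub_add_cancel] at this

theorem coe_inv_mulVec (g : SLn) (v : Mn) :
    (g : Matrix (Fin n) (Fin n) F).mulVec (((g⁻¹ : SLn) : Matrix (Fin n) (Fin n) F).mulVec v) = v := by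
  rw [Matrix.mulVec_mulVec, ← Matrix.SpecialLinearGroup.coe_mul, mul_inv_cancel,
    Matrix.SpecialLinearGroup.coe_one, Matrix.one_mulVec]

theorem fixChain_normalizer (U : Subgroup SLn) (j : ℕ) {g : SLn}
    (hg : g ∈ Subgroup.normalizer (U : Set SLn)) {v : Mn} (hv : v ∈ fixChain U j) :
    (g : Matrix (Fin n) (Fin n) F).mulVec v ∈ fixChain U j := by
  induction j generalizing v with
  | zero =>
    rw [fixChain_zero, Submodule.mem_bot] at hv ⊢
    rw [hv, Matrix.mulVec_zero]
  | succ j ih =>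
    rw [fixChain_succ, mem_nxt] at hv ⊢
    intro u hu
    have hu' : g⁻¹ * u * g ∈ U := by
      apply (Subgroup.mem_normalizer_iff''.mp hg u).mp hu
    have h1 := ih (hv _ hu')
    have h2 : (g : Matrix (Fin n) (Fin n) F).mulVec
        (((g⁻¹ * u * g : SLn) : Matrix (Fin n) (Fin n) F).mulVec v - v) =
        (u : Matrix (Fin n) (Fin n) F).mulVec ((g : Matrix (Fin n) (Fin n) F).mulVec v) -
          (g : Matrix (Fin n) (Fin n) F).mulVec v := by
      have e : g * (g⁻¹ * u * g) = u * g := by group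
      rw [Matrix.mulVec_sub, Matrix.mulVec_mulVec, Matrix.mulVec_mulVec,
        ← Matrix.SpecialLinearGroup.coe_mul, ← Matrix.SpecialLinearGroup.coe_mul, e]
    rw [← h2]
    exact h1

/-- the action of a subgroup stabilizing `W` on the quotient by `W` -/
noncomputable def quotHom (U : Subgroup SLn) (W : Submodule F Mn)
    (hstab : ∀ u ∈ U, ∀ v ∈ W, (u : Matrix (Fin n) (Fin n) F).mulVec v ∈ W) :
    U →* Module.End F (Mn ⧸ W) where
  toFun u := W.mapQ W (Matrix.mulVecLin ((u : SLn) : Matrix (Fin n) (Fin n) F))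
    (fun v hv => hstab u u.2 v hv)
  map_one' := by
    apply LinearMap.ext
    intro q
    induction q using Submodule.Quotient.induction_on with
    | H v =>
      change Submodule.Quotient.mk ((((1 : U) : SLn) : Matrix (Fin n) (Fin n) F).mulVec v) =
        Submodule.Quotient.mk v
      rw [Subgroup.coe_one, Matrix.SpecialLinearGroup.coe_one, Matrix.one_mulVec]
  map_mul' := fun u v => by
    apply LinearMap.ext
    intro q
    induction q using Submodule.Quotient.induction_on with
    | H x =>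
      change Submodule.Quotient.mk ((((u * v : U) : SLn) : Matrix (Fin n) (Fin n) F).mulVec x) =
        Submodule.Quotient.mk (((u : SLn) : Matrix (Fin n) (Fin n) F).mulVec
          (((v : SLn) : Matrix (Fin n) (Fin n) F).mulVec x))
      rw [Subgroup.coe_mul, Matrix.SpecialLinearGroup.coe_mul, Matrix.mulVec_mulVec]

theorem exists_moved_inside [Fintype F] (p : ℕ) [Fact p.Prime] [CharP F p] (U : Subgroup SLn)
    (hU : IsPGroup p U) (W : Submodule F Mn)
    (hstab : ∀ u ∈ U, ∀ v ∈ W, (u : Matrix (Fin n) (Fin n) F).mulVec v ∈ W) (hW : W ≠ ⊤) :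
    ∃ v : Mn, (∀ u ∈ U, (u : Matrix (Fin n) (Fin n) F).mulVec v - v ∈ W) ∧ v ∉ W := by
  classical
  let _ : MulAction U (Mn ⧸ W) := MulAction.compHom (Mn ⧸ W) (quotHom U W hstab)
  have hsmul : ∀ (u : U) (v : Mn), u • (Submodule.Quotient.mk v : Mn ⧸ W) =
      Submodule.Quotient.mk (((u : SLn) : Matrix (Fin n) (Fin n) F).mulVec v) := by
    intro u v
    rfl
  -- `p` divides the order of the quotient
  obtain ⟨v₀, hv₀⟩ : ∃ v₀ : Mn, v₀ ∉ W := by
    by_contra hcon
    push Not at hcon
    exact hW (eq_top_iff.mpr fun v _ => hcon v)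
  have hq₀ : (Submodule.Quotient.mk v₀ : Mn ⧸ W) ≠ 0 := by
    rw [Ne, Submodule.Quotient.mk_eq_zero]
    exact hv₀
  have hp : p ∣ Nat.card (Mn ⧸ W) := by
    have h1 : p • (Submodule.Quotient.mk v₀ : Mn ⧸ W) = 0 := by
      rw [← Nat.cast_smul_eq_nsmul F, CharP.cast_eq_zero, zero_smul]
    have h2 : addOrderOf (Submodule.Quotient.mk v₀ : Mn ⧸ W) ∣ p := addOrderOf_dvd_of_nsmul_eq_zero h1
    have h3 : addOrderOf (Submodule.Quotient.mk v₀ : Mn ⧸ W) ≠ 1 := by
      rw [Ne, AddMonoid.addOrderOf_eq_one_iff]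
      exact hq₀
    have h4 : addOrderOf (Submodule.Quotient.mk v₀ : Mn ⧸ W) = p :=
      ((Nat.dvd_prime (Fact.out : p.Prime)).mp h2).resolve_left h3
    rw [← h4]
    exact addOrderOf_dvd_natCard _
  have h0 : (0 : Mn ⧸ W) ∈ MulAction.fixedPoints U (Mn ⧸ W) := by
    intro u
    have := hsmul u 0
    rw [Matrix.mulVec_zero, Submodule.Quotient.mk_zero] at this
    exact this
  obtain ⟨b, hb, hb0⟩ := hU.exists_fixed_point_of_prime_dvd_card_of_fixed_point (Mn ⧸ W) hp h0
  obtain ⟨v, rfl⟩ := Submodule.Quotient.mk_surjective W b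
  refine ⟨v, fun u hu => ?_, ?_⟩
  · have := hb ⟨u, hu⟩
    rw [hsmul, Submodule.Quotient.eq] at this
    exact this
  · intro hv
    apply hb0
    rw [eq_comm, Submodule.Quotient.mk_eq_zero]
    exact hv


theorem fixChain_lt_succ [Fintype F] (p : ℕ) [Fact p.Prime] [CharP F p] (U : Subgroup SLn)
    (hU : IsPGroup p U) (j : ℕ) (hj : fixChain U j ≠ ⊤) : fixChain U j < fixChain U (j + 1) := by
  obtain ⟨v, hv1, hv2⟩ := exists_moved_inside p U hU (fixChain U j)
    (fun u hu v hv => fixChain_stable U j hu hv) hj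
  refine lt_of_le_of_ne (fixChain_le_succ U j) ?_
  intro h
  apply hv2
  rw [h, fixChain_succ, mem_nxt]
  exact hv1

theorem exists_fixChain_eq_top [Fintype F] (p : ℕ) [Fact p.Prime] [CharP F p] (U : Subgroup SLn)
    (hU : IsPGroup p U) : ∃ m, fixChain U m = ⊤ := by
  by_contra hcon
  push Not at hcon
  have hlt : ∀ j, fixChain U j < fixChain U (j + 1) := fun j => fixChain_lt_succ p U hU j (hcon j)
  have hrank : ∀ j, j ≤ Module.finrank F (fixChain U j) := by
    intro j
    induction j with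
    | zero => exact Nat.zero_le _
    | succ j ih =>
      have := Submodule.finrank_lt_finrank_of_lt (hlt j)
      omega
  have h1 := hrank (n + 1)
  have h2 := Submodule.finrank_le (fixChain U (n + 1))
  rw [Module.finrank_fin_fun] at h2
  omega

theorem fixChain_one_ne_top (U : Subgroup SLn) (hne : U ≠ ⊥) : fixChain U 1 ≠ ⊤ := by
  intro h
  apply hne
  rw [Subgroup.eq_bot_iff_forall]
  intro u hu
  apply Subtype.ext
  rw [Matrix.SpecialLinearGroup.coe_one]
  apply Matrix.toLin'.injective
  apply LinearMap.ext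
  intro v
  have hv : v ∈ fixChain U 1 := by rw [h]; trivial
  rw [fixChain_succ, mem_nxt] at hv
  have := hv u hu
  rw [fixChain_zero, Submodule.mem_bot, sub_eq_zero] at this
  rw [Matrix.toLin'_apply, this, Matrix.toLin'_one, LinearMap.id_apply]

end BT

end Cfsg.Agent.Lib.H12
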