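import Mathlib

/-!
# Products of two conjugates: basic tools

`Good X M` says that the square matrix `M` is a product of two matrices similar to `X`.
We prove that `Good` is invariant under similarity and give a normal form for non-scalar
`3 × 3` matrices (first column `(1,1,0)`).
-/

namespace Cfsg.Agent.Lib.H12.CCov

open Matrix

variable {F : Type*} [Field F]

/-- `M` is a product of two matrices similar to `X`. -/
def Good {n : Type*} [Fintype n] [DecidableEq n] (X M : Matrix n n F) : Prop :=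
  ∃ A B R₁ R₂ : Matrix n n F, M = A * B ∧ R₁.det ≠ 0 ∧ R₂.det ≠ 0 ∧ A * R₁ = R₁ * X ∧
    B * R₂ = R₂ * X

theorem good_conj {n : Type*} [Fintype n] [DecidableEq n] (X M G P : Matrix n n F)
    (hP : P.det ≠ 0) (hGP : G * P = P * M) (hM : Good X M) : Good X G := by
  obtain ⟨A, B, R₁, R₂, hAB, h1, h2, hA, hB⟩ := hM
  have hPu : IsUnit P.det := isUnit_iff_ne_zero.mpr hP
  have hPP : P * P⁻¹ = 1 := Matrix.mul_nonsing_inv P hPu
  have hPP' : P⁻¹ * P = 1 := Matrix.nonsing_inv_mul P hPu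
  refine ⟨P * A * P⁻¹, P * B * P⁻¹, P * R₁, P * R₂, ?_, ?_, ?_, ?_, ?_⟩
  · have : G = G * (P * P⁻¹) := by rw [hPP, Matrix.mul_one]
    rw [this, ← Matrix.mul_assoc, hGP, hAB]
    calc P * (A * B) * P⁻¹ = P * A * (1 : Matrix n n F) * B * P⁻¹ := by
          simp [Matrix.mul_assoc]
      _ = P * A * (P⁻¹ * P) * B * P⁻¹ := by rw [hPP']
      _ = P * A * P⁻¹ * (P * B * P⁻¹) := by simp only [Matrix.mul_assoc]
  · rw [Matrix.det_mul]
    exact mul_ne_zero hP h1
  · rw [Matrix.det_mul]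
    exact mul_ne_zero hP h2
  · calc P * A * P⁻¹ * (P * R₁) = P * A * (P⁻¹ * P) * R₁ := by simp only [Matrix.mul_assoc]
      _ = P * (A * R₁) := by rw [hPP', Matrix.mul_one, Matrix.mul_assoc]
      _ = P * R₁ * X := by rw [hA, Matrix.mul_assoc]
  · calc P * B * P⁻¹ * (P * R₂) = P * B * (P⁻¹ * P) * R₂ := by simp only [Matrix.mul_assoc]
      _ = P * (B * R₂) := by rw [hPP', Matrix.mul_one, Matrix.mul_assoc]
      _ = P * R₂ * X := by rw [hB, Matrix.mul_assoc]

/-- The matrix with columns `u v w`. -/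
def cols (u v w : Fin 3 → F) : Matrix (Fin 3) (Fin 3) F :=
  Matrix.of fun i j => ![u i, v i, w i] j

/-- Cross product. -/
def cr (u v : Fin 3 → F) : Fin 3 → F :=
  ![u 1 * v 2 - u 2 * v 1, u 2 * v 0 - u 0 * v 2, u 0 * v 1 - u 1 * v 0]

theorem det_cols (u v w : Fin 3 → F) :
    (cols u v w).det = w 0 * cr u v 0 + w 1 * cr u v 1 + w 2 * cr u v 2 := by
  simp [det_fin_three, cols, cr]
  ring

theorem mul_cols (G : Matrix (Fin 3) (Fin 3) F) (u v w : Fin 3 → F) :
    G * cols u v w = cols (G.mulVec u) (G.mulVec v) (G.mulVec w) := by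
  ext i j
  fin_cases j <;> simp [cols, Matrix.mul_apply, Matrix.mulVec, dotProduct]

theorem cols_mulVec (u v w x : Fin 3 → F) :
    (cols u v w).mulVec x = x 0 • u + x 1 • v + x 2 • w := by
  ext i
  simp [cols, Matrix.mulVec, dotProduct, Fin.sum_univ_three]
  ring

/-- A non-scalar `3 × 3` matrix has a vector `e` with `e`, `G e` independent. -/
theorem exists_cr_ne_zero (G : Matrix (Fin 3) (Fin 3) F)
    (hns : ¬ ∃ c : F, G = c • (1 : Matrix (Fin 3) (Fin 3) F)) :
    ∃ (e : Fin 3 → F) (k : Fin 3), cr e (G.mulVec e) k ≠ 0 := by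
  by_contra hcon
  push Not at hcon
  apply hns
  refine ⟨G 0 0, ?_⟩
  have h0 := hcon ![1, 0, 0]
  have h1 := hcon ![0, 1, 0]
  have h2 := hcon ![0, 0, 1]
  have h3 := hcon ![1, 1, 0]
  have h4 := hcon ![1, 0, 1]
  have a1 := h0 1
  have a2 := h0 2
  have b0 := h1 0
  have b2 := h1 2
  have c0 := h2 0
  have c1 := h2 1
  have d2 := h3 2
  have e1 := h4 1
  simp [cr, Matrix.mulVec, dotProduct, Fin.sum_univ_three] at a1 a2 b0 b2 c0 c1 d2 e1
  ext i j
  fin_cases i <;> fin_cases j <;> simp <;>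
    first
    | exact a1 | exact a2 | exact b0 | exact b2 | exact c0 | exact c1
    | linear_combination d2 + b2 - a2
    | linear_combination (-1 : F) * e1 + c1 - a1

end Cfsg.Agent.Lib.H12.CCov
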