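import Mathlib
import Cfsg.Agent.Lib.H12.CCovA

/-!
# Normal form of a non-scalar `3 × 3` matrix of determinant one
-/

namespace Cfsg.Agent.Lib.H12.CCov

open Matrix

variable {F : Type*} [Field F]

/-- The block shape `[[1, p], [z, S + z p]]` with `z = (1,0)ᵀ`. -/
def MM (p₁ p₂ : F) (S : Matrix (Fin 2) (Fin 2) F) : Matrix (Fin 3) (Fin 3) F :=
  !![1, p₁, p₂; 1, S 0 0 + p₁, S 0 1 + p₂; 0, S 1 0, S 1 1]

/-- The family of Schur complements. -/
def St (a b c a' b' c' t : F) : Matrix (Fin 2) (Fin 2) F :=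
  !![b - a - t * c, b' - a' - t * c'; c, c']

theorem det_St (a b c a' b' c' t : F) (h : b * c' - b' * c - a * c' + a' * c = 1) :
    (St a b c a' b' c' t).det = 1 := by
  rw [det_fin_two]
  simp [St]
  linear_combination h

theorem cr_self (u : Fin 3 → F) : cr u u = 0 := by
  ext i
  fin_cases i <;> simp [cr] <;> ring

theorem normal_form (G : Matrix (Fin 3) (Fin 3) F)
    (hns : ¬ ∃ c : F, G = c • (1 : Matrix (Fin 3) (Fin 3) F)) (hdet : G.det = 1) :
    ∃ a b c a' b' c' : F, b * c' - b' * c - a * c' + a' * c = 1 ∧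
      ∀ t : F, ∃ P : Matrix (Fin 3) (Fin 3) F, P.det ≠ 0 ∧
        G * P = P * MM (a + t * c) (a' - t + t * c') (St a b c a' b' c' t) := by
  classical
  obtain ⟨e, k, hk⟩ := exists_cr_ne_zero G hns
  obtain ⟨f, hf⟩ : ∃ f : Fin 3 → F, f = G.mulVec e - e := ⟨_, rfl⟩
  obtain ⟨y, hy⟩ : ∃ y : Fin 3 → F, y = Pi.single k 1 := ⟨_, rfl⟩
  obtain ⟨P₀, hP₀⟩ : ∃ P₀ : Matrix (Fin 3) (Fin 3) F, P₀ = cols e f y := ⟨_, rfl⟩
  have hcr : cr e f = cr e (G.mulVec e) := by
    rw [hf]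
    ext i
    fin_cases i <;> simp [cr] <;> ring
  have hdetP : P₀.det = cr e (G.mulVec e) k := by
    rw [hP₀, det_cols, hcr, hy]
    fin_cases k <;> simp
  have hP0 : P₀.det ≠ 0 := by rw [hdetP]; exact hk
  have hPu : IsUnit P₀.det := isUnit_iff_ne_zero.mpr hP0
  have hPP : P₀ * P₀⁻¹ = 1 := Matrix.mul_nonsing_inv P₀ hPu
  have hPP' : P₀⁻¹ * P₀ = 1 := Matrix.nonsing_inv_mul P₀ hPu
  obtain ⟨M, hM⟩ : ∃ M : Matrix (Fin 3) (Fin 3) F, M = P₀⁻¹ * G * P₀ := ⟨_, rfl⟩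
  have hGP : G * P₀ = P₀ * M := by
    rw [hM, ← Matrix.mul_assoc, ← Matrix.mul_assoc, hPP, Matrix.one_mul]
  have hdetM : M.det = 1 := by
    have h1 : (G * P₀).det = (P₀ * M).det := by rw [hGP]
    rw [Matrix.det_mul, Matrix.det_mul, hdet, one_mul] at h1
    have h2 : P₀.det * M.det = P₀.det * 1 := by rw [← h1, mul_one]
    exact mul_left_cancel₀ hP0 h2
  -- the first column of `M`
  have hcol : M.mulVec ![1, 0, 0] = ![1, 1, 0] := by
    have h1 : P₀.mulVec (M.mulVec ![1, 0, 0]) = P₀.mulVec ![1, 1, 0] := by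
      rw [Matrix.mulVec_mulVec, ← hGP, ← Matrix.mulVec_mulVec, hP₀, cols_mulVec, cols_mulVec, hf]
      simp
    have h2 := congrArg (P₀⁻¹).mulVec h1
    simp only [Matrix.mulVec_mulVec, ← Matrix.mul_assoc, hPP', Matrix.one_mul,
      Matrix.one_mulVec] at h2
    exact h2
  have h00 : M 0 0 = 1 := by
    have := congrFun hcol 0
    simpa [Matrix.mulVec, dotProduct, Fin.sum_univ_three] using this
  have h10 : M 1 0 = 1 := by
    have := congrFun hcol 1
    simpa [Matrix.mulVec, dotProduct, Fin.sum_univ_three] using this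
  have h20 : M 2 0 = 0 := by
    have := congrFun hcol 2
    simpa [Matrix.mulVec, dotProduct, Fin.sum_univ_three] using this
  have hMeq : M = !![1, M 0 1, M 0 2; 1, M 1 1, M 1 2; 0, M 2 1, M 2 2] := by
    ext i j
    fin_cases i <;> fin_cases j <;> simp [h00, h10, h20]
  have hrel : M 1 1 * M 2 2 - M 1 2 * M 2 1 - M 0 1 * M 2 2 + M 0 2 * M 2 1 = 1 := by
    rw [← hdetM, det_fin_three, h00, h10, h20]
    ring
  refine ⟨M 0 1, M 1 1, M 2 1, M 0 2, M 1 2, M 2 2, hrel, ?_⟩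
  intro t
  refine ⟨P₀ * !![1, 0, -t; 0, 1, 0; 0, 0, 1], ?_, ?_⟩
  · rw [Matrix.det_mul]
    apply mul_ne_zero hP0
    rw [det_fin_three]
    simp
  · rw [← Matrix.mul_assoc, hGP, Matrix.mul_assoc, Matrix.mul_assoc]
    congr 1
    rw [hMeq]
    ext i j
    fin_cases i <;> fin_cases j <;>
      simp [MM, St, Matrix.mul_apply, Fin.sum_univ_three] <;> ring

end Cfsg.Agent.Lib.H12.CCov
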