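import Mathlib
import Cfsg.Agent.Lib.H12.CCovB

/-!
# Block LU step: from a `2 × 2` factorisation to a `3 × 3` factorisation
-/

namespace Cfsg.Agent.Lib.H12.CCov

open Matrix

variable {F : Type*} [Field F]

/-- `1 ⊕ T`. -/
def blk (T : Matrix (Fin 2) (Fin 2) F) : Matrix (Fin 3) (Fin 3) F :=
  !![1, 0, 0; 0, T 0 0, T 0 1; 0, T 1 0, T 1 1]

/-- Lower block factor. -/
def Lm (B : Matrix (Fin 2) (Fin 2) F) : Matrix (Fin 3) (Fin 3) F :=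
  !![1, 0, 0; 1, B 0 0, B 0 1; 0, B 1 0, B 1 1]

/-- Upper block factor. -/
def Um (p₁ p₂ : F) (C : Matrix (Fin 2) (Fin 2) F) : Matrix (Fin 3) (Fin 3) F :=
  !![1, p₁, p₂; 0, C 0 0, C 0 1; 0, C 1 0, C 1 1]

theorem MM_eq (p₁ p₂ : F) (S B C : Matrix (Fin 2) (Fin 2) F) (h : S = B * C) :
    MM p₁ p₂ S = Lm B * Um p₁ p₂ C := by
  subst h
  ext i j
  fin_cases i <;> fin_cases j <;>
    simp [MM, Lm, Um, Matrix.mul_apply, Fin.sum_univ_three, Fin.sum_univ_two] <;> ring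

theorem blk_mul (T T' : Matrix (Fin 2) (Fin 2) F) : blk (T * T') = blk T * blk T' := by
  ext i j
  fin_cases i <;> fin_cases j <;>
    simp [blk, Matrix.mul_apply, Fin.sum_univ_three, Fin.sum_univ_two]

theorem det_blk (T : Matrix (Fin 2) (Fin 2) F) : (blk T).det = T.det := by
  rw [det_fin_three, det_fin_two]
  simp [blk]

theorem Lm_sim (B : Matrix (Fin 2) (Fin 2) F) (hB : (1 - B).det ≠ 0) :
    ∃ Θ : Matrix (Fin 3) (Fin 3) F, Θ.det = 1 ∧ Lm B * Θ = Θ * blk B := by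
  obtain ⟨d, hd⟩ : ∃ d : F, d = (1 - B).det := ⟨_, rfl⟩
  have hd0 : d ≠ 0 := by rw [hd]; exact hB
  have hdv : d = (1 - B 0 0) * (1 - B 1 1) - B 0 1 * B 1 0 := by
    rw [hd, det_fin_two]
    simp
  refine ⟨!![1, 0, 0; (1 - B 1 1) / d, 1, 0; B 1 0 / d, 0, 1], ?_, ?_⟩
  · rw [det_fin_three]
    simp
  · ext i j
    fin_cases i <;> fin_cases j <;>
      simp [Lm, blk, Matrix.mul_apply, Fin.sum_univ_three]
    · field_simp
      linear_combination hdv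
    · field_simp
      ring

theorem Um_sim (p₁ p₂ : F) (C : Matrix (Fin 2) (Fin 2) F) (hC : (1 - C).det ≠ 0) :
    ∃ Θ : Matrix (Fin 3) (Fin 3) F, Θ.det = 1 ∧ Um p₁ p₂ C * Θ = Θ * blk C := by
  obtain ⟨d, hd⟩ : ∃ d : F, d = (1 - C).det := ⟨_, rfl⟩
  have hd0 : d ≠ 0 := by rw [hd]; exact hC
  have hdv : d = (C 0 0 - 1) * (C 1 1 - 1) - C 0 1 * C 1 0 := by
    rw [hd, det_fin_two]
    simp
    ring
  refine ⟨!![1, (p₁ * (C 1 1 - 1) - p₂ * C 1 0) / d, (-p₁ * C 0 1 + p₂ * (C 0 0 - 1)) / d;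
    0, 1, 0; 0, 0, 1], ?_, ?_⟩
  · rw [det_fin_three]
    simp
  · ext i j
    fin_cases i <;> fin_cases j <;>
      simp [Um, blk, Matrix.mul_apply, Fin.sum_univ_three]
    · field_simp
      rw [hdv]
      ring
    · field_simp
      rw [hdv]
      ring

theorem det_one_sub_of_sim (X₂ B Q : Matrix (Fin 2) (Fin 2) F) (hQ : Q.det ≠ 0)
    (hBQ : B * Q = Q * X₂) : (1 - B).det = (1 - X₂).det := by
  have h1 : (1 - B) * Q = Q * (1 - X₂) := by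
    rw [Matrix.sub_mul, Matrix.mul_sub, hBQ, Matrix.one_mul, Matrix.mul_one]
  have h2 := congrArg Matrix.det h1
  rw [Matrix.det_mul, Matrix.det_mul, mul_comm] at h2
  exact mul_left_cancel₀ hQ h2

theorem good_MM (X₂ : Matrix (Fin 2) (Fin 2) F) (hX : (1 - X₂).det ≠ 0) (p₁ p₂ : F)
    (S : Matrix (Fin 2) (Fin 2) F) (hS : Good X₂ S) : Good (blk X₂) (MM p₁ p₂ S) := by
  obtain ⟨B, C, Q₁, Q₂, hBC, hQ₁, hQ₂, hB, hC⟩ := hS
  have hB1 : (1 - B).det ≠ 0 := by rw [det_one_sub_of_sim X₂ B Q₁ hQ₁ hB]; exact hX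
  have hC1 : (1 - C).det ≠ 0 := by rw [det_one_sub_of_sim X₂ C Q₂ hQ₂ hC]; exact hX
  obtain ⟨Θ, hΘd, hΘ⟩ := Lm_sim B hB1
  obtain ⟨Θ', hΘ'd, hΘ'⟩ := Um_sim p₁ p₂ C hC1
  refine ⟨Lm B, Um p₁ p₂ C, Θ * blk Q₁, Θ' * blk Q₂, MM_eq p₁ p₂ S B C hBC, ?_, ?_, ?_, ?_⟩
  · rw [Matrix.det_mul, hΘd, one_mul, det_blk]
    exact hQ₁
  · rw [Matrix.det_mul, hΘ'd, one_mul, det_blk]
    exact hQ₂
  · rw [← Matrix.mul_assoc, hΘ, Matrix.mul_assoc, ← blk_mul, hB, blk_mul, Matrix.mul_assoc]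
  · rw [← Matrix.mul_assoc, hΘ', Matrix.mul_assoc, ← blk_mul, hC, blk_mul, Matrix.mul_assoc]

end Cfsg.Agent.Lib.H12.CCov
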