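import Mathlib
import Cfsg.Agent.Lib.H12.CCovC

/-!
# The `2 × 2` factorisation lemmas
-/

namespace Cfsg.Agent.Lib.H12.CCov

open Matrix

variable {F : Type*} [Field F]

/-- The split torus element `diag(μ, μ⁻¹)`. -/
def D2 (μ : F) : Matrix (Fin 2) (Fin 2) F := !![μ, 0; 0, μ⁻¹]

/-- The element of order four. -/
def J2 : Matrix (Fin 2) (Fin 2) F := !![0, -1; 1, 0]

theorem exists_noneig2 (S : Matrix (Fin 2) (Fin 2) F)
    (hns : ¬ ∃ c : F, S = c • (1 : Matrix (Fin 2) (Fin 2) F)) :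
    ∃ v : Fin 2 → F, v 0 * S.mulVec v 1 - v 1 * S.mulVec v 0 ≠ 0 := by
  by_contra hcon
  push Not at hcon
  apply hns
  refine ⟨S 0 0, ?_⟩
  have h0 := hcon ![1, 0]
  have h1 := hcon ![0, 1]
  have h2 := hcon ![1, 1]
  simp [Matrix.mulVec, dotProduct, Fin.sum_univ_two] at h0 h1 h2
  ext i j
  fin_cases i <;> fin_cases j <;> simp <;>
    first
    | exact h0 | exact h1
    | linear_combination h2 + h1 - h0

/-- Normal form of a non-scalar `2 × 2` matrix: first column `(r, 1)`. -/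
theorem normal_form2 (S : Matrix (Fin 2) (Fin 2) F)
    (hns : ¬ ∃ c : F, S = c • (1 : Matrix (Fin 2) (Fin 2) F)) (hdet : S.det = 1) (r : F) :
    ∃ (P : Matrix (Fin 2) (Fin 2) F) (x y : F), P.det ≠ 0 ∧ r * y - x = 1 ∧
      S * P = P * !![r, x; 1, y] := by
  obtain ⟨v, hv⟩ := exists_noneig2 S hns
  obtain ⟨P, hP⟩ : ∃ P : Matrix (Fin 2) (Fin 2) F,
    P = !![v 0, S.mulVec v 0 - r * v 0; v 1, S.mulVec v 1 - r * v 1] := ⟨_, rfl⟩
  have hdetP : P.det = v 0 * S.mulVec v 1 - v 1 * S.mulVec v 0 := by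
    rw [hP, det_fin_two]
    simp
    ring
  have hP0 : P.det ≠ 0 := by rw [hdetP]; exact hv
  have hPu : IsUnit P.det := isUnit_iff_ne_zero.mpr hP0
  have hPP : P * P⁻¹ = 1 := Matrix.mul_nonsing_inv P hPu
  have hPP' : P⁻¹ * P = 1 := Matrix.nonsing_inv_mul P hPu
  obtain ⟨M, hM⟩ : ∃ M : Matrix (Fin 2) (Fin 2) F, M = P⁻¹ * S * P := ⟨_, rfl⟩
  have hSP : S * P = P * M := by
    rw [hM, ← Matrix.mul_assoc, ← Matrix.mul_assoc, hPP, Matrix.one_mul]
  have hdetM : M.det = 1 := by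
    have h1 : (S * P).det = (P * M).det := by rw [hSP]
    rw [Matrix.det_mul, Matrix.det_mul, hdet, one_mul] at h1
    have h2 : P.det * M.det = P.det * 1 := by rw [← h1, mul_one]
    exact mul_left_cancel₀ hP0 h2
  have hcol : M.mulVec ![1, 0] = ![r, 1] := by
    have h1 : P.mulVec (M.mulVec ![1, 0]) = P.mulVec ![r, 1] := by
      rw [Matrix.mulVec_mulVec, ← hSP, ← Matrix.mulVec_mulVec]
      have e1 : P.mulVec ![1, 0] = v := by
        rw [hP]
        ext i
        fin_cases i <;> simp [Matrix.mulVec, dotProduct, Fin.sum_univ_two]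
      rw [e1, hP]
      ext i
      fin_cases i <;> simp [Matrix.mulVec, dotProduct, Fin.sum_univ_two] <;> ring
    have h2 := congrArg (P⁻¹).mulVec h1
    simp only [Matrix.mulVec_mulVec, ← Matrix.mul_assoc, hPP', Matrix.one_mul,
      Matrix.one_mulVec] at h2
    exact h2
  have h00 : M 0 0 = r := by
    have := congrFun hcol 0
    simpa [Matrix.mulVec, dotProduct, Fin.sum_univ_two] using this
  have h10 : M 1 0 = 1 := by
    have := congrFun hcol 1
    simpa [Matrix.mulVec, dotProduct, Fin.sum_univ_two] using this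
  have hMeq : M = !![r, M 0 1; 1, M 1 1] := by
    ext i j
    fin_cases i <;> fin_cases j <;> simp [h00, h10]
  refine ⟨P, M 0 1, M 1 1, hP0, ?_, ?_⟩
  · rw [← hdetM, det_fin_two, h00, h10]
    ring
  · rw [hSP, ← hMeq]

/-- Every non-scalar `2 × 2` matrix of determinant one is a product of two conjugates of
`diag(μ, μ⁻¹)` when `μ² ≠ 1`. -/
theorem good_D2 (S : Matrix (Fin 2) (Fin 2) F)
    (hns : ¬ ∃ c : F, S = c • (1 : Matrix (Fin 2) (Fin 2) F)) (hdet : S.det = 1) (μ : F)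
    (hμ0 : μ ≠ 0) (hμ : μ ^ 2 ≠ 1) : Good (D2 μ) S := by
  obtain ⟨P, x, y, hP0, hxy, hSP⟩ := normal_form2 S hns hdet (μ ^ 2)
  apply good_conj (D2 μ) _ S P hP0 hSP
  have hμ1 : μ ^ 2 - 1 ≠ 0 := sub_ne_zero.mpr hμ
  refine ⟨!![μ, 0; μ⁻¹, μ⁻¹], !![μ, x / μ; 0, μ⁻¹], !![μ ^ 2 - 1, 0; 1, 1],
    !![1, -x; 0, μ ^ 2 - 1], ?_, ?_, ?_, ?_, ?_⟩
  · ext i j
    fin_cases i <;> fin_cases j <;> simp [Matrix.mul_apply, Fin.sum_univ_two]
    · ring
    · field_simp
    · field_simp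
    · field_simp
      linear_combination hxy
  · rw [det_fin_two]
    simpa using hμ1
  · rw [det_fin_two]
    simpa using hμ1
  · ext i j
    fin_cases i <;> fin_cases j <;> simp [D2, Matrix.mul_apply, Fin.sum_univ_two] <;>
      first
      | ring1
      | (field_simp; ring1)
      | field_simp
  · ext i j
    fin_cases i <;> fin_cases j <;> simp [D2, Matrix.mul_apply, Fin.sum_univ_two] <;>
      first
      | ring1
      | (field_simp; ring1)
      | field_simp

end Cfsg.Agent.Lib.H12.CCov
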