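import Mathlib
import Cfsg.Agent.Lib.H12.CCovD

/-!
# Main theorems on `3 × 3` matrices
-/

namespace Cfsg.Agent.Lib.H12.CCov

open Matrix

variable {F : Type*} [Field F]

theorem main_big (G : Matrix (Fin 3) (Fin 3) F)
    (hns : ¬ ∃ c : F, G = c • (1 : Matrix (Fin 3) (Fin 3) F)) (hdet : G.det = 1) (μ : F)
    (hμ0 : μ ≠ 0) (hμ : μ ^ 2 ≠ 1) : Good (blk (D2 μ)) G := by
  obtain ⟨a, b, c, a', b', c', hrel, hP⟩ := normal_form G hns hdet
  have hμ1 : μ ≠ 1 := by
    rintro rfl
    exact hμ (one_pow 2)
  have hX : (1 - D2 μ).det ≠ 0 := by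
    rw [det_fin_two]
    simp [D2]
    constructor
    · exact sub_ne_zero.mpr (Ne.symm hμ1)
    · intro h
      rw [sub_eq_zero] at h
      apply hμ1
      have := congrArg (fun z => z * μ) h
      simp only [one_mul, inv_mul_cancel₀ hμ0] at this
      exact this
  -- choice of `t`
  have hchoice : ∃ t : F, ¬ ∃ k : F, St a b c a' b' c' t = k • (1 : Matrix (Fin 2) (Fin 2) F) := by
    by_cases hc : c = 0
    · by_cases hba : b' - a' = 0
      · refine ⟨1, ?_⟩
        rintro ⟨k, hk⟩
        have h01 := congrFun (congrFun hk 0) 1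
        simp [St] at h01
        have hc' : c' = 0 := by linear_combination hba - h01
        rw [hc, hc'] at hrel
        simp at hrel
      · refine ⟨0, ?_⟩
        rintro ⟨k, hk⟩
        have h01 := congrFun (congrFun hk 0) 1
        simp [St] at h01
        exact hba h01
    · refine ⟨0, ?_⟩
      rintro ⟨k, hk⟩
      have h10 := congrFun (congrFun hk 1) 0
      simp [St] at h10
      exact hc h10
  obtain ⟨t, ht⟩ := hchoice
  obtain ⟨P, hP0, hGP⟩ := hP t
  apply good_conj _ _ G P hP0 hGP
  apply good_MM (D2 μ) hX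
  exact good_D2 _ ht (det_St a b c a' b' c' t hrel) μ hμ0 hμ

theorem good_J2_self (h3 : (3 : F) = 0) : Good (J2 : Matrix (Fin 2) (Fin 2) F) J2 := by
  refine ⟨!![1, 1; 1, -1], !![-1, 1; 1, 1], !![1, 1; 0, 1], !![1, -1; 0, 1], ?_, ?_, ?_, ?_, ?_⟩
  · ext i j
    fin_cases i <;> fin_cases j <;> simp [J2, Matrix.mul_apply, Fin.sum_univ_two] <;>
      first
      | ring1
      | linear_combination h3
      | linear_combination (-1 : F) * h3
      | linear_combination (2 : F) * h3
      | linear_combination (-2 : F) * h3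
  · rw [det_fin_two]
    simp
  · rw [det_fin_two]
    simp
  · ext i j
    fin_cases i <;> fin_cases j <;> simp [J2, Matrix.mul_apply, Fin.sum_univ_two] <;>
      first
      | ring1
      | linear_combination h3
      | linear_combination (-1 : F) * h3
      | linear_combination (2 : F) * h3
      | linear_combination (-2 : F) * h3
  · ext i j
    fin_cases i <;> fin_cases j <;> simp [J2, Matrix.mul_apply, Fin.sum_univ_two] <;>
      first
      | ring1
      | linear_combination h3
      | linear_combination (-1 : F) * h3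
      | linear_combination (2 : F) * h3
      | linear_combination (-2 : F) * h3

theorem good_J2 (h3 : (3 : F) = 0) (hsq : ∀ x : F, x * x ≠ -1) (S : Matrix (Fin 2) (Fin 2) F)
    (hdet : S.det = 1) (hS : S = 1 ∨ S = -1 ∨ S 0 0 + S 1 1 = 0) : Good (J2 : Matrix _ _ F) S := by
  rcases hS with rfl | rfl | htr
  · refine ⟨J2, !![0, 1; -1, 0], 1, !![1, 0; 0, -1], ?_, ?_, ?_, ?_, ?_⟩
    · ext i j
      fin_cases i <;> fin_cases j <;> simp [J2, Matrix.mul_apply, Fin.sum_univ_two]
    · simp
    · rw [det_fin_two]
      simp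
    · simp
    · ext i j
      fin_cases i <;> fin_cases j <;> simp [J2, Matrix.mul_apply, Fin.sum_univ_two]
  · refine ⟨J2, J2, 1, 1, ?_, ?_, ?_, ?_, ?_⟩
    · ext i j
      fin_cases i <;> fin_cases j <;> simp [J2, Matrix.mul_apply, Fin.sum_univ_two]
    · simp
    · simp
    · simp
    · simp
  · rw [det_fin_two] at hdet
    have h11 : S 1 1 = - S 0 0 := by linear_combination htr
    have hq : S 0 0 * S 0 0 + S 0 1 * S 1 0 = -1 := by
      rw [h11] at hdet
      linear_combination (-1 : F) * hdet
    have h10 : S 1 0 ≠ 0 := by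
      intro h
      rw [h, mul_zero, add_zero] at hq
      exact hsq _ hq
    apply good_conj J2 J2 S !![1, S 0 0; 0, S 1 0] ?_ ?_ (good_J2_self h3)
    · rw [det_fin_two]
      simpa using h10
    · ext i j
      fin_cases i <;> fin_cases j <;> simp [J2, Matrix.mul_apply, Fin.sum_univ_two]
      · exact hq
      · rw [h11]
        ring

theorem main_three (hF3 : ∀ x : F, x = 0 ∨ x = 1 ∨ x = -1) (h3 : (3 : F) = 0)
    (G : Matrix (Fin 3) (Fin 3) F)
    (hns : ¬ ∃ c : F, G = c • (1 : Matrix (Fin 3) (Fin 3) F)) (hdet : G.det = 1) :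
    Good (blk (J2 : Matrix _ _ F)) G := by
  have h2 : (2 : F) ≠ 0 := by
    intro h
    have : (1 : F) = 0 := by linear_combination h3 - h
    exact one_ne_zero this
  have hsq : ∀ x : F, x * x ≠ -1 := by
    intro x hx
    rcases hF3 x with rfl | rfl | rfl
    · simp at hx
    · apply h2
      linear_combination hx
    · apply h2
      linear_combination hx
  obtain ⟨a, b, c, a', b', c', hrel, hP⟩ := normal_form G hns hdet
  have hX : (1 - (J2 : Matrix _ _ F)).det ≠ 0 := by
    rw [det_fin_two]
    simp [J2]
    intro h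
    apply h2
    linear_combination h
  have hchoice : ∃ t : F, St a b c a' b' c' t = 1 ∨ St a b c a' b' c' t = -1 ∨
      St a b c a' b' c' t 0 0 + St a b c a' b' c' t 1 1 = 0 := by
    by_cases hc : c = 0
    · have hc'0 : c' ≠ 0 := by
        rintro rfl
        rw [hc] at hrel
        simp at hrel
      have hbac : (b - a) * c' = 1 := by
        rw [hc] at hrel
        linear_combination hrel
      refine ⟨(b' - a') / c', ?_⟩
      rcases hF3 c' with h | h | h
      · exact absurd h hc'0
      · left
        ext i j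
        fin_cases i <;> fin_cases j <;> simp [St, hc, h]
        · rw [h] at hbac
          linear_combination hbac
      · right; left
        ext i j
        fin_cases i <;> fin_cases j <;> simp [St, hc, h]
        · rw [h] at hbac
          linear_combination (-1 : F) * hbac
        · ring
    · refine ⟨(b - a + c') / c, ?_⟩
      right; right
      simp [St]
      field_simp
      ring
  obtain ⟨t, ht⟩ := hchoice
  obtain ⟨P, hP0, hGP⟩ := hP t
  apply good_conj _ _ G P hP0 hGP
  apply good_MM J2 hX
  exact good_J2 h3 hsq _ (det_St a b c a' b' c' t hrel) ht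

end Cfsg.Agent.Lib.H12.CCov
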