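import Mathlib
import Cfsg.Agent.Lib.H12.CCovE

/-!
# From matrices to `PSL₃`
-/

namespace Cfsg.Agent.Lib.H12.CCov

open Matrix

variable {F : Type*} [Field F]

/-- `diag(d,1,1)`. -/
def dg (d : F) : Matrix (Fin 3) (Fin 3) F := !![d, 0, 0; 0, 1, 0; 0, 0, 1]

theorem det_dg (d : F) : (dg d).det = d := by
  rw [det_fin_three]
  simp [dg]

theorem blk_comm_dg (T : Matrix (Fin 2) (Fin 2) F) (d : F) : blk T * dg d = dg d * blk T := by
  ext i j
  fin_cases i <;> fin_cases j <;> simp [blk, dg, Matrix.mul_apply, Fin.sum_univ_three]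

/-- Normalise the conjugating matrix to determinant one. -/
theorem exists_sl_conj (T : Matrix (Fin 2) (Fin 2) F) (A R : Matrix (Fin 3) (Fin 3) F)
    (hR : R.det ≠ 0) (hAR : A * R = R * blk T) :
    ∃ u : Matrix.SpecialLinearGroup (Fin 3) F,
      A = (u : Matrix (Fin 3) (Fin 3) F) * blk T *
        ((u⁻¹ : Matrix.SpecialLinearGroup (Fin 3) F) : Matrix (Fin 3) (Fin 3) F) := by
  have hdet : (R * dg (R.det)⁻¹).det = 1 := by
    rw [Matrix.det_mul, det_dg, mul_inv_cancel₀ hR]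
  obtain ⟨u, hu⟩ : ∃ u : Matrix.SpecialLinearGroup (Fin 3) F,
      (u : Matrix (Fin 3) (Fin 3) F) = R * dg (R.det)⁻¹ := ⟨⟨_, hdet⟩, rfl⟩
  refine ⟨u, ?_⟩
  have huu : (u : Matrix (Fin 3) (Fin 3) F) *
      ((u⁻¹ : Matrix.SpecialLinearGroup (Fin 3) F) : Matrix (Fin 3) (Fin 3) F) = 1 := by
    rw [← Matrix.SpecialLinearGroup.coe_mul, mul_inv_cancel, Matrix.SpecialLinearGroup.coe_one]
  have h1 : A * (u : Matrix (Fin 3) (Fin 3) F) = (u : Matrix (Fin 3) (Fin 3) F) * blk T := by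
    rw [hu, ← Matrix.mul_assoc, hAR, Matrix.mul_assoc, blk_comm_dg, Matrix.mul_assoc]
  rw [← h1, Matrix.mul_assoc, huu, Matrix.mul_one]

/-- The element of `SL₃` built from a `2 × 2` matrix of determinant one. -/
def X3 (T : Matrix (Fin 2) (Fin 2) F) (hT : T.det = 1) : Matrix.SpecialLinearGroup (Fin 3) F :=
  ⟨blk T, by rw [det_blk, hT]⟩

theorem psl_cover (T : Matrix (Fin 2) (Fin 2) F) (hT : T.det = 1)
    (hgood : ∀ G : Matrix (Fin 3) (Fin 3) F,
      (¬ ∃ c : F, G = c • (1 : Matrix (Fin 3) (Fin 3) F)) → G.det = 1 → Good (blk T) G)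
    (g : Matrix.ProjectiveSpecialLinearGroup (Fin 3) F) (hg : g ≠ 1) :
    ∃ u v : Matrix.ProjectiveSpecialLinearGroup (Fin 3) F,
      g = (u * (QuotientGroup.mk (X3 T hT)) * u⁻¹) * (v * (QuotientGroup.mk (X3 T hT)) * v⁻¹) := by
  obtain ⟨G', rfl⟩ := QuotientGroup.mk_surjective g
  have hns : ¬ ∃ c : F, (G' : Matrix (Fin 3) (Fin 3) F) = c • (1 : Matrix (Fin 3) (Fin 3) F) := by
    rintro ⟨c, hc⟩
    apply hg
    rw [QuotientGroup.eq_one_iff, Matrix.SpecialLinearGroup.mem_center_iff]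
    refine ⟨c, ?_, ?_⟩
    · have hd := G'.2
      rw [hc, Matrix.det_smul, Matrix.det_one, mul_one] at hd
      simpa using hd
    · rw [hc]
      ext i j
      simp [Matrix.scalar_apply, Matrix.diagonal_apply, Matrix.one_apply]
  obtain ⟨A, B, R₁, R₂, hAB, hR₁, hR₂, hA, hB⟩ := hgood _ hns G'.2
  obtain ⟨u, hu⟩ := exists_sl_conj T A R₁ hR₁ hA
  obtain ⟨v, hv⟩ := exists_sl_conj T B R₂ hR₂ hB
  refine ⟨QuotientGroup.mk u, QuotientGroup.mk v, ?_⟩
  have hG : G' = (u * X3 T hT * u⁻¹) * (v * X3 T hT * v⁻¹) := by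
    apply Subtype.ext
    show (G' : Matrix (Fin 3) (Fin 3) F) = _
    rw [hAB, hu, hv]
    simp only [Matrix.SpecialLinearGroup.coe_mul]
    rfl
  rw [hG]
  simp only [QuotientGroup.mk_mul, QuotientGroup.mk_inv]

end Cfsg.Agent.Lib.H12.CCov
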