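import Mathlib
import Cfsg.Agent.Lib.H12.CCovF

/-!
# Order computations and the final covering theorem for `PSL₃`
-/

namespace Cfsg.Agent.Lib.H12.CCov

open Matrix

variable {F : Type*} [Field F]

theorem det_D2 (μ : F) (hμ : μ ≠ 0) : (D2 μ).det = 1 := by
  rw [det_fin_two]
  simp [D2, mul_inv_cancel₀ hμ]

theorem det_J2 : (J2 : Matrix (Fin 2) (Fin 2) F).det = 1 := by
  rw [det_fin_two]
  simp [J2]

theorem blk_D2_eq (μ : F) : blk (D2 μ) = Matrix.diagonal ![1, μ, μ⁻¹] := by
  ext i j
  fin_cases i <;> fin_cases j <;> simp [blk, D2]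

theorem X3_D2_pow [Fintype F] (μ : F) (hμ : μ ≠ 0) :
    (X3 (D2 μ) (det_D2 μ hμ)) ^ (Fintype.card F - 1) = 1 := by
  apply Subtype.ext
  rw [Matrix.SpecialLinearGroup.coe_pow]
  show (blk (D2 μ)) ^ (Fintype.card F - 1) = 1
  rw [blk_D2_eq, Matrix.diagonal_pow]
  have h1 : μ ^ (Fintype.card F - 1) = 1 := FiniteField.pow_card_sub_one_eq_one μ hμ
  have h2 : μ⁻¹ ^ (Fintype.card F - 1) = 1 := by rw [inv_pow, h1, inv_one]
  have : (![1, μ, μ⁻¹] : Fin 3 → F) ^ (Fintype.card F - 1) = 1 := by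
    ext i
    fin_cases i <;> simp [h1, h2]
  rw [this]
  exact Matrix.diagonal_one

theorem X3_J2_pow : (X3 (J2 : Matrix (Fin 2) (Fin 2) F) det_J2) ^ 4 = 1 := by
  apply Subtype.ext
  rw [Matrix.SpecialLinearGroup.coe_pow]
  show (blk (J2 : Matrix (Fin 2) (Fin 2) F)) ^ 4 = 1
  have h2 : blk (J2 : Matrix (Fin 2) (Fin 2) F) * blk J2 = !![1, 0, 0; 0, -1, 0; 0, 0, -1] := by
    ext i j
    fin_cases i <;> fin_cases j <;> simp [blk, J2, Matrix.mul_apply, Fin.sum_univ_three]
  have h4 : (!![1, 0, 0; 0, -1, 0; 0, 0, -1] : Matrix (Fin 3) (Fin 3) F) *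
      !![1, 0, 0; 0, -1, 0; 0, 0, -1] = 1 := by
    ext i j
    fin_cases i <;> fin_cases j <;> simp [Matrix.mul_apply, Fin.sum_univ_three]
  rw [show (4 : ℕ) = 2 + 2 from rfl, pow_add, pow_two, h2, h4]

theorem exists_mu [Fintype F] (h4 : 4 ≤ Fintype.card F) : ∃ μ : F, μ ≠ 0 ∧ μ ^ 2 ≠ 1 := by
  classical
  by_contra hcon
  push Not at hcon
  have hsub : (Finset.univ : Finset F) ⊆ {0, 1, -1} := by
    intro x _
    by_cases hx : x = 0
    · simp [hx]
    · have h1 := hcon x hx
      have : (x - 1) * (x + 1) = 0 := by linear_combination h1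
      rcases mul_eq_zero.mp this with h | h
      · have : x = 1 := by linear_combination h
        simp [this]
      · have : x = -1 := by linear_combination h
        simp [this]
  have hc := Finset.card_le_card hsub
  have h3 : ({0, 1, -1} : Finset F).card ≤ 3 := Finset.card_le_three
  rw [Finset.card_univ] at hc
  omega

theorem three_facts [Fintype F] (h3 : Fintype.card F = 3) :
    (3 : F) = 0 ∧ ∀ x : F, x = 0 ∨ x = 1 ∨ x = -1 := by
  classical
  have h30 : (3 : F) = 0 := by
    have := Nat.cast_card_eq_zero F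
    rw [h3] at this
    exact_mod_cast this
  refine ⟨h30, ?_⟩
  have h2 : (2 : F) ≠ 0 := by
    intro h
    have : (1 : F) = 0 := by linear_combination h30 - h
    exact one_ne_zero this
  have h1 : (1 : F) ≠ -1 := by
    intro h
    apply h2
    linear_combination h
  have hcard : ({0, 1, -1} : Finset F).card = 3 := by
    rw [Finset.card_insert_of_notMem, Finset.card_insert_of_notMem, Finset.card_singleton]
    · simpa using h1
    · simp only [Finset.mem_insert, Finset.mem_singleton, not_or]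
      refine ⟨zero_ne_one, ?_⟩
      intro h
      have : (1 : F) = 0 := by linear_combination h
      exact one_ne_zero this
  have huniv : ({0, 1, -1} : Finset F) = Finset.univ := by
    apply Finset.eq_univ_of_card
    rw [hcard, h3]
  intro x
  have hx : x ∈ ({0, 1, -1} : Finset F) := by
    rw [huniv]
    exact Finset.mem_univ x
  simpa using hx

/-- The covering theorem for `PSL₃(F)`, `#F ≥ 3`. -/
theorem psl3_cover [Fintype F] (p : ℕ) [Fact p.Prime] [CharP F p] (h3 : 3 ≤ Fintype.card F) :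
    ∃ x : Matrix.ProjectiveSpecialLinearGroup (Fin 3) F, ¬ p ∣ orderOf x ∧
      ∀ g : Matrix.ProjectiveSpecialLinearGroup (Fin 3) F, g ≠ 1 →
        ∃ u v : Matrix.ProjectiveSpecialLinearGroup (Fin 3) F,
          g = (u * x * u⁻¹) * (v * x * v⁻¹) := by
  have hp : p.Prime := Fact.out
  have hpq : p ∣ Fintype.card F := by
    rw [← CharP.cast_eq_zero_iff F p]
    exact Nat.cast_card_eq_zero F
  by_cases h4 : 4 ≤ Fintype.card F
  · obtain ⟨μ, hμ0, hμ⟩ := exists_mu h4
    refine ⟨QuotientGroup.mk (X3 (D2 μ) (det_D2 μ hμ0)), ?_, ?_⟩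
    · intro hdvd
      have hpow : (QuotientGroup.mk (X3 (D2 μ) (det_D2 μ hμ0)) :
          Matrix.ProjectiveSpecialLinearGroup (Fin 3) F) ^ (Fintype.card F - 1) = 1 := by
        rw [← QuotientGroup.mk_pow, X3_D2_pow μ hμ0]
        rfl
      have h1 := orderOf_dvd_of_pow_eq_one hpow
      have h2 : p ∣ Fintype.card F - 1 := dvd_trans hdvd h1
      have h5 : p ∣ 1 := by
        have h6 := Nat.dvd_sub hpq h2
        have h7 : Fintype.card F - (Fintype.card F - 1) = 1 := by omega
        rwa [h7] at h6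
      exact hp.one_lt.ne' (Nat.dvd_one.mp h5)
    · intro g hg
      exact psl_cover (D2 μ) (det_D2 μ hμ0)
        (fun G hns hdet => main_big G hns hdet μ hμ0 hμ) g hg
  · have hc3 : Fintype.card F = 3 := by omega
    obtain ⟨h30, hF3⟩ := three_facts hc3
    have hp3 : p = 3 := by
      rw [hc3] at hpq
      exact (Nat.prime_dvd_prime_iff_eq hp Nat.prime_three).mp hpq
    refine ⟨QuotientGroup.mk (X3 (J2 : Matrix (Fin 2) (Fin 2) F) det_J2), ?_, ?_⟩
    · intro hdvd
      have hpow : (QuotientGroup.mk (X3 (J2 : Matrix (Fin 2) (Fin 2) F) det_J2) :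
          Matrix.ProjectiveSpecialLinearGroup (Fin 3) F) ^ 4 = 1 := by
        rw [← QuotientGroup.mk_pow, X3_J2_pow]
        rfl
      have h1 := orderOf_dvd_of_pow_eq_one hpow
      have h2 : p ∣ 4 := dvd_trans hdvd h1
      rw [hp3] at h2
      omega
    · intro g hg
      exact psl_cover J2 det_J2 (fun G hns hdet => main_three hF3 h30 G hns hdet) g hg

end Cfsg.Agent.Lib.H12.CCov
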