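import Mathlib
import Cfsg.Agent.Lib.H12.CYDefs
import Cfsg.Agent.Lib.H4.CYFUS
import Cfsg.Agent.Lib.H21.CYEND2
import Cfsg.Agent.Lib.H8.CYEQUI2
import Cfsg.Agent.Lib.H22.CYPAIR
import Cfsg.Agent.Lib.H6.CYSTAR
import Cfsg.Agent.Lib.H28.CYSIGA
import Cfsg.Agent.Lib.H9.CYNCE
import Cfsg.Agent.Lib.H23.BlockOsima
import Cfsg.Agent.Lib.L0.CharExceptional

/-!
# S1950, case `e = p - 1`: the glue inputs of END3 (helper12)

`hE : (fusE p z).card = p - 1` (all of `⟨z⟩#` conjugate).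
* `apply_pow_eq`  : `χ (z ^ b.val) = χ z` for `b ≠ 0`.
* `hint_form`     : `χ 1 = χ z + p n`, `n : ℕ`.
* `apply_real`    : `conj (χ z) = χ z`.
* `cube_form`     : `∑_{B₀} (χ z)³ / χ 1 = |P| (p-2)/(p-1)` (Finset and finsum forms).
* `gram_form`     : `∑_{B₀} (χ z)² = |P|`.
* `frob_form`, `cn_form` : the hypotheses `hfrob`, `hCN` of `H23.AbSyl.main`.
-/

set_option autoImplicit false

namespace Cfsg.Agent.Lib.H12.CY

open Cfsg
open scoped ComplexConjugate

variable {G : Type*} [Group G] [Finite G] {p : ℕ} [Fact p.Prime]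

theorem apply_pow_eq {z : G} (hz : orderOf z = p) (hE : (fusE p z).card = p - 1)
    (χ : IrrCharacter G) {b : ZMod p} (hb : b ≠ 0) : (χ : G → ℂ) (z ^ b.val) = (χ : G → ℂ) z := by
  have h1 : b ∈ fusE p z := Cfsg.Agent.Lib.H21.CY.mem_fusE_of_card z hE hb
  obtain ⟨g, hg⟩ := isConj_iff.1 (mem_fusE.1 h1).2
  conv_rhs => rw [← hg]
  rw [Cfsg.Agent.Lib.H24.irr_conj]

theorem sum_stdAddChar_erase :
    ∑ b ∈ (Finset.univ : Finset (ZMod p)).erase 0, (ZMod.stdAddChar (N := p)) (-b) = -1 := by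
  have hψ1 : (ZMod.stdAddChar (N := p)) ≠ 1 := by
    have h := ZMod.isPrimitive_stdAddChar p (a := 1) one_ne_zero
    rwa [AddChar.mulShift_one] at h
  have h0 : ∑ b : ZMod p, (ZMod.stdAddChar (N := p)) (-b) = 0 := by
    rw [← AddChar.sum_eq_zero_of_ne_one hψ1]
    exact Fintype.sum_equiv (Equiv.neg _) _ _ (fun b => rfl)
  rw [← Finset.add_sum_erase _ _ (Finset.mem_univ (0 : ZMod p)), neg_zero, AddChar.map_zero_eq_one] at h0
  linear_combination h0

theorem hint_form {z : G} (hz : orderOf z = p) (hE : (fusE p z).card = p - 1)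
    (χ : IrrCharacter G) : ∃ n : ℕ, (χ : G → ℂ) 1 = (χ : G → ℂ) z + (p : ℂ) * (n : ℂ) := by
  classical
  obtain ⟨m, hm⟩ := Cfsg.Agent.Lib.H28.CY.charz hz (ZMod.stdAddChar (N := p)) (χ : G → ℂ)
    (Cfsg.Agent.Lib.L0.isCharacter_of_irr χ.2) 1
  refine ⟨m, ?_⟩
  rw [← Finset.add_sum_erase _ _ (Finset.mem_univ (0 : ZMod p))] at hm
  have h1 : ∑ b ∈ (Finset.univ : Finset (ZMod p)).erase 0,
      (χ : G → ℂ) (z ^ b.val) * (ZMod.stdAddChar (N := p)) (-(1 * b)) =
      (χ : G → ℂ) z * ∑ b ∈ (Finset.univ : Finset (ZMod p)).erase 0, (ZMod.stdAddChar (N := p)) (-b) := by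
    rw [Finset.mul_sum]
    refine Finset.sum_congr rfl (fun b hb => ?_)
    rw [apply_pow_eq hz hE χ (Finset.mem_erase.1 hb).1, one_mul]
  rw [h1, sum_stdAddChar_erase, mul_zero, neg_zero, AddChar.map_zero_eq_one, ZMod.val_zero, pow_zero] at hm
  linear_combination hm

/-- the values `χ z` are real. -/
theorem apply_real {z : G} (hz : orderOf z = p) (hE : (fusE p z).card = p - 1)
    (χ : IrrCharacter G) : conj ((χ : G → ℂ) z) = (χ : G → ℂ) z := by
  haveI : Fintype G := Fintype.ofFinite G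
  obtain ⟨n, hn⟩ := hint_form hz hE χ
  obtain ⟨d, -, hd⟩ := Cfsg.Agent.Lib.L0.irr_apply_one_pos χ.2
  have h1 : (χ : G → ℂ) z = (d : ℂ) - (p : ℂ) * (n : ℂ) := by
    rw [← hd, hn]; ring
  rw [h1]
  simp


/-- `hfrob` of `H23.AbSyl.main`. -/
theorem frob_form (P : Sylow p G) (hP : IsCyclic ↥(P : Subgroup G)) :
    ∀ y : G, y ∈ (P : Subgroup G) → y ≠ 1 →
      Subgroup.centralizer ({y} : Set G) ⊓ Subgroup.normalizer ((P : Subgroup G) : Set G) =
        Subgroup.centralizer ((P : Subgroup G) : Set G) := by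
  intro y hy hy1
  apply le_antisymm
  · rintro g ⟨hg1, hg2⟩
    refine Cfsg.Agent.Lib.H28.CY.mem_centralizer_of_normalizer P hP hy hy1 hg2 ?_
    exact (Subgroup.mem_centralizer_singleton_iff.1 hg1)
  · intro g hg
    have h1 : g ∈ Subgroup.centralizer ({y} : Set G) := by
      rw [Subgroup.mem_centralizer_singleton_iff]
      exact (hg y hy).symm
    exact ⟨h1, Subgroup.centralizer_le_normalizer _ hg⟩

/-- `hCN` of `H23.AbSyl.main` with `m = p - 1`. -/
theorem cn_form (P : Sylow p G) (hP : IsCyclic ↥(P : Subgroup G))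
    {z : G} (hzP : z ∈ (P : Subgroup G)) (hz : orderOf z = p) (hE : (fusE p z).card = p - 1) :
    (Subgroup.centralizer ((P : Subgroup G) : Set G)).relIndex
      (Subgroup.normalizer ((P : Subgroup G) : Set G)) = p - 1 := by
  rw [Cfsg.Agent.Lib.H9.CY.relIndex_eq_card_fusE P hP hzP hz, hE]

/-- `hcomm`. -/
theorem comm_form (P : Sylow p G) (hP : IsCyclic ↥(P : Subgroup G)) :
    ∀ x ∈ (P : Subgroup G), ∀ y ∈ (P : Subgroup G), x * y = y * x := by
  intro a ha b hb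
  have hcm : IsMulCommutative ↥(P : Subgroup G) := IsCyclic.isMulCommutative
  have := hcm.is_comm.comm (⟨a, ha⟩ : ↥(P : Subgroup G)) ⟨b, hb⟩
  exact congrArg Subtype.val this


/-- the structure constant at `a = b = c = 1` when `E = F_p^×`. -/
theorem card_filter_one {z : G} (hE : (fusE p z).card = p - 1)
    [DecidablePred (fun j : ZMod p => ∃ t ∈ fusE p z, j * 1 + 1 = 1 * t)] :
    ((fusE p z).filter (fun j : ZMod p => ∃ t ∈ fusE p z, j * 1 + 1 = 1 * t)).card = p - 2 := by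
  classical
  have hp : p.Prime := Fact.out
  have h1 : (fusE p z).filter (fun j : ZMod p => ∃ t ∈ fusE p z, j * 1 + 1 = 1 * t) =
      ((Finset.univ : Finset (ZMod p)).erase 0).erase (-1) := by
    ext j
    simp only [Finset.mem_filter, Finset.mem_erase, Finset.mem_univ, and_true, mul_one, one_mul]
    constructor
    · rintro ⟨hj, t, ht, hjt⟩
      refine ⟨?_, (mem_fusE.1 hj).1⟩
      intro h
      rw [h, neg_add_cancel] at hjt
      exact (mem_fusE.1 ht).1 hjt.symm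
    · rintro ⟨hj1, hj0⟩
      refine ⟨Cfsg.Agent.Lib.H21.CY.mem_fusE_of_card z hE hj0, j + 1, ?_, rfl⟩
      apply Cfsg.Agent.Lib.H21.CY.mem_fusE_of_card z hE
      intro h
      apply hj1
      linear_combination h
  have h2 : (-1 : ZMod p) ∈ (Finset.univ : Finset (ZMod p)).erase 0 := by
    rw [Finset.mem_erase]
    exact ⟨neg_ne_zero.2 one_ne_zero, Finset.mem_univ _⟩
  rw [h1, Finset.card_erase_of_mem h2, Finset.card_erase_of_mem (Finset.mem_univ _), Finset.card_univ,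
    ZMod.card]
  omega

/-- The cube identity, Finset form over `(Set.toFinite (principalBlock M G)).toFinset`. -/
theorem cube_form [IsSimpleGroup G] (P : Sylow p G) (hP : IsCyclic ↥(P : Subgroup G))
    (hc : ∀ x y : G, orderOf x = p → orderOf y = p → Cfsg.IsPSolvable p ↥(Subgroup.closure ({x, y} : Set G)))
    (M : Ideal Cfsg.AlgInt) (hM : Cfsg.IsPModular p M)
    {z : G} (hzP : z ∈ (P : Subgroup G)) (hz : orderOf z = p) (hE : (fusE p z).card = p - 1) :
    ∑ χ ∈ (Set.toFinite (principalBlock M G)).toFinset, ((χ : G → ℂ) z) ^ 3 / (χ : G → ℂ) 1 =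
      ((Nat.card ↥(P : Subgroup G) : ℂ) / ((p - 1 : ℕ) : ℂ)) * ((p - 2 : ℕ) : ℂ) := by
  classical
  haveI : Fintype G := Fintype.ofFinite G
  have hzp : z ^ p = 1 := by
    rw [← hz]
    exact pow_orderOf_eq_one z
  have hnpc : ∀ c : ZMod p, c ≠ 0 →
      HasNormalPComplement p ↥(Subgroup.centralizer ({z ^ c.val} : Set G)) := fun c hc0 =>
    Cfsg.Agent.Lib.H28.CY.burn P hP (Cfsg.Agent.Lib.H4.CY.orderOf_pow_val hz hc0)
  have hK : ∀ y : G, orderOf y = p → ∃ K : Subgroup G, Cfsg.Agent.Lib.H8.CYE.KForm p z y K := by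
    intro y hy
    obtain ⟨K, h1, h2, h3, h4, -⟩ := Cfsg.Agent.Lib.H22.CY.exists_K P hP hz hy (hc z y hz hy)
    exact ⟨K, h1, h2, h3, h4⟩
  have h4 := Cfsg.Agent.Lib.H6.CY.star_identity hM P (comm_form P hP) z hzP hzp hnpc (fusE p z)
      ⟨1, Cfsg.Agent.Lib.H4.CY.fusE_one_mem hz⟩ 1 1 1 one_ne_zero
      (Cfsg.Agent.Lib.H8.CYE.equi_count z hz hK 1 1 1 one_ne_zero one_ne_zero)
  rw [card_filter_one hE, hE] at h4
  rw [← h4]
  refine Finset.sum_congr rfl (fun χ _ => ?_)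
  have h5 : z ^ (1 : ZMod p).val = z := by
    rw [ZMod.val_one, pow_one]
  rw [h5, apply_real hz hE χ]
  ring

/-- The Gram identity `∑_{B₀} (χ z)² = |P|`, Finset form. -/
theorem gram_form (P : Sylow p G) (hP : IsCyclic ↥(P : Subgroup G))
    (M : Ideal Cfsg.AlgInt) (hM : Cfsg.IsPModular p M)
    {z : G} (hzP : z ∈ (P : Subgroup G)) (hz : orderOf z = p) (hE : (fusE p z).card = p - 1) :
    ∑ χ ∈ (Set.toFinite (principalBlock M G)).toFinset, ((χ : G → ℂ) z) ^ 2 =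
      (Nat.card ↥(P : Subgroup G) : ℂ) := by
  classical
  have hzp : z ^ p = 1 := by
    rw [← hz]
    exact pow_orderOf_eq_one z
  have hnpc : ∀ c : ZMod p, c ≠ 0 →
      HasNormalPComplement p ↥(Subgroup.centralizer ({z ^ c.val} : Set G)) := fun c hc0 =>
    Cfsg.Agent.Lib.H28.CY.burn P hP (Cfsg.Agent.Lib.H4.CY.orderOf_pow_val hz hc0)
  have h4 := Cfsg.Agent.Lib.H6.CY.gram_O hM P (comm_form P hP) z hzP hzp hnpc (fusE p z)
    (fun j => mem_fusE) 1 1 one_ne_zero one_ne_zero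
  rw [if_pos ⟨1, Cfsg.Agent.Lib.H4.CY.fusE_one_mem hz, (mul_one _).symm⟩] at h4
  rw [← h4]
  refine Finset.sum_congr rfl (fun χ _ => ?_)
  have h5 : z ^ (1 : ZMod p).val = z := by
    rw [ZMod.val_one, pow_one]
  rw [h5, apply_real hz hE χ]
  ring

end Cfsg.Agent.Lib.H12.CY
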