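import Mathlib
import Cfsg.Agent.Lib.H12.CYDefs
import Cfsg.Agent.Lib.H4.CYFUS
import Cfsg.Agent.Lib.H21.CYEND2
import Cfsg.Agent.Lib.H18.CYEND1
import Cfsg.Agent.Lib.H8.CYEQUI2
import Cfsg.Agent.Lib.H22.CYPAIR
import Cfsg.Agent.Lib.H6.CYSTAR
import Cfsg.Agent.Lib.H28.CYSIGA
import Cfsg.Agent.Lib.H28.CYKER
import Cfsg.Agent.Lib.H28.CYMULT
import Cfsg.Agent.Lib.H23.BlockOsima
import Cfsg.Agent.Lib.H23.BlockPrincipal
import Cfsg.Agent.Lib.L0.PRegCongP
import Cfsg.Agent.Lib.L0.CharExceptional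
import Cfsg.Agent.Lib.H1.PSolvOfSolv
import Cfsg.Agent.Lib.H4.PSolvSub

/-!
# S1950: the simple case (helper12)
-/

set_option autoImplicit false

namespace Cfsg.Agent.Lib.H12.CY

open Cfsg
open scoped ComplexConjugate

variable {G : Type*} [Group G] [Finite G] {p : ℕ} [Fact p.Prime]

/-- A finite group of order prime to `p` is `p`-solvable. -/
theorem isPSolvable_of_coprime_card (h : (Nat.card G).Coprime p) : Cfsg.IsPSolvable p G := by
  refine ⟨1, ![⊥, ⊤], rfl, rfl, ?_, ?_, ?_⟩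
  · rw [Fin.monotone_iff_le_succ]
    intro i
    fin_cases i
    exact bot_le
  · intro i
    fin_cases i
    · show (⊥ : Subgroup G).Normal
      infer_instance
    · show (⊤ : Subgroup G).Normal
      infer_instance
  · intro i
    fin_cases i
    right
    show ((⊥ : Subgroup G).relIndex ⊤).Coprime p
    rw [Subgroup.relIndex_top_right, Subgroup.index_bot]
    exact h

/-- A finite `p`-group is `p`-solvable. -/
theorem isPSolvable_of_isPGroup (h : IsPGroup p G) : Cfsg.IsPSolvable p G := by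
  refine ⟨1, ![⊥, ⊤], rfl, rfl, ?_, ?_, ?_⟩
  · rw [Fin.monotone_iff_le_succ]
    intro i
    fin_cases i
    exact bot_le
  · intro i
    fin_cases i
    · show (⊥ : Subgroup G).Normal
      infer_instance
    · show (⊤ : Subgroup G).Normal
      infer_instance
  · intro i
    fin_cases i
    left
    show ∃ m : ℕ, (⊥ : Subgroup G).relIndex ⊤ = p ^ m
    rw [Subgroup.relIndex_top_right, Subgroup.index_bot]
    exact IsPGroup.iff_card.1 h

/-- END1G.  Case `e < p - 1`: the pure `end1'` (helper18) fed with `gram_O`, `star_identity` (helper6),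
`equi_count` (helper8), `exists_K` (helper22), `burn`, `charz`, `KER` (helper28), FUS (helper4). -/
theorem end1g [IsSimpleGroup G] (P : Sylow p G) (hP : IsCyclic ↥(P : Subgroup G))
    (hc : ∀ x y : G, orderOf x = p → orderOf y = p → Cfsg.IsPSolvable p ↥(Subgroup.closure ({x, y} : Set G)))
    {z : G} (hzP : z ∈ (P : Subgroup G)) (hz : orderOf z = p) (he2 : 2 ≤ (fusE p z).card)
    (hE : (fusE p z).card < p - 1) : False := by
  classical
  have hp : p.Prime := Fact.out
  haveI : Fintype G := Fintype.ofFinite G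
  obtain ⟨M, hM⟩ := Cfsg.Agent.Lib.L0.PRegP.exists_isPModular hp
  haveI hPr : M.IsPrime := Cfsg.Agent.Lib.H23.isPrime_of_isPModular hM
  have hz1 : z ≠ 1 := by
    intro h
    rw [h, orderOf_one] at hz
    exact hp.one_lt.ne hz
  have hzp : z ^ p = 1 := by
    rw [← hz]
    exact pow_orderOf_eq_one z
  have hPc : ∀ x ∈ (P : Subgroup G), ∀ y ∈ (P : Subgroup G), x * y = y * x := by
    intro a ha b hb
    have hcm : IsMulCommutative ↥(P : Subgroup G) := IsCyclic.isMulCommutative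
    have := hcm.is_comm.comm (⟨a, ha⟩ : ↥(P : Subgroup G)) ⟨b, hb⟩
    exact congrArg Subtype.val this
  have hnpc : ∀ c : ZMod p, c ≠ 0 →
      HasNormalPComplement p ↥(Subgroup.centralizer ({z ^ c.val} : Set G)) := fun c hc0 =>
    Cfsg.Agent.Lib.H28.CY.burn P hP (Cfsg.Agent.Lib.H4.CY.orderOf_pow_val hz hc0)
  have hK : ∀ y : G, orderOf y = p → ∃ K : Subgroup G, Cfsg.Agent.Lib.H8.CYE.KForm p z y K := by
    intro y hy
    obtain ⟨K, h1, h2, h3, h4, -⟩ := Cfsg.Agent.Lib.H22.CY.exists_K P hP hz hy (hc z y hz hy)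
    exact ⟨K, h1, h2, h3, h4⟩
  refine Cfsg.Agent.Lib.H18.CY.end1' (Set.toFinite (principalBlock M G)).toFinset
    (ZMod.stdAddChar (N := p)) (ZMod.isPrimitive_stdAddChar p) (fusE p z)
    (Cfsg.Agent.Lib.H4.CY.fusE_zero_not_mem z) (Cfsg.Agent.Lib.H4.CY.fusE_one_mem hz)
    (fun x hx y hy => Cfsg.Agent.Lib.H4.CY.fusE_mul_mem hz hx hy)
    (fun x hx => Cfsg.Agent.Lib.H4.CY.fusE_inv_mem hz hx) he2 hE
    (fun χ a => (χ : G → ℂ) (z ^ a.val)) (Nat.card ↥(P : Subgroup G))
    (Cfsg.Agent.Lib.H24.trivialIrr G) ?_ ?_ ?_ ?_ ?_ ?_ ?_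
  · exact (Set.Finite.mem_toFinset _).2 Cfsg.Agent.Lib.H23.trivialIrr_mem_principalBlock
  · intro a
    rfl
  · intro χ _
    obtain ⟨n, hn, hn1⟩ := Cfsg.Agent.Lib.L0.irr_apply_one_pos χ.2
    refine ⟨n, hn, ?_⟩
    show (χ : G → ℂ) (z ^ (0 : ZMod p).val) = n
    rw [ZMod.val_zero, pow_zero, hn1]
  · intro χ _ k
    exact Cfsg.Agent.Lib.H28.CY.charz hz _ (χ : G → ℂ) (Cfsg.Agent.Lib.L0.isCharacter_of_irr χ.2) k
  · intro χ _ hne heq
    apply hne
    have h1 : (χ : G → ℂ) z = (χ : G → ℂ) 1 := by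
      have h2 : (χ : G → ℂ) (z ^ (1 : ZMod p).val) = (χ : G → ℂ) (z ^ (0 : ZMod p).val) := heq
      rwa [ZMod.val_one, ZMod.val_zero, pow_one, pow_zero] at h2
    have h3 := Cfsg.Agent.Lib.H28.CY.eq_one_of_apply_eq χ hz1 h1
    exact Subtype.ext h3
  · intro a c ha hc' inst
    exact Cfsg.Agent.Lib.H6.CY.gram_O hM P hPc z hzP hzp hnpc (fusE p z) (fun j => mem_fusE) a c ha hc'
  · intro a b c ha hb hc' inst
    have h4 := Cfsg.Agent.Lib.H6.CY.star_identity hM P hPc z hzP hzp hnpc (fusE p z)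
      ⟨1, Cfsg.Agent.Lib.H4.CY.fusE_one_mem hz⟩ a b c hc'
      (Cfsg.Agent.Lib.H8.CYE.equi_count z hz hK a b c hb hc')
    show ∑ χ ∈ (Set.toFinite (principalBlock M G)).toFinset,
        (χ : G → ℂ) (z ^ a.val) * (χ : G → ℂ) (z ^ b.val) * conj ((χ : G → ℂ) (z ^ c.val)) /
          (χ : G → ℂ) (z ^ (0 : ZMod p).val) = _
    rw [ZMod.val_zero, pow_zero]
    exact h4

/-- SIMPLE.  The simple case, with the case `e = p - 1`, `|P| ≥ p²` (END3) as a hypothesis. -/
theorem simple_case_of [IsSimpleGroup G] (P : Sylow p G) (hP : IsCyclic ↥(P : Subgroup G))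
    (hc : ∀ x y : G, orderOf x = p → orderOf y = p → Cfsg.IsPSolvable p ↥(Subgroup.closure ({x, y} : Set G)))
    (hend3 : ∀ z : G, z ∈ (P : Subgroup G) → orderOf z = p → 2 ≤ (fusE p z).card →
      (fusE p z).card = p - 1 → p ^ 2 ≤ Nat.card ↥(P : Subgroup G) → False) :
    Cfsg.IsPSolvable p G := by
  classical
  by_contra hns
  have hp : p.Prime := Fact.out
  -- `P ≠ ⊥`
  have hP1 : (P : Subgroup G) ≠ ⊥ := by
    intro h
    apply hns
    apply isPSolvable_of_coprime_card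
    have h1 : ¬ p ∣ (P : Subgroup G).index := P.not_dvd_index
    rw [h, Subgroup.index_bot] at h1
    exact ((Nat.Prime.coprime_iff_not_dvd hp).2 h1).symm
  -- an element of order `p`
  obtain ⟨n, hn⟩ := IsPGroup.iff_card.1 P.isPGroup'
  have hn0 : n ≠ 0 := by
    intro h0
    rw [h0, pow_zero] at hn
    exact hP1 ((Subgroup.card_eq_one).1 hn)
  have hpd : p ∣ Nat.card ↥(P : Subgroup G) := by
    rw [hn]
    exact dvd_pow_self p hn0
  obtain ⟨x, hx⟩ := exists_prime_orderOf_dvd_card' p hpd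
  set z : G := (x : G) with hzdef
  have hzP : z ∈ (P : Subgroup G) := x.2
  have hz : orderOf z = p := by
    rw [hzdef, Subgroup.orderOf_coe]
    exact hx
  have hz1 : z ≠ 1 := by
    intro h
    rw [h, orderOf_one] at hz
    exact hp.one_lt.ne hz
  -- no normal `p`-complement
  have hnc : ¬ Cfsg.HasNormalPComplement p G := by
    rintro ⟨Q, N, hN, hNQ⟩
    rcases hN.eq_bot_or_eq_top with h | h
    · rw [h, Subgroup.isComplement'_bot_left] at hNQ
      apply hns
      apply isPSolvable_of_isPGroup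
      intro g
      have hg : g ∈ (Q : Subgroup G) := by
        rw [hNQ]
        trivial
      obtain ⟨k, hk⟩ := Q.isPGroup' ⟨g, hg⟩
      exact ⟨k, by simpa using congrArg Subtype.val hk⟩
    · rw [h, Subgroup.isComplement'_top_left] at hNQ
      have h1 : Nat.card ↥(Q : Subgroup G) = Nat.card ↥(P : Subgroup G) := by
        rw [Q.card_eq_multiplicity, P.card_eq_multiplicity]
      rw [hNQ, Subgroup.card_bot] at h1
      exact hP1 ((Subgroup.card_eq_one).1 h1.symm)
  -- `e ≥ 2`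
  have he2 : 2 ≤ (fusE p z).card := by
    obtain ⟨g, -, j, hgj, hne⟩ := Cfsg.Agent.Lib.H28.CY.exists_conj_eq_pow_ne P hP hnc z hzP hz
    have hpow : z ^ ((j : ZMod p)).val = z ^ j := Cfsg.Agent.Lib.H4.CY.pow_natCast_val hz j
    have hj0 : ((j : ℕ) : ZMod p) ≠ 0 := by
      intro h0
      rw [h0, ZMod.val_zero, pow_zero] at hpow
      rw [← hpow] at hgj
      apply hz1
      have : z = g⁻¹ * 1 * g := by rw [← hgj]; group
      rw [this]; group
    have hj1 : ((j : ℕ) : ZMod p) ≠ 1 := by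
      intro h1
      rw [h1, ZMod.val_one, pow_one] at hpow
      exact hne hpow.symm
    have hmem : ((j : ℕ) : ZMod p) ∈ fusE p z := by
      rw [mem_fusE]
      refine ⟨hj0, ?_⟩
      rw [hpow, ← hgj]
      exact isConj_iff.2 ⟨g⁻¹, by group⟩
    have h1mem : (1 : ZMod p) ∈ fusE p z := Cfsg.Agent.Lib.H4.CY.fusE_one_mem hz
    exact Finset.one_lt_card.2 ⟨_, hmem, _, h1mem, hj1⟩
  -- `e ≤ p - 1`
  have hle : (fusE p z).card ≤ p - 1 := by
    have hsub : fusE p z ⊆ (Finset.univ : Finset (ZMod p)).erase 0 := by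
      intro t ht
      rw [Finset.mem_erase]
      exact ⟨(mem_fusE.1 ht).1, Finset.mem_univ _⟩
    have := Finset.card_le_card hsub
    rwa [Finset.card_erase_of_mem (Finset.mem_univ _), Finset.card_univ, ZMod.card] at this
  rcases lt_or_eq_of_le hle with hlt | heq
  · exact end1g P hP hc hzP hz he2 hlt
  · by_cases hn1 : n = 1
    · rw [hn1, pow_one] at hn
      exact Cfsg.Agent.Lib.H21.CY.end2 P hP hc hzP hz he2 heq hn
    · have hn2 : 2 ≤ n := by omega
      have hq : p ^ 2 ≤ Nat.card ↥(P : Subgroup G) := by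
        rw [hn]
        exact Nat.pow_le_pow_right hp.pos hn2
      exact hend3 z hzP hz he2 heq hq


end Cfsg.Agent.Lib.H12.CY
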