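import Mathlib
import Cfsg.Agent.Lib.H29.ChevGen25

/-!
# Chevalley groups: subgroups containing `N` and some root subgroups (helper12)

A subgroup containing the monomial subgroup `N` and the root subgroup `X_s` contains `X_{w s}` for
all `w` in the Weyl group.  The orbits of roots are computed by a kernel-checkable closure on
bit masks.
-/

set_option autoImplicit false
set_option linter.unusedSectionVars false

namespace Cfsg.Agent.Lib.H12.ChevNX

open Cfsg.Lie Cfsg.Agent.Lib.H29.Chev

/-- one sweep of the orbit closure on bit masks -/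
def roundM (fd : FD) (fx : FX) (m : ℕ) : ℕ :=
  (List.range fd.n).foldl (fun m s =>
    (List.range fd.l).foldl (fun m j =>
      bif m.testBit s then m ||| (1 <<< fd.nw fx (fd.simples.getD j 0) s) else m) m) m

/-- iterated sweeps -/
def iterM (fd : FD) (fx : FX) : ℕ → ℕ → ℕ
  | 0, m => m
  | k + 1, m => iterM fd fx k (roundM fd fx m)

/-- the bit mask of a list of roots -/
def seedM (seeds : List ℕ) : ℕ := seeds.foldl (fun m s => m ||| (1 <<< s)) 0

/-- the closure of the seeds contains all roots -/
def chkAll (fd : FD) (fx : FX) (seeds : List ℕ) (fuel : ℕ) : Bool :=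
  (List.range fd.n).all fun s => (iterM fd fx fuel (seedM seeds)).testBit s

/-- the closure of the seeds contains the root `a` -/
def chkMem (fd : FD) (fx : FX) (seeds : List ℕ) (fuel : ℕ) (a : ℕ) : Bool :=
  (iterM fd fx fuel (seedM seeds)).testBit a

section sound

variable {fd : FD} {fx : FX} (Good : ℕ → Prop)

/-- all roots in the mask are good -/
def Inv (m : ℕ) : Prop := ∀ s, m.testBit s = true → Good s

theorem testBit_or_shift (m t s : ℕ) :
    (m ||| (1 <<< t)).testBit s = (m.testBit s || decide (t = s)) := by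
  rw [Nat.testBit_or, Nat.one_shiftLeft, Nat.testBit_two_pow]

theorem Inv.or_shift {m t : ℕ} (hm : Inv Good m) (ht : Good t) : Inv Good (m ||| (1 <<< t)) := by
  intro s hs
  rw [testBit_or_shift, Bool.or_eq_true, decide_eq_true_eq] at hs
  rcases hs with hs | rfl
  · exact hm s hs
  · exact ht

theorem inv_zero : Inv Good 0 := by
  intro s hs
  simp at hs

theorem inv_seedM (seeds : List ℕ) (h : ∀ s ∈ seeds, Good s) : Inv Good (seedM seeds) := by
  unfold seedM
  have key : ∀ (L : List ℕ) (m : ℕ), Inv Good m → (∀ s ∈ L, Good s) →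
      Inv Good (L.foldl (fun m s => m ||| (1 <<< s)) m) := by
    intro L
    induction L with
    | nil => intro m hm _; exact hm
    | cons a L ih =>
      intro m hm hL
      rw [List.foldl_cons]
      exact ih _ (hm.or_shift Good (hL a (by simp))) (fun s hs => hL s (by simp [hs]))
  exact key seeds 0 (inv_zero Good) h

variable (hstep : ∀ s j, Good s → j < fd.l → Good (fd.nw fx (fd.simples.getD j 0) s))
include hstep

theorem inv_inner (s : ℕ) : ∀ (L : List ℕ), (∀ j ∈ L, j < fd.l) → ∀ m, Inv Good m →
    Inv Good (L.foldl (fun m j =>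
      bif m.testBit s then m ||| (1 <<< fd.nw fx (fd.simples.getD j 0) s) else m) m) := by
  intro L
  induction L with
  | nil => intro _ m hm; exact hm
  | cons j L ih =>
    intro hL m hm
    rw [List.foldl_cons]
    apply ih (fun k hk => hL k (by simp [hk]))
    cases hb : m.testBit s with
    | false => simpa using hm
    | true =>
      simp only [cond_true]
      exact hm.or_shift Good (hstep s j (hm s hb) (hL j (by simp)))

theorem inv_roundM (m : ℕ) (hm : Inv Good m) : Inv Good (roundM fd fx m) := by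
  unfold roundM
  have key : ∀ (L : List ℕ) (m : ℕ), Inv Good m → Inv Good (L.foldl (fun m s =>
      (List.range fd.l).foldl (fun m j =>
        bif m.testBit s then m ||| (1 <<< fd.nw fx (fd.simples.getD j 0) s) else m) m) m) := by
    intro L
    induction L with
    | nil => intro m hm; exact hm
    | cons s L ih =>
      intro m hm
      rw [List.foldl_cons]
      apply ih
      exact inv_inner Good hstep s _ (fun j hj => List.mem_range.mp hj) m hm
  exact key _ m hm

theorem inv_iterM (k : ℕ) : ∀ m, Inv Good m → Inv Good (iterM fd fx k m) := by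
  induction k with
  | zero => intro m hm; exact hm
  | succ k ih =>
    intro m hm
    exact ih _ (inv_roundM Good hstep m hm)

theorem good_of_chkAll (seeds : List ℕ) (fuel : ℕ) (hseeds : ∀ s ∈ seeds, Good s)
    (h : chkAll fd fx seeds fuel = true) : ∀ s < fd.n, Good s := by
  intro s hs
  unfold chkAll at h
  rw [List.all_eq_true] at h
  exact inv_iterM Good hstep fuel _ (inv_seedM Good seeds hseeds) s (h s (List.mem_range.mpr hs))

theorem good_of_chkMem (seeds : List ℕ) (fuel : ℕ) (hseeds : ∀ s ∈ seeds, Good s) (a : ℕ)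
    (h : chkMem fd fx seeds fuel a = true) : Good a :=
  inv_iterM Good hstep fuel _ (inv_seedM Good seeds hseeds) a h

end sound

section group

variable {D : ChevalleyDatum} {fd : FD} {fx : FX} {fc : FC} {F : Type*} [Field F]
variable (C : Cert6 D fd fx fc)
include C

/-- the root subgroup `X_s` lies in `M` -/
def GoodIn (M : Subgroup (GL D.Idx F)) (s : ℕ) : Prop := s < fd.n ∧ ∀ t : F, C.c2.xA s t ∈ M

theorem goodIn_step (M : Subgroup (GL D.Idx F)) (hN : D.monomialSubgroup F ≤ M) (s j : ℕ)
    (hs : GoodIn C M s) (hj : j < fd.l) : GoodIn C M (fd.nw fx (fd.simples.getD j 0) s) := by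
  obtain ⟨hs1, hs2⟩ := hs
  have hp := C.c2.simple_lt j hj
  refine ⟨(fd.nw_spec C.c2.chk.nn _ s hp hs1).1, fun t => ?_⟩
  have key := C.c2.nG_conj_x (F := F) _ s hp hs1 (fd.conj_spec C.c5.c3.conj j s hj hs1)
    (((fd.neta fx (fd.simples.getD j 0) s : ℤ) : F) * t)
  rw [← mul_assoc, ← Int.cast_mul, fd.neta_sq, Int.cast_one, one_mul] at key
  rw [← key]
  have hn : C.c2.nG (F := F) (fd.simples.getD j 0) hp ∈ M := hN (C.c2.nG_mem_monomial _ hp)
  exact M.mul_mem (M.mul_mem hn (hs2 _)) (M.inv_mem hn)

theorem group_le_of_good (M : Subgroup (GL D.Idx F)) (h : ∀ s < fd.n, GoodIn C M s) :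
    D.group F ≤ M := by
  unfold ChevalleyDatum.group
  rw [Subgroup.closure_le]
  rintro g ⟨r, t, hg⟩
  have hr : r.val < fd.n := by rw [← C.c2.nroots_eq]; exact r.isLt
  have hgx : g = C.c2.xA r.val t := by
    apply gl_ext
    rw [hg, C.c2.xA_val]
    unfold ChevalleyDatum.x
    rw [dif_pos r.isLt]
  rw [SetLike.mem_coe, hgx]
  exact (h r.val hr).2 t

/-- if the closure of the seeds is everything, the group lies in `M` -/
theorem group_le_of_chkAll (M : Subgroup (GL D.Idx F)) (hN : D.monomialSubgroup F ≤ M)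
    (seeds : List ℕ) (fuel : ℕ) (hseeds : ∀ s ∈ seeds, GoodIn C M s)
    (h : chkAll fd fx seeds fuel = true) : D.group F ≤ M :=
  group_le_of_good C M
    (good_of_chkAll (GoodIn C M) (goodIn_step C M hN) seeds fuel hseeds h)

theorem goodIn_of_chkMem (M : Subgroup (GL D.Idx F)) (hN : D.monomialSubgroup F ≤ M)
    (seeds : List ℕ) (fuel : ℕ) (hseeds : ∀ s ∈ seeds, GoodIn C M s) (a : ℕ)
    (h : chkMem fd fx seeds fuel a = true) : GoodIn C M a :=
  good_of_chkMem (GoodIn C M) (goodIn_step C M hN) seeds fuel hseeds a h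

/-- the root subgroup of `r` is good in any subgroup containing it -/
theorem goodIn_of_rootSubgroup (M : Subgroup (GL D.Idx F)) (r : ℕ) (hr : r < fd.n)
    (h : D.rootSubgroup F r ≤ M) : GoodIn C M r :=
  ⟨hr, fun t => h (Subgroup.subset_closure ⟨t, C.c2.xA_val r t⟩)⟩

/-- a commutator with a single term whose coefficient is invertible in `F` -/
theorem goodIn_of_comm (M : Subgroup (GL D.Idx F)) (a b c : ℕ) (k : ℤ) (ha : GoodIn C M a)
    (hb : GoodIn C M b) (hab : b ≠ a) (hneg : b ≠ fd.n - 1 - a)
    (hT : fd.commT a b = [(c, k, 1, 1)]) (hk : ((k : ℤ) : F) ≠ 0) : GoodIn C M c := by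
  obtain ⟨hc, hcf⟩ := C.c5.c3.cf_all (F := F) C.c5.cf _ a b ha.1 hb.1 hab hneg rfl
  rw [hT] at hc
  refine ⟨hc (c, k, 1, 1) (by simp), fun v => ?_⟩
  have h1 := hcf (-1) (v / (k : F))
  rw [hT] at h1
  unfold Cert2.ctG at h1
  simp only [List.map_cons, List.map_nil, List.prod_cons, List.prod_nil, mul_one, neg_neg,
    pow_one, one_pow] at h1
  have e : ((k : ℤ) : F) * (v / (k : F)) = v := by field_simp
  rw [e] at h1
  have h2 : C.c2.xA c v = (C.c2.xA a (-1) * C.c2.xA b (v / (k : F)))⁻¹ *
      (C.c2.xA b (v / (k : F)) * C.c2.xA a (-1)) := by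
    rw [h1]; group
  rw [h2]
  exact M.mul_mem (M.inv_mem (M.mul_mem (ha.2 _) (hb.2 _))) (M.mul_mem (hb.2 _) (ha.2 _))

end group

end Cfsg.Agent.Lib.H12.ChevNX
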