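import Mathlib
import Cfsg.Prelude.Def_ChevAutomorphisms
import Cfsg.Agent.Lib.H29.ChevCert6
import Cfsg.Agent.Lib.H12.ChevNXA

/-!
# Chevalley groups: orbit certificates for the seven data (helper12)
-/

set_option autoImplicit false

namespace Cfsg.Agent.Lib.H12.ChevNX

open Cfsg.Lie Cfsg.Agent.Lib.H29.Chev

set_option maxRecDepth 100000 in
set_option maxHeartbeats 0 in
theorem orbD4 : ∀ i < 4, chkAll fdD4 fxD4 [fdD4.simples.getD i 0] 32 = true := by decide +kernel

set_option maxRecDepth 100000 in
set_option maxHeartbeats 0 in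
theorem orbE6 : ∀ i < 6, chkAll fdE6 fxE6 [fdE6.simples.getD i 0] 32 = true := by decide +kernel

set_option maxRecDepth 100000 in
set_option maxHeartbeats 0 in
theorem orbE7 : ∀ i < 7, chkAll fdE7 fxE7 [fdE7.simples.getD i 0] 32 = true := by decide +kernel

set_option maxRecDepth 100000 in
set_option maxHeartbeats 0 in
theorem orbE8 : ∀ i < 8, chkAll fdE8 fxE8 [fdE8.simples.getD i 0] 32 = true := by decide +kernel

set_option maxRecDepth 100000 in
set_option maxHeartbeats 0 in
theorem orbB2 : chkMem fdB2 fxB2 [5] 32 1 = true ∧ chkMem fdB2 fxB2 [5] 32 2 = true ∧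
    fdB2.commT 1 2 = [(0, 2, 1, 1)] ∧ chkAll fdB2 fxB2 [5, 0] 32 = true := by decide +kernel

set_option maxRecDepth 100000 in
set_option maxHeartbeats 0 in
theorem orbG2 : chkMem fdG2 fxG2 [7] 32 2 = true ∧ chkMem fdG2 fxG2 [7] 32 3 = true ∧
    fdG2.commT 2 3 = [(0, 3, 1, 1)] ∧ chkAll fdG2 fxG2 [7, 0] 32 = true := by decide +kernel

set_option maxRecDepth 100000 in
set_option maxHeartbeats 0 in
theorem orbF4a : chkMem fdF4 fxF4 [33] 32 3 = true ∧ chkMem fdF4 fxF4 [33] 32 18 = true ∧
    fdF4.commT 3 18 = [(0, 2, 1, 1)] ∧ chkAll fdF4 fxF4 [33, 0] 32 = true := by decide +kernel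

set_option maxRecDepth 100000 in
set_option maxHeartbeats 0 in
theorem orbF4b : chkMem fdF4 fxF4 [27] 32 3 = true ∧ chkMem fdF4 fxF4 [27] 32 18 = true ∧
    fdF4.commT 3 18 = [(0, 2, 1, 1)] ∧ chkAll fdF4 fxF4 [27, 0] 32 = true := by decide +kernel

/-! short and long fundamental roots -/

set_option maxRecDepth 100000 in
set_option maxHeartbeats 0 in
theorem longB2 : chevB2.isLong (chevB2.simple 1) = true := by decide +kernel

set_option maxRecDepth 100000 in
set_option maxHeartbeats 0 in
theorem longG2 : chevG2.isLong (chevG2.simple 1) = true := by decide +kernel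

set_option maxRecDepth 100000 in
set_option maxHeartbeats 0 in
theorem longF4 : chevF4.isLong (chevF4.simple 2) = true ∧ chevF4.isLong (chevF4.simple 3) = true := by
  decide +kernel

set_option maxRecDepth 100000 in
set_option maxHeartbeats 0 in
theorem shortB2 : chevB2.isLong (chevB2.simple 0) = false := by decide +kernel

set_option maxRecDepth 100000 in
set_option maxHeartbeats 0 in
theorem shortG2 : chevG2.isLong (chevG2.simple 0) = false := by decide +kernel

set_option maxRecDepth 100000 in
set_option maxHeartbeats 0 in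
theorem shortF4 : chevF4.isLong (chevF4.simple 0) = false ∧ chevF4.isLong (chevF4.simple 1) = false := by
  decide +kernel

/-! pairs of a short and a long fundamental root -/

set_option maxRecDepth 100000 in
set_option maxHeartbeats 0 in
theorem pairB2 : chkAll fdB2 fxB2 [fdB2.simples.getD 0 0, fdB2.simples.getD 1 0] 32 = true := by
  decide +kernel

set_option maxRecDepth 100000 in
set_option maxHeartbeats 0 in
theorem pairG2 : chkAll fdG2 fxG2 [fdG2.simples.getD 0 0, fdG2.simples.getD 1 0] 32 = true := by
  decide +kernel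

set_option maxRecDepth 100000 in
set_option maxHeartbeats 0 in
theorem pairF4 : ∀ i < 2, ∀ j < 2,
    chkAll fdF4 fxF4 [fdF4.simples.getD i 0, fdF4.simples.getD (j + 2) 0] 32 = true := by
  decide +kernel

end Cfsg.Agent.Lib.H12.ChevNX
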