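import Mathlib
import Cfsg.Agent.Lib.H12.ChevNXB

/-!
# Chevalley groups are generated by `N` and one (or two) fundamental root subgroups (helper12)
-/

set_option autoImplicit false
set_option linter.unusedSectionVars false

namespace Cfsg.Agent.Lib.H12.ChevNX

open Cfsg.Lie Cfsg.Agent.Lib.H29.Chev

theorem certG2 : Cert6 chevG2 fdG2 fxG2 fcG2 :=
  ⟨⟨⟨fdG2_cert2, fdG2_ChkConj⟩, fdG2_ChkCF⟩, fdG2_ChkDesc, fdG2_ChkUp⟩
theorem certB2 : Cert6 chevB2 fdB2 fxB2 fcB2 :=
  ⟨⟨⟨fdB2_cert2, fdB2_ChkConj⟩, fdB2_ChkCF⟩, fdB2_ChkDesc, fdB2_ChkUp⟩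
theorem certD4 : Cert6 chevD4 fdD4 fxD4 fcD4 :=
  ⟨⟨⟨fdD4_cert2, fdD4_ChkConj⟩, fdD4_ChkCF⟩, fdD4_ChkDesc, fdD4_ChkUp⟩
theorem certF4 : Cert6 chevF4 fdF4 fxF4 fcF4 :=
  ⟨⟨⟨fdF4_cert2, fdF4_ChkConj⟩, fdF4_ChkCF⟩, fdF4_ChkDesc, fdF4_ChkUp⟩
theorem certE6 : Cert6 chevE6 fdE6 fxE6 fcE6 :=
  ⟨⟨⟨fdE6_cert2, fdE6_ChkConj⟩, fdE6_ChkCF⟩, fdE6_ChkDesc, fdE6_ChkUp⟩
theorem certE7 : Cert6 chevE7 fdE7 fxE7 fcE7 :=
  ⟨⟨⟨fdE7_cert2, fdE7_ChkConj⟩, fdE7_ChkCF⟩, fdE7_ChkDesc, fdE7_ChkUp⟩
theorem certE8 : Cert6 chevE8 fdE8 fxE8 fcE8 :=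
  ⟨⟨⟨fdE8_cert2, fdE8_ChkConj⟩, fdE8_ChkCF⟩, fdE8_ChkDesc, fdE8_ChkUp⟩

section generic

variable {D : ChevalleyDatum} {fd : FD} {fx : FX} {fc : FC} {F : Type*} [Field F]
variable (C : Cert6 D fd fx fc)
include C

theorem goodIn_simple (M : Subgroup (GL D.Idx F)) (i : ℕ) (hi : i < fd.l)
    (h : D.rootSubgroup F (D.simple i) ≤ M) : GoodIn C M (fd.simples.getD i 0) :=
  goodIn_of_rootSubgroup C M _ (C.c2.simple_lt i hi) (by rw [← C.c2.agrees.simple_eq]; exact h)

/-- one orbit of roots -/
theorem gen_single (i : ℕ) (hi : i < fd.l)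
    (h : chkAll fd fx [fd.simples.getD i 0] 32 = true) :
    D.group F ≤ D.monomialSubgroup F ⊔ D.rootSubgroup F (D.simple i) := by
  apply group_le_of_chkAll C _ le_sup_left [fd.simples.getD i 0] 32 _ h
  intro s hs
  rw [List.mem_singleton] at hs
  subst hs
  exact goodIn_simple C _ i hi le_sup_right

/-- two orbits of roots, the second reached by a commutator -/
theorem gen_double (i : ℕ) (hi : i < fd.l) (a b c : ℕ) (k : ℤ) (hk : ((k : ℤ) : F) ≠ 0)
    (hab : b ≠ a) (hneg : b ≠ fd.n - 1 - a)
    (h : chkMem fd fx [fd.simples.getD i 0] 32 a = true ∧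
      chkMem fd fx [fd.simples.getD i 0] 32 b = true ∧
      fd.commT a b = [(c, k, 1, 1)] ∧ chkAll fd fx [fd.simples.getD i 0, c] 32 = true) :
    D.group F ≤ D.monomialSubgroup F ⊔ D.rootSubgroup F (D.simple i) := by
  obtain ⟨h1, h2, h3, h4⟩ := h
  have hp : GoodIn C (D.monomialSubgroup F ⊔ D.rootSubgroup F (D.simple i))
      (fd.simples.getD i 0) := goodIn_simple C _ i hi le_sup_right
  have hseeds : ∀ s ∈ [fd.simples.getD i 0],
      GoodIn C (D.monomialSubgroup F ⊔ D.rootSubgroup F (D.simple i)) s := by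
    intro s hs
    rw [List.mem_singleton] at hs
    subst hs
    exact hp
  have ha := goodIn_of_chkMem C _ le_sup_left _ 32 hseeds a h1
  have hb := goodIn_of_chkMem C _ le_sup_left _ 32 hseeds b h2
  have hc := goodIn_of_comm C _ a b c k ha hb hab hneg h3 hk
  apply group_le_of_chkAll C _ le_sup_left [fd.simples.getD i 0, c] 32 _ h4
  intro s hs
  rw [List.mem_cons, List.mem_singleton] at hs
  rcases hs with rfl | rfl
  · exact hp
  · exact hc

/-- two fundamental root subgroups -/
theorem gen_pair (i j : ℕ) (hi : i < fd.l) (hj : j < fd.l)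
    (h : chkAll fd fx [fd.simples.getD i 0, fd.simples.getD j 0] 32 = true) :
    D.group F ≤ D.monomialSubgroup F ⊔ D.rootSubgroup F (D.simple i) ⊔
      D.rootSubgroup F (D.simple j) := by
  apply group_le_of_chkAll C _ (le_sup_of_le_left le_sup_left) _ 32 _ h
  intro s hs
  rw [List.mem_cons, List.mem_singleton] at hs
  rcases hs with rfl | rfl
  · exact goodIn_simple C _ i hi (le_sup_of_le_left le_sup_right)
  · exact goodIn_simple C _ j hj le_sup_right

end generic

variable {K : Type*} [Field K]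

theorem two_ne_zero_of (h : ringChar K ≠ 2) : (((2 : ℤ) : ℤ) : K) ≠ 0 := by
  have := Ring.two_ne_zero h
  exact_mod_cast this

theorem three_ne_zero_of (h : ringChar K ≠ 3) : (((3 : ℤ) : ℤ) : K) ≠ 0 := by
  intro h0
  have h1 : ((3 : ℕ) : K) = 0 := by exact_mod_cast h0
  rw [CharP.cast_eq_zero_iff K (ringChar K) 3] at h1
  have h2 : ringChar K = 1 ∨ ringChar K = 3 := (Nat.dvd_prime Nat.prime_three).mp h1
  rcases h2 with h2 | h2
  · exact CharP.ringChar_ne_one h2
  · exact h h2

/-- `G ≤ ⟨N, X_p⟩` for a short fundamental root `p` -/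
theorem group_le_N_sup_root (D : ChevalleyDatum)
    (hD : D ∈ [chevG2, chevB2, chevD4, chevF4, chevE6, chevE7, chevE8])
    (h2 : D ∈ [chevB2, chevF4] → ringChar K ≠ 2) (h3 : D = chevG2 → ringChar K ≠ 3)
    (i : ℕ) (hi : i < D.rank) (hshort : D.isLong (D.simple i) = false) :
    D.group K ≤ D.monomialSubgroup K ⊔ D.rootSubgroup K (D.simple i) := by
  simp only [List.mem_cons, List.not_mem_nil, or_false] at hD
  rcases hD with rfl | rfl | rfl | rfl | rfl | rfl | rfl
  · -- G2
    have hi' : i < 2 := by rw [certG2.c2.rank_eq] at hi; exact hi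
    interval_cases i
    · exact gen_double certG2 0 (by decide) 2 3 0 3 (three_ne_zero_of (h3 rfl)) (by decide)
        (by decide) orbG2
    · rw [longG2] at hshort; exact absurd hshort (by decide)
  · -- B2
    have hi' : i < 2 := by rw [certB2.c2.rank_eq] at hi; exact hi
    interval_cases i
    · exact gen_double certB2 0 (by decide) 1 2 0 2 (two_ne_zero_of (h2 (by simp))) (by decide)
        (by decide) orbB2
    · rw [longB2] at hshort; exact absurd hshort (by decide)
  · -- D4
    have hi' : i < 4 := by rw [certD4.c2.rank_eq] at hi; exact hi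
    exact gen_single certD4 i hi' (orbD4 i hi')
  · -- F4
    have hi' : i < 4 := by rw [certF4.c2.rank_eq] at hi; exact hi
    interval_cases i
    · exact gen_double certF4 0 (by decide) 3 18 0 2 (two_ne_zero_of (h2 (by simp))) (by decide)
        (by decide) orbF4a
    · exact gen_double certF4 1 (by decide) 3 18 0 2 (two_ne_zero_of (h2 (by simp))) (by decide)
        (by decide) orbF4b
    · rw [longF4.1] at hshort; exact absurd hshort (by decide)
    · rw [longF4.2] at hshort; exact absurd hshort (by decide)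
  · -- E6
    have hi' : i < 6 := by rw [certE6.c2.rank_eq] at hi; exact hi
    exact gen_single certE6 i hi' (orbE6 i hi')
  · -- E7
    have hi' : i < 7 := by rw [certE7.c2.rank_eq] at hi; exact hi
    exact gen_single certE7 i hi' (orbE7 i hi')
  · -- E8
    have hi' : i < 8 := by rw [certE8.c2.rank_eq] at hi; exact hi
    exact gen_single certE8 i hi' (orbE8 i hi')

/-- `G ≤ ⟨N, X_a, X_b⟩` for a short and a long fundamental root -/
theorem group_le_N_sup_two (e : ChevalleyDatum × ℕ)
    (he : e ∈ [(chevB2, 2), (chevF4, 2), (chevG2, 3)])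
    (i j : ℕ) (hi : i < e.1.rank) (hj : j < e.1.rank) (hshort : e.1.isLong (e.1.simple i) = false)
    (hlong : e.1.isLong (e.1.simple j) = true) :
    e.1.group K ≤ e.1.monomialSubgroup K ⊔ e.1.rootSubgroup K (e.1.simple i) ⊔
      e.1.rootSubgroup K (e.1.simple j) := by
  simp only [List.mem_cons, List.not_mem_nil, or_false] at he
  rcases he with rfl | rfl | rfl
  · -- B2
    simp only at hi hj hshort hlong ⊢
    have hi' : i < 2 := by rw [certB2.c2.rank_eq] at hi; exact hi
    have hj' : j < 2 := by rw [certB2.c2.rank_eq] at hj; exact hj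
    interval_cases i
    · interval_cases j
      · rw [shortB2] at hlong; exact absurd hlong (by decide)
      · exact gen_pair certB2 0 1 (by decide) (by decide) pairB2
    · rw [longB2] at hshort; exact absurd hshort (by decide)
  · -- F4
    simp only at hi hj hshort hlong ⊢
    have hi' : i < 4 := by rw [certF4.c2.rank_eq] at hi; exact hi
    have hj' : j < 4 := by rw [certF4.c2.rank_eq] at hj; exact hj
    interval_cases i
    · interval_cases j
      · rw [shortF4.1] at hlong; exact absurd hlong (by decide)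
      · rw [shortF4.2] at hlong; exact absurd hlong (by decide)
      · exact gen_pair certF4 0 2 (by decide) (by decide) (pairF4 0 (by decide) 0 (by decide))
      · exact gen_pair certF4 0 3 (by decide) (by decide) (pairF4 0 (by decide) 1 (by decide))
    · interval_cases j
      · rw [shortF4.1] at hlong; exact absurd hlong (by decide)
      · rw [shortF4.2] at hlong; exact absurd hlong (by decide)
      · exact gen_pair certF4 1 2 (by decide) (by decide) (pairF4 1 (by decide) 0 (by decide))
      · exact gen_pair certF4 1 3 (by decide) (by decide) (pairF4 1 (by decide) 1 (by decide))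
    · rw [longF4.1] at hshort; exact absurd hshort (by decide)
    · rw [longF4.2] at hshort; exact absurd hshort (by decide)
  · -- G2
    simp only at hi hj hshort hlong ⊢
    have hi' : i < 2 := by rw [certG2.c2.rank_eq] at hi; exact hi
    have hj' : j < 2 := by rw [certG2.c2.rank_eq] at hj; exact hj
    interval_cases i
    · interval_cases j
      · rw [shortG2] at hlong; exact absurd hlong (by decide)
      · exact gen_pair certG2 0 1 (by decide) (by decide) pairG2
    · rw [longG2] at hshort; exact absurd hshort (by decide)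

end Cfsg.Agent.Lib.H12.ChevNX
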