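import Mathlib
import Cfsg.Prelude.Def_ChevAutomorphisms
import Cfsg.Agent.Lib.H29.ChevCert6
import Cfsg.Agent.Lib.H12.ChevNXC

/-!
# Chevalley groups are generated by the fundamental root elements and their negatives (helper12)
-/

set_option autoImplicit false

namespace Cfsg.Agent.Lib.H12.ChevNX

open Cfsg.Lie Cfsg.Agent.Lib.H29.Chev

section generic

variable {D : ChevalleyDatum} {fd : FD} {fx : FX} {fc : FC} {F : Type*} [Field F]
variable (C : Cert6 D fd fx fc)
include C

/-- the variant of `goodIn_step` that only needs the `n_i` in `M` -/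
theorem goodIn_step' (M : Subgroup (GL D.Idx F))
    (hN : ∀ j (hj : j < fd.l), C.c2.nG (F := F) (fd.simples.getD j 0) (C.c2.simple_lt j hj) ∈ M)
    (s j : ℕ) (hs : GoodIn C M s) (hj : j < fd.l) :
    GoodIn C M (fd.nw fx (fd.simples.getD j 0) s) := by
  obtain ⟨hs1, hs2⟩ := hs
  have hp := C.c2.simple_lt j hj
  refine ⟨(fd.nw_spec C.c2.chk.nn _ s hp hs1).1, fun t => ?_⟩
  have key := C.c2.nG_conj_x (F := F) _ s hp hs1 (fd.conj_spec C.c5.c3.conj j s hj hs1)
    (((fd.neta fx (fd.simples.getD j 0) s : ℤ) : F) * t)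
  rw [← mul_assoc, ← Int.cast_mul, fd.neta_sq, Int.cast_one, one_mul] at key
  rw [← key]
  have hn : C.c2.nG (F := F) (fd.simples.getD j 0) hp ∈ M := hN j hj
  exact M.mul_mem (M.mul_mem hn (hs2 _)) (M.inv_mem hn)

/-- a subgroup containing the fundamental root elements and their negatives contains the group,
given an orbit certificate with fundamental seeds -/
theorem group_le_of_simple (M : Subgroup (GL D.Idx F))
    (hM : ∀ (i : ℕ) (t : F), i < D.rank → C.c2.xA (D.simple i) t ∈ M ∧
      C.c2.xA (D.neg (D.simple i)) t ∈ M)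
    (seeds : List ℕ) (hseeds : ∀ s ∈ seeds, ∃ i < fd.l, s = fd.simples.getD i 0)
    (h : chkAll fd fx seeds 32 = true) : D.group F ≤ M := by
  have hN : ∀ j (hj : j < fd.l),
      C.c2.nG (F := F) (fd.simples.getD j 0) (C.c2.simple_lt j hj) ∈ M := by
    intro j hj
    have hp := C.c2.simple_lt j hj
    have hj' : j < D.rank := by rw [C.c2.rank_eq]; exact hj
    obtain ⟨h1, h2⟩ := hM j 1 hj'
    obtain ⟨-, h3⟩ := hM j (-1) hj'
    rw [C.c2.agrees.simple_eq] at h1 h3
    rw [C.c2.agrees.neg_eq' _ hp] at h3
    unfold Cert2.nG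
    rw [← C.c2.xA_of_lt _ hp, ← C.c2.xA_of_lt _ (by omega : fd.n - 1 - fd.simples.getD j 0 < fd.n)]
    exact M.mul_mem (M.mul_mem h1 h3) h1
  apply group_le_of_good C M
  apply good_of_chkAll (GoodIn C M) (goodIn_step' C M hN) seeds 32 _ h
  intro s hs
  obtain ⟨i, hi, rfl⟩ := hseeds s hs
  have hi' : i < D.rank := by rw [C.c2.rank_eq]; exact hi
  refine ⟨C.c2.simple_lt i hi, fun t => ?_⟩
  have := (hM i t hi').1
  rw [C.c2.agrees.simple_eq] at this
  exact this

omit [Field F] in
theorem simple_lt_of_cert (i : ℕ) (hi : i < D.rank) :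
    D.simple i < D.nroots ∧ D.neg (D.simple i) < D.nroots := by
  have hi' : i < fd.l := by rw [← C.c2.rank_eq]; exact hi
  have hp := C.c2.simple_lt i hi'
  rw [C.c2.agrees.simple_eq, C.c2.agrees.neg_eq' _ hp, C.c2.nroots_eq]
  exact ⟨hp, by omega⟩

end generic

theorem simple_lt_nroots (D : ChevalleyDatum)
    (hD : D ∈ [chevG2, chevB2, chevD4, chevF4, chevE6, chevE7, chevE8]) (i : ℕ) (hi : i < D.rank) :
    D.simple i < D.nroots ∧ D.neg (D.simple i) < D.nroots := by
  simp only [List.mem_cons, List.not_mem_nil, or_false] at hD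
  rcases hD with rfl | rfl | rfl | rfl | rfl | rfl | rfl
  · exact simple_lt_of_cert certG2 i hi
  · exact simple_lt_of_cert certB2 i hi
  · exact simple_lt_of_cert certD4 i hi
  · exact simple_lt_of_cert certF4 i hi
  · exact simple_lt_of_cert certE6 i hi
  · exact simple_lt_of_cert certE7 i hi
  · exact simple_lt_of_cert certE8 i hi

variable {K : Type*} [Field K]

/-- for the seven data: a subgroup containing the fundamental root elements and their negatives
contains the Chevalley group -/
theorem group_le_of_fundamental (D : ChevalleyDatum)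
    (hD : D ∈ [chevG2, chevB2, chevD4, chevF4, chevE6, chevE7, chevE8])
    (M : Subgroup (GL D.Idx K))
    (hM : ∀ (i : ℕ) (t : K) (g : GL D.Idx K), i < D.rank →
      ((g : Matrix D.Idx D.Idx K) = D.x K (D.simple i) t ∨
        (g : Matrix D.Idx D.Idx K) = D.x K (D.neg (D.simple i)) t) → g ∈ M) :
    D.group K ≤ M := by
  simp only [List.mem_cons, List.not_mem_nil, or_false] at hD
  rcases hD with rfl | rfl | rfl | rfl | rfl | rfl | rfl
  · exact group_le_of_simple certG2 M
      (fun i t hi => ⟨hM i t _ hi (Or.inl (certG2.c2.xA_val _ t)),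
        hM i t _ hi (Or.inr (certG2.c2.xA_val _ t))⟩) _
      (by intro s hs
          rw [List.mem_cons, List.mem_singleton] at hs
          rcases hs with rfl | rfl
          · exact ⟨0, by decide, rfl⟩
          · exact ⟨1, by decide, rfl⟩) pairG2
  · exact group_le_of_simple certB2 M
      (fun i t hi => ⟨hM i t _ hi (Or.inl (certB2.c2.xA_val _ t)),
        hM i t _ hi (Or.inr (certB2.c2.xA_val _ t))⟩) _
      (by intro s hs
          rw [List.mem_cons, List.mem_singleton] at hs
          rcases hs with rfl | rfl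
          · exact ⟨0, by decide, rfl⟩
          · exact ⟨1, by decide, rfl⟩) pairB2
  · exact group_le_of_simple certD4 M
      (fun i t hi => ⟨hM i t _ hi (Or.inl (certD4.c2.xA_val _ t)),
        hM i t _ hi (Or.inr (certD4.c2.xA_val _ t))⟩) _
      (by intro s hs
          rw [List.mem_singleton] at hs
          exact ⟨0, by decide, hs⟩) (orbD4 0 (by decide))
  · exact group_le_of_simple certF4 M
      (fun i t hi => ⟨hM i t _ hi (Or.inl (certF4.c2.xA_val _ t)),
        hM i t _ hi (Or.inr (certF4.c2.xA_val _ t))⟩) _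
      (by intro s hs
          rw [List.mem_cons, List.mem_singleton] at hs
          rcases hs with rfl | rfl
          · exact ⟨0, by decide, rfl⟩
          · exact ⟨2, by decide, rfl⟩) (pairF4 0 (by decide) 0 (by decide))
  · exact group_le_of_simple certE6 M
      (fun i t hi => ⟨hM i t _ hi (Or.inl (certE6.c2.xA_val _ t)),
        hM i t _ hi (Or.inr (certE6.c2.xA_val _ t))⟩) _
      (by intro s hs
          rw [List.mem_singleton] at hs
          exact ⟨0, by decide, hs⟩) (orbE6 0 (by decide))
  · exact group_le_of_simple certE7 M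
      (fun i t hi => ⟨hM i t _ hi (Or.inl (certE7.c2.xA_val _ t)),
        hM i t _ hi (Or.inr (certE7.c2.xA_val _ t))⟩) _
      (by intro s hs
          rw [List.mem_singleton] at hs
          exact ⟨0, by decide, hs⟩) (orbE7 0 (by decide))
  · exact group_le_of_simple certE8 M
      (fun i t hi => ⟨hM i t _ hi (Or.inl (certE8.c2.xA_val _ t)),
        hM i t _ hi (Or.inr (certE8.c2.xA_val _ t))⟩) _
      (by intro s hs
          rw [List.mem_singleton] at hs
          exact ⟨0, by decide, hs⟩) (orbE8 0 (by decide))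

theorem mem_group_of_x (D : ChevalleyDatum) (g : GL D.Idx K) (r : ℕ) (t : K)
    (hg : (g : Matrix D.Idx D.Idx K) = D.x K r t) : g ∈ D.group K := by
  unfold ChevalleyDatum.x at hg
  by_cases hr : r < D.nroots
  · rw [dif_pos hr] at hg
    exact Subgroup.subset_closure ⟨⟨r, hr⟩, t, hg⟩
  · rw [dif_neg hr] at hg
    have : g = 1 := Units.ext hg
    rw [this]
    exact one_mem _

/-- two homomorphisms out of the Chevalley group that agree on the fundamental root elements and
their negatives are equal -/
theorem hom_ext_of_fundamental (D : ChevalleyDatum)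
    (hD : D ∈ [chevG2, chevB2, chevD4, chevF4, chevE6, chevE7, chevE8])
    {H : Type*} [Group H] (φ ψ : ↥(D.group K) →* H)
    (h : ∀ (i : ℕ) (t : K) (g : ↥(D.group K)), i < D.rank →
      (((g : GL D.Idx K) : Matrix D.Idx D.Idx K) = D.x K (D.simple i) t ∨
        ((g : GL D.Idx K) : Matrix D.Idx D.Idx K) = D.x K (D.neg (D.simple i)) t) → φ g = ψ g) :
    φ = ψ := by
  have hle : D.group K ≤ (φ.eqLocus ψ).map (D.group K).subtype := by
    apply group_le_of_fundamental D hD
    intro i t g hi hg
    have hgG : g ∈ D.group K := by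
      rcases hg with hg | hg
      · exact mem_group_of_x D g _ t hg
      · exact mem_group_of_x D g _ t hg
    exact ⟨⟨g, hgG⟩, h i t ⟨g, hgG⟩ hi hg, rfl⟩
  ext y
  obtain ⟨y', hy', hy⟩ := hle y.2
  have : y' = y := Subtype.ext hy
  rw [← this]
  exact hy'

end Cfsg.Agent.Lib.H12.ChevNX
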