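import Mathlib
import Cfsg.Prelude.Def_ChevAutomorphisms
import Cfsg.Agent.Lib.H29.ChevCert6
import Cfsg.Agent.Lib.H12.ChevNXD

/-!
# Graph automorphisms of the Chevalley groups of types `D₄`, `E₆` on all root elements (helper12)
-/

set_option autoImplicit false

namespace Cfsg.Agent.Lib.H12.ChevNX

open Cfsg.Lie Cfsg.Agent.Lib.H29.Chev

set_option maxRecDepth 100000 in
set_option maxHeartbeats 0 in
theorem permD4a : ∀ π : Equiv.Perm (Fin 4),
    (∀ i j : Fin 4, i ≠ j → chevD4.bonds (π i) (π j) = chevD4.bonds i j) →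
    (∀ i : Fin 4, chevD4.permRoot π (chevD4.simple i) = chevD4.simple (π i)) := by decide +kernel

set_option maxRecDepth 100000 in
set_option maxHeartbeats 0 in
theorem permD4b : ∀ π : Equiv.Perm (Fin 4),
    (∀ i j : Fin 4, i ≠ j → chevD4.bonds (π i) (π j) = chevD4.bonds i j) →
    ∀ j : Fin 4, ∀ s : Fin 24, chevD4.permRoot π s < 24 ∧
      fdD4.nw fxD4 (fdD4.simples.getD (π j) 0) (chevD4.permRoot π s) =
        chevD4.permRoot π (fdD4.nw fxD4 (fdD4.simples.getD j 0) s) := by decide +kernel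

set_option maxRecDepth 100000 in
set_option maxHeartbeats 0 in
theorem permE6a : ∀ π : Equiv.Perm (Fin 6),
    (∀ i j : Fin 6, i ≠ j → chevE6.bonds (π i) (π j) = chevE6.bonds i j) →
    (∀ i : Fin 6, chevE6.permRoot π (chevE6.simple i) = chevE6.simple (π i)) := by decide +kernel

set_option maxRecDepth 100000 in
set_option maxHeartbeats 0 in
theorem permE6b : ∀ π : Equiv.Perm (Fin 6),
    (∀ i j : Fin 6, i ≠ j → chevE6.bonds (π i) (π j) = chevE6.bonds i j) →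
    ∀ j : Fin 6, ∀ s : Fin 72, chevE6.permRoot π s < 72 ∧
      fdE6.nw fxE6 (fdE6.simples.getD (π j) 0) (chevE6.permRoot π s) =
        chevE6.permRoot π (fdE6.nw fxE6 (fdE6.simples.getD j 0) s) := by decide +kernel

section generic

variable {D : ChevalleyDatum} {fd : FD} {fx : FX} {fc : FC} {F : Type*} [Field F]

/-- `φ` maps `x_s(t)` to `x_{π s}(± t)` -/
def GoodPhi (fd : FD) (π : Equiv.Perm (Fin D.rank)) (φ : ↥(D.group F) ≃* ↥(D.group F)) (s : ℕ) :
    Prop :=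
  s < fd.n ∧ ∃ ε : F, (ε = 1 ∨ ε = -1) ∧ ∀ (g : ↥(D.group F)) (t : F),
    ((g : GL D.Idx F) : Matrix D.Idx D.Idx F) = D.x F s t →
      ((φ g : GL D.Idx F) : Matrix D.Idx D.Idx F) = D.x F (D.permRoot π s) (ε * t)

variable (C : Cert6 D fd fx fc)
include C

variable (π : Equiv.Perm (Fin D.rank)) (φ : ↥(D.group F) ≃* ↥(D.group F))
  (hφ : ∀ (g : ↥(D.group F)) (i : Fin D.rank) (t : F),
      (((g : GL D.Idx F) : Matrix D.Idx D.Idx F) = D.x F (D.simple i) t →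
        ((φ g : GL D.Idx F) : Matrix D.Idx D.Idx F) = D.x F (D.simple (π i)) t) ∧
      (((g : GL D.Idx F) : Matrix D.Idx D.Idx F) = D.x F (D.neg (D.simple i)) t →
        ((φ g : GL D.Idx F) : Matrix D.Idx D.Idx F) = D.x F (D.neg (D.simple (π i))) t))
include hφ

/-- `φ(n_j) = n_{π j}` -/
theorem phi_nG (j : Fin D.rank) (g : ↥(D.group F))
    (hg : (g : GL D.Idx F) = C.c2.nG (fd.simples.getD j 0)
      (C.c2.simple_lt j (by rw [← C.c2.rank_eq]; exact j.isLt))) :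
    (φ g : GL D.Idx F) = C.c2.nG (fd.simples.getD (π j) 0)
      (C.c2.simple_lt (π j) (by rw [← C.c2.rank_eq]; exact (π j).isLt)) := by
  have hj : (j : ℕ) < fd.l := by rw [← C.c2.rank_eq]; exact j.isLt
  have hj' : ((π j : Fin D.rank) : ℕ) < fd.l := by rw [← C.c2.rank_eq]; exact (π j).isLt
  have hp := C.c2.simple_lt j hj
  have hp' := C.c2.simple_lt (π j) hj'
  -- the three factors
  let X1 : ↥(D.group F) := ⟨C.c2.xA (fd.simples.getD j 0) 1, C.c2.xA_mem_group _ _⟩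
  let X2 : ↥(D.group F) := ⟨C.c2.xA (fd.n - 1 - fd.simples.getD j 0) (-1), C.c2.xA_mem_group _ _⟩
  have hgX : g = X1 * X2 * X1 := by
    apply Subtype.ext
    rw [hg]
    unfold Cert2.nG
    rw [← C.c2.xA_of_lt _ hp, ← C.c2.xA_of_lt _ (by omega : fd.n - 1 - fd.simples.getD j 0 < fd.n)]
    rfl
  have h1 : ((φ X1 : GL D.Idx F) : Matrix D.Idx D.Idx F) = D.x F (D.simple (π j)) 1 := by
    apply (hφ X1 j 1).1
    change ((C.c2.xA (fd.simples.getD j 0) (1 : F) : GL D.Idx F) : Matrix D.Idx D.Idx F) = _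
    rw [C.c2.xA_val, C.c2.agrees.simple_eq]
  have h2 : ((φ X2 : GL D.Idx F) : Matrix D.Idx D.Idx F) = D.x F (D.neg (D.simple (π j))) (-1) := by
    apply (hφ X2 j (-1)).2
    change ((C.c2.xA (fd.n - 1 - fd.simples.getD j 0) (-1 : F) : GL D.Idx F) :
      Matrix D.Idx D.Idx F) = _
    rw [C.c2.xA_val, C.c2.agrees.simple_eq, C.c2.agrees.neg_eq' _ hp]
  have e1 : (φ X1 : GL D.Idx F) = C.c2.xA (fd.simples.getD (π j) 0) 1 := by
    apply gl_ext
    rw [h1, C.c2.xA_val, C.c2.agrees.simple_eq]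
  have e2 : (φ X2 : GL D.Idx F) = C.c2.xA (fd.n - 1 - fd.simples.getD (π j) 0) (-1) := by
    apply gl_ext
    rw [h2, C.c2.xA_val, C.c2.agrees.simple_eq, C.c2.agrees.neg_eq' _ hp']
  rw [hgX, map_mul, map_mul, Subgroup.coe_mul, Subgroup.coe_mul, e1, e2]
  unfold Cert2.nG
  rw [← C.c2.xA_of_lt _ hp',
    ← C.c2.xA_of_lt _ (by omega : fd.n - 1 - fd.simples.getD (π j) 0 < fd.n)]

variable (hchk : ∀ (j : Fin D.rank) (s : ℕ), s < fd.n → D.permRoot π s < fd.n ∧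
  fd.nw fx (fd.simples.getD (π j) 0) (D.permRoot π s) =
    D.permRoot π (fd.nw fx (fd.simples.getD j 0) s))
include hchk

theorem goodPhi_step (s j : ℕ) (hs : GoodPhi fd π φ s) (hj : j < fd.l) :
    GoodPhi fd π φ (fd.nw fx (fd.simples.getD j 0) s) := by
  obtain ⟨hs1, ε, hε, hs2⟩ := hs
  have hjr : j < D.rank := by rw [C.c2.rank_eq]; exact hj
  have hj' : ((π ⟨j, hjr⟩ : Fin D.rank) : ℕ) < fd.l := by
    rw [← C.c2.rank_eq]; exact (π ⟨j, hjr⟩).isLt
  have hp := C.c2.simple_lt j hj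
  have hp' := C.c2.simple_lt (π ⟨j, hjr⟩) hj'
  obtain ⟨hπs, hcomm⟩ := hchk ⟨j, hjr⟩ s hs1
  have hr : fd.nw fx (fd.simples.getD j 0) s < fd.n := (fd.nw_spec C.c2.chk.nn _ s hp hs1).1
  refine ⟨hr, ((fd.neta fx (fd.simples.getD (π ⟨j, hjr⟩) 0) (D.permRoot π s) : ℤ) : F) * ε *
    ((fd.neta fx (fd.simples.getD j 0) s : ℤ) : F), ?_, ?_⟩
  · rcases fd.neta_cases (fx := fx) (fd.simples.getD (π ⟨j, hjr⟩) 0) (D.permRoot π s) with h1 | h1 <;>
      rcases fd.neta_cases (fx := fx) (fd.simples.getD j 0) s with h2 | h2 <;>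
      rcases hε with h3 | h3 <;> rw [h1, h2, h3] <;> simp
  · intro g t hg
    -- write `g` as a conjugate
    let Nj : ↥(D.group F) := ⟨C.c2.nG (fd.simples.getD j 0) hp,
      C.c2.monomial_le_group (C.c2.nG_mem_monomial _ hp)⟩
    let Xs : ↥(D.group F) := ⟨C.c2.xA s (((fd.neta fx (fd.simples.getD j 0) s : ℤ) : F) * t),
      C.c2.xA_mem_group _ _⟩
    have key := C.c2.nG_conj_x (F := F) _ s hp hs1 (fd.conj_spec C.c5.c3.conj j s hj hs1)
      (((fd.neta fx (fd.simples.getD j 0) s : ℤ) : F) * t)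
    rw [← mul_assoc, ← Int.cast_mul, fd.neta_sq, Int.cast_one, one_mul] at key
    have hgc : g = Nj * Xs * Nj⁻¹ := by
      apply Subtype.ext
      apply gl_ext
      rw [hg, ← C.c2.xA_val, ← key]
      rfl
    have hN : (φ Nj : GL D.Idx F) = C.c2.nG (fd.simples.getD (π ⟨j, hjr⟩) 0) hp' :=
      phi_nG C π φ hφ ⟨j, hjr⟩ Nj rfl
    have hX : (φ Xs : GL D.Idx F) = C.c2.xA (D.permRoot π s)
        (ε * (((fd.neta fx (fd.simples.getD j 0) s : ℤ) : F) * t)) := by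
      apply gl_ext
      rw [C.c2.xA_val]
      apply hs2
      change ((C.c2.xA s _ : GL D.Idx F) : Matrix D.Idx D.Idx F) = _
      rw [C.c2.xA_val]
    have key2 := C.c2.nG_conj_x (F := F) _ (D.permRoot π s) hp' hπs
      (fd.conj_spec C.c5.c3.conj _ _ hj' hπs)
      (ε * (((fd.neta fx (fd.simples.getD j 0) s : ℤ) : F) * t))
    rw [hgc, map_mul, map_mul, map_inv, Subgroup.coe_mul, Subgroup.coe_mul, Subgroup.coe_inv, hN, hX,
      key2, C.c2.xA_val, hcomm]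
    congr 1
    ring

theorem goodPhi_all (seeds : List ℕ) (hseeds : ∀ s ∈ seeds, ∃ i < fd.l, s = fd.simples.getD i 0)
    (hsimple : ∀ i : Fin D.rank, D.permRoot π (D.simple i) = D.simple (π i))
    (h : chkAll fd fx seeds 32 = true) : ∀ s < fd.n, GoodPhi fd π φ s := by
  apply good_of_chkAll (GoodPhi fd π φ) (goodPhi_step C π φ hφ hchk) seeds 32 _ h
  intro s hs
  obtain ⟨i, hi, rfl⟩ := hseeds s hs
  have hi' : i < D.rank := by rw [C.c2.rank_eq]; exact hi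
  refine ⟨C.c2.simple_lt i hi, 1, Or.inl rfl, fun g t hg => ?_⟩
  rw [← C.c2.agrees.simple_eq] at hg ⊢
  rw [one_mul]
  have := (hφ g ⟨i, hi'⟩ t).1 hg
  rw [this]
  exact congrArg (fun r => D.x F r t) (hsimple ⟨i, hi'⟩).symm

end generic

end Cfsg.Agent.Lib.H12.ChevNX
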