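import Mathlib
import Cfsg.Agent.Lib.H2.SLGen

set_option autoImplicit false

/-!
# The rank-one Steinberg presentation of `SL₂` over an arbitrary field (helper12)

Generators `x(t)`, `y(t)`; relators (A) additivity, (B') `w(t) x(u) w(t)⁻¹ = y(-t⁻²u)` with
`w(t) = x(t) y(-t⁻¹) x(t)`, and (C) `h(t) h(u) = h(tu)` with `h(t) = w(t) w(-1)`.
-/

namespace Cfsg.Agent.Lib.H12.StPresG

open Matrix

variable {K : Type*} [Field K]

/-- the word `w(t)` in the free group -/
def wWord (t : K) : FreeGroup (Bool × K) :=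
  FreeGroup.of (true, t) * FreeGroup.of (false, -t⁻¹) * FreeGroup.of (true, t)

/-- the word `h(t)` in the free group -/
def hWord (t : K) : FreeGroup (Bool × K) := wWord t * wWord (-1)

/-- The relators of the rank-one Steinberg presentation, with the torus relators (C). -/
def stRels (K : Type*) [Field K] : Set (FreeGroup (Bool × K)) :=
  {g : FreeGroup (Bool × K) | ∃ (b : Bool) (t u : K),
      g = FreeGroup.of (b, t) * FreeGroup.of (b, u) * (FreeGroup.of (b, t + u))⁻¹} ∪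
    {g | ∃ (t u : K), t ≠ 0 ∧
      g = wWord t * FreeGroup.of (true, u) * (wWord t)⁻¹ * (FreeGroup.of (false, -(t⁻¹ ^ 2 * u)))⁻¹} ∪
    {g | ∃ (t u : K), t ≠ 0 ∧ u ≠ 0 ∧ g = hWord t * hWord u * (hWord (t * u))⁻¹}

/-- The presented group. -/
abbrev St (K : Type*) [Field K] := PresentedGroup (stRels K)

/-- The generators. -/
def X (b : Bool) (t : K) : St K := PresentedGroup.of (b, t)

/-- The elements `w_b(t) = x_b(t) x_{!b}(-t⁻¹) x_b(t)`. -/
def W (b : Bool) (t : K) : St K := X b t * X (!b) (-t⁻¹) * X b t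

theorem mk_wWord (t : K) : (QuotientGroup.mk (wWord t) : St K) = W true t := rfl

theorem X_add (b : Bool) (t u : K) : X b t * X b u = X b (t + u) := by
  have h : (FreeGroup.of (b, t) * FreeGroup.of (b, u) * (FreeGroup.of (b, t + u))⁻¹ :
      FreeGroup (Bool × K)) ∈ stRels K := Or.inl (Or.inl ⟨b, t, u, rfl⟩)
  have h1 := PresentedGroup.one_of_mem h
  rw [map_mul, map_mul, map_inv] at h1
  exact mul_inv_eq_one.mp h1

theorem W_conj_true {t : K} (ht : t ≠ 0) (u : K) :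
    W true t * X true u * (W true t)⁻¹ = X false (-(t⁻¹ ^ 2 * u)) := by
  have h : (wWord t * FreeGroup.of (true, u) * (wWord t)⁻¹ *
      (FreeGroup.of (false, -(t⁻¹ ^ 2 * u)))⁻¹ : FreeGroup (Bool × K)) ∈ stRels K :=
    Or.inl (Or.inr ⟨t, u, ht, rfl⟩)
  have h1 := PresentedGroup.one_of_mem h
  simp only [map_mul, map_inv] at h1
  exact mul_inv_eq_one.mp h1

theorem X_zero (b : Bool) : X b (0 : K) = 1 := by
  have := X_add b (0 : K) 0
  rw [add_zero] at this
  exact mul_eq_left.mp this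

theorem X_neg (b : Bool) (t : K) : (X b t)⁻¹ = X b (-t) := by
  apply inv_eq_of_mul_eq_one_right
  rw [X_add, add_neg_cancel, X_zero]

theorem X_comm (b : Bool) (t u : K) : X b t * X b u = X b u * X b t := by
  rw [X_add, X_add, add_comm]

theorem W_inv (b : Bool) (t : K) : (W b t)⁻¹ = W b (-t) := by
  unfold W
  rw [_root_.mul_inv_rev, _root_.mul_inv_rev, X_neg, X_neg, mul_assoc, inv_neg, neg_neg]

/-- `w(t)` conjugates the opposite root group back. -/
theorem W_conj_true' {t : K} (ht : t ≠ 0) (v : K) :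
    W true t * X false v * (W true t)⁻¹ = X true (-(t ^ 2 * v)) := by
  have h := W_conj_true (neg_ne_zero.mpr ht) (-(t ^ 2 * v))
  rw [← W_inv, inv_inv] at h
  have e : -((-t)⁻¹ ^ 2 * -(t ^ 2 * v)) = v := by
    field_simp
  rw [e] at h
  rw [← h]
  group

theorem W_swap_true {t : K} (ht : t ≠ 0) : W true t = W false (-t⁻¹) := by
  have h1 : W true t = (W true t * X true t * (W true t)⁻¹) * (W true t * X false (-t⁻¹) * (W true t)⁻¹) *
      (W true t * X true t * (W true t)⁻¹) := by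
    have : W true t = W true t * (X true t * X false (-t⁻¹) * X true t) * (W true t)⁻¹ := by
      show W true t = W true t * W true t * (W true t)⁻¹
      group
    nth_rewrite 1 [this]
    group
  rw [W_conj_true ht, W_conj_true' ht] at h1
  rw [h1]
  unfold W
  have e1 : -(t⁻¹ ^ 2 * t) = -t⁻¹ := by field_simp
  have e2 : -(t ^ 2 * -t⁻¹) = t := by field_simp
  have e3 : -(-t⁻¹)⁻¹ = t := by field_simp
  rw [e1, e2, e3]
  rfl

local notation "xx" => X true
local notation "yy" => X false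
local notation "ww" => W true

theorem w_conj_x {t : K} (ht : t ≠ 0) (u : K) :
    ww t * xx u * (ww t)⁻¹ = yy (-(t⁻¹ ^ 2 * u)) := W_conj_true ht u

theorem w_conj_y {t : K} (ht : t ≠ 0) (v : K) :
    ww t * yy v * (ww t)⁻¹ = xx (-(t ^ 2 * v)) := W_conj_true' ht v

theorem w_inv (t : K) : (ww t)⁻¹ = ww (-t) := W_inv true t

theorem Wfalse_eq {s : K} (hs : s ≠ 0) : W false s = ww (-s⁻¹) := by
  have h := W_swap_true (t := -s⁻¹) (neg_ne_zero.mpr (inv_ne_zero hs))
  have e : -(-s⁻¹)⁻¹ = s := by field_simp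
  rw [e] at h
  exact h.symm

theorem w_def (t : K) : ww t = xx t * yy (-t⁻¹) * xx t := rfl

theorem w_conj_w {t u : K} (ht : t ≠ 0) (hu : u ≠ 0) :
    ww t * ww u * (ww t)⁻¹ = ww (t ^ 2 * u⁻¹) := by
  have h1 : ww t * ww u * (ww t)⁻¹ = (ww t * xx u * (ww t)⁻¹) * (ww t * yy (-u⁻¹) * (ww t)⁻¹) *
      (ww t * xx u * (ww t)⁻¹) := by
    rw [w_def u]
    group
  rw [h1, w_conj_x ht, w_conj_y ht]
  have hs : -(t⁻¹ ^ 2 * u) ≠ 0 := by
    simp [ht, hu]
  have e : ww (t ^ 2 * u⁻¹) = W false (-(t⁻¹ ^ 2 * u)) := by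
    rw [Wfalse_eq hs]
    congr 1
    field_simp
  rw [e]
  unfold W
  have e2 : -(-(t⁻¹ ^ 2 * u))⁻¹ = -(t ^ 2 * -u⁻¹) := by
    field_simp
  rw [e2]
  rfl

theorem y_eq {c : K} (hc : c ≠ 0) : yy c = xx c⁻¹ * ww (-c⁻¹) * xx c⁻¹ := by
  rw [w_def]
  have e : -(-c⁻¹)⁻¹ = c := by field_simp
  rw [e]
  have h1 : xx c⁻¹ * xx (-c⁻¹) = (1 : St K) := by rw [X_add, add_neg_cancel, X_zero]
  have h2 : xx (-c⁻¹) * xx c⁻¹ = (1 : St K) := by rw [X_add, neg_add_cancel, X_zero]
  calc yy c = (xx c⁻¹ * xx (-c⁻¹)) * yy c * (xx (-c⁻¹) * xx c⁻¹) := by rw [h1, h2, one_mul, mul_one]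
    _ = xx c⁻¹ * (xx (-c⁻¹) * yy c * xx (-c⁻¹)) * xx c⁻¹ := by group

/-- The torus elements. -/
def h (t : K) : St K := ww t * ww (-1)

theorem mk_hWord (t : K) : (QuotientGroup.mk (hWord t) : St K) = h t := rfl

/-- relation (C) -/
theorem h_mul {t u : K} (ht : t ≠ 0) (hu : u ≠ 0) : h (t * u) = h t * h u := by
  have hm : (hWord t * hWord u * (hWord (t * u))⁻¹ : FreeGroup (Bool × K)) ∈ stRels K :=
    Or.inr ⟨t, u, ht, hu, rfl⟩
  have h1 := PresentedGroup.one_of_mem hm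
  simp only [map_mul, map_inv] at h1
  exact (mul_inv_eq_one.mp h1).symm

theorem h_one : h (1 : K) = 1 := by
  unfold h
  rw [← w_inv, mul_inv_cancel]

theorem w_eq_h (s : K) : ww s = h s * ww 1 := by
  unfold h
  rw [← w_inv]
  group

theorem h_conj_x {t : K} (ht : t ≠ 0) (u : K) : h t * xx u * (h t)⁻¹ = xx (t ^ 2 * u) := by
  have h1 : h t * xx u * (h t)⁻¹ = ww t * (ww (-1) * xx u * (ww (-1))⁻¹) * (ww t)⁻¹ := by
    unfold h
    group
  rw [h1, w_conj_x (neg_ne_zero.mpr one_ne_zero), w_conj_y ht]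
  congr 1
  field_simp

theorem h_conj_w {t u : K} (ht : t ≠ 0) (hu : u ≠ 0) : h t * ww u * (h t)⁻¹ = ww (t ^ 2 * u) := by
  have h1 : h t * ww u * (h t)⁻¹ = ww t * (ww (-1) * ww u * (ww (-1))⁻¹) * (ww t)⁻¹ := by
    unfold h
    group
  rw [h1, w_conj_w (neg_ne_zero.mpr one_ne_zero) hu, w_conj_w ht (by simp [hu])]
  congr 1
  field_simp

theorem w_one_conj_h {s : K} (hs : s ≠ 0) : ww 1 * h s * (ww 1)⁻¹ = h s⁻¹ := by
  have h1 : ww (1 : K) * h s * (ww 1)⁻¹ = (ww 1 * ww s * (ww 1)⁻¹) * ww (-1) := by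
    unfold h
    rw [← w_inv (1 : K)]
    group
  rw [h1, w_conj_w one_ne_zero hs]
  unfold h
  congr 2
  ring

/-! ### The map to `SL₂(K)` -/

local notation "SL2" => Matrix.SpecialLinearGroup (Fin 2) K

/-- Upper unitriangular matrices. -/
def upM (t : K) : SL2 := ⟨!![1, t; 0, 1], by simp [Matrix.det_fin_two_of]⟩

/-- Lower unitriangular matrices. -/
def loM (t : K) : SL2 := ⟨!![1, 0; t, 1], by simp [Matrix.det_fin_two_of]⟩

@[simp] theorem upM_val (t : K) : ((upM t : SL2) : Matrix (Fin 2) (Fin 2) K) = !![1, t; 0, 1] := rfl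

@[simp] theorem loM_val (t : K) : ((loM t : SL2) : Matrix (Fin 2) (Fin 2) K) = !![1, 0; t, 1] := rfl

/-- The images of the generators. -/
def gen (p : Bool × K) : SL2 := if p.1 then upM p.2 else loM p.2

theorem gen_true (t : K) : gen (true, t) = upM t := rfl

theorem gen_false (t : K) : gen (false, t) = loM t := rfl

theorem sl2_ext {A B : SL2} (h00 : (A : Matrix (Fin 2) (Fin 2) K) 0 0 = (B : Matrix (Fin 2) (Fin 2) K) 0 0)
    (h01 : (A : Matrix (Fin 2) (Fin 2) K) 0 1 = (B : Matrix (Fin 2) (Fin 2) K) 0 1)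
    (h10 : (A : Matrix (Fin 2) (Fin 2) K) 1 0 = (B : Matrix (Fin 2) (Fin 2) K) 1 0)
    (h11 : (A : Matrix (Fin 2) (Fin 2) K) 1 1 = (B : Matrix (Fin 2) (Fin 2) K) 1 1) : A = B := by
  apply Subtype.ext
  ext i j
  fin_cases i <;> fin_cases j
  · exact h00
  · exact h01
  · exact h10
  · exact h11

theorem gen_add (b : Bool) (t u : K) : gen (b, t) * gen (b, u) = gen (b, t + u) := by
  cases b
  · rw [gen_false, gen_false, gen_false]
    apply sl2_ext <;>
      simp [Matrix.SpecialLinearGroup.coe_mul, Matrix.mul_apply, Fin.sum_univ_two, add_comm]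
  · rw [gen_true, gen_true, gen_true]
    apply sl2_ext <;>
      simp [Matrix.SpecialLinearGroup.coe_mul, Matrix.mul_apply, Fin.sum_univ_two, add_comm]

/-- the monomial matrices -/
def wM (t : K) (ht : t ≠ 0) : SL2 := ⟨!![0, t; -t⁻¹, 0], by simp [Matrix.det_fin_two_of, ht]⟩

@[simp] theorem wM_val (t : K) (ht : t ≠ 0) :
    ((wM t ht : SL2) : Matrix (Fin 2) (Fin 2) K) = !![0, t; -t⁻¹, 0] := rfl

theorem lift_wWord {t : K} (ht : t ≠ 0) : FreeGroup.lift (gen (K := K)) (wWord t) = wM t ht := by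
  unfold wWord
  simp only [map_mul, FreeGroup.lift_apply_of, gen_true, gen_false]
  apply Subtype.ext
  simp only [Matrix.SpecialLinearGroup.coe_mul, upM_val, loM_val, wM_val, Matrix.mul_fin_two]
  congr 1
  ext i j
  fin_cases i <;> fin_cases j <;>
    simp only [Fin.zero_eta, Fin.mk_one, Matrix.cons_val', Matrix.cons_val_zero, Matrix.cons_val_one,
      Matrix.cons_val_fin_one, Matrix.empty_val', Fin.isValue] <;> field_simp <;> ring

/-- Diagonal matrices of `SL₂`. -/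
def dgM (t : K) (ht : t ≠ 0) : SL2 := ⟨!![t, 0; 0, t⁻¹], by simp [Matrix.det_fin_two_of, ht]⟩

@[simp] theorem dgM_val (t : K) (ht : t ≠ 0) :
    ((dgM t ht : SL2) : Matrix (Fin 2) (Fin 2) K) = !![t, 0; 0, t⁻¹] := rfl

theorem lift_hWord {t : K} (ht : t ≠ 0) : FreeGroup.lift (gen (K := K)) (hWord t) = dgM t ht := by
  unfold hWord
  rw [map_mul, lift_wWord ht, lift_wWord (neg_ne_zero.mpr (one_ne_zero (α := K)))]
  apply Subtype.ext
  simp only [Matrix.SpecialLinearGroup.coe_mul, wM_val, dgM_val, Matrix.mul_fin_two]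
  congr 1
  ext i j
  fin_cases i <;> fin_cases j <;>
    simp only [Fin.zero_eta, Fin.mk_one, Matrix.cons_val', Matrix.cons_val_zero, Matrix.cons_val_one,
      Matrix.cons_val_fin_one, Matrix.empty_val', Fin.isValue] <;> simp

theorem dgM_mul {t u : K} (ht : t ≠ 0) (hu : u ≠ 0) :
    dgM t ht * dgM u hu = dgM (t * u) (mul_ne_zero ht hu) := by
  apply sl2_ext <;>
    simp [Matrix.SpecialLinearGroup.coe_mul, Matrix.mul_apply, Fin.sum_univ_two, mul_comm]

theorem wM_conj {t : K} (ht : t ≠ 0) (u : K) :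
    wM t ht * upM u = loM (-(t⁻¹ ^ 2 * u)) * wM t ht := by
  apply Subtype.ext
  simp only [Matrix.SpecialLinearGroup.coe_mul, upM_val, loM_val, wM_val, Matrix.mul_fin_two]
  congr 1
  ext i j
  fin_cases i <;> fin_cases j <;>
    simp only [Fin.zero_eta, Fin.mk_one, Matrix.cons_val', Matrix.cons_val_zero, Matrix.cons_val_one,
      Matrix.cons_val_fin_one, Matrix.empty_val', Fin.isValue] <;> field_simp <;> ring

theorem lift_gen_rels : ∀ r ∈ stRels K, FreeGroup.lift (gen (K := K)) r = 1 := by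
  rintro r ((⟨b, t, u, rfl⟩ | ⟨t, u, ht, rfl⟩) | ⟨t, u, ht, hu, rfl⟩)
  · simp only [map_mul, map_inv, FreeGroup.lift_apply_of]
    rw [gen_add, mul_inv_cancel]
  · simp only [map_mul, map_inv, FreeGroup.lift_apply_of]
    rw [lift_wWord ht, gen_true, gen_false, wM_conj ht u]
    group
  · simp only [map_mul, map_inv]
    rw [lift_hWord ht, lift_hWord hu, lift_hWord (mul_ne_zero ht hu), dgM_mul ht hu, mul_inv_cancel]

/-- The canonical homomorphism onto `SL₂(K)`. -/
def toSL : St K →* SL2 := PresentedGroup.toGroup lift_gen_rels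

theorem toSL_x (t : K) : toSL (xx t) = upM t := PresentedGroup.toGroup.of lift_gen_rels

theorem toSL_y (t : K) : toSL (yy t) = loM t := PresentedGroup.toGroup.of lift_gen_rels

theorem toSL_surjective : Function.Surjective (toSL (K := K)) := by
  rw [← MonoidHom.range_eq_top, eq_top_iff, ← Cfsg.Agent.Lib.H2.SL_closure_transvection,
    Subgroup.closure_le]
  rintro A ⟨i, j, hij, c, rfl⟩
  fin_cases i <;> fin_cases j
  · exact absurd rfl hij
  · refine ⟨xx c, ?_⟩
    rw [toSL_x]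
    apply sl2_ext <;> simp [Matrix.SpecialLinearGroup.transvection_coe, Matrix.single]
  · refine ⟨yy c, ?_⟩
    rw [toSL_y]
    apply sl2_ext <;> simp [Matrix.SpecialLinearGroup.transvection_coe, Matrix.single]
  · exact absurd rfl hij

theorem toSL_w {t : K} (ht : t ≠ 0) : toSL (ww t) = wM t ht := by
  have : toSL (ww t) = FreeGroup.lift (gen (K := K)) (wWord t) := by
    rw [← mk_wWord]
    rfl
  rw [this, lift_wWord ht]

theorem toSL_h {t : K} (ht : t ≠ 0) : toSL (h t) = dgM t ht := by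
  have : toSL (h t) = FreeGroup.lift (gen (K := K)) (hWord t) := by
    rw [← mk_hWord]
    rfl
  rw [this, lift_hWord ht]

/-! ### The Bruhat decomposition of the presented group -/

theorem h_mul_x {s : K} (hs : s ≠ 0) (u : K) : h s * xx u = xx (s ^ 2 * u) * h s := by
  rw [← h_conj_x hs u]
  group

theorem x_mul_h {s : K} (hs : s ≠ 0) (u : K) : xx u * h s = h s * xx (s⁻¹ ^ 2 * u) := by
  rw [h_mul_x hs]
  congr 2
  field_simp

theorem w_mul_h {t : K} (ht : t ≠ 0) : ww 1 * h t = h t⁻¹ * ww 1 := by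
  rw [← w_one_conj_h ht]
  group

theorem h_neg_one_sq : h (-1 : K) * h (-1) = 1 := by
  rw [← h_mul (neg_ne_zero.mpr one_ne_zero) (neg_ne_zero.mpr one_ne_zero)]
  have : (-1 : K) * -1 = 1 := by ring
  rw [this, h_one]

theorem w_one_sq : ww (1 : K) * ww 1 = h (-1) := by
  have h1 : h (-1 : K) = (ww 1)⁻¹ * (ww 1)⁻¹ := by
    unfold h
    rw [w_inv]
  have h2 := h_neg_one_sq (K := K)
  have h3 : (h (-1 : K))⁻¹ = h (-1) := inv_eq_of_mul_eq_one_right h2
  rw [← h3, h1, _root_.mul_inv_rev, inv_inv]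

theorem w_one_inv : (ww (1 : K))⁻¹ = h (-1) * ww 1 := by
  have h1 : h (-1 : K) = (ww 1)⁻¹ * (ww 1)⁻¹ := by
    unfold h
    rw [w_inv]
  rw [h1]
  group

theorem w_x_w {e : K} (he : e ≠ 0) :
    ww 1 * xx e * ww 1 = xx (-e⁻¹) * h (-e⁻¹) * ww 1 * xx (-e⁻¹) := by
  have h1 : ww (1 : K) * xx e * (ww 1)⁻¹ = yy (-e) := by
    rw [w_conj_x one_ne_zero]
    congr 1
    simp
  have h2 : yy (-e) = xx (-e⁻¹) * (h e⁻¹ * ww 1) * xx (-e⁻¹) := by
    rw [y_eq (neg_ne_zero.mpr he), ← w_eq_h]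
    have e1 : (-e)⁻¹ = -e⁻¹ := by field_simp
    rw [e1, neg_neg]
  have hm1 : (-1 : K) ≠ 0 := neg_ne_zero.mpr one_ne_zero
  have h3 : xx (-e⁻¹) * h (-1 : K) = h (-1) * xx (-e⁻¹) := by
    rw [h_mul_x hm1]
    congr 2
    ring
  have h4 : ww (1 : K) * h (-1) = h (-1) * ww 1 := by
    rw [w_mul_h hm1]
    congr 2
    field_simp
  calc ww 1 * xx e * ww 1 = (ww 1 * xx e * (ww 1)⁻¹) * (ww 1 * ww 1) := by group
    _ = xx (-e⁻¹) * (h e⁻¹ * ww 1) * xx (-e⁻¹) * h (-1) := by rw [h1, h2, w_one_sq]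
    _ = xx (-e⁻¹) * h e⁻¹ * ww 1 * (xx (-e⁻¹) * h (-1)) := by group
    _ = xx (-e⁻¹) * h e⁻¹ * (ww 1 * h (-1)) * xx (-e⁻¹) := by rw [h3]; group
    _ = xx (-e⁻¹) * (h e⁻¹ * h (-1)) * ww 1 * xx (-e⁻¹) := by rw [h4]; group
    _ = xx (-e⁻¹) * h (-e⁻¹) * ww 1 * xx (-e⁻¹) := by
        rw [← h_mul (inv_ne_zero he) hm1]
        congr 4
        ring

/-- The small cell. -/
def cellB (p : K × Kˣ) : St K := xx p.1 * h (p.2 : K)

/-- The big cell. -/
def cellW (p : K × Kˣ × K) : St K := xx p.1 * h (p.2.1 : K) * ww 1 * xx p.2.2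

/-- The union of the two cells. -/
def cells (K : Type*) [Field K] : Set (St K) := Set.range (cellB (K := K)) ∪ Set.range (cellW (K := K))

theorem cellB_mem (a : K) {t : K} (ht : t ≠ 0) : xx a * h t ∈ cells K :=
  Or.inl ⟨(a, Units.mk0 t ht), rfl⟩

theorem cellW_mem (a : K) {t : K} (ht : t ≠ 0) (b : K) : xx a * h t * ww 1 * xx b ∈ cells K :=
  Or.inr ⟨(a, Units.mk0 t ht, b), rfl⟩

theorem x_mul_mem (c : K) {g : St K} (hg : g ∈ cells K) : xx c * g ∈ cells K := by
  rcases hg with ⟨⟨a, t⟩, rfl⟩ | ⟨⟨a, t, b⟩, rfl⟩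
  · have : xx c * cellB (a, t) = xx (c + a) * h (t : K) := by
      unfold cellB
      rw [← X_add, mul_assoc]
    rw [this]
    exact cellB_mem _ t.ne_zero
  · have : xx c * cellW (a, t, b) = xx (c + a) * h (t : K) * ww 1 * xx b := by
      unfold cellW
      rw [← X_add]
      group
    rw [this]
    exact cellW_mem _ t.ne_zero _

theorem h_mul_mem {s : K} (hs : s ≠ 0) {g : St K} (hg : g ∈ cells K) : h s * g ∈ cells K := by
  rcases hg with ⟨⟨a, t⟩, rfl⟩ | ⟨⟨a, t, b⟩, rfl⟩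
  · have : h s * cellB (a, t) = xx (s ^ 2 * a) * h (s * (t : K)) := by
      unfold cellB
      rw [h_mul hs t.ne_zero, ← mul_assoc, h_mul_x hs, mul_assoc]
    rw [this]
    exact cellB_mem _ (mul_ne_zero hs t.ne_zero)
  · have : h s * cellW (a, t, b) = xx (s ^ 2 * a) * h (s * (t : K)) * ww 1 * xx b := by
      unfold cellW
      rw [h_mul hs t.ne_zero]
      calc h s * (xx a * h (t : K) * ww 1 * xx b) = (h s * xx a) * h (t : K) * ww 1 * xx b := by group
        _ = xx (s ^ 2 * a) * (h s * h (t : K)) * ww 1 * xx b := by rw [h_mul_x hs]; group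
    rw [this]
    exact cellW_mem _ (mul_ne_zero hs t.ne_zero) _

theorem w_mul_mem {g : St K} (hg : g ∈ cells K) : ww 1 * g ∈ cells K := by
  rcases hg with ⟨⟨a, t⟩, rfl⟩ | ⟨⟨a, t, b⟩, rfl⟩
  · have ht := t.ne_zero
    have : ww 1 * cellB (a, t) = xx 0 * h ((t : K)⁻¹) * ww 1 * xx ((t : K)⁻¹ ^ 2 * a) := by
      unfold cellB
      rw [X_zero, one_mul]
      calc ww 1 * (xx a * h (t : K)) = ww 1 * (h (t : K) * xx ((t : K)⁻¹ ^ 2 * a)) := by
            rw [x_mul_h ht]
        _ = (ww 1 * h (t : K)) * xx ((t : K)⁻¹ ^ 2 * a) := by group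
        _ = h ((t : K)⁻¹) * ww 1 * xx ((t : K)⁻¹ ^ 2 * a) := by rw [w_mul_h ht]
    rw [this]
    exact cellW_mem _ (inv_ne_zero ht) _
  · have ht := t.ne_zero
    have hm1 : (-1 : K) ≠ 0 := neg_ne_zero.mpr one_ne_zero
    have hstep : ww 1 * cellW (a, t, b) =
        h ((t : K)⁻¹) * (ww 1 * xx ((t : K)⁻¹ ^ 2 * a) * ww 1) * xx b := by
      unfold cellW
      calc ww 1 * (xx a * h (t : K) * ww 1 * xx b)
          = ww 1 * (h (t : K) * xx ((t : K)⁻¹ ^ 2 * a)) * ww 1 * xx b := by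
            rw [← x_mul_h ht]; group
        _ = (ww 1 * h (t : K)) * xx ((t : K)⁻¹ ^ 2 * a) * ww 1 * xx b := by group
        _ = h ((t : K)⁻¹) * (ww 1 * xx ((t : K)⁻¹ ^ 2 * a) * ww 1) * xx b := by
            rw [w_mul_h ht]; group
    rw [hstep]
    by_cases ha : a = 0
    · subst ha
      rw [mul_zero, X_zero, mul_one, w_one_sq, ← h_mul (inv_ne_zero ht) hm1,
        h_mul_x (mul_ne_zero (inv_ne_zero ht) hm1)]
      exact cellB_mem _ (mul_ne_zero (inv_ne_zero ht) hm1)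
    · have he : (t : K)⁻¹ ^ 2 * a ≠ 0 := mul_ne_zero (pow_ne_zero 2 (inv_ne_zero ht)) ha
      set e : K := (t : K)⁻¹ ^ 2 * a with hedef
      rw [w_x_w he]
      have hne : -e⁻¹ ≠ 0 := neg_ne_zero.mpr (inv_ne_zero he)
      have : h ((t : K)⁻¹) * (xx (-e⁻¹) * h (-e⁻¹) * ww 1 * xx (-e⁻¹)) * xx b =
          xx ((t : K)⁻¹ ^ 2 * -e⁻¹) * h ((t : K)⁻¹ * -e⁻¹) * ww 1 * xx (-e⁻¹ + b) := by
        rw [h_mul (inv_ne_zero ht) hne, ← X_add]
        calc h ((t : K)⁻¹) * (xx (-e⁻¹) * h (-e⁻¹) * ww 1 * xx (-e⁻¹)) * xx b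
            = (h ((t : K)⁻¹) * xx (-e⁻¹)) * h (-e⁻¹) * ww 1 * xx (-e⁻¹) * xx b := by group
          _ = xx ((t : K)⁻¹ ^ 2 * -e⁻¹) * (h ((t : K)⁻¹) * h (-e⁻¹)) * ww 1 * (xx (-e⁻¹) * xx b) := by
              rw [h_mul_x (inv_ne_zero ht)]; group
      rw [this]
      exact cellW_mem _ (mul_ne_zero (inv_ne_zero ht) hne) _

theorem y_mul_mem (c : K) {g : St K} (hg : g ∈ cells K) : yy c * g ∈ cells K := by
  have hm1 : (-1 : K) ≠ 0 := neg_ne_zero.mpr one_ne_zero
  have h1 : yy c = ww 1 * xx (-c) * (ww 1)⁻¹ := by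
    rw [w_conj_x one_ne_zero]
    congr 1
    simp
  have : yy c * g = ww 1 * (xx (-c) * (h (-1) * (ww 1 * g))) := by
    rw [h1, w_one_inv]
    group
  rw [this]
  exact w_mul_mem (x_mul_mem _ (h_mul_mem hm1 (w_mul_mem hg)))

theorem X_mul_mem (b : Bool) (c : K) {g : St K} (hg : g ∈ cells K) : X b c * g ∈ cells K := by
  cases b
  · exact y_mul_mem c hg
  · exact x_mul_mem c hg

theorem one_mem_cells : (1 : St K) ∈ cells K := by
  have := cellB_mem (K := K) 0 (one_ne_zero (α := K))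
  rwa [X_zero, h_one, one_mul] at this

theorem cells_eq_univ : cells K = Set.univ := by
  -- the stabiliser of `cells K` under left multiplication is a subgroup containing the generators
  let Stab : Subgroup (St K) :=
    { carrier := {z | (∀ g ∈ cells K, z * g ∈ cells K) ∧ (∀ g ∈ cells K, z⁻¹ * g ∈ cells K)}
      mul_mem' := by
        rintro a b ⟨ha1, ha2⟩ ⟨hb1, hb2⟩
        refine ⟨fun g hg => ?_, fun g hg => ?_⟩
        · rw [mul_assoc]
          exact ha1 _ (hb1 _ hg)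
        · rw [_root_.mul_inv_rev, mul_assoc]
          exact hb2 _ (ha2 _ hg)
      one_mem' := by
        refine ⟨fun g hg => ?_, fun g hg => ?_⟩
        · rwa [one_mul]
        · rwa [inv_one, one_mul]
      inv_mem' := by
        rintro a ⟨ha1, ha2⟩
        refine ⟨ha2, fun g hg => ?_⟩
        rw [inv_inv]
        exact ha1 g hg }
  have hgen : ∀ j : Bool × K, (PresentedGroup.of j : St K) ∈ Stab := by
    rintro ⟨b, c⟩
    refine ⟨fun g hg => X_mul_mem b c hg, fun g hg => ?_⟩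
    have : (PresentedGroup.of (b, c) : St K)⁻¹ = X b (-c) := X_neg b c
    rw [this]
    exact X_mul_mem b (-c) hg
  apply Set.eq_univ_of_forall
  intro z
  have hz := PresentedGroup.generated_by (stRels K) Stab hgen z
  have := hz.1 1 one_mem_cells
  rwa [mul_one] at this

/-! ### Injectivity -/

theorem toSL_cellB (a : K) (t : Kˣ) :
    ((toSL (cellB (a, t)) : SL2) : Matrix (Fin 2) (Fin 2) K) = !![(t : K), a * (t : K)⁻¹; 0, (t : K)⁻¹] := by
  unfold cellB
  rw [map_mul, toSL_x, toSL_h t.ne_zero]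
  simp only [Matrix.SpecialLinearGroup.coe_mul, upM_val, dgM_val, Matrix.mul_fin_two]
  congr 1
  ext i j
  fin_cases i <;> fin_cases j <;>
    simp only [Fin.zero_eta, Fin.mk_one, Matrix.cons_val', Matrix.cons_val_zero, Matrix.cons_val_one,
      Matrix.cons_val_fin_one, Matrix.empty_val', Fin.isValue] <;> simp

theorem toSL_cellW_10 (a : K) (t : Kˣ) (b : K) :
    ((toSL (cellW (a, t, b)) : SL2) : Matrix (Fin 2) (Fin 2) K) 1 0 = -(t : K)⁻¹ := by
  unfold cellW
  rw [map_mul, map_mul, map_mul, toSL_x, toSL_x, toSL_h t.ne_zero, toSL_w (one_ne_zero (α := K))]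
  simp only [Matrix.SpecialLinearGroup.coe_mul, upM_val, dgM_val, wM_val, Matrix.mul_fin_two]
  simp

theorem toSL_injective : Function.Injective (toSL (K := K)) := by
  rw [injective_iff_map_eq_one]
  intro g hg
  have hgc : g ∈ cells K := by rw [cells_eq_univ]; trivial
  rcases hgc with ⟨⟨a, t⟩, rfl⟩ | ⟨⟨a, t, b⟩, rfl⟩
  · have h1 := toSL_cellB a t
    rw [hg] at h1
    have h00 := congrFun (congrFun h1 0) 0
    have h01 := congrFun (congrFun h1 0) 1
    simp at h00 h01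
    have ht : (t : K) = 1 := h00.symm
    have ha : a = 0 := h01
    unfold cellB
    simp only [ht, ha, X_zero, h_one, one_mul]
  · have h1 := toSL_cellW_10 a t b
    rw [hg] at h1
    simp at h1

/-- **The rank-one Steinberg presentation** of `SL₂` over any field. -/
theorem toSL_bijective : Function.Bijective (toSL (K := K)) := ⟨toSL_injective, toSL_surjective⟩

/-- **Universal property**: a pair of one-parameter families in a group `Γ` satisfying the
relations (A), (B'), (C) defines a homomorphism from `SL₂(K)`. -/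
theorem exists_hom_of_relations {Γ : Type*} [Group Γ] (x y : K → Γ)
    (hx : ∀ t u, x t * x u = x (t + u)) (hy : ∀ t u, y t * y u = y (t + u))
    (hB : ∀ t u, t ≠ 0 → (x t * y (-t⁻¹) * x t) * x u * (x t * y (-t⁻¹) * x t)⁻¹ = y (-(t⁻¹ ^ 2 * u)))
    (hC : ∀ t u, t ≠ 0 → u ≠ 0 →
      ((x t * y (-t⁻¹) * x t) * (x (-1) * y (-(-1 : K)⁻¹) * x (-1))) *
        ((x u * y (-u⁻¹) * x u) * (x (-1) * y (-(-1 : K)⁻¹) * x (-1))) =
      (x (t * u) * y (-(t * u)⁻¹) * x (t * u)) * (x (-1) * y (-(-1 : K)⁻¹) * x (-1))) :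
    ∃ φ : SL2 →* Γ, (∀ t, φ (upM t) = x t) ∧ (∀ t, φ (loM t) = y t) := by
  let f : Bool × K → Γ := fun p => if p.1 then x p.2 else y p.2
  have hft : ∀ t, f (true, t) = x t := fun t => rfl
  have hff : ∀ t, f (false, t) = y t := fun t => rfl
  have hw : ∀ t : K, FreeGroup.lift f (wWord t) = x t * y (-t⁻¹) * x t := by
    intro t
    unfold wWord
    simp only [map_mul, FreeGroup.lift_apply_of, hft, hff]
  have hrel : ∀ r ∈ stRels K, FreeGroup.lift f r = 1 := by
    rintro r ((⟨b, t, u, rfl⟩ | ⟨t, u, ht, rfl⟩) | ⟨t, u, ht, hu, rfl⟩)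
    · simp only [map_mul, map_inv, FreeGroup.lift_apply_of]
      cases b
      · rw [hff, hff, hff, hy, mul_inv_cancel]
      · rw [hft, hft, hft, hx, mul_inv_cancel]
    · simp only [map_mul, map_inv, FreeGroup.lift_apply_of, hw, hft, hff]
      rw [hB t u ht, mul_inv_cancel]
    · unfold hWord
      simp only [map_mul, map_inv, hw]
      rw [hC t u ht hu, mul_inv_cancel]
  let ψ : St K →* Γ := PresentedGroup.toGroup hrel
  let e : St K ≃* SL2 := MulEquiv.ofBijective toSL toSL_bijective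
  refine ⟨ψ.comp e.symm.toMonoidHom, fun t => ?_, fun t => ?_⟩
  · have h1 : e.symm (upM t) = xx t := by
      rw [MulEquiv.symm_apply_eq]
      exact (toSL_x t).symm
    show ψ (e.symm (upM t)) = x t
    rw [h1]
    exact PresentedGroup.toGroup.of hrel
  · have h1 : e.symm (loM t) = yy t := by
      rw [MulEquiv.symm_apply_eq]
      exact (toSL_y t).symm
    show ψ (e.symm (loM t)) = y t
    rw [h1]
    exact PresentedGroup.toGroup.of hrel

/-- `SL₂(K)` is generated by the elementary matrices. -/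
theorem closure_up_lo :
    Subgroup.closure (Set.range (upM (K := K)) ∪ Set.range (loM (K := K))) = ⊤ := by
  rw [eq_top_iff]
  intro A _
  obtain ⟨g, rfl⟩ := toSL_surjective A
  have hgen : ∀ j : Bool × K, (PresentedGroup.of j : St K) ∈
      (Subgroup.closure (Set.range (upM (K := K)) ∪ Set.range (loM (K := K)))).comap toSL := by
    rintro ⟨b, t⟩
    rw [Subgroup.mem_comap]
    apply Subgroup.subset_closure
    cases b
    · right
      exact ⟨t, (toSL_y t).symm⟩
    · left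
      exact ⟨t, (toSL_x t).symm⟩
  have hmem := PresentedGroup.generated_by (stRels K) _ hgen g
  exact hmem

end Cfsg.Agent.Lib.H12.StPresG
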