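import Mathlib
import Cfsg.Agent.Lib.H29.ChevGen16
import Cfsg.Agent.Lib.H12.SL2PresG

/-!
# The homomorphism `SL₂(F) → ⟨X_r, X_{-r}⟩` for any root of a Chevalley datum (helper12)
-/

set_option autoImplicit false
set_option linter.unusedSectionVars false

namespace Cfsg.Agent.Lib.H12.ChevSL2

open Cfsg.Lie Cfsg.Agent.Lib.H29.Chev Matrix

variable {D : ChevalleyDatum} {fd : FD} {fx : FX} {F : Type*} [Field F]
variable (C : Cert2 D fd fx)
include C

/-- `w_r(t)` as an invertible matrix -/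
noncomputable def wG (r : ℕ) (t : F) : GL D.Idx F :=
  C.xA r t * C.xA (fd.n - 1 - r) (-t⁻¹) * C.xA r t

theorem wG_val (r : ℕ) (hr : r < fd.n) (t : F) :
    ((wG C r t : GL D.Idx F) : Matrix D.Idx D.Idx F) = D.nMat F r t := by
  have hr' : fd.n - 1 - r < fd.n := by omega
  unfold wG
  rw [Units.val_mul, Units.val_mul, C.xA_val, C.xA_val,
    nMat_eq C.agrees C.chk.add C.chk.pref C.chk.nn r hr, x_eq_XR C.agrees r hr,
    x_eq_XR C.agrees _ hr']

theorem nMat_neg_one_mul_nF (r : ℕ) (hr : r < fd.n) : D.nMat F r (-1) * nF D fd fx F r = 1 :=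
  _root_.mul_eq_one_comm.mp (nF_mul_nMat_neg (F := F) C.agrees C.chk r hr)

/-- `w_r(t) = h_r(t) n_r` -/
theorem wG_eq (r : ℕ) (hr : r < fd.n) (t : F) (ht : t ≠ 0) :
    wG C r t = TdG (hExp D fd fx r) t ht * C.nG r hr := by
  apply gl_ext
  rw [wG_val C r hr, Units.val_mul, C.nG_val]
  have hh : ((TdG (hExp D fd fx r) t ht : GL D.Idx F) : Matrix D.Idx D.Idx F) = D.hMat F r t :=
    (C.hMat_eq r hr t ht).symm
  rw [hh, hMat_mul C.agrees, Matrix.mul_assoc, nMat_neg_one_mul_nF C r hr, Matrix.mul_one]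

/-- `h_r(t) = w_r(t) w_r(-1)` -/
theorem wG_mul_wG_neg_one (r : ℕ) (hr : r < fd.n) (t : F) (ht : t ≠ 0) :
    wG C r t * wG C r (-1) = TdG (hExp D fd fx r) t ht := by
  apply gl_ext
  rw [Units.val_mul, wG_val C r hr, wG_val C r hr, ← hMat_mul C.agrees]
  exact C.hMat_eq r hr t ht

theorem pr_neg_self (r : ℕ) (hr : r < fd.n) : fd.pr (fd.n - 1 - r) r = -2 := by
  have hr' : fd.n - 1 - r < fd.n := by omega
  rw [fd.pr_lin C.chk.lin _ r hr', fd.omr_neg C.chk.pref _ r hr, ← fd.pr_lin C.chk.lin r r hr,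
    C.pr_self r hr]

/-- `h_r(c) x_s(u) h_r(c)⁻¹ = x_s(c^{⟨s, r^∨⟩} u)` -/
theorem TdG_conj_x (r s : ℕ) (hr : r < fd.n) (hs : s < fd.n) (c : F) (hc : c ≠ 0) (u : F) :
    TdG (hExp D fd fx r) c hc * C.xA s u * (TdG (hExp D fd fx r) c hc)⁻¹ =
      C.xA s (c ^ (fd.pr s r) * u) := by
  apply gl_conj_eq
  have hh : ((TdG (hExp D fd fx r) c hc : GL D.Idx F) : Matrix D.Idx D.Idx F) = D.hMat F r c :=
    (C.hMat_eq r hr c hc).symm
  rw [hh, C.xA_val, C.xA_val]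
  exact C.hMat_mul_x r s hr hs c hc u

/-- `n_r x_r(t) n_r⁻¹ = x_{-r}(-t)` -/
theorem nG_conj_self' (r : ℕ) (hr : r < fd.n) (t : F) :
    C.nG r hr * C.xA r t * (C.nG r hr)⁻¹ = C.xA (fd.n - 1 - r) (-t) := by
  obtain ⟨e1, e2, e3⟩ := fd.neg_spec C.neg r hr
  rw [C.nG_conj_x r r hr hr e3 t, e1, e2]
  congr 1
  push_cast
  ring

/-- relation (B') -/
theorem wG_conj_x (r : ℕ) (hr : r < fd.n) (t u : F) (ht : t ≠ 0) :
    wG C r t * C.xA r u * (wG C r t)⁻¹ = C.xA (fd.n - 1 - r) (-(t⁻¹ ^ 2 * u)) := by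
  have hr' : fd.n - 1 - r < fd.n := by omega
  rw [wG_eq C r hr t ht]
  have e : TdG (hExp D fd fx r) t ht * C.nG r hr * C.xA r u * (TdG (hExp D fd fx r) t ht * C.nG r hr)⁻¹ =
      TdG (hExp D fd fx r) t ht * (C.nG r hr * C.xA r u * (C.nG r hr)⁻¹) *
        (TdG (hExp D fd fx r) t ht)⁻¹ := by group
  rw [e, nG_conj_self' C r hr, TdG_conj_x C r _ hr hr' t ht, pr_neg_self C r hr]
  congr 1
  rw [show (-2 : ℤ) = -(2 : ℤ) from rfl, _root_.zpow_neg, zpow_ofNat, inv_pow]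
  ring

/-- relation (C) -/
theorem hG_mul (r : ℕ) (hr : r < fd.n) (t u : F) (ht : t ≠ 0) (hu : u ≠ 0) :
    (wG C r t * wG C r (-1)) * (wG C r u * wG C r (-1)) = wG C r (t * u) * wG C r (-1) := by
  rw [wG_mul_wG_neg_one C r hr t ht, wG_mul_wG_neg_one C r hr u hu,
    wG_mul_wG_neg_one C r hr (t * u) (mul_ne_zero ht hu)]
  apply gl_ext
  rw [Units.val_mul]
  exact Td_mul_param _ t u

theorem rootSubgroup_eq (r : ℕ) :
    D.rootSubgroup F r = Subgroup.closure (Set.range fun t : F => C.xA r t) := by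
  unfold ChevalleyDatum.rootSubgroup
  congr 1
  ext g
  constructor
  · rintro ⟨t, hg⟩
    exact ⟨t, (gl_ext (by rw [hg, C.xA_val])).symm⟩
  · rintro ⟨t, rfl⟩
    exact ⟨t, C.xA_val r t⟩

open Cfsg.Agent.Lib.H12 in
/-- **The rank-one subgroup of a root**: a homomorphism `SL₂(F) → GL` with image `⟨X_r, X_{-r}⟩`. -/
theorem exists_hom (r : ℕ) (hr : r < fd.n) :
    ∃ φ : Matrix.SpecialLinearGroup (Fin 2) F →* GL D.Idx F,
      φ.range = D.rootSubgroup F r ⊔ D.rootSubgroup F (D.neg r) ∧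
      ∀ (g : Matrix.SpecialLinearGroup (Fin 2) F) (t : F),
        ((g : Matrix (Fin 2) (Fin 2) F) = !![1, t; 0, 1] →
          ((φ g : GL D.Idx F) : Matrix D.Idx D.Idx F) = D.x F r t) ∧
        ((g : Matrix (Fin 2) (Fin 2) F) = !![1, 0; t, 1] →
          ((φ g : GL D.Idx F) : Matrix D.Idx D.Idx F) = D.x F (D.neg r) t) := by
  have hneg : D.neg r = fd.n - 1 - r := C.agrees.neg_eq' r hr
  obtain ⟨φ, hφx, hφy⟩ := StPresG.exists_hom_of_relations (K := F)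
    (fun t => C.xA r t) (fun t => C.xA (fd.n - 1 - r) t)
    (fun t u => C.xA_mul r t u) (fun t u => C.xA_mul _ t u)
    (fun t u ht => wG_conj_x C r hr t u ht)
    (fun t u ht hu => hG_mul C r hr t u ht hu)
  refine ⟨φ, ?_, fun g t => ⟨fun hg => ?_, fun hg => ?_⟩⟩
  · rw [MonoidHom.range_eq_map, ← StPresG.closure_up_lo, MonoidHom.map_closure, Set.image_union,
      Subgroup.closure_union, hneg, rootSubgroup_eq C r, rootSubgroup_eq C (fd.n - 1 - r)]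
    congr 2
    · ext g
      constructor
      · rintro ⟨_, ⟨t, rfl⟩, rfl⟩
        exact ⟨t, (hφx t).symm⟩
      · rintro ⟨t, rfl⟩
        exact ⟨_, ⟨t, rfl⟩, hφx t⟩
    · ext g
      constructor
      · rintro ⟨_, ⟨t, rfl⟩, rfl⟩
        exact ⟨t, (hφy t).symm⟩
      · rintro ⟨t, rfl⟩
        exact ⟨_, ⟨t, rfl⟩, hφy t⟩
  · have : g = StPresG.upM t := Subtype.ext hg
    rw [this, hφx, C.xA_val]
  · have : g = StPresG.loM t := Subtype.ext hg
    rw [this, hφy, C.xA_val, hneg]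

end Cfsg.Agent.Lib.H12.ChevSL2
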