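import Mathlib
import Cfsg.Prelude.Def_ParabolicCharacters
import Cfsg.Agent.Lib.H29.ChevGen25
import Cfsg.Agent.Lib.H12.BNStB

/-!
# The Steinberg character of a Chevalley group as the alternating sum of a (B,N)-pair (helper12)
-/

set_option autoImplicit false
set_option linter.unusedSectionVars false

namespace Cfsg.Agent.Lib.H12.ChevSt

open Cfsg.Lie Cfsg.Agent.Lib.H29.Chev Cfsg.Agent.Lib.H12

variable {D : ChevalleyDatum} {fd : FD} {fx : FX} {fc : FC} {F : Type*} [Field F]

open Classical in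
/-- the fundamental `n_{p_i}` as an element of the Chevalley group -/
noncomputable def eS (D : ChevalleyDatum) (F : Type*) [Field F] (i : ℕ) : ↥(D.group F) :=
  if h : ∃ n : ↥(D.group F), ((n : GL D.Idx F) : Matrix D.Idx D.Idx F) = D.nMat F (D.simple i) 1
  then h.choose else 1

theorem eS_val {i : ℕ} (h : ∃ n : ↥(D.group F),
    ((n : GL D.Idx F) : Matrix D.Idx D.Idx F) = D.nMat F (D.simple i) 1) :
    ((eS D F i : GL D.Idx F) : Matrix D.Idx D.Idx F) = D.nMat F (D.simple i) 1 := by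
  unfold eS
  rw [dif_pos h]
  exact h.choose_spec

theorem eq_eS {i : ℕ} (n : ↥(D.group F))
    (hn : ((n : GL D.Idx F) : Matrix D.Idx D.Idx F) = D.nMat F (D.simple i) 1) : eS D F i = n := by
  apply Subtype.ext
  apply Units.ext
  rw [eS_val ⟨n, hn⟩, hn]

variable (C : Cert6 D fd fx fc)
include C

theorem exists_nS {i : ℕ} (hi : i < D.rank) : ∃ n : ↥(D.group F),
    ((n : GL D.Idx F) : Matrix D.Idx D.Idx F) = D.nMat F (D.simple i) 1 := by
  have hi' : i < fd.l := by rw [← C.c2.rank_eq]; exact hi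
  refine ⟨⟨C.c2.nG (fd.simples.getD i 0) (C.c2.simple_lt i hi'),
    C.c2.monomial_le_group (C.c2.nG_mem_monomial _ _)⟩, ?_⟩
  change ((C.c2.nG (F := F) (fd.simples.getD i 0) (C.c2.simple_lt i hi') : GL D.Idx F) :
    Matrix D.Idx D.Idx F) = _
  rw [C.c2.nG_val', C.c2.agrees.simple_eq]

theorem image_eS : eS D F '' ((Finset.range D.rank : Finset ℕ) : Set ℕ) = (C.bnPair F).S := by
  rw [Cert6.bnPair_S]
  ext n
  constructor
  · rintro ⟨i, hi, rfl⟩
    rw [Finset.coe_range, Set.mem_Iio] at hi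
    exact ⟨i, hi, eS_val (exists_nS C hi)⟩
  · rintro ⟨i, hi, hn⟩
    exact ⟨i, by rw [Finset.coe_range, Set.mem_Iio]; exact hi, eq_eS n hn⟩

theorem parabolicIn_eq {J : Finset ℕ} (hJ : J ⊆ Finset.range D.rank) :
    D.parabolicIn F J = (C.bnPair F).parabolic (eS D F '' (J : Set ℕ)) := by
  unfold ChevalleyDatum.parabolicIn ChevalleyDatum.parabolicSubgroup Cfsg.BNPair.parabolic
  rw [Cert6.bnPair_B]
  have hT : {g : GL D.Idx F | ∃ j ∈ (J : Set ℕ), j < D.rank ∧
      (g : Matrix D.Idx D.Idx F) = D.nMat F (D.simple j) 1} =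
      (D.group F).subtype '' (eS D F '' (J : Set ℕ)) := by
    ext g
    constructor
    · rintro ⟨j, hj, hjr, hg⟩
      refine ⟨eS D F j, ⟨j, hj, rfl⟩, ?_⟩
      apply Units.ext
      rw [hg]
      exact eS_val (exists_nS C hjr)
    · rintro ⟨n, ⟨j, hj, rfl⟩, rfl⟩
      have hjr : j < D.rank := Finset.mem_range.mp (hJ hj)
      exact ⟨j, hj, hjr, eS_val (exists_nS C hjr)⟩
  rw [hT, ← MonoidHom.map_closure]
  conv_lhs => rw [← Subgroup.map_subgroupOf_eq_of_le (C.c2.borel_le_group (F := F))]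
  rw [← Subgroup.map_sup]
  exact Subgroup.comap_map_eq_self_of_injective (Subgroup.subtype_injective _) _

theorem steinberg_eq :
    D.steinbergCharacter F = BNSt.St (C.bnPair F) (Finset.range D.rank) (eS D F) := by
  funext g
  unfold ChevalleyDatum.steinbergCharacter BNSt.St
  apply Finset.sum_congr rfl
  intro J hJ
  rw [parabolicIn_eq C (Finset.mem_powerset.mp hJ)]

theorem isIrrCharacter_steinberg [Fintype F] :
    Cfsg.IsIrrCharacter ↥(D.group F) (D.steinbergCharacter F) := by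
  classical
  haveI : Fintype ↥(D.group F) := Fintype.ofFinite _
  rw [steinberg_eq C]
  exact BNSt.isIrrCharacter_St (C.bnPair F) (image_eS C)

end Cfsg.Agent.Lib.H12.ChevSt
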