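import Mathlib
import Cfsg.Agent.Lib.H29.ChevGen28
import Cfsg.Agent.Lib.H12.ChevStA
import Cfsg.Agent.Lib.H12.BNStE

/-!
# The restriction of the Steinberg character of a Chevalley group to `B` (helper12)
-/

set_option autoImplicit false
set_option linter.unusedSectionVars false

namespace Cfsg.Agent.Lib.H12.ChevSt

open Cfsg.Lie Cfsg.Agent.Lib.H29.Chev Cfsg.Agent.Lib.H12 Cfsg.Agent.Lib.H2 Cfsg.Agent
  Cfsg.Agent.Lib.H2.CoxExch

variable {D : ChevalleyDatum} {fd : FD} {fx : FX} {fc : FC} {F : Type*} [Field F]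

variable (C : Cert6 D fd fx fc)
include C

/-- an element of `N` conjugating `U` onto `V` makes every positive root negative -/
theorem neg_of_conj (n₀ : GL D.Idx F)
    (hUV : (D.posUnipotent F).map (MulAut.conj n₀).toMonoidHom = D.negUnipotent F)
    (π : ℕ → ℕ) (hπ : C.c2.Perm n₀ π) (r : ℕ) (hr : r < fd.n) (hpos : fd.n / 2 ≤ r) :
    π r < fd.n / 2 := by
  by_contra hpos'
  obtain ⟨k1, _, c, k3⟩ := hπ r hr
  have h4 : n₀ * C.c2.xA r (1 : F) * n₀⁻¹ ∈ D.negUnipotent F := by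
    rw [← hUV]
    refine ⟨C.c2.xA r 1, ?_, ?_⟩
    · rw [C.c2.xA_of_lt r hr]
      exact C.c2.xG_mem_pos r hr hpos 1
    · simp [MulAut.conj_apply]
  rw [k3] at h4
  have h5 : C.c2.xA (π r) (c * 1) ∈ D.borelSubgroup F ⊓ D.negUnipotent F :=
    Subgroup.mem_inf.mpr ⟨C.xA_pos_mem_borel _ k1 (by omega) _, h4⟩
  rw [C.c2.borel_inf_neg, Subgroup.mem_bot] at h5
  have h6 : C.c2.xA r (1 : F) = 1 := by
    have e := congrArg (fun g => n₀⁻¹ * g * n₀) (k3 1)
    rw [h5] at e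
    simp only [mul_one, inv_mul_cancel] at e
    rw [← e]; group
  exact one_ne_zero (C.xA_eq_one r hr (1 : F) h6)

/-- such an element represents the longest element of the Weyl group -/
theorem full_of_conj (n₀ : ↥(D.group F)) (hn₀ : n₀ ∈ (C.bnPair F).N)
    (hUV : (D.posUnipotent F).map (MulAut.conj (n₀ : GL D.Idx F)).toMonoidHom =
      D.negUnipotent F) :
    CoxD.Full (S0320.sg (C.bnPair F)) (BNSt.mkW (C.bnPair F) n₀ hn₀) := by
  intro t
  rcases CoxD.len_mul_simple_cases (BNSt.sg_exch (C.bnPair F)) (BNSt.sg_surj (C.bnPair F)) t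
    (BNSt.mkW (C.bnPair F) n₀ hn₀) with h | h
  · exfalso
    have htN : (t : ↥(D.group F)) ∈ (C.bnPair F).N := (C.bnPair F).subset t.2
    rw [BNSt.sg_eq, ← BNSt.mkW_mul (C.bnPair F) n₀ t hn₀ htN, BNSt.len_mkW, BNSt.len_mkW] at h
    have htS : ((t : ↥(D.group F)) : GL D.Idx F) ∈ SSet D F := t.2
    obtain ⟨i, hi, hti⟩ := C.eq_nG_of_SSet _ htS
    have hn₀M : (n₀ : GL D.Idx F) ∈ D.monomialSubgroup F := Subgroup.mem_subgroupOf.mp hn₀
    obtain ⟨⟨π, hπ⟩, -⟩ := C.perm_of_mem _ hn₀M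
    have h1 := C.pos_of_len i hi n₀ t hn₀ hti h π hπ
    have h2 := neg_of_conj C _ hUV π hπ _ (C.c2.simple_lt i hi) (C.simple_pos i hi)
    omega
  · omega

/-- `B ∩ n₀ B n₀⁻¹ = H` for such an element -/
theorem Bn_eq_diag (n₀ : ↥(D.group F)) (hn₀ : n₀ ∈ (C.bnPair F).N)
    (hUV : (D.posUnipotent F).map (MulAut.conj (n₀ : GL D.Idx F)).toMonoidHom =
      D.negUnipotent F) :
    BNSt.Bn (C.bnPair F) n₀⁻¹ = ((D.diagonalSubgroup F).subgroupOf (D.group F)).subgroupOf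
      ((D.borelSubgroup F).subgroupOf (D.group F)) := by
  have hn₀M : (n₀ : GL D.Idx F) ∈ D.monomialSubgroup F := Subgroup.mem_subgroupOf.mp hn₀
  have hnorm := C.c2.monomial_le_normalizer_diag (F := F) hn₀M
  ext b
  rw [BNSt.mem_Bn, inv_inv]
  have hb : ((b : ↥(D.group F)) : GL D.Idx F) ∈ D.borelSubgroup F := Subgroup.mem_subgroupOf.mp b.2
  change ((n₀ * (b : ↥(D.group F)) * n₀⁻¹ : ↥(D.group F)) : GL D.Idx F) ∈ D.borelSubgroup F ↔
    ((b : ↥(D.group F)) : GL D.Idx F) ∈ D.diagonalSubgroup F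
  simp only [Subgroup.coe_mul, Subgroup.coe_inv]
  constructor
  · intro h
    obtain ⟨u, hu, k, hk, e⟩ := C.c2.borel_mem _ hb
    have hk' : (n₀ : GL D.Idx F) * k * (n₀ : GL D.Idx F)⁻¹ ∈ D.diagonalSubgroup F :=
      (Subgroup.mem_normalizer_iff.mp hnorm k).mp hk
    have hu' : (n₀ : GL D.Idx F) * u * (n₀ : GL D.Idx F)⁻¹ ∈ D.negUnipotent F := by
      rw [← hUV]
      exact ⟨u, hu, by simp [MulAut.conj_apply]⟩
    have e2 : (n₀ : GL D.Idx F) * ((b : ↥(D.group F)) : GL D.Idx F) * (n₀ : GL D.Idx F)⁻¹ =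
        ((n₀ : GL D.Idx F) * u * (n₀ : GL D.Idx F)⁻¹) *
          ((n₀ : GL D.Idx F) * k * (n₀ : GL D.Idx F)⁻¹) := by
      rw [← e]; group
    have h3 : (n₀ : GL D.Idx F) * ((b : ↥(D.group F)) : GL D.Idx F) * (n₀ : GL D.Idx F)⁻¹ ∈
        D.borelSubgroup F ⊓ (D.negUnipotent F ⊔ D.diagonalSubgroup F) := by
      refine Subgroup.mem_inf.mpr ⟨h, ?_⟩
      rw [e2]
      exact Subgroup.mul_mem_sup hu' hk'
    rw [C.c2.borel_inf_negdiag] at h3
    exact (Subgroup.mem_normalizer_iff.mp hnorm _).mpr h3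
  · intro h
    exact C.diag_le_borel ((Subgroup.mem_normalizer_iff.mp hnorm _).mp h)

/-- the Steinberg character restricted to `B` is induced from the trivial character of `H` -/
theorem steinberg_restrict [Fintype F] (b : ↥((D.borelSubgroup F).subgroupOf (D.group F))) :
    D.steinbergCharacter F ((((D.borelSubgroup F).subgroupOf (D.group F)).subtype) b) =
      Cfsg.fixedPointCharacter (((D.diagonalSubgroup F).subgroupOf (D.group F)).subgroupOf
        ((D.borelSubgroup F).subgroupOf (D.group F))) b := by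
  classical
  haveI : Fintype ↥(D.group F) := Fintype.ofFinite _
  obtain ⟨n₀, hn₀M, hUV⟩ := C.c5.c3.exists_w0 (F := F)
  have hn₀G : n₀ ∈ D.group F := C.c2.monomial_le_group hn₀M
  have hn₀ : (⟨n₀, hn₀G⟩ : ↥(D.group F)) ∈ (C.bnPair F).N := Subgroup.mem_subgroupOf.mpr hn₀M
  have hfull := full_of_conj C ⟨n₀, hn₀G⟩ hn₀ hUV
  have hfullL := hfull.fullL (BNSt.sg_exch (C.bnPair F)) (BNSt.sg_surj (C.bnPair F))
  have hfull' : CoxD.Full (S0320.sg (C.bnPair F))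
      (BNSt.mkW (C.bnPair F) (⟨n₀, hn₀G⟩ : ↥(D.group F))⁻¹ ((C.bnPair F).N.inv_mem hn₀)) :=
    (CoxD.fullL_iff_inv (BNSt.sg_exch (C.bnPair F)) (BNSt.sg_surj (C.bnPair F))).mp hfullL
  rw [steinberg_eq C, ← Bn_eq_diag C ⟨n₀, hn₀G⟩ hn₀ hUV]
  exact BNSt.St_restrict (C.bnPair F) (image_eS C) ((C.bnPair F).N.inv_mem hn₀) hfull' b

end Cfsg.Agent.Lib.H12.ChevSt
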