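import Mathlib
import Cfsg.Agent.Lib.H29.ChevGen45
import Cfsg.Agent.Lib.H12.ChevStB
import Cfsg.Agent.Lib.H12.ParabF
import Cfsg.Agent.Lib.H23.DefectZero

/-!
# Chevalley groups: `U` is a Sylow subgroup, the degree of the Steinberg character and its
vanishing on `p`-singular elements (helper12)
-/

set_option autoImplicit false
set_option linter.unusedSectionVars false

namespace Cfsg.Agent.Lib.H12.ChevSt

open Cfsg.Lie Cfsg.Agent.Lib.H29.Chev Cfsg.Agent.Lib.H12

variable {D : ChevalleyDatum} {fd : FD} {fx : FX} {fc : FC} {fz : FZ} {F : Type*} [Field F]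

section card

variable (C : Cert12 D fd fx fc fz)
include C

/-- the identity of the Weyl group, as a realised map on the roots -/
def idW : RealW C F :=
  ⟨id, 1, one_mem _, C.perm_congr 1 id _ C.c6.perm_one (fun s hs => (extF_lt (fd := fd) id s hs).symm)⟩

theorem invN_idW : invN fd (idW C (F := F)).val = 0 := by
  unfold invN
  rw [Nat.card_eq_zero]
  left
  constructor
  rintro ⟨r, h1, h2, h3⟩
  rw [extF_lt _ r h1] at h3
  change r < fd.n / 2 at h3
  omega

theorem eq_idW_of_invN (σ : RealW C F) (h : invN fd σ.val = 0) : σ = idW C := by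
  have hfin : Finite {r : ℕ // r < fd.n ∧ fd.n / 2 ≤ r ∧ extF fd σ.val r < fd.n / 2} :=
    Finite.of_injective (fun r => (⟨r.1, r.2.1⟩ : Fin fd.n)) (fun a b hab => by
      apply Subtype.ext
      exact congrArg Fin.val hab)
  unfold invN at h
  rw [Nat.card_eq_zero] at h
  rcases h with h | h
  · have hpos : ∀ i < fd.l, fd.n / 2 ≤ extF fd σ.val (fd.simples.getD i 0) := by
      intro i hi
      by_contra hneg
      exact h.false ⟨fd.simples.getD i 0, C.c6.c2.simple_lt i hi, C.c6.simple_pos i hi,
        by omega⟩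
    have hd := C.mem_diag_of_pos _ (C.rep_mem σ) _ (C.rep_perm σ) hpos
    have h1 := C.perm_unique _ _ _ (C.rep_perm σ) (C.c6.perm_diag _ hd)
    apply Subtype.ext
    funext r
    apply Fin.ext
    have := h1 r.val r.isLt
    rw [extF_lt _ _ r.isLt] at this
    exact this
  · exact absurd hfin h.not_finite

end card

section main

variable (C : Cert12 D fd fx fc fz) [Fintype F] (p : ℕ) [Fact p.Prime] [CharP F p]
include C

theorem exists_card_F : ∃ f : ℕ, 0 < f ∧ Nat.card F = p ^ f := by
  obtain ⟨n, _, hn⟩ := FiniteField.card F p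
  exact ⟨n, n.pos, by rw [Nat.card_eq_fintype_card, hn]⟩

omit C in
theorem p_dvd_card_F : p ∣ Nat.card F := by
  obtain ⟨n, _, hn⟩ := FiniteField.card F p
  rw [Nat.card_eq_fintype_card, hn]
  exact dvd_pow_self p n.pos.ne'

theorem not_dvd_card_diag : ¬ p ∣ Nat.card (D.diagonalSubgroup F) := by
  classical
  intro h
  have hp := (Fact.out : p.Prime)
  rw [C.diag_eq_range] at h
  have h1 : p ∣ Nat.card (Fin fd.l → Fˣ) := h.trans (Subgroup.card_range_dvd _)
  rw [Nat.card_fun, Nat.card_eq_fintype_card (α := Fˣ), Fintype.card_units] at h1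
  have h2 : p ∣ Fintype.card F - 1 := hp.dvd_of_dvd_pow h1
  have h3 : p ∣ Fintype.card F := by
    have := p_dvd_card_F (F := F) p
    rwa [Nat.card_eq_fintype_card] at this
  have h4 : 0 < Fintype.card F := Fintype.card_pos
  have h5 : p ∣ 1 := by
    have := Nat.dvd_sub h3 h2
    rwa [Nat.sub_sub_self h4] at this
  exact hp.one_lt.ne' (Nat.dvd_one.mp h5)

theorem finsum_mod : (∑ᶠ σ : RealW C F, Nat.card F ^ invN fd σ.val) % p = 1 := by
  classical
  have hp := (Fact.out : p.Prime)
  haveI : Fintype (RealW C F) := Fintype.ofFinite _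
  rw [finsum_eq_sum_of_fintype, ← Finset.add_sum_erase _ _ (Finset.mem_univ (idW C)),
    invN_idW, pow_zero]
  have hdvd : p ∣ ∑ σ ∈ Finset.univ.erase (idW C (F := F)), Nat.card F ^ invN fd σ.val := by
    apply Finset.dvd_sum
    intro σ hσ
    have hne : invN fd σ.val ≠ 0 := fun h => (Finset.ne_of_mem_erase hσ) (eq_idW_of_invN C σ h)
    exact (p_dvd_card_F (F := F) p).trans (dvd_pow_self _ hne)
  obtain ⟨k, hk⟩ := hdvd
  rw [hk, Nat.add_mul_mod_self_left]
  exact Nat.mod_eq_of_lt hp.one_lt

theorem pos_le_group : D.posUnipotent F ≤ D.group F :=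
  le_trans le_sup_left C.c6.c2.borel_le_group

theorem card_posIn :
    Nat.card ((D.posUnipotent F).subgroupOf (D.group F)) = Nat.card F ^ (D.nroots / 2) := by
  rw [Nat.card_congr (Subgroup.subgroupOfEquivOfLe (pos_le_group C)).toEquiv, C.card_posUnipotent]

/-- the index of `U` is prime to `p` -/
theorem not_dvd_index : ¬ p ∣ ((D.posUnipotent F).subgroupOf (D.group F)).index := by
  have hp := (Fact.out : p.Prime)
  have h1 := Subgroup.index_mul_card ((D.posUnipotent F).subgroupOf (D.group F))
  rw [card_posIn C, C.card_group, C.card_borel, C.card_posUnipotent] at h1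
  have hq : 0 < Nat.card F ^ (D.nroots / 2) := pow_pos Nat.card_pos _
  have h2 : ((D.posUnipotent F).subgroupOf (D.group F)).index =
      Nat.card (D.diagonalSubgroup F) * ∑ᶠ σ : RealW C F, Nat.card F ^ invN fd σ.val := by
    apply Nat.eq_of_mul_eq_mul_right hq
    rw [h1]
    ring
  rw [h2, hp.dvd_mul]
  rintro (h | h)
  · exact not_dvd_card_diag C p h
  · have := finsum_mod C (F := F) p
    rw [Nat.mod_eq_zero_of_dvd h] at this
    exact zero_ne_one this

/-- `U` is a Sylow `p`-subgroup -/
theorem exists_sylow : ∃ P : Sylow p ↥(D.group F),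
    (P : Subgroup ↥(D.group F)) = (D.posUnipotent F).subgroupOf (D.group F) := by
  obtain ⟨f, _, hf⟩ := exists_card_F C (F := F) p
  have hpg : IsPGroup p ((D.posUnipotent F).subgroupOf (D.group F)) := by
    apply IsPGroup.of_card (n := f * (D.nroots / 2))
    rw [card_posIn C, hf, pow_mul]
  exact ⟨hpg.toSylow (not_dvd_index C p), IsPGroup.toSylow_coe _ _⟩

omit [CharP F p] [Fact p.Prime] in
/-- the degree of the Steinberg character -/
theorem steinberg_one :
    D.steinbergCharacter F 1 = (Fintype.card F : ℂ) ^ (D.nroots / 2) := by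
  have h1 := steinberg_restrict C.c6 (F := F) 1
  rw [map_one, Parab.fixedPointCharacter_one] at h1
  rw [h1]
  set H' := ((D.diagonalSubgroup F).subgroupOf (D.group F)).subgroupOf
    ((D.borelSubgroup F).subgroupOf (D.group F)) with hH'
  have hle : (D.diagonalSubgroup F).subgroupOf (D.group F) ≤
      (D.borelSubgroup F).subgroupOf (D.group F) := by
    intro x hx
    rw [Subgroup.mem_subgroupOf] at hx ⊢
    exact C.c6.diag_le_borel hx
  have hdg : D.diagonalSubgroup F ≤ D.group F := le_trans C.c6.diag_le_borel C.c6.c2.borel_le_group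
  have e1 : Nat.card H' = Nat.card (D.diagonalSubgroup F) := by
    rw [hH', Nat.card_congr (Subgroup.subgroupOfEquivOfLe hle).toEquiv,
      Nat.card_congr (Subgroup.subgroupOfEquivOfLe hdg).toEquiv]
  have e2 : Nat.card ((D.borelSubgroup F).subgroupOf (D.group F)) =
      Nat.card (D.borelSubgroup F) :=
    Nat.card_congr (Subgroup.subgroupOfEquivOfLe C.c6.c2.borel_le_group).toEquiv
  have h2 := Subgroup.index_mul_card H'
  rw [e1, e2, C.card_borel, C.card_posUnipotent] at h2
  have hH : 0 < Nat.card (D.diagonalSubgroup F) := Nat.card_pos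
  have h3 : H'.index = Nat.card F ^ (D.nroots / 2) := Nat.eq_of_mul_eq_mul_right hH h2
  have h4 : Nat.card (↥((D.borelSubgroup F).subgroupOf (D.group F)) ⧸ H') = H'.index := rfl
  rw [h4, h3, Nat.card_eq_fintype_card]
  push_cast
  rfl

/-- the Steinberg character vanishes on `p`-singular elements -/
theorem steinberg_eq_zero (g : ↥(D.group F)) (hg : p ∣ orderOf g) :
    D.steinbergCharacter F g = 0 := by
  classical
  have hp := (Fact.out : p.Prime)
  haveI : Fintype ↥(D.group F) := Fintype.ofFinite _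
  obtain ⟨n, ρ, hirr, hchar⟩ := isIrrCharacter_steinberg C.c6 (F := F)
  obtain ⟨f, _, hf⟩ := exists_card_F C (F := F) p
  have h1 : (n : ℂ) = (Fintype.card F : ℂ) ^ (D.nroots / 2) := by
    rw [← steinberg_one C, ← hchar, Representation.char_one, Module.finrank_fin_fun]
  have h2 : n = p ^ (f * (D.nroots / 2)) := by
    have : (n : ℂ) = ((p ^ (f * (D.nroots / 2)) : ℕ) : ℂ) := by
      rw [h1, pow_mul, ← hf, Nat.card_eq_fintype_card]
      push_cast
      rfl
    exact_mod_cast this
  haveI := hirr
  rw [← hchar]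
  apply Cfsg.Agent.Lib.H23.char_eq_zero_of_defect_zero ρ p (f * (D.nroots / 2)) hp _ _ g hg
  · intro hdvd
    apply not_dvd_index C (F := F) p
    have h3 := Subgroup.index_mul_card ((D.posUnipotent F).subgroupOf (D.group F))
    rw [card_posIn C, hf, ← pow_mul] at h3
    rw [← h3, pow_succ, mul_comm] at hdvd
    exact Nat.dvd_of_mul_dvd_mul_right (pow_pos hp.pos _) hdvd
  · rw [Module.finrank_fin_fun, h2]

end main

end Cfsg.Agent.Lib.H12.ChevSt
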