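import Mathlib
import Cfsg.Agent.Lib.H10.SylowIn
import Cfsg.Agent.Lib.H22.OrderPCube

set_option autoImplicit false

namespace Cfsg.Agent.Lib.H12.CopFac

variable {G : Type*} [Group G]

/-- A `p`-subgroup of `P R` (`R` a `p'`-group normalized by the `p`-group `P`) generated by a
conjugate `x c x⁻¹` (`x ∈ R`) and `d` forces `x ∈ C_R(d) C_R(c)`. -/
theorem factor_of_isPGroup [Finite G] {p : ℕ} [hp : Fact p.Prime] {P R : Subgroup G}
    (hP : IsPGroup p P) (hPR : P ≤ Subgroup.normalizer (R : Set G)) (hR : (Nat.card R).Coprime p)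
    {c d x : G} (hc : c ∈ P) (hd : d ∈ P) (hx : x ∈ R)
    (h : IsPGroup p (Subgroup.closure ({x * c * x⁻¹, d} : Set G))) :
    ∃ a ∈ R, ∃ b ∈ R, a * c = c * a ∧ b * d = d * b ∧ x = b * a := by
  set K : Subgroup G := P ⊔ R with hK
  have hPK : P ≤ K := le_sup_left
  have hRK : R ≤ K := le_sup_right
  have hHK : Subgroup.closure ({x * c * x⁻¹, d} : Set G) ≤ K := by
    rw [Subgroup.closure_le]
    rintro g (rfl | rfl)
    · exact K.mul_mem (K.mul_mem (hRK hx) (hPK hc)) (K.inv_mem (hRK hx))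
    · exact hPK hd
  have hPi : ¬ p ∣ P.relIndex K := by
    have h1 : Nat.card P * P.relIndex K = Nat.card K := by
      have := Subgroup.relIndex_mul_relIndex ⊥ P K bot_le hPK
      rwa [Subgroup.relIndex_bot_left, Subgroup.relIndex_bot_left] at this
    have h2 : Nat.card K ∣ Nat.card P * Nat.card R :=
      Cfsg.Agent.Lib.H22.card_sup_dvd_mul_of_le_normalizer P R hPR
    rw [← h1] at h2
    have h3 : P.relIndex K ∣ Nat.card R :=
      Nat.dvd_of_mul_dvd_mul_left Nat.card_pos h2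
    intro hdvd
    have := Nat.Coprime.eq_one_of_dvd hR.symm (dvd_trans hdvd h3)
    exact hp.out.one_lt.ne' this
  obtain ⟨m, hmK, hm⟩ := Cfsg.Agent.Lib.H10.exists_mem_map_conj_le_of_sylowIn hP hPK hPi h hHK
  have hmem : m ∈ ((P ⊔ R : Subgroup G) : Set G) := hmK
  rw [Subgroup.coe_mul_of_left_le_normalizer_right P R hPR] at hmem
  obtain ⟨u, hu, r, hr, rfl⟩ := hmem
  have hu' : u ∈ P := hu
  have hr' : r ∈ R := hr
  -- `r h r⁻¹ ∈ P` for `h` in the generated group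
  have hconj : ∀ g ∈ Subgroup.closure ({x * c * x⁻¹, d} : Set G), r * g * r⁻¹ ∈ P := by
    intro g hg
    have h1 : (u * r) * g * (u * r)⁻¹ ∈ P := by
      apply hm
      rw [Subgroup.mem_map]
      exact ⟨g, hg, by simp only [MulEquiv.coe_toMonoidHom, MulAut.conj_apply]⟩
    have h2 : r * g * r⁻¹ = u⁻¹ * ((u * r) * g * (u * r)⁻¹) * u := by group
    rw [h2]
    exact P.mul_mem (P.mul_mem (P.inv_mem hu') h1) hu'
  have hbot : P ⊓ R = ⊥ := (Subgroup.disjoint_of_coprime_natCard (by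
    obtain ⟨k, hk⟩ := IsPGroup.iff_card.mp hP
    rw [hk]
    exact (Nat.Coprime.pow_left k hR.symm))).eq_bot
  have hcomm : ∀ s ∈ R, ∀ e ∈ P, s * e * s⁻¹ ∈ P → s * e = e * s := by
    intro s hs e he hse
    have h1 : s * e * s⁻¹ * e⁻¹ ∈ P := P.mul_mem hse (P.inv_mem he)
    have h2 : s * e * s⁻¹ * e⁻¹ ∈ R := by
      have : e * s⁻¹ * e⁻¹ ∈ R := (hPR he s⁻¹).mp (R.inv_mem hs)
      have h3 : s * e * s⁻¹ * e⁻¹ = s * (e * s⁻¹ * e⁻¹) := by group
      rw [h3]
      exact R.mul_mem hs this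
    have h3 : s * e * s⁻¹ * e⁻¹ ∈ P ⊓ R := ⟨h1, h2⟩
    rw [hbot, Subgroup.mem_bot] at h3
    have h4 : s * e = (s * e * s⁻¹ * e⁻¹) * e * s := by group
    rw [h4, h3, one_mul]
  have hd1 := hconj d (Subgroup.subset_closure (by simp))
  have hc1 := hconj (x * c * x⁻¹) (Subgroup.subset_closure (by simp))
  have hrd : r * d = d * r := hcomm r hr' d hd hd1
  have hrxc : (r * x) * c = c * (r * x) := by
    apply hcomm (r * x) (R.mul_mem hr' hx) c hc
    have : r * x * c * (r * x)⁻¹ = r * (x * c * x⁻¹) * r⁻¹ := by group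
    rw [this]
    exact hc1
  refine ⟨r * x, R.mul_mem hr' hx, r⁻¹, R.inv_mem hr', hrxc, ?_, by group⟩
  have : r⁻¹ * d = r⁻¹ * (d * r) * r⁻¹ := by group
  rw [this, ← hrd]
  group

end Cfsg.Agent.Lib.H12.CopFac
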