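import Mathlib
import Cfsg.Agent.Lib.H12.CoprimeFactorA
import Cfsg.Agent.Lib.H12.AbelianFactor4
import Cfsg.Agent.Lib.H9.FrattiniAction
import Cfsg.Agent.Lib.H3.FrattiniFitting

set_option autoImplicit false

namespace Cfsg.Agent.Lib.H12.CopFac

open Cfsg.Agent.Lib.H12.AbFac

variable {G : Type*} [Group G]

/-- automorphisms act on the abelianization -/
def abHom (R : Type*) [Group R] : MulAut R →* MulAut (Abelianization R) where
  toFun e := e.abelianizationCongr
  map_one' := by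
    apply MulEquiv.ext
    intro v
    obtain ⟨x, rfl⟩ := QuotientGroup.mk_surjective v
    rfl
  map_mul' a b := by
    apply MulEquiv.ext
    intro v
    obtain ⟨x, rfl⟩ := QuotientGroup.mk_surjective v
    rfl

theorem abHom_of (R : Type*) [Group R] (e : MulAut R) (x : R) :
    abHom R e (Abelianization.of x) = Abelianization.of (e x) := rfl

theorem closure_preimage_eq_top {S : Set G} {H : Subgroup G} (h : Subgroup.closure S = H) :
    Subgroup.closure (H.subtype ⁻¹' S) = ⊤ := by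
  subst h
  exact Subgroup.closure_closure_coe_preimage

theorem centralizes_of_rgroup [Finite G] {p r : ℕ} [hp : Fact p.Prime] [hr : Fact r.Prime]
    (hp3 : 3 ≤ p) (hpr : r ≠ p) {P R : Subgroup G} (hP : IsPGroup p P) (hRr : IsPGroup r R)
    (hPR : P ≤ Subgroup.normalizer (R : Set G))
    (C D : Set G) (hC : Subgroup.closure C = P) (hD : Subgroup.closure D = P)
    (h : ∀ x ∈ R, ∀ c ∈ C, ∀ d ∈ D, IsPGroup p (Subgroup.closure ({x * c * x⁻¹, d} : Set G))) :
    ∀ g ∈ P, ∀ x ∈ R, g * x = x * g := by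
  have hRcop : (Nat.card R).Coprime p := by
    obtain ⟨k, hk⟩ := IsPGroup.iff_card.mp hRr
    rw [hk]
    exact Nat.Coprime.pow_left k ((Nat.coprime_primes hr.out hp.out).mpr hpr)
  let ψ0 : ↥P →* MulAut ↥R := R.normalizerMonoidHom.comp (Subgroup.inclusion hPR)
  have hψ0 : ∀ (g : ↥P) (x : ↥R), ((ψ0 g x : ↥R) : G) = (g : G) * x * (g : G)⁻¹ := fun g x => rfl
  let φ : ↥P →* MulAut (Abelianization ↥R) := (abHom ↥R).comp ψ0
  have hφ : ∀ (g : ↥P) (x : ↥R), φ g (Abelianization.of x) = Abelianization.of (ψ0 g x) :=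
    fun g x => rfl
  set C' : Set ↥P := P.subtype ⁻¹' C with hC'
  set D' : Set ↥P := P.subtype ⁻¹' D with hD'
  have hC't : Subgroup.closure C' = ⊤ := closure_preimage_eq_top hC
  have hD't : Subgroup.closure D' = ⊤ := closure_preimage_eq_top hD
  have hVcop : (Nat.card (Abelianization ↥R)).Coprime p := by
    have hdvd : Nat.card (Abelianization ↥R) ∣ Nat.card ↥R :=
      Subgroup.card_quotient_dvd_card _
    exact Nat.Coprime.coprime_dvd_left hdvd hRcop
  have hfac : Fac C' D' φ := by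
    intro c hc d hd v
    obtain ⟨x, rfl⟩ := QuotientGroup.mk_surjective v
    obtain ⟨a, haR, b, hbR, hac, hbd, hxab⟩ := factor_of_isPGroup hP hPR hRcop c.2 d.2 x.2
      (h x x.2 c hc d hd)
    refine ⟨Abelianization.of ⟨a, haR⟩, Abelianization.of ⟨b, hbR⟩, ?_, ?_, ?_⟩
    · rw [hφ]
      congr 1
      apply Subtype.ext
      rw [hψ0]
      show (c : G) * a * (c : G)⁻¹ = a
      rw [← hac, mul_inv_cancel_right]
    · rw [hφ]
      congr 1
      apply Subtype.ext
      rw [hψ0]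
      show (d : G) * b * (d : G)⁻¹ = b
      rw [← hbd, mul_inv_cancel_right]
    · rw [mul_comm, ← map_mul]
      show Abelianization.of x = _
      congr 1
      apply Subtype.ext
      exact hxab
  have hmain := abelian_main p hp3 hP C' D' hC't hD't (Nat.card (Abelianization ↥R))
    (Abelianization ↥R) φ rfl hVcop hfac
  have hnil : Group.IsNilpotent ↥R := hRr.isNilpotent
  have hcf : commutator ↥R ≤ frattini ↥R :=
    Cfsg.Agent.Lib.H3.commutator_le_frattini_of_isNilpotent ↥R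
  intro g hg
  have hgcop : (orderOf g).Coprime r := by
    obtain ⟨k, hk⟩ := (IsPGroup.iff_orderOf.mp hP) ⟨g, hg⟩
    rw [← Subgroup.orderOf_mk g hg, hk]
    exact Nat.Coprime.pow_left k ((Nat.coprime_primes hp.out hr.out).mpr hpr.symm)
  apply Cfsg.Agent.Lib.H9.commute_of_commutator_mem_frattini hRr (hPR hg) hgcop
  intro a ha q hq
  have haP : a ∈ P := (Subgroup.zpowers_le.mpr hg) ha
  have h1 := hmain ⟨a, haP⟩ (Abelianization.of ⟨q, hq⟩)
  rw [hφ] at h1
  have h2 : (ψ0 ⟨a, haP⟩ ⟨q, hq⟩) * (⟨q, hq⟩ : ↥R)⁻¹ ∈ commutator ↥R := by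
    have := (QuotientGroup.eq (s := commutator ↥R)).mp h1.symm
    have h3 : (ψ0 ⟨a, haP⟩ ⟨q, hq⟩) * (⟨q, hq⟩ : ↥R)⁻¹ =
        (⟨q, hq⟩ : ↥R) * ((⟨q, hq⟩ : ↥R)⁻¹ * (ψ0 ⟨a, haP⟩ ⟨q, hq⟩)) * (⟨q, hq⟩ : ↥R)⁻¹ := by group
    rw [h3]
    exact (commutator ↥R).normal_of_characteristic.conj_mem _ this _
  exact ⟨_, hcf h2, rfl⟩

end Cfsg.Agent.Lib.H12.CopFac
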