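import Mathlib
import Cfsg.Agent.Lib.H12.CoprimeFactorB
import Cfsg.Agent.Lib.H18.AbstractCoprime

set_option autoImplicit false

namespace Cfsg.Agent.Lib.H12.CopFac

variable {G : Type*} [Group G]

/-- A `P`-invariant Sylow `r`-subgroup of `N` (coprime action by conjugation inside `G`). -/
theorem exists_invariant_sylow_sub [Finite G] {p : ℕ} [hp : Fact p.Prime] {P N : Subgroup G}
    (hP : IsPGroup p P) (hPN : P ≤ Subgroup.normalizer (N : Set G)) (hN : (Nat.card N).Coprime p)
    (r : ℕ) [hr : Fact r.Prime] :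
    ∃ R : Subgroup G, R ≤ N ∧ P ≤ Subgroup.normalizer (R : Set G) ∧
      Nat.card R = r ^ (Nat.card N).factorization r := by
  let _ : MulDistribMulAction ↥P ↥N :=
    MulDistribMulAction.compHom ↥N (Subgroup.inclusion hPN)
  have hsmul : ∀ (a : ↥P) (x : ↥N), ((a • x : ↥N) : G) = (a : G) * x * (a : G)⁻¹ := fun a x => rfl
  have hcop : (Nat.card ↥P).Coprime (Nat.card ↥N) := by
    obtain ⟨k, hk⟩ := IsPGroup.iff_card.mp hP
    rw [hk]
    exact Nat.Coprime.pow_left k hN.symm
  have hnil : Group.IsNilpotent ↥P := hP.isNilpotent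
  obtain ⟨R0, hinv, hcard⟩ :=
    Cfsg.Agent.Lib.H18.exists_invariant_sylow (A := ↥P) (G := ↥N) hcop (Or.inl inferInstance) r
  refine ⟨R0.map N.subtype, Subgroup.map_subtype_le _, ?_, ?_⟩
  · intro a ha
    have key : ∀ b ∈ P, ∀ y ∈ R0.map N.subtype, b * y * b⁻¹ ∈ R0.map N.subtype := by
      rintro b hb _ ⟨x, hx, rfl⟩
      exact ⟨(⟨b, hb⟩ : ↥P) • x, hinv ⟨b, hb⟩ x hx, hsmul ⟨b, hb⟩ x⟩
    rw [Subgroup.mem_normalizer_iff]
    intro y
    constructor
    · exact key a ha y
    · intro hy
      have := key a⁻¹ (P.inv_mem ha) _ hy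
      have e : a⁻¹ * (a * y * a⁻¹) * a⁻¹⁻¹ = y := by group
      rwa [e] at this
  · rw [Nat.card_congr (Subgroup.equivMapOfInjective R0 N.subtype N.subtype_injective).symm.toEquiv,
      hcard]

theorem centralizes_main [Finite G] (p : ℕ) [hp : Fact p.Prime] (hp3 : 3 ≤ p) {P N : Subgroup G}
    (hP : IsPGroup p P) (hPN : P ≤ Subgroup.normalizer (N : Set G)) (hN : (Nat.card N).Coprime p)
    (C D : Set G) (hC : Subgroup.closure C = P) (hD : Subgroup.closure D = P)
    (h : ∀ x ∈ N, ∀ c ∈ C, ∀ d ∈ D, IsPGroup p (Subgroup.closure ({x * c * x⁻¹, d} : Set G))) :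
    ∀ g ∈ P, ∀ x ∈ N, g * x = x * g := by
  set Z : Subgroup G := N ⊓ Subgroup.centralizer (P : Set G) with hZ
  have hZN : Z ≤ N := inf_le_left
  have hdvd : Nat.card N ∣ Nat.card Z := by
    rw [← Nat.factorization_le_iff_dvd Nat.card_pos.ne' Nat.card_pos.ne']
    intro r
    by_cases hrp : r.Prime
    · have : Fact r.Prime := ⟨hrp⟩
      by_cases hrN : r ∣ Nat.card N
      · have hrne : r ≠ p := by
          rintro rfl
          exact hp.out.one_lt.ne' (Nat.Coprime.eq_one_of_dvd hN.symm hrN)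
        obtain ⟨R, hRN, hPR, hRcard⟩ := exists_invariant_sylow_sub hP hPN hN r
        have hRr : IsPGroup r R := IsPGroup.of_card hRcard
        have hcen := centralizes_of_rgroup hp3 hrne hP hRr hPR C D hC hD
          (fun x hx => h x (hRN hx))
        have hRZ : R ≤ Z := by
          intro x hx
          refine ⟨hRN hx, ?_⟩
          show x ∈ Subgroup.centralizer (P : Set G)
          rw [Subgroup.mem_centralizer_iff]
          intro g hg
          exact hcen g hg x hx
        have h1 : r ^ (Nat.card N).factorization r ∣ Nat.card Z := by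
          rw [← hRcard]
          exact Subgroup.card_dvd_of_le hRZ
        exact (hrp.pow_dvd_iff_le_factorization Nat.card_pos.ne').mp h1
      · rw [Nat.factorization_eq_zero_of_not_dvd hrN]
        exact Nat.zero_le _
    · rw [Nat.factorization_eq_zero_of_not_prime _ hrp]
      exact Nat.zero_le _
  have hZeq : Z = N :=
    Subgroup.eq_of_le_of_card_ge hZN (Nat.le_of_dvd Nat.card_pos hdvd)
  intro g hg x hx
  have hxZ : x ∈ Z := by rw [hZeq]; exact hx
  have hxc : x ∈ Subgroup.centralizer (P : Set G) := hxZ.2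
  exact Subgroup.mem_centralizer_iff.mp hxc g hg

end Cfsg.Agent.Lib.H12.CopFac
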