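import Mathlib

/-!
# Word lemmas in groups generated by involutions, for generation of Coxeter groups by a Coxeter
element and one or two reflections (helper12)
-/

set_option autoImplicit false

namespace Cfsg.Agent.Lib.H12.CoxGen

variable {G : Type*} [Group G]

theorem braid_of_pow_three {a b : G} (ha : a * a = 1) (hb : b * b = 1) (h : (a * b) ^ 3 = 1) :
    a * b * a = b * a * b := by
  have h1 : a * b * (a * b) * (a * b) = 1 := by
    rw [← h, pow_succ, pow_two]
  have h2 : (b * a * b) * (b * a * b) = 1 := by
    calc (b * a * b) * (b * a * b) = b * a * (b * b) * a * b := by simp only [mul_assoc]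
      _ = b * (a * a) * b := by rw [hb, mul_one]; simp only [mul_assoc]
      _ = 1 := by rw [ha, mul_one, hb]
  have h3 : (a * b * a) * (b * a * b) = 1 := by
    calc (a * b * a) * (b * a * b) = a * b * (a * b) * (a * b) := by simp only [mul_assoc]
      _ = 1 := h1
  calc a * b * a = a * b * a * ((b * a * b) * (b * a * b)) := by rw [h2, mul_one]
    _ = ((a * b * a) * (b * a * b)) * (b * a * b) := by simp only [mul_assoc]
    _ = b * a * b := by rw [h3, one_mul]

theorem inv_of_sq {a : G} (ha : a * a = 1) : a⁻¹ = a :=
  (eq_inv_of_mul_eq_one_right ha).symm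

/-- peeling the last node of a chain: from `w a b ∈ H` and `b ∈ H` get `a ∈ H` and `w a ∈ H` -/
theorem peel (H : Subgroup G) {w a b : G} (ha : a * a = 1) (hb : b * b = 1)
    (hab : (a * b) ^ 3 = 1) (hwb : w * b = b * w) (hc : w * a * b ∈ H) (hbH : b ∈ H) :
    a ∈ H ∧ w * a ∈ H := by
  have h1 : w * a ∈ H := by
    have := H.mul_mem hc hbH
    rwa [mul_assoc (w * a), hb, mul_one] at this
  have hbr := braid_of_pow_three ha hb hab
  have key : w * a * (b * a) = b * (w * a * b) := by
    calc w * a * (b * a) = w * (a * b * a) := by simp only [mul_assoc]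
      _ = w * (b * a * b) := by rw [hbr]
      _ = (w * b) * (a * b) := by simp only [mul_assoc]
      _ = b * (w * a * b) := by rw [hwb]; simp only [mul_assoc]
  have h2 : b * a ∈ H := by
    have h3 : b * (w * a * b) ∈ H := H.mul_mem hbH hc
    have h4 : (w * a)⁻¹ * (b * (w * a * b)) ∈ H := H.mul_mem (H.inv_mem h1) h3
    rwa [← key, inv_mul_cancel_left] at h4
  have h5 : b * (b * a) ∈ H := H.mul_mem hbH h2
  rw [← mul_assoc, hb, one_mul] at h5
  exact ⟨h5, h1⟩

/-- splitting `a b` with the help of a third involution `d` adjacent to `b` only -/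
theorem split (H : Subgroup G) {a b d : G} (ha : a * a = 1) (hb : b * b = 1) (hd : d * d = 1)
    (hbd : (b * d) ^ 3 = 1) (had : a * d = d * a) (hy : a * b ∈ H)
    (hdH : d ∈ H) : a ∈ H ∧ b ∈ H := by
  have hbr := braid_of_pow_three hb hd hbd
  have hy' : b * a ∈ H := by
    have := H.inv_mem hy
    rwa [mul_inv_rev, inv_of_sq ha, inv_of_sq hb] at this
  have key : d * (b * a) * d * (a * b) * d = b := by
    calc d * (b * a) * d * (a * b) * d = d * b * (a * d) * a * b * d := by simp only [mul_assoc]
      _ = d * b * d * (a * a) * b * d := by rw [had]; simp only [mul_assoc]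
      _ = d * (b * d * b) * d := by rw [ha, mul_one]; simp only [mul_assoc]
      _ = d * (d * b * d) * d := by rw [hbr]
      _ = (d * d) * b * (d * d) := by simp only [mul_assoc]
      _ = b := by rw [hd, one_mul, mul_one]
  have hbH : b ∈ H := by
    rw [← key]
    exact H.mul_mem (H.mul_mem (H.mul_mem (H.mul_mem hdH hy') hdH) hy) hdH
  have haH : a ∈ H := by
    have := H.mul_mem hy hbH
    rwa [mul_assoc, hb, mul_one] at this
  exact ⟨haH, hbH⟩

/-- `(a e b)^3 = e` when `e` is an involution commuting with `a`, `b` and `(a b)^3 = 1` -/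
theorem cube_eq {a e b : G} (he : e * e = 1) (hab : (a * b) ^ 3 = 1) (hae : a * e = e * a)
    (hbe : b * e = e * b) : (a * e * b) ^ 3 = e := by
  have h1 : a * e * b = e * (a * b) := by rw [hae, mul_assoc]
  have hc : Commute e (a * b) := by
    unfold Commute SemiconjBy
    calc e * (a * b) = (a * e) * b := by rw [hae, mul_assoc]
      _ = a * (b * e) := by rw [mul_assoc, hbe]
      _ = a * b * e := by rw [mul_assoc]
  rw [h1, hc.mul_pow, hab, mul_one, pow_succ, pow_two, he, one_mul]

/-- the `F₄` middle step: from `a ∈ H`, `b d ∈ H` with `a - b` a single bond, `a`, `d` commuting -/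
theorem split_four (H : Subgroup G) {a b d : G} (ha : a * a = 1) (hb : b * b = 1)
    (hd : d * d = 1) (hab : (a * b) ^ 3 = 1) (had : a * d = d * a) (haH : a ∈ H)
    (hz : b * d ∈ H) : b ∈ H ∧ d ∈ H := by
  have hbr := braid_of_pow_three ha hb hab
  have hz' : d * b ∈ H := by
    have := H.inv_mem hz
    rwa [mul_inv_rev, inv_of_sq hb, inv_of_sq hd] at this
  have key : a * (d * b) * a * (b * d) * a = d * b * d := by
    calc a * (d * b) * a * (b * d) * a = (a * d) * (b * a * b) * (d * a) := by
          simp only [mul_assoc]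
      _ = (d * a) * (a * b * a) * (a * d) := by rw [had, hbr, ← had]
      _ = d * (a * a) * b * (a * a) * d := by simp only [mul_assoc]
      _ = d * b * d := by rw [ha, mul_one, mul_one]
  have hr : d * b * d ∈ H := by
    rw [← key]
    exact H.mul_mem (H.mul_mem (H.mul_mem (H.mul_mem haH hz') haH) hz) haH
  have hdH : d ∈ H := by
    have := H.mul_mem hz hr
    have e : b * d * (d * b * d) = d := by
      calc b * d * (d * b * d) = b * (d * d) * b * d := by simp only [mul_assoc]
        _ = d := by rw [hd, mul_one, hb, one_mul]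
    rwa [e] at this
  have hbH : b ∈ H := by
    have := H.mul_mem hz hdH
    rwa [mul_assoc, hd, mul_one] at this
  exact ⟨hbH, hdH⟩

theorem comm_of_sq {a b : G} (ha : a * a = 1) (hb : b * b = 1) (h : (a * b) ^ 2 = 1) :
    a * b = b * a := by
  have h1 : a * b * (a * b) = 1 := by rw [← h, pow_two]
  calc a * b = a * b * ((a * b) * (b * a)) := by
        have : (a * b) * (b * a) = 1 := by
          calc (a * b) * (b * a) = a * (b * b) * a := by simp only [mul_assoc]
            _ = 1 := by rw [hb, mul_one, ha]
        rw [this, mul_one]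
    _ = (a * b * (a * b)) * (b * a) := by simp only [mul_assoc]
    _ = b * a := by rw [h1, one_mul]

section Cox

variable {n : ℕ} (M : CoxeterMatrix (Fin n))

theorem simple_sq (i : Fin n) : M.simple i * M.simple i = 1 := by
  have := M.toCoxeterSystem.simple_mul_simple_self i
  rwa [CoxeterMatrix.toCoxeterSystem_simple] at this

theorem simple_pow (i j : Fin n) (k : ℕ) (h : M i j = k) :
    (M.simple i * M.simple j) ^ k = 1 := by
  have := M.toCoxeterSystem.simple_mul_simple_pow i j
  rwa [CoxeterMatrix.toCoxeterSystem_simple, h] at this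

theorem simple_comm (i j : Fin n) (h : M i j = 2) :
    M.simple i * M.simple j = M.simple j * M.simple i :=
  comm_of_sq (simple_sq M i) (simple_sq M j) (simple_pow M i j 2 h)

theorem simple_commute (i j : Fin n) (h : M i j = 2) :
    Commute (M.simple i) (M.simple j) := simple_comm M i j h

theorem closure_eq_top_of_simple_mem (H : Subgroup M.Group) (h : ∀ i, M.simple i ∈ H) :
    H = ⊤ := by
  rw [eq_top_iff, ← M.toCoxeterSystem.subgroup_closure_range_simple, Subgroup.closure_le]
  rintro _ ⟨i, rfl⟩
  rw [CoxeterMatrix.toCoxeterSystem_simple]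
  exact h i

theorem self_conj (i : Fin n) :
    ∃ (g : M.Group) (j : Fin n), M.simple i = g * M.simple j * g⁻¹ :=
  ⟨1, i, by rw [one_mul, inv_one, mul_one]⟩

end Cox

end Cfsg.Agent.Lib.H12.CoxGen
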