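import Mathlib
import Cfsg.Agent.Lib.H12.CoxGenA

/-!
# The Coxeter groups of types `E₆`, `E₇`, `E₈` are generated by the Coxeter element and one
simple reflection (helper12)
-/

set_option autoImplicit false

namespace Cfsg.Agent.Lib.H12.CoxGen

open CoxeterMatrix

/-- the common tail of the `E`-series argument: from `s₀ s₁ s₂ s₃ ∈ H` and `s₃ ∈ H` -/
theorem e_tail {n : ℕ} (M : CoxeterMatrix (Fin n)) (i0 i1 i2 i3 : Fin n)
    (h02 : M i0 i2 = 3) (h23 : M i2 i3 = 3) (h01 : M i0 i1 = 2) (h21 : M i2 i1 = 2)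
    (h03 : M i0 i3 = 2) (H : Subgroup M.Group)
    (hc : M.simple i0 * M.simple i1 * M.simple i2 * M.simple i3 ∈ H) (h3 : M.simple i3 ∈ H) :
    M.simple i0 ∈ H ∧ M.simple i1 ∈ H ∧ M.simple i2 ∈ H := by
  have hc2 : M.simple i0 * M.simple i1 * M.simple i2 ∈ H := by
    have := H.mul_mem hc h3
    rwa [mul_assoc (M.simple i0 * M.simple i1 * M.simple i2), simple_sq, mul_one] at this
  have hcube := cube_eq (a := M.simple i0) (e := M.simple i1) (b := M.simple i2)
    (simple_sq M i1) (simple_pow M i0 i2 3 h02) (simple_comm M i0 i1 h01)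
    (simple_comm M i2 i1 h21)
  have h1 : M.simple i1 ∈ H := by
    rw [← hcube]
    exact H.pow_mem hc2 3
  have hy : M.simple i0 * M.simple i2 ∈ H := by
    have := H.mul_mem h1 hc2
    have e : M.simple i1 * (M.simple i0 * M.simple i1 * M.simple i2) =
        M.simple i0 * M.simple i2 := by
      calc M.simple i1 * (M.simple i0 * M.simple i1 * M.simple i2)
          = M.simple i1 * (M.simple i1 * M.simple i0 * M.simple i2) := by
            rw [simple_comm M i0 i1 h01]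
        _ = (M.simple i1 * M.simple i1) * (M.simple i0 * M.simple i2) := by
            simp only [mul_assoc]
        _ = M.simple i0 * M.simple i2 := by rw [simple_sq, one_mul]
    rwa [e] at this
  obtain ⟨h0, h2⟩ := split H (simple_sq M i0) (simple_sq M i2) (simple_sq M i3)
    (simple_pow M i2 i3 3 h23) (simple_comm M i0 i3 h03) hy h3
  exact ⟨h0, h1, h2⟩

theorem gen_E8 : ∃ T : Finset E₈.Group, T.card = 1 ∧
    (∀ t ∈ T, ∃ (g : E₈.Group) (i : Fin 8), t = g * E₈.simple i * g⁻¹) ∧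
    Subgroup.closure (({((List.finRange 8).map E₈.simple).prod} : Set E₈.Group) ∪ ↑T) = ⊤ := by
  refine ⟨{E₈.simple 7}, Finset.card_singleton _, ?_, ?_⟩
  · intro t ht
    rw [Finset.mem_singleton] at ht
    rw [ht]
    exact self_conj E₈ 7
  · apply closure_eq_top_of_simple_mem
    set H := Subgroup.closure (({((List.finRange 8).map E₈.simple).prod} : Set E₈.Group) ∪
      ↑({E₈.simple 7} : Finset E₈.Group)) with hH
    have h7 : E₈.simple 7 ∈ H := Subgroup.subset_closure (Or.inr (by simp))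
    have hc : E₈.simple 0 * E₈.simple 1 * E₈.simple 2 * E₈.simple 3 * E₈.simple 4 *
        E₈.simple 5 * E₈.simple 6 * E₈.simple 7 ∈ H := by
      apply Subgroup.subset_closure
      left
      rw [Set.mem_singleton_iff]
      simp [List.finRange_succ, mul_assoc]
    have hcm : ∀ i j : Fin 8, E₈ i j = 2 → Commute (E₈.simple i) (E₈.simple j) :=
      fun i j h => simple_commute E₈ i j h
    obtain ⟨h6, hc6⟩ := peel H (simple_sq E₈ 6) (simple_sq E₈ 7) (simple_pow E₈ 6 7 3 rfl)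
      (w := E₈.simple 0 * E₈.simple 1 * E₈.simple 2 * E₈.simple 3 * E₈.simple 4 * E₈.simple 5)
      ((((((hcm 0 7 rfl).mul_left (hcm 1 7 rfl)).mul_left (hcm 2 7 rfl)).mul_left
        (hcm 3 7 rfl)).mul_left (hcm 4 7 rfl)).mul_left (hcm 5 7 rfl)) hc h7
    obtain ⟨h5, hc5⟩ := peel H (simple_sq E₈ 5) (simple_sq E₈ 6) (simple_pow E₈ 5 6 3 rfl)
      (w := E₈.simple 0 * E₈.simple 1 * E₈.simple 2 * E₈.simple 3 * E₈.simple 4)
      (((((hcm 0 6 rfl).mul_left (hcm 1 6 rfl)).mul_left (hcm 2 6 rfl)).mul_left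
        (hcm 3 6 rfl)).mul_left (hcm 4 6 rfl)) hc6 h6
    obtain ⟨h4, hc4⟩ := peel H (simple_sq E₈ 4) (simple_sq E₈ 5) (simple_pow E₈ 4 5 3 rfl)
      (w := E₈.simple 0 * E₈.simple 1 * E₈.simple 2 * E₈.simple 3)
      ((((hcm 0 5 rfl).mul_left (hcm 1 5 rfl)).mul_left (hcm 2 5 rfl)).mul_left
        (hcm 3 5 rfl)) hc5 h5
    obtain ⟨h3, hc3⟩ := peel H (simple_sq E₈ 3) (simple_sq E₈ 4) (simple_pow E₈ 3 4 3 rfl)
      (w := E₈.simple 0 * E₈.simple 1 * E₈.simple 2)
      (((hcm 0 4 rfl).mul_left (hcm 1 4 rfl)).mul_left (hcm 2 4 rfl)) hc4 h4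
    obtain ⟨h0, h1, h2⟩ := e_tail E₈ 0 1 2 3 rfl rfl rfl rfl rfl H hc3 h3
    intro i
    fin_cases i <;> assumption

theorem gen_E7 : ∃ T : Finset E₇.Group, T.card = 1 ∧
    (∀ t ∈ T, ∃ (g : E₇.Group) (i : Fin 7), t = g * E₇.simple i * g⁻¹) ∧
    Subgroup.closure (({((List.finRange 7).map E₇.simple).prod} : Set E₇.Group) ∪ ↑T) = ⊤ := by
  refine ⟨{E₇.simple 6}, Finset.card_singleton _, ?_, ?_⟩
  · intro t ht
    rw [Finset.mem_singleton] at ht
    rw [ht]
    exact self_conj E₇ 6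
  · apply closure_eq_top_of_simple_mem
    set H := Subgroup.closure (({((List.finRange 7).map E₇.simple).prod} : Set E₇.Group) ∪
      ↑({E₇.simple 6} : Finset E₇.Group)) with hH
    have h6 : E₇.simple 6 ∈ H := Subgroup.subset_closure (Or.inr (by simp))
    have hc6 : E₇.simple 0 * E₇.simple 1 * E₇.simple 2 * E₇.simple 3 * E₇.simple 4 *
        E₇.simple 5 * E₇.simple 6 ∈ H := by
      apply Subgroup.subset_closure
      left
      rw [Set.mem_singleton_iff]
      simp [List.finRange_succ, mul_assoc]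
    have hcm : ∀ i j : Fin 7, E₇ i j = 2 → Commute (E₇.simple i) (E₇.simple j) :=
      fun i j h => simple_commute E₇ i j h
    obtain ⟨h5, hc5⟩ := peel H (simple_sq E₇ 5) (simple_sq E₇ 6) (simple_pow E₇ 5 6 3 rfl)
      (w := E₇.simple 0 * E₇.simple 1 * E₇.simple 2 * E₇.simple 3 * E₇.simple 4)
      (((((hcm 0 6 rfl).mul_left (hcm 1 6 rfl)).mul_left (hcm 2 6 rfl)).mul_left
        (hcm 3 6 rfl)).mul_left (hcm 4 6 rfl)) hc6 h6
    obtain ⟨h4, hc4⟩ := peel H (simple_sq E₇ 4) (simple_sq E₇ 5) (simple_pow E₇ 4 5 3 rfl)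
      (w := E₇.simple 0 * E₇.simple 1 * E₇.simple 2 * E₇.simple 3)
      ((((hcm 0 5 rfl).mul_left (hcm 1 5 rfl)).mul_left (hcm 2 5 rfl)).mul_left
        (hcm 3 5 rfl)) hc5 h5
    obtain ⟨h3, hc3⟩ := peel H (simple_sq E₇ 3) (simple_sq E₇ 4) (simple_pow E₇ 3 4 3 rfl)
      (w := E₇.simple 0 * E₇.simple 1 * E₇.simple 2)
      (((hcm 0 4 rfl).mul_left (hcm 1 4 rfl)).mul_left (hcm 2 4 rfl)) hc4 h4
    obtain ⟨h0, h1, h2⟩ := e_tail E₇ 0 1 2 3 rfl rfl rfl rfl rfl H hc3 h3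
    intro i
    fin_cases i <;> assumption

theorem gen_E6 : ∃ T : Finset E₆.Group, T.card = 1 ∧
    (∀ t ∈ T, ∃ (g : E₆.Group) (i : Fin 6), t = g * E₆.simple i * g⁻¹) ∧
    Subgroup.closure (({((List.finRange 6).map E₆.simple).prod} : Set E₆.Group) ∪ ↑T) = ⊤ := by
  refine ⟨{E₆.simple 5}, Finset.card_singleton _, ?_, ?_⟩
  · intro t ht
    rw [Finset.mem_singleton] at ht
    rw [ht]
    exact self_conj E₆ 5
  · apply closure_eq_top_of_simple_mem
    set H := Subgroup.closure (({((List.finRange 6).map E₆.simple).prod} : Set E₆.Group) ∪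
      ↑({E₆.simple 5} : Finset E₆.Group)) with hH
    have h5 : E₆.simple 5 ∈ H := Subgroup.subset_closure (Or.inr (by simp))
    have hc5 : E₆.simple 0 * E₆.simple 1 * E₆.simple 2 * E₆.simple 3 * E₆.simple 4 *
        E₆.simple 5 ∈ H := by
      apply Subgroup.subset_closure
      left
      rw [Set.mem_singleton_iff]
      simp [List.finRange_succ, mul_assoc]
    have hcm : ∀ i j : Fin 6, E₆ i j = 2 → Commute (E₆.simple i) (E₆.simple j) :=
      fun i j h => simple_commute E₆ i j h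
    obtain ⟨h4, hc4⟩ := peel H (simple_sq E₆ 4) (simple_sq E₆ 5) (simple_pow E₆ 4 5 3 rfl)
      (w := E₆.simple 0 * E₆.simple 1 * E₆.simple 2 * E₆.simple 3)
      ((((hcm 0 5 rfl).mul_left (hcm 1 5 rfl)).mul_left (hcm 2 5 rfl)).mul_left
        (hcm 3 5 rfl)) hc5 h5
    obtain ⟨h3, hc3⟩ := peel H (simple_sq E₆ 3) (simple_sq E₆ 4) (simple_pow E₆ 3 4 3 rfl)
      (w := E₆.simple 0 * E₆.simple 1 * E₆.simple 2)
      (((hcm 0 4 rfl).mul_left (hcm 1 4 rfl)).mul_left (hcm 2 4 rfl)) hc4 h4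
    obtain ⟨h0, h1, h2⟩ := e_tail E₆ 0 1 2 3 rfl rfl rfl rfl rfl H hc3 h3
    intro i
    fin_cases i <;> assumption

end Cfsg.Agent.Lib.H12.CoxGen
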