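import Mathlib
import Cfsg.Prelude.Def_ChevStructure
import Cfsg.Agent.Lib.H12.CoxGenA

/-!
# Generation of the Coxeter groups of types `B₂`, `G₂`, `D₄`, `F₄` by the Coxeter element and
one or two simple reflections (helper12)
-/

set_option autoImplicit false

namespace Cfsg.Agent.Lib.H12.CoxGen

open CoxeterMatrix

theorem gen_rank_two (M : CoxeterMatrix (Fin 2)) : ∃ T : Finset M.Group, T.card = 1 ∧
    (∀ t ∈ T, ∃ (g : M.Group) (i : Fin 2), t = g * M.simple i * g⁻¹) ∧
    Subgroup.closure (({((List.finRange 2).map M.simple).prod} : Set M.Group) ∪ ↑T) = ⊤ := by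
  refine ⟨{M.simple 0}, Finset.card_singleton _, ?_, ?_⟩
  · intro t ht
    rw [Finset.mem_singleton] at ht
    rw [ht]
    exact self_conj M 0
  · apply closure_eq_top_of_simple_mem
    set H := Subgroup.closure (({((List.finRange 2).map M.simple).prod} : Set M.Group) ∪
      ↑({M.simple 0} : Finset M.Group)) with hH
    have h0 : M.simple 0 ∈ H := Subgroup.subset_closure (Or.inr (by simp))
    have hc : M.simple 0 * M.simple 1 ∈ H := by
      apply Subgroup.subset_closure
      left
      rw [Set.mem_singleton_iff]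
      simp [List.finRange_succ]
    have h1 : M.simple 1 ∈ H := by
      have := H.mul_mem h0 hc
      rwa [← mul_assoc, simple_sq, one_mul] at this
    intro i
    fin_cases i <;> assumption

/-- the images of the simple reflections of `D₄` in `Sym(4)` -/
def d4Perm : Fin 4 → Equiv.Perm (Fin 4) :=
  ![Equiv.swap 0 1, Equiv.swap 1 2, Equiv.swap 2 3, Equiv.swap 2 3]

theorem d4Perm_liftable : Cfsg.Lie.coxeterD4.IsLiftable d4Perm := by
  intro i j
  fin_cases i <;> fin_cases j <;> decide

theorem d4_simple_ne : Cfsg.Lie.coxeterD4.simple 0 ≠ Cfsg.Lie.coxeterD4.simple 3 := by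
  intro h
  have h1 := congrArg (Cfsg.Lie.coxeterD4.toCoxeterSystem.lift ⟨d4Perm, d4Perm_liftable⟩) h
  rw [← CoxeterMatrix.toCoxeterSystem_simple, CoxeterSystem.lift_apply_simple,
    CoxeterSystem.lift_apply_simple] at h1
  revert h1
  decide

theorem gen_D4 : ∃ T : Finset Cfsg.Lie.coxeterD4.Group, T.card = 2 ∧
    (∀ t ∈ T, ∃ (g : Cfsg.Lie.coxeterD4.Group) (i : Fin 4),
      t = g * Cfsg.Lie.coxeterD4.simple i * g⁻¹) ∧
    Subgroup.closure (({((List.finRange 4).map Cfsg.Lie.coxeterD4.simple).prod} :
      Set Cfsg.Lie.coxeterD4.Group) ∪ ↑T) = ⊤ := by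
  classical
  set M := Cfsg.Lie.coxeterD4 with hM
  refine ⟨{M.simple 0, M.simple 3}, Finset.card_pair d4_simple_ne, ?_, ?_⟩
  · intro t ht
    rw [Finset.mem_insert, Finset.mem_singleton] at ht
    rcases ht with rfl | rfl
    · exact self_conj M 0
    · exact self_conj M 3
  · apply closure_eq_top_of_simple_mem
    set H := Subgroup.closure (({((List.finRange 4).map M.simple).prod} : Set M.Group) ∪
      ↑({M.simple 0, M.simple 3} : Finset M.Group)) with hH
    have h0 : M.simple 0 ∈ H := Subgroup.subset_closure (Or.inr (by simp))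
    have h3 : M.simple 3 ∈ H := Subgroup.subset_closure (Or.inr (by simp))
    have hc : M.simple 0 * M.simple 1 * M.simple 2 * M.simple 3 ∈ H := by
      apply Subgroup.subset_closure
      left
      rw [Set.mem_singleton_iff]
      simp [List.finRange_succ, mul_assoc]
    have h12 : M.simple 1 * M.simple 2 ∈ H := by
      have h := H.mul_mem (H.mul_mem h0 hc) h3
      have e : M.simple 0 * (M.simple 0 * M.simple 1 * M.simple 2 * M.simple 3) * M.simple 3 =
          M.simple 1 * M.simple 2 := by
        calc M.simple 0 * (M.simple 0 * M.simple 1 * M.simple 2 * M.simple 3) * M.simple 3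
            = (M.simple 0 * M.simple 0) * M.simple 1 * M.simple 2 *
                (M.simple 3 * M.simple 3) := by simp only [mul_assoc]
          _ = M.simple 1 * M.simple 2 := by rw [simple_sq, simple_sq, one_mul, mul_one]
      rwa [e] at h
    have h21 : M.simple 2 * M.simple 1 ∈ H := by
      have := H.inv_mem h12
      rwa [mul_inv_rev, inv_of_sq (simple_sq M 1), inv_of_sq (simple_sq M 2)] at this
    obtain ⟨h2, h1⟩ := split H (simple_sq M 2) (simple_sq M 1) (simple_sq M 0)
      (simple_pow M 1 0 3 rfl) (simple_comm M 2 0 rfl) h21 h0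
    intro i
    fin_cases i <;> assumption

/-- the images of the simple reflections of `F₄` in `Sym(2)` -/
def f4Perm : Fin 4 → Equiv.Perm (Fin 2) :=
  ![1, 1, Equiv.swap 0 1, Equiv.swap 0 1]

theorem f4Perm_liftable : F₄.IsLiftable f4Perm := by
  intro i j
  fin_cases i <;> fin_cases j <;> decide

theorem f4_simple_ne : F₄.simple 0 ≠ F₄.simple 3 := by
  intro h
  have h1 := congrArg (F₄.toCoxeterSystem.lift ⟨f4Perm, f4Perm_liftable⟩) h
  rw [← CoxeterMatrix.toCoxeterSystem_simple, CoxeterSystem.lift_apply_simple,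
    CoxeterSystem.lift_apply_simple] at h1
  revert h1
  decide

theorem gen_F4 : ∃ T : Finset F₄.Group, T.card = 2 ∧
    (∀ t ∈ T, ∃ (g : F₄.Group) (i : Fin 4), t = g * F₄.simple i * g⁻¹) ∧
    Subgroup.closure (({((List.finRange 4).map F₄.simple).prod} : Set F₄.Group) ∪ ↑T) = ⊤ := by
  classical
  refine ⟨{F₄.simple 0, F₄.simple 3}, Finset.card_pair f4_simple_ne, ?_, ?_⟩
  · intro t ht
    rw [Finset.mem_insert, Finset.mem_singleton] at ht
    rcases ht with rfl | rfl
    · exact self_conj F₄ 0
    · exact self_conj F₄ 3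
  · apply closure_eq_top_of_simple_mem
    set H := Subgroup.closure (({((List.finRange 4).map F₄.simple).prod} : Set F₄.Group) ∪
      ↑({F₄.simple 0, F₄.simple 3} : Finset F₄.Group)) with hH
    have h0 : F₄.simple 0 ∈ H := Subgroup.subset_closure (Or.inr (by simp))
    have h3 : F₄.simple 3 ∈ H := Subgroup.subset_closure (Or.inr (by simp))
    have hc : F₄.simple 0 * F₄.simple 1 * F₄.simple 2 * F₄.simple 3 ∈ H := by
      apply Subgroup.subset_closure
      left
      rw [Set.mem_singleton_iff]
      simp [List.finRange_succ, mul_assoc]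
    have h12 : F₄.simple 1 * F₄.simple 2 ∈ H := by
      have h := H.mul_mem (H.mul_mem h0 hc) h3
      have e : F₄.simple 0 * (F₄.simple 0 * F₄.simple 1 * F₄.simple 2 * F₄.simple 3) *
          F₄.simple 3 = F₄.simple 1 * F₄.simple 2 := by
        calc F₄.simple 0 * (F₄.simple 0 * F₄.simple 1 * F₄.simple 2 * F₄.simple 3) * F₄.simple 3
            = (F₄.simple 0 * F₄.simple 0) * F₄.simple 1 * F₄.simple 2 *
                (F₄.simple 3 * F₄.simple 3) := by simp only [mul_assoc]
          _ = F₄.simple 1 * F₄.simple 2 := by rw [simple_sq, simple_sq, one_mul, mul_one]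
      rwa [e] at h
    obtain ⟨h1, h2⟩ := split_four H (simple_sq F₄ 0) (simple_sq F₄ 1) (simple_sq F₄ 2)
      (simple_pow F₄ 0 1 3 rfl) (simple_comm F₄ 0 2 rfl) h0 h12
    intro i
    fin_cases i <;> assumption

end Cfsg.Agent.Lib.H12.CoxGen
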