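import Mathlib

set_option autoImplicit false

namespace Cfsg.Agent.Lib.H12

open Equiv Equiv.Perm

/-- If a prime `r` divides the lcm of a multiset of naturals, it divides one of its members. -/
theorem prime_dvd_multiset_lcm {r : ℕ} (hr : r.Prime) {m : Multiset ℕ} (h : r ∣ m.lcm) :
    ∃ a ∈ m, r ∣ a := by
  induction m using Multiset.induction_on with
  | empty =>
    simp at h
    exact absurd h hr.one_lt.ne'
  | cons a s ih =>
    rw [Multiset.lcm_cons] at h
    have h' : r ∣ Nat.lcm a s.lcm := h
    have h2 : r ∣ a * s.lcm := dvd_trans h' (Nat.lcm_dvd_mul a s.lcm)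
    rcases (Nat.Prime.dvd_mul hr).mp h2 with h3 | h3
    · exact ⟨a, Multiset.mem_cons_self a s, h3⟩
    · obtain ⟨b, hb, hrb⟩ := ih h3
      exact ⟨b, Multiset.mem_cons_of_mem hb, hrb⟩

/-- Two members `a ≠ b` of a multiset of naturals have `a + b ≤ sum`. -/
theorem add_le_sum_of_mem_of_ne {m : Multiset ℕ} {a b : ℕ} (ha : a ∈ m) (hb : b ∈ m) (hab : a ≠ b) :
    a + b ≤ m.sum := by
  obtain ⟨t, rfl⟩ := Multiset.exists_cons_of_mem ha
  have hb' : b ∈ t := by
    rcases Multiset.mem_cons.mp hb with h | h
    · exact absurd h.symm hab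
    · exact h
  obtain ⟨u, rfl⟩ := Multiset.exists_cons_of_mem hb'
  simp only [Multiset.sum_cons]
  omega

/-- A member of a multiset of naturals is at most the sum. -/
theorem le_sum_of_mem' {m : Multiset ℕ} {a : ℕ} (ha : a ∈ m) : a ≤ m.sum := by
  obtain ⟨t, rfl⟩ := Multiset.exists_cons_of_mem ha
  simp only [Multiset.sum_cons]
  omega

/-- The order of an element of the alternating group is the order of the underlying permutation. -/
theorem orderOf_alt_coe {n : ℕ} (g : alternatingGroup (Fin n)) :
    orderOf (g : Perm (Fin n)) = orderOf g := Subgroup.orderOf_coe g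

/-- `m` is the order of an element of `A_n` iff there is an admissible even cycle type with lcm `m`. -/
theorem mem_range_orderOf_alt_iff (n m : ℕ) :
    m ∈ Set.range (orderOf : alternatingGroup (Fin n) → ℕ) ↔
      ∃ c : Multiset ℕ, c.sum ≤ n ∧ (∀ a ∈ c, 2 ≤ a) ∧ Even (c.sum + Multiset.card c) ∧ c.lcm = m := by
  constructor
  · rintro ⟨g, rfl⟩
    refine ⟨(g : Perm (Fin n)).cycleType, ?_, ?_, ?_, ?_⟩
    · simpa using (g : Perm (Fin n)).sum_cycleType_le
    · intro a ha
      exact two_le_of_mem_cycleType ha
    · have hg : sign (g : Perm (Fin n)) = 1 := Equiv.Perm.mem_alternatingGroup.mp g.2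
      rw [sign_of_cycleType] at hg
      by_contra hodd
      rw [Nat.not_even_iff_odd] at hodd
      rw [hodd.neg_one_pow] at hg
      exact absurd hg (by decide)
    · rw [lcm_cycleType, orderOf_alt_coe]
  · rintro ⟨c, hsum, h2, hev, rfl⟩
    obtain ⟨g, hg⟩ := (Equiv.Perm.exists_with_cycleType_iff (α := Fin n)).mpr
      ⟨by simpa using hsum, h2⟩
    have hsign : sign g = 1 := by
      rw [sign_of_cycleType, hg, hev.neg_one_pow]
    refine ⟨⟨g, Equiv.Perm.mem_alternatingGroup.mpr hsign⟩, ?_⟩
    rw [← orderOf_alt_coe]
    simp only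
    rw [← lcm_cycleType, hg]

end Cfsg.Agent.Lib.H12

namespace Cfsg.Agent.Lib.H12

/-- Parity of `sum + card` of a multiset of naturals is the parity of the number of even members. -/
theorem even_sum_add_card_iff (c : Multiset ℕ) :
    Even (c.sum + Multiset.card c) ↔ Even (Multiset.card (c.filter (fun a => Even a))) := by
  induction c using Multiset.induction_on with
  | empty => simp
  | cons a s ih =>
    by_cases ha : Even a
    · rw [Multiset.filter_cons_of_pos _ ha]
      simp only [Multiset.sum_cons, Multiset.card_cons]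
      have e1 := Nat.even_iff (n := s.sum + Multiset.card s)
      have e2 := Nat.even_iff (n := Multiset.card (Multiset.filter (fun a => Even a) s))
      have e3 := Nat.even_iff (n := a + s.sum + (Multiset.card s + 1))
      have e4 := Nat.even_iff (n := Multiset.card (Multiset.filter (fun a => Even a) s) + 1)
      have e5 := Nat.even_iff.mp ha
      rw [e3, e4]
      rw [e1, e2] at ih
      omega
    · rw [Multiset.filter_cons_of_neg _ ha]
      simp only [Multiset.sum_cons, Multiset.card_cons]
      have e1 := Nat.even_iff (n := s.sum + Multiset.card s)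
      have e2 := Nat.even_iff (n := Multiset.card (Multiset.filter (fun a => Even a) s))
      have e3 := Nat.even_iff (n := a + s.sum + (Multiset.card s + 1))
      have e5 : a % 2 = 1 := Nat.odd_iff.mp (Nat.not_even_iff_odd.mp ha)
      rw [e3, e2]
      rw [e1, e2] at ih
      omega

/-- If all members of a multiset of naturals are at least `k`, then `k * card ≤ sum`. -/
theorem card_mul_le_sum {c : Multiset ℕ} {k : ℕ} (h : ∀ a ∈ c, k ≤ a) :
    k * Multiset.card c ≤ c.sum := by
  induction c using Multiset.induction_on with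
  | empty => simp
  | cons a s ih =>
    have h1 : k ≤ a := h a (Multiset.mem_cons_self a s)
    have h2 := ih (fun b hb => h b (Multiset.mem_cons_of_mem hb))
    simp only [Multiset.sum_cons, Multiset.card_cons]
    nlinarith

end Cfsg.Agent.Lib.H12
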