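/-
S2548 piece D-COMM (architect helper25; piece by helper12): `xS_mem_OmA` — for `n ≥ 6` every short root element of `GO` is a
commutator of two short root elements: `xS a b c = ⁅xS a k c, xS k b 1⁆` for `k ∉ {a, b, rev a, rev b}`.
-/
import Cfsg.Agent.Lib.H12.DBNGOMEM

set_option autoImplicit false

namespace Cfsg.Agent.Lib.H12.DBN

open Matrix Cfsg.Agent.Lib.H12.DCos Cfsg.Agent.Lib.H8.FBN Cfsg.Agent.Lib.H25.DBN
open scoped commutatorElement

variable {F : Type*} [Field F] {n : ℕ}

/-- the ring identity behind the commutator formula: `(1 + [P,Q]) (1 + Q) (1 + P) = (1 + P) (1 + Q)` -/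
theorem comm_ring_id {R : Type*} [Ring R] (P Q : R) (hPP : P * P = 0) (hQQ : Q * Q = 0)
    (hPQP : P * Q * P = 0) (hQPQ : Q * P * Q = 0) :
    (1 + (P * Q - Q * P)) * (1 + Q) * (1 + P) = (1 + P) * (1 + Q) := by
  have e : (1 + (P * Q - Q * P)) * (1 + Q) * (1 + P) =
      (1 + P) * (1 + Q) + (P * (Q * Q) - Q * P * Q + P * Q * P - Q * (P * P) + (P * (Q * Q) - Q * P * Q) * P) := by
    noncomm_ring
  rw [e, hPP, hQQ, hPQP, hQPQ]
  simp

/-- an index outside `{a, b, rev a, rev b}` (`n ≥ 5`) -/
theorem exists_fresh (h5 : 5 ≤ n) (a b : Fin n) :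
    ∃ k : Fin n, k ≠ a ∧ k ≠ b ∧ k ≠ a.rev ∧ k ≠ b.rev := by
  by_contra hcon
  push Not at hcon
  have hsub : (Finset.univ : Finset (Fin n)) ⊆ {a, b, a.rev, b.rev} := by
    intro k _
    simp only [Finset.mem_insert, Finset.mem_singleton]
    by_cases h1 : k = a
    · exact Or.inl h1
    · by_cases h2 : k = b
      · exact Or.inr (Or.inl h2)
      · by_cases h3 : k = a.rev
        · exact Or.inr (Or.inr (Or.inl h3))
        · exact Or.inr (Or.inr (Or.inr (hcon k h1 h2 h3)))
  have hc := Finset.card_le_card hsub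
  rw [Finset.card_univ, Fintype.card_fin] at hc
  have h4 : ({a, b, a.rev, b.rev} : Finset (Fin n)).card ≤ 4 := Finset.card_le_four
  omega

/-- the matrix form of the commutator formula -/
theorem xSm_comm_aux (a b k : Fin n) (hab : a ≠ b) (haa : a ≠ a.rev) (hbb : b ≠ b.rev)
    (hkk : k ≠ k.rev) (hka : k ≠ a) (hkb : k ≠ b) (hka' : k ≠ a.rev) (hkb' : k ≠ b.rev) (c : F) :
    xSm (RingHom.id F) a b c * xSm (RingHom.id F) k b 1 * xSm (RingHom.id F) a k c =
      xSm (RingHom.id F) a k c * xSm (RingHom.id F) k b 1 := by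
  have hrk : k.rev ≠ a := fun h => hka' (by rw [← h, Fin.rev_rev])
  have hrkb : k.rev ≠ b := fun h => hkb' (by rw [← h, Fin.rev_rev])
  have hrab : a.rev ≠ b.rev := fun h => hab (Fin.rev_injective h)
  have hrak : a.rev ≠ k.rev := fun h => hka (Fin.rev_injective h).symm
  have hrbk : b.rev ≠ k.rev := fun h => hkb (Fin.rev_injective h).symm
  set P : Matrix (Fin n) (Fin n) F := Matrix.single a k c - Matrix.single k.rev a.rev c with hP
  set Q : Matrix (Fin n) (Fin n) F := Matrix.single k b 1 - Matrix.single b.rev k.rev 1 with hQ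
  have hPP : P * P = 0 := by
    rw [hP, sub_mul, mul_sub, mul_sub,
      Matrix.single_mul_single_of_ne c a k a hka c,
      Matrix.single_mul_single_of_ne c a k k.rev hkk c,
      Matrix.single_mul_single_of_ne c k.rev a.rev a haa.symm c,
      Matrix.single_mul_single_of_ne c k.rev a.rev k.rev hrak c]
    simp
  have hQQ : Q * Q = 0 := by
    rw [hQ, sub_mul, mul_sub, mul_sub,
      Matrix.single_mul_single_of_ne 1 k b k hkb.symm 1,
      Matrix.single_mul_single_of_ne 1 k b b.rev hbb 1,
      Matrix.single_mul_single_of_ne 1 b.rev k.rev k hkk.symm 1,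
      Matrix.single_mul_single_of_ne 1 b.rev k.rev b.rev hrbk.symm 1]
    simp
  have hPQ : P * Q = Matrix.single a b c := by
    rw [hP, hQ, sub_mul, mul_sub, mul_sub,
      Matrix.single_mul_single_same c a k b 1,
      Matrix.single_mul_single_of_ne c a k b.rev hkb' 1,
      Matrix.single_mul_single_of_ne c k.rev a.rev k hka'.symm 1,
      Matrix.single_mul_single_of_ne c k.rev a.rev b.rev hrab 1]
    simp
  have hQP : Q * P = Matrix.single b.rev a.rev c := by
    rw [hP, hQ, sub_mul, mul_sub, mul_sub,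
      Matrix.single_mul_single_of_ne 1 k b a hab.symm c,
      Matrix.single_mul_single_of_ne 1 k b k.rev hrkb.symm c,
      Matrix.single_mul_single_of_ne 1 b.rev k.rev a hrk c,
      Matrix.single_mul_single_same 1 b.rev k.rev a.rev c]
    simp
  have hPQP : P * Q * P = 0 := by
    rw [hPQ, hP, mul_sub,
      Matrix.single_mul_single_of_ne c a b a hab.symm c,
      Matrix.single_mul_single_of_ne c a b k.rev hrkb.symm c]
    simp
  have hQPQ : Q * P * Q = 0 := by
    rw [hQP, hQ, mul_sub,
      Matrix.single_mul_single_of_ne c b.rev a.rev k hka'.symm 1,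
      Matrix.single_mul_single_of_ne c b.rev a.rev b.rev hrab 1]
    simp
  have e1 : xSm (RingHom.id F) a k c = 1 + P := by
    unfold xSm
    rw [RingHom.id_apply, hP, add_sub_assoc]
  have e2 : xSm (RingHom.id F) k b 1 = 1 + Q := by
    unfold xSm
    rw [RingHom.id_apply, hQ, add_sub_assoc]
  have e3 : xSm (RingHom.id F) a b c = 1 + (P * Q - Q * P) := by
    unfold xSm
    rw [RingHom.id_apply, hPQ, hQP, add_sub_assoc]
  rw [e1, e2, e3]
  exact comm_ring_id P Q hPP hQQ hPQP hQPQ

/-- piece D-COMM: for `n ≥ 6` the short root elements lie in the commutator subgroup of `GO` -/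
theorem xS_mem_OmA (hn : n % 2 = 0) (h6 : 6 ≤ n) (a b : Fin n) (hab : a ≠ b) (hab' : a ≠ b.rev) (c : F) :
    xS hn a b hab c ∈ (OmA : Subgroup (GA F n)) := by
  obtain ⟨k, hka, hkb, hka', hkb'⟩ := exists_fresh (by omega : 5 ≤ n) a b
  have hak : a ≠ k := hka.symm
  have hak' : a ≠ k.rev := fun h => hka' (by rw [h, Fin.rev_rev])
  have hx : xS hn a k hak c ∈ (GO : Subgroup (GA F n)) := xS_mem_GO hn a k hak hak' c
  have hy : xS hn k b hkb (1 : F) ∈ (GO : Subgroup (GA F n)) := xS_mem_GO hn k b hkb hkb' 1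
  have hmul : xS hn a b hab c * xS hn k b hkb (1 : F) * xS hn a k hak c =
      xS hn a k hak c * xS hn k b hkb (1 : F) := by
    apply ext_val
    rw [val_mul, val_mul, val_mul, xS_val, xS_val, xS_val]
    exact xSm_comm_aux a b k hab (ne_rev hn a) (ne_rev hn b) (ne_rev hn k) hka hkb hka' hkb' c
  have hcomm : xS hn a b hab c = ⁅xS hn a k hak c, xS hn k b hkb (1 : F)⁆ := by
    rw [commutatorElement_def, ← hmul]
    group
  rw [hcomm]
  exact Subgroup.commutator_mem_commutator hx hy

end Cfsg.Agent.Lib.H12.DBN
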