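import Mathlib
import Cfsg.Agent.Lib.H3.DF0

/-!
# S4316, piece D11a (helper12): `|T : T ∩ C| ≤ |G : G ∩ C|` for `T ≤ G`
-/

set_option autoImplicit false

universe u

namespace Cfsg.Agent.Lib.H12.DF

open Subgroup Cfsg.Agent.Lib.H3.DF

variable {Γ : Type u} [Group Γ] [Finite Γ]

omit [Finite Γ] in
/-- `|A| * |K : A| = |K|` for `A ≤ K`. -/
theorem card_mul_relIndex_d11 {A K : Subgroup Γ} (hAK : A ≤ K) :
    Nat.card A * A.relIndex K = Nat.card K := by
  have h1 := (A.subgroupOf K).card_mul_index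
  rwa [Nat.card_congr (Subgroup.subgroupOfEquivOfLe hAK).toEquiv] at h1

/-- D11a. `|T : T ∩ C| ≤ |G : G ∩ C|` for `T ≤ G`. -/
theorem card_le_mul_inf_of_le (G T C : Subgroup Γ) (hTG : T ≤ G) (n : ℕ)
    (hn : Nat.card G ≤ n * Nat.card ↥(G ⊓ C)) : Nat.card T ≤ n * Nat.card ↥(T ⊓ C) := by
  -- `(T ⊓ C).relIndex T = C.relIndex T ≤ C.relIndex G = (G ⊓ C).relIndex G ≤ n`
  have h1 : (G ⊓ C).relIndex G ≤ n := by
    have hc := card_mul_relIndex_d11 (inf_le_left : G ⊓ C ≤ G)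
    have hpos : 0 < Nat.card ↥(G ⊓ C) := Nat.card_pos
    rw [← hc, mul_comm n] at hn
    exact Nat.le_of_mul_le_mul_left hn hpos
  have h2 : (T ⊓ C).relIndex T ≤ (G ⊓ C).relIndex G := by
    rw [inf_comm T C, inf_comm G C, inf_relIndex_right, inf_relIndex_right]
    exact relIndex_le_of_le_right hTG (Subgroup.index_ne_zero_of_finite (H := C.subgroupOf G))
  have h3 := card_mul_relIndex_d11 (inf_le_left : T ⊓ C ≤ T)
  rw [← h3, mul_comm n]
  exact Nat.mul_le_mul_left _ (h2.trans h1)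

end Cfsg.Agent.Lib.H12.DF
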