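import Mathlib
import Cfsg.Agent.Lib.H3.DF0

/-!
# S4316, piece D6a (helper12): small facts on `T = ⟨K_c⟩` and `K_c = C_G(c)'`

`K_c ≤ T ≤ G`, and `A` (abelian, normalizing `G`) normalizes `C_G(c)`, `K_c` and `T`.
-/

set_option autoImplicit false

universe u

namespace Cfsg.Agent.Lib.H12.DF

open Subgroup Cfsg.Agent.Lib.H3.DF
open scoped commutatorElement

variable {Γ : Type u} [Group Γ] [Finite Γ]

omit [Finite Γ] in
/-- An element normalizing `H` normalizes `⁅H, H⁆`. -/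
theorem mem_normalizer_commutator_self {H : Subgroup Γ} {a : Γ}
    (ha : a ∈ normalizer (H : Set Γ)) : a ∈ normalizer ((⁅H, H⁆ : Subgroup Γ) : Set Γ) := by
  rw [mem_normalizer_iff_map_conj_eq] at ha ⊢
  rw [Subgroup.map_commutator, ha]

omit [Finite Γ] in
/-- An element normalizing `G` and commuting with `c` normalizes `C_G(c)`. -/
theorem mem_normalizer_Gc {G : Subgroup Γ} {a c : Γ} (haG : a ∈ normalizer (G : Set Γ))
    (hac : a * c = c * a) : a ∈ normalizer ((Gc G c : Subgroup Γ) : Set Γ) := by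
  unfold Gc
  apply Cfsg.Agent.Lib.H16.mem_normalizer_inf haG
  apply Cfsg.Agent.Lib.H16.mem_normalizer_centralizer
  intro s hs
  rw [Set.mem_singleton_iff] at hs
  rw [hs]
  exact hac.symm

/-- D6a. Small facts on `T` and `K_c`: `K_c ≤ T ≤ G`, `A` normalizes `C_G(c)`, `K_c`, `T`. -/
theorem TT_facts {q m : ℕ} [Fact q.Prime] {G A : Subgroup Γ} (h : DHyp q m G A) :
    TT G A ≤ G ∧ (∀ c ∈ A, c ≠ 1 → Kc G c ≤ TT G A) ∧
      (∀ c ∈ A, A ≤ normalizer (Gc G c : Set Γ)) ∧ (∀ c ∈ A, A ≤ normalizer (Kc G c : Set Γ)) ∧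
      A ≤ normalizer (TT G A : Set Γ) := by
  have hGc : ∀ c ∈ A, A ≤ normalizer (Gc G c : Set Γ) := fun c hc a ha =>
    mem_normalizer_Gc (h.norm ha) (h.e3.comm a ha c hc)
  have hKc : ∀ c ∈ A, A ≤ normalizer (Kc G c : Set Γ) := fun c hc a ha =>
    mem_normalizer_commutator_self (hGc c hc ha)
  refine ⟨?_, ?_, hGc, hKc, ?_⟩
  · unfold TT
    apply iSup₂_le
    intro c _
    exact (commutator_le_self (Gc G c)).trans inf_le_left
  · intro c hc hc1
    unfold TT
    exact le_iSup₂ (f := fun a (_ : a ∈ Cfsg.Agent.Lib.H16.nz A) => Kc G a) c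
      (Cfsg.Agent.Lib.H16.mem_nz.mpr ⟨hc1, hc⟩)
  · intro a ha
    rw [mem_normalizer_iff_map_conj_eq]
    unfold TT
    rw [Subgroup.map_iSup]
    congr 1
    funext c
    rw [Subgroup.map_iSup]
    congr 1
    funext hc
    have hcA : c ∈ A := (Cfsg.Agent.Lib.H16.mem_nz.mp hc).2
    exact mem_normalizer_iff_map_conj_eq.mp (hKc c hcA ha)

end Cfsg.Agent.Lib.H12.DF
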