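import Mathlib
import Cfsg.Agent.Lib.H3.DF0
import Cfsg.Agent.Lib.H12.DFD6a
import Cfsg.Agent.Lib.H13.DFD4
import Cfsg.Agent.Lib.H25.DFD5
import Cfsg.Agent.Lib.H8.DFD6b
import Cfsg.Agent.Lib.H10.DFD6c

/-!
# S4316, piece D6d (helper12): `G' ≤ T`

D6c with `S = ⋃ C_G(B)` (`B` a plane): `S` generates `G` (D4b), `G` normalizes `T` (D6b), and the
commutator of two members of `S` lies in some `K_c ≤ T` (D5, D6a).
-/

set_option autoImplicit false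

universe u

namespace Cfsg.Agent.Lib.H12.DF

open Subgroup Cfsg.Agent.Lib.H3.DF
open scoped commutatorElement

variable {Γ : Type u} [Group Γ] [Finite Γ]

/-- D6d. `G' ≤ T`. -/
theorem commutator_le_TT {q m : ℕ} [Fact q.Prime] {G A : Subgroup Γ} (h : DHyp q m G A) :
    ⁅G, G⁆ ≤ TT G A := by
  obtain ⟨-, hKT, -, -, -⟩ := Cfsg.Agent.Lib.H12.DF.TT_facts h
  apply Cfsg.Agent.Lib.H10.DF.commutator_le_of_closure G (TT G A)
    {x | ∃ B : Subgroup Γ, IsPlane q A B ∧ x ∈ HB G B}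
  · apply Cfsg.Agent.Lib.H13.DF.le_of_HB_le h
    intro B hB x hx
    exact Subgroup.subset_closure ⟨B, hB, hx⟩
  · rintro x ⟨B, -, hx⟩
    exact hx.1
  · exact Cfsg.Agent.Lib.H8.DF.le_normalizer_TT h
  · rintro a ⟨B, hB, ha⟩ b ⟨B', hB', hb⟩
    obtain ⟨c, hcA, hc1, hc⟩ := Cfsg.Agent.Lib.H25.DF.exists_commutator_mem_Kc h hB hB'
    exact hKT c hcA hc1 (hc a ha b hb)

end Cfsg.Agent.Lib.H12.DF
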