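import Mathlib
import Cfsg.Agent.Lib.H3.DF0
import Cfsg.Agent.Lib.H12.BQG4a
import Cfsg.Agent.Lib.H12.DFD6a
import Cfsg.Agent.Lib.H13.DFD4
import Cfsg.Agent.Lib.H25.DFD7

/-!
# S4316, piece D8 (helper12): `|C_G(B) : C_{C_G(B)}(T)| ≤ m ^ (q ^ 3 * m)`

`S :=` all `k ∈ K_c ∩ C_G(B')`, `c ∈ A`, `c ≠ 1`, `B'` a plane through `c`.  `S ⊆ ⋃_c K_c`, so
`|S| ≤ q ^ 3 * m`; `closure S = T` (D4a); each `k ∈ S` has `|C_G(B) : C_{C_G(B)}(k)| ≤ m` (D7);
then the index of the intersection of the centralizers (S4719 piece G4a).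
-/

set_option autoImplicit false

universe u

namespace Cfsg.Agent.Lib.H12.DF

open Subgroup Cfsg.Agent.Lib.H3.DF
open scoped commutatorElement

variable {Γ : Type u} [Group Γ] [Finite Γ]

/-- The finset of the elements of a subgroup has its cardinality. -/
theorem card_toFinset_subgroup (K : Subgroup Γ) :
    ((Set.toFinite (K : Set Γ)).toFinset).card = Nat.card K := by
  rw [← Set.ncard_eq_toFinset_card]
  exact (Nat.card_coe_set_eq (K : Set Γ))

/-- D8. `|C_G(B) : C_{C_G(B)}(T)| ≤ m ^ (q^3 m)`. -/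
theorem card_HB_le_mul_centralizer_TT {q m : ℕ} [Fact q.Prime] {G A : Subgroup Γ}
    (h : DHyp q m G A) {B : Subgroup Γ} (hB : IsPlane q A B) :
    Nat.card ↥(HB G B) ≤ dJ q m * Nat.card ↥(HB G B ⊓ centralizer (TT G A : Set Γ)) := by
  classical
  have hq : q.Prime := Fact.out
  obtain ⟨hTG, hKT, hAGc, hAK, hAT⟩ := Cfsg.Agent.Lib.H12.DF.TT_facts h
  -- the generating set
  set Sset : Set Γ := {k | ∃ c ∈ Cfsg.Agent.Lib.H16.nz A, ∃ B' : Subgroup Γ,
    IsPlane q A B' ∧ c ∈ B' ∧ k ∈ Kc G c ∧ k ∈ HB G B'} with hSset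
  have hfin : Sset.Finite := Set.toFinite _
  set S : Finset Γ := hfin.toFinset with hS
  have hmemS : ∀ k, k ∈ S ↔ k ∈ Sset := fun k => hfin.mem_toFinset
  -- `1 ≤ m`
  have hm1 : 1 ≤ m := by
    have hA1 : 1 < Nat.card A := by
      rw [h.e3.card]; exact Nat.one_lt_pow (by norm_num) hq.one_lt
    have : Nontrivial A := (Finite.one_lt_card_iff_nontrivial).1 hA1
    obtain ⟨⟨c, hcA⟩, hc1⟩ := exists_ne (1 : A)
    have hc1' : c ≠ 1 := fun hc => hc1 (Subtype.ext hc)
    exact le_trans Nat.card_pos (h.small c hcA hc1')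
  -- the cardinality of `S`
  have hScard : S.card ≤ q ^ 3 * m := by
    have hsub : S ⊆ (Cfsg.Agent.Lib.H16.nz A).biUnion
        (fun c => (Set.toFinite ((Kc G c : Subgroup Γ) : Set Γ)).toFinset) := by
      intro k hk
      obtain ⟨c, hc, B', -, -, hkK, -⟩ := (hmemS k).mp hk
      rw [Finset.mem_biUnion]
      refine ⟨c, hc, ?_⟩
      rw [Set.Finite.mem_toFinset]
      exact hkK
    calc S.card ≤ _ := Finset.card_le_card hsub
      _ ≤ ∑ c ∈ Cfsg.Agent.Lib.H16.nz A,
            ((Set.toFinite ((Kc G c : Subgroup Γ) : Set Γ)).toFinset).card := Finset.card_biUnion_le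
      _ ≤ ∑ _c ∈ Cfsg.Agent.Lib.H16.nz A, m := by
          apply Finset.sum_le_sum
          intro c hc
          rw [card_toFinset_subgroup]
          obtain ⟨hc1, hcA⟩ := Cfsg.Agent.Lib.H16.mem_nz.mp hc
          exact h.small c hcA hc1
      _ = (Cfsg.Agent.Lib.H16.nz A).card * m := by rw [Finset.sum_const, smul_eq_mul]
      _ ≤ q ^ 3 * m := by
          apply Nat.mul_le_mul_right
          rw [Cfsg.Agent.Lib.H16.card_nz, h.e3.card]
          exact Nat.sub_le _ _
  -- each member of `S` has a centralizer of index at most `m` in `C_G(B)`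
  have hidx : ∀ y ∈ S, Nat.card ↥(HB G B) ≤ m * Nat.card ↥(HB G B ⊓ centralizer {y}) := by
    intro y hy
    obtain ⟨c, -, B', hB', -, -, hyB'⟩ := (hmemS y).mp hy
    exact Cfsg.Agent.Lib.H25.DF.card_HB_le_mul_centralizer h hB hB' hyB'
  have hG4 := Cfsg.Agent.Lib.H12.BQ.card_le_pow_mul_card_inf_centralizer (HB G B) S m hidx
  -- `closure S = T`
  have hcl : closure (S : Set Γ) = TT G A := by
    apply le_antisymm
    · rw [closure_le]
      intro k hk
      obtain ⟨c, hc, B', -, -, hkK, -⟩ := (hmemS k).mp (Finset.mem_coe.mp hk)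
      obtain ⟨hc1, hcA⟩ := Cfsg.Agent.Lib.H16.mem_nz.mp hc
      exact hKT c hcA hc1 hkK
    · unfold TT
      apply iSup₂_le
      intro c hc
      obtain ⟨hc1, hcA⟩ := Cfsg.Agent.Lib.H16.mem_nz.mp hc
      apply Cfsg.Agent.Lib.H13.DF.le_of_inf_HB_le h hcA hc1 (Kc G c) (closure (S : Set Γ))
        (commutator_le_self (Gc G c)) (hAK c hcA)
      intro B' hB' hcB' k hk
      apply Subgroup.subset_closure
      rw [Finset.mem_coe, hmemS]
      exact ⟨c, hc, B', hB', hcB', hk.1, hk.2⟩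
  have hcent : centralizer ((S : Finset Γ) : Set Γ) = centralizer (TT G A : Set Γ) := by
    rw [← hcl, centralizer_closure]
  rw [hcent] at hG4
  refine hG4.trans (Nat.mul_le_mul_right _ ?_)
  unfold dJ
  exact Nat.pow_le_pow_right hm1 hScard

end Cfsg.Agent.Lib.H12.DF
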