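import Mathlib
import Cfsg.Agent.Lib.H12.Dicyclic
import Cfsg.Agent.Lib.H12.McKayCount

set_option autoImplicit false

/-!
# Character degrees and McKay counts of groups with an inverted abelian subgroup of index two
-/

namespace Cfsg.Agent.Lib.H12

open Cfsg Cfsg.Agent.Lib.L0 Cfsg.Agent.Lib.H24

section Dic

variable {G : Type*} [Group G] {N T : Subgroup G} {w : G}

theorem DicData.index_subgroupOf (h : DicData N T w) [Finite N] : (T.subgroupOf N).index = 2 := by
  have h1 := Subgroup.card_mul_index (T.subgroupOf N)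
  rw [Nat.card_congr (Subgroup.subgroupOfEquivOfLe h.le).toEquiv, h.card] at h1
  have : Finite T := Finite.of_injective (fun t : T => (⟨t, h.le t.2⟩ : N))
    (fun a b hab => Subtype.ext (by simpa using congrArg Subtype.val hab))
  have hT : 0 < Nat.card T := Nat.card_pos
  have h2 : Nat.card T * (T.subgroupOf N).index = Nat.card T * 2 := by rw [h1]; ring
  exact Nat.eq_of_mul_eq_mul_left hT h2

/-- the degrees of the irreducible characters are `1` or `2` -/
theorem DicData.degN_cases (h : DicData N T w) [Fintype N] (χ : Cfsg.IrrCharacter N) :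
    degN χ = 1 ∨ degN χ = 2 := by
  have hidx := h.index_subgroupOf
  have hnorm : (T.subgroupOf N).Normal := Subgroup.normal_of_index_eq_two hidx
  have hab : ∀ a ∈ T.subgroupOf N, ∀ b ∈ T.subgroupOf N, a * b = b * a := by
    intro a ha b hb
    apply Subtype.ext
    exact h.ab a ha b hb
  obtain ⟨d, hd1, hd2⟩ := Cfsg.Agent.Lib.H23.ito_char (T.subgroupOf N) hab χ.2
  rw [hidx] at hd2
  have hd : degN χ = d := (apply_one_eq_iff_degN χ d).mp hd1
  rw [hd]
  have := Nat.le_of_dvd (by norm_num) hd2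
  have hpos : 0 < d := by rw [← hd]; exact degN_pos χ
  interval_cases d
  · left; rfl
  · right; rfl

/-- **McKay counts for dicyclic-type groups.** -/
theorem DicData.mckay (h : DicData N T w) [Finite N]
    (hsq : Nat.card {t : T // (t : G) * t = 1} = 2) (ℓ : ℕ) (hℓ : ℓ.Prime) :
    (ℓ = 2 → mckay ℓ N = 4) ∧ (ℓ ≠ 2 → 2 * mckay ℓ N = Nat.card T + 6) := by
  classical
  have : Fintype N := Fintype.ofFinite N
  have : Fintype (Cfsg.IrrCharacter N) := Fintype.ofFinite _
  have hV : ∀ χ : Cfsg.IrrCharacter N, degN χ ∈ ({1, 2} : Finset ℕ) := by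
    intro χ
    rw [Finset.mem_insert, Finset.mem_singleton]
    exact h.degN_cases χ
  have hk := h.classes
  rw [hsq] at hk
  have h1 := sum_natCard_deg ({1, 2} : Finset ℕ) hV
  have h2 := sum_natCard_deg_sq ({1, 2} : Finset ℕ) hV
  rw [card_irr_eq_card_conjClasses] at h1
  rw [h.card] at h2
  rw [Finset.sum_pair (by norm_num)] at h1 h2
  have hm := mckay_eq_sum ℓ ({1, 2} : Finset ℕ) hV
  rw [Finset.sum_pair (by norm_num)] at hm
  have hℓ1 : ¬ ℓ ∣ 1 := fun hd => hℓ.one_lt.ne' (Nat.dvd_one.mp hd)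
  rw [if_neg hℓ1] at hm
  constructor
  · intro h2'
    subst h2'
    rw [if_pos (dvd_refl 2), add_zero] at hm
    rw [hm]
    omega
  · intro hne
    have hℓ2 : ¬ ℓ ∣ 2 := by
      intro hd
      exact hne ((Nat.prime_dvd_prime_iff_eq hℓ Nat.prime_two).mp hd)
    rw [if_neg hℓ2] at hm
    rw [hm]
    omega

end Dic

end Cfsg.Agent.Lib.H12
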