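import Mathlib
import Cfsg.Prelude.Def_KGroupFacts
import Cfsg.Prelude.Def_ChevStructure
import Cfsg.Prelude.Def_LieTwisted
import Cfsg.Agent.Lib.H29.OctF4e
import Cfsg.Agent.Lib.H29.F4Inv16

/-!
# The large Ree groups: the orders of the two minimal parabolic subgroups
-/

set_option autoImplicit false
set_option linter.unusedSectionVars false
set_option linter.unusedSimpArgs false
set_option linter.unusedVariables false

namespace Cfsg.Agent.Lib.H12.F4Cent

open Cfsg.Lie Matrix Cfsg.Agent.Lib.H29.Chev Cfsg.Agent.Lib.H2.BN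

section Generic

variable {G : Type*} [Group G]

/-- the order of a minimal parabolic subgroup `B ∪ X s B` -/
theorem card_par_of_panel [Finite G] (P : Cfsg.BNPair G) (s : G) (hs : s ∈ P.S) (X : Subgroup G)
    (hXB : X ≤ P.B)
    (hcases : ∀ g ∈ P.parabolic {s}, g ∈ P.B ∨ ∃ x' ∈ X, ∃ b ∈ P.B, g = x' * s * b)
    (hconj : ∀ x ∈ X, x ≠ 1 → s * x * s⁻¹ ∉ P.B) :
    Nat.card (P.parabolic {s}) = Nat.card P.B * (1 + Nat.card X) := by
  classical
  have hsP : s ∈ P.parabolic {s} :=
    (le_sup_right : Subgroup.closure {s} ≤ P.parabolic {s}) (Subgroup.subset_closure rfl)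
  have hBP : P.B ≤ P.parabolic {s} := le_sup_left
  have hsB : s ∉ P.B := S_not_mem_B (P := P) hs
  have hss : s * s ∈ P.B := P.sq_mem s hs
  have hconj' : ∀ x ∈ X, s⁻¹ * x * s ∈ P.B → x = 1 := by
    intro x hx h
    by_contra hne
    apply hconj x hx hne
    have e : s * x * s⁻¹ = (s * s) * (s⁻¹ * x * s) * (s * s)⁻¹ := by group
    rw [e]
    exact mul_mem (mul_mem hss h) (inv_mem hss)
  let f : Option X × P.B → P.parabolic {s} := fun p =>
    match p.1 with
    | none => ⟨p.2.1, hBP p.2.2⟩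
    | some x => ⟨x.1 * s * p.2.1, mul_mem (mul_mem (hBP (hXB x.2)) hsP) (hBP p.2.2)⟩
  have hbij : Function.Bijective f := by
    constructor
    · rintro ⟨o, b⟩ ⟨o', b'⟩ h
      cases o with
      | none =>
        cases o' with
        | none =>
          have := congrArg Subtype.val h
          simp only [f] at this
          rw [Subtype.ext this]
        | some x' =>
          exfalso
          have := congrArg Subtype.val h
          simp only [f] at this
          apply hsB
          have e : s = (x'.1)⁻¹ * b.1 * (b'.1)⁻¹ := by rw [this]; group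
          rw [e]
          exact mul_mem (mul_mem (inv_mem (hXB x'.2)) b.2) (inv_mem b'.2)
      | some x =>
        cases o' with
        | none =>
          exfalso
          have := congrArg Subtype.val h
          simp only [f] at this
          apply hsB
          have e : s = (x.1)⁻¹ * b'.1 * (b.1)⁻¹ := by rw [← this]; group
          rw [e]
          exact mul_mem (mul_mem (inv_mem (hXB x.2)) b'.2) (inv_mem b.2)
        | some x' =>
          have := congrArg Subtype.val h
          simp only [f] at this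
          have h1 : s⁻¹ * ((x'.1)⁻¹ * x.1) * s = b'.1 * (b.1)⁻¹ := by
            have e : s⁻¹ * ((x'.1)⁻¹ * x.1) * s = s⁻¹ * (x'.1)⁻¹ * (x.1 * s * b.1) * (b.1)⁻¹ := by group
            rw [e, this]; group
          have h2 := hconj' _ (mul_mem (inv_mem x'.2) x.2) (by rw [h1]; exact mul_mem b'.2 (inv_mem b.2))
          have hx : x = x' := by
            apply Subtype.ext
            have := inv_mul_eq_one.mp h2
            exact this.symm
          subst hx
          have hb : b = b' := by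
            apply Subtype.ext
            exact mul_left_cancel this
          rw [hb]
    · rintro ⟨g, hg⟩
      rcases hcases g hg with hB | ⟨x', hx', b, hb, e⟩
      · exact ⟨(none, ⟨g, hB⟩), rfl⟩
      · refine ⟨(some ⟨x', hx'⟩, ⟨b, hb⟩), ?_⟩
        apply Subtype.ext
        simp only [f]
        exact e.symm
  rw [← Nat.card_congr (Equiv.ofBijective f hbij), Nat.card_prod, Finite.card_option]
  ring

end Generic

section OctCount

variable {G K : Type*} [Group G] [Field K] (R : OctSys G K)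

theorem card_XA [Finite K] : Nat.card R.XA = Nat.card K := by
  have hbij : Function.Bijective (fun t : K => (⟨R.xA t, R.xA_mem_XA t⟩ : R.XA)) := by
    constructor
    · intro t t' h
      exact R.xA_inj (congrArg Subtype.val h)
    · rintro ⟨g, t, rfl⟩
      exact ⟨t, rfl⟩
  exact (Nat.card_congr (Equiv.ofBijective _ hbij)).symm

theorem card_XC [Finite K] : Nat.card R.XC = Nat.card K * Nat.card K := by
  have hbij : Function.Bijective (fun p : K × K => (⟨R.xC p.1 p.2, R.xC_mem_XC p.1 p.2⟩ : R.XC)) := by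
    constructor
    · rintro ⟨t, u⟩ ⟨t', u'⟩ h
      obtain ⟨h1, h2⟩ := R.xC_inj _ _ _ _ (congrArg Subtype.val h)
      exact Prod.ext h1 h2
    · rintro ⟨g, t, u, rfl⟩
      exact ⟨(t, u), rfl⟩
  rw [← Nat.card_congr (Equiv.ofBijective _ hbij), Nat.card_prod]

theorem card_par1 [Finite G] [Finite K] :
    Nat.card (R.P.parabolic {R.n1}) = Nat.card R.P.B * (1 + Nat.card K) := by
  rw [card_par_of_panel R.P R.n1 R.n1_mem_S R.XA (fun x hx => R.U_le_B (R.XA_le_U hx)) R.par1_cases
    (fun x hx hx1 => R.panelA.conj_not_mem x hx hx1), card_XA]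

theorem card_par2 [Finite G] [Finite K] :
    Nat.card (R.P.parabolic {R.n2}) = Nat.card R.P.B * (1 + Nat.card K * Nat.card K) := by
  rw [card_par_of_panel R.P R.n2 R.n2_mem_S R.XC (fun x hx => R.U_le_B (R.XC_le_U hx)) R.par2_cases
    (fun x hx hx1 => R.panelC.conj_not_mem x hx hx1), card_XC]

end OctCount

section F4

variable {K : Type*} [Field K] [Fintype K] [CharP K 2]

/-- the order of the Borel subgroup of the large Ree group -/
theorem card_f4_B (m : ℕ) (hK : Fintype.card K = 2 ^ (2 * m + 1)) :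
    Nat.card (f4BN m hK).B = (2 ^ (2 * m + 1)) ^ 12 * (2 ^ (2 * m + 1) - 1) ^ 2 := by
  classical
  have hUB : chevF4.posUnipotent K ≤ chevF4.borelSubgroup K := le_sup_left
  have hHB : chevF4.diagonalSubgroup K ≤ chevF4.borelSubgroup K := le_sup_right
  let φ : ↥(chevF4.posUnipotent K ⊓ twistedF4 K (2 ^ m)) × (Kˣ × Kˣ) → ↥(f4BN m hK).B := fun x =>
    ⟨⟨x.1.1 * f4Tor m x.2, mul_mem (Subgroup.mem_inf.mp x.1.2).2 (f4Tor_mem_tw m x.2)⟩, by
      rw [f4BN_B, Subgroup.mem_subgroupOf]
      exact Subgroup.mem_inf.mpr ⟨mul_mem (hUB (Subgroup.mem_inf.mp x.1.2).1) (hHB (f4Tor_mem_diag m x.2)),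
        mul_mem (Subgroup.mem_inf.mp x.1.2).2 (f4Tor_mem_tw m x.2)⟩⟩
  have hbij : Function.Bijective φ := by
    constructor
    · rintro ⟨⟨u, hu⟩, p⟩ ⟨⟨u', hu'⟩, p'⟩ h
      have h1 : u * f4Tor m p = u' * f4Tor m p' := congrArg (fun z => z.1.1) h
      have h2 : u'⁻¹ * u = f4Tor m p' * (f4Tor m p)⁻¹ := by
        have e : u'⁻¹ * u = u'⁻¹ * (u * f4Tor m p) * (f4Tor m p)⁻¹ := by group
        rw [e, h1]; group
      have h3 : u'⁻¹ * u ∈ chevF4.posUnipotent K ⊓ chevF4.diagonalSubgroup K := by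
        refine Subgroup.mem_inf.mpr ⟨mul_mem (inv_mem (Subgroup.mem_inf.mp hu').1) (Subgroup.mem_inf.mp hu).1, ?_⟩
        rw [h2]
        exact mul_mem (f4Tor_mem_diag m p') (inv_mem (f4Tor_mem_diag m p))
      rw [cert12_F4.c6.c2.pos_inf_diag, Subgroup.mem_bot] at h3
      have hu1 : u = u' := (inv_mul_eq_one.mp h3).symm
      subst hu1
      have hp : p = p' := f4Tor_injective m hK (mul_left_cancel h1)
      rw [hp]
    · rintro ⟨⟨g, hgG⟩, hg⟩
      rw [f4BN_B, Subgroup.mem_subgroupOf] at hg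
      obtain ⟨u, hu, p, e⟩ := f4_borel_decomp m hK g hgG (Subgroup.mem_inf.mp hg).1
      refine ⟨(⟨u, hu⟩, p), ?_⟩
      apply Subtype.ext
      apply Subtype.ext
      exact e.symm
  rw [← Nat.card_congr (Equiv.ofBijective φ hbij), Nat.card_prod, card_f4_U m hK, Nat.card_prod,
    Nat.card_eq_fintype_card, Fintype.card_units, hK]
  ring

theorem card_f4_par1 (m : ℕ) (hK : Fintype.card K = 2 ^ (2 * m + 1)) (hm : 1 ≤ m) :
    Nat.card ((f4BN m hK).parabolic {(octSysF4 m hK hm).n1}) =
      (2 ^ (2 * m + 1)) ^ 12 * (2 ^ (2 * m + 1) - 1) ^ 2 * (1 + 2 ^ (2 * m + 1)) := by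
  have h := card_par1 (octSysF4 m hK hm)
  rw [Nat.card_eq_fintype_card (α := K), hK] at h
  rw [← card_f4_B m hK]
  exact h

theorem card_f4_par2 (m : ℕ) (hK : Fintype.card K = 2 ^ (2 * m + 1)) (hm : 1 ≤ m) :
    Nat.card ((f4BN m hK).parabolic {(octSysF4 m hK hm).n2}) =
      (2 ^ (2 * m + 1)) ^ 12 * (2 ^ (2 * m + 1) - 1) ^ 2 * (1 + 2 ^ (2 * m + 1) * 2 ^ (2 * m + 1)) := by
  have h := card_par2 (octSysF4 m hK hm)
  rw [Nat.card_eq_fintype_card (α := K), hK] at h
  rw [← card_f4_B m hK]
  exact h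

end F4

end Cfsg.Agent.Lib.H12.F4Cent
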