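import Mathlib
import Cfsg.Prelude.Def_KGroupFacts
import Cfsg.Prelude.Def_ChevStructure
import Cfsg.Prelude.Def_LieTwisted
import Cfsg.Agent.Lib.H12.F4CentA

/-!
# The large Ree groups: the centralizer of a central involution of `U¹` lies in a minimal parabolic
subgroup
-/

set_option autoImplicit false
set_option linter.unusedSectionVars false
set_option linter.unusedSimpArgs false
set_option linter.unusedVariables false

namespace Cfsg.Agent.Lib.H12.F4Cent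

open Cfsg.Lie Matrix Cfsg.Agent.Lib.H29.Chev Cfsg.Agent.Lib.H2.BN

theorem w1_eq_tF4 : ∀ s < 48, fdF4.wordP fxF4 [0, 3] s = tF4 1 s := by decide +kernel
theorem w2_eq_tF4 : ∀ s < 48, fdF4.wordP fxF4 [1, 2, 1, 2] s = tF4 15 s := by decide +kernel

theorem tF4_cases_2A : ∀ a < 16, a = 0 ∨ a = 15 ∨ (tF4 a 44 < 24 ∧ tF4 a 47 < 24) ∨
    (tF4 a 44 = 36 ∧ tF4 a 47 = 42) ∨ (tF4 a 44 = 40 ∧ tF4 a 47 = 46) ∨ (tF4 a 44 = 28 ∧ tF4 a 47 = 30) := by
  decide +kernel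

theorem sorted_2A_1 : (List.range' (fdF4.n / 2) (fdF4.n - fdF4.n / 2)).filter
    (fun r => decide (r ∈ [36, 42, 44, 47])) = [36, 42, 44, 47] := by decide +kernel
theorem sorted_2A_2 : (List.range' (fdF4.n / 2) (fdF4.n - fdF4.n / 2)).filter
    (fun r => decide (r ∈ [40, 44, 46, 47])) = [40, 44, 46, 47] := by decide +kernel
theorem sorted_2A_3 : (List.range' (fdF4.n / 2) (fdF4.n - fdF4.n / 2)).filter
    (fun r => decide (r ∈ [28, 30, 44, 47])) = [28, 30, 44, 47] := by decide +kernel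

section F4

variable {K : Type*} [Field K] [CharP K 2]

theorem perm_fN1_t : cert12_F4.c6.c2.Perm (fN1 K) (tF4 1) :=
  cert12_F4.perm_congr _ _ _ perm_fN1 w1_eq_tF4

theorem perm_fN2_t : cert12_F4.c6.c2.Perm (fN2 K) (tF4 15) :=
  cert12_F4.perm_congr _ _ _ perm_fN2 w2_eq_tF4

theorem pair_ne_1 (c c' : K) : fX 36 c * fX 42 c' ≠ fX 44 (1 : K) * fX 47 1 := by
  intro h
  let t : ℕ → K := fun r => if r = 36 then c else if r = 42 then c' else 0
  let t' : ℕ → K := fun r => if r = 44 then 1 else if r = 47 then 1 else 0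
  have h2 := cert12_F4.list_prod_inj [36, 42, 44, 47] sorted_2A_1 t t' (by
    simp only [List.map_cons, List.map_nil, List.prod_cons, List.prod_nil, mul_one, t, t']
    norm_num
    show fX 36 c * (fX 42 c' * (fX 44 0 * fX 47 0)) = fX 36 0 * (fX 42 0 * (fX 44 1 * fX 47 1))
    simp only [fX_zero, one_mul, mul_one]
    exact h) 44 (by simp)
  simp only [t, t'] at h2
  norm_num at h2

theorem pair_ne_2 (c c' : K) : fX 40 c * fX 46 c' ≠ fX 44 (1 : K) * fX 47 1 := by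
  intro h
  let t : ℕ → K := fun r => if r = 40 then c else if r = 46 then c' else 0
  let t' : ℕ → K := fun r => if r = 44 then 1 else if r = 47 then 1 else 0
  have h2 := cert12_F4.list_prod_inj [40, 44, 46, 47] sorted_2A_2 t t' (by
    simp only [List.map_cons, List.map_nil, List.prod_cons, List.prod_nil, mul_one, t, t']
    norm_num
    show fX 40 c * (fX 44 0 * (fX 46 c' * fX 47 0)) = fX 40 0 * (fX 44 1 * (fX 46 0 * fX 47 1))
    simp only [fX_zero, one_mul, mul_one]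
    exact h) 44 (by simp)
  simp only [t, t'] at h2
  norm_num at h2

theorem pair_ne_3 (c c' : K) : fX 28 c * fX 30 c' ≠ fX 44 (1 : K) * fX 47 1 := by
  intro h
  let t : ℕ → K := fun r => if r = 28 then c else if r = 30 then c' else 0
  let t' : ℕ → K := fun r => if r = 44 then 1 else if r = 47 then 1 else 0
  have h2 := cert12_F4.list_prod_inj [28, 30, 44, 47] sorted_2A_3 t t' (by
    simp only [List.map_cons, List.map_nil, List.prod_cons, List.prod_nil, mul_one, t, t']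
    norm_num
    show fX 28 c * (fX 30 c' * (fX 44 0 * fX 47 0)) = fX 28 0 * (fX 30 0 * (fX 44 1 * fX 47 1))
    simp only [fX_zero, one_mul, mul_one]
    exact h) 44 (by simp)
  simp only [t, t'] at h2
  norm_num at h2

variable [Fintype K]

theorem f4y4_01_ne (m : ℕ) (hK : Fintype.card K = 2 ^ (2 * m + 1)) : f4y4 m 0 (1 : K) ≠ 1 := by
  intro h
  rw [f4E_s4] at h
  have := (f4E_eq_one m hK _ _ _ _ _ _ _ _ _ _ _ _ h).2.2.2.2.2.1
  exact one_ne_zero this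

/-- an element of `G` commuting with the central involution `z₄(1)` of `U¹` lies in `B ∪ B n₂ B` -/
theorem cent_2A (m : ℕ) (hK : Fintype.card K = 2 ^ (2 * m + 1)) (g : GL chevF4.Idx K)
    (hg : g ∈ twistedF4 K (2 ^ m)) (hc : g * f4y4 m 0 1 * g⁻¹ = f4y4 m 0 (1 : K)) :
    (⟨g, hg⟩ : ↥(twistedF4 K (2 ^ m))) ∈ (f4BN m hK).parabolic {⟨fN2 K, fN2_mem_tw m⟩} := by
  have hn48 : fdF4.n = 48 := rfl
  have hUB : chevF4.posUnipotent K ≤ chevF4.borelSubgroup K := le_sup_left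
  have hHB : chevF4.diagonalSubgroup K ≤ chevF4.borelSubgroup K := le_sup_right
  obtain ⟨u, hu, n, hn', u', hu', rfl⟩ := f4_fix_canon m g (twistedF4_le_fix m hK hg)
  obtain ⟨huf, huU⟩ := Subgroup.mem_inf.mp hu
  obtain ⟨hnf, hnN⟩ := Subgroup.mem_inf.mp hn'
  obtain ⟨hu'f, hu'w⟩ := Subgroup.mem_inf.mp hu'
  have hu'U : u' ∈ chevF4.posUnipotent K := Uw_le_pos _ hu'w
  have huG : u ∈ twistedF4 K (2 ^ m) := f4_fixU_le m hK hu
  have hu'G : u' ∈ twistedF4 K (2 ^ m) := f4_fixU_le m hK (Subgroup.mem_inf.mpr ⟨hu'f, hu'U⟩)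
  have hnG : n ∈ twistedF4 K (2 ^ m) := f4_fix_le m hK hnf
  obtain ⟨a, ha, hπ⟩ := f4_perm_exists m hK n hnN hnf
  obtain ⟨h44, _, c, hc44⟩ := hπ 44 (by rw [hn48]; norm_num)
  obtain ⟨h47, _, c', hc47⟩ := hπ 47 (by rw [hn48]; norm_num)
  -- `n` centralizes `z₄(1)`
  have hnc : n * f4y4 m 0 1 * n⁻¹ = f4y4 m 0 (1 : K) := by
    have e1 : n * f4y4 m 0 1 * n⁻¹ =
        u⁻¹ * ((u * n * u') * (u'⁻¹ * f4y4 m 0 1 * u'⁻¹⁻¹) * (u * n * u')⁻¹) * u⁻¹⁻¹ := by group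
    rw [e1, f4_central m u'⁻¹ (inv_mem hu'U), hc, f4_central m u⁻¹ (inv_mem huU)]
  have key : fX (tF4 a 44) (c * 1) * fX (tF4 a 47) (c' * 1) = fX 44 (1 : K) * fX 47 1 := by
    have hc1 : n * fX 44 1 * n⁻¹ = fX (tF4 a 44) (c * 1) := hc44 1
    have hc1' : n * fX 47 1 * n⁻¹ = fX (tF4 a 47) (c' * 1) := hc47 1
    rw [← hc1, ← hc1', ← f4y4_01 m, ← hnc, f4y4_01 m]
    group
  have hcase : a = 0 ∨ a = 15 := by
    rcases tF4_cases_2A a ha with h | h | ⟨h1, h2⟩ | ⟨h1, h2⟩ | ⟨h1, h2⟩ | ⟨h1, h2⟩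
    · exact Or.inl h
    · exact Or.inr h
    · exfalso
      have hL : fX (tF4 a 44) (c * 1) * fX (tF4 a 47) (c' * 1) ∈ chevF4.negUnipotent K :=
        mul_mem (fX_mem_neg _ h1 _) (fX_mem_neg _ h2 _)
      rw [key, ← f4y4_01 m] at hL
      have hR : f4y4 m 0 (1 : K) ∈ chevF4.posUnipotent K := by
        rw [f4y4_01 m]
        exact mul_mem (fX_mem_pos 44 (by norm_num) (by norm_num) _) (fX_mem_pos 47 (by norm_num) (by norm_num) _)
      have hbot : f4y4 m 0 (1 : K) ∈ chevF4.borelSubgroup K ⊓ chevF4.negUnipotent K :=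
        Subgroup.mem_inf.mpr ⟨hUB hR, hL⟩
      rw [cert12_F4.c6.c2.borel_inf_neg, Subgroup.mem_bot] at hbot
      exact f4y4_01_ne m hK hbot
    · exfalso
      rw [h1, h2] at key
      exact pair_ne_1 _ _ key
    · exfalso
      rw [h1, h2] at key
      exact pair_ne_2 _ _ key
    · exfalso
      rw [h1, h2] at key
      exact pair_ne_3 _ _ key
  have huB : (⟨u, huG⟩ : ↥(twistedF4 K (2 ^ m))) ∈ (f4BN m hK).B := by
    rw [f4BN_B, Subgroup.mem_subgroupOf]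
    exact Subgroup.mem_inf.mpr ⟨hUB huU, huG⟩
  have hu'B : (⟨u', hu'G⟩ : ↥(twistedF4 K (2 ^ m))) ∈ (f4BN m hK).B := by
    rw [f4BN_B, Subgroup.mem_subgroupOf]
    exact Subgroup.mem_inf.mpr ⟨hUB hu'U, hu'G⟩
  have hBP : (f4BN m hK).B ≤ (f4BN m hK).parabolic {⟨fN2 K, fN2_mem_tw m⟩} := le_sup_left
  have hsP : (⟨fN2 K, fN2_mem_tw m⟩ : ↥(twistedF4 K (2 ^ m))) ∈
      (f4BN m hK).parabolic {⟨fN2 K, fN2_mem_tw m⟩} :=
    (le_sup_right : Subgroup.closure {(⟨fN2 K, fN2_mem_tw m⟩ : ↥(twistedF4 K (2 ^ m)))} ≤ _)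
      (Subgroup.subset_closure rfl)
  have e : (⟨u * n * u', hg⟩ : ↥(twistedF4 K (2 ^ m))) = ⟨u, huG⟩ * ⟨n, hnG⟩ * ⟨u', hu'G⟩ := rfl
  rw [e]
  refine mul_mem (mul_mem (hBP huB) ?_) (hBP hu'B)
  rcases hcase with rfl | rfl
  · -- `n` is in the torus
    have hd := f4_fix_monomial m hK n hnN hnf 1 (one_mem _) 0 ha hπ f4_perm_one
    rw [inv_one, mul_one] at hd
    apply hBP
    rw [f4BN_B, Subgroup.mem_subgroupOf]
    exact Subgroup.mem_inf.mpr ⟨hHB hd, hnG⟩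
  · have hd := f4_fix_monomial m hK n hnN hnf (fN2 K) (fN2_mem_monomial (K := K)) 15 ha hπ perm_fN2_t
    have hdG : n * (fN2 K)⁻¹ ∈ twistedF4 K (2 ^ m) := mul_mem hnG (inv_mem (fN2_mem_tw m))
    have e2 : (⟨n, hnG⟩ : ↥(twistedF4 K (2 ^ m))) = ⟨n * (fN2 K)⁻¹, hdG⟩ * ⟨fN2 K, fN2_mem_tw m⟩ := by
      apply Subtype.ext
      show n = n * (fN2 K)⁻¹ * fN2 K
      group
    rw [e2]
    refine mul_mem (hBP ?_) hsP
    rw [f4BN_B, Subgroup.mem_subgroupOf]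
    exact Subgroup.mem_inf.mpr ⟨hHB hd, hdG⟩

end F4

end Cfsg.Agent.Lib.H12.F4Cent
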