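import Mathlib
import Cfsg.Prelude.Def_KGroupFacts
import Cfsg.Prelude.Def_ChevStructure
import Cfsg.Prelude.Def_LieTwisted
import Cfsg.Agent.Lib.H12.F4CentA

/-!
# The large Ree groups: the `U¹`-class of the involution `x₅(c)`
-/

set_option autoImplicit false
set_option linter.unusedSectionVars false
set_option linter.unusedSimpArgs false
set_option linter.unusedVariables false

namespace Cfsg.Agent.Lib.H12.F4Cent

open Cfsg.Lie Matrix Cfsg.Agent.Lib.H29.Chev Cfsg.Agent.Lib.H2.BN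

/-- the two blocks `w₁`, `w₂` -/
def blkW (b : Bool) : List ℕ := if b then [0, 3] else [1, 2, 1, 2]

/-- the word of a list of blocks -/
def wdB : List Bool → List ℕ
  | [] => []
  | b :: l => blkW b ++ wdB l

/-- the table of the words of the sixteen elements of the Weyl group of the large Ree group -/
def blkTab : List (List Bool) :=
  [[], [true], [true, false], [true, false, true], [true, false, true, false],
    [true, false, true, false, true], [true, false, true, false, true, false],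
    [true, false, true, false, true, false, true], [true, false, true, false, true, false, true, false],
    [false, true, false, true, false, true, false], [false, true, false, true, false, true],
    [false, true, false, true, false], [false, true, false, true], [false, true, false], [false, true], [false]]

def wdF4 (a : ℕ) : List ℕ := wdB (blkTab.getD a [])

set_option maxRecDepth 100000 in
theorem wdF4_tbl : ∀ a < 16, ∀ s < 48, fdF4.wordP fxF4 (wdF4 a) s = tF4 a s := by decide +kernel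

theorem wdF4_lt : ∀ a < 16, ∀ i ∈ wdF4 a, i < 4 := by decide +kernel

theorem tF4_neg_mid : ∀ a < 6, ∀ s ∈ [29, 41, 44, 47, 39, 45, 35, 31, 40, 46], tF4 (a + 6) s < 24 := by
  decide +kernel

section F4

variable {K : Type*} [Field K] [CharP K 2] (m : ℕ)

local notation "θ" => f4Theta K m

/-- the elements of the `U¹`-class of `x₅(c)` -/
noncomputable def vEl (β c γ : K) : GL chevF4.Idx K := f4E m 0 0 0 0 0 β c 0 γ 0 0 0

theorem vEl_eq (β c γ : K) : vEl m β c γ = f4y4 m 0 β * (f4x5 m c * f4y6 m 0 γ) := by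
  unfold vEl f4E f4x1 f4y2 f4x3 f4y4 f4x5 f4y6 f4x7 f4y8
  simp only [pairEl_zero, clsEl_zero, mul_one, one_mul]

variable (hθ : ∀ x : K, f4Theta K m (f4Theta K m x) ^ 2 = x)
include hθ

theorem vEl_eq' (β c γ : K) : vEl m β c γ = f4y6 m 0 γ * (f4x5 m c * f4y4 m 0 β) := by
  rw [f4E_s6, ← mul_assoc, f4E_mul_5 m hθ, f4E_mul_4 m hθ]
  unfold vEl
  apply f4E_congr <;> simp

theorem vEl_mul_E (β c γ a1 a2 b2 a3 a4 b4 a5 a6 b6 a7 a8 b8 : K) :
    vEl m β c γ * f4E m a1 a2 b2 a3 a4 b4 a5 a6 b6 a7 a8 b8 =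
      f4E m a1 a2 b2 a3 a4 (b4 + β + γ * θ a1 + θ c * θ a2) (a5 + c) a6 (b6 + γ) a7 a8 b8 := by
  unfold vEl
  rw [f4E_split m (f4E m 0 0 0 0 0 β c 0 γ 0 0 0) a1 a2 b2 a3 a4 b4 a5 a6 b6 a7 a8 b8, f4E_mul_1 m hθ,
    f4E_mul_2 m hθ, f4E_mul_3 m hθ, f4E_mul_4 m hθ, f4E_mul_5 m hθ, f4E_mul_6 m hθ, f4E_mul_7 m hθ,
    f4E_mul_8 m hθ]
  apply f4E_congr <;> (try simp only [map_add, map_mul, map_pow, map_zero, map_one, hθ, f4_th4 m hθ, f4_th6 m hθ, f4_th8 m hθ]) <;>
      first | rfl | ring1 | (ring_nf; (try simp only [hθ, f4_th4 m hθ, f4_th6 m hθ, f4_th8 m hθ]); (try ring_nf); (try simp only [c2_2, c2_3, c2_4, c2_5, c2_6, c2_7, c2_8, c2_9, c2_10, c2_11, c2_12, neg_eq_self_F, mul_zero, mul_one, add_zero, zero_add]); try ring1)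

/-- the conjugates of `x₅(c)` under `U¹` -/
theorem conj_x5 (a1 a2 b2 a3 a4 b4 a5 a6 b6 a7 a8 b8 c : K) :
    ∃ β γ : K, f4E m a1 a2 b2 a3 a4 b4 a5 a6 b6 a7 a8 b8 * f4x5 m c *
      (f4E m a1 a2 b2 a3 a4 b4 a5 a6 b6 a7 a8 b8)⁻¹ = vEl m β c γ := by
  refine ⟨θ a8 * θ c * θ a1 + θ c * θ a2, θ a8 * θ c, ?_⟩
  rw [mul_inv_eq_iff_eq_mul, vEl_mul_E m hθ, f4E_mul_5 m hθ]
  apply f4E_congr <;> first | rfl | skip
  have h2 : (2 : K) = 0 := by
    have := CharP.cast_eq_zero K 2
    exact_mod_cast this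
  have : b4 + (θ a8 * θ c * θ a1 + θ c * θ a2) + θ a8 * θ c * θ a1 + θ c * θ a2 =
      b4 + 2 * (θ a8 * θ c * θ a1 + θ c * θ a2) := by ring
  rw [this, h2, zero_mul, add_zero]

end F4

end Cfsg.Agent.Lib.H12.F4Cent
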