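import Mathlib
import Cfsg.Prelude.Def_KGroupFacts
import Cfsg.Prelude.Def_ChevStructure
import Cfsg.Prelude.Def_LieTwisted
import Cfsg.Agent.Lib.H12.F4CentC

/-!
# The large Ree groups: the action of the Weyl group on the `U¹`-class of `x₅(c)`
-/

set_option autoImplicit false
set_option linter.unusedSectionVars false
set_option linter.unusedSimpArgs false
set_option linter.unusedVariables false

namespace Cfsg.Agent.Lib.H12.F4Cent

open Cfsg.Lie Matrix Cfsg.Agent.Lib.H29.Chev Cfsg.Agent.Lib.H2.BN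

section F4

variable {K : Type*} [Field K] [CharP K 2] (m : ℕ)

local notation "θ" => f4Theta K m

/-- the representatives of the sixteen elements of the Weyl group -/
noncomputable def nA (K : Type*) [Field K] [CharP K 2] (a : ℕ) : GL chevF4.Idx K := cert12_F4.wordN K (wdF4 a)

theorem isWd_wdF4 (a : ℕ) (ha : a < 16) : IsWd fdF4.l (wdF4 a) := isWd_F4 _ (wdF4_lt a ha)

theorem wordN_wdB_mem (l : List Bool) : cert12_F4.wordN K (wdB l) ∈ twistedF4 K (2 ^ m) := by
  induction l with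
  | nil => exact one_mem _
  | cons b l ih =>
    show cert12_F4.wordN K (blkW b ++ wdB l) ∈ _
    rw [cert12_F4.wordN_append]
    refine mul_mem ?_ ih
    cases b
    · exact (fN2_mem_tw (K := K) m)
    · exact (fN1_mem_tw (K := K) m)

theorem nA_mem_tw (a : ℕ) : nA K a ∈ twistedF4 K (2 ^ m) := wordN_wdB_mem m _

theorem nA_mem_monomial (a : ℕ) : nA K a ∈ chevF4.monomialSubgroup K := cert12_F4.wordN_mem _

theorem perm_nA (a : ℕ) (ha : a < 16) : cert12_F4.c6.c2.Perm (nA K a) (tF4 a) :=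
  cert12_F4.perm_congr _ _ _ (cert12_F4.perm_wordN _ (isWd_wdF4 a ha)) (wdF4_tbl a ha)

theorem nA_zero : nA K 0 = 1 := rfl

theorem nA_one : nA K 1 = fN1 K := rfl

variable (hθ : ∀ x : K, f4Theta K m (f4Theta K m x) ^ 2 = x)
include hθ

/-- the action of `n_a` on the `U¹`-class of `x₅(c)` -/
theorem nA_conj_vEl (a : ℕ) (ha : a < 16) {p1 p2 p3 p4 q1 q2 r1 r2 r3 r4 : ℕ}
    (h1 : tF4 a 29 = p1) (h2 : tF4 a 41 = p2) (h3 : tF4 a 44 = p3) (h4 : tF4 a 47 = p4)
    (h5 : tF4 a 39 = q1) (h6 : tF4 a 45 = q2)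
    (h7 : tF4 a 35 = r1) (h8 : tF4 a 31 = r2) (h9 : tF4 a 40 = r3) (h10 : tF4 a 46 = r4) (β c γ : K) :
    nA K a * vEl m β c γ * (nA K a)⁻¹ =
      clsEl m p1 p2 p3 p4 0 β * (pairEl m q1 q2 c * clsEl m r1 r2 r3 r4 0 γ) ∧
    nA K a * vEl m β c γ * (nA K a)⁻¹ =
      clsEl m r1 r2 r3 r4 0 γ * (pairEl m q1 q2 c * clsEl m p1 p2 p3 p4 0 β) := by
  have hw := isWd_wdF4 a ha
  have t := wdF4_tbl a ha
  subst h1 h2 h3 h4 h5 h6 h7 h8 h9 h10
  constructor
  · rw [vEl_eq]
    have e : nA K a * (f4y4 m 0 β * (f4x5 m c * f4y6 m 0 γ)) * (nA K a)⁻¹ =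
        (nA K a * f4y4 m 0 β * (nA K a)⁻¹) * ((nA K a * f4x5 m c * (nA K a)⁻¹) *
          (nA K a * f4y6 m 0 γ * (nA K a)⁻¹)) := by group
    rw [e]
    unfold nA
    rw [clsEl_wconj m _ hw 29 41 44 47 (by norm_num) (by norm_num) (by norm_num) (by norm_num),
      pairEl_wconj m _ hw 39 45 (by norm_num) (by norm_num),
      clsEl_wconj m _ hw 35 31 40 46 (by norm_num) (by norm_num) (by norm_num) (by norm_num),
      t 29 (by norm_num), t 41 (by norm_num), t 44 (by norm_num), t 47 (by norm_num), t 39 (by norm_num),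
      t 45 (by norm_num), t 35 (by norm_num), t 31 (by norm_num), t 40 (by norm_num), t 46 (by norm_num)]
  · rw [vEl_eq' m hθ]
    have e : nA K a * (f4y6 m 0 γ * (f4x5 m c * f4y4 m 0 β)) * (nA K a)⁻¹ =
        (nA K a * f4y6 m 0 γ * (nA K a)⁻¹) * ((nA K a * f4x5 m c * (nA K a)⁻¹) *
          (nA K a * f4y4 m 0 β * (nA K a)⁻¹)) := by group
    rw [e]
    unfold nA
    rw [clsEl_wconj m _ hw 29 41 44 47 (by norm_num) (by norm_num) (by norm_num) (by norm_num),
      pairEl_wconj m _ hw 39 45 (by norm_num) (by norm_num),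
      clsEl_wconj m _ hw 35 31 40 46 (by norm_num) (by norm_num) (by norm_num) (by norm_num),
      t 29 (by norm_num), t 41 (by norm_num), t 44 (by norm_num), t 47 (by norm_num), t 39 (by norm_num),
      t 45 (by norm_num), t 35 (by norm_num), t 31 (by norm_num), t 40 (by norm_num), t 46 (by norm_num)]

end F4

end Cfsg.Agent.Lib.H12.F4Cent
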