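import Mathlib
import Cfsg.Prelude.Def_KGroupFacts
import Cfsg.Prelude.Def_ChevStructure
import Cfsg.Prelude.Def_LieTwisted
import Cfsg.Agent.Lib.H12.F4CentD

/-!
# The large Ree groups: the elements of the Weyl group fixing the `U¹`-class of `x₅(c)`
-/

set_option autoImplicit false
set_option linter.unusedSectionVars false
set_option linter.unusedSimpArgs false
set_option linter.unusedVariables false

namespace Cfsg.Agent.Lib.H12.F4Cent

open Cfsg.Lie Matrix Cfsg.Agent.Lib.H29.Chev Cfsg.Agent.Lib.H2.BN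

section F4

variable {K : Type*} [Field K] [CharP K 2] (m : ℕ)

local notation "θ" => f4Theta K m

theorem clsEl_mem_neg (p1 p2 p3 p4 : ℕ) (h1 : p1 < 24) (h2 : p2 < 24) (h3 : p3 < 24) (h4 : p4 < 24) (t u : K) :
    clsEl m p1 p2 p3 p4 t u ∈ chevF4.negUnipotent K := by
  unfold clsEl
  exact mul_mem (mul_mem (mul_mem (fX_mem_neg _ h1 _) (fX_mem_neg _ h2 _)) (fX_mem_neg _ h3 _)) (fX_mem_neg _ h4 _)

theorem pairEl_mem_neg (q1 q2 : ℕ) (h1 : q1 < 24) (h2 : q2 < 24) (t : K) :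
    pairEl m q1 q2 t ∈ chevF4.negUnipotent K := by
  unfold pairEl
  exact mul_mem (fX_mem_neg _ h1 _) (fX_mem_neg _ h2 _)

theorem e_678 (β c γ : K) : f4y6 m 0 β * (f4x7 m c * f4y8 m 0 γ) = f4E m 0 0 0 0 0 0 0 0 β c 0 γ := by
  unfold f4E f4x1 f4y2 f4x3 f4y4 f4x5 f4y6 f4x7 f4y8
  simp only [pairEl_zero, clsEl_zero, mul_one, one_mul]

theorem e_234 (β c γ : K) : f4y2 m 0 β * (f4x3 m c * f4y4 m 0 γ) = f4E m 0 0 β c 0 γ 0 0 0 0 0 0 := by
  unfold f4E f4x1 f4y2 f4x3 f4y4 f4x5 f4y6 f4x7 f4y8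
  simp only [pairEl_zero, clsEl_zero, mul_one, one_mul]

theorem e_12 (c γ : K) : f4x1 m c * f4y2 m 0 γ = f4E m c 0 γ 0 0 0 0 0 0 0 0 0 := by
  unfold f4E f4x1 f4y2 f4x3 f4y4 f4x5 f4y6 f4x7 f4y8
  simp only [pairEl_zero, clsEl_zero, mul_one, one_mul]

theorem vEl_mem_pos (β c γ : K) : vEl m β c γ ∈ chevF4.posUnipotent K := f4E_mem_pos m _ _ _ _ _ _ _ _ _ _ _ _

variable [Fintype K] (hK : Fintype.card K = 2 ^ (2 * m + 1))
include hK

theorem pat0 (A : GL chevF4.Idx K) (a1 a2 b2 a3 a4 b4 a6 b6 a7 a8 b8 β' c' γ' : K)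
    (hA : A = f4E m a1 a2 b2 a3 a4 b4 0 a6 b6 a7 a8 b8) (h : vEl m β' c' γ' = A) : c' = 0 := by
  rw [hA] at h
  unfold vEl at h
  exact (f4E_inj m hK _ _ _ _ _ _ _ _ _ _ _ _ _ _ _ _ _ _ _ _ _ _ _ _ h).2.2.2.2.2.2.1

theorem patN (N : GL chevF4.Idx K) (β' c' γ' : K) (hN : N ∈ chevF4.negUnipotent K)
    (h : vEl m β' c' γ' = N) : c' = 0 := by
  have hNp : N ∈ chevF4.posUnipotent K := by
    rw [← h]
    exact vEl_mem_pos m _ _ _
  have hN1 : N = 1 := cert12_F4.pos_inf_neg N hNp hN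
  rw [hN1] at h
  exact pat0 m hK 1 0 0 0 0 0 0 0 0 0 0 0 β' c' γ' (f4E_zero m).symm h

theorem pat1 (A N : GL chevF4.Idx K) (a1 a2 b2 a3 a4 b4 a6 b6 a7 a8 b8 β' c' γ' : K)
    (hA : A = f4E m a1 a2 b2 a3 a4 b4 0 a6 b6 a7 a8 b8) (hN : N ∈ chevF4.negUnipotent K)
    (h : vEl m β' c' γ' = A * N) : c' = 0 := by
  have hNp : N ∈ chevF4.posUnipotent K := by
    have e : N = A⁻¹ * vEl m β' c' γ' := by rw [h]; group
    rw [e, hA]
    exact mul_mem (inv_mem (f4E_mem_pos m _ _ _ _ _ _ _ _ _ _ _ _)) (vEl_mem_pos m _ _ _)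
  have hN1 : N = 1 := cert12_F4.pos_inf_neg N hNp hN
  rw [hN1, mul_one] at h
  exact pat0 m hK A _ _ _ _ _ _ _ _ _ _ _ β' c' γ' hA h

theorem pat2 (A N : GL chevF4.Idx K) (a1 a2 b2 a3 a4 b4 a6 b6 a7 a8 b8 β' c' γ' : K)
    (hA : A = f4E m a1 a2 b2 a3 a4 b4 0 a6 b6 a7 a8 b8) (hN : N ∈ chevF4.negUnipotent K)
    (h : vEl m β' c' γ' = N * A) : c' = 0 := by
  have hNp : N ∈ chevF4.posUnipotent K := by
    have e : N = vEl m β' c' γ' * A⁻¹ := by rw [h]; group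
    rw [e, hA]
    exact mul_mem (vEl_mem_pos m _ _ _) (inv_mem (f4E_mem_pos m _ _ _ _ _ _ _ _ _ _ _ _))
  have hN1 : N = 1 := cert12_F4.pos_inf_neg N hNp hN
  rw [hN1, one_mul] at h
  exact pat0 m hK A _ _ _ _ _ _ _ _ _ _ _ β' c' γ' hA h

theorem nA_class_mid (a' : ℕ) (ha : a' < 6) (β c γ β' c' γ' : K)
    (h : nA K (a' + 6) * vEl m β c γ * (nA K (a' + 6))⁻¹ = vEl m β' c' γ') : c' = 0 := by
  have hθ := f4_theta_theta_sq (K := K) m hK
  have hneg := tF4_neg_mid a' ha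
  have h29 := hneg 29 (by simp)
  have h41 := hneg 41 (by simp)
  have h44 := hneg 44 (by simp)
  have h47 := hneg 47 (by simp)
  have h39 := hneg 39 (by simp)
  have h45 := hneg 45 (by simp)
  have h35 := hneg 35 (by simp)
  have h31 := hneg 31 (by simp)
  have h40 := hneg 40 (by simp)
  have h46 := hneg 46 (by simp)
  obtain ⟨e1, _⟩ := nA_conj_vEl m hθ (a' + 6) (by omega) (p1 := tF4 (a' + 6) 29) (p2 := tF4 (a' + 6) 41)
    (p3 := tF4 (a' + 6) 44) (p4 := tF4 (a' + 6) 47) (q1 := tF4 (a' + 6) 39) (q2 := tF4 (a' + 6) 45)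
    (r1 := tF4 (a' + 6) 35) (r2 := tF4 (a' + 6) 31) (r3 := tF4 (a' + 6) 40) (r4 := tF4 (a' + 6) 46)
    rfl rfl rfl rfl rfl rfl rfl rfl rfl rfl β c γ
  rw [h] at e1
  refine patN m hK _ β' c' γ' ?_ e1
  exact mul_mem (clsEl_mem_neg m _ _ _ _ h29 h41 h44 h47 _ _) (mul_mem (pairEl_mem_neg m _ _ h39 h45 _)
    (clsEl_mem_neg m _ _ _ _ h35 h31 h40 h46 _ _))

theorem nA_class_2 (β c γ β' c' γ' : K)
    (h : nA K 2 * vEl m β c γ * (nA K 2)⁻¹ = vEl m β' c' γ') : c' = 0 := by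
  have hθ := f4_theta_theta_sq (K := K) m hK
  obtain ⟨e1, _⟩ := nA_conj_vEl m hθ 2 (by norm_num) (p1 := 35) (p2 := 31) (p3 := 40) (p4 := 46) (q1 := 37)
    (q2 := 32) (r1 := 27) (r2 := 25) (r3 := 28) (r4 := 30) (by decide) (by decide) (by decide) (by decide)
    (by decide) (by decide) (by decide) (by decide) (by decide) (by decide) β c γ
  rw [h] at e1
  exact pat0 m hK _ _ _ _ _ _ _ _ _ _ _ _ β' c' γ' (e_678 m β c γ) e1

theorem nA_class_3 (β c γ β' c' γ' : K)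
    (h : nA K 3 * vEl m β c γ * (nA K 3)⁻¹ = vEl m β' c' γ') : c' = 0 := by
  have hθ := f4_theta_theta_sq (K := K) m hK
  obtain ⟨_, e1⟩ := nA_conj_vEl m hθ 3 (by norm_num) (p1 := 27) (p2 := 25) (p3 := 28) (p4 := 30) (q1 := 37)
    (q2 := 32) (r1 := 35) (r2 := 31) (r3 := 40) (r4 := 46) (by decide) (by decide) (by decide) (by decide)
    (by decide) (by decide) (by decide) (by decide) (by decide) (by decide) β c γ
  rw [h] at e1
  exact pat0 m hK _ _ _ _ _ _ _ _ _ _ _ _ β' c' γ' (e_678 m γ c β) e1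

theorem nA_class_4 (β c γ β' c' γ' : K)
    (h : nA K 4 * vEl m β c γ * (nA K 4)⁻¹ = vEl m β' c' γ') : c' = 0 := by
  have hθ := f4_theta_theta_sq (K := K) m hK
  obtain ⟨e1, _⟩ := nA_conj_vEl m hθ 4 (by norm_num) (p1 := 27) (p2 := 25) (p3 := 28) (p4 := 30) (q1 := 14)
    (q2 := 23) (r1 := 13) (r2 := 21) (r3 := 11) (r4 := 5) (by decide) (by decide) (by decide) (by decide)
    (by decide) (by decide) (by decide) (by decide) (by decide) (by decide) β c γ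
  rw [h] at e1
  exact pat1 m hK _ _ _ _ _ _ _ _ _ _ _ _ _ β' c' γ' (f4E_s8 m 0 β)
    (mul_mem (pairEl_mem_neg m 14 23 (by norm_num) (by norm_num) c)
      (clsEl_mem_neg m 13 21 11 5 (by norm_num) (by norm_num) (by norm_num) (by norm_num) 0 γ)) e1

theorem nA_class_5 (β c γ β' c' γ' : K)
    (h : nA K 5 * vEl m β c γ * (nA K 5)⁻¹ = vEl m β' c' γ') : c' = 0 := by
  have hθ := f4_theta_theta_sq (K := K) m hK
  obtain ⟨_, e1⟩ := nA_conj_vEl m hθ 5 (by norm_num) (p1 := 13) (p2 := 21) (p3 := 11) (p4 := 5) (q1 := 14)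
    (q2 := 23) (r1 := 27) (r2 := 25) (r3 := 28) (r4 := 30) (by decide) (by decide) (by decide) (by decide)
    (by decide) (by decide) (by decide) (by decide) (by decide) (by decide) β c γ
  rw [h] at e1
  exact pat1 m hK _ _ _ _ _ _ _ _ _ _ _ _ _ β' c' γ' (f4E_s8 m 0 γ)
    (mul_mem (pairEl_mem_neg m 14 23 (by norm_num) (by norm_num) c)
      (clsEl_mem_neg m 13 21 11 5 (by norm_num) (by norm_num) (by norm_num) (by norm_num) 0 β)) e1

theorem nA_class_12 (β c γ β' c' γ' : K)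
    (h : nA K 12 * vEl m β c γ * (nA K 12)⁻¹ = vEl m β' c' γ') : c' = 0 := by
  have hθ := f4_theta_theta_sq (K := K) m hK
  obtain ⟨e1, _⟩ := nA_conj_vEl m hθ 12 (by norm_num) (p1 := 20) (p2 := 22) (p3 := 19) (p4 := 17) (q1 := 33)
    (q2 := 24) (r1 := 34) (r2 := 26) (r3 := 36) (r4 := 42) (by decide) (by decide) (by decide) (by decide)
    (by decide) (by decide) (by decide) (by decide) (by decide) (by decide) β c γ
  rw [h] at e1
  exact pat2 m hK _ _ _ _ _ _ _ _ _ _ _ _ _ β' c' γ' (e_12 m c γ)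
    (clsEl_mem_neg m 20 22 19 17 (by norm_num) (by norm_num) (by norm_num) (by norm_num) 0 β) e1

theorem nA_class_13 (β c γ β' c' γ' : K)
    (h : nA K 13 * vEl m β c γ * (nA K 13)⁻¹ = vEl m β' c' γ') : c' = 0 := by
  have hθ := f4_theta_theta_sq (K := K) m hK
  obtain ⟨_, e1⟩ := nA_conj_vEl m hθ 13 (by norm_num) (p1 := 34) (p2 := 26) (p3 := 36) (p4 := 42) (q1 := 33)
    (q2 := 24) (r1 := 20) (r2 := 22) (r3 := 19) (r4 := 17) (by decide) (by decide) (by decide) (by decide)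
    (by decide) (by decide) (by decide) (by decide) (by decide) (by decide) β c γ
  rw [h] at e1
  exact pat2 m hK _ _ _ _ _ _ _ _ _ _ _ _ _ β' c' γ' (e_12 m c β)
    (clsEl_mem_neg m 20 22 19 17 (by norm_num) (by norm_num) (by norm_num) (by norm_num) 0 γ) e1

theorem nA_class_14 (β c γ β' c' γ' : K)
    (h : nA K 14 * vEl m β c γ * (nA K 14)⁻¹ = vEl m β' c' γ') : c' = 0 := by
  have hθ := f4_theta_theta_sq (K := K) m hK
  obtain ⟨e1, _⟩ := nA_conj_vEl m hθ 14 (by norm_num) (p1 := 34) (p2 := 26) (p3 := 36) (p4 := 42) (q1 := 38)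
    (q2 := 43) (r1 := 29) (r2 := 41) (r3 := 44) (r4 := 47) (by decide) (by decide) (by decide) (by decide)
    (by decide) (by decide) (by decide) (by decide) (by decide) (by decide) β c γ
  rw [h] at e1
  exact pat0 m hK _ _ _ _ _ _ _ _ _ _ _ _ β' c' γ' (e_234 m β c γ) e1

theorem nA_class_15 (β c γ β' c' γ' : K)
    (h : nA K 15 * vEl m β c γ * (nA K 15)⁻¹ = vEl m β' c' γ') : c' = 0 := by
  have hθ := f4_theta_theta_sq (K := K) m hK
  obtain ⟨_, e1⟩ := nA_conj_vEl m hθ 15 (by norm_num) (p1 := 29) (p2 := 41) (p3 := 44) (p4 := 47) (q1 := 38)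
    (q2 := 43) (r1 := 34) (r2 := 26) (r3 := 36) (r4 := 42) (by decide) (by decide) (by decide) (by decide)
    (by decide) (by decide) (by decide) (by decide) (by decide) (by decide) β c γ
  rw [h] at e1
  exact pat0 m hK _ _ _ _ _ _ _ _ _ _ _ _ β' c' γ' (e_234 m γ c β) e1

/-- the elements of the Weyl group carrying an element of the `U¹`-class of `x₅(c)` into such a class -/
theorem nA_class (a : ℕ) (ha : a < 16) (β c γ β' c' γ' : K) (hc' : c' ≠ 0)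
    (h : nA K a * vEl m β c γ * (nA K a)⁻¹ = vEl m β' c' γ') : a = 0 ∨ a = 1 := by
  by_contra hne
  apply hc'
  have h2 : 2 ≤ a := by
    by_contra h2
    apply hne
    omega
  by_cases hmid : 6 ≤ a ∧ a ≤ 11
  · obtain ⟨a', rfl⟩ : ∃ a', a = a' + 6 := ⟨a - 6, by omega⟩
    exact nA_class_mid m hK a' (by omega) β c γ β' c' γ' h
  · have hcases : a = 2 ∨ a = 3 ∨ a = 4 ∨ a = 5 ∨ a = 12 ∨ a = 13 ∨ a = 14 ∨ a = 15 := by omega
    rcases hcases with rfl | rfl | rfl | rfl | rfl | rfl | rfl | rfl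
    · exact nA_class_2 m hK β c γ β' c' γ' h
    · exact nA_class_3 m hK β c γ β' c' γ' h
    · exact nA_class_4 m hK β c γ β' c' γ' h
    · exact nA_class_5 m hK β c γ β' c' γ' h
    · exact nA_class_12 m hK β c γ β' c' γ' h
    · exact nA_class_13 m hK β c γ β' c' γ' h
    · exact nA_class_14 m hK β c γ β' c' γ' h
    · exact nA_class_15 m hK β c γ β' c' γ' h

end F4

end Cfsg.Agent.Lib.H12.F4Cent
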