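import Mathlib
import Cfsg.Prelude.Def_KGroupFacts
import Cfsg.Prelude.Def_ChevStructure
import Cfsg.Prelude.Def_LieTwisted
import Cfsg.Agent.Lib.H12.F4CentB
import Cfsg.Agent.Lib.H12.F4CentE

/-!
# The large Ree groups: the centralizer of the involution `x₅(1)` lies in a minimal parabolic subgroup
-/

set_option autoImplicit false
set_option linter.unusedSectionVars false
set_option linter.unusedSimpArgs false
set_option linter.unusedVariables false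

namespace Cfsg.Agent.Lib.H12.F4Cent

open Cfsg.Lie Matrix Cfsg.Agent.Lib.H29.Chev Cfsg.Agent.Lib.H2.BN

section F4

variable {K : Type*} [Field K] [CharP K 2] [Fintype K]

theorem f4x5_one_ne (m : ℕ) (hK : Fintype.card K = 2 ^ (2 * m + 1)) : f4x5 m (1 : K) ≠ 1 := by
  intro h
  rw [f4E_s5] at h
  have := (f4E_eq_one m hK _ _ _ _ _ _ _ _ _ _ _ _ h).2.2.2.2.2.2.1
  exact one_ne_zero this

/-- the entries of a fixed element of `H` at the roots `39`, `45` -/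
theorem fix_dE_45 (m : ℕ) (h : GL chevF4.Idx K) (hh : h ∈ chevF4.diagonalSubgroup K)
    (hf : h ∈ fixGL (f4Sigma (K := K) m)) : dE chevF4 h 39 = f4Theta K m (dE chevF4 h 45) := by
  obtain ⟨hG, hfix⟩ := (mem_fixGL _ _).mp hf
  have e1 := (f4RootTw (K := K) m).sig_dE ⟨h, hG⟩ hh 45 (by decide)
  rw [hfix, f4Psi_long m 45 (by decide)] at e1
  exact e1

/-- an element of `G` commuting with the involution `x₅(1)` lies in `B ∪ B n₁ B` -/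
theorem cent_2B (m : ℕ) (hK : Fintype.card K = 2 ^ (2 * m + 1)) (g : GL chevF4.Idx K)
    (hg : g ∈ twistedF4 K (2 ^ m)) (hc : g * f4x5 m 1 * g⁻¹ = f4x5 m (1 : K)) :
    (⟨g, hg⟩ : ↥(twistedF4 K (2 ^ m))) ∈ (f4BN m hK).parabolic {⟨fN1 K, fN1_mem_tw m⟩} := by
  have hθ := f4_theta_theta_sq (K := K) m hK
  have hUB : chevF4.posUnipotent K ≤ chevF4.borelSubgroup K := le_sup_left
  have hHB : chevF4.diagonalSubgroup K ≤ chevF4.borelSubgroup K := le_sup_right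
  obtain ⟨u, hu, n, hn', u', hu', rfl⟩ := f4_fix_canon m g (twistedF4_le_fix m hK hg)
  obtain ⟨huf, huU⟩ := Subgroup.mem_inf.mp hu
  obtain ⟨hnf, hnN⟩ := Subgroup.mem_inf.mp hn'
  obtain ⟨hu'f, hu'w⟩ := Subgroup.mem_inf.mp hu'
  have hu'U : u' ∈ chevF4.posUnipotent K := Uw_le_pos _ hu'w
  have huG : u ∈ twistedF4 K (2 ^ m) := f4_fixU_le m hK hu
  have hu'G : u' ∈ twistedF4 K (2 ^ m) := f4_fixU_le m hK (Subgroup.mem_inf.mpr ⟨hu'f, hu'U⟩)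
  have hnG : n ∈ twistedF4 K (2 ^ m) := f4_fix_le m hK hnf
  obtain ⟨a, ha, hπ⟩ := f4_perm_exists m hK n hnN hnf
  have hrG := nA_mem_tw (K := K) m a
  have hrf := twistedF4_le_fix m hK hrG
  have hd := f4_fix_monomial m hK n hnN hnf (nA K a) (nA_mem_monomial a) a ha hπ (perm_nA a ha)
  obtain ⟨d, hd_def⟩ : ∃ d, d = n * (nA K a)⁻¹ := ⟨_, rfl⟩
  rw [← hd_def] at hd
  have hdf : d ∈ fixGL (f4Sigma (K := K) m) := by rw [hd_def]; exact mul_mem hnf (inv_mem hrf)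
  have hdG : d ∈ twistedF4 K (2 ^ m) := by rw [hd_def]; exact mul_mem hnG (inv_mem hrG)
  have hn_eq : n = d * nA K a := by rw [hd_def]; group
  -- the conjugate of `x₅(1)` under `u'`
  obtain ⟨a1, a2, b2, a3, a4, b4, a5, a6, b6, a7, a8, b8, hu'E⟩ :=
    f4_normal m hK u' (Subgroup.mem_inf.mpr ⟨hu'f, hu'U⟩)
  obtain ⟨β, γ, hv⟩ := conj_x5 m hθ a1 a2 b2 a3 a4 b4 a5 a6 b6 a7 a8 b8 1
  rw [← hu'E] at hv
  -- the element `d⁻¹ u⁻¹ d`
  have hwU : d⁻¹ * u⁻¹ * d ∈ chevF4.posUnipotent K := by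
    have := (Subgroup.mem_normalizer_iff.mp (cert12_F4.c6.c2.diag_le_normalizer_pos (inv_mem hd)) u⁻¹).mp
      (inv_mem huU)
    rwa [inv_inv] at this
  have hwf : d⁻¹ * u⁻¹ * d ∈ fixGL (f4Sigma (K := K) m) := mul_mem (mul_mem (inv_mem hdf) (inv_mem huf)) hdf
  obtain ⟨a1', a2', b2', a3', a4', b4', a5', a6', b6', a7', a8', b8', hwE⟩ :=
    f4_normal m hK _ (Subgroup.mem_inf.mpr ⟨hwf, hwU⟩)
  have he := fix_dE_45 m d⁻¹ (inv_mem hd) (inv_mem hdf)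
  have hdc := pairEl_conj m 39 45 (by norm_num) (by norm_num) d⁻¹ (inv_mem hd) he 1
  obtain ⟨c', hc'_def⟩ : ∃ c', c' = dE chevF4 d⁻¹ 45 * 1 := ⟨_, rfl⟩
  rw [← hc'_def, inv_inv] at hdc
  have hdc' : d⁻¹ * f4x5 m 1 * d = f4x5 m c' := hdc
  have hc'0 : c' ≠ 0 := by
    intro h0
    rw [h0, show f4x5 m (0 : K) = 1 from pairEl_zero m 39 45] at hdc'
    apply f4x5_one_ne (K := K) m hK
    have : f4x5 m (1 : K) = d * (d⁻¹ * f4x5 m 1 * d) * d⁻¹ := by group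
    rw [this, hdc']; group
  obtain ⟨β', γ', hv'⟩ := conj_x5 m hθ a1' a2' b2' a3' a4' b4' a5' a6' b6' a7' a8' b8' c'
  rw [← hwE] at hv'
  have key : nA K a * vEl m β 1 γ * (nA K a)⁻¹ = vEl m β' c' γ' := by
    rw [← hv, ← hv', ← hdc']
    have e1 : nA K a * (u' * f4x5 m 1 * u'⁻¹) * (nA K a)⁻¹ =
        (u * d)⁻¹ * ((u * (d * nA K a) * u') * f4x5 m 1 * (u * (d * nA K a) * u')⁻¹) * (u * d) := by group
    rw [e1, ← hn_eq, hc]
    group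
  have huB : (⟨u, huG⟩ : ↥(twistedF4 K (2 ^ m))) ∈ (f4BN m hK).B := by
    rw [f4BN_B, Subgroup.mem_subgroupOf]
    exact Subgroup.mem_inf.mpr ⟨hUB huU, huG⟩
  have hu'B : (⟨u', hu'G⟩ : ↥(twistedF4 K (2 ^ m))) ∈ (f4BN m hK).B := by
    rw [f4BN_B, Subgroup.mem_subgroupOf]
    exact Subgroup.mem_inf.mpr ⟨hUB hu'U, hu'G⟩
  have hdB : (⟨d, hdG⟩ : ↥(twistedF4 K (2 ^ m))) ∈ (f4BN m hK).B := by
    rw [f4BN_B, Subgroup.mem_subgroupOf]
    exact Subgroup.mem_inf.mpr ⟨hHB hd, hdG⟩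
  have hBP : (f4BN m hK).B ≤ (f4BN m hK).parabolic {⟨fN1 K, fN1_mem_tw m⟩} := le_sup_left
  have hsP : (⟨fN1 K, fN1_mem_tw m⟩ : ↥(twistedF4 K (2 ^ m))) ∈
      (f4BN m hK).parabolic {⟨fN1 K, fN1_mem_tw m⟩} :=
    (le_sup_right : Subgroup.closure {(⟨fN1 K, fN1_mem_tw m⟩ : ↥(twistedF4 K (2 ^ m)))} ≤ _)
      (Subgroup.subset_closure rfl)
  have e : (⟨u * n * u', hg⟩ : ↥(twistedF4 K (2 ^ m))) = ⟨u, huG⟩ * ⟨n, hnG⟩ * ⟨u', hu'G⟩ := rfl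
  rw [e]
  refine mul_mem (mul_mem (hBP huB) ?_) (hBP hu'B)
  rcases nA_class m hK a ha β 1 γ β' c' γ' hc'0 key with rfl | rfl
  · have e2 : (⟨n, hnG⟩ : ↥(twistedF4 K (2 ^ m))) = ⟨d, hdG⟩ := by
      apply Subtype.ext
      show n = d
      rw [hn_eq, nA_zero, mul_one]
    rw [e2]
    exact hBP hdB
  · have e2 : (⟨n, hnG⟩ : ↥(twistedF4 K (2 ^ m))) = ⟨d, hdG⟩ * ⟨fN1 K, fN1_mem_tw m⟩ := by
      apply Subtype.ext
      show n = d * fN1 K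
      rw [hn_eq, nA_one]
    rw [e2]
    exact mul_mem (hBP hdB) hsP

end F4

end Cfsg.Agent.Lib.H12.F4Cent
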