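import Mathlib
import Cfsg.Prelude.Def_KGroupFacts
import Cfsg.Prelude.Def_ChevStructure
import Cfsg.Prelude.Def_LieTwisted
import Cfsg.Agent.Lib.H12.F4CentF

/-!
# The large Ree groups: the prime divisors of the orders of the elements commuting with an involution
-/

set_option autoImplicit false
set_option linter.unusedSectionVars false
set_option linter.unusedSimpArgs false
set_option linter.unusedVariables false

namespace Cfsg.Agent.Lib.H12.F4Cent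

open Cfsg.Lie Matrix Cfsg.Agent.Lib.H29.Chev Cfsg.Agent.Lib.H2.BN

theorem arith_q4 (q : ℕ) (hq : 1 ≤ q) : q ^ 4 - 1 = (q - 1) * ((1 + q) * (1 + q * q)) := by
  obtain ⟨k, rfl⟩ : ∃ k, q = k + 1 := ⟨q - 1, by omega⟩
  have h : (k + 1) ^ 4 = (k + 1 - 1) * ((1 + (k + 1)) * (1 + (k + 1) * (k + 1))) + 1 := by
    rw [Nat.add_sub_cancel]
    ring
  omega

theorem prime_dvd_of_dvd_par (q r : ℕ) (hq : 2 ≤ q) (hr : r.Prime) (N : ℕ)
    (hN : N = q ^ 12 * (q - 1) ^ 2 * (1 + q) ∨ N = q ^ 12 * (q - 1) ^ 2 * (1 + q * q)) (h : r ∣ N) :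
    r ∣ q * (q ^ 4 - 1) := by
  rw [arith_q4 q (by omega)]
  rcases hN with rfl | rfl
  · rcases (Nat.Prime.dvd_mul hr).mp h with h1 | h1
    · rcases (Nat.Prime.dvd_mul hr).mp h1 with h2 | h2
      · exact Dvd.dvd.mul_right (hr.dvd_of_dvd_pow h2) _
      · exact Dvd.dvd.mul_left (Dvd.dvd.mul_right (hr.dvd_of_dvd_pow h2) _) _
    · exact Dvd.dvd.mul_left (Dvd.dvd.mul_left (Dvd.dvd.mul_right h1 _) _) _
  · rcases (Nat.Prime.dvd_mul hr).mp h with h1 | h1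
    · rcases (Nat.Prime.dvd_mul hr).mp h1 with h2 | h2
      · exact Dvd.dvd.mul_right (hr.dvd_of_dvd_pow h2) _
      · exact Dvd.dvd.mul_left (Dvd.dvd.mul_right (hr.dvd_of_dvd_pow h2) _) _
    · exact Dvd.dvd.mul_left (Dvd.dvd.mul_left (Dvd.dvd.mul_left h1 _) _) _

section F4

variable {K : Type*} [Field K] [CharP K 2] [Fintype K]

/-- an element commuting with an involution lies in a conjugate of a minimal parabolic subgroup -/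
theorem f4_cent_card (m : ℕ) (hm : 1 ≤ m) (hK : Fintype.card K = 2 ^ (2 * m + 1))
    (a b : ↥(twistedF4 K (2 ^ m))) (ha : orderOf a = 2) (hab : Commute a b) :
    orderOf b ∣ (2 ^ (2 * m + 1)) ^ 12 * (2 ^ (2 * m + 1) - 1) ^ 2 * (1 + 2 ^ (2 * m + 1)) ∨
    orderOf b ∣ (2 ^ (2 * m + 1)) ^ 12 * (2 ^ (2 * m + 1) - 1) ^ 2 * (1 + 2 ^ (2 * m + 1) * 2 ^ (2 * m + 1)) := by
  have hconj : ∀ z : ↥(twistedF4 K (2 ^ m)), orderOf (z * b * z⁻¹) = orderOf b := by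
    intro z
    have := orderOf_injective (MulAut.conj z).toMonoidHom (MulAut.conj z).injective b
    simpa using this
  rcases f4_involution_conj_sub m hK a ha with ⟨x, hx⟩ | ⟨x, hx⟩
  · -- the class of `z₄(1)`
    right
    obtain ⟨y, hyG, hy⟩ := f4_w_y4 (K := K) m 0 1
    -- `z = y⁻¹ x`
    have hz : ((⟨y, hyG⟩ : ↥(twistedF4 K (2 ^ m)))⁻¹ * x * a * ((⟨y, hyG⟩ : ↥(twistedF4 K (2 ^ m)))⁻¹ * x)⁻¹ :
        ↥(twistedF4 K (2 ^ m))).1 = f4y4 m 0 1 := by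
      have e : (⟨y, hyG⟩ : ↥(twistedF4 K (2 ^ m)))⁻¹ * x * a * ((⟨y, hyG⟩ : ↥(twistedF4 K (2 ^ m)))⁻¹ * x)⁻¹ =
          (⟨y, hyG⟩ : ↥(twistedF4 K (2 ^ m)))⁻¹ * (x * a * x⁻¹) * ⟨y, hyG⟩ := by group
      rw [e, hx]
      show y⁻¹ * cU m 0 1 * y = f4y4 m 0 1
      rw [show cU m (0 : K) 1 = f4y8 m 0 1 from rfl, ← hy]
      group
    obtain ⟨z, hz_def⟩ : ∃ z : ↥(twistedF4 K (2 ^ m)), z = (⟨y, hyG⟩ : ↥(twistedF4 K (2 ^ m)))⁻¹ * x := ⟨_, rfl⟩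
    rw [← hz_def] at hz
    have hcomm : (z * b * z⁻¹).1 * f4y4 m 0 1 * ((z * b * z⁻¹).1)⁻¹ = f4y4 m 0 (1 : K) := by
      rw [← hz]
      have e : z * b * z⁻¹ * (z * a * z⁻¹) * (z * b * z⁻¹)⁻¹ = z * a * z⁻¹ := by
        have : z * b * z⁻¹ * (z * a * z⁻¹) * (z * b * z⁻¹)⁻¹ = z * (b * a * b⁻¹) * z⁻¹ := by group
        rw [this, ← hab.eq]
        group
      exact congrArg Subtype.val e
    have hmem := cent_2A m hK (z * b * z⁻¹).1 (z * b * z⁻¹).2 hcomm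
    have hdvd := Subgroup.orderOf_dvd_natCard _ hmem
    rw [show (⟨(z * b * z⁻¹).1, (z * b * z⁻¹).2⟩ : ↥(twistedF4 K (2 ^ m))) = z * b * z⁻¹ from rfl, hconj z] at hdvd
    rw [← card_f4_par2 m hK hm]
    exact hdvd
  · -- the class of `x₅(1)`
    left
    obtain ⟨y, hyG, hy⟩ := f4_w_x5 (K := K) m 1
    have hz : ((⟨y, hyG⟩ : ↥(twistedF4 K (2 ^ m)))⁻¹ * x * a * ((⟨y, hyG⟩ : ↥(twistedF4 K (2 ^ m)))⁻¹ * x)⁻¹ :
        ↥(twistedF4 K (2 ^ m))).1 = f4x5 m 1 := by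
      have e : (⟨y, hyG⟩ : ↥(twistedF4 K (2 ^ m)))⁻¹ * x * a * ((⟨y, hyG⟩ : ↥(twistedF4 K (2 ^ m)))⁻¹ * x)⁻¹ =
          (⟨y, hyG⟩ : ↥(twistedF4 K (2 ^ m)))⁻¹ * (x * a * x⁻¹) * ⟨y, hyG⟩ := by group
      rw [e, hx]
      show y⁻¹ * pU m 1 * y = f4x5 m 1
      rw [show pU m (1 : K) = f4x1 m 1 from rfl, ← hy]
      group
    obtain ⟨z, hz_def⟩ : ∃ z : ↥(twistedF4 K (2 ^ m)), z = (⟨y, hyG⟩ : ↥(twistedF4 K (2 ^ m)))⁻¹ * x := ⟨_, rfl⟩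
    rw [← hz_def] at hz
    have hcomm : (z * b * z⁻¹).1 * f4x5 m 1 * ((z * b * z⁻¹).1)⁻¹ = f4x5 m (1 : K) := by
      rw [← hz]
      have e : z * b * z⁻¹ * (z * a * z⁻¹) * (z * b * z⁻¹)⁻¹ = z * a * z⁻¹ := by
        have : z * b * z⁻¹ * (z * a * z⁻¹) * (z * b * z⁻¹)⁻¹ = z * (b * a * b⁻¹) * z⁻¹ := by group
        rw [this, ← hab.eq]
        group
      exact congrArg Subtype.val e
    have hmem := cent_2B m hK (z * b * z⁻¹).1 (z * b * z⁻¹).2 hcomm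
    have hdvd := Subgroup.orderOf_dvd_natCard _ hmem
    rw [show (⟨(z * b * z⁻¹).1, (z * b * z⁻¹).2⟩ : ↥(twistedF4 K (2 ^ m))) = z * b * z⁻¹ from rfl, hconj z] at hdvd
    rw [← card_f4_par1 m hK hm]
    exact hdvd

theorem f4_cent_primes (m : ℕ) (hm : 1 ≤ m) (hK : Fintype.card K = 2 ^ (2 * m + 1))
    (a b : ↥(twistedF4 K (2 ^ m))) (ha : orderOf a = 2) (hab : Commute a b) :
    (orderOf b).primeFactors ⊆ (2 ^ (2 * m + 1) * ((2 ^ (2 * m + 1)) ^ 4 - 1)).primeFactors := by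
  intro r hr
  have hrp := Nat.prime_of_mem_primeFactors hr
  have hrd := Nat.dvd_of_mem_primeFactors hr
  have hq : 2 ≤ 2 ^ (2 * m + 1) := by
    calc 2 = 2 ^ 1 := by norm_num
      _ ≤ 2 ^ (2 * m + 1) := Nat.pow_le_pow_right (by norm_num) (by omega)
  have hne : 2 ^ (2 * m + 1) * ((2 ^ (2 * m + 1)) ^ 4 - 1) ≠ 0 := by
    have h1 : 1 < (2 ^ (2 * m + 1)) ^ 4 := Nat.one_lt_pow (by norm_num) (by omega)
    have h2 : 0 < (2 ^ (2 * m + 1)) ^ 4 - 1 := by omega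
    positivity
  rw [Nat.mem_primeFactors]
  refine ⟨hrp, ?_, hne⟩
  rcases f4_cent_card m hm hK a b ha hab with h | h
  · exact prime_dvd_of_dvd_par _ r hq hrp _ (Or.inl rfl) (hrd.trans h)
  · exact prime_dvd_of_dvd_par _ r hq hrp _ (Or.inr rfl) (hrd.trans h)

end F4

end Cfsg.Agent.Lib.H12.F4Cent
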