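import Mathlib
import Cfsg.Prelude.Def_ChevStructure
import Cfsg.Agent.Lib.H29.ChevCentG2d
import Cfsg.Agent.Lib.H29.ChevAut3

/-!
# Products of commuting root elements and their conjugates under the monomial group

Generic lemmas on top of helper29's Chevalley tower (`Cert12`), used for the centralisers of the involutions
`x_47(1) x_44(1)` and `x_39(1) x_45(1)` of `F₄` in characteristic two.
-/

set_option autoImplicit false
set_option linter.unusedSectionVars false
set_option linter.unusedSimpArgs false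
set_option linter.unusedVariables false

namespace Cfsg.Agent.Lib.H12.F4V

open Cfsg.Lie Matrix Cfsg.Agent.Lib.H29.Chev

variable {D : ChevalleyDatum} {fd : FD} {fx : FX} {fc : FC} {fz : FZ} {F : Type*} [Field F]

section Gen

variable (C : Cert12 D fd fx fc fz)

/-- the product of the root elements of a list of pairs (root, parameter) -/
noncomputable abbrev lp (L : List (ℕ × F)) : GL D.Idx F := (L.map fun p => C.c6.c2.xA p.1 p.2).prod

theorem lp_nil : lp C ([] : List (ℕ × F)) = 1 := rfl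

theorem lp_cons (p : ℕ × F) (L : List (ℕ × F)) : lp C (p :: L) = C.c6.c2.xA p.1 p.2 * lp C L := by
  simp [lp]

/-- the roots of the list commute pairwise -/
def PComm (L : List (ℕ × F)) : Prop :=
  ∀ p ∈ L, ∀ q ∈ L, ∀ t u : F, Commute (C.c6.c2.xA p.1 t) (C.c6.c2.xA q.1 u)

theorem commute_lp (x : GL D.Idx F) (L : List (ℕ × F)) (h : ∀ p ∈ L, Commute x (C.c6.c2.xA p.1 p.2)) :
    Commute x (lp C L) := by
  induction L with
  | nil => exact Commute.one_right x
  | cons p L ih =>
    rw [lp_cons]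
    exact (h p List.mem_cons_self).mul_right (ih fun q hq => h q (List.mem_cons_of_mem _ hq))

/-- splitting a product of commuting root elements according to a predicate on the roots -/
theorem lp_split (P : ℕ → Prop) [DecidablePred P] (L : List (ℕ × F)) (hc : PComm C L) :
    lp C L = lp C (L.map fun p => (p.1, if P p.1 then p.2 else 0)) *
      lp C (L.map fun p => (p.1, if P p.1 then 0 else p.2)) := by
  induction L with
  | nil => simp [lp]
  | cons p L ih =>
    have hc' : PComm C L := fun a ha b hb => hc a (List.mem_cons_of_mem _ ha) b (List.mem_cons_of_mem _ hb)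
    rw [List.map_cons, List.map_cons, lp_cons, lp_cons, lp_cons, ih hc']
    by_cases hP : P p.1
    · simp only [if_pos hP, C.c6.c2.xA_zero, one_mul, mul_assoc]
    · simp only [if_neg hP, C.c6.c2.xA_zero, one_mul]
      have hcm : Commute (C.c6.c2.xA p.1 p.2) (lp C (L.map fun p => (p.1, if P p.1 then p.2 else 0))) := by
        apply commute_lp
        intro q hq
        obtain ⟨q', hq', rfl⟩ := List.mem_map.mp hq
        exact hc p List.mem_cons_self q' (List.mem_cons_of_mem _ hq') _ _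
      rw [← mul_assoc, hcm.eq, mul_assoc]

/-- the constant by which a monomial element multiplies the parameter of the root subgroup `s` -/
noncomputable def pc {m : GL D.Idx F} {π : ℕ → ℕ} (hπ : C.c6.c2.Perm m π) (s : ℕ) : F :=
  if h : s < fd.n then Classical.choose (hπ s h).2.2 else 0

theorem pc_spec {m : GL D.Idx F} {π : ℕ → ℕ} (hπ : C.c6.c2.Perm m π) (s : ℕ) (hs : s < fd.n) (t : F) :
    m * C.c6.c2.xA s t * m⁻¹ = C.c6.c2.xA (π s) (pc C hπ s * t) := by
  unfold pc
  rw [dif_pos hs]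
  exact Classical.choose_spec (hπ s hs).2.2 t

theorem pc_ne_zero {m : GL D.Idx F} {π : ℕ → ℕ} (hπ : C.c6.c2.Perm m π) (s : ℕ) (hs : s < fd.n) :
    pc C hπ s ≠ 0 := by
  intro h0
  have := pc_spec C hπ s hs 1
  rw [h0, zero_mul, C.c6.c2.xA_zero] at this
  have e : C.c6.c2.xA s (1 : F) = 1 := by
    have e2 : C.c6.c2.xA s (1 : F) = m⁻¹ * (m * C.c6.c2.xA s 1 * m⁻¹) * m := by group
    rw [e2, this]
    group
  exact one_ne_zero (C.c6.xA_eq_one s hs _ e)

/-- the conjugate of a product of root elements by a monomial element -/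
theorem conj_lp {m : GL D.Idx F} {π : ℕ → ℕ} (hπ : C.c6.c2.Perm m π) (L : List (ℕ × F))
    (hL : ∀ p ∈ L, p.1 < fd.n) :
    m * lp C L * m⁻¹ = lp C (L.map fun p => (π p.1, pc C hπ p.1 * p.2)) := by
  induction L with
  | nil => simp [lp]
  | cons p L ih =>
    rw [List.map_cons, lp_cons, lp_cons, ← ih (fun q hq => hL q (List.mem_cons_of_mem _ hq)),
      ← pc_spec C hπ p.1 (hL p List.mem_cons_self)]
    group

theorem lp_mem_pos (L : List (ℕ × F)) (hL : ∀ p ∈ L, p.2 ≠ 0 → p.1 < fd.n ∧ fd.n / 2 ≤ p.1) :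
    lp C L ∈ D.posUnipotent F := by
  apply Subgroup.list_prod_mem
  intro x hx
  obtain ⟨p, hp, rfl⟩ := List.mem_map.mp hx
  by_cases h0 : p.2 = 0
  · rw [h0, C.c6.c2.xA_zero]; exact one_mem _
  · exact C.xA_mem_posU _ (hL p hp h0).1 (hL p hp h0).2 _

theorem lp_mem_neg (L : List (ℕ × F)) (hL : ∀ p ∈ L, p.2 ≠ 0 → p.1 < fd.n / 2) :
    lp C L ∈ D.negUnipotent F := by
  have hev := C.c6.c2.heven
  apply Subgroup.list_prod_mem
  intro x hx
  obtain ⟨p, hp, rfl⟩ := List.mem_map.mp hx
  by_cases h0 : p.2 = 0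
  · rw [h0, C.c6.c2.xA_zero]; exact one_mem _
  · exact C.c6.xA_neg_mem_neg _ (by have := hL p hp h0; omega) (hL p hp h0) _

/-- if a monomial element conjugates a product of commuting positive root elements of distinct roots into `U`,
then it maps the roots with a non-zero parameter to positive roots -/
theorem support_pos {m : GL D.Idx F} {π : ℕ → ℕ} (hπ : C.c6.c2.Perm m π) (L : List (ℕ × F))
    (hL : ∀ p ∈ L, p.1 < fd.n ∧ fd.n / 2 ≤ p.1) (hnd : (L.map Prod.fst).Nodup) (hc : PComm C L)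
    (hU : m * lp C L * m⁻¹ ∈ D.posUnipotent F) :
    ∀ p ∈ L, p.2 ≠ 0 → fd.n / 2 ≤ π p.1 := by
  classical
  have hev := C.c6.c2.heven
  set Lp := L.map fun p => (p.1, if fd.n / 2 ≤ π p.1 then p.2 else 0) with hLp
  set Ln := L.map fun p => (p.1, if fd.n / 2 ≤ π p.1 then 0 else p.2) with hLn
  have hsplit : lp C L = lp C Lp * lp C Ln := lp_split C (fun s => fd.n / 2 ≤ π s) L hc
  have hLp1 : ∀ p ∈ Lp, p.1 < fd.n := by
    intro p hp
    obtain ⟨q, hq, rfl⟩ := List.mem_map.mp hp
    exact (hL q hq).1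
  have hLn1 : ∀ p ∈ Ln, p.1 < fd.n := by
    intro p hp
    obtain ⟨q, hq, rfl⟩ := List.mem_map.mp hp
    exact (hL q hq).1
  have h1 : m * lp C Lp * m⁻¹ ∈ D.posUnipotent F := by
    rw [conj_lp C hπ Lp hLp1]
    apply lp_mem_pos
    intro p hp hne
    obtain ⟨q, hq, rfl⟩ := List.mem_map.mp hp
    obtain ⟨r, hr, rfl⟩ := List.mem_map.mp hq
    simp only at hne ⊢
    by_cases hh : fd.n / 2 ≤ π r.1
    · exact ⟨(hπ r.1 (hL r hr).1).1, hh⟩
    · rw [if_neg hh, mul_zero] at hne
      exact absurd rfl hne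
  have h2 : m * lp C Ln * m⁻¹ ∈ D.negUnipotent F := by
    rw [conj_lp C hπ Ln hLn1]
    apply lp_mem_neg
    intro p hp hne
    obtain ⟨q, hq, rfl⟩ := List.mem_map.mp hp
    obtain ⟨r, hr, rfl⟩ := List.mem_map.mp hq
    simp only at hne ⊢
    by_cases hh : fd.n / 2 ≤ π r.1
    · rw [if_pos hh, mul_zero] at hne
      exact absurd rfl hne
    · omega
  have h3 : m * lp C Ln * m⁻¹ ∈ D.posUnipotent F := by
    have e : m * lp C Ln * m⁻¹ = (m * lp C Lp * m⁻¹)⁻¹ * (m * lp C L * m⁻¹) := by
      rw [hsplit]; group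
    rw [e]
    exact mul_mem (inv_mem h1) hU
  have h4 := C.pos_inf_neg _ h3 h2
  have h5 : lp C Ln = 1 := by
    have e : lp C Ln = m⁻¹ * (m * lp C Ln * m⁻¹) * m := by group
    rw [e, h4]; group
  have hLn2 : ∀ p ∈ Ln, p.1 < fd.n ∧ fd.n / 2 ≤ p.1 := by
    intro p hp
    obtain ⟨q, hq, rfl⟩ := List.mem_map.mp hp
    exact hL q hq
  have hnd' : (Ln.map Prod.fst).Nodup := by
    rw [hLn, List.map_map]
    exact hnd
  have h6 := C.list_prod_eq_one Ln hLn2 hnd' h5
  intro p hp hne
  by_contra hh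
  have := h6 (p.1, if fd.n / 2 ≤ π p.1 then 0 else p.2) (List.mem_map.mpr ⟨p, hp, rfl⟩)
  simp only [if_neg hh] at this
  exact hne this

end Gen

end Cfsg.Agent.Lib.H12.F4V
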