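import Mathlib
import Cfsg.Prelude.Def_ChevStructure
import Cfsg.Agent.Lib.H12.F4CentV1

/-!
# Stabilisers in the Weyl group, and the height filtration for conjugates of products of root elements
-/

set_option autoImplicit false
set_option linter.unusedSectionVars false
set_option linter.unusedSimpArgs false
set_option linter.unusedVariables false

namespace Cfsg.Agent.Lib.H12.F4V

open Cfsg.Lie Matrix Cfsg.Agent.Lib.H29.Chev

variable {D : ChevalleyDatum} {fd : FD} {fx : FX} {fc : FC} {fz : FZ} {F : Type*} [Field F]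

section Gen

variable (C : Cert12 D fd fx fc fz)

/-- the permutation of a monomial element is injective on the roots -/
theorem perm_inj {m : GL D.Idx F} (hm : m ∈ D.monomialSubgroup F) {π : ℕ → ℕ} (hπ : C.c6.c2.Perm m π)
    (s s' : ℕ) (hs : s < fd.n) (hs' : s' < fd.n) (h : π s = π s') : s = s' := by
  obtain ⟨_, ⟨ρ, hρ⟩⟩ := C.c6.perm_of_mem m hm
  have hinv := (C.perm_inv m π ρ hπ hρ).1
  rw [← hinv s hs, ← hinv s' hs', h]

/-- the height filtration: if the conjugate lies in the level `k`, the images of the roots with non-zero parameter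
have height at least `k` -/
theorem conj_ht_ge {m : GL D.Idx F} (hm : m ∈ D.monomialSubgroup F) {π : ℕ → ℕ} (hπ : C.c6.c2.Perm m π)
    (L : List (ℕ × F)) (hL : ∀ p ∈ L, p.1 < fd.n ∧ fd.n / 2 ≤ p.1) (hnd : (L.map Prod.fst).Nodup)
    (hc : PComm C L) (k : ℤ)
    (hk : ((m * lp C L * m⁻¹ : GL D.Idx F) : Matrix D.Idx D.Idx F) ∈ GF D F (fd.wtA fx D hwt) k)
    (hU : m * lp C L * m⁻¹ ∈ D.posUnipotent F) :
    ∀ p ∈ L, p.2 ≠ 0 → ¬ fd.ht fx (π p.1) < k := by
  have hpos := support_pos C hπ L hL hnd hc hU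
  have hL1 : ∀ p ∈ L, p.1 < fd.n := fun p hp => (hL p hp).1
  rw [conj_lp C hπ L hL1] at hk
  intro p hp hne
  have := C.list_prod_GF_zero' (L.map fun p => (π p.1, pc C hπ p.1 * p.2)) ?_ ?_ k hk
    (π p.1, pc C hπ p.1 * p.2) (List.mem_map.mpr ⟨p, hp, rfl⟩)
    (mul_ne_zero (pc_ne_zero C hπ p.1 (hL1 p hp)) hne)
  · exact this
  · intro q hq hq0
    obtain ⟨r, hr, rfl⟩ := List.mem_map.mp hq
    simp only at hq0 ⊢
    exact ⟨(hπ r.1 (hL1 r hr)).1, hpos r hr (right_ne_zero_of_mul hq0)⟩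
  · rw [List.map_map]
    have : (Prod.fst ∘ fun p : ℕ × F => (π p.1, pc C hπ p.1 * p.2)) = π ∘ Prod.fst := by
      funext p; rfl
    rw [this, ← List.map_map]
    apply List.Nodup.map_on _ hnd
    intro a ha b hb hab
    obtain ⟨p, hp, rfl⟩ := List.mem_map.mp ha
    obtain ⟨q, hq, rfl⟩ := List.mem_map.mp hb
    exact perm_inj C hm hπ _ _ (hL1 p hp) (hL1 q hq) hab

/-- an element of the Weyl group fixing all the roots of a list is a word in the fundamental reflections fixing them,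
provided that a fundamental root made negative has its reflection fixing the list -/
theorem stab_word_list (Rs : List ℕ)
    (hstep : ∀ (g : GL D.Idx F) (π : ℕ → ℕ), g ∈ D.monomialSubgroup F → C.c6.c2.Perm g π → (∀ r ∈ Rs, π r = r) →
      ∀ i < fd.l, π (fd.simples.getD i 0) < fd.n / 2 → ∀ r ∈ Rs, fd.sw fx i r = r) :
    ∀ N : ℕ, ∀ (g : GL D.Idx F) (π : ℕ → ℕ), g ∈ D.monomialSubgroup F → C.c6.c2.Perm g π → (∀ r ∈ Rs, π r = r) →
      fd.invC π = N →
      ∃ w : List ℕ, (∀ i ∈ w, i < fd.l ∧ ∀ r ∈ Rs, fd.sw fx i r = r) ∧ ∀ s < fd.n, π s = fd.wordP fx w s := by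
  intro N
  induction N using Nat.strong_induction_on with
  | _ N ih =>
    intro g π hg hπ hfix hN
    by_cases hpos : ∀ i < fd.l, fd.n / 2 ≤ π (fd.simples.getD i 0)
    · have h1 := C.mem_diag_of_pos g hg π hπ hpos
      have h2 := C.perm_unique g _ _ hπ (C.c6.perm_diag g h1)
      exact ⟨[], by simp, fun s hs => by rw [h2 s hs]; rfl⟩
    · push Not at hpos
      obtain ⟨i, hi, hneg⟩ := hpos
      have hp := C.c6.c2.simple_lt i hi
      have hJ := hstep g π hg hπ hfix i hi hneg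
      have hnG := (C.c6.perm_nG (F := F) i hi).1
      have hπ2 : C.c6.c2.Perm (g * C.c6.c2.nG (F := F) (fd.simples.getD i 0) hp) (fun s => π (fd.sw fx i s)) :=
        C.c6.perm_mul hπ hnG
      have hfix2 : ∀ r ∈ Rs, π (fd.sw fx i r) = r := by
        intro r hr
        rw [hJ r hr, hfix r hr]
      have hinv := C.invC_sw π (fun s hs => ⟨(hπ s hs).1, (hπ s hs).2.1⟩) i hi hneg
      obtain ⟨w, hw, hws⟩ := ih (fd.invC (fun s => π (fd.sw fx i s))) (by omega) _ _
        (mul_mem hg (C.c6.c2.nG_mem_monomial _ _)) hπ2 hfix2 rfl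
      refine ⟨w ++ [i], ?_, ?_⟩
      · intro j hj
        rcases List.mem_append.mp hj with hj | hj
        · exact hw j hj
        · rw [List.mem_singleton] at hj
          subst hj
          exact ⟨hi, hJ⟩
      · intro s hs
        rw [FD.wordP_append]
        simp only [FD.wordP]
        rw [← hws _ (C.sw_lt i s hi hs), C.sw_sw i s hi hs]

/-- a fundamental reflection whose root is made negative by an element fixing a dominant root `r`, maximal in its
class, fixes `r` -/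
theorem fix_of_neg_dominant (r : ℕ) (hr : r < fd.n) (cls : ℕ → Prop)
    (hnJ : ∀ i < fd.l, fd.sw fx i r ≠ r → fd.rcZ fx (fd.sw fx i r) i < fd.rcZ fx r i)
    (hcr : cls r) (hcsw : ∀ i < fd.l, ∀ s < fd.n, cls s → cls (fd.sw fx i s))
    (hmax : ∀ s < fd.n, cls s → ∀ j < fd.l, fd.rcZ fx s j ≤ fd.rcZ fx r j)
    (g : GL D.Idx F) (π : ℕ → ℕ) (hg : g ∈ D.monomialSubgroup F) (hπ : C.c6.c2.Perm g π) (hfix : π r = r)
    (i : ℕ) (hi : i < fd.l) (hneg : π (fd.simples.getD i 0) < fd.n / 2) : fd.sw fx i r = r := by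
  have hp := C.c6.c2.simple_lt i hi
  have hsr := C.sw_lt i r hi hr
  by_contra hne
  have hlt := hnJ i hi hne
  obtain ⟨⟨π', hπ', hlin⟩, _⟩ := C.perm_lin g hg
  have heq := C.perm_unique g _ _ hπ hπ'
  obtain ⟨⟨w, hw, hπw⟩, _⟩ := C.perm_word g hg
  have heqw := C.perm_unique g _ _ hπ hπw
  have hl : ∀ j < fd.l, fd.rcZ fx (fd.sw fx i r) j =
      1 * fd.rcZ fx r j + (-(fd.rcZ fx r i - fd.rcZ fx (fd.sw fx i r) i)) * fd.rcZ fx (fd.simples.getD i 0) j := by
    intro j hj
    rw [C.rcZ_simple i j hi hj]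
    by_cases hji : j = i
    · subst hji
      rw [if_pos rfl]; ring
    · rw [C.sw_rc i r j hi hr hj hji, if_neg (Ne.symm hji)]; ring
  have key := fd.linP_apply π' hlin (fd.sw fx i r) r (fd.simples.getD i 0) hsr hr hp 1 _ hl
  rw [← heq r hr, ← heq _ hsr, ← heq _ hp, hfix] at key
  have hcl : cls (π (fd.sw fx i r)) := by
    rw [heqw _ hsr]
    exact C.cls_wordP cls hcsw w hw _ hsr (hcsw i hi r hr hcr)
  have hmx := hmax _ (hπ _ hsr).1 hcl
  have hnp := C.rcZ_nonpos _ (hπ _ hp).1 hneg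
  apply C.rcZ_ne_zero _ (hπ _ hp).1
  intro j hj
  have h1 := key j hj
  have h2 := hmx j hj
  have h3 := hnp j hj
  have h4 : 0 < fd.rcZ fx r i - fd.rcZ fx (fd.sw fx i r) i := by omega
  by_contra h5
  have h6 : fd.rcZ fx (π (fd.simples.getD i 0)) j < 0 := lt_of_le_of_ne h3 h5
  have h7 : (fd.rcZ fx r i - fd.rcZ fx (fd.sw fx i r) i) * fd.rcZ fx (π (fd.simples.getD i 0)) j < 0 :=
    mul_neg_of_pos_of_neg h4 h6
  rw [h1] at h2
  linarith

end Gen

end Cfsg.Agent.Lib.H12.F4V
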