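import Mathlib
import Cfsg.Prelude.Def_ChevStructure
import Cfsg.Agent.Lib.H12.F4CentV2

/-!
# `F₄` in characteristic two: commuting root elements, and the centraliser of `x_47(1) x_44(1)`
-/

set_option autoImplicit false
set_option linter.unusedSectionVars false
set_option linter.unusedSimpArgs false
set_option linter.unusedVariables false
set_option maxRecDepth 4000

namespace Cfsg.Agent.Lib.H12.F4V

open Cfsg.Lie Matrix Cfsg.Agent.Lib.H29.Chev

theorem f4_n : fdF4.n = 48 := rfl
theorem f4_l : fdF4.l = 4 := rfl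

/-- the root elements of `s` and `r` commute in characteristic two, by the table of the commutator formula -/
def comm2 (s r : ℕ) : Bool :=
  s == r || (r != 47 - s && (fdF4.commT s r).all fun c => c.2.1 % 2 == 0)

section F4

variable {F : Type*} [Field F] [CharP F 2]

theorem two_eq_zero' : ((2 : ℤ) : F) = 0 := by
  have := CharP.cast_eq_zero F 2
  exact_mod_cast this

theorem comm2_comm (s r : ℕ) (hs : s < 48) (hr : r < 48) (h : comm2 s r = true) (t u : F) :
    Commute (fX s t) (fX r u) := by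
  unfold comm2 at h
  rw [Bool.or_eq_true] at h
  rcases h with h | h
  · have e : s = r := by simpa using h
    subst e
    show fX s t * fX s u = fX s u * fX s t
    rw [cert12_F4.c6.c2.xA_mul, cert12_F4.c6.c2.xA_mul, add_comm]
  · rw [Bool.and_eq_true] at h
    obtain ⟨h1, h2⟩ := h
    have h1' : r ≠ 47 - s := by simpa using h1
    by_cases hsr : r = s
    · subst hsr
      show fX r t * fX r u = fX r u * fX r t
      rw [cert12_F4.c6.c2.xA_mul, cert12_F4.c6.c2.xA_mul, add_comm]
    · apply cert12_F4.xA_comm_of_coef s r (by rw [f4_n]; exact hs) (by rw [f4_n]; exact hr) hsr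
        (by rw [f4_n]; omega)
      intro c hc
      have := List.all_eq_true.mp h2 c hc
      have hdvd : (2 : ℤ) ∣ c.2.1 := by
        have : c.2.1 % 2 = 0 := by simpa using this
        exact Int.dvd_of_emod_eq_zero this
      obtain ⟨k, hk⟩ := hdvd
      rw [hk, Int.cast_mul, two_eq_zero', zero_mul]

/-- the lists whose roots commute pairwise -/
theorem pcomm_of (rs : List ℕ) (h : ∀ a ∈ rs, ∀ b ∈ rs, a < 48 ∧ b < 48 ∧ comm2 a b = true) (L : List (ℕ × F))
    (hL : ∀ p ∈ L, p.1 ∈ rs) : PComm cert12_F4 L := by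
  intro p hp q hq t u
  obtain ⟨h1, h2, h3⟩ := h p.1 (hL p hp) q.1 (hL q hq)
  exact comm2_comm p.1 q.1 h1 h2 h3 t u

/-- the elements of `U` commute with the root elements of a root commuting with all positive roots -/
theorem pos_commute (r : ℕ) (hr : r < 48) (h : ∀ s, 24 ≤ s → s < 48 → comm2 s r = true) (t : F) :
    ∀ u ∈ chevF4.posUnipotent F, Commute u (fX r t) := by
  intro u hu
  unfold ChevalleyDatum.posUnipotent at hu
  induction hu using Subgroup.closure_induction with
  | mem x hx =>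
    obtain ⟨s, c, hs, hx⟩ := hx
    obtain ⟨hs1, hs2⟩ := (cert12_F4.c6.isPos_iff s).mp hs
    have : x = fX s c := gl_ext (by rw [hx, cert12_F4.c6.c2.xA_val])
    rw [this]
    rw [f4_n] at hs1 hs2
    exact comm2_comm s r hs1 hr (h s (by omega) hs1) c t
  | one => exact Commute.one_left _
  | mul x y _ _ hx hy => exact hx.mul_left hy
  | inv x _ hx => exact hx.inv_left

set_option maxRecDepth 100000 in
theorem f4_central_tbl : ∀ s, 24 ≤ s → s < 48 → comm2 s 47 = true ∧ comm2 s 44 = true := by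
  decide +kernel

set_option maxRecDepth 100000 in
theorem f4_ht_tbl : fdF4.ht fxF4 47 = 11 ∧ fdF4.ht fxF4 44 = 8 ∧ fdF4.ht fxF4 39 = 6 ∧ fdF4.ht fxF4 45 = 9 ∧
    fdF4.ht fxF4 40 = 7 ∧ fdF4.ht fxF4 46 = 10 ∧ fdF4.ht fxF4 42 = 6 ∧ fdF4.ht fxF4 43 = 7 := by
  decide +kernel

set_option maxRecDepth 100000 in
theorem f4_long_sw : ∀ i < fdF4.l, ∀ s < fdF4.n, shortF4 s = false → shortF4 (fdF4.sw fxF4 i s) = false := by
  decide +kernel

set_option maxRecDepth 100000 in
theorem f4_ht8_short : ∀ s < 48, shortF4 s = true → 24 ≤ s → ¬ fdF4.ht fxF4 s < 8 → s = 44 := by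
  decide +kernel

set_option maxRecDepth 100000 in
theorem f4_ht8_long : ∀ s < 48, shortF4 s = false → 24 ≤ s → ¬ fdF4.ht fxF4 s < 8 → s = 45 ∨ s = 46 ∨ s = 47 := by
  decide +kernel

set_option maxRecDepth 100000 in
theorem f4_z_stab : (∀ i < fdF4.l, fdF4.sw fxF4 i 47 = 47 → fdF4.sw fxF4 i 44 = 44 → i = 1 ∨ i = 2) ∧
    fdF4.simples.getD 1 0 = 27 ∧ fdF4.simples.getD 2 0 = 25 ∧
    comm2 20 47 = true ∧ comm2 20 44 = true ∧ comm2 22 47 = true ∧ comm2 22 44 = true ∧
    (∀ i < fdF4.l, i ≠ 3 → fdF4.sw fxF4 i 47 = 47) ∧ (∀ i < fdF4.l, i ≠ 0 → fdF4.sw fxF4 i 44 = 44) := by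
  decide +kernel

/-- the images of a short and of a long root under the permutation of a monomial element -/
theorem perm_short {m : GL chevF4.Idx F} (hm : m ∈ chevF4.monomialSubgroup F) {π : ℕ → ℕ}
    (hπ : cert12_F4.c6.c2.Perm m π) (s : ℕ) (hs : s < 48) (b : Bool) (h : shortF4 s = b) : shortF4 (π s) = b := by
  obtain ⟨⟨w, hw, hπw⟩, _⟩ := cert12_F4.perm_word m hm
  have hws := cert12_F4.perm_unique m π _ hπ hπw s (by rw [f4_n]; exact hs)
  rw [hws]
  cases b with
  | true =>
    exact cert12_F4.cls_wordP (fun s => shortF4 s = true) cdF4s.hcsw w hw s (by rw [f4_n]; exact hs) h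
  | false =>
    exact cert12_F4.cls_wordP (fun s => shortF4 s = false) f4_long_sw w hw s (by rw [f4_n]; exact hs) h

/-- the centraliser of `x_47(1) x_44(1)` lies in every subgroup containing `U`, `X_{-p₂}` and `X_{-p₃}` -/
theorem cent_z_le (T : Subgroup (GL chevF4.Idx F)) (hU : chevF4.posUnipotent F ≤ T)
    (hT : ∀ s ∈ [20, 22], ∀ c : F, fX s c ∈ T) :
    chevF4.group F ⊓ Subgroup.centralizer {fX 47 (1 : F) * fX 44 1} ≤ T := by
  have hn := f4_n
  have hl := f4_l
  obtain ⟨ht47, ht44, -⟩ := f4_ht_tbl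
  obtain ⟨zs1, zs2, zs3, zc1, zc2, zc3, zc4, zJ47, zJ44⟩ := f4_z_stab
  have hUc47 : ∀ t : F, ∀ u ∈ chevF4.posUnipotent F, Commute u (fX 47 t) := fun t =>
    pos_commute 47 (by omega) (fun s h1 h2 => (f4_central_tbl s h1 h2).1) t
  have hUc44 : ∀ t : F, ∀ u ∈ chevF4.posUnipotent F, Commute u (fX 44 t) := fun t =>
    pos_commute 44 (by omega) (fun s h1 h2 => (f4_central_tbl s h1 h2).2) t
  have hUz : ∀ u ∈ chevF4.posUnipotent F, Commute u (fX 47 (1 : F) * fX 44 1) := fun u hu =>
    (hUc47 1 u hu).mul_right (hUc44 1 u hu)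
  have hLz : ∀ s ∈ [20, 22], ∀ c : F, Commute (fX s c) (fX 47 (1 : F) * fX 44 1) := by
    intro s hs c
    simp only [List.mem_cons, List.mem_nil_iff, or_false] at hs
    rcases hs with rfl | rfl
    · exact (comm2_comm 20 47 (by omega) (by omega) zc1 _ _).mul_right
        (comm2_comm 20 44 (by omega) (by omega) zc2 _ _)
    · exact (comm2_comm 22 47 (by omega) (by omega) zc3 _ _).mul_right
        (comm2_comm 22 44 (by omega) (by omega) zc4 _ _)
  intro g hg
  obtain ⟨hgG, hgc⟩ := Subgroup.mem_inf.mp hg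
  have hgc' : Commute g (fX 47 (1 : F) * fX 44 1) := by
    have := Subgroup.mem_centralizer_iff.mp hgc _ (Set.mem_singleton _)
    exact this.symm
  obtain ⟨b, hb, n, hn', u, hu, rfl⟩ := cert12_F4.c6.canonical_form.1 g hgG
  obtain ⟨u₀, hu₀, h, hh, rfl⟩ := cert12_F4.c6.c2.borel_mem b hb
  have huU := _root_.Cfsg.Agent.Lib.H29.Chev.Uw_le_pos n hu
  have hHN : chevF4.diagonalSubgroup F ≤ chevF4.monomialSubgroup F := le_sup_left
  have hm : h * n ∈ chevF4.monomialSubgroup F := mul_mem (hHN hh) hn'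
  have hmc : Commute (h * n) (fX 47 (1 : F) * fX 44 1) := by
    have e : h * n = u₀⁻¹ * (u₀ * h * n * u) * u⁻¹ := by group
    rw [e]
    exact ((hUz u₀ hu₀).inv_left.mul_left hgc').mul_left (hUz u huU).inv_left
  obtain ⟨⟨π, hπ⟩, _⟩ := cert12_F4.c6.perm_of_mem (h * n) hm
  -- the list form of `z`
  set L : List (ℕ × F) := [(47, 1), (44, 1)] with hLdef
  have hLz' : lp cert12_F4 L = fX 47 (1 : F) * fX 44 1 := by
    simp [lp, hLdef]
  have hLpos : ∀ p ∈ L, p.1 < fdF4.n ∧ fdF4.n / 2 ≤ p.1 := by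
    intro p hp
    simp only [hLdef, List.mem_cons, List.mem_nil_iff, or_false] at hp
    rcases hp with rfl | rfl <;> simp [hn]
  have hLnd : (L.map Prod.fst).Nodup := by simp [hLdef]
  have hLc : PComm cert12_F4 L := by
    apply pcomm_of [47, 44] (by decide +kernel)
    intro p hp
    simp only [hLdef, List.mem_cons, List.mem_nil_iff, or_false] at hp
    rcases hp with rfl | rfl <;> simp
  have hconj : h * n * lp cert12_F4 L * (h * n)⁻¹ = lp cert12_F4 L := by
    rw [hLz', hmc.eq]; group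
  have hzU : lp cert12_F4 L ∈ chevF4.posUnipotent F :=
    lp_mem_pos cert12_F4 L (fun p hp _ => hLpos p hp)
  have hzGF : ((lp cert12_F4 L : GL chevF4.Idx F) : Matrix chevF4.Idx chevF4.Idx F) ∈
      GF chevF4 F (fdF4.wtA fxF4 chevF4 hwt) 8 := by
    rw [hLz', Units.val_mul]
    apply GF_mul _ 8 (by norm_num)
    · exact cert12_F4.xA_mem_GF 47 (by omega) 8 (by norm_num) (by rw [ht47]; norm_num) _
    · exact cert12_F4.xA_mem_GF 44 (by omega) 8 (by norm_num) (by rw [ht44]) _
  have hht := conj_ht_ge cert12_F4 hm hπ L hLpos hLnd hLc 8 (by rw [hconj]; exact hzGF) (by rw [hconj]; exact hzU)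
  have hpos := support_pos cert12_F4 hπ L hLpos hLnd hLc (by rw [hconj]; exact hzU)
  have h47L : ((47 : ℕ), (1 : F)) ∈ L := by simp [hLdef]
  have h44L : ((44 : ℕ), (1 : F)) ∈ L := by simp [hLdef]
  have hp47 := hpos _ h47L one_ne_zero
  have hp44 := hpos _ h44L one_ne_zero
  have hh47 := hht _ h47L one_ne_zero
  have hh44 := hht _ h44L one_ne_zero
  simp only at hp47 hp44 hh47 hh44
  rw [hn] at hp47 hp44
  have hlt47 : π 47 < 48 := by have := (hπ 47 (by omega)).1; omega
  have hlt44 : π 44 < 48 := by have := (hπ 44 (by omega)).1; omega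
  have hs44 := perm_short hm hπ 44 (by omega) true (by decide)
  have hs47 := perm_short hm hπ 47 (by omega) false (by decide)
  have hfix44 : π 44 = 44 := f4_ht8_short (π 44) hlt44 hs44 (by omega) hh44
  have hc47 := f4_ht8_long (π 47) hlt47 hs47 (by omega) hh47
  have hfix47 : π 47 = 47 := by
    by_contra hne
    -- `x_{π 47}(k₁) x_44(k₂ - 1) x_47(-1) = 1`
    have e1 := conj_lp cert12_F4 hπ L (fun p hp => (hLpos p hp).1)
    rw [hconj, hLz'] at e1
    simp only [hLdef, List.map_cons, List.map_nil, lp, List.prod_cons, List.prod_nil, mul_one, hfix44] at e1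
    have hc4447 : ∀ a b : F, Commute (fX 44 a) (fX 47 b) := fun a b =>
      comm2_comm 44 47 (by omega) (by omega) (f4_central_tbl 44 (by omega) (by omega)).1 a b
    have e2 := cert12_F4.list_prod_eq_one
      [(π 47, pc cert12_F4 hπ 47), (44, pc cert12_F4 hπ 44 - 1), (47, -1)]
      (by
        intro p hp
        simp only [List.mem_cons, List.mem_nil_iff, or_false] at hp
        rcases hp with rfl | rfl | rfl
        · simp only [hn]; omega
        · simp [hn]
        · simp [hn])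
      (by
        simp only [List.map_cons, List.map_nil, List.nodup_cons, List.mem_cons, List.mem_nil_iff, or_false,
          not_or, not_false_eq_true, List.nodup_nil, and_true]
        refine ⟨⟨?_, hne⟩, by omega⟩
        rcases hc47 with h | h | h <;> omega)
      (by
        simp only [List.map_cons, List.map_nil, List.prod_cons, List.prod_nil, mul_one]
        show fX (π 47) (pc cert12_F4 hπ 47) * (fX 44 (pc cert12_F4 hπ 44 - 1) * fX 47 (-1)) = 1
        have e3 : fX (π 47) (pc cert12_F4 hπ 47) =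
            fX 47 (1 : F) * fX 44 1 * (fX 44 (pc cert12_F4 hπ 44))⁻¹ := by
          rw [e1]; group
        have k1 : (fX 44 (pc cert12_F4 hπ 44))⁻¹ * fX 44 (pc cert12_F4 hπ 44 - 1) = fX 44 (-1 : F) := by
          rw [cert12_F4.c6.c2.xA_inv, cert12_F4.c6.c2.xA_mul]
          have : -pc cert12_F4 hπ 44 + (pc cert12_F4 hπ 44 - 1) = (-1 : F) := by ring
          rw [this]
        have k2 : fX 44 (1 : F) * fX 44 (-1) = 1 := by
          rw [cert12_F4.c6.c2.xA_mul, add_neg_cancel, cert12_F4.c6.c2.xA_zero]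
        have k3 : fX 47 (1 : F) * fX 47 (-1) = 1 := by
          rw [cert12_F4.c6.c2.xA_mul, add_neg_cancel, cert12_F4.c6.c2.xA_zero]
        calc fX (π 47) (pc cert12_F4 hπ 47) * (fX 44 (pc cert12_F4 hπ 44 - 1) * fX 47 (-1))
            = fX 47 (1 : F) * fX 44 1 * (fX 44 (pc cert12_F4 hπ 44))⁻¹ *
                (fX 44 (pc cert12_F4 hπ 44 - 1) * fX 47 (-1)) := by rw [e3]
          _ = fX 47 (1 : F) * (fX 44 1 * ((fX 44 (pc cert12_F4 hπ 44))⁻¹ * fX 44 (pc cert12_F4 hπ 44 - 1))) *
                fX 47 (-1) := by group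
          _ = fX 47 (1 : F) * (fX 44 1 * fX 44 (-1)) * fX 47 (-1) := by rw [k1]
          _ = 1 := by rw [k2, mul_one, k3])
    have := e2 (47, -1) (by simp)
    simp only at this
    exact one_ne_zero (neg_eq_zero.mp this)
  -- the permutation is a word in the reflections in `p₂` and `p₃`
  obtain ⟨w, hw, hws⟩ := stab_word_list cert12_F4 [47, 44]
    (by
      intro g' π' hg' hπ' hfix' i hi hneg r hr
      simp only [List.mem_cons, List.mem_nil_iff, or_false] at hr
      rcases hr with rfl | rfl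
      · exact fix_of_neg_dominant cert12_F4 47 (by rw [hn]; omega) (fun s => (fun _ => true) s = true) cdF4l.hnJ
          cdF4l.hcr cdF4l.hcsw cdF4l.hmax g' π' hg' hπ' (hfix' 47 (by simp)) i hi hneg
      · exact fix_of_neg_dominant cert12_F4 44 (by rw [hn]; omega) (fun s => shortF4 s = true) cdF4s.hnJ
          cdF4s.hcr cdF4s.hcsw cdF4s.hmax g' π' hg' hπ' (hfix' 44 (by simp)) i hi hneg)
    _ (h * n) π hm hπ
    (by
      intro r hr
      simp only [List.mem_cons, List.mem_nil_iff, or_false] at hr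
      rcases hr with rfl | rfl
      · exact hfix47
      · exact hfix44) rfl
  have hwd : IsWd fdF4.l w := fun i hi => (hw i hi).1
  have hwT : ∀ w : List ℕ, (∀ i ∈ w, i < fdF4.l ∧ ∀ r ∈ [47, 44], fdF4.sw fxF4 i r = r) →
      cert12_F4.wordN F w ∈ T ∧ Commute (cert12_F4.wordN F w) (fX 47 (1 : F) * fX 44 1) := by
    intro w
    induction w with
    | nil => intro _; exact ⟨one_mem _, Commute.one_left _⟩
    | cons i w ih =>
      intro hw
      obtain ⟨hi, hJ⟩ := hw i List.mem_cons_self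
      obtain ⟨ih1, ih2⟩ := ih (fun j hj => hw j (List.mem_cons_of_mem _ hj))
      have hp := cert12_F4.c6.c2.simple_lt i hi
      simp only [Cert12.wordN, dif_pos hi]
      rw [cert12_F4.c6.c2.nG_eq_xA' _ hp]
      rcases zs1 i hi (hJ 47 (by simp)) (hJ 44 (by simp)) with rfl | rfl
      · simp only [zs2, hn]
        have a1 : fX 27 (1 : F) ∈ T := hU (cert12_F4.xA_mem_posU 27 (by rw [hn]; omega) (by rw [hn]; omega) _)
        have a2 := hT 20 (by simp) (-1 : F)
        have c1 := hUz _ (cert12_F4.xA_mem_posU 27 (by rw [hn]; omega) (by rw [hn]; omega) (1 : F))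
        have c2 := hLz 20 (by simp) (-1 : F)
        exact ⟨mul_mem (mul_mem (mul_mem a1 a2) a1) ih1, (((c1.mul_left c2).mul_left c1).mul_left ih2)⟩
      · simp only [zs3, hn]
        have a1 : fX 25 (1 : F) ∈ T := hU (cert12_F4.xA_mem_posU 25 (by rw [hn]; omega) (by rw [hn]; omega) _)
        have a2 := hT 22 (by simp) (-1 : F)
        have c1 := hUz _ (cert12_F4.xA_mem_posU 25 (by rw [hn]; omega) (by rw [hn]; omega) (1 : F))
        have c2 := hLz 22 (by simp) (-1 : F)
        exact ⟨mul_mem (mul_mem (mul_mem a1 a2) a1) ih1, (((c1.mul_left c2).mul_left c1).mul_left ih2)⟩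
  obtain ⟨hwT1, hwT2⟩ := hwT w hw
  have hd := cert12_F4.mul_inv_mem_diag' (h * n) (cert12_F4.wordN F w) hm (cert12_F4.wordN_mem w) π _ hπ
    (cert12_F4.perm_wordN w hwd) hws
  -- the diagonal part commutes with `z`
  have hdc : Commute (h * n * (cert12_F4.wordN F w)⁻¹) (fX 47 (1 : F) * fX 44 1) := hmc.mul_left hwT2.inv_left
  set d := h * n * (cert12_F4.wordN F w)⁻¹ with hddef
  have e47 : d * fX 47 (1 : F) * d⁻¹ = fX 47 (dE chevF4 d 47 * 1) :=
    cert12_F4.diag_conj_xA d hd 47 (by rw [hn]; omega) (1 : F)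
  have e44 : d * fX 44 (1 : F) * d⁻¹ = fX 44 (dE chevF4 d 44 * 1) :=
    cert12_F4.diag_conj_xA d hd 44 (by rw [hn]; omega) (1 : F)
  rw [mul_one] at e47 e44
  have hdz : fX 47 (dE chevF4 d 47) * fX 44 (dE chevF4 d 44) = fX 47 (1 : F) * fX 44 1 := by
    rw [← e47, ← e44]
    have e : d * fX 47 (1 : F) * d⁻¹ * (d * fX 44 1 * d⁻¹) = d * (fX 47 (1 : F) * fX 44 1) * d⁻¹ := by group
    rw [e, hdc.eq]; group
  have hc4447 : ∀ a b : F, Commute (fX 44 a) (fX 47 b) := fun a b =>
    comm2_comm 44 47 (by omega) (by omega) (f4_central_tbl 44 (by omega) (by omega)).1 a b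
  have hzero := cert12_F4.list_prod_eq_one [(47, dE chevF4 d 47 - 1), (44, dE chevF4 d 44 - 1)]
    (by intro p hp; simp only [List.mem_cons, List.mem_nil_iff, or_false] at hp; rcases hp with rfl | rfl <;> simp [hn])
    (by simp)
    (by
      simp only [List.map_cons, List.map_nil, List.prod_cons, List.prod_nil, mul_one]
      show fX 47 (dE chevF4 d 47 - 1) * fX 44 (dE chevF4 d 44 - 1) = 1
      have s1 : fX 47 (dE chevF4 d 47 - 1) = fX 47 (dE chevF4 d 47) * fX 47 (-1) := by
        rw [cert12_F4.c6.c2.xA_mul, sub_eq_add_neg]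
      have s2 : fX 44 (dE chevF4 d 44 - 1) = fX 44 (dE chevF4 d 44) * fX 44 (-1) := by
        rw [cert12_F4.c6.c2.xA_mul, sub_eq_add_neg]
      have k2 : fX 44 (1 : F) * fX 44 (-1) = 1 := by
        rw [cert12_F4.c6.c2.xA_mul, add_neg_cancel, cert12_F4.c6.c2.xA_zero]
      have k3 : fX 47 (1 : F) * fX 47 (-1) = 1 := by
        rw [cert12_F4.c6.c2.xA_mul, add_neg_cancel, cert12_F4.c6.c2.xA_zero]
      calc fX 47 (dE chevF4 d 47 - 1) * fX 44 (dE chevF4 d 44 - 1)
          = fX 47 (dE chevF4 d 47) * fX 47 (-1) * (fX 44 (dE chevF4 d 44) * fX 44 (-1)) := by rw [s1, s2]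
        _ = fX 47 (dE chevF4 d 47) * (fX 47 (-1) * fX 44 (dE chevF4 d 44)) * fX 44 (-1) := by group
        _ = fX 47 (dE chevF4 d 47) * (fX 44 (dE chevF4 d 44) * fX 47 (-1)) * fX 44 (-1) := by
          rw [← (hc4447 (dE chevF4 d 44) (-1 : F)).eq]
        _ = (fX 47 (dE chevF4 d 47) * fX 44 (dE chevF4 d 44)) * fX 47 (-1) * fX 44 (-1) := by group
        _ = fX 47 (1 : F) * fX 44 1 * fX 47 (-1) * fX 44 (-1) := by rw [hdz]
        _ = fX 47 (1 : F) * (fX 44 1 * fX 47 (-1)) * fX 44 (-1) := by group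
        _ = fX 47 (1 : F) * (fX 47 (-1) * fX 44 1) * fX 44 (-1) := by rw [(hc4447 (1 : F) (-1)).eq]
        _ = (fX 47 (1 : F) * fX 47 (-1)) * (fX 44 1 * fX 44 (-1)) := by group
        _ = 1 := by rw [k3, k2, mul_one])
  have hχ47 : dE chevF4 d 47 = 1 := by
    have := hzero (47, dE chevF4 d 47 - 1) (by simp)
    exact sub_eq_zero.mp this
  have hχ44 : dE chevF4 d 44 = 1 := by
    have := hzero (44, dE chevF4 d 44 - 1) (by simp)
    exact sub_eq_zero.mp this
  -- so the diagonal part lies in `T`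
  have hdT : d ∈ T := by
    rw [cert12_F4.diag_eq_range] at hd
    obtain ⟨x, hx⟩ := hd
    rw [← hx] at hχ47 hχ44 ⊢
    rw [cert12_F4.dE_chiHom x 47 (by rw [hn]; omega)] at hχ47
    rw [cert12_F4.dE_chiHom x 44 (by rw [hn]; omega)] at hχ44
    have h3l : 3 < fdF4.l := by rw [hl]; omega
    have h0l : 0 < fdF4.l := by rw [hl]; omega
    have hx3 : x ⟨3, h3l⟩ = 1 := by
      rw [Finset.prod_eq_single ⟨3, h3l⟩] at hχ47
      · have hc3 : fdF4.carZ (⟨3, h3l⟩ : Fin fdF4.l).val 47 = 1 := by rw [cdF4l.hcar 3 h3l, if_pos rfl]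
        rw [hc3, zpow_one] at hχ47
        exact Units.ext hχ47
      · intro j _ hj
        have : j.val ≠ 3 := fun e => hj (Fin.ext e)
        rw [cdF4l.hcar j.val j.isLt, if_neg this, zpow_zero]
      · intro h; exact absurd (Finset.mem_univ _) h
    have hx0 : x ⟨0, h0l⟩ = 1 := by
      rw [Finset.prod_eq_single ⟨0, h0l⟩] at hχ44
      · have hc0 : fdF4.carZ (⟨0, h0l⟩ : Fin fdF4.l).val 44 = 1 := by rw [cdF4s.hcar 0 h0l, if_pos rfl]
        rw [hc0, zpow_one] at hχ44
        exact Units.ext hχ44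
      · intro j _ hj
        have : j.val ≠ 0 := fun e => hj (Fin.ext e)
        rw [cdF4s.hcar j.val j.isLt, if_neg this, zpow_zero]
      · intro h; exact absurd (Finset.mem_univ _) h
    have key : x ∈ T.comap (chiHom chevF4 fdF4 F) := by
      rw [← Finset.univ_prod_mulSingle x]
      apply Subgroup.prod_mem
      intro i _
      rw [Subgroup.mem_comap]
      by_cases hi0 : i.val = 0
      · have : i = ⟨0, h0l⟩ := Fin.ext hi0
        rw [this, hx0, Pi.mulSingle_one, map_one]
        exact one_mem _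
      · by_cases hi3 : i.val = 3
        · have : i = ⟨3, h3l⟩ := Fin.ext hi3
          rw [this, hx3, Pi.mulSingle_one, map_one]
          exact one_mem _
        · have hp := cert12_F4.c6.c2.simple_lt i.val i.isLt
          have hpp := cert12_F4.c6.simple_pos i.val i.isLt
          have hi12 : i.val = 1 ∨ i.val = 2 := by have := i.isLt; omega
          apply cert12_F4.chi_single_mem T i (fun c => hU (cert12_F4.xA_mem_posU _ hp hpp c))
          intro c
          rcases hi12 with h1 | h1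
          · rw [h1, zs2, hn]; exact hT 20 (by simp) c
          · rw [h1, zs3, hn]; exact hT 22 (by simp) c
    exact key
  have e : u₀ * h * n * u = u₀ * (d * cert12_F4.wordN F w) * u := by rw [hddef]; group
  rw [e]
  exact mul_mem (mul_mem (hU hu₀) (mul_mem hdT hwT1)) (hU huU)

end F4

end Cfsg.Agent.Lib.H12.F4V
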