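import Mathlib
import Cfsg.Prelude.Def_ChevStructure
import Cfsg.Agent.Lib.H12.F4CentV2

/-!
# Unique factorisation of products of commuting positive root elements
-/

set_option autoImplicit false
set_option linter.unusedSectionVars false
set_option linter.unusedSimpArgs false
set_option linter.unusedVariables false

namespace Cfsg.Agent.Lib.H12.F4V

open Cfsg.Lie Matrix Cfsg.Agent.Lib.H29.Chev

variable {D : ChevalleyDatum} {fd : FD} {fx : FX} {fc : FC} {fz : FZ} {F : Type*} [Field F]

section Gen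

variable (C : Cert12 D fd fx fc fz)

open Classical in
/-- pulling a factor out of a product of commuting root elements -/
theorem lp_erase (L : List (ℕ × F)) (hc : PComm C L) (p : ℕ × F) (hp : p ∈ L) :
    lp C L = C.c6.c2.xA p.1 p.2 * lp C (L.erase p) := by
  induction L with
  | nil => exact absurd hp List.not_mem_nil
  | cons q L ih =>
    have hc' : PComm C L := fun a ha b hb => hc a (List.mem_cons_of_mem _ ha) b (List.mem_cons_of_mem _ hb)
    by_cases hqp : q = p
    · subst hqp
      rw [List.erase_cons_head, lp_cons]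
    · have hp' : p ∈ L := by
        rcases List.mem_cons.mp hp with h | h
        · exact absurd h.symm hqp
        · exact h
      rw [List.erase_cons_tail (by simpa using hqp), lp_cons, lp_cons, ih hc' hp', ← mul_assoc, ← mul_assoc,
        (hc q List.mem_cons_self p hp _ _).eq]

theorem pcomm_sublist {L L' : List (ℕ × F)} (h : ∀ p ∈ L', p ∈ L) (hc : PComm C L) : PComm C L' :=
  fun a ha b hb => hc a (h a ha) b (h b hb)

/-- the factors of a product in the level `k` -/
theorem lp_GF (L : List (ℕ × F)) (hL : ∀ p ∈ L, p.1 < fd.n) (k : ℤ) (hk : 0 < k)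
    (h : ∀ p ∈ L, p.2 ≠ 0 → k ≤ fd.ht fx p.1) :
    ∀ x ∈ L.map (fun p => C.c6.c2.xA p.1 p.2),
      ((x : GL D.Idx F) : Matrix D.Idx D.Idx F) ∈ GF D F (fd.wtA fx D hwt) k := by
  intro x hx
  obtain ⟨q, hq, rfl⟩ := List.mem_map.mp hx
  by_cases h0 : q.2 = 0
  · rw [h0, C.c6.c2.xA_zero, Units.val_one]
    exact GF_one _ _
  · exact C.xA_mem_GF q.1 (hL q hq) k hk (h q hq h0) _

/-- the coordinate of a product at a root of the lowest level -/
theorem coord_lp (L : List (ℕ × F)) (hL : ∀ p ∈ L, p.1 < fd.n) (k : ℤ) (hk : 0 < k)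
    (h : ∀ p ∈ L, p.2 ≠ 0 → k ≤ fd.ht fx p.1) (r : ℕ) (hr : r < fd.n) (hrk : fd.ht fx r = k) :
    coordM D fd fz F r ((lp C L : GL D.Idx F) : Matrix D.Idx D.Idx F) =
      (L.map fun x => if x.1 = r then x.2 else 0).sum := by
  have h1 := (C.coord_list_prod k hk r hr hrk _ (lp_GF C L hL k hk h)).2
  rw [h1, List.map_map]
  congr 1
  apply List.map_congr_left
  intro q hq
  simp only [Function.comp]
  exact C.coordM_xA q.1 r (hL q hq) hr _

open Classical in
/-- unique factorisation: two products of commuting root elements of distinct positive roots coincide only if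
their non-trivial factors are the same -/
theorem lp_unique : ∀ (N : ℕ) (L L' : List (ℕ × F)), L.length = N →
    (∀ p ∈ L, p.1 < fd.n ∧ (p.2 ≠ 0 → fd.n / 2 ≤ p.1)) → (∀ p ∈ L', p.1 < fd.n ∧ (p.2 ≠ 0 → fd.n / 2 ≤ p.1)) →
    (L.map Prod.fst).Nodup → (L'.map Prod.fst).Nodup → PComm C L → PComm C L' → lp C L = lp C L' →
    ∀ p ∈ L, p.2 ≠ 0 → p ∈ L' := by
  intro N
  induction N using Nat.strong_induction_on with
  | _ N ih =>
    intro L L' hlen hL hL' hnd hnd' hc hc' heq
    by_cases hall : ∀ p ∈ L, p.2 = 0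
    · intro p hp hne
      exact absurd (hall p hp) hne
    · push Not at hall
      obtain ⟨p₁, hp₁, hp₁ne⟩ := hall
      -- an entry of minimal height
      have hne : (L.toFinset.filter fun p => p.2 ≠ 0).Nonempty :=
        ⟨p₁, Finset.mem_filter.mpr ⟨List.mem_toFinset.mpr hp₁, hp₁ne⟩⟩
      obtain ⟨p₀, hp₀, hmin⟩ := Finset.exists_min_image _ (fun p : ℕ × F => fd.ht fx p.1) hne
      rw [Finset.mem_filter, List.mem_toFinset] at hp₀
      obtain ⟨hp₀L, hp₀ne⟩ := hp₀
      have hmin' : ∀ p ∈ L, p.2 ≠ 0 → fd.ht fx p₀.1 ≤ fd.ht fx p.1 := fun p hp hne =>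
        hmin p (Finset.mem_filter.mpr ⟨List.mem_toFinset.mpr hp, hne⟩)
      have hk := C.ht_pos p₀.1 (hL p₀ hp₀L).1 ((hL p₀ hp₀L).2 hp₀ne)
      have hL1 : ∀ p ∈ L, p.1 < fd.n := fun p hp => (hL p hp).1
      have hL1' : ∀ p ∈ L', p.1 < fd.n := fun p hp => (hL' p hp).1
      -- the product lies in the level of `p₀`
      have hGF : ((lp C L : GL D.Idx F) : Matrix D.Idx D.Idx F) ∈ GF D F (fd.wtA fx D hwt) (fd.ht fx p₀.1) :=
        (C.coord_list_prod _ hk p₀.1 (hL1 p₀ hp₀L) rfl _ (lp_GF C L hL1 _ hk hmin')).1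
      have hmin'' : ∀ p ∈ L', p.2 ≠ 0 → fd.ht fx p₀.1 ≤ fd.ht fx p.1 := by
        intro p hp hne
        have := C.list_prod_GF_zero' L' (fun q hq h0 => ⟨(hL' q hq).1, (hL' q hq).2 h0⟩) hnd' _ (by have h := hGF; rw [heq] at h; exact h) p hp hne
        omega
      have e1 := coord_lp C L hL1 _ hk hmin' p₀.1 (hL1 p₀ hp₀L) rfl
      have e2 := coord_lp C L' hL1' _ hk hmin'' p₀.1 (hL1 p₀ hp₀L) rfl
      rw [heq, e2, sum_ite_fst_nodup L hnd p₀ hp₀L] at e1
      -- `p₀` occurs in `L'`
      have hp₀L' : p₀ ∈ L' := by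
        by_cases hex : ∃ q ∈ L', q.1 = p₀.1
        · obtain ⟨q, hq, hq1⟩ := hex
          have := sum_ite_fst_nodup L' hnd' q hq
          rw [hq1, e1] at this
          have : q = p₀ := Prod.ext hq1 this.symm
          rw [← this]; exact hq
        · push Not at hex
          have : (L'.map fun x => if x.1 = p₀.1 then x.2 else 0).sum = 0 := by
            apply List.sum_eq_zero
            intro y hy
            obtain ⟨x, hx, rfl⟩ := List.mem_map.mp hy
            rw [if_neg (hex x hx)]
          rw [this] at e1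
          exact absurd e1.symm hp₀ne
      -- remove it
      have heq' : lp C (L.erase p₀) = lp C (L'.erase p₀) := by
        have a1 := lp_erase C L hc p₀ hp₀L
        have a2 := lp_erase C L' hc' p₀ hp₀L'
        rw [a1, a2] at heq
        exact mul_left_cancel heq
      have hsub : ∀ p ∈ L.erase p₀, p ∈ L := fun p hp => List.mem_of_mem_erase hp
      have hsub' : ∀ p ∈ L'.erase p₀, p ∈ L' := fun p hp => List.mem_of_mem_erase hp
      have hlen' : (L.erase p₀).length < N := by
        rw [List.length_erase_of_mem hp₀L, hlen]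
        have : 0 < L.length := List.length_pos_of_mem hp₀L
        omega
      have hndE : ((L.erase p₀).map Prod.fst).Nodup :=
        hnd.sublist ((List.erase_sublist).map _)
      have hndE' : ((L'.erase p₀).map Prod.fst).Nodup :=
        hnd'.sublist ((List.erase_sublist).map _)
      have key := ih _ hlen' (L.erase p₀) (L'.erase p₀) rfl (fun p hp => hL p (hsub p hp))
        (fun p hp => hL' p (hsub' p hp)) hndE hndE' (pcomm_sublist C hsub hc) (pcomm_sublist C hsub' hc') heq'
      intro p hp hne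
      by_cases hpp : p = p₀
      · rw [hpp]; exact hp₀L'
      · have : p ∈ L.erase p₀ := (List.mem_erase_of_ne hpp).mpr hp
        exact hsub' p (key p this hne)

end Gen

end Cfsg.Agent.Lib.H12.F4V
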