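import Mathlib
import Cfsg.Prelude.Def_ChevStructure
import Cfsg.Agent.Lib.H12.F4CentV3
import Cfsg.Agent.Lib.H12.F4CentV4

/-!
# `F₄` in characteristic two: the conjugates of `v = x_39(1) x_45(1)` under `U`

They lie in the coset `v R`, where `R = X_40 X_44 X_46 X_47` is an abelian subgroup normalised by `U`,
`X_{-p₁}` and `X_{-p₄}`.
-/

set_option autoImplicit false
set_option linter.unusedSectionVars false
set_option linter.unusedSimpArgs false
set_option linter.unusedVariables false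
set_option maxRecDepth 4000

namespace Cfsg.Agent.Lib.H12.F4V

open Cfsg.Lie Matrix Cfsg.Agent.Lib.H29.Chev

/-- the roots of the elements of `v R` -/
def vA : List ℕ := [39, 45, 40, 44, 46, 47]

/-- the roots of `R` -/
def vR : List ℕ := [40, 44, 46, 47]

set_option maxRecDepth 100000 in
theorem f4_v_tbl : ∀ s < 48, (24 ≤ s ∨ s = 14 ∨ s = 23) → ∀ r ∈ vA, s ≠ r →
    r ≠ 47 - s ∧ ∀ c ∈ fdF4.commT s r, c.2.1 % 2 = 0 ∨ c.1 ∈ vR := by
  decide +kernel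

set_option maxRecDepth 100000 in
theorem f4_vA_comm : ∀ a ∈ vA, ∀ b ∈ vA, a < 48 ∧ b < 48 ∧ comm2 a b = true := by
  decide +kernel

section F4

variable {F : Type*} [Field F] [CharP F 2]

/-- the subgroup `R = X_40 X_44 X_46 X_47` -/
def Rsub (F : Type*) [Field F] : Subgroup (GL chevF4.Idx F) :=
  Subgroup.closure {g | ∃ r ∈ vR, ∃ t : F, g = fX r t}

theorem fX_mem_Rsub (r : ℕ) (hr : r ∈ vR) (t : F) : fX r t ∈ Rsub F :=
  Subgroup.subset_closure ⟨r, hr, t, rfl⟩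

/-- conjugating a root element of `v R` by a root element of `U`, `X_{-p₁}` or `X_{-p₄}` -/
theorem conj_gen_root (s : ℕ) (hs : s < 48) (hG : 24 ≤ s ∨ s = 14 ∨ s = 23) (r : ℕ) (hr : r ∈ vA) (e u : F) :
    ∃ ρ ∈ Rsub F, (fX s e)⁻¹ * fX r u * fX s e = fX r u * ρ := by
  have hn := f4_n
  have hr48 : r < 48 := (f4_vA_comm r hr r hr).1
  by_cases hsr : s = r
  · subst hsr
    exact ⟨1, one_mem _, by rw [cert12_F4.conj_inv_xA_same, mul_one]⟩
  · obtain ⟨h1, h2⟩ := f4_v_tbl s hs hG r hr hsr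
    refine ⟨cert12_F4.c6.c2.ctG (fdF4.commT s r) e u, ?_, ?_⟩
    · unfold Cert2.ctG
      apply Subgroup.list_prod_mem
      intro x hx
      obtain ⟨c, hc, rfl⟩ := List.mem_map.mp hx
      rcases h2 c hc with hev | hR
      · have hdvd : (2 : ℤ) ∣ c.2.1 := Int.dvd_of_emod_eq_zero hev
        obtain ⟨k, hk⟩ := hdvd
        rw [hk, Int.cast_mul, two_eq_zero', zero_mul, zero_mul, zero_mul, cert12_F4.c6.c2.xA_zero]
        exact one_mem _
      · exact fX_mem_Rsub c.1 hR _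
    · exact cert12_F4.conj_inv_xA s r (by rw [hn]; exact hs) (by rw [hn]; exact hr48) (Ne.symm hsr)
        (by rw [hn]; omega) e u

theorem vR_sub_vA : ∀ r ∈ vR, r ∈ vA := by decide

/-- `R` is normalised by these root elements -/
theorem conj_gen_Rsub (s : ℕ) (hs : s < 48) (hG : 24 ≤ s ∨ s = 14 ∨ s = 23) (e : F) (ρ : GL chevF4.Idx F)
    (hρ : ρ ∈ Rsub F) : (fX s e)⁻¹ * ρ * fX s e ∈ Rsub F := by
  unfold Rsub at hρ
  induction hρ using Subgroup.closure_induction with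
  | mem x hx =>
    obtain ⟨r, hr, t, rfl⟩ := hx
    obtain ⟨ρ', hρ', e'⟩ := conj_gen_root s hs hG r (vR_sub_vA r hr) e t
    rw [e']
    exact mul_mem (fX_mem_Rsub r hr t) hρ'
  | one => simp only [mul_one, inv_mul_cancel]; exact one_mem _
  | mul x y _ _ hx hy =>
    have : (fX s e)⁻¹ * (x * y) * fX s e = ((fX s e)⁻¹ * x * fX s e) * ((fX s e)⁻¹ * y * fX s e) := by group
    rw [this]; exact mul_mem hx hy
  | inv x _ hx =>
    have : (fX s e)⁻¹ * x⁻¹ * fX s e = ((fX s e)⁻¹ * x * fX s e)⁻¹ := by group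
    rw [this]; exact inv_mem hx

/-- the conjugate of `v` by such a root element lies in `v R` -/
theorem conj_gen_v (s : ℕ) (hs : s < 48) (hG : 24 ≤ s ∨ s = 14 ∨ s = 23) (e : F) :
    ∃ ρ ∈ Rsub F, (fX s e)⁻¹ * (fX 39 (1 : F) * fX 45 1) * fX s e = fX 39 (1 : F) * fX 45 1 * ρ := by
  obtain ⟨ρ₁, hρ₁, e₁⟩ := conj_gen_root s hs hG 39 (by decide) e (1 : F)
  obtain ⟨ρ₂, hρ₂, e₂⟩ := conj_gen_root s hs hG 45 (by decide) e (1 : F)
  refine ⟨(fX 45 (1 : F))⁻¹ * ρ₁ * fX 45 1 * ρ₂,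
    mul_mem (conj_gen_Rsub 45 (by omega) (Or.inl (by omega)) 1 ρ₁ hρ₁) hρ₂, ?_⟩
  have : (fX s e)⁻¹ * (fX 39 (1 : F) * fX 45 1) * fX s e =
      ((fX s e)⁻¹ * fX 39 (1 : F) * fX s e) * ((fX s e)⁻¹ * fX 45 1 * fX s e) := by group
  rw [this, e₁, e₂]
  group

/-- the property of an element `g`: it normalises `R` and conjugates `v` into `v R` -/
def NormV (g : GL chevF4.Idx F) : Prop :=
  (∀ ρ ∈ Rsub F, g⁻¹ * ρ * g ∈ Rsub F) ∧ ∃ ρ ∈ Rsub F, g⁻¹ * (fX 39 (1 : F) * fX 45 1) * g = fX 39 (1 : F) * fX 45 1 * ρ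

theorem normV_one : NormV (1 : GL chevF4.Idx F) :=
  ⟨fun ρ hρ => by simpa using hρ, 1, one_mem _, by group⟩

theorem normV_gen (s : ℕ) (hs : s < 48) (hG : 24 ≤ s ∨ s = 14 ∨ s = 23) (e : F) : NormV (fX s e) :=
  ⟨fun ρ hρ => conj_gen_Rsub s hs hG e ρ hρ, conj_gen_v s hs hG e⟩

theorem normV_mul (g g' : GL chevF4.Idx F) (h : NormV g) (h' : NormV g') : NormV (g * g') := by
  obtain ⟨h1, ρ, hρ, e⟩ := h
  obtain ⟨h1', ρ', hρ', e'⟩ := h'
  refine ⟨fun x hx => ?_, ρ' * (g'⁻¹ * ρ * g'), ?_, ?_⟩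
  · have : (g * g')⁻¹ * x * (g * g') = g'⁻¹ * (g⁻¹ * x * g) * g' := by group
    rw [this]; exact h1' _ (h1 x hx)
  · exact mul_mem hρ' (h1' ρ hρ)
  · have : (g * g')⁻¹ * (fX 39 (1 : F) * fX 45 1) * (g * g') =
        g'⁻¹ * (g⁻¹ * (fX 39 (1 : F) * fX 45 1) * g) * g' := by group
    rw [this, e]
    have : g'⁻¹ * (fX 39 (1 : F) * fX 45 1 * ρ) * g' =
        (g'⁻¹ * (fX 39 (1 : F) * fX 45 1) * g') * (g'⁻¹ * ρ * g') := by group
    rw [this, e']
    group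

/-- the elements of `U` normalise `R` and conjugate `v` into `v R` -/
theorem normV_pos (u : GL chevF4.Idx F) (hu : u ∈ chevF4.posUnipotent F) : NormV u := by
  have hn := f4_n
  have gen : ∀ x ∈ {g : GL chevF4.Idx F | ∃ (r : ℕ) (t : F), chevF4.IsPosRoot r ∧
      (g : Matrix chevF4.Idx chevF4.Idx F) = chevF4.x F r t}, ∃ s c, 24 ≤ s ∧ s < 48 ∧ x = fX s c := by
    rintro x ⟨r, t, hr, hx⟩
    obtain ⟨h1, h2⟩ := (cert12_F4.c6.isPos_iff r).mp hr
    exact ⟨r, t, by omega, by omega, gl_ext (by rw [hx, cert12_F4.c6.c2.xA_val])⟩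
  unfold ChevalleyDatum.posUnipotent at hu
  induction hu using Subgroup.closure_induction_left with
  | one => exact normV_one
  | mul_left x hx y _ ih =>
    obtain ⟨s, c, hs1, hs2, rfl⟩ := gen x hx
    exact normV_mul _ _ (normV_gen s hs2 (Or.inl hs1) c) ih
  | inv_mul_cancel x hx y _ ih =>
    obtain ⟨s, c, hs1, hs2, rfl⟩ := gen x hx
    rw [cert12_F4.c6.c2.xA_inv]
    exact normV_mul _ _ (normV_gen s hs2 (Or.inl hs1) (-c)) ih

end F4

end Cfsg.Agent.Lib.H12.F4V
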