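import Mathlib
import Cfsg.Prelude.Def_ChevStructure
import Cfsg.Agent.Lib.H12.F4CentV5

/-!
# `F₄` in characteristic two: the elements of `v R` in coordinates, and the permutation of an element of the
monomial group mapping an element of `v R` to another one
-/

set_option autoImplicit false
set_option linter.unusedSectionVars false
set_option linter.unusedSimpArgs false
set_option linter.unusedVariables false
set_option maxRecDepth 4000

namespace Cfsg.Agent.Lib.H12.F4V

open Cfsg.Lie Matrix Cfsg.Agent.Lib.H29.Chev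

section Gen

variable {D : ChevalleyDatum} {fd : FD} {fx : FX} {fc : FC} {fz : FZ} {F : Type*} [Field F]
variable (C : Cert12 D fd fx fc fz)

/-- multiplying two products of commuting root elements over the same list of roots -/
theorem lp_map_add (rs : List ℕ) (f g : ℕ → F)
    (hc : ∀ a ∈ rs, ∀ b ∈ rs, ∀ t u : F, Commute (C.c6.c2.xA a t) (C.c6.c2.xA b u)) :
    lp C (rs.map fun r => (r, f r)) * lp C (rs.map fun r => (r, g r)) = lp C (rs.map fun r => (r, f r + g r)) := by
  induction rs with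
  | nil => simp [lp]
  | cons r rs ih =>
    have hc' : ∀ a ∈ rs, ∀ b ∈ rs, ∀ t u : F, Commute (C.c6.c2.xA a t) (C.c6.c2.xA b u) :=
      fun a ha b hb => hc a (List.mem_cons_of_mem _ ha) b (List.mem_cons_of_mem _ hb)
    rw [List.map_cons, List.map_cons, List.map_cons, lp_cons, lp_cons, lp_cons, ← ih hc', ← C.c6.c2.xA_mul]
    have hcm : Commute (lp C (rs.map fun r => (r, f r))) (C.c6.c2.xA r (g r)) := by
      apply Commute.symm
      apply commute_lp
      intro q hq
      obtain ⟨q', hq', rfl⟩ := List.mem_map.mp hq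
      exact hc r List.mem_cons_self q' (List.mem_cons_of_mem _ hq') _ _
    simp only
    calc C.c6.c2.xA r (f r) * lp C (rs.map fun r => (r, f r)) * (C.c6.c2.xA r (g r) * lp C (rs.map fun r => (r, g r)))
        = C.c6.c2.xA r (f r) * (lp C (rs.map fun r => (r, f r)) * C.c6.c2.xA r (g r)) *
            lp C (rs.map fun r => (r, g r)) := by group
      _ = C.c6.c2.xA r (f r) * (C.c6.c2.xA r (g r) * lp C (rs.map fun r => (r, f r))) *
            lp C (rs.map fun r => (r, g r)) := by rw [hcm.eq]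
      _ = _ := by group

end Gen

section F4

variable {F : Type*} [Field F] [CharP F 2]

/-- the coordinates on `R` -/
def cf4 (a b c d : F) (r : ℕ) : F :=
  if r = 40 then a else if r = 44 then b else if r = 46 then c else if r = 47 then d else 0

/-- the elements of `R` -/
noncomputable def rE (a b c d : F) : GL chevF4.Idx F := lp cert12_F4 [(40, a), (44, b), (46, c), (47, d)]

theorem rE_eq (a b c d : F) : rE a b c d = lp cert12_F4 (vR.map fun r => (r, cf4 a b c d r)) := by
  simp [rE, vR, cf4]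

theorem vR_comm : ∀ a ∈ vR, ∀ b ∈ vR, ∀ t u : F, Commute (fX a t) (fX b u) := by
  intro a ha b hb t u
  obtain ⟨h1, h2, h3⟩ := f4_vA_comm a (vR_sub_vA a ha) b (vR_sub_vA b hb)
  exact comm2_comm a b h1 h2 h3 t u

theorem rE_mul (a b c d a' b' c' d' : F) :
    rE a b c d * rE a' b' c' d' = rE (a + a') (b + b') (c + c') (d + d') := by
  rw [rE_eq, rE_eq, rE_eq, lp_map_add cert12_F4 vR _ _ vR_comm]
  simp [vR, cf4]

theorem rE_zero : rE (0 : F) 0 0 0 = 1 := by
  simp [rE, lp, cert12_F4.c6.c2.xA_zero]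

theorem rE_inv (a b c d : F) : (rE a b c d)⁻¹ = rE (-a) (-b) (-c) (-d) := by
  apply inv_eq_of_mul_eq_one_right
  rw [rE_mul]
  simp [rE_zero]

/-- the elements of `R` in coordinates -/
theorem Rsub_eq (ρ : GL chevF4.Idx F) (hρ : ρ ∈ Rsub F) : ∃ a b c d : F, ρ = rE a b c d := by
  unfold Rsub at hρ
  induction hρ using Subgroup.closure_induction with
  | mem x hx =>
    obtain ⟨r, hr, t, rfl⟩ := hx
    simp only [vR, List.mem_cons, List.mem_nil_iff, or_false] at hr
    rcases hr with rfl | rfl | rfl | rfl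
    · exact ⟨t, 0, 0, 0, by simp [rE, lp, cert12_F4.c6.c2.xA_zero]⟩
    · exact ⟨0, t, 0, 0, by simp [rE, lp, cert12_F4.c6.c2.xA_zero]⟩
    · exact ⟨0, 0, t, 0, by simp [rE, lp, cert12_F4.c6.c2.xA_zero]⟩
    · exact ⟨0, 0, 0, t, by simp [rE, lp, cert12_F4.c6.c2.xA_zero]⟩
  | one => exact ⟨0, 0, 0, 0, rE_zero.symm⟩
  | mul x y _ _ hx hy =>
    obtain ⟨a, b, c, d, rfl⟩ := hx
    obtain ⟨a', b', c', d', rfl⟩ := hy
    exact ⟨_, _, _, _, rE_mul a b c d a' b' c' d'⟩
  | inv x _ hx =>
    obtain ⟨a, b, c, d, rfl⟩ := hx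
    exact ⟨_, _, _, _, rE_inv a b c d⟩

/-- the elements of `v R` -/
noncomputable def vE (a b c d : F) : GL chevF4.Idx F :=
  lp cert12_F4 [(39, 1), (45, 1), (40, a), (44, b), (46, c), (47, d)]

theorem vE_eq (a b c d : F) : vE a b c d = fX 39 (1 : F) * fX 45 1 * rE a b c d := by
  simp [vE, rE, lp, mul_assoc]

/-- the conjugates of `v` under `U` -/
theorem conj_pos_v (u : GL chevF4.Idx F) (hu : u ∈ chevF4.posUnipotent F) :
    ∃ a b c d : F, u⁻¹ * (fX 39 (1 : F) * fX 45 1) * u = vE a b c d := by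
  obtain ⟨_, ρ, hρ, e⟩ := normV_pos u hu
  obtain ⟨a, b, c, d, rfl⟩ := Rsub_eq ρ hρ
  exact ⟨a, b, c, d, by rw [e, vE_eq]⟩

end F4

end Cfsg.Agent.Lib.H12.F4V
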