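import Mathlib
import Cfsg.Prelude.Def_ChevStructure
import Cfsg.Agent.Lib.H12.F4CentV6

/-!
# `F₄`: the invariant form on the roots, the stabiliser of the roots `39` and `45` in the Weyl group, and the
permutation of a monomial element mapping an element of `v R` to another one
-/

set_option autoImplicit false
set_option linter.unusedSectionVars false
set_option linter.unusedSimpArgs false
set_option linter.unusedVariables false
set_option maxRecDepth 4000

namespace Cfsg.Agent.Lib.H12.F4V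

open Cfsg.Lie Matrix Cfsg.Agent.Lib.H29.Chev

/-- the Gram matrix of the fundamental roots of `F₄` (`p₁`, `p₂` short of norm `2`, `p₃`, `p₄` long of norm `4`) -/
def gramF4 (i j : ℕ) : ℤ :=
  match i, j with
  | 0, 0 => 2 | 0, 1 => -1 | 1, 0 => -1 | 1, 1 => 2 | 1, 2 => -2 | 2, 1 => -2 | 2, 2 => 4 | 2, 3 => -2
  | 3, 2 => -2 | 3, 3 => 4 | _, _ => 0

/-- the invariant form on the roots -/
def ipF4 (r s : ℕ) : ℤ :=
  ((List.range 4).map fun i =>
    ((List.range 4).map fun j => fdF4.rcZ fxF4 r i * gramF4 i j * fdF4.rcZ fxF4 s j).sum).sum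

set_option maxRecDepth 1000000 in
theorem ip_sw : ∀ i < 4, ∀ r < 48, ∀ s < 48, ipF4 (fdF4.sw fxF4 i r) (fdF4.sw fxF4 i s) = ipF4 r s := by
  decide +kernel

theorem ip_wordP (w : List ℕ) (hw : IsWd fdF4.l w) :
    ∀ r < 48, ∀ s < 48, ipF4 (fdF4.wordP fxF4 w r) (fdF4.wordP fxF4 w s) = ipF4 r s := by
  induction w with
  | nil => intro r _ s _; rfl
  | cons i w ih =>
    intro r hr s hs
    obtain ⟨hi, hw'⟩ := hw.of_cons
    simp only [FD.wordP]
    have h1 := cert12_F4.wordP_lt w hw' r (by rw [f4_n]; exact hr)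
    have h2 := cert12_F4.wordP_lt w hw' s (by rw [f4_n]; exact hs)
    rw [f4_n] at h1 h2
    rw [ip_sw i (by rw [f4_l] at hi; exact hi) _ h1 _ h2, ih hw' r hr s hs]

set_option maxRecDepth 100000 in
theorem f4_v_orth : ∀ x ∈ vA, ∀ y ∈ vA, shortF4 x = true → shortF4 y = false → ipF4 x y = 0 → x = 39 ∧ y = 45 := by
  decide +kernel

set_option maxRecDepth 100000 in
theorem f4_v_step_tbl : ∀ i < 4, ∀ q < 24, ipF4 39 (fdF4.simples.getD i 0) = ipF4 39 q →
    ipF4 45 (fdF4.simples.getD i 0) = ipF4 45 q → fdF4.sw fxF4 i 39 = 39 ∧ fdF4.sw fxF4 i 45 = 45 := by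
  decide +kernel

section Gen

variable {D : ChevalleyDatum} {fd : FD} {fx : FX} {fc : FC} {fz : FZ} {F : Type*} [Field F]
variable (C : Cert12 D fd fx fc fz)

/-- the conjugates of commuting root elements commute -/
theorem pcomm_conj {m : GL D.Idx F} {π : ℕ → ℕ} (hπ : C.c6.c2.Perm m π) (L : List (ℕ × F))
    (hL : ∀ p ∈ L, p.1 < fd.n) (hc : PComm C L) :
    PComm C (L.map fun p => (π p.1, pc C hπ p.1 * p.2)) := by
  intro p hp q hq t u
  obtain ⟨p', hp', rfl⟩ := List.mem_map.mp hp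
  obtain ⟨q', hq', rfl⟩ := List.mem_map.mp hq
  simp only
  have e1 : C.c6.c2.xA (π p'.1) t = m * C.c6.c2.xA p'.1 (t / pc C hπ p'.1) * m⁻¹ := by
    rw [pc_spec C hπ p'.1 (hL p' hp'), mul_div_cancel₀ _ (pc_ne_zero C hπ p'.1 (hL p' hp'))]
  have e2 : C.c6.c2.xA (π q'.1) u = m * C.c6.c2.xA q'.1 (u / pc C hπ q'.1) * m⁻¹ := by
    rw [pc_spec C hπ q'.1 (hL q' hq'), mul_div_cancel₀ _ (pc_ne_zero C hπ q'.1 (hL q' hq'))]
  rw [e1, e2]
  have := (hc p' hp' q' hq' (t / pc C hπ p'.1) (u / pc C hπ q'.1)).eq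
  show m * _ * m⁻¹ * (m * _ * m⁻¹) = m * _ * m⁻¹ * (m * _ * m⁻¹)
  calc m * C.c6.c2.xA p'.1 (t / pc C hπ p'.1) * m⁻¹ * (m * C.c6.c2.xA q'.1 (u / pc C hπ q'.1) * m⁻¹)
      = m * (C.c6.c2.xA p'.1 (t / pc C hπ p'.1) * C.c6.c2.xA q'.1 (u / pc C hπ q'.1)) * m⁻¹ := by group
    _ = m * (C.c6.c2.xA q'.1 (u / pc C hπ q'.1) * C.c6.c2.xA p'.1 (t / pc C hπ p'.1)) * m⁻¹ := by rw [this]
    _ = _ := by group

end Gen

section F4

variable {F : Type*} [Field F] [CharP F 2]

/-- the permutation of a monomial element preserves the invariant form -/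
theorem ip_perm {m : GL chevF4.Idx F} (hm : m ∈ chevF4.monomialSubgroup F) {π : ℕ → ℕ}
    (hπ : cert12_F4.c6.c2.Perm m π) (r s : ℕ) (hr : r < 48) (hs : s < 48) : ipF4 (π r) (π s) = ipF4 r s := by
  obtain ⟨⟨w, hw, hπw⟩, _⟩ := cert12_F4.perm_word m hm
  have h1 := cert12_F4.perm_unique m π _ hπ hπw r (by rw [f4_n]; exact hr)
  have h2 := cert12_F4.perm_unique m π _ hπ hπw s (by rw [f4_n]; exact hs)
  rw [h1, h2]
  exact ip_wordP w hw r hr s hs

theorem vE_pos (a b c d : F) :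
    ∀ p ∈ [((39 : ℕ), (1 : F)), (45, 1), (40, a), (44, b), (46, c), (47, d)], p.1 < fdF4.n ∧ fdF4.n / 2 ≤ p.1 := by
  intro p hp
  simp only [List.mem_cons, List.mem_nil_iff, or_false] at hp
  rcases hp with rfl | rfl | rfl | rfl | rfl | rfl <;> simp [f4_n]

theorem vE_mem_vA (a b c d : F) :
    ∀ p ∈ [((39 : ℕ), (1 : F)), (45, 1), (40, a), (44, b), (46, c), (47, d)], p.1 ∈ vA := by
  intro p hp
  simp only [List.mem_cons, List.mem_nil_iff, or_false] at hp
  rcases hp with rfl | rfl | rfl | rfl | rfl | rfl <;> simp [vA]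

/-- a monomial element mapping an element of `v R` to an element of `v R` fixes the roots `39` and `45` -/
theorem perm_fix_v (m : GL chevF4.Idx F) (hm : m ∈ chevF4.monomialSubgroup F) (π : ℕ → ℕ)
    (hπ : cert12_F4.c6.c2.Perm m π) (a b c d a' b' c' d' : F)
    (hconj : m * vE a b c d * m⁻¹ = vE a' b' c' d') : π 39 = 39 ∧ π 45 = 45 := by
  have hn := f4_n
  set Ly : List (ℕ × F) := [(39, 1), (45, 1), (40, a), (44, b), (46, c), (47, d)] with hLy
  set Lx : List (ℕ × F) := [(39, 1), (45, 1), (40, a'), (44, b'), (46, c'), (47, d')] with hLx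
  have hy : vE a b c d = lp cert12_F4 Ly := rfl
  have hx : vE a' b' c' d' = lp cert12_F4 Lx := rfl
  rw [hy, hx] at hconj
  have hLypos := vE_pos a b c d
  have hLxpos := vE_pos a' b' c' d'
  have hLynd : (Ly.map Prod.fst).Nodup := by simp [hLy]
  have hLxnd : (Lx.map Prod.fst).Nodup := by simp [hLx]
  have hLyc : PComm cert12_F4 Ly := pcomm_of vA f4_vA_comm Ly (vE_mem_vA a b c d)
  have hLxc : PComm cert12_F4 Lx := pcomm_of vA f4_vA_comm Lx (vE_mem_vA a' b' c' d')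
  have hxU : lp cert12_F4 Lx ∈ chevF4.posUnipotent F := lp_mem_pos cert12_F4 Lx (fun p hp _ => hLxpos p hp)
  have hpos := support_pos cert12_F4 hπ Ly hLypos hLynd hLyc (by rw [hconj]; exact hxU)
  have hLy1 : ∀ p ∈ Ly, p.1 < fdF4.n := fun p hp => (hLypos p hp).1
  rw [conj_lp cert12_F4 hπ Ly hLy1] at hconj
  set L := Ly.map fun p => (π p.1, pc cert12_F4 hπ p.1 * p.2) with hL
  have hLnd : (L.map Prod.fst).Nodup := by
    rw [hL, List.map_map]
    have : (Prod.fst ∘ fun p : ℕ × F => (π p.1, pc cert12_F4 hπ p.1 * p.2)) = π ∘ Prod.fst := by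
      funext p; rfl
    rw [this, ← List.map_map]
    apply List.Nodup.map_on _ hLynd
    intro x hx' y hy' hxy
    obtain ⟨p, hp, rfl⟩ := List.mem_map.mp hx'
    obtain ⟨q, hq, rfl⟩ := List.mem_map.mp hy'
    exact perm_inj cert12_F4 hm hπ _ _ (hLy1 p hp) (hLy1 q hq) hxy
  have hLpos : ∀ p ∈ L, p.1 < fdF4.n ∧ (p.2 ≠ 0 → fdF4.n / 2 ≤ p.1) := by
    intro p hp
    obtain ⟨q, hq, rfl⟩ := List.mem_map.mp hp
    exact ⟨(hπ q.1 (hLy1 q hq)).1, fun h0 => hpos q hq (right_ne_zero_of_mul h0)⟩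
  have key := lp_unique cert12_F4 _ L Lx rfl hLpos (fun p hp => ⟨(hLxpos p hp).1, fun _ => (hLxpos p hp).2⟩)
    hLnd hLxnd (pcomm_conj cert12_F4 hπ Ly hLy1 hLyc) hLxc hconj
  have k39 : π 39 ∈ vA := by
    have := key (π 39, pc cert12_F4 hπ 39 * 1) (List.mem_map.mpr ⟨(39, 1), by simp [hLy], rfl⟩)
      (mul_ne_zero (pc_ne_zero cert12_F4 hπ 39 (by rw [hn]; omega)) one_ne_zero)
    exact vE_mem_vA a' b' c' d' _ this
  have k45 : π 45 ∈ vA := by
    have := key (π 45, pc cert12_F4 hπ 45 * 1) (List.mem_map.mpr ⟨(45, 1), by simp [hLy], rfl⟩)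
      (mul_ne_zero (pc_ne_zero cert12_F4 hπ 45 (by rw [hn]; omega)) one_ne_zero)
    exact vE_mem_vA a' b' c' d' _ this
  have s39 := perm_short hm hπ 39 (by omega) true (by decide)
  have s45 := perm_short hm hπ 45 (by omega) false (by decide)
  have hip := ip_perm hm hπ 39 45 (by omega) (by omega)
  have h0 : ipF4 39 45 = 0 := by decide
  rw [h0] at hip
  exact f4_v_orth _ k39 _ k45 s39 s45 hip

/-- the stabiliser step for the roots `39` and `45` -/
theorem v_step (g : GL chevF4.Idx F) (π : ℕ → ℕ) (hg : g ∈ chevF4.monomialSubgroup F)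
    (hπ : cert12_F4.c6.c2.Perm g π) (hfix : ∀ r ∈ [39, 45], π r = r) (i : ℕ) (hi : i < fdF4.l)
    (hneg : π (fdF4.simples.getD i 0) < fdF4.n / 2) : ∀ r ∈ [39, 45], fdF4.sw fxF4 i r = r := by
  have hn := f4_n
  have hp := cert12_F4.c6.c2.simple_lt i hi
  rw [hn] at hp hneg
  have e1 := ip_perm hg hπ 39 (fdF4.simples.getD i 0) (by omega) hp
  have e2 := ip_perm hg hπ 45 (fdF4.simples.getD i 0) (by omega) hp
  rw [hfix 39 (by simp)] at e1
  rw [hfix 45 (by simp)] at e2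
  have := f4_v_step_tbl i (by rw [f4_l] at hi; exact hi) _ (by omega) e1.symm e2.symm
  intro r hr
  simp only [List.mem_cons, List.mem_nil_iff, or_false] at hr
  rcases hr with rfl | rfl
  · exact this.1
  · exact this.2

end F4

end Cfsg.Agent.Lib.H12.F4V
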