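import Mathlib
import Cfsg.Prelude.Def_ChevStructure
import Cfsg.Agent.Lib.H12.F4CentV7

/-!
# `F₄` in characteristic two: the centraliser of `v = x_39(1) x_45(1)`, reduction to `C_U(v)`
-/

set_option autoImplicit false
set_option linter.unusedSectionVars false
set_option linter.unusedSimpArgs false
set_option linter.unusedVariables false
set_option maxRecDepth 4000

namespace Cfsg.Agent.Lib.H12.F4V

open Cfsg.Lie Matrix Cfsg.Agent.Lib.H29.Chev

set_option maxRecDepth 100000 in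
theorem f4_v_comm_tbl : ∀ s < 48, (s = 14 ∨ s = 23 ∨ (24 ≤ s ∧ s ∉ [27, 25, 34, 26])) →
    comm2 s 39 = true ∧ comm2 s 45 = true := by
  decide +kernel

set_option maxRecDepth 100000 in
theorem f4_v_stab : (∀ i < fdF4.l, fdF4.sw fxF4 i 39 = 39 → fdF4.sw fxF4 i 45 = 45 → i = 0 ∨ i = 3) ∧
    fdF4.simples.getD 0 0 = 33 ∧ fdF4.simples.getD 3 0 = 24 ∧
    (∀ i < fdF4.l, fdF4.carZ i 39 = if i = 1 then -1 else if i = 2 then 1 else 0) ∧
    (∀ i < fdF4.l, fdF4.carZ i 45 = if i = 1 then 2 else if i = 2 then -1 else 0) := by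
  decide +kernel

set_option maxRecDepth 100000 in
set_option synthInstance.maxSize 100000 in
set_option synthInstance.maxHeartbeats 1000000 in
theorem f4_v_sw_pos : ∀ i < fdF4.l, ∀ r < 48, ((i = 0 ∨ i = 3) ∧ 24 ≤ r ∧ r ≠ 33 ∧ r ≠ 24) →
    (24 ≤ fdF4.sw fxF4 i r ∧ fdF4.sw fxF4 i r < 48 ∧ fdF4.sw fxF4 i r ≠ 33 ∧ fdF4.sw fxF4 i r ≠ 24) := by
  decide +kernel

theorem f4_v_wordP_pos (w : List ℕ)
    (hw : ∀ i ∈ w, i < fdF4.l ∧ ∀ r ∈ [39, 45], fdF4.sw fxF4 i r = r) :
    ∀ r, 24 ≤ r → r < 48 → r ≠ 33 → r ≠ 24 →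
      24 ≤ fdF4.wordP fxF4 w r ∧ fdF4.wordP fxF4 w r < 48 ∧ fdF4.wordP fxF4 w r ≠ 33 ∧ fdF4.wordP fxF4 w r ≠ 24 := by
  induction w with
  | nil => intro r h1 h2 h3 h4; exact ⟨h1, h2, h3, h4⟩
  | cons i w ih =>
    intro r h1 h2 h3 h4
    obtain ⟨hi, hJ⟩ := hw i List.mem_cons_self
    obtain ⟨k1, k2, k3, k4⟩ := ih (fun j hj => hw j (List.mem_cons_of_mem _ hj)) r h1 h2 h3 h4
    have hi03 := f4_v_stab.1 i hi (hJ 39 (by simp)) (hJ 45 (by simp))
    exact f4_v_sw_pos i hi _ k2 ⟨hi03, k1, k3, k4⟩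

section F4

variable {F : Type*} [Field F] [CharP F 2]

theorem vE_zero : vE (0 : F) 0 0 0 = fX 39 (1 : F) * fX 45 1 := by
  rw [vE_eq, rE_zero, mul_one]

/-- the centraliser of `v` lies in a subgroup `T` containing the root subgroups of `±p₁`, `±p₄` and of the positive
roots other than `p₂`, `p₃`, `p₁ + p₂`, `p₃ + p₄`, provided `C_U(v)` does -/
theorem cent_v_le_of (T : Subgroup (GL chevF4.Idx F))
    (hT : ∀ s < 48, (s = 14 ∨ s = 23 ∨ (24 ≤ s ∧ s ∉ [27, 25, 34, 26])) → ∀ c : F, fX s c ∈ T)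
    (hCU : ∀ u₀ ∈ chevF4.posUnipotent F, Commute u₀ (fX 39 (1 : F) * fX 45 1) → u₀ ∈ T) :
    chevF4.group F ⊓ Subgroup.centralizer {fX 39 (1 : F) * fX 45 1} ≤ T := by
  have hn := f4_n
  have hl := f4_l
  obtain ⟨vs1, vs2, vs3, vcar39, vcar45⟩ := f4_v_stab
  -- the generators commute with `v`
  have hcomm : ∀ s < 48, (s = 14 ∨ s = 23 ∨ (24 ≤ s ∧ s ∉ [27, 25, 34, 26])) → ∀ c : F,
      Commute (fX s c) (fX 39 (1 : F) * fX 45 1) := by
    intro s hs hG c
    obtain ⟨h1, h2⟩ := f4_v_comm_tbl s hs hG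
    exact (comm2_comm s 39 hs (by omega) h1 _ _).mul_right (comm2_comm s 45 hs (by omega) h2 _ _)
  intro g hg
  obtain ⟨hgG, hgc⟩ := Subgroup.mem_inf.mp hg
  have hgc' : Commute g (fX 39 (1 : F) * fX 45 1) := by
    have := Subgroup.mem_centralizer_iff.mp hgc _ (Set.mem_singleton _)
    exact this.symm
  obtain ⟨b, hb, n, hn', u, hu, rfl⟩ := cert12_F4.c6.canonical_form.1 g hgG
  obtain ⟨u₀, hu₀, h, hh, rfl⟩ := cert12_F4.c6.c2.borel_mem b hb
  have huU := _root_.Cfsg.Agent.Lib.H29.Chev.Uw_le_pos n hu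
  have hHN : chevF4.diagonalSubgroup F ≤ chevF4.monomialSubgroup F := le_sup_left
  have hm : h * n ∈ chevF4.monomialSubgroup F := mul_mem (hHN hh) hn'
  obtain ⟨⟨π, hπ⟩, _⟩ := cert12_F4.c6.perm_of_mem (h * n) hm
  -- the conjugates of `v`
  obtain ⟨a, b, c, d, hy⟩ := conj_pos_v u⁻¹ (inv_mem huU)
  obtain ⟨a', b', c', d', hx⟩ := conj_pos_v u₀ hu₀
  rw [inv_inv] at hy
  have hconj : h * n * vE a b c d * (h * n)⁻¹ = vE a' b' c' d' := by
    rw [← hy, ← hx]
    have e : h * n * (u * (fX 39 (1 : F) * fX 45 1) * u⁻¹) * (h * n)⁻¹ =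
        u₀⁻¹ * ((u₀ * h * n * u) * (fX 39 (1 : F) * fX 45 1)) * u⁻¹ * (h * n)⁻¹ := by group
    rw [e, hgc'.eq]
    group
  obtain ⟨hfix39, hfix45⟩ := perm_fix_v (h * n) hm π hπ a b c d a' b' c' d' hconj
  -- the permutation is a word in the reflections in `p₁` and `p₄`
  obtain ⟨w, hw, hws⟩ := stab_word_list cert12_F4 [39, 45] v_step _ (h * n) π hm hπ
    (by
      intro r hr
      simp only [List.mem_cons, List.mem_nil_iff, or_false] at hr
      rcases hr with rfl | rfl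
      · exact hfix39
      · exact hfix45) rfl
  have hwd : IsWd fdF4.l w := fun i hi => (hw i hi).1
  have hwT : ∀ w : List ℕ, (∀ i ∈ w, i < fdF4.l ∧ ∀ r ∈ [39, 45], fdF4.sw fxF4 i r = r) →
      cert12_F4.wordN F w ∈ T ∧ Commute (cert12_F4.wordN F w) (fX 39 (1 : F) * fX 45 1) := by
    intro w
    induction w with
    | nil => intro _; exact ⟨one_mem _, Commute.one_left _⟩
    | cons i w ih =>
      intro hw
      obtain ⟨hi, hJ⟩ := hw i List.mem_cons_self
      obtain ⟨ih1, ih2⟩ := ih (fun j hj => hw j (List.mem_cons_of_mem _ hj))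
      have hp := cert12_F4.c6.c2.simple_lt i hi
      simp only [Cert12.wordN, dif_pos hi]
      rw [cert12_F4.c6.c2.nG_eq_xA' _ hp]
      rcases vs1 i hi (hJ 39 (by simp)) (hJ 45 (by simp)) with rfl | rfl
      · simp only [vs2, hn]
        have a1 := hT 33 (by omega) (Or.inr (Or.inr ⟨by omega, by decide⟩)) (1 : F)
        have a2 := hT 14 (by omega) (Or.inl rfl) (-1 : F)
        have c1 := hcomm 33 (by omega) (Or.inr (Or.inr ⟨by omega, by decide⟩)) (1 : F)
        have c2 := hcomm 14 (by omega) (Or.inl rfl) (-1 : F)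
        exact ⟨mul_mem (mul_mem (mul_mem a1 a2) a1) ih1, (((c1.mul_left c2).mul_left c1).mul_left ih2)⟩
      · simp only [vs3, hn]
        have a1 := hT 24 (by omega) (Or.inr (Or.inr ⟨by omega, by decide⟩)) (1 : F)
        have a2 := hT 23 (by omega) (Or.inr (Or.inl rfl)) (-1 : F)
        have c1 := hcomm 24 (by omega) (Or.inr (Or.inr ⟨by omega, by decide⟩)) (1 : F)
        have c2 := hcomm 23 (by omega) (Or.inr (Or.inl rfl)) (-1 : F)
        exact ⟨mul_mem (mul_mem (mul_mem a1 a2) a1) ih1, (((c1.mul_left c2).mul_left c1).mul_left ih2)⟩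
  obtain ⟨hwT1, hwT2⟩ := hwT w hw
  have hd := cert12_F4.mul_inv_mem_diag' (h * n) (cert12_F4.wordN F w) hm (cert12_F4.wordN_mem w) π _ hπ
    (cert12_F4.perm_wordN w hwd) hws
  -- `u` lies in `X_{p₁} X_{p₄}`
  have huT : u ∈ T ⊓ Subgroup.centralizer {fX 39 (1 : F) * fX 45 1} := by
    have hle : Uw chevF4 F n ≤ T ⊓ Subgroup.centralizer {fX 39 (1 : F) * fX 45 1} := by
      unfold Uw
      rw [Subgroup.closure_le]
      intro x hx
      obtain ⟨r, t, hr, rfl⟩ := cert12_F4.c6.eq_xA_of_UwSet n x hx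
      have hr' : cert12_F4.c6.Wn (h * n) r := by
        refine ⟨hr.1, hr.2.1, fun t => ?_⟩
        have e : h * n * fX r t * (h * n)⁻¹ = h * (n * fX r t * n⁻¹) * h⁻¹ := by group
        rw [e]
        have hnorm := cert12_F4.c6.c2.diag_le_normalizer_neg hh
        exact (Subgroup.mem_normalizer_iff.mp hnorm _).mp (hr.2.2 t)
      obtain ⟨k1, k2, k3⟩ := (cert12_F4.Wn_iff (h * n) π hπ r).mp hr'
      rw [hn] at k1 k2 k3
      have hr33 : r = 33 ∨ r = 24 := by
        by_contra hne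
        push Not at hne
        have := f4_v_wordP_pos w hw r (by omega) k1 hne.1 hne.2
        rw [hws r (by rw [hn]; exact k1)] at k3
        omega
      have hG : r = 14 ∨ r = 23 ∨ (24 ≤ r ∧ r ∉ [27, 25, 34, 26]) := by
        rcases hr33 with rfl | rfl
        · exact Or.inr (Or.inr ⟨by omega, by decide⟩)
        · exact Or.inr (Or.inr ⟨by omega, by decide⟩)
      refine Subgroup.mem_inf.mpr ⟨hT r k1 hG t, ?_⟩
      rw [Subgroup.mem_centralizer_iff]
      intro z hz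
      rw [Set.mem_singleton_iff] at hz
      rw [hz]
      exact ((hcomm r k1 hG t).eq).symm
    exact hle hu
  obtain ⟨huT1, huT2⟩ := Subgroup.mem_inf.mp huT
  have huc : Commute u (fX 39 (1 : F) * fX 45 1) := by
    have := Subgroup.mem_centralizer_iff.mp huT2 _ (Set.mem_singleton _)
    exact this.symm
  -- the Borel part commutes with `v`
  set dd := h * n * (cert12_F4.wordN F w)⁻¹ with hdd
  have hbc : Commute (u₀ * dd) (fX 39 (1 : F) * fX 45 1) := by
    have e : u₀ * dd = (u₀ * h * n * u) * u⁻¹ * (cert12_F4.wordN F w)⁻¹ := by rw [hdd]; group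
    rw [e]
    exact (hgc'.mul_left huc.inv_left).mul_left hwT2.inv_left
  have e39 : dd * fX 39 (1 : F) * dd⁻¹ = fX 39 (dE chevF4 dd 39 * 1) :=
    cert12_F4.diag_conj_xA dd hd 39 (by rw [hn]; omega) (1 : F)
  have e45 : dd * fX 45 (1 : F) * dd⁻¹ = fX 45 (dE chevF4 dd 45 * 1) :=
    cert12_F4.diag_conj_xA dd hd 45 (by rw [hn]; omega) (1 : F)
  rw [mul_one] at e39 e45
  have hdv : fX 39 (dE chevF4 dd 39) * fX 45 (dE chevF4 dd 45) = vE a' b' c' d' := by
    rw [← hx, ← e39, ← e45]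
    have e : u₀⁻¹ * (fX 39 (1 : F) * fX 45 1) * u₀ =
        u₀⁻¹ * ((fX 39 (1 : F) * fX 45 1) * (u₀ * dd)) * dd⁻¹ := by group
    rw [e, ← hbc.eq]
    group
  -- unique factorisation
  set L2 : List (ℕ × F) := [(39, dE chevF4 dd 39), (45, dE chevF4 dd 45)] with hL2
  set Lx : List (ℕ × F) := [(39, 1), (45, 1), (40, a'), (44, b'), (46, c'), (47, d')] with hLx
  have hL2eq : lp cert12_F4 Lx = lp cert12_F4 L2 := by
    have : lp cert12_F4 L2 = fX 39 (dE chevF4 dd 39) * fX 45 (dE chevF4 dd 45) := by simp [hL2, lp]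
    rw [this, hdv]
    rfl
  have hLxpos := vE_pos a' b' c' d'
  have hL2pos : ∀ p ∈ L2, p.1 < fdF4.n ∧ fdF4.n / 2 ≤ p.1 := by
    intro p hp
    simp only [hL2, List.mem_cons, List.mem_nil_iff, or_false] at hp
    rcases hp with rfl | rfl <;> simp [hn]
  have hL2A : ∀ p ∈ L2, p.1 ∈ vA := by
    intro p hp
    simp only [hL2, List.mem_cons, List.mem_nil_iff, or_false] at hp
    rcases hp with rfl | rfl <;> simp [vA]
  have key := lp_unique cert12_F4 _ Lx L2 rfl (fun p hp => ⟨(hLxpos p hp).1, fun _ => (hLxpos p hp).2⟩)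
    (fun p hp => ⟨(hL2pos p hp).1, fun _ => (hL2pos p hp).2⟩) (by simp [hLx]) (by simp [hL2])
    (pcomm_of vA f4_vA_comm Lx (vE_mem_vA a' b' c' d')) (pcomm_of vA f4_vA_comm L2 hL2A) hL2eq
  have hχ39 : dE chevF4 dd 39 = 1 := by
    have := key (39, 1) (by simp [hLx]) one_ne_zero
    simp only [hL2, List.mem_cons, Prod.mk.injEq, List.mem_nil_iff, or_false] at this
    rcases this with ⟨_, h1⟩ | ⟨h1, _⟩
    · exact h1.symm
    · omega
  have hχ45 : dE chevF4 dd 45 = 1 := by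
    have := key (45, 1) (by simp [hLx]) one_ne_zero
    simp only [hL2, List.mem_cons, Prod.mk.injEq, List.mem_nil_iff, or_false] at this
    rcases this with ⟨h1, _⟩ | ⟨_, h1⟩
    · omega
    · exact h1.symm
  have hz : ∀ r ∈ [40, 44, 46, 47], ∀ t : F, (r, t) ∈ Lx → t = 0 := by
    intro r hr t hmem
    by_contra hne
    have := key (r, t) hmem hne
    simp only [hL2, List.mem_cons, Prod.mk.injEq, List.mem_nil_iff, or_false] at this
    simp only [List.mem_cons, List.mem_nil_iff, or_false] at hr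
    rcases this with ⟨h1, _⟩ | ⟨h1, _⟩ <;> omega
  have ha' : a' = 0 := hz 40 (by simp) a' (by simp [hLx])
  have hb' : b' = 0 := hz 44 (by simp) b' (by simp [hLx])
  have hc' : c' = 0 := hz 46 (by simp) c' (by simp [hLx])
  have hd' : d' = 0 := hz 47 (by simp) d' (by simp [hLx])
  rw [ha', hb', hc', hd', vE_zero] at hx
  have hu₀c : Commute u₀ (fX 39 (1 : F) * fX 45 1) := by
    show u₀ * (fX 39 (1 : F) * fX 45 1) = (fX 39 (1 : F) * fX 45 1) * u₀
    have e : u₀ * (fX 39 (1 : F) * fX 45 1) = u₀ * (u₀⁻¹ * (fX 39 (1 : F) * fX 45 1) * u₀) := by rw [hx]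
    rw [e]
    group
  -- the diagonal part lies in `T`
  have hdT : dd ∈ T := by
    rw [cert12_F4.diag_eq_range] at hd
    obtain ⟨x, hxx⟩ := hd
    rw [← hxx] at hχ39 hχ45 ⊢
    rw [cert12_F4.dE_chiHom x 39 (by rw [hn]; omega)] at hχ39
    rw [cert12_F4.dE_chiHom x 45 (by rw [hn]; omega)] at hχ45
    have h1l : 1 < fdF4.l := by rw [hl]; omega
    have h2l : 2 < fdF4.l := by rw [hl]; omega
    have hprod : ∀ r : ℕ, (∀ i < fdF4.l, i ≠ 1 → i ≠ 2 → fdF4.carZ i r = 0) →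
        ∏ i : Fin fdF4.l, x i ^ fdF4.carZ i.val r =
          x ⟨1, h1l⟩ ^ fdF4.carZ 1 r * x ⟨2, h2l⟩ ^ fdF4.carZ 2 r := by
      intro r hr
      rw [← Finset.prod_subset (Finset.subset_univ ({⟨1, h1l⟩, ⟨2, h2l⟩} : Finset (Fin fdF4.l)))]
      · rw [Finset.prod_pair]
        intro e
        have := congrArg Fin.val e
        simp at this
      · intro i _ hi
        simp only [Finset.mem_insert, Finset.mem_singleton, not_or] at hi
        have h1 : i.val ≠ 1 := fun e => hi.1 (Fin.ext e)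
        have h2 : i.val ≠ 2 := fun e => hi.2 (Fin.ext e)
        rw [hr i.val i.isLt h1 h2, zpow_zero]
    rw [hprod 39 (fun i hi h1 h2 => by rw [vcar39 i hi, if_neg h1, if_neg h2])] at hχ39
    rw [hprod 45 (fun i hi h1 h2 => by rw [vcar45 i hi, if_neg h1, if_neg h2])] at hχ45
    rw [vcar39 1 h1l, vcar39 2 h2l] at hχ39
    rw [vcar45 1 h1l, vcar45 2 h2l] at hχ45
    simp only [if_pos, if_neg, _root_.zpow_neg, zpow_one] at hχ39 hχ45
    norm_num at hχ39 hχ45
    have q1 : (x ⟨1, h1l⟩)⁻¹ * x ⟨2, h2l⟩ = 1 := Units.ext (by simpa using hχ39)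
    have q2 : x ⟨1, h1l⟩ ^ (2 : ℤ) * (x ⟨2, h2l⟩)⁻¹ = 1 := Units.ext (by simpa using hχ45)
    have q3 : x ⟨2, h2l⟩ = x ⟨1, h1l⟩ := by
      have := congrArg (fun z => x ⟨1, h1l⟩ * z) q1
      simpa using this
    have hx1 : x ⟨1, h1l⟩ = 1 := by
      rw [q3] at q2
      have : x ⟨1, h1l⟩ ^ (2 : ℤ) * (x ⟨1, h1l⟩)⁻¹ = x ⟨1, h1l⟩ := by
        rw [zpow_two, mul_assoc, mul_inv_cancel, mul_one]
      rw [this] at q2
      exact q2
    have hx2 : x ⟨2, h2l⟩ = 1 := by rw [q3, hx1]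
    have keyT : x ∈ T.comap (chiHom chevF4 fdF4 F) := by
      rw [← Finset.univ_prod_mulSingle x]
      apply Subgroup.prod_mem
      intro i _
      rw [Subgroup.mem_comap]
      by_cases hi1 : i.val = 1
      · have : i = ⟨1, h1l⟩ := Fin.ext hi1
        rw [this, hx1, Pi.mulSingle_one, map_one]
        exact one_mem _
      · by_cases hi2 : i.val = 2
        · have : i = ⟨2, h2l⟩ := Fin.ext hi2
          rw [this, hx2, Pi.mulSingle_one, map_one]
          exact one_mem _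
        · have hi03 : i.val = 0 ∨ i.val = 3 := by have := i.isLt; omega
          apply cert12_F4.chi_single_mem T i
          · intro c
            rcases hi03 with h1 | h1
            · rw [h1, vs2]; exact hT 33 (by omega) (Or.inr (Or.inr ⟨by omega, by decide⟩)) c
            · rw [h1, vs3]; exact hT 24 (by omega) (Or.inr (Or.inr ⟨by omega, by decide⟩)) c
          · intro c
            rcases hi03 with h1 | h1
            · rw [h1, vs2, hn]; exact hT 14 (by omega) (Or.inl rfl) c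
            · rw [h1, vs3, hn]; exact hT 23 (by omega) (Or.inr (Or.inl rfl)) c
    exact keyT
  have e : u₀ * h * n * u = u₀ * (dd * cert12_F4.wordN F w) * u := by rw [hdd]; group
  rw [e]
  exact mul_mem (mul_mem (hCU u₀ hu₀ hu₀c) (mul_mem hdT hwT1)) huT1

end F4

end Cfsg.Agent.Lib.H12.F4V
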