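import Mathlib
import Cfsg.Prelude.Def_ChevStructure
import Cfsg.Agent.Lib.H12.F4CentV8

/-!
# `F₄` in characteristic two: the centraliser of `v = x_39(1) x_45(1)` in `U`
-/

set_option autoImplicit false
set_option linter.unusedSectionVars false
set_option linter.unusedSimpArgs false
set_option linter.unusedVariables false
set_option maxRecDepth 4000

namespace Cfsg.Agent.Lib.H12.F4V

open Cfsg.Lie Matrix Cfsg.Agent.Lib.H29.Chev

set_option maxRecDepth 100000 in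
theorem f4_cu_tbl : fdF4.commT 25 45 = [(46, 1, 1, 1)] ∧ fdF4.commT 26 45 = [(47, 1, 1, 1)] ∧
    fdF4.commT 27 39 = [(40, 1, 1, 1)] ∧ fdF4.commT 34 39 = [(44, 1, 1, 1)] ∧ fdF4.commT 33 40 = [(44, 1, 1, 1)] := by
  decide +kernel

set_option maxRecDepth 100000 in
theorem f4_cu_comm : (∀ s ∈ [25, 26, 27, 34, 28, 29, 30, 31, 32], ∀ r ∈ vR, comm2 s r = true) ∧
    (∀ r ∈ [44, 46, 47], comm2 33 r = true) ∧
    comm2 25 39 = true ∧ comm2 26 39 = true ∧ comm2 27 45 = true ∧ comm2 34 45 = true ∧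
    comm2 40 45 = true ∧ comm2 44 45 = true := by
  decide +kernel

section F4

variable {F : Type*} [Field F] [CharP F 2]

local notation "vv" => (fX 39 (1 : F) * fX 45 1)

theorem cj_comm {G : Type*} [Group G] (g x : G) (h : Commute g x) : g⁻¹ * x * g = x := by
  rw [mul_assoc, ← h.eq]; group

theorem cj_mul {G : Type*} [Group G] (g x y : G) : g⁻¹ * (x * y) * g = (g⁻¹ * x * g) * (g⁻¹ * y * g) := by group

theorem neg_eq' (t : F) : -t = t := by
  have h2 : (2 : F) = 0 := by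
    have := CharP.cast_eq_zero F 2
    exact_mod_cast this
  linear_combination (-t) * h2

theorem rE_comm (s : ℕ) (hs : s < 48) (h : ∀ r ∈ vR, comm2 s r = true) (t a b c d : F) :
    Commute (fX s t) (rE a b c d) := by
  unfold rE
  apply commute_lp
  intro p hp
  simp only [List.mem_cons, List.mem_nil_iff, or_false] at hp
  rcases hp with rfl | rfl | rfl | rfl
  · exact comm2_comm s 40 hs (by omega) (h 40 (by decide)) _ _
  · exact comm2_comm s 44 hs (by omega) (h 44 (by decide)) _ _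
  · exact comm2_comm s 46 hs (by omega) (h 46 (by decide)) _ _
  · exact comm2_comm s 47 hs (by omega) (h 47 (by decide)) _ _

theorem cj25 (t : F) : (fX 25 t)⁻¹ * vv * fX 25 t = vv * rE 0 0 t 0 := by
  obtain ⟨e1, -⟩ := f4_cu_tbl
  obtain ⟨-, -, c1, -⟩ := f4_cu_comm
  rw [cj_mul, cj_comm _ _ (comm2_comm 25 39 (by omega) (by omega) c1 t 1),
    cert12_F4.conj_inv_xA_one 25 45 46 1 (by rw [f4_n]; omega) (by rw [f4_n]; omega) (by omega)
      (by rw [f4_n]; omega) e1]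
  have : rE (0 : F) 0 t 0 = fX 46 t := by simp [rE, lp, cert12_F4.c6.c2.xA_zero]
  rw [this, neg_eq']
  simp [mul_assoc]

theorem cj26 (t : F) : (fX 26 t)⁻¹ * vv * fX 26 t = vv * rE 0 0 0 t := by
  obtain ⟨-, e1, -⟩ := f4_cu_tbl
  obtain ⟨-, -, -, c1, -⟩ := f4_cu_comm
  rw [cj_mul, cj_comm _ _ (comm2_comm 26 39 (by omega) (by omega) c1 t 1),
    cert12_F4.conj_inv_xA_one 26 45 47 1 (by rw [f4_n]; omega) (by rw [f4_n]; omega) (by omega)
      (by rw [f4_n]; omega) e1]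
  have : rE (0 : F) 0 0 t = fX 47 t := by simp [rE, lp, cert12_F4.c6.c2.xA_zero]
  rw [this, neg_eq']
  simp [mul_assoc]

theorem cj27 (t : F) : (fX 27 t)⁻¹ * vv * fX 27 t = vv * rE t 0 0 0 := by
  obtain ⟨-, -, e1, -⟩ := f4_cu_tbl
  obtain ⟨-, -, -, -, c1, -, c2, -⟩ := f4_cu_comm
  rw [cj_mul, cj_comm _ _ (comm2_comm 27 45 (by omega) (by omega) c1 t 1),
    cert12_F4.conj_inv_xA_one 27 39 40 1 (by rw [f4_n]; omega) (by rw [f4_n]; omega) (by omega)
      (by rw [f4_n]; omega) e1]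
  have : rE t (0 : F) 0 0 = fX 40 t := by simp [rE, lp, cert12_F4.c6.c2.xA_zero]
  rw [this, neg_eq']
  have hc := (comm2_comm 40 45 (by omega) (by omega) c2 t (1 : F)).eq
  simp only [Int.cast_one, one_mul, mul_one]
  rw [mul_assoc, hc, ← mul_assoc]

theorem cj34 (t : F) : (fX 34 t)⁻¹ * vv * fX 34 t = vv * rE 0 t 0 0 := by
  obtain ⟨-, -, -, e1, -⟩ := f4_cu_tbl
  obtain ⟨-, -, -, -, -, c1, -, c2⟩ := f4_cu_comm
  rw [cj_mul, cj_comm _ _ (comm2_comm 34 45 (by omega) (by omega) c1 t 1),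
    cert12_F4.conj_inv_xA_one 34 39 44 1 (by rw [f4_n]; omega) (by rw [f4_n]; omega) (by omega)
      (by rw [f4_n]; omega) e1]
  have : rE (0 : F) t 0 0 = fX 44 t := by simp [rE, lp, cert12_F4.c6.c2.xA_zero]
  rw [this, neg_eq']
  have hc := (comm2_comm 44 45 (by omega) (by omega) c2 t (1 : F)).eq
  simp only [Int.cast_one, one_mul, mul_one]
  rw [mul_assoc, hc, ← mul_assoc]

theorem cj33_rE (t a b c d : F) : (fX 33 t)⁻¹ * rE a b c d * fX 33 t = rE a (b + t * a) c d := by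
  obtain ⟨-, -, -, -, e1⟩ := f4_cu_tbl
  obtain ⟨-, c1, -⟩ := f4_cu_comm
  have h40 : (fX 33 t)⁻¹ * fX 40 a * fX 33 t = fX 40 a * fX 44 (t * a) := by
    rw [cert12_F4.conj_inv_xA_one 33 40 44 1 (by rw [f4_n]; omega) (by rw [f4_n]; omega) (by omega)
      (by rw [f4_n]; omega) e1, neg_eq']
    simp
  have h44 : (fX 33 t)⁻¹ * fX 44 b * fX 33 t = fX 44 b :=
    cj_comm _ _ (comm2_comm 33 44 (by omega) (by omega) (c1 44 (by decide)) _ _)
  have h46 : (fX 33 t)⁻¹ * fX 46 c * fX 33 t = fX 46 c :=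
    cj_comm _ _ (comm2_comm 33 46 (by omega) (by omega) (c1 46 (by decide)) _ _)
  have h47 : (fX 33 t)⁻¹ * fX 47 d * fX 33 t = fX 47 d :=
    cj_comm _ _ (comm2_comm 33 47 (by omega) (by omega) (c1 47 (by decide)) _ _)
  have e : rE a b c d = fX 40 a * (fX 44 b * (fX 46 c * fX 47 d)) := by simp [rE, lp]
  have e' : rE a (b + t * a) c d = fX 40 a * (fX 44 (b + t * a) * (fX 46 c * fX 47 d)) := by simp [rE, lp]
  have hm : fX 44 (t * a + b) = fX 44 (t * a) * fX 44 b := (cert12_F4.c6.c2.xA_mul 44 _ _).symm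
  rw [e, e', cj_mul, cj_mul, cj_mul, h40, h44, h46, h47, add_comm b, hm]
  group

end F4

end Cfsg.Agent.Lib.H12.F4V
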