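import Mathlib
import Cfsg.Prelude.Def_ChevStructure
import Cfsg.Agent.Lib.H12.F4CentV9

/-!
# `F₄` in characteristic two: the centraliser of `v = x_39(1) x_45(1)` in `U`, and in the group
-/

set_option autoImplicit false
set_option linter.unusedSectionVars false
set_option linter.unusedSimpArgs false
set_option linter.unusedVariables false
set_option maxRecDepth 4000

namespace Cfsg.Agent.Lib.H12.F4V

open Cfsg.Lie Matrix Cfsg.Agent.Lib.H29.Chev

section F4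

variable {F : Type*} [Field F] [CharP F 2]

local notation "vv" => (fX 39 (1 : F) * fX 45 1)

/-- the good root elements commute with `v` -/
theorem gen_comm_v (s : ℕ) (hs : s < 48) (hG : s = 14 ∨ s = 23 ∨ (24 ≤ s ∧ s ∉ [27, 25, 34, 26])) (c : F) :
    Commute (fX s c) vv := by
  obtain ⟨h1, h2⟩ := f4_v_comm_tbl s hs hG
  exact (comm2_comm s 39 hs (by omega) h1 _ _).mul_right (comm2_comm s 45 hs (by omega) h2 _ _)

theorem good_prod (T : Subgroup (GL chevF4.Idx F))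
    (hT : ∀ s < 48, (s = 14 ∨ s = 23 ∨ (24 ≤ s ∧ s ∉ [27, 25, 34, 26])) → ∀ c : F, fX s c ∈ T)
    (τ : ℕ → F) (rs : List ℕ) (h : ∀ r ∈ rs, r < 48 ∧ 24 ≤ r ∧ r ∉ [27, 25, 34, 26]) :
    (rs.map fun r => fX r (τ r)).prod ∈ T ∧ Commute (rs.map fun r => fX r (τ r)).prod vv := by
  induction rs with
  | nil => exact ⟨by simp, by simp⟩
  | cons r rs ih =>
    obtain ⟨h1, h2, h3⟩ := h r List.mem_cons_self
    obtain ⟨i1, i2⟩ := ih (fun q hq => h q (List.mem_cons_of_mem _ hq))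
    rw [List.map_cons, List.prod_cons]
    exact ⟨mul_mem (hT r h1 (Or.inr (Or.inr ⟨h2, h3⟩)) _) i1,
      (gen_comm_v r h1 (Or.inr (Or.inr ⟨h2, h3⟩)) _).mul_left i2⟩

theorem prod_comm_rE (τ : ℕ → F) (rs : List ℕ) (h : ∀ r ∈ rs, r < 48 ∧ ∀ q ∈ vR, comm2 r q = true)
    (a b c d : F) : Commute (rs.map fun r => fX r (τ r)).prod (rE a b c d) := by
  induction rs with
  | nil => simp
  | cons r rs ih =>
    obtain ⟨h1, h2⟩ := h r List.mem_cons_self
    rw [List.map_cons, List.prod_cons]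
    exact (rE_comm r h1 h2 _ a b c d).mul_left (ih (fun q hq => h q (List.mem_cons_of_mem _ hq)))

theorem rE_eq_one (a b c d : F) (h : rE a b c d = 1) : a = 0 ∧ b = 0 ∧ c = 0 ∧ d = 0 := by
  have := cert12_F4.list_prod_eq_one [(40, a), (44, b), (46, c), (47, d)]
    (by
      intro p hp
      simp only [List.mem_cons, List.mem_nil_iff, or_false] at hp
      rcases hp with rfl | rfl | rfl | rfl <;> simp [f4_n])
    (by simp) h
  exact ⟨this (40, a) (by simp), this (44, b) (by simp), this (46, c) (by simp), this (47, d) (by simp)⟩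

/-- the centraliser of `v` in `U` -/
theorem cent_U_v (T : Subgroup (GL chevF4.Idx F))
    (hT : ∀ s < 48, (s = 14 ∨ s = 23 ∨ (24 ≤ s ∧ s ∉ [27, 25, 34, 26])) → ∀ c : F, fX s c ∈ T)
    (u₀ : GL chevF4.Idx F) (hu₀ : u₀ ∈ chevF4.posUnipotent F) (hc : Commute u₀ vv) : u₀ ∈ T := by
  have hn := f4_n
  obtain ⟨cm1, -⟩ := f4_cu_comm
  rw [cert12_F4.posUnipotent_eq] at hu₀
  obtain ⟨τ, _, hτ⟩ := cert12_F4.Vm_oprod (fun _ => True) cert12_F4.closed_true 24 24 (by rw [hn]) (by rw [hn])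
    u₀ (by rw [hn] at hu₀; exact hu₀)
  have hlist : List.range' 24 24 = 24 :: 25 :: 26 :: 27 :: (List.range' 28 5 ++ 33 :: 34 :: List.range' 35 13) := by
    decide
  unfold Cert12.oprod at hτ
  rw [hlist] at hτ
  simp only [List.map_cons, List.map_append, List.prod_cons, List.prod_append] at hτ
  set A := ((List.range' 28 5).map fun r => fX r (τ r)).prod with hA
  set P₂ := ((List.range' 35 13).map fun r => fX r (τ r)).prod with hP₂
  obtain ⟨hAT, hAc⟩ := good_prod T hT τ (List.range' 28 5) (by decide)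
  obtain ⟨hPT, hPc⟩ := good_prod T hT τ (List.range' 35 13) (by decide)
  have hAR : ∀ a b c d : F, Commute A (rE a b c d) := fun a b c d =>
    prod_comm_rE τ (List.range' 28 5) (by
      intro r hr
      have h1 : r ∈ [25, 26, 27, 34, 28, 29, 30, 31, 32] := by
        revert r; decide
      refine ⟨?_, cm1 r h1⟩
      revert r; decide) a b c d
  have h24T := hT 24 (by omega) (Or.inr (Or.inr ⟨by omega, by decide⟩)) (τ 24)
  have h24c := gen_comm_v 24 (by omega) (Or.inr (Or.inr ⟨by omega, by decide⟩)) (τ 24)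
  have h33T := hT 33 (by omega) (Or.inr (Or.inr ⟨by omega, by decide⟩)) (τ 33)
  have h33c := gen_comm_v 33 (by omega) (Or.inr (Or.inr ⟨by omega, by decide⟩)) (τ 33)
  set M := fX 25 (τ 25) * fX 26 (τ 26) * fX 27 (τ 27) * A * fX 33 (τ 33) * fX 34 (τ 34) with hM
  have hu : u₀ = fX 24 (τ 24) * M * P₂ := by
    rw [hτ, hM]; simp only [mul_assoc]
  have hMc : Commute M vv := by
    have e : M = (fX 24 (τ 24))⁻¹ * u₀ * P₂⁻¹ := by rw [hu]; group
    rw [e]
    exact (h24c.inv_left.mul_left hc).mul_left hPc.inv_left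
  -- the conjugate of `v` by `M`
  have s1 := cj25 (τ 25)
  have s2 : (fX 26 (τ 26))⁻¹ * (vv * rE 0 0 (τ 25) 0) * fX 26 (τ 26) = vv * rE 0 0 (τ 25) (τ 26) := by
    rw [cj_mul, cj26, cj_comm _ _ (rE_comm 26 (by omega) (cm1 26 (by decide)) _ _ _ _ _), mul_assoc, rE_mul]
    simp
  have s3 : (fX 27 (τ 27))⁻¹ * (vv * rE 0 0 (τ 25) (τ 26)) * fX 27 (τ 27) = vv * rE (τ 27) 0 (τ 25) (τ 26) := by
    rw [cj_mul, cj27, cj_comm _ _ (rE_comm 27 (by omega) (cm1 27 (by decide)) _ _ _ _ _), mul_assoc, rE_mul]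
    simp
  have s4 : A⁻¹ * (vv * rE (τ 27) 0 (τ 25) (τ 26)) * A = vv * rE (τ 27) 0 (τ 25) (τ 26) :=
    cj_comm _ _ (hAc.mul_right (hAR _ _ _ _))
  have s5 : (fX 33 (τ 33))⁻¹ * (vv * rE (τ 27) 0 (τ 25) (τ 26)) * fX 33 (τ 33) =
      vv * rE (τ 27) (0 + τ 33 * τ 27) (τ 25) (τ 26) := by
    rw [cj_mul, cj_comm _ _ h33c, cj33_rE]
  have s6 : (fX 34 (τ 34))⁻¹ * (vv * rE (τ 27) (0 + τ 33 * τ 27) (τ 25) (τ 26)) * fX 34 (τ 34) =
      vv * rE (τ 27) (τ 34 + (0 + τ 33 * τ 27)) (τ 25) (τ 26) := by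
    rw [cj_mul, cj34, cj_comm _ _ (rE_comm 34 (by omega) (cm1 34 (by decide)) _ _ _ _ _), mul_assoc, rE_mul]
    simp
  have hcj : M⁻¹ * vv * M = vv * rE (τ 27) (τ 34 + (0 + τ 33 * τ 27)) (τ 25) (τ 26) := by
    have e : M⁻¹ * vv * M = (fX 34 (τ 34))⁻¹ * ((fX 33 (τ 33))⁻¹ * (A⁻¹ * ((fX 27 (τ 27))⁻¹ *
        ((fX 26 (τ 26))⁻¹ * ((fX 25 (τ 25))⁻¹ * vv * fX 25 (τ 25)) * fX 26 (τ 26)) * fX 27 (τ 27)) * A) *
        fX 33 (τ 33)) * fX 34 (τ 34) := by
      rw [hM]; group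
    rw [e, s1, s2, s3, s4, s5, s6]
  rw [cj_comm _ _ hMc] at hcj
  have h1 : rE (τ 27) (τ 34 + (0 + τ 33 * τ 27)) (τ 25) (τ 26) = 1 := by
    have := hcj.symm
    rwa [mul_eq_left] at this
  obtain ⟨z27, z34, z25, z26⟩ := rE_eq_one _ _ _ _ h1
  rw [z27, mul_zero, add_zero, add_zero] at z34
  have hMT : M ∈ T := by
    have z0 : ∀ r : ℕ, fX r (0 : F) = 1 := fun r => cert12_F4.c6.c2.xA_zero r
    rw [hM, z25, z26, z27, z34, z0, z0, z0, z0]
    simp only [one_mul, mul_one]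
    exact mul_mem hAT h33T
  rw [hu]
  exact mul_mem (mul_mem h24T hMT) hPT

end F4

end Cfsg.Agent.Lib.H12.F4V
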