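import Mathlib
import Cfsg.Prelude.Def_ChevStructure
import Cfsg.Agent.Lib.H12.F4CentV10

/-!
# `F₄` in characteristic two: the centralisers of `x_47(1) x_44(1)` and of `x_39(1) x_45(1)`
-/

set_option autoImplicit false
set_option linter.unusedSectionVars false
set_option linter.unusedSimpArgs false
set_option linter.unusedVariables false
set_option maxRecDepth 4000

namespace Cfsg.Agent.Lib.H12.F4V

open Cfsg.Lie Matrix Cfsg.Agent.Lib.H29.Chev

section F4

variable {F : Type*} [Field F] [CharP F 2]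

/-- membership in the intersection of the group with a centraliser -/
theorem mem_cent_of_comm (x z : GL chevF4.Idx F) (hx : x ∈ chevF4.group F) (h : Commute x z) :
    x ∈ chevF4.group F ⊓ Subgroup.centralizer {z} := by
  refine Subgroup.mem_inf.mpr ⟨hx, ?_⟩
  rw [Subgroup.mem_centralizer_iff]
  intro y hy
  rw [Set.mem_singleton_iff] at hy
  rw [hy]
  exact h.eq.symm

theorem rootSubgroup_le_cent (s : ℕ) (z : GL chevF4.Idx F) (h : ∀ c : F, Commute (fX s c) z) :
    chevF4.rootSubgroup F s ≤ chevF4.group F ⊓ Subgroup.centralizer {z} := by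
  intro y hy
  obtain ⟨c, rfl⟩ := cert12_F4.c6.rootSubgroup_mem s y hy
  exact mem_cent_of_comm _ _ (cert12_F4.c6.c2.xA_mem_group s c) (h c)

/-- the centraliser of `x_47(1) x_44(1)` -/
theorem cent_F4z (w : GL chevF4.Idx F)
    (hw : (w : Matrix chevF4.Idx chevF4.Idx F) = chevF4.x F 47 1 * chevF4.x F 44 1) :
    chevF4.group F ⊓ Subgroup.centralizer {w} =
      chevF4.posUnipotent F ⊔ chevF4.rootSubgroup F 20 ⊔ chevF4.rootSubgroup F 22 := by
  have hwx : w = fX 47 (1 : F) * fX 44 1 :=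
    gl_ext (by rw [hw, Units.val_mul, cert12_F4.c6.c2.xA_val, cert12_F4.c6.c2.xA_val])
  subst hwx
  obtain ⟨-, -, -, zc1, zc2, zc3, zc4, -⟩ := f4_z_stab
  apply le_antisymm
  · apply cent_z_le _ (le_sup_left.trans le_sup_left)
    intro s hs c
    simp only [List.mem_cons, List.mem_nil_iff, or_false] at hs
    have := cert12_F4.c6.xA_mem_rootSubgroup (F := F) s c
    rcases hs with rfl | rfl
    · exact (le_sup_right.trans le_sup_left : chevF4.rootSubgroup F 20 ≤ _) this
    · exact (le_sup_right : chevF4.rootSubgroup F 22 ≤ _) this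
  · refine sup_le (sup_le ?_ ?_) ?_
    · intro u hu
      apply mem_cent_of_comm _ _ (cert12_F4.c6.c2.pos_le_group hu)
      exact (pos_commute 47 (by omega) (fun s h1 h2 => (f4_central_tbl s h1 h2).1) 1 u hu).mul_right
        (pos_commute 44 (by omega) (fun s h1 h2 => (f4_central_tbl s h1 h2).2) 1 u hu)
    · apply rootSubgroup_le_cent
      intro c
      exact (comm2_comm 20 47 (by omega) (by omega) zc1 _ _).mul_right
        (comm2_comm 20 44 (by omega) (by omega) zc2 _ _)
    · apply rootSubgroup_le_cent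
      intro c
      exact (comm2_comm 22 47 (by omega) (by omega) zc3 _ _).mul_right
        (comm2_comm 22 44 (by omega) (by omega) zc4 _ _)

/-- the centraliser of `x_39(1) x_45(1)` -/
theorem cent_F4v (v : GL chevF4.Idx F)
    (hv : (v : Matrix chevF4.Idx chevF4.Idx F) = chevF4.x F 39 1 * chevF4.x F 45 1) :
    chevF4.group F ⊓ Subgroup.centralizer {v} =
      chevF4.rootSubgroup F 33 ⊔ chevF4.rootSubgroup F 14 ⊔ chevF4.rootSubgroup F 24 ⊔ chevF4.rootSubgroup F 23 ⊔
        Subgroup.closure {g : GL chevF4.Idx F | ∃ (r : ℕ) (c : F), chevF4.IsPosRoot r ∧ r ∉ [27, 25, 34, 26] ∧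
          (g : Matrix chevF4.Idx chevF4.Idx F) = chevF4.x F r c} := by
  have hn := f4_n
  have hvx : v = fX 39 (1 : F) * fX 45 1 :=
    gl_ext (by rw [hv, Units.val_mul, cert12_F4.c6.c2.xA_val, cert12_F4.c6.c2.xA_val])
  subst hvx
  apply le_antisymm
  · have hT : ∀ s < 48, (s = 14 ∨ s = 23 ∨ (24 ≤ s ∧ s ∉ [27, 25, 34, 26])) → ∀ c : F, fX s c ∈
        chevF4.rootSubgroup F 33 ⊔ chevF4.rootSubgroup F 14 ⊔ chevF4.rootSubgroup F 24 ⊔ chevF4.rootSubgroup F 23 ⊔
        Subgroup.closure {g : GL chevF4.Idx F | ∃ (r : ℕ) (c : F), chevF4.IsPosRoot r ∧ r ∉ [27, 25, 34, 26] ∧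
          (g : Matrix chevF4.Idx chevF4.Idx F) = chevF4.x F r c} := by
      intro s hs hG c
      have hmem := cert12_F4.c6.xA_mem_rootSubgroup (F := F) s c
      rcases hG with rfl | rfl | ⟨h1, h2⟩
      · exact (le_sup_right.trans (le_sup_left.trans (le_sup_left.trans le_sup_left)) :
          chevF4.rootSubgroup F 14 ≤ _) hmem
      · exact (le_sup_right.trans le_sup_left : chevF4.rootSubgroup F 23 ≤ _) hmem
      · apply (le_sup_right : Subgroup.closure _ ≤ _)
        apply Subgroup.subset_closure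
        exact ⟨s, c, (cert12_F4.c6.isPos_iff s).mpr ⟨by rw [hn]; exact hs, by rw [hn]; omega⟩, h2,
          cert12_F4.c6.c2.xA_val s c⟩
    exact cent_v_le_of _ hT (cent_U_v _ hT)
  · refine sup_le (sup_le (sup_le (sup_le ?_ ?_) ?_) ?_) ?_
    · exact rootSubgroup_le_cent 33 _ (gen_comm_v 33 (by omega) (Or.inr (Or.inr ⟨by omega, by decide⟩)))
    · exact rootSubgroup_le_cent 14 _ (gen_comm_v 14 (by omega) (Or.inl rfl))
    · exact rootSubgroup_le_cent 24 _ (gen_comm_v 24 (by omega) (Or.inr (Or.inr ⟨by omega, by decide⟩)))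
    · exact rootSubgroup_le_cent 23 _ (gen_comm_v 23 (by omega) (Or.inr (Or.inl rfl)))
    · rw [Subgroup.closure_le]
      rintro g ⟨r, c, hr, hrE, hg⟩
      obtain ⟨h1, h2⟩ := (cert12_F4.c6.isPos_iff r).mp hr
      rw [hn] at h1 h2
      have : g = fX r c := gl_ext (by rw [hg, cert12_F4.c6.c2.xA_val])
      rw [this]
      exact mem_cent_of_comm _ _ (cert12_F4.c6.c2.xA_mem_group r c)
        (gen_comm_v r h1 (Or.inr (Or.inr ⟨by omega, hrE⟩)) c)

end F4

end Cfsg.Agent.Lib.H12.F4V
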