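import Mathlib
import Cfsg.Prelude.Def_LieExceptional
import Cfsg.Agent.Lib.H2.BN5
import Cfsg.Agent.Lib.H29.ChevGen28

/-!
# Involutions in groups with a (B,N)-pair: a conjugate lying in a double coset of maximal length

Let `y = m b₀` (`m ∈ N`, `b₀ ∈ B`) be such that no conjugate of `y` lies in a double coset `B n B` with
`ℓ(n) > ℓ(m)`. If `s` is a distinguished generator with `ℓ(m s) = ℓ(s m) = ℓ(m) + 1`, then `s m ≡ m s` modulo `B ⊓ N`
and `s b₀ s⁻¹ ∈ B`.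
-/

set_option autoImplicit false
set_option linter.unusedSectionVars false
set_option linter.unusedVariables false

namespace Cfsg.Agent.Lib.H12.InvCell

open Cfsg Cfsg.Agent.Lib.H2.BN Cfsg.Agent.Lib.H29.Chev

variable {G : Type*} [Group G] {P : BNPair G}

theorem eqv_mul_S_inv {s n : G} (hs : s ∈ P.S) : Eqv P (n * s⁻¹) (n * s) := by
  have e : (n * s⁻¹)⁻¹ * (n * s) = s * s := by group
  rw [Eqv, e]
  exact S_sq hs

/-- `s⁻¹` in place of `s` on the right -/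
theorem mul_S_inv_mem_C {s n g : G} (hs : s ∈ P.S) (hn : n ∈ P.N) (hg : g ∈ C P n) :
    g * s⁻¹ ∈ C P (n * s) ∨ g * s⁻¹ ∈ C P n := by
  have e : g * s⁻¹ = (g * s) * (s * s)⁻¹ := by group
  rw [e]
  rcases mul_S_mem_C hs hn hg with h | h
  · exact Or.inl (mul_right_mem_C (P.B.inv_mem (S_sq hs)) h)
  · exact Or.inr (mul_right_mem_C (P.B.inv_mem (S_sq hs)) h)

theorem len_mul_S_inv {s n : G} (hs : s ∈ P.S) : len P (n * s⁻¹) = len P (n * s) :=
  len_congr (eqv_mul_S_inv hs)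

/-- if `ℓ(n) ≤ ℓ(n s)` then `n B s ⊆ B n s B` -/
theorem mul_S_mem_C_of_len_le {s n b : G} (hs : s ∈ P.S) (hn : n ∈ P.N)
    (hle : len P n ≤ len P (n * s)) (hb : b ∈ P.B) : n * b * s ∈ C P (n * s) := by
  have hsN : s ∈ P.N := S_mem_N hs
  have hn' : n⁻¹ ∈ P.N := P.N.inv_mem hn
  have hns' : n * s⁻¹ ∈ P.N := P.N.mul_mem hn (P.N.inv_mem hsN)
  have h1 : len P n⁻¹ ≤ len P (s * n⁻¹) := by
    have e : s * n⁻¹ = (n * s⁻¹)⁻¹ := by group
    rw [e, len_inv hn, len_inv hns', len_mul_S_inv hs]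
    exact hle
  have h2 := smul_mem_C_of_len_le hs hn' h1 (P.B.inv_mem hb)
  have h3 := inv_mem_C h2
  have e1 : (s * b⁻¹ * n⁻¹)⁻¹ = n * b * s⁻¹ := by group
  have e2 : (s * n⁻¹)⁻¹ = n * s⁻¹ := by group
  rw [e1, e2] at h3
  have e3 : n * b * s = (n * b * s⁻¹) * (s * s) := by group
  rw [e3, ← (eqv_mul_S_inv (n := n) hs).C_eq]
  exact mul_right_mem_C (S_sq hs) h3

/-- `s B s⁻¹ ⊆ B ∪ B s B` -/
theorem conj_S_mem {s b : G} (hs : s ∈ P.S) (hb : b ∈ P.B) : s * b * s⁻¹ ∈ P.B ∨ s * b * s⁻¹ ∈ C P s := by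
  have hsN : s ∈ P.N := S_mem_N hs
  have h := P.mul_mem_union s hs s hsN b hb
  have e : s * b * s⁻¹ = (s * b * s) * (s * s)⁻¹ := by group
  rw [e]
  rcases h with h | h
  · left
    have h' : s * b * s ∈ C P (s * s) := h
    rw [mem_C_of_mem_B (S_sq hs)] at h'
    exact P.B.mul_mem h' (P.B.inv_mem (S_sq hs))
  · right
    exact mul_right_mem_C (P.B.inv_mem (S_sq hs)) h

/-- the main step: see the header -/
theorem max_cell_step {m b₀ s : G} (hm : m ∈ P.N) (hb₀ : b₀ ∈ P.B) (hs : s ∈ P.S)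
    (hmax : ∀ z n : G, n ∈ P.N → z * (m * b₀) * z⁻¹ ∈ C P n → len P n ≤ len P m)
    (h1 : len P (m * s) = len P m + 1) (h2 : len P (s * m) = len P m + 1) :
    Eqv P (s * m) (m * s) ∧ s * b₀ * s⁻¹ ∈ P.B ∧ len P (s * m * s⁻¹) = len P m := by
  have hsN : s ∈ P.N := S_mem_N hs
  have hsm : s * m ∈ P.N := P.N.mul_mem hsN hm
  have hms : m * s ∈ P.N := P.N.mul_mem hm hsN
  have hy0 : s * m * b₀ ∈ C P (s * m) := mul_right_mem_C hb₀ (mem_C_self _)
  have ey : s * (m * b₀) * s⁻¹ = s * m * b₀ * s⁻¹ := by group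
  -- the conjugate lies in the double coset of `s m s`
  have hlen : len P (s * m * s) ≤ len P m := by
    rcases mul_S_inv_mem_C hs hsm hy0 with h | h
    · exact hmax s (s * m * s) (P.N.mul_mem hsm hsN) (by rw [ey]; exact h)
    · have := hmax s (s * m) hsm (by rw [ey]; exact h)
      omega
  have hlen' : len P (s * m * s) = len P m := by
    have e : s * m * s = s * (m * s) := by group
    rw [e] at hlen ⊢
    rcases len_smul_cases hs hms with h | h <;> omega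
  have hE : Eqv P (s * m) (m * s) := by
    apply eqv_of_len hs hs hm (by omega)
    have e : s * (m * s) = s * m * s := by group
    rw [e]; omega
  have hE2 : Eqv P (s * m * s⁻¹) (s * m * s) := eqv_mul_S_inv hs
  have hlen'' : len P (s * m * s⁻¹) = len P m := by rw [len_congr hE2, hlen']
  refine ⟨hE, ?_, hlen''⟩
  by_contra hnb
  rcases conj_S_mem hs hb₀ with h | h
  · exact hnb h
  · obtain ⟨b₁, hb₁, b₂, hb₂, e⟩ := mem_C_iff.1 h
    have hn' : s * m * s⁻¹ ∈ P.N := P.N.mul_mem hsm (P.N.inv_mem hsN)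
    have e4 : s * m * s⁻¹ * s = s * m := by group
    have hle : len P (s * m * s⁻¹) ≤ len P (s * m * s⁻¹ * s) := by
      rw [e4, hlen'', h2]; omega
    have h5 := mul_S_mem_C_of_len_le hs hn' hle hb₁
    rw [e4] at h5
    have e5 : s * (m * b₀) * s⁻¹ = (s * m * s⁻¹ * b₁ * s) * b₂ := by
      have : s * (m * b₀) * s⁻¹ = (s * m * s⁻¹) * (s * b₀ * s⁻¹) := by group
      rw [this, e]; group
    have := hmax s (s * m) hsm (by rw [e5]; exact mul_right_mem_C hb₂ h5)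
    omega

/-- an involution `m b₀`: `m² ∈ B` and `m b₀ m⁻¹ ∈ B` -/
theorem invol_cell {m b₀ : G} (hm : m ∈ P.N) (hb₀ : b₀ ∈ P.B) (hinv : (m * b₀) * (m * b₀) = 1) :
    m * m ∈ P.B ∧ m * b₀ * m⁻¹ ∈ P.B := by
  have e1 : m⁻¹ = b₀ * m * b₀ := by
    have : m * (b₀ * m * b₀) = 1 := by rw [← hinv]; group
    exact inv_eq_of_mul_eq_one_right this
  have h1 : m⁻¹ ∈ C P m := by
    rw [e1]
    exact mem_C_iff.2 ⟨b₀, hb₀, b₀, hb₀, rfl⟩
  have h2 : Eqv P m m⁻¹ := eqv_of_mem_C hm (P.N.inv_mem hm) h1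
  have h3 : m * m ∈ P.B := by
    have : (m⁻¹ * m⁻¹)⁻¹ = m * m := by rw [mul_inv_rev, inv_inv]
    rw [← this]
    exact P.B.inv_mem h2
  refine ⟨h3, ?_⟩
  have e2 : m * b₀ * m⁻¹ = b₀⁻¹ * (m * m)⁻¹ := by
    have h4 : m * b₀ = (m * b₀)⁻¹ := (inv_eq_of_mul_eq_one_right hinv).symm
    calc m * b₀ * m⁻¹ = (m * b₀)⁻¹ * m⁻¹ := by rw [← h4]
      _ = b₀⁻¹ * (m * m)⁻¹ := by group
  rw [e2]
  exact P.B.mul_mem (P.B.inv_mem hb₀) (P.B.inv_mem h3)

end Cfsg.Agent.Lib.H12.InvCell
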