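import Mathlib
import Cfsg.Prelude.Def_LieExceptional
import Cfsg.Agent.Lib.H12.InvCell1
import Cfsg.Agent.Lib.H29.ChevGen39

/-!
# Involutions in a double coset of maximal length: the translation to the roots

For a Chevalley group with its (B,N)-pair: if `y = m v` (`m ∈ N`, `v ∈ U`, `m² ∈ H`) has no conjugate in a double coset
longer than `B m B`, then every fundamental root `p_i` that `m` keeps positive is fixed by `m`, `n_i v n_i⁻¹ ∈ B`, and
`n_i m n_i⁻¹` has the same length as `m`.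
-/

set_option autoImplicit false
set_option linter.unusedSectionVars false
set_option linter.unusedVariables false
set_option linter.unusedSimpArgs false

namespace Cfsg.Agent.Lib.H12.InvCell

open Cfsg Cfsg.Lie Matrix Cfsg.Agent.Lib.H2.BN Cfsg.Agent.Lib.H29.Chev

variable {D : ChevalleyDatum} {fd : FD} {fx : FX} {fc : FC} {fz : FZ} {F : Type*} [Field F]

section Gen

variable (C : Cert12 D fd fx fc fz)

/-- `ℓ(s n) = ℓ(n) + 1` when `n⁻¹` maps the fundamental root of `s` to a positive root -/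
theorem len_up_left (i : ℕ) (hi : i < fd.l) (n₁ s : ↥(D.group F)) (hn₁ : n₁ ∈ (C.c6.bnPair F).N)
    (hs : (s : GL D.Idx F) = C.c6.c2.nG (fd.simples.getD i 0) (C.c6.c2.simple_lt i hi))
    (π : ℕ → ℕ) (hπ : C.c6.c2.Perm ((n₁ : GL D.Idx F))⁻¹ π) (hpos : fd.n / 2 ≤ π (fd.simples.getD i 0)) :
    len (C.c6.bnPair F) (s * n₁) = len (C.c6.bnPair F) n₁ + 1 := by
  have hsS : s ∈ (C.c6.bnPair F).S := by
    show (s : GL D.Idx F) ∈ SSet D F
    rw [hs]; exact C.c6.nG_mem_SSet i hi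
  have hnN : (n₁ : GL D.Idx F) ∈ D.monomialSubgroup F := Subgroup.mem_subgroupOf.mp hn₁
  apply len_smul_of_subset (P := C.c6.bnPair F) hsS hn₁
  intro b hb
  have hb' : (b : GL D.Idx F) ∈ D.borelSubgroup F := Subgroup.mem_subgroupOf.mp hb
  have := C.c6.nG_mul_borel_mul_pos i hi _ hnN _ hπ hpos (b : GL D.Idx F) hb'
  rw [DoubleCoset.mem_doubleCoset] at this
  obtain ⟨b₁, hb₁, b₂, hb₂, e⟩ := this
  rw [mem_C_iff]
  refine ⟨⟨b₁, C.c6.c2.borel_le_group hb₁⟩, Subgroup.mem_subgroupOf.mpr hb₁,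
    ⟨b₂, C.c6.c2.borel_le_group hb₂⟩, Subgroup.mem_subgroupOf.mpr hb₂, ?_⟩
  apply Subtype.ext
  simp only [Subgroup.coe_mul]
  rw [hs]
  exact e

/-- `ℓ(n s) = ℓ(n) + 1` when `n` maps the fundamental root of `s` to a positive root -/
theorem len_up_right (i : ℕ) (hi : i < fd.l) (n₁ s : ↥(D.group F)) (hn₁ : n₁ ∈ (C.c6.bnPair F).N)
    (hs : (s : GL D.Idx F) = C.c6.c2.nG (fd.simples.getD i 0) (C.c6.c2.simple_lt i hi))
    (π : ℕ → ℕ) (hπ : C.c6.c2.Perm (n₁ : GL D.Idx F) π) (hpos : fd.n / 2 ≤ π (fd.simples.getD i 0)) :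
    len (C.c6.bnPair F) (n₁ * s) = len (C.c6.bnPair F) n₁ + 1 := by
  have hsS : s ∈ (C.c6.bnPair F).S := by
    show (s : GL D.Idx F) ∈ SSet D F
    rw [hs]; exact C.c6.nG_mem_SSet i hi
  have hsN : s ∈ (C.c6.bnPair F).N := S_mem_N hsS
  have hn' : n₁⁻¹ ∈ (C.c6.bnPair F).N := (C.c6.bnPair F).N.inv_mem hn₁
  have hπ' : C.c6.c2.Perm (((n₁⁻¹ : ↥(D.group F)) : GL D.Idx F))⁻¹ π := by
    rw [Subgroup.coe_inv, inv_inv]; exact hπ
  have h1 := len_up_left C i hi n₁⁻¹ s hn' hs π hπ' hpos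
  have h2 : len (C.c6.bnPair F) (n₁ * s⁻¹) = len (C.c6.bnPair F) (s * n₁⁻¹) := by
    have e : n₁ * s⁻¹ = (s * n₁⁻¹)⁻¹ := by group
    rw [e, len_inv ((C.c6.bnPair F).N.mul_mem hsN hn')]
  rw [← len_mul_S_inv hsS, h2, h1, len_inv hn₁]

/-- the permutation of an element of `N` whose square lies in `H` is an involution, and is the permutation of the inverse -/
theorem perm_of_sq_mem_diag (m : GL D.Idx F) (π : ℕ → ℕ) (hπ : C.c6.c2.Perm m π)
    (hmm : m * m ∈ D.diagonalSubgroup F) :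
    (∀ s < fd.n, π (π s) = s) ∧ C.c6.c2.Perm m⁻¹ π := by
  have h1 := C.perm_unique (m * m) _ _ (C.c6.perm_mul hπ hπ) (C.c6.perm_diag _ hmm)
  refine ⟨fun s hs => h1 s hs, ?_⟩
  have e : m⁻¹ = m * (m * m)⁻¹ := by group
  rw [e]
  have := C.c6.perm_mul hπ (C.c6.perm_diag _ (inv_mem hmm))
  exact C.perm_congr _ _ _ this (fun s _ => rfl)

/-- the main step, at the level of the roots -/
theorem max_cell_root (m v : GL D.Idx F) (hm : m ∈ D.monomialSubgroup F) (hv : v ∈ D.posUnipotent F)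
    (π : ℕ → ℕ) (hπ : C.c6.c2.Perm m π) (hmm : m * m ∈ D.diagonalSubgroup F)
    (hmax : ∀ z n : ↥(D.group F), n ∈ (C.c6.bnPair F).N →
      z * (⟨m, C.c6.c2.monomial_le_group hm⟩ * ⟨v, C.c6.c2.borel_le_group ((le_sup_left : D.posUnipotent F ≤ _) hv)⟩) * z⁻¹ ∈
        Cfsg.Agent.Lib.H2.BN.C (C.c6.bnPair F) n →
      len (C.c6.bnPair F) n ≤ len (C.c6.bnPair F) (⟨m, C.c6.c2.monomial_le_group hm⟩ : ↥(D.group F)))
    (i : ℕ) (hi : i < fd.l) (hpos : fd.n / 2 ≤ π (fd.simples.getD i 0)) :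
    π (fd.simples.getD i 0) = fd.simples.getD i 0 ∧
    C.c6.c2.nG (fd.simples.getD i 0) (C.c6.c2.simple_lt i hi) * v *
      (C.c6.c2.nG (fd.simples.getD i 0) (C.c6.c2.simple_lt i hi))⁻¹ ∈ D.borelSubgroup F ∧
    ∃ hN : C.c6.c2.nG (fd.simples.getD i 0) (C.c6.c2.simple_lt i hi) * m *
        (C.c6.c2.nG (fd.simples.getD i 0) (C.c6.c2.simple_lt i hi))⁻¹ ∈ D.monomialSubgroup F,
      len (C.c6.bnPair F) (⟨_, C.c6.c2.monomial_le_group hN⟩ : ↥(D.group F)) =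
        len (C.c6.bnPair F) (⟨m, C.c6.c2.monomial_le_group hm⟩ : ↥(D.group F)) := by
  have hp := C.c6.c2.simple_lt i hi
  have hev := C.c6.c2.heven
  set sG := C.c6.c2.nG (F := F) (fd.simples.getD i 0) hp with hsG
  have hsN : sG ∈ D.monomialSubgroup F := C.c6.c2.nG_mem_monomial _ hp
  set M : ↥(D.group F) := ⟨m, C.c6.c2.monomial_le_group hm⟩ with hM
  set V : ↥(D.group F) := ⟨v, C.c6.c2.borel_le_group ((le_sup_left : D.posUnipotent F ≤ _) hv)⟩ with hV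
  set s : ↥(D.group F) := ⟨sG, C.c6.c2.monomial_le_group hsN⟩ with hs
  have hMN : M ∈ (C.c6.bnPair F).N := Subgroup.mem_subgroupOf.mpr hm
  have hVB : V ∈ (C.c6.bnPair F).B := Subgroup.mem_subgroupOf.mpr ((le_sup_left : D.posUnipotent F ≤ _) hv)
  have hsS : s ∈ (C.c6.bnPair F).S := by
    show (s : GL D.Idx F) ∈ SSet D F
    exact C.c6.nG_mem_SSet i hi
  obtain ⟨hinv, hπ'⟩ := perm_of_sq_mem_diag C m π hπ hmm
  have h1 : len (C.c6.bnPair F) (M * s) = len (C.c6.bnPair F) M + 1 :=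
    len_up_right C i hi M s hMN rfl π hπ hpos
  have h2 : len (C.c6.bnPair F) (s * M) = len (C.c6.bnPair F) M + 1 :=
    len_up_left C i hi M s hMN rfl π hπ' hpos
  obtain ⟨hE, hB, hL⟩ := max_cell_step hMN hVB hsS hmax h1 h2
  refine ⟨?_, ?_, ?_⟩
  · -- `s m ≡ m s` modulo `H`
    have hE' : ((s * M)⁻¹ * (M * s) : ↥(D.group F)) ∈ (C.c6.bnPair F).B := hE
    have hEB : (sG * m)⁻¹ * (m * sG) ∈ D.borelSubgroup F := by
      have := Subgroup.mem_subgroupOf.mp hE'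
      simpa using this
    have hEH : (sG * m)⁻¹ * (m * sG) ∈ D.diagonalSubgroup F := by
      rw [← C.c6.c2.borel_inf_monomial]
      exact Subgroup.mem_inf.mpr ⟨hEB, mul_mem (inv_mem (mul_mem hsN hm)) (mul_mem hm hsN)⟩
    have hp1 : C.c6.c2.Perm (m * sG) (π ∘ fd.nw fx (fd.simples.getD i 0)) :=
      C.c6.perm_mul hπ (C.c6.perm_nG i hi).1
    have hp2 : C.c6.c2.Perm (sG * m * ((sG * m)⁻¹ * (m * sG))) ((fd.nw fx (fd.simples.getD i 0) ∘ π) ∘ id) :=
      C.c6.perm_mul (C.c6.perm_mul (C.c6.perm_nG i hi).1 hπ) (C.c6.perm_diag _ hEH)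
    have e : sG * m * ((sG * m)⁻¹ * (m * sG)) = m * sG := by group
    rw [e] at hp2
    have hu := C.perm_unique _ _ _ hp1 hp2 (fd.simples.getD i 0) hp
    simp only [Function.comp, id] at hu
    rw [(fd.neg_spec C.c6.c2.neg _ hp).1, (hπ _ hp).2.1] at hu
    -- `s_i (π p_i) = - π p_i` is negative: `π p_i = p_i`
    by_contra hne
    have hlt := (hπ _ hp).1
    have := C.sw_pos i (π (fd.simples.getD i 0)) hi hlt hpos hne
    unfold FD.sw at this
    omega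
  · have := Subgroup.mem_subgroupOf.mp hB
    simpa using this
  · have hN : sG * m * sG⁻¹ ∈ D.monomialSubgroup F := mul_mem (mul_mem hsN hm) (inv_mem hsN)
    refine ⟨hN, ?_⟩
    have e : (⟨sG * m * sG⁻¹, C.c6.c2.monomial_le_group hN⟩ : ↥(D.group F)) = s * M * s⁻¹ := by
      apply Subtype.ext; simp [hs, hM]
    rw [e]; exact hL

end Gen

end Cfsg.Agent.Lib.H12.InvCell
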