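import Mathlib
import Cfsg.Prelude.Def_LieExceptional
import Cfsg.Agent.Lib.H12.InvCell2
import Cfsg.Agent.Lib.H12.F4CentV4

/-!
# Involutions of a Chevalley group over a finite field are conjugate into `N`

The descent: an involution `m v` (`m ∈ N`, `v ∈ U`) in a double coset of maximal length among the conjugates has
`v = 1`. The two combinatorial inputs (`SuppStmt`, `CombStmt`) are taken as hypotheses here.
-/

set_option autoImplicit false
set_option linter.unusedSectionVars false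
set_option linter.unusedVariables false
set_option linter.unusedSimpArgs false

namespace Cfsg.Agent.Lib.H12.InvCell

open Cfsg Cfsg.Lie Matrix Cfsg.Agent.Lib.H2.BN Cfsg.Agent.Lib.H29.Chev Cfsg.Agent.Lib.H12.F4V

variable {D : ChevalleyDatum} {fd : FD} {fx : FX} {fc : FC} {fz : FZ} {F : Type*} [Field F]

/-- the support statement: `v ∈ U` with `m v m⁻¹ ∈ B` only involves the roots kept positive by `m ∈ N` -/
def SuppStmt (C : Cert12 D fd fx fc fz) (F : Type*) [Field F] : Prop :=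
  ∀ (m : GL D.Idx F), m ∈ D.monomialSubgroup F → ∀ (π : ℕ → ℕ), C.c6.c2.Perm m π →
    ∀ v : GL D.Idx F, v ∈ D.posUnipotent F → m * v * m⁻¹ ∈ D.borelSubgroup F →
    ∃ t : ℕ → F, (∀ r, ¬ (fd.n / 2 ≤ π r ∧ fd.n / 2 ≤ r ∧ r < fd.n) → t r = 0) ∧
      v = C.oprod t (fd.n / 2) (fd.n - fd.n / 2)

/-- the combinatorial statement on involutive linear permutations of the roots -/
def CombStmt (fd : FD) (fx : FX) : Prop :=
  ∀ π : ℕ → ℕ, fd.LinP fx π → (∀ s < fd.n, π s < fd.n) → (∀ s < fd.n, π (π s) = s) →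
    (∀ i < fd.l, π (fd.simples.getD i 0) < fd.n / 2 ∨ π (fd.simples.getD i 0) = fd.simples.getD i 0) →
    ∀ r, r < fd.n → fd.n / 2 ≤ r → fd.n / 2 ≤ π r →
    π r = r ∧ ∀ j < fd.l, π (fd.simples.getD j 0) < fd.n / 2 → fd.rcZ fx r j = 0

/-- the tables: a positive root which is not fundamental is lowered by a fundamental reflection -/
def LowStmt (fd : FD) (fx : FX) : Prop :=
  ∀ r, r < fd.n → fd.n / 2 ≤ r → (∀ i < fd.l, r ≠ fd.simples.getD i 0) →
    ∃ i < fd.l, fd.n / 2 ≤ fd.sw fx i r ∧ fd.ht fx (fd.sw fx i r) < fd.ht fx r ∧ fd.rcZ fx r i ≠ 0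

section Gen

variable (C : Cert12 D fd fx fc fz)
include C

omit C in
/-- the list of the positive roots with the parameters `t` -/
def posList (fd : FD) (t : ℕ → F) : List (ℕ × F) := (List.range' (fd.n / 2) (fd.n - fd.n / 2)).map fun r => (r, t r)

theorem oprod_eq_lp (t : ℕ → F) : C.oprod t (fd.n / 2) (fd.n - fd.n / 2) = F4V.lp C (posList fd t) := by
  unfold Cert12.oprod F4V.lp posList
  rw [List.map_map]
  rfl

theorem mem_posList (t : ℕ → F) (p : ℕ × F) : p ∈ posList fd t ↔ fd.n / 2 ≤ p.1 ∧ p.1 < fd.n ∧ p.2 = t p.1 := by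
  have hev := C.c6.c2.heven
  unfold posList
  rw [List.mem_map]
  constructor
  · rintro ⟨r, hr, rfl⟩
    rw [List.mem_range'_1] at hr
    exact ⟨hr.1, by omega, rfl⟩
  · rintro ⟨h1, h2, h3⟩
    refine ⟨p.1, ?_, ?_⟩
    · rw [List.mem_range'_1]; omega
    · rw [← h3]

omit C in
theorem posList_nodup (t : ℕ → F) : ((posList fd t).map Prod.fst).Nodup := by
  unfold posList
  rw [List.map_map]
  have : (Prod.fst ∘ fun r => (r, t r)) = id := by funext r; rfl
  rw [this, List.map_id]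
  exact List.nodup_range'

/-- a conjugate `m v` of `g'` with `m ∈ N` of length `K`, `v ∈ U` -/
def Good (g' : ↥(D.group F)) (K : ℕ) (m v : GL D.Idx F) : Prop :=
  v ∈ D.posUnipotent F ∧ (∃ z : ↥(D.group F), ((z * g' * z⁻¹ : ↥(D.group F)) : GL D.Idx F) = m * v) ∧
    ∃ hm : m ∈ D.monomialSubgroup F,
      len (C.c6.bnPair F) (⟨m, C.c6.c2.monomial_le_group hm⟩ : ↥(D.group F)) = K

theorem good_invol (g' : ↥(D.group F)) (hg2 : g' * g' = 1) (K : ℕ) (m v : GL D.Idx F) (h : Good C g' K m v) :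
    (m * v) * (m * v) = 1 := by
  obtain ⟨_, ⟨z, hz⟩, _⟩ := h
  rw [← hz]
  have : (z * g' * z⁻¹) * (z * g' * z⁻¹) = 1 := by
    have e : (z * g' * z⁻¹) * (z * g' * z⁻¹) = z * (g' * g') * z⁻¹ := by group
    rw [e, hg2]; group
  have := congrArg (Subtype.val : ↥(D.group F) → GL D.Idx F) this
  simpa using this

theorem good_cell (g' : ↥(D.group F)) (hg2 : g' * g' = 1) (K : ℕ) (m v : GL D.Idx F) (h : Good C g' K m v) :
    m * m ∈ D.diagonalSubgroup F ∧ m * v * m⁻¹ ∈ D.borelSubgroup F := by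
  have hsq := good_invol C g' hg2 K m v h
  obtain ⟨hv, _, hm, _⟩ := h
  have hvB : v ∈ D.borelSubgroup F := (le_sup_left : D.posUnipotent F ≤ _) hv
  set M : ↥(D.group F) := ⟨m, C.c6.c2.monomial_le_group hm⟩ with hM
  set V : ↥(D.group F) := ⟨v, C.c6.c2.borel_le_group hvB⟩ with hV
  have hMN : M ∈ (C.c6.bnPair F).N := Subgroup.mem_subgroupOf.mpr hm
  have hVB : V ∈ (C.c6.bnPair F).B := Subgroup.mem_subgroupOf.mpr hvB
  have hsq' : (M * V) * (M * V) = 1 := by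
    apply Subtype.ext
    simpa [hM, hV] using hsq
  obtain ⟨h1, h2⟩ := invol_cell (P := C.c6.bnPair F) hMN hVB hsq'
  have h1' : m * m ∈ D.borelSubgroup F := by
    have := Subgroup.mem_subgroupOf.mp h1
    simpa [hM] using this
  have h2' : m * v * m⁻¹ ∈ D.borelSubgroup F := by
    have := Subgroup.mem_subgroupOf.mp h2
    simpa [hM, hV] using this
  refine ⟨?_, h2'⟩
  rw [← C.c6.c2.borel_inf_monomial]
  exact Subgroup.mem_inf.mpr ⟨h1', mul_mem hm hm⟩

theorem good_max (g' : ↥(D.group F)) (K : ℕ)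
    (hK : ∀ z n : ↥(D.group F), n ∈ (C.c6.bnPair F).N →
      z * g' * z⁻¹ ∈ Cfsg.Agent.Lib.H2.BN.C (C.c6.bnPair F) n → len (C.c6.bnPair F) n ≤ K)
    (m v : GL D.Idx F) (hm : m ∈ D.monomialSubgroup F) (hv : v ∈ D.posUnipotent F)
    (hz : ∃ z : ↥(D.group F), ((z * g' * z⁻¹ : ↥(D.group F)) : GL D.Idx F) = m * v)
    (hlen : len (C.c6.bnPair F) (⟨m, C.c6.c2.monomial_le_group hm⟩ : ↥(D.group F)) = K) :
    ∀ z n : ↥(D.group F), n ∈ (C.c6.bnPair F).N →
      z * (⟨m, C.c6.c2.monomial_le_group hm⟩ * ⟨v, C.c6.c2.borel_le_group ((le_sup_left : D.posUnipotent F ≤ _) hv)⟩) * z⁻¹ ∈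
        Cfsg.Agent.Lib.H2.BN.C (C.c6.bnPair F) n →
      len (C.c6.bnPair F) n ≤ len (C.c6.bnPair F) (⟨m, C.c6.c2.monomial_le_group hm⟩ : ↥(D.group F)) := by
  intro z n hn hzn
  obtain ⟨z₀, hz₀⟩ := hz
  have e : (⟨m, C.c6.c2.monomial_le_group hm⟩ * ⟨v, C.c6.c2.borel_le_group ((le_sup_left : D.posUnipotent F ≤ _) hv)⟩ :
      ↥(D.group F)) = z₀ * g' * z₀⁻¹ := by
    apply Subtype.ext
    rw [hz₀]
    rfl
  rw [e] at hzn
  rw [hlen]
  apply hK (z * z₀) n hn
  have e2 : z * z₀ * g' * (z * z₀)⁻¹ = z * (z₀ * g' * z₀⁻¹) * z⁻¹ := by group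
  rw [e2]
  exact hzn

/-- if `n_i v n_i⁻¹ ∈ B` then the coordinate of `v` at `p_i` vanishes -/
theorem coord_simple_zero (hS : SuppStmt C F) (i : ℕ) (hi : i < fd.l) (t : ℕ → F)
    (hB : C.c6.c2.nG (fd.simples.getD i 0) (C.c6.c2.simple_lt i hi) * C.oprod t (fd.n / 2) (fd.n - fd.n / 2) *
      (C.c6.c2.nG (fd.simples.getD i 0) (C.c6.c2.simple_lt i hi))⁻¹ ∈ D.borelSubgroup F) :
    t (fd.simples.getD i 0) = 0 := by
  have hev := C.c6.c2.heven
  have hp := C.c6.c2.simple_lt i hi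
  have hpp := C.c6.simple_pos i hi
  have hk : fd.n / 2 + (fd.n - fd.n / 2) = fd.n := by omega
  have hvU : C.oprod t (fd.n / 2) (fd.n - fd.n / 2) ∈ D.posUnipotent F := by
    rw [C.posUnipotent_eq]
    exact C.oprod_mem _ t _ _ hk (le_refl _) (fun _ _ _ h => absurd trivial h)
  obtain ⟨t', ht', e⟩ := hS _ (C.c6.c2.nG_mem_monomial _ hp) _ (C.c6.perm_nG i hi).1 _ hvU hB
  have hu := C.oprod_unique _ _ hk (le_refl _) t t' e (fd.simples.getD i 0) hpp hp
  rw [hu]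
  apply ht'
  rintro ⟨h1, _, _⟩
  rw [(fd.neg_spec C.c6.c2.neg _ hp).1] at h1
  omega

omit C in
theorem list_prod_GF' (wt : D.Idx → ℤ) (k : ℤ) (hk : 0 < k) (L : List (GL D.Idx F))
    (hL : ∀ x ∈ L, ((x : GL D.Idx F) : Matrix D.Idx D.Idx F) ∈ GF D F wt k) :
    ((L.prod : GL D.Idx F) : Matrix D.Idx D.Idx F) ∈ GF D F wt k := by
  induction L with
  | nil => simpa using GF_one (D := D) (F := F) wt k
  | cons x L ih =>
    rw [List.prod_cons, Units.val_mul]
    exact GF_mul wt k hk _ _ (hL x List.mem_cons_self) (ih fun y hy => hL y (List.mem_cons_of_mem _ hy))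

/-- a product of root elements lies in the level `k` when the non-zero parameters sit at height `≥ k` -/
theorem lp_mem_GF (L : List (ℕ × F)) (hL : ∀ p ∈ L, p.1 < fd.n) (k : ℤ) (hk : 0 < k)
    (h : ∀ p ∈ L, p.2 ≠ 0 → k ≤ fd.ht fx p.1) :
    ((F4V.lp C L : GL D.Idx F) : Matrix D.Idx D.Idx F) ∈ GF D F (fd.wtA fx D hwt) k :=
  list_prod_GF' _ k hk _ (lp_GF C L hL k hk h)

/-- the list obtained from the positive roots by a fundamental reflection -/
noncomputable def swList (i : ℕ) (hi : i < fd.l) (t : ℕ → F) : List (ℕ × F) :=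
  (posList fd t).map fun p => (fd.nw fx (fd.simples.getD i 0) p.1, pc C (C.c6.perm_nG (F := F) i hi).1 p.1 * p.2)

theorem conj_simple_posList (i : ℕ) (hi : i < fd.l) (t : ℕ → F) (ht : t (fd.simples.getD i 0) = 0) :
    C.c6.c2.nG (fd.simples.getD i 0) (C.c6.c2.simple_lt i hi) * F4V.lp C (posList fd t) *
      (C.c6.c2.nG (fd.simples.getD i 0) (C.c6.c2.simple_lt i hi))⁻¹ = F4V.lp C (swList C i hi t) ∧
    (∀ p ∈ swList C i hi t, p.2 ≠ 0 → p.1 < fd.n ∧ fd.n / 2 ≤ p.1) ∧ ((swList C i hi t).map Prod.fst).Nodup := by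
  have hL1 : ∀ p ∈ posList fd t, p.1 < fd.n := fun p hp => ((mem_posList C t p).mp hp).2.1
  refine ⟨conj_lp C (C.c6.perm_nG (F := F) i hi).1 (posList fd t) hL1, ?_, ?_⟩
  · intro p hp hne
    obtain ⟨q, hq, rfl⟩ := List.mem_map.mp hp
    obtain ⟨h1, h2, h3⟩ := (mem_posList C t q).mp hq
    simp only at hne ⊢
    have hq2 : q.2 ≠ 0 := right_ne_zero_of_mul hne
    have hqne : q.1 ≠ fd.simples.getD i 0 := by
      intro h
      rw [h3, h, ht] at hq2
      exact hq2 rfl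
    exact ⟨C.sw_lt i q.1 hi h2, C.sw_pos i q.1 hi h2 h1 hqne⟩
  · unfold swList
    rw [List.map_map]
    have e : (Prod.fst ∘ fun p : ℕ × F => (fd.nw fx (fd.simples.getD i 0) p.1,
        pc C (C.c6.perm_nG (F := F) i hi).1 p.1 * p.2)) = fd.nw fx (fd.simples.getD i 0) ∘ Prod.fst := by
      funext p; rfl
    rw [e, ← List.map_map]
    apply List.Nodup.map_on _ (posList_nodup t)
    intro a ha b hb hab
    obtain ⟨p, hp, rfl⟩ := List.mem_map.mp ha
    obtain ⟨q, hq, rfl⟩ := List.mem_map.mp hb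
    have h1 := C.sw_sw i p.1 hi (hL1 p hp)
    have h2 := C.sw_sw i q.1 hi (hL1 q hq)
    unfold FD.sw at h1 h2
    rw [← h1, ← h2, hab]

/-- the inductive step of the descent -/
theorem descent_step (hS : SuppStmt C F) (hC : CombStmt fd fx) (hlow : LowStmt fd fx)
    (g' : ↥(D.group F)) (hg2 : g' * g' = 1) (K : ℕ)
    (hK : ∀ z n : ↥(D.group F), n ∈ (C.c6.bnPair F).N →
      z * g' * z⁻¹ ∈ Cfsg.Agent.Lib.H2.BN.C (C.c6.bnPair F) n → len (C.c6.bnPair F) n ≤ K)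
    (k : ℤ) (hk : 0 < k)
    (IH : ∀ m' v' : GL D.Idx F, Good C g' K m' v' →
      ((v' : GL D.Idx F) : Matrix D.Idx D.Idx F) ∈ GF D F (fd.wtA fx D hwt) k)
    (m v : GL D.Idx F) (hgood : Good C g' K m v) :
    ((v : GL D.Idx F) : Matrix D.Idx D.Idx F) ∈ GF D F (fd.wtA fx D hwt) (k + 1) := by
  have hev := C.c6.c2.heven
  have hvk := IH m v hgood
  obtain ⟨hmm, hmv⟩ := good_cell C g' hg2 K m v hgood
  obtain ⟨hv, hz, hm, hlen⟩ := hgood
  have hmax := good_max C g' K hK m v hm hv hz hlen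
  obtain ⟨⟨π, hπ, hlin⟩, _⟩ := C.perm_lin m hm
  obtain ⟨hinv, hπ'⟩ := perm_of_sq_mem_diag C m π hπ hmm
  have hJ : ∀ i < fd.l, π (fd.simples.getD i 0) < fd.n / 2 ∨ π (fd.simples.getD i 0) = fd.simples.getD i 0 := by
    intro i hi
    by_cases h : π (fd.simples.getD i 0) < fd.n / 2
    · exact Or.inl h
    · exact Or.inr (max_cell_root C m v hm hv π hπ hmm hmax i hi (not_lt.mp h)).1
  obtain ⟨t, ht0, hvt⟩ := hS m hm π hπ v hv hmv
  have hvl : v = F4V.lp C (posList fd t) := by rw [hvt, oprod_eq_lp]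
  have hL1 : ∀ p ∈ posList fd t, p.1 < fd.n := fun p hp => ((mem_posList C t p).mp hp).2.1
  -- the non-zero coordinates have height at least `k`
  have hge : ∀ r, fd.n / 2 ≤ r → r < fd.n → t r ≠ 0 → ¬ fd.ht fx r < k := by
    intro r h1 h2 h3
    have hmem : (r, t r) ∈ posList fd t := (mem_posList C t (r, t r)).mpr ⟨h1, h2, rfl⟩
    exact C.list_prod_GF_zero' (posList fd t)
      (fun p hp _ => ⟨hL1 p hp, ((mem_posList C t p).mp hp).1⟩) (posList_nodup t) k
      (by rw [hvl] at hvk; exact hvk) (r, t r) hmem h3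
  -- no non-zero coordinate has height exactly `k`
  have hne : ∀ r, fd.n / 2 ≤ r → r < fd.n → t r ≠ 0 → fd.ht fx r ≠ k := by
    intro r h1 h2 h3 hrk
    have hπr : fd.n / 2 ≤ π r := by
      by_contra h
      exact h3 (ht0 r (fun hh => h hh.1))
    obtain ⟨hfix, hcoord⟩ := hC π hlin (fun s hs => (hπ s hs).1) hinv hJ r h2 h1 hπr
    by_cases hs : ∃ i < fd.l, r = fd.simples.getD i 0
    · obtain ⟨i, hi, rfl⟩ := hs
      obtain ⟨_, hB, _⟩ := max_cell_root C m v hm hv π hπ hmm hmax i hi hπr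
      rw [hvt] at hB
      exact h3 (coord_simple_zero C hS i hi t hB)
    · push Not at hs
      obtain ⟨i, hi, hsp, hsh, hci⟩ := hlow r h2 h1 hs
      have hπi : fd.n / 2 ≤ π (fd.simples.getD i 0) := by
        by_contra h
        exact hci (hcoord i hi (not_le.mp h))
      obtain ⟨_, hB, hN, hL⟩ := max_cell_root C m v hm hv π hπ hmm hmax i hi hπi
      have hB' := hB
      rw [hvt] at hB'
      have hti := coord_simple_zero C hS i hi t hB'
      obtain ⟨e1, e2, e3⟩ := conj_simple_posList C i hi t hti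
      set sG := C.c6.c2.nG (F := F) (fd.simples.getD i 0) (C.c6.c2.simple_lt i hi) with hsG
      have hsN : sG ∈ D.monomialSubgroup F := C.c6.c2.nG_mem_monomial _ _
      -- the new pair
      have hv' : sG * v * sG⁻¹ ∈ D.posUnipotent F := by
        rw [hvl, e1]
        exact lp_mem_pos C _ e2
      have hgood' : Good C g' K (sG * m * sG⁻¹) (sG * v * sG⁻¹) := by
        refine ⟨hv', ?_, hN, by rw [hL, hlen]⟩
        obtain ⟨z₀, hz₀⟩ := hz
        refine ⟨⟨sG, C.c6.c2.monomial_le_group hsN⟩ * z₀, ?_⟩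
        have e : (⟨sG, C.c6.c2.monomial_le_group hsN⟩ * z₀ * g' * (⟨sG, C.c6.c2.monomial_le_group hsN⟩ * z₀)⁻¹ :
            ↥(D.group F)) = ⟨sG, C.c6.c2.monomial_le_group hsN⟩ * (z₀ * g' * z₀⁻¹) *
              (⟨sG, C.c6.c2.monomial_le_group hsN⟩ : ↥(D.group F))⁻¹ := by group
        rw [e, Subgroup.coe_mul, Subgroup.coe_mul, hz₀]
        simp only [Subgroup.coe_inv]
        group
      have hv'k := IH _ _ hgood'
      rw [hvl, e1] at hv'k
      have hmem : (fd.nw fx (fd.simples.getD i 0) r, pc C (C.c6.perm_nG (F := F) i hi).1 r * t r) ∈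
          swList C i hi t :=
        List.mem_map.mpr ⟨(r, t r), (mem_posList C t (r, t r)).mpr ⟨h1, h2, rfl⟩, rfl⟩
      have := C.list_prod_GF_zero' (swList C i hi t) e2 e3 k hv'k _ hmem
        (mul_ne_zero (pc_ne_zero C _ r h2) h3)
      unfold FD.sw at hsh
      simp only at this
      omega
  rw [hvl]
  apply lp_mem_GF C (posList fd t) hL1 (k + 1) (by omega)
  intro p hp hp0
  obtain ⟨h1, h2, h3⟩ := (mem_posList C t p).mp hp
  rw [h3] at hp0
  have := hge p.1 h1 h2 hp0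
  have := hne p.1 h1 h2 hp0
  omega

/-- in a good pair the unipotent part is trivial -/
theorem good_eq_one (hS : SuppStmt C F) (hC : CombStmt fd fx) (hlow : LowStmt fd fx)
    (g' : ↥(D.group F)) (hg2 : g' * g' = 1) (K : ℕ)
    (hK : ∀ z n : ↥(D.group F), n ∈ (C.c6.bnPair F).N →
      z * g' * z⁻¹ ∈ Cfsg.Agent.Lib.H2.BN.C (C.c6.bnPair F) n → len (C.c6.bnPair F) n ≤ K)
    (m v : GL D.Idx F) (hgood : Good C g' K m v) : v = 1 := by
  have hev := C.c6.c2.heven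
  have hk0 : fd.n / 2 + (fd.n - fd.n / 2) = fd.n := by omega
  -- all the levels
  have hall : ∀ j : ℕ, ∀ m' v' : GL D.Idx F, Good C g' K m' v' →
      ((v' : GL D.Idx F) : Matrix D.Idx D.Idx F) ∈ GF D F (fd.wtA fx D hwt) ((j : ℤ) + 1) := by
    intro j
    induction j with
    | zero =>
      intro m' v' hg'
      obtain ⟨hv', _, _, _⟩ := hg'
      rw [C.posUnipotent_eq] at hv'
      obtain ⟨t, _, rfl⟩ := C.Vm_oprod _ C.closed_true _ _ hk0 (le_refl _) v' hv'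
      rw [oprod_eq_lp]
      apply lp_mem_GF C _ (fun p hp => ((mem_posList C t p).mp hp).2.1) _ (by norm_num)
      intro p hp _
      obtain ⟨h1, h2, _⟩ := (mem_posList C t p).mp hp
      have := C.ht_pos p.1 h2 h1
      simp only [Nat.cast_zero, zero_add]
      omega
    | succ j ih =>
      intro m' v' hg'
      have := descent_step C hS hC hlow g' hg2 K hK ((j : ℤ) + 1) (by omega) ih m' v' hg'
      simpa using this
  obtain ⟨M, hM⟩ := Finset.exists_le ((Finset.range fd.n).image (fd.ht fx))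
  have hvM := hall M.toNat m v hgood
  obtain ⟨hv, _, _, _⟩ := hgood
  rw [C.posUnipotent_eq] at hv
  obtain ⟨t, _, rfl⟩ := C.Vm_oprod _ C.closed_true _ _ hk0 (le_refl _) v hv
  rw [oprod_eq_lp] at hvM ⊢
  have hz : ∀ p ∈ posList fd t, p.2 = 0 := by
    intro p hp
    by_contra hne
    obtain ⟨h1, h2, _⟩ := (mem_posList C t p).mp hp
    have := C.list_prod_GF_zero' (posList fd t)
      (fun q hq _ => ⟨((mem_posList C t q).mp hq).2.1, ((mem_posList C t q).mp hq).1⟩) (posList_nodup t) _ hvM p hp hne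
    have h3 := hM (fd.ht fx p.1) (Finset.mem_image.mpr ⟨p.1, Finset.mem_range.mpr h2, rfl⟩)
    have h4 := Int.self_le_toNat M
    omega
  apply List.prod_eq_one
  intro x hx
  obtain ⟨p, hp, rfl⟩ := List.mem_map.mp hx
  rw [hz p hp, C.c6.c2.xA_zero]

/-- **every involution of a Chevalley group over a finite field is conjugate into `N`**, to an element whose
permutation `π` of the roots fixes every fundamental root that it keeps positive -/
theorem exists_conj_monomial [Finite F] (hS : SuppStmt C F) (hC : CombStmt fd fx) (hlow : LowStmt fd fx)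
    (g : GL D.Idx F) (hg : g ∈ D.group F) (hg2 : g * g = 1) :
    ∃ z ∈ D.group F, ∃ m ∈ D.monomialSubgroup F, z * g * z⁻¹ = m ∧ ∃ π : ℕ → ℕ, C.c6.c2.Perm m π ∧ fd.LinP fx π ∧
      (∀ s < fd.n, π (π s) = s) ∧
      (∀ i < fd.l, π (fd.simples.getD i 0) < fd.n / 2 ∨ π (fd.simples.getD i 0) = fd.simples.getD i 0) ∧
      (∀ r, r < fd.n → fd.n / 2 ≤ r → fd.n / 2 ≤ π r →
        π r = r ∧ ∀ j < fd.l, π (fd.simples.getD j 0) < fd.n / 2 → fd.rcZ fx r j = 0) := by
  classical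
  set P := C.c6.bnPair F with hP
  set g' : ↥(D.group F) := ⟨g, hg⟩ with hg'
  have hg2' : g' * g' = 1 := by
    apply Subtype.ext
    simpa [hg'] using hg2
  have : Finite (GL D.Idx F) := inferInstance
  have : Finite ↥(D.group F) := inferInstance
  -- a conjugate in a double coset of maximal length
  let T := {p : ↥(D.group F) × ↥(D.group F) // p.2 ∈ P.N ∧ p.1 * g' * p.1⁻¹ ∈ Cfsg.Agent.Lib.H2.BN.C P p.2}
  obtain ⟨n₁, hn₁, hgn₁⟩ := bruhat (P := P) g'
  have : Nonempty T := ⟨⟨(1, n₁), hn₁, by simpa using hgn₁⟩⟩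
  have : Finite T := inferInstance
  obtain ⟨x₀, hx₀⟩ := Finite.exists_max (fun p : T => len P p.val.2)
  obtain ⟨⟨z₀, n₀⟩, hn₀, hy₀⟩ := x₀
  simp only at hn₀ hy₀ hx₀
  set K := len P n₀ with hKdef
  have hK : ∀ z n : ↥(D.group F), n ∈ P.N → z * g' * z⁻¹ ∈ Cfsg.Agent.Lib.H2.BN.C P n → len P n ≤ K :=
    fun z n hn hz => hx₀ ⟨(z, n), hn, hz⟩
  obtain ⟨b₁, hb₁, b₂, hb₂, ey⟩ := mem_C_iff.1 hy₀
  have hb₀ : ((b₂ * b₁ : ↥(D.group F)) : GL D.Idx F) ∈ D.borelSubgroup F :=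
    Subgroup.mem_subgroupOf.mp (P.B.mul_mem hb₂ hb₁)
  obtain ⟨u, hu, k, hk, euk⟩ := C.c6.c2.borel_mem _ hb₀
  have hn₀N : (n₀ : GL D.Idx F) ∈ D.monomialSubgroup F := Subgroup.mem_subgroupOf.mp hn₀
  have hkN : k ∈ D.monomialSubgroup F := (le_sup_left : D.diagonalSubgroup F ≤ D.monomialSubgroup F) hk
  have hm : (n₀ : GL D.Idx F) * k ∈ D.monomialSubgroup F := mul_mem hn₀N hkN
  have hv : k⁻¹ * u * k ∈ D.posUnipotent F := by
    have := (Subgroup.mem_normalizer_iff.mp (C.c6.c2.diag_le_normalizer_pos (inv_mem hk)) u).mp hu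
    rwa [inv_inv] at this
  have hgood : Good C g' K ((n₀ : GL D.Idx F) * k) (k⁻¹ * u * k) := by
    refine ⟨hv, ⟨b₁⁻¹ * z₀, ?_⟩, hm, ?_⟩
    · have e1 : b₁⁻¹ * z₀ * g' * (b₁⁻¹ * z₀)⁻¹ = b₁⁻¹ * (z₀ * g' * z₀⁻¹) * b₁ := by group
      rw [e1, ey]
      have e2 : b₁⁻¹ * (b₁ * n₀ * b₂) * b₁ = n₀ * (b₂ * b₁) := by group
      rw [e2, Subgroup.coe_mul, ← euk]
      group
    · have hE : Eqv P n₀ (⟨(n₀ : GL D.Idx F) * k, C.c6.c2.monomial_le_group hm⟩ : ↥(D.group F)) := by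
        show n₀⁻¹ * (⟨(n₀ : GL D.Idx F) * k, C.c6.c2.monomial_le_group hm⟩ : ↥(D.group F)) ∈ P.B
        apply Subgroup.mem_subgroupOf.mpr
        simp only [Subgroup.coe_mul, Subgroup.coe_inv, inv_mul_cancel_left]
        exact C.c6.diag_le_borel hk
      rw [← len_congr hE]
  have hv1 := good_eq_one C hS hC hlow g' hg2' K hK _ _ hgood
  obtain ⟨hmm, _⟩ := good_cell C g' hg2' K _ _ hgood
  obtain ⟨_, ⟨z, hz⟩, _, hlen⟩ := hgood
  have hmax := good_max C g' K hK _ _ hm hv ⟨z, hz⟩ hlen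
  set m := (n₀ : GL D.Idx F) * k with hmdef
  refine ⟨z, z.property, m, hm, ?_, ?_⟩
  · have : ((z * g' * z⁻¹ : ↥(D.group F)) : GL D.Idx F) = (z : GL D.Idx F) * g * (z : GL D.Idx F)⁻¹ := by
      simp [hg']
    rw [← this, hz, hv1, mul_one]
  · obtain ⟨⟨π, hπ, hlin⟩, _⟩ := C.perm_lin m hm
    obtain ⟨hinv, _⟩ := perm_of_sq_mem_diag C m π hπ hmm
    have hJ : ∀ i < fd.l, π (fd.simples.getD i 0) < fd.n / 2 ∨ π (fd.simples.getD i 0) = fd.simples.getD i 0 := by
      intro i hi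
      by_cases h : π (fd.simples.getD i 0) < fd.n / 2
      · exact Or.inl h
      · exact Or.inr (max_cell_root C m _ hm hv π hπ hmm hmax i hi (not_lt.mp h)).1
    exact ⟨π, hπ, hlin, hinv, hJ, fun r hr hpos hπr => hC π hlin (fun s hs => (hπ s hs).1) hinv hJ r hr hpos hπr⟩

end Gen

end Cfsg.Agent.Lib.H12.InvCell
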