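import Mathlib
import Cfsg.Prelude.Def_LieExceptional
import Cfsg.Agent.Lib.H12.InvCell3
import Cfsg.Agent.Lib.H29.F4Inv3

/-!
# Identification of the involutions of `N`, and the reflections in characteristic two

* `mem_diag_of_table`: an element `m ∈ N` whose permutation `π` satisfies the conclusions of `exists_conj_monomial` is
  `h n_w` with `h ∈ H` for a word `w` passing a decidable test;
* in characteristic two `n_r = x_{-r}(1) x_r(1) x_{-r}(1)⁻¹` for `r = u(p_i)`, and a product of such reflections in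
  strongly commuting roots is conjugate to the product of the root elements `x_r(1)`.
-/

set_option autoImplicit false
set_option linter.unusedSectionVars false
set_option linter.unusedVariables false
set_option linter.unusedSimpArgs false

namespace Cfsg.Agent.Lib.H12.InvCell

open Cfsg Cfsg.Lie Matrix Cfsg.Agent.Lib.H29.Chev Cfsg.Agent.Lib.H12.F4V

variable {D : ChevalleyDatum} {fd : FD} {fx : FX} {fc : FC} {fz : FZ} {F : Type*} [Field F]

section Gen

variable (C : Cert12 D fd fx fc fz)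
include C

/-- the permutation of the inverse of `n_w` -/
theorem perm_wordN_inv (w : List ℕ) (hw : IsWd fd.l w) :
    C.c6.c2.Perm (C.wordN F w)⁻¹ (fd.wordP fx w.reverse) := by
  obtain ⟨_, ⟨ρ, hρ⟩⟩ := C.c6.perm_of_mem (C.wordN F w) (C.wordN_mem w)
  have hWp := C.perm_wordN (F := F) w hw
  have hinv := C.perm_inv (C.wordN F w) _ ρ hWp hρ
  apply C.perm_congr _ _ _ hρ
  intro s hs
  have h1 := hinv.2 s hs
  have h2 := C.wordP_rev w hw (ρ s) (hρ s hs).1
  rw [h1] at h2
  exact h2.symm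

/-- identification of an element of `N` from the fundamental roots it fixes -/
theorem mem_diag_of_table (m : GL D.Idx F) (hm : m ∈ D.monomialSubgroup F) (π : ℕ → ℕ)
    (hπ : C.c6.c2.Perm m π)
    (hcomb : ∀ r, r < fd.n → fd.n / 2 ≤ r → fd.n / 2 ≤ π r →
      ∀ j < fd.l, π (fd.simples.getD j 0) < fd.n / 2 → fd.rcZ fx r j = 0)
    (w : List ℕ) (hw : IsWd fd.l w) (Jb : ℕ → Bool)
    (hJ : ∀ k < fd.l, (Jb k = true → π (fd.simples.getD k 0) = fd.simples.getD k 0) ∧
      (Jb k = false → π (fd.simples.getD k 0) < fd.n / 2))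
    (htab : ∀ i < fd.l, (∃ k < fd.l, Jb k = true ∧ fd.wordP fx w.reverse (fd.simples.getD i 0) = fd.simples.getD k 0) ∨
      (fd.wordP fx w.reverse (fd.simples.getD i 0) < fd.n / 2 ∧
        ∃ j < fd.l, Jb j = false ∧ fd.rcZ fx (fd.n - 1 - fd.wordP fx w.reverse (fd.simples.getD i 0)) j ≠ 0)) :
    m * (C.wordN F w)⁻¹ ∈ D.diagonalSubgroup F ∧ ∀ s < fd.n, π s = fd.wordP fx w s := by
  have hev := C.c6.c2.heven
  have hρ' := perm_wordN_inv C (F := F) w hw
  have hWp := C.perm_wordN (F := F) w hw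
  have hP : C.c6.c2.Perm (m * (C.wordN F w)⁻¹) (π ∘ fd.wordP fx w.reverse) := C.c6.perm_mul hπ hρ'
  have hd : m * (C.wordN F w)⁻¹ ∈ D.diagonalSubgroup F := by
    apply C.mem_diag_of_pos _ (mul_mem hm (inv_mem (C.wordN_mem w))) _ hP
    intro i hi
    simp only [Function.comp]
    rcases htab i hi with ⟨k, hk, hJk, e⟩ | ⟨hneg, j, hj, hJj, hne⟩
    · rw [e, (hJ k hk).1 hJk]
      exact C.c6.simple_pos k hk
    · have hβ : fd.wordP fx w.reverse (fd.simples.getD i 0) < fd.n :=
        C.wordP_lt _ hw.reverse _ (C.c6.c2.simple_lt i hi)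
      set β := fd.wordP fx w.reverse (fd.simples.getD i 0) with hβdef
      have hγ : fd.n - 1 - β < fd.n := by omega
      have hγpos : fd.n / 2 ≤ fd.n - 1 - β := by omega
      have hπγ : π (fd.n - 1 - β) < fd.n / 2 := by
        by_contra hc
        exact hne (hcomb _ hγ hγpos (not_lt.mp hc) j hj ((hJ j hj).2 hJj))
      have h1 := (hπ _ hγ).2.1
      have e : fd.n - 1 - (fd.n - 1 - β) = β := by omega
      rw [e] at h1
      rw [h1]
      have := (hπ _ hγ).1
      omega
  refine ⟨hd, ?_⟩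
  have h1 : C.c6.c2.Perm (m * (C.wordN F w)⁻¹ * C.wordN F w) (id ∘ fd.wordP fx w) :=
    C.c6.perm_mul (C.c6.perm_diag _ hd) hWp
  have e : m * (C.wordN F w)⁻¹ * C.wordN F w = m := by group
  rw [e] at h1
  exact fun s hs => C.perm_unique m _ _ hπ h1 s hs

section Char2

variable [CharP F 2]

theorem xA_sq_char2 (r : ℕ) : C.c6.c2.xA r (1 : F) * C.c6.c2.xA r 1 = 1 := by
  rw [C.c6.c2.xA_mul, CharTwo.add_self_eq_zero, C.c6.c2.xA_zero]

theorem xA_inv_char2 (r : ℕ) : (C.c6.c2.xA r (1 : F))⁻¹ = C.c6.c2.xA r 1 :=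
  inv_eq_of_mul_eq_one_right (xA_sq_char2 C r)

theorem nG_eq_char2 (r : ℕ) (hr : r < fd.n) :
    C.c6.c2.nG (F := F) r hr = C.c6.c2.xA r 1 * C.c6.c2.xA (fd.n - 1 - r) 1 * C.c6.c2.xA r 1 := by
  rw [C.c6.nG_eq r hr, CharTwo.neg_eq]

theorem nG_sq_char2 (r : ℕ) (hr : r < fd.n) : C.c6.c2.nG (F := F) r hr * C.c6.c2.nG r hr = 1 := by
  rw [nG_eq_char2 C r hr]
  have ha := xA_sq_char2 C (F := F) r
  have hb := xA_sq_char2 C (F := F) (fd.n - 1 - r)
  set a := C.c6.c2.xA r (1 : F)
  set b := C.c6.c2.xA (fd.n - 1 - r) (1 : F)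
  calc a * b * a * (a * b * a) = a * b * (a * a) * b * a := by group
    _ = a * (b * b) * a := by rw [ha]; group
    _ = 1 := by rw [hb, mul_one, ha]

theorem nG_inv_char2 (r : ℕ) (hr : r < fd.n) : (C.c6.c2.nG (F := F) r hr)⁻¹ = C.c6.c2.nG r hr :=
  inv_eq_of_mul_eq_one_right (nG_sq_char2 C r hr)

/-- `n_r = x_{-r}(1) x_r(1) x_{-r}(1)⁻¹` -/
theorem nG_eq_conj_char2 (r : ℕ) (hr : r < fd.n) :
    C.c6.c2.nG (F := F) r hr =
      C.c6.c2.xA (fd.n - 1 - r) 1 * C.c6.c2.xA r 1 * (C.c6.c2.xA (fd.n - 1 - r) 1)⁻¹ := by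
  have h := C.c6.nG_conj_self (F := F) r hr 1
  rw [nG_inv_char2 C r hr, CharTwo.neg_eq] at h
  rw [xA_inv_char2 C]
  have e := nG_eq_char2 C (F := F) r hr
  have ha := xA_sq_char2 C (F := F) r
  have hb := xA_sq_char2 C (F := F) (fd.n - 1 - r)
  set a := C.c6.c2.xA r (1 : F)
  set b := C.c6.c2.xA (fd.n - 1 - r) (1 : F)
  set n := C.c6.c2.nG (F := F) r hr
  -- `n a n = b`, `n = a b a`
  have h1 : a * b * a * a * (a * b * a) = b := by rw [← e]; exact h
  have h2 : a * b * a * b * a = b := by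
    calc a * b * a * b * a = a * b * a * (a * a) * b * a := by rw [ha]; group
      _ = a * b * a * a * (a * b * a) := by group
      _ = b := h1
  calc n = a * b * a := e
    _ = (a * b * a * b * a) * (a * b) := by
        have : a * b * a * b * a * (a * b) = a * b * a * b * (a * a) * b := by group
        rw [this, ha]
        have : a * b * a * b * 1 * b = a * b * a * (b * b) := by group
        rw [this, hb, mul_one]
    _ = b * a * b := by rw [h2]; group

theorem wordN_reverse_char2 (w : List ℕ) : C.wordN F w.reverse = (C.wordN F w)⁻¹ := by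
  induction w with
  | nil => simp [Cert12.wordN]
  | cons i w ih =>
    rw [List.reverse_cons, C.wordN_append, ih]
    simp only [Cert12.wordN]
    rw [_root_.mul_inv_rev, mul_one]
    congr 1
    split_ifs with h
    · exact (nG_inv_char2 C _ _).symm
    · simp

/-- the word of the reflection in the root `wordP u p_i` -/
def reflWord (u : List ℕ) (i : ℕ) : List ℕ := u ++ [i] ++ u.reverse

omit C in
theorem reflWord_isWd {k : ℕ} (u : List ℕ) (i : ℕ) (hu : IsWd k u) (hi : i < k) : IsWd k (reflWord u i) := by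
  unfold reflWord
  apply IsWd.append (IsWd.append hu _) hu.reverse
  intro j hj
  simp at hj
  omega

/-- `n_r = x_{-r}(1) x_r(1) x_{-r}(1)⁻¹` for `r = u(p_i)` -/
theorem wordN_reflWord (u : List ℕ) (i : ℕ) (hu : IsWd fd.l u) (hi : i < fd.l) :
    C.wordN F (reflWord u i) =
      C.c6.c2.xA (fd.n - 1 - fd.wordP fx u (fd.simples.getD i 0)) 1 * C.c6.c2.xA (fd.wordP fx u (fd.simples.getD i 0)) 1 *
        (C.c6.c2.xA (fd.n - 1 - fd.wordP fx u (fd.simples.getD i 0)) 1)⁻¹ := by
  have hp := C.c6.c2.simple_lt i hi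
  have hev := C.c6.c2.heven
  unfold reflWord
  rw [C.wordN_append, C.wordN_append, wordN_reverse_char2 C]
  have e1 : C.wordN F [i] = C.c6.c2.nG (fd.simples.getD i 0) hp := by
    simp [Cert12.wordN, dif_pos hi]
  rw [e1, nG_eq_conj_char2 C _ hp]
  have hp' : fd.n - 1 - fd.simples.getD i 0 < fd.n := by omega
  have c1 := C.wordN_conj_char2 (F := F) u hu _ hp 1
  have c2 := C.wordN_conj_char2 (F := F) u hu _ hp' 1
  rw [C.wordP_neg u hu _ hp] at c2
  rw [← c1, ← c2]
  group

/-- a product of reflections in strongly commuting roots is conjugate to the product of the root elements -/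
theorem wordN_refl_conj (Ws : List (List ℕ × ℕ))
    (hW : ∀ p ∈ Ws, IsWd fd.l p.1 ∧ p.2 < fd.l)
    (hc : (Ws.map fun p => fd.wordP fx p.1 (fd.simples.getD p.2 0)).Pairwise fun r r' =>
      ∀ t u : F, Commute (C.c6.c2.xA r t) (C.c6.c2.xA r' u) ∧ Commute (C.c6.c2.xA r t) (C.c6.c2.xA (fd.n - 1 - r') u) ∧
        Commute (C.c6.c2.xA (fd.n - 1 - r) t) (C.c6.c2.xA r' u) ∧
        Commute (C.c6.c2.xA (fd.n - 1 - r) t) (C.c6.c2.xA (fd.n - 1 - r') u)) :
    ∃ c ∈ D.group F, C.wordN F (Ws.flatMap fun p => reflWord p.1 p.2) =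
      c * F4V.lp C (Ws.map fun p => (fd.wordP fx p.1 (fd.simples.getD p.2 0), (1 : F))) * c⁻¹ := by
  -- stronger statement: `c` is a product of the `x_{-r}(1)`
  suffices h : ∃ c ∈ D.group F, C.wordN F (Ws.flatMap fun p => reflWord p.1 p.2) =
      c * F4V.lp C (Ws.map fun p => (fd.wordP fx p.1 (fd.simples.getD p.2 0), (1 : F))) * c⁻¹ ∧
      ∀ x : GL D.Idx F, (∀ p ∈ Ws, Commute x (C.c6.c2.xA (fd.n - 1 - fd.wordP fx p.1 (fd.simples.getD p.2 0)) 1)) →
        Commute x c by
    obtain ⟨c, hc1, hc2, _⟩ := h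
    exact ⟨c, hc1, hc2⟩
  induction Ws with
  | nil =>
    refine ⟨1, one_mem _, ?_, fun x _ => Commute.one_right x⟩
    simp [Cert12.wordN, F4V.lp]
  | cons p Ws ih =>
    rw [List.map_cons, List.pairwise_cons] at hc
    obtain ⟨hc1, hc2⟩ := hc
    obtain ⟨c, hcG, e, hcomm⟩ := ih (fun q hq => hW q (List.mem_cons_of_mem _ hq)) hc2
    obtain ⟨hu, hi⟩ := hW p List.mem_cons_self
    set r := fd.wordP fx p.1 (fd.simples.getD p.2 0) with hr
    set a := C.c6.c2.xA r (1 : F) with ha
    set b := C.c6.c2.xA (fd.n - 1 - r) (1 : F) with hb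
    have hbG : b ∈ D.group F := C.c6.c2.xA_mem_group _ _
    refine ⟨b * c, mul_mem hbG hcG, ?_, ?_⟩
    · rw [List.flatMap_cons, C.wordN_append, e, wordN_reflWord C p.1 p.2 hu hi, List.map_cons, lp_cons]
      simp only
      rw [← hr, ← ha, ← hb]
      set A := F4V.lp C (Ws.map fun p => (fd.wordP fx p.1 (fd.simples.getD p.2 0), (1 : F))) with hA
      -- `b` commutes with `c` and `A`, `a` commutes with `c`
      have hbc : Commute b c := by
        apply hcomm
        intro q hq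
        have := hc1 _ (List.mem_map.mpr ⟨q, hq, rfl⟩) 1 1
        exact this.2.2.2
      have hac : Commute a c := by
        apply hcomm
        intro q hq
        have := hc1 _ (List.mem_map.mpr ⟨q, hq, rfl⟩) 1 1
        exact this.2.1
      have hbA : Commute b A := by
        apply commute_lp
        intro q hq
        obtain ⟨q', hq', rfl⟩ := List.mem_map.mp hq
        have := hc1 _ (List.mem_map.mpr ⟨q', hq', rfl⟩) 1 1
        exact this.2.2.1
      have hbc' : Commute b⁻¹ c := hbc.inv_left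
      have hbA' : Commute b⁻¹ A := hbA.inv_left
      have hbci : Commute b⁻¹ c⁻¹ := hbc'.inv_right
      calc b * a * b⁻¹ * (c * A * c⁻¹) = b * a * (b⁻¹ * c) * A * c⁻¹ := by group
        _ = b * a * (c * b⁻¹) * A * c⁻¹ := by rw [hbc'.eq]
        _ = b * (a * c) * (b⁻¹ * A) * c⁻¹ := by group
        _ = b * (c * a) * (A * b⁻¹) * c⁻¹ := by rw [hac.eq, hbA'.eq]
        _ = b * c * (a * A) * (b⁻¹ * c⁻¹) := by group
        _ = b * c * (a * A) * (c⁻¹ * b⁻¹) := by rw [hbci.eq]
        _ = b * c * (a * A) * (b * c)⁻¹ := by group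
    · intro x hx
      apply Commute.mul_right
      · exact hx p List.mem_cons_self
      · exact hcomm x (fun q hq => hx q (List.mem_cons_of_mem _ hq))

end Char2

end Gen

end Cfsg.Agent.Lib.H12.InvCell
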