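import Mathlib
import Cfsg.Prelude.Def_LieExceptional
import Cfsg.Agent.Lib.H12.InvCell5
import Cfsg.Agent.Lib.H21.ICXMOVE

/-!
# `F₄` in characteristic two: fusion of the products of root elements over orthogonal sets of roots

Each chain is a sequence of conjugations by `x_s(1)` (`xmove`) and by elements `n_w` (`wmove`); generated file, the
chains were found by a search in the adjoint representation over `GF(2)`.
-/

set_option autoImplicit false
set_option linter.unusedSectionVars false
set_option linter.unusedVariables false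
set_option linter.unusedSimpArgs false
set_option maxRecDepth 100000

namespace Cfsg.Agent.Lib.H12.F4Cls

open Cfsg Cfsg.Lie Matrix Cfsg.Agent.Lib.H29.Chev Cfsg.Agent.Lib.H12.F4V Cfsg.Agent.Lib.H21.IC

variable {F : Type*} [Field F]

/-- conjugacy in the Chevalley group of type `F₄` -/
def ConjF4 (x y : GL chevF4.Idx F) : Prop := ∃ h ∈ chevF4.group F, h * x * h⁻¹ = y

theorem ConjF4.refl (x : GL chevF4.Idx F) : ConjF4 x x := ⟨1, one_mem _, by simp⟩

theorem ConjF4.trans {x y z : GL chevF4.Idx F} (h1 : ConjF4 x y) (h2 : ConjF4 y z) : ConjF4 x z := by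
  obtain ⟨a, ha, rfl⟩ := h1
  obtain ⟨b, hb, rfl⟩ := h2
  exact ⟨b * a, mul_mem hb ha, by group⟩

theorem ConjF4.symm {x y : GL chevF4.Idx F} (h : ConjF4 x y) : ConjF4 y x := by
  obtain ⟨a, ha, rfl⟩ := h
  exact ⟨a⁻¹, inv_mem ha, by group⟩

theorem ConjF4.of_eq {x y : GL chevF4.Idx F} (h : x = y) : ConjF4 x y := h ▸ ConjF4.refl x

section Char2

variable [CharP F 2]

theorem conj_x (s : ℕ) {x y : GL chevF4.Idx F} (h : fX s (1 : F) * x * (fX s 1)⁻¹ = y) : ConjF4 x y :=
  ⟨fX s 1, cert12_F4.c6.c2.xA_mem_group s 1, h⟩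

theorem conj_w (w : List ℕ) {x y : GL chevF4.Idx F}
    (h : cert12_F4.wordN F w * x * (cert12_F4.wordN F w)⁻¹ = y) : ConjF4 x y :=
  ⟨cert12_F4.wordN F w, cert12_F4.c6.c2.monomial_le_group (cert12_F4.wordN_mem w), h⟩

/-- the chain for `[41, 47]` -/
theorem fuse_J12 : ConjF4 (lpr F [41, 47]) (lpr F [47, 44]) := by
  refine ConjF4.trans (conj_x 29 (xmove 29 [41, 47] [41, 44] [41, 44, 47] (by decide) (by decide) (by decide) (by decide) (by decide) (by decide))) ?_
  exact conj_w [3, 2, 1, 2, 3] (wmove [3, 2, 1, 2, 3] (by intro i hi; revert i; decide) [41, 44] (by decide))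

/-- the chain for `[37, 47]` -/
theorem fuse_J02 : ConjF4 (lpr F [37, 47]) (lpr F [39, 45]) := by
  exact conj_w [2, 3] (wmove [2, 3] (by intro i hi; revert i; decide) [37, 47] (by decide))

/-- the chain for `[44, 32]` -/
theorem fuse_J13 : ConjF4 (lpr F [44, 32]) (lpr F [39, 45]) := by
  exact conj_w [1, 0] (wmove [1, 0] (by intro i hi; revert i; decide) [44, 32] (by decide))

/-- the chain for `[37, 38, 39]` -/
theorem fuse_J0 : ConjF4 (lpr F [37, 38, 39]) (lpr F [39, 45]) := by
  refine ConjF4.trans (conj_x 25 (xmove 25 [37, 38, 39] [37, 38, 47] [37, 38, 39, 47] (by decide) (by decide) (by decide) (by decide) (by decide) (by decide))) ?_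
  refine ConjF4.trans (conj_x 24 (xmove 24 [37, 38, 47] [37, 45, 47] [37, 38, 45, 47] (by decide) (by decide) (by decide) (by decide) (by decide) (by decide))) ?_
  refine ConjF4.trans (y := lpr F [39, 46, 45]) (conj_w [2, 3] (wmove [2, 3] (by intro i hi; revert i; decide) [37, 45, 47] (by decide))) ?_
  exact conj_x 25 (xmove 25 [39, 46, 45] [39, 45] [39, 45, 46] (by decide) (by decide) (by decide) (by decide) (by decide) (by decide))

/-- the chain for `[28, 29, 44]` -/
theorem fuse_J1 : ConjF4 (lpr F [28, 29, 44]) (lpr F [39, 45]) := by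
  refine ConjF4.trans (y := lpr F [37, 38, 39]) (conj_w [1, 0] (wmove [1, 0] (by intro i hi; revert i; decide) [28, 29, 44] (by decide))) ?_
  refine ConjF4.trans (conj_x 25 (xmove 25 [37, 38, 39] [37, 38, 47] [37, 38, 39, 47] (by decide) (by decide) (by decide) (by decide) (by decide) (by decide))) ?_
  refine ConjF4.trans (conj_x 24 (xmove 24 [37, 38, 47] [37, 45, 47] [37, 38, 45, 47] (by decide) (by decide) (by decide) (by decide) (by decide) (by decide))) ?_
  refine ConjF4.trans (y := lpr F [39, 46, 45]) (conj_w [2, 3] (wmove [2, 3] (by intro i hi; revert i; decide) [37, 45, 47] (by decide))) ?_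
  exact conj_x 25 (xmove 25 [39, 46, 45] [39, 45] [39, 45, 46] (by decide) (by decide) (by decide) (by decide) (by decide) (by decide))

/-- the chain for `[32, 43, 45]` -/
theorem fuse_J3 : ConjF4 (lpr F [32, 43, 45]) (lpr F [39, 45]) := by
  refine ConjF4.trans (conj_x 27 (xmove 27 [32, 43, 45] [32, 43, 44] [32, 43, 44, 45] (by decide) (by decide) (by decide) (by decide) (by decide) (by decide))) ?_
  refine ConjF4.trans (conj_x 33 (xmove 33 [32, 43, 44] [32, 39, 44] [32, 39, 43, 44] (by decide) (by decide) (by decide) (by decide) (by decide) (by decide))) ?_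
  refine ConjF4.trans (y := lpr F [45, 40, 39]) (conj_w [1, 0] (wmove [1, 0] (by intro i hi; revert i; decide) [32, 39, 44] (by decide))) ?_
  exact conj_x 27 (xmove 27 [45, 40, 39] [39, 45] [39, 40, 45] (by decide) (by decide) (by decide) (by decide) (by decide) (by decide))

/-- the chain for `[30, 41, 47]` -/
theorem fuse_J2 : ConjF4 (lpr F [30, 41, 47]) (lpr F [39, 45]) := by
  refine ConjF4.trans (y := lpr F [32, 43, 45]) (conj_w [2, 3] (wmove [2, 3] (by intro i hi; revert i; decide) [30, 41, 47] (by decide))) ?_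
  refine ConjF4.trans (conj_x 27 (xmove 27 [32, 43, 45] [32, 43, 44] [32, 43, 44, 45] (by decide) (by decide) (by decide) (by decide) (by decide) (by decide))) ?_
  refine ConjF4.trans (conj_x 33 (xmove 33 [32, 43, 44] [32, 39, 44] [32, 39, 43, 44] (by decide) (by decide) (by decide) (by decide) (by decide) (by decide))) ?_
  refine ConjF4.trans (y := lpr F [45, 40, 39]) (conj_w [1, 0] (wmove [1, 0] (by intro i hi; revert i; decide) [32, 39, 44] (by decide))) ?_
  exact conj_x 27 (xmove 27 [45, 40, 39] [39, 45] [39, 40, 45] (by decide) (by decide) (by decide) (by decide) (by decide) (by decide))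

/-- the chain for `[33, 37, 38, 39]` -/
theorem fuse_Je : ConjF4 (lpr F [33, 37, 38, 39]) (lpr F [39, 45]) := by
  refine ConjF4.trans (conj_x 25 (xmove 25 [33, 37, 38, 39] [33, 37, 38, 47] [33, 37, 38, 39, 47] (by decide) (by decide) (by decide) (by decide) (by decide) (by decide))) ?_
  refine ConjF4.trans (conj_x 24 (xmove 24 [33, 37, 38, 47] [33, 37, 45, 47] [33, 37, 38, 45, 47] (by decide) (by decide) (by decide) (by decide) (by decide) (by decide))) ?_
  refine ConjF4.trans (y := lpr F [33, 39, 46, 45]) (conj_w [2, 3] (wmove [2, 3] (by intro i hi; revert i; decide) [33, 37, 45, 47] (by decide))) ?_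
  refine ConjF4.trans (conj_x 25 (xmove 25 [33, 39, 46, 45] [33, 39, 45] [33, 39, 45, 46] (by decide) (by decide) (by decide) (by decide) (by decide) (by decide))) ?_
  refine ConjF4.trans (y := lpr F [34, 40, 43]) (conj_w [1] (wmove [1] (by intro i hi; revert i; decide) [33, 39, 45] (by decide))) ?_
  refine ConjF4.trans (conj_x 32 (xmove 32 [34, 40, 43] [34, 45, 43] [34, 40, 43, 45] (by decide) (by decide) (by decide) (by decide) (by decide) (by decide))) ?_
  refine ConjF4.trans (conj_x 27 (xmove 27 [34, 45, 43] [34, 43, 44] [34, 43, 44, 45] (by decide) (by decide) (by decide) (by decide) (by decide) (by decide))) ?_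
  refine ConjF4.trans (y := lpr F [39, 45, 40]) (conj_w [2, 0, 1, 2, 3, 2, 1, 2, 1] (wmove [2, 0, 1, 2, 3, 2, 1, 2, 1] (by intro i hi; revert i; decide) [34, 43, 44] (by decide))) ?_
  exact conj_x 27 (xmove 27 [39, 45, 40] [39, 45] [39, 40, 45] (by decide) (by decide) (by decide) (by decide) (by decide) (by decide))

end Char2

end Cfsg.Agent.Lib.H12.F4Cls
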