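import Mathlib
import Cfsg.Prelude.Def_LieExceptional
import Cfsg.Agent.Lib.H12.F4Cls1
import Cfsg.Agent.Lib.H5.ICHCONJ
import Cfsg.Agent.Lib.H29.ChevDiagOrd

/-!
# `F₄` in characteristic two: an involution of `N` is conjugate to a product of root elements over an orthogonal set
-/

set_option autoImplicit false
set_option linter.unusedSectionVars false
set_option linter.unusedVariables false
set_option linter.unusedSimpArgs false

namespace Cfsg.Agent.Lib.H12.F4Cls

open Cfsg Cfsg.Lie Matrix Cfsg.Agent.Lib.H29.Chev Cfsg.Agent.Lib.H12.F4V Cfsg.Agent.Lib.H21.IC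
  Cfsg.Agent.Lib.H12.InvCell

variable {F : Type*} [Field F] [CharP F 2]

/-- the torus of `F₄` over a finite field of characteristic two has odd order -/
theorem odd_card_diag_F4 [Finite F] : Odd (Nat.card (chevF4.diagonalSubgroup F)) := by
  rw [card_diag_F4]
  apply Odd.pow
  have : Fintype F := Fintype.ofFinite F
  obtain ⟨n, _, hn⟩ := FiniteField.card F 2
  rw [Nat.card_eq_fintype_card, hn]
  have h1 : 1 ≤ 2 ^ (n : ℕ) := Nat.one_le_two_pow
  have h2 : Even (2 ^ (n : ℕ)) := (Nat.even_pow' (PNat.ne_zero n)).mpr even_two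
  exact Nat.Even.sub_odd h1 h2 odd_one

/-- the root of a pair (word, fundamental root) -/
def rootOf (p : List ℕ × ℕ) : ℕ := fdF4.wordP fxF4 p.1 (fdF4.simples.getD p.2 0)

/-- the word of a list of pairs: the product of the reflections -/
def wordOf (Ws : List (List ℕ × ℕ)) : List ℕ := Ws.flatMap fun p => reflWord p.1 p.2

/-- the case of a set `J` of fundamental roots, given by `Jb`, and the orthogonal set of roots given by `Ws`:
either the involution is conjugate to the product of the root elements, or the case is contradictory -/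
theorem conj_of_case [Finite F] (m : GL chevF4.Idx F) (hm : m ∈ chevF4.monomialSubgroup F) (hm2 : m * m = 1)
    (π : ℕ → ℕ) (hπ : cert12_F4.c6.c2.Perm m π)
    (hcomb : ∀ r, r < fdF4.n → fdF4.n / 2 ≤ r → fdF4.n / 2 ≤ π r →
      ∀ j < fdF4.l, π (fdF4.simples.getD j 0) < fdF4.n / 2 → fdF4.rcZ fxF4 r j = 0)
    (Ws : List (List ℕ × ℕ)) (Jb : ℕ → Bool)
    (hJ : ∀ k < fdF4.l, (Jb k = true → π (fdF4.simples.getD k 0) = fdF4.simples.getD k 0) ∧
      (Jb k = false → π (fdF4.simples.getD k 0) < fdF4.n / 2))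
    (hW : ∀ p ∈ Ws, (∀ i ∈ p.1, i < fdF4.l) ∧ p.2 < fdF4.l)
    (htab : ∀ i < fdF4.l,
      (∃ k < fdF4.l, Jb k = true ∧ fdF4.wordP fxF4 (wordOf Ws).reverse (fdF4.simples.getD i 0) = fdF4.simples.getD k 0) ∨
      (fdF4.wordP fxF4 (wordOf Ws).reverse (fdF4.simples.getD i 0) < fdF4.n / 2 ∧
        ∃ j < fdF4.l, Jb j = false ∧
          fdF4.rcZ fxF4 (fdF4.n - 1 - fdF4.wordP fxF4 (wordOf Ws).reverse (fdF4.simples.getD i 0)) j ≠ 0))
    (hsc : (Ws.map rootOf).Pairwise fun r r' => r < 48 ∧ r' < 48 ∧ comm2 r r' = true ∧ comm2 r (47 - r') = true ∧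
      comm2 (47 - r) r' = true ∧ comm2 (47 - r) (47 - r') = true)
    (hrs : ∀ a ∈ Ws.map rootOf, ∀ b ∈ Ws.map rootOf, a < 48 ∧ b < 48 ∧ comm2 a b = true) :
    ConjF4 m (lpr F (Ws.map rootOf)) ∧ ∀ s < fdF4.n, π s = fdF4.wordP fxF4 (wordOf Ws) s := by
  have hW' : ∀ p ∈ Ws, IsWd fdF4.l p.1 ∧ p.2 < fdF4.l := fun p hp => ⟨fun i hi => (hW p hp).1 i hi, (hW p hp).2⟩
  have hw : IsWd fdF4.l (wordOf Ws) := by
    intro i hi
    unfold wordOf at hi
    obtain ⟨p, hp, hip⟩ := List.mem_flatMap.mp hi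
    exact reflWord_isWd p.1 p.2 (hW' p hp).1 (hW' p hp).2 i hip
  obtain ⟨hd, hperm⟩ := mem_diag_of_table cert12_F4 m hm π hπ hcomb (wordOf Ws) hw Jb hJ htab
  refine ⟨?_, hperm⟩
  -- `n_w = c y c⁻¹`
  obtain ⟨c, hcG, ec⟩ := wordN_refl_conj cert12_F4 (F := F) Ws hW' (by
    have : (Ws.map fun p => fdF4.wordP fxF4 p.1 (fdF4.simples.getD p.2 0)) = Ws.map rootOf := rfl
    rw [this]
    apply List.Pairwise.imp _ hsc
    intro r r' ⟨h1, h2, h3, h4, h5, h6⟩ t u
    exact ⟨comm2_comm r r' h1 h2 h3 t u, comm2_comm r (47 - r') h1 (by omega) h4 t u,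
      comm2_comm (47 - r) r' (by omega) h2 h5 t u, comm2_comm (47 - r) (47 - r') (by omega) (by omega) h6 t u⟩)
  have ey : F4V.lp cert12_F4 (Ws.map fun p => (fdF4.wordP fxF4 p.1 (fdF4.simples.getD p.2 0), (1 : F))) =
      lpr F (Ws.map rootOf) := by
    unfold lpr
    rw [List.map_map]
    rfl
  rw [ey] at ec
  change cert12_F4.wordN F (wordOf Ws) = _ at ec
  set y := lpr F (Ws.map rootOf) with hy
  -- `y² = 1`
  have hy2 : y * y = 1 := by
    rw [hy, ← lpr_append, ← lpr_nil (F := F)]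
    apply lpr_eq_of_parity (Ws.map rootOf) _ _ hrs
    · intro q hq
      rcases List.mem_append.mp hq with h | h <;> exact h
    · intro q hq
      simp at hq
    · intro q _
      rw [List.count_append]
      simp
      omega
  have hn2 : cert12_F4.wordN F (wordOf Ws) * cert12_F4.wordN F (wordOf Ws) = 1 := by
    rw [ec]
    have : c * y * c⁻¹ * (c * y * c⁻¹) = c * (y * y) * c⁻¹ := by group
    rw [this, hy2]
    group
  have : Finite (GL chevF4.Idx F) := inferInstance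
  obtain ⟨k, hk, ek⟩ := Cfsg.Agent.Lib.H5.IC.conj_of_mul_inv_mem (chevF4.diagonalSubgroup F) odd_card_diag_F4 m
    (cert12_F4.wordN F (wordOf Ws)) hd hm2 hn2
  have hkG : k ∈ chevF4.group F :=
    cert12_F4.c6.c2.monomial_le_group ((le_sup_left : chevF4.diagonalSubgroup F ≤ chevF4.monomialSubgroup F) hk)
  refine ⟨c⁻¹ * k, mul_mem (inv_mem hcG) hkG, ?_⟩
  have : c⁻¹ * k * m * (c⁻¹ * k)⁻¹ = c⁻¹ * (k * m * k⁻¹) * c := by group
  rw [this, ek, ec]
  group

end Cfsg.Agent.Lib.H12.F4Cls
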