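import Mathlib
import Cfsg.Prelude.Def_LieExceptional
import Cfsg.Agent.Lib.H12.InvCell3
import Cfsg.Agent.Lib.H29.ChevF4b

/-!
# The support statement

For `m ∈ N` with permutation `π` and `v ∈ U` with `m v m⁻¹ ∈ B`, the element `v` is an ordered product of root
elements of positive roots kept positive by `π`: the product map `U_m⁻ × V_{Ψ⁺} → U` is injective, hence bijective by
counting.
-/

set_option autoImplicit false
set_option linter.unusedSectionVars false
set_option linter.unusedVariables false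
set_option linter.unusedSimpArgs false

namespace Cfsg.Agent.Lib.H12.InvCell

open Cfsg Cfsg.Lie Matrix Cfsg.Agent.Lib.H29.Chev

variable {D : ChevalleyDatum} {fd : FD} {fx : FX} {fc : FC} {fz : FZ} {F : Type*} [Field F]

section Gen

variable (C : Cert12 D fd fx fc fz)
include C

/-- the opposite of a linear permutation is linear -/
theorem linP_negcomp (π : ℕ → ℕ) (hl : fd.LinP fx π) (hπ : ∀ s < fd.n, π s < fd.n) :
    fd.LinP fx (fun s => fd.n - 1 - π s) := by
  obtain ⟨M, hM⟩ := hl
  refine ⟨fun j k => - M j k, fun s hs j hj => ?_⟩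
  rw [C.rcZ_neg (π s) j (hπ s hs) hj, hM s hs j hj, ← Finset.sum_neg_distrib]
  apply Finset.sum_congr rfl
  intro k _
  ring

/-- the positive roots kept positive by an element of `N` are closed under the commutator formula -/
theorem closed_pos_of_perm (π : ℕ → ℕ) (hl : fd.LinP fx π) (hπ : ∀ s < fd.n, π s < fd.n) :
    fd.Closed (fun r => fd.n / 2 ≤ π r) := by
  have hev := C.c6.c2.heven
  apply C.closed_of_perm (fun s => fd.n - 1 - π s) (linP_negcomp C π hl hπ) (fun s hs => by have := hπ s hs; omega)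
  intro r hr _
  have := hπ r hr
  constructor
  · intro h; show fd.n - 1 - π r < fd.n / 2; omega
  · intro h
    have h' : fd.n - 1 - π r < fd.n / 2 := h
    omega

theorem supp_pos [Finite F] (m : GL D.Idx F) (hm : m ∈ D.monomialSubgroup F)
    (π : ℕ → ℕ) (hπ : C.c6.c2.Perm m π) (v : GL D.Idx F) (hv : v ∈ D.posUnipotent F)
    (h : m * v * m⁻¹ ∈ D.borelSubgroup F) :
    ∃ t : ℕ → F, (∀ r, ¬ (fd.n / 2 ≤ π r ∧ fd.n / 2 ≤ r ∧ r < fd.n) → t r = 0) ∧
      v = C.oprod t (fd.n / 2) (fd.n - fd.n / 2) := by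
  classical
  have hev := C.c6.c2.heven
  have hk : fd.n / 2 + (fd.n - fd.n / 2) = fd.n := by omega
  obtain ⟨⟨π', hπ', hl'⟩, _⟩ := C.perm_lin m hm
  have he := C.perm_unique m π π' hπ hπ'
  have hπlt : ∀ s < fd.n, π s < fd.n := fun s hs => (hπ s hs).1
  have hlin : fd.LinP fx π := by
    obtain ⟨M, hM⟩ := hl'
    exact ⟨M, fun s hs j hj => by rw [he s hs]; exact hM s hs j hj⟩
  set Ψp : ℕ → Prop := fun r => fd.n / 2 ≤ π r with hΨp
  have hcl : fd.Closed Ψp := closed_pos_of_perm C π hlin hπlt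
  set A := Uw D F m with hA
  set B' := Vm D F Ψp (fd.n / 2) with hB'
  have hAU : A ≤ D.posUnipotent F := by
    rw [hA, Cert12.Uw_eq_Vm (fd := fd) m (fun s hs => ((C.c6.isPos_iff s).mp hs).2), C.posUnipotent_eq]
    exact Vm_mono _ _ _ (fun _ _ => trivial)
  have hBU : B' ≤ D.posUnipotent F := by
    rw [hB', C.posUnipotent_eq]
    exact Vm_mono _ _ _ (fun _ _ => trivial)
  -- `m B' m⁻¹ ≤ B`
  have hconjB : ∀ b ∈ B', m * b * m⁻¹ ∈ D.borelSubgroup F := by
    intro b hb
    apply conj_closure_mem _ _ _ _ b hb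
    intro g hg
    obtain ⟨s, u, hs, hps, hΨs, _, rfl⟩ := C.eq_xA_of_VmSet Ψp _ g hg
    obtain ⟨h1, _, c, h3⟩ := hπ s hs
    rw [h3]
    exact C.c6.xA_pos_mem_borel _ h1 hΨs _
  -- the intersection is trivial
  have hinf : ∀ x, x ∈ A → x ∈ B' → x = 1 := by
    intro x hxA hxB
    have h1 := C.c6.conj_Uw_mem_neg m x hxA
    have h2 := hconjB x hxB
    have h3 : m * x * m⁻¹ ∈ D.borelSubgroup F ⊓ D.negUnipotent F := Subgroup.mem_inf.mpr ⟨h2, h1⟩
    rw [C.c6.c2.borel_inf_neg, Subgroup.mem_bot] at h3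
    have : x = m⁻¹ * (m * x * m⁻¹) * m := by group
    rw [this, h3]; group
  -- the product map
  let f : A × B' → D.posUnipotent F := fun p => ⟨p.1.val * p.2.val, mul_mem (hAU p.1.property) (hBU p.2.property)⟩
  have hfinj : Function.Injective f := by
    rintro ⟨a, b⟩ ⟨a', b'⟩ hab
    have hab' : a.val * b.val = a'.val * b'.val := congrArg Subtype.val hab
    have e : a'.val⁻¹ * a.val = b'.val * b.val⁻¹ := by
      calc a'.val⁻¹ * a.val = a'.val⁻¹ * (a.val * b.val) * b.val⁻¹ := by group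
        _ = a'.val⁻¹ * (a'.val * b'.val) * b.val⁻¹ := by rw [hab']
        _ = b'.val * b.val⁻¹ := by group
    have h1 := hinf _ (mul_mem (inv_mem a'.property) a.property)
      (by rw [e]; exact mul_mem b'.property (inv_mem b.property))
    have ea : a = a' := by
      apply Subtype.ext
      have : a.val = a'.val * (a'.val⁻¹ * a.val) := by group
      rw [this, h1, mul_one]
    have eb : b = b' := by
      apply Subtype.ext
      rw [h1] at e
      have : b'.val = (b'.val * b.val⁻¹) * b.val := by group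
      rw [this, ← e, one_mul]
    rw [ea, eb]
  have : Finite (GL D.Idx F) := inferInstance
  -- the cardinalities
  have hcard : Nat.card (D.posUnipotent F) ≤ Nat.card (A × B') := by
    rw [Nat.card_prod, hA, hB', C.card_Uw m hm π hπ, C.card_Vm Ψp hcl, C.card_posUnipotent, ← pow_add]
    apply le_of_eq
    congr 1
    rw [Nat.subtype_card ((Finset.Ico (fd.n / 2) fd.n).filter fun r => π r < fd.n / 2) (by
        intro x
        rw [Finset.mem_filter, Finset.mem_Ico]
        exact ⟨fun h => ⟨h.1.2, h.1.1, h.2⟩, fun h => ⟨⟨h.2.1, h.1⟩, h.2.2⟩⟩),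
      Nat.subtype_card ((Finset.Ico (fd.n / 2) fd.n).filter fun r => ¬ π r < fd.n / 2) (by
        intro x
        rw [Finset.mem_filter, Finset.mem_Ico]
        unfold Cert12.PosIn
        exact ⟨fun h => ⟨not_lt.mp h.2, h.1.1, h.1.2⟩, fun h => ⟨⟨h.2.1, h.2.2⟩, not_lt.mpr h.1⟩⟩),
      Finset.card_filter_add_card_filter_not, Nat.card_Ico, C.c6.c2.nroots_eq]
    omega
  have hbij := hfinj.bijective_of_nat_card_le hcard
  obtain ⟨⟨a, b⟩, hab⟩ := hbij.2 ⟨v, hv⟩
  have hab' : a.val * b.val = v := congrArg Subtype.val hab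
  -- `a = 1`
  have ha1 : a.val = 1 := by
    have h1 := C.c6.conj_Uw_mem_neg m a.val a.property
    have h2 : m * a.val * m⁻¹ ∈ D.borelSubgroup F := by
      have e : m * a.val * m⁻¹ = (m * v * m⁻¹) * (m * b.val * m⁻¹)⁻¹ := by
        rw [← hab']; group
      rw [e]
      exact mul_mem h (inv_mem (hconjB _ b.property))
    have h3 : m * a.val * m⁻¹ ∈ D.borelSubgroup F ⊓ D.negUnipotent F := Subgroup.mem_inf.mpr ⟨h2, h1⟩
    rw [C.c6.c2.borel_inf_neg, Subgroup.mem_bot] at h3
    have : a.val = m⁻¹ * (m * a.val * m⁻¹) * m := by group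
    rw [this, h3]; group
  rw [ha1, one_mul] at hab'
  have hvB : v ∈ B' := by rw [← hab']; exact b.property
  exact C.Vm_oprod Ψp hcl _ _ hk (le_refl _) v hvB

/-- the support statement holds over a finite field -/
theorem suppStmt [Finite F] : SuppStmt C F :=
  fun m hm π hπ v hv h => supp_pos C m hm π hπ v hv h

end Gen

end Cfsg.Agent.Lib.H12.InvCell
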