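import Mathlib
import Cfsg.Prelude.Def_LieExceptional
import Cfsg.Agent.Lib.H12.F4Cls2
import Cfsg.Agent.Lib.H12.InvCell4

/-!
# `F₄` in characteristic two: every involution is conjugate to one of four elements

The sixteen sets `J` of fundamental roots fixed by the involution of `N` (generated case analysis).
-/

set_option autoImplicit false
set_option linter.unusedSectionVars false
set_option linter.unusedVariables false
set_option linter.unusedSimpArgs false
set_option maxRecDepth 100000

namespace Cfsg.Agent.Lib.H12.F4Cls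

open Cfsg Cfsg.Lie Matrix Cfsg.Agent.Lib.H29.Chev Cfsg.Agent.Lib.H12.F4V Cfsg.Agent.Lib.H21.IC
  Cfsg.Agent.Lib.H12.InvCell

/-- the table of the lowering reflections for `F₄` -/
theorem lowStmt_F4 : LowStmt fdF4 fxF4 := by
  unfold LowStmt
  decide +kernel

variable {F : Type*} [Field F] [CharP F 2]

theorem lpr_one (r : ℕ) : lpr F [r] = fX r (1 : F) := by
  simp [lpr, F4V.lp]

theorem lpr_two (r s : ℕ) : lpr F [r, s] = fX r (1 : F) * fX s 1 := by
  simp [lpr, F4V.lp]

/-- the four representatives -/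
def IsRep (y : GL chevF4.Idx F) : Prop :=
  y = fX 47 (1 : F) ∨ y = fX 44 (1 : F) ∨ y = fX 47 (1 : F) * fX 44 1 ∨ y = fX 39 (1 : F) * fX 45 1

/-- the involutions of `N` satisfying the condition on the fundamental roots -/
theorem conj_rep_of_monomial [Finite F] (m : GL chevF4.Idx F) (hm : m ∈ chevF4.monomialSubgroup F) (hm2 : m * m = 1)
    (hm1 : m ≠ 1) (π : ℕ → ℕ) (hπ : cert12_F4.c6.c2.Perm m π)
    (hJc : ∀ i < fdF4.l, π (fdF4.simples.getD i 0) < fdF4.n / 2 ∨ π (fdF4.simples.getD i 0) = fdF4.simples.getD i 0)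
    (hcomb : ∀ r, r < fdF4.n → fdF4.n / 2 ≤ r → fdF4.n / 2 ≤ π r →
      ∀ j < fdF4.l, π (fdF4.simples.getD j 0) < fdF4.n / 2 → fdF4.rcZ fxF4 r j = 0) :
    ∃ y : GL chevF4.Idx F, IsRep y ∧ ConjF4 m y := by
  have hk4 : ∀ k < fdF4.l, k = 0 ∨ k = 1 ∨ k = 2 ∨ k = 3 := by
    intro k hk
    rw [f4_l] at hk
    omega
  rcases hJc 0 (by decide) with h0 | h0 <;> rcases hJc 1 (by decide) with h1 | h1 <;>
    rcases hJc 2 (by decide) with h2 | h2 <;> rcases hJc 3 (by decide) with h3 | h3
  · -- J = (), S = [33, 37, 38, 39]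
    obtain ⟨hc, hp⟩ := conj_of_case m hm hm2 π hπ hcomb [([], 0), ([1, 2, 1], 0), ([3, 1, 2, 1], 0), ([2, 3, 1, 2, 1], 0)] (fun k => [false, false, false, false].getD k false)
      (by intro k hk; rcases hk4 k hk with rfl | rfl | rfl | rfl <;> simp <;> assumption)
      (by decide) (by decide) (by decide) (by decide)
    refine ⟨fX 39 1 * fX 45 1, Or.inr (Or.inr (Or.inr rfl)), ?_⟩
    rw [← lpr_two]
    have e : (List.map rootOf [([], 0), ([1, 2, 1], 0), ([3, 1, 2, 1], 0), ([2, 3, 1, 2, 1], 0)]) = [33, 37, 38, 39] := by decide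
    rw [e] at hc
    exact hc.trans fuse_Je
  · -- J = (3,), S = [32, 43, 45]
    obtain ⟨hc, hp⟩ := conj_of_case m hm hm2 π hπ hcomb [([2, 3, 1], 2), ([2, 3, 0, 1], 2), ([1, 2, 3, 0, 1], 2)] (fun k => [false, false, false, true].getD k false)
      (by intro k hk; rcases hk4 k hk with rfl | rfl | rfl | rfl <;> simp <;> assumption)
      (by decide) (by decide) (by decide) (by decide)
    refine ⟨fX 39 1 * fX 45 1, Or.inr (Or.inr (Or.inr rfl)), ?_⟩
    rw [← lpr_two]
    have e : (List.map rootOf [([2, 3, 1], 2), ([2, 3, 0, 1], 2), ([1, 2, 3, 0, 1], 2)]) = [32, 43, 45] := by decide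
    rw [e] at hc
    exact hc.trans fuse_J3
  · -- J = (2,), S = [30, 41, 47]
    obtain ⟨hc, hp⟩ := conj_of_case m hm hm2 π hπ hcomb [([1], 2), ([0, 1], 2), ([3, 2, 1, 2, 3, 0, 1], 2)] (fun k => [false, false, true, false].getD k false)
      (by intro k hk; rcases hk4 k hk with rfl | rfl | rfl | rfl <;> simp <;> assumption)
      (by decide) (by decide) (by decide) (by decide)
    refine ⟨fX 39 1 * fX 45 1, Or.inr (Or.inr (Or.inr rfl)), ?_⟩
    rw [← lpr_two]
    have e : (List.map rootOf [([1], 2), ([0, 1], 2), ([3, 2, 1, 2, 3, 0, 1], 2)]) = [30, 41, 47] := by decide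
    rw [e] at hc
    exact hc.trans fuse_J2
  · -- J = (2, 3), S = [28, 31, 44]
    obtain ⟨hc, hp⟩ := conj_of_case m hm hm2 π hπ hcomb [([2], 1), ([3, 1], 2), ([0, 1, 2, 3, 1, 2, 1], 0)] (fun k => [false, false, true, true].getD k false)
      (by intro k hk; rcases hk4 k hk with rfl | rfl | rfl | rfl <;> simp <;> assumption)
      (by decide) (by decide) (by decide) (by decide)
    exfalso
    have := hp (fdF4.simples.getD 2 0) (by decide)
    rw [h2] at this
    revert this
    decide
  · -- J = (1,), S = [28, 29, 44]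
    obtain ⟨hc, hp⟩ := conj_of_case m hm hm2 π hπ hcomb [([2], 1), ([3, 2], 1), ([0, 1, 2, 3, 1, 2, 1], 0)] (fun k => [false, true, false, false].getD k false)
      (by intro k hk; rcases hk4 k hk with rfl | rfl | rfl | rfl <;> simp <;> assumption)
      (by decide) (by decide) (by decide) (by decide)
    refine ⟨fX 39 1 * fX 45 1, Or.inr (Or.inr (Or.inr rfl)), ?_⟩
    rw [← lpr_two]
    have e : (List.map rootOf [([2], 1), ([3, 2], 1), ([0, 1, 2, 3, 1, 2, 1], 0)]) = [28, 29, 44] := by decide
    rw [e] at hc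
    exact hc.trans fuse_J1
  · -- J = (1, 3), S = [44, 32]
    obtain ⟨hc, hp⟩ := conj_of_case m hm hm2 π hπ hcomb [([0, 1, 2, 3, 1, 2, 1], 0), ([2, 3, 1], 2)] (fun k => [false, true, false, true].getD k false)
      (by intro k hk; rcases hk4 k hk with rfl | rfl | rfl | rfl <;> simp <;> assumption)
      (by decide) (by decide) (by decide) (by decide)
    refine ⟨fX 39 1 * fX 45 1, Or.inr (Or.inr (Or.inr rfl)), ?_⟩
    rw [← lpr_two]
    have e : (List.map rootOf [([0, 1, 2, 3, 1, 2, 1], 0), ([2, 3, 1], 2)]) = [44, 32] := by decide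
    rw [e] at hc
    exact hc.trans fuse_J13
  · -- J = (1, 2), S = [41, 47]
    obtain ⟨hc, hp⟩ := conj_of_case m hm hm2 π hπ hcomb [([0, 1], 2), ([3, 2, 1, 2, 3, 0, 1], 2)] (fun k => [false, true, true, false].getD k false)
      (by intro k hk; rcases hk4 k hk with rfl | rfl | rfl | rfl <;> simp <;> assumption)
      (by decide) (by decide) (by decide) (by decide)
    refine ⟨fX 47 1 * fX 44 1, Or.inr (Or.inr (Or.inl rfl)), ?_⟩
    rw [← lpr_two]
    have e : (List.map rootOf [([0, 1], 2), ([3, 2, 1, 2, 3, 0, 1], 2)]) = [41, 47] := by decide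
    rw [e] at hc
    exact hc.trans fuse_J12
  · -- J = (1, 2, 3), S = [44]
    obtain ⟨hc, hp⟩ := conj_of_case m hm hm2 π hπ hcomb [([0, 1, 2, 3, 1, 2, 1], 0)] (fun k => [false, true, true, true].getD k false)
      (by intro k hk; rcases hk4 k hk with rfl | rfl | rfl | rfl <;> simp <;> assumption)
      (by decide) (by decide) (by decide) (by decide)
    exact ⟨fX 44 1, Or.inr (Or.inl rfl), by have := hc; rwa [show (List.map rootOf [([0, 1, 2, 3, 1, 2, 1], 0)]) = [44] from by decide, lpr_one] at this⟩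
  · -- J = (0,), S = [37, 38, 39]
    obtain ⟨hc, hp⟩ := conj_of_case m hm hm2 π hπ hcomb [([1, 2, 1], 0), ([3, 1, 2, 1], 0), ([2, 3, 1, 2, 1], 0)] (fun k => [true, false, false, false].getD k false)
      (by intro k hk; rcases hk4 k hk with rfl | rfl | rfl | rfl <;> simp <;> assumption)
      (by decide) (by decide) (by decide) (by decide)
    refine ⟨fX 39 1 * fX 45 1, Or.inr (Or.inr (Or.inr rfl)), ?_⟩
    rw [← lpr_two]
    have e : (List.map rootOf [([1, 2, 1], 0), ([3, 1, 2, 1], 0), ([2, 3, 1, 2, 1], 0)]) = [37, 38, 39] := by decide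
    rw [e] at hc
    exact hc.trans fuse_J0
  · -- J = (0, 3), S = [39, 45]
    obtain ⟨hc, hp⟩ := conj_of_case m hm hm2 π hπ hcomb [([2, 3, 1, 2, 1], 0), ([1, 2, 3, 0, 1], 2)] (fun k => [true, false, false, true].getD k false)
      (by intro k hk; rcases hk4 k hk with rfl | rfl | rfl | rfl <;> simp <;> assumption)
      (by decide) (by decide) (by decide) (by decide)
    refine ⟨fX 39 1 * fX 45 1, Or.inr (Or.inr (Or.inr rfl)), ?_⟩
    rw [← lpr_two]
    have e : (List.map rootOf [([2, 3, 1, 2, 1], 0), ([1, 2, 3, 0, 1], 2)]) = [39, 45] := by decide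
    rw [e] at hc
    exact hc
  · -- J = (0, 2), S = [37, 47]
    obtain ⟨hc, hp⟩ := conj_of_case m hm hm2 π hπ hcomb [([1, 2, 1], 0), ([3, 2, 1, 2, 3, 0, 1], 2)] (fun k => [true, false, true, false].getD k false)
      (by intro k hk; rcases hk4 k hk with rfl | rfl | rfl | rfl <;> simp <;> assumption)
      (by decide) (by decide) (by decide) (by decide)
    refine ⟨fX 39 1 * fX 45 1, Or.inr (Or.inr (Or.inr rfl)), ?_⟩
    rw [← lpr_two]
    have e : (List.map rootOf [([1, 2, 1], 0), ([3, 2, 1, 2, 3, 0, 1], 2)]) = [37, 47] := by decide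
    rw [e] at hc
    exact hc.trans fuse_J02
  · -- J = (0, 2, 3), S = [38, 46]
    obtain ⟨hc, hp⟩ := conj_of_case m hm hm2 π hπ hcomb [([3, 1, 2, 1], 0), ([2, 1, 2, 3, 0, 1], 2)] (fun k => [true, false, true, true].getD k false)
      (by intro k hk; rcases hk4 k hk with rfl | rfl | rfl | rfl <;> simp <;> assumption)
      (by decide) (by decide) (by decide) (by decide)
    exfalso
    have := hp (fdF4.simples.getD 2 0) (by decide)
    rw [h2] at this
    revert this
    decide
  · -- J = (0, 1), S = [24, 40, 43]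
    obtain ⟨hc, hp⟩ := conj_of_case m hm hm2 π hπ hcomb [([], 3), ([1, 2, 3, 1, 2, 1], 0), ([2, 3, 0, 1], 2)] (fun k => [true, true, false, false].getD k false)
      (by intro k hk; rcases hk4 k hk with rfl | rfl | rfl | rfl <;> simp <;> assumption)
      (by decide) (by decide) (by decide) (by decide)
    exfalso
    have := hp (fdF4.simples.getD 0 0) (by decide)
    rw [h0] at this
    revert this
    decide
  · -- J = (0, 1, 3), S = [40, 43]
    obtain ⟨hc, hp⟩ := conj_of_case m hm hm2 π hπ hcomb [([1, 2, 3, 1, 2, 1], 0), ([2, 3, 0, 1], 2)] (fun k => [true, true, false, true].getD k false)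
      (by intro k hk; rcases hk4 k hk with rfl | rfl | rfl | rfl <;> simp <;> assumption)
      (by decide) (by decide) (by decide) (by decide)
    exfalso
    have := hp (fdF4.simples.getD 0 0) (by decide)
    rw [h0] at this
    revert this
    decide
  · -- J = (0, 1, 2), S = [47]
    obtain ⟨hc, hp⟩ := conj_of_case m hm hm2 π hπ hcomb [([3, 2, 1, 2, 3, 0, 1], 2)] (fun k => [true, true, true, false].getD k false)
      (by intro k hk; rcases hk4 k hk with rfl | rfl | rfl | rfl <;> simp <;> assumption)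
      (by decide) (by decide) (by decide) (by decide)
    exact ⟨fX 47 1, Or.inl rfl, by have := hc; rwa [show (List.map rootOf [([3, 2, 1, 2, 3, 0, 1], 2)]) = [47] from by decide, lpr_one] at this⟩
  · -- J = (0, 1, 2, 3), S = []
    obtain ⟨hc, hp⟩ := conj_of_case m hm hm2 π hπ hcomb [] (fun k => [true, true, true, true].getD k false)
      (by intro k hk; rcases hk4 k hk with rfl | rfl | rfl | rfl <;> simp <;> assumption)
      (by decide) (by decide) (by decide) (by decide)
    exfalso
    obtain ⟨h, _, e⟩ := hc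
    apply hm1
    have e2 : m = h⁻¹ * (h * m * h⁻¹) * h := by group
    rw [e2, e]
    simp [lpr, F4V.lp]

end Cfsg.Agent.Lib.H12.F4Cls
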