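import Mathlib
import Cfsg.Prelude.Def_LieExceptional
import Cfsg.Agent.Lib.H12.F4Cls3
import Cfsg.Agent.Lib.H10.ICCOMB

/-!
# `F₄` in characteristic two: every involution is conjugate to one of the four representatives; the representatives
are involutions of the group
-/

set_option autoImplicit false
set_option linter.unusedSectionVars false
set_option linter.unusedVariables false
set_option linter.unusedSimpArgs false

namespace Cfsg.Agent.Lib.H12.F4Cls

open Cfsg Cfsg.Lie Matrix Cfsg.Agent.Lib.H29.Chev Cfsg.Agent.Lib.H12.F4V Cfsg.Agent.Lib.H21.IC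
  Cfsg.Agent.Lib.H12.InvCell

/-- the combinatorial statement, proved by helper10 -/
theorem combStmt {D : ChevalleyDatum} {fd : FD} {fx : FX} {fc : FC} {fz : FZ} (C : Cert12 D fd fx fc fz) :
    CombStmt fd fx :=
  fun π hlin hlt hinv hJ r hr hpos hπr => Cfsg.Agent.Lib.H10.IC.comb C π hlin hlt hinv hJ r hr hpos hπr

variable {F : Type*} [Field F] [CharP F 2]

/-- every involution of `F₄(F)`, `F` finite of characteristic two, is conjugate to one of the four representatives -/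
theorem f4_involution_conj [Finite F] (g : GL chevF4.Idx F) (hg : g ∈ chevF4.group F) (hg2 : g * g = 1) (hg1 : g ≠ 1) :
    ∃ y : GL chevF4.Idx F, IsRep y ∧ ConjF4 g y := by
  obtain ⟨z, hz, m, hm, e, π, hπ, _, _, hJc, hcomb⟩ :=
    exists_conj_monomial cert12_F4 (suppStmt cert12_F4) (combStmt cert12_F4) lowStmt_F4 g hg hg2
  have hm2 : m * m = 1 := by
    rw [← e]
    have : z * g * z⁻¹ * (z * g * z⁻¹) = z * (g * g) * z⁻¹ := by group
    rw [this, hg2]; group
  have hm1 : m ≠ 1 := by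
    intro h
    apply hg1
    have : g = z⁻¹ * (z * g * z⁻¹) * z := by group
    rw [this, e, h]; group
  obtain ⟨y, hy, hc⟩ := conj_rep_of_monomial m hm hm2 hm1 π hπ hJc
    (fun r hr hpos hπr => (hcomb r hr hpos hπr).2)
  exact ⟨y, hy, ConjF4.trans ⟨z, hz, e⟩ hc⟩

theorem fX_one_ne_one (r : ℕ) (hr : r < 48) : fX r (1 : F) ≠ 1 := by
  intro h
  exact one_ne_zero (cert12_F4.c6.xA_eq_one r (by rw [f4_n]; exact hr) (1 : F) h)

theorem fX_two_ne_one (r s : ℕ) (hr : r < 48) (hs : s < 48) (hne : r ≠ s) : fX r (1 : F) * fX s 1 ≠ 1 := by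
  intro h
  have e : fX r (1 : F) = (fX s 1)⁻¹ := eq_inv_of_mul_eq_one_left h
  rw [fX_one_inv] at e
  exact hne (cert12_F4.xA_inj r s (by rw [f4_n]; exact hr) (by rw [f4_n]; exact hs) (1 : F) 1 one_ne_zero e)

/-- the representatives lie in the group and have order two -/
theorem rep_mem_order (y : GL chevF4.Idx F) (hy : IsRep y) : y ∈ chevF4.group F ∧ orderOf y = 2 := by
  have h47 : fX 47 (1 : F) ∈ chevF4.group F := cert12_F4.c6.c2.xA_mem_group 47 1
  have h44 : fX 44 (1 : F) ∈ chevF4.group F := cert12_F4.c6.c2.xA_mem_group 44 1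
  have h39 : fX 39 (1 : F) ∈ chevF4.group F := cert12_F4.c6.c2.xA_mem_group 39 1
  have h45 : fX 45 (1 : F) ∈ chevF4.group F := cert12_F4.c6.c2.xA_mem_group 45 1
  have hord : ∀ x : GL chevF4.Idx F, x * x = 1 → x ≠ 1 → orderOf x = 2 := by
    intro x h1 h2
    exact orderOf_eq_prime (by rw [sq]; exact h1) h2
  rcases hy with rfl | rfl | rfl | rfl
  · exact ⟨h47, hord _ (fX_one_sq 47) (fX_one_ne_one 47 (by norm_num))⟩
  · exact ⟨h44, hord _ (fX_one_sq 44) (fX_one_ne_one 44 (by norm_num))⟩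
  · refine ⟨mul_mem h47 h44, hord _ ?_ (fX_two_ne_one 47 44 (by norm_num) (by norm_num) (by norm_num))⟩
    have hc : Commute (fX 47 (1 : F)) (fX 44 1) := comm2_comm 47 44 (by norm_num) (by norm_num) (by decide) 1 1
    calc fX 47 (1 : F) * fX 44 1 * (fX 47 1 * fX 44 1) = fX 47 1 * (fX 44 1 * fX 47 1) * fX 44 1 := by group
      _ = fX 47 1 * (fX 47 1 * fX 44 1) * fX 44 1 := by rw [hc.eq]
      _ = (fX 47 1 * fX 47 1) * (fX 44 1 * fX 44 1) := by group
      _ = 1 := by rw [fX_one_sq, fX_one_sq, mul_one]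
  · refine ⟨mul_mem h39 h45, hord _ ?_ (fX_two_ne_one 39 45 (by norm_num) (by norm_num) (by norm_num))⟩
    have hc : Commute (fX 39 (1 : F)) (fX 45 1) := comm2_comm 39 45 (by norm_num) (by norm_num) (by decide) 1 1
    calc fX 39 (1 : F) * fX 45 1 * (fX 39 1 * fX 45 1) = fX 39 1 * (fX 45 1 * fX 39 1) * fX 45 1 := by group
      _ = fX 39 1 * (fX 39 1 * fX 45 1) * fX 45 1 := by rw [hc.eq]
      _ = (fX 39 1 * fX 39 1) * (fX 45 1 * fX 45 1) := by group
      _ = 1 := by rw [fX_one_sq, fX_one_sq, mul_one]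

/-- an invertible matrix equal to one of the four matrices is one of the four representatives -/
theorem isRep_of_mem (y : GL chevF4.Idx F)
    (hy : ((y : GL chevF4.Idx F) : Matrix chevF4.Idx chevF4.Idx F) ∈ [chevF4.x F 47 1, chevF4.x F 44 1,
      chevF4.x F 47 1 * chevF4.x F 44 1, chevF4.x F 39 1 * chevF4.x F 45 1]) : IsRep y := by
  simp only [List.mem_cons, List.mem_nil_iff, or_false] at hy
  rcases hy with hy | hy | hy | hy
  · exact Or.inl (gl_ext (by rw [hy, cert12_F4.c6.c2.xA_val]))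
  · exact Or.inr (Or.inl (gl_ext (by rw [hy, cert12_F4.c6.c2.xA_val])))
  · exact Or.inr (Or.inr (Or.inl (gl_ext (by rw [hy, Units.val_mul, cert12_F4.c6.c2.xA_val, cert12_F4.c6.c2.xA_val]))))
  · exact Or.inr (Or.inr (Or.inr (gl_ext (by rw [hy, Units.val_mul, cert12_F4.c6.c2.xA_val, cert12_F4.c6.c2.xA_val]))))

omit [CharP F 2] in
theorem mem_of_isRep (y : GL chevF4.Idx F) (hy : IsRep y) :
    ((y : GL chevF4.Idx F) : Matrix chevF4.Idx chevF4.Idx F) ∈ [chevF4.x F 47 1, chevF4.x F 44 1,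
      chevF4.x F 47 1 * chevF4.x F 44 1, chevF4.x F 39 1 * chevF4.x F 45 1] := by
  rcases hy with rfl | rfl | rfl | rfl
  · rw [cert12_F4.c6.c2.xA_val]; simp
  · rw [cert12_F4.c6.c2.xA_val]; simp
  · rw [Units.val_mul, cert12_F4.c6.c2.xA_val, cert12_F4.c6.c2.xA_val]; simp
  · rw [Units.val_mul, cert12_F4.c6.c2.xA_val, cert12_F4.c6.c2.xA_val]; simp

end Cfsg.Agent.Lib.H12.F4Cls
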