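import Cfsg.Agent.Lib.H9.AECS
import Cfsg.Agent.Lib.H3.AEREG
import Cfsg.Agent.Lib.H21.PCompPair
import Cfsg.Agent.Lib.H2.AECLS

/-!
# S1951 piece A2 (helper12): the count of the bad conjugators

`(p - 1) · #{a : G | (a z a⁻¹) z is p-regular} ≤ |G|`, from helper21's pair lemma
(`H21.PCG.pow_index_unique_of_regular`), helper3's counting (`H3.AE.regcount_natCard`) and helper9's fibre count
(`H9.AECS.sum_conj_eq`).
-/

set_option autoImplicit false

namespace Cfsg.Agent.Lib.H12.GR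

open Cfsg

variable {G : Type*} [Group G] [Finite G] {p : ℕ} [Fact p.Prime]

/-- A2. The count. -/
theorem bad_card_le (P : Sylow p G) (hPe : Cfsg.IsElementaryAbelian p (P : Subgroup G))
    (hconj : ∀ x ∈ (P : Subgroup G), ∀ y ∈ (P : Subgroup G), x ≠ 1 → y ≠ 1 → ∃ g : G, g * x * g⁻¹ = y)
    (hc : ∀ x y : G, orderOf x = p → orderOf y = p → Cfsg.IsPSolvable p ↥(Subgroup.closure ({x, y} : Set G)))
    {z : G} (hz : z ∈ (P : Subgroup G)) (hz1 : z ≠ 1) :
    (p - 1) * Nat.card {a : G // ¬ p ∣ orderOf (a * z * a⁻¹ * z)} ≤ Nat.card G := by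
  classical
  have : Fintype G := Fintype.ofFinite G
  have hp : p.Prime := Fact.out
  have hPc : ∀ x ∈ (P : Subgroup G), ∀ y ∈ (P : Subgroup G), x * y = y * x := fun x hx y hy =>
    congrArg Subtype.val (hPe.1.is_comm.comm ⟨x, hx⟩ ⟨y, hy⟩)
  have hzo : orderOf z = p := Cfsg.Agent.Lib.H2.AE.orderOf_eq_of_mem P hPe hz hz1
  have hzio : orderOf z⁻¹ = p := by rw [orderOf_inv]; exact hzo
  -- helper3's count with `a = z⁻¹`
  have hreg := Cfsg.Agent.Lib.H3.AE.regcount_natCard hp z⁻¹ (fun y hy i j hi hip hj hjp hri hrj =>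
    Cfsg.Agent.Lib.H21.PCG.pow_index_unique_of_regular P hPc z⁻¹ y hzio hy (hc z⁻¹ y hzio hy)
      i j hi hip hj hjp hri hrj)
  rw [inv_inv] at hreg
  -- orders of `y z` and `z y`
  have hord : ∀ y : G, orderOf (y * z) = orderOf (z * y) := by
    intro y
    have h1 : y * z = z⁻¹ * (z * y) * z⁻¹⁻¹ := by group
    have h2 := MulEquiv.orderOf_eq (MulAut.conj z⁻¹) (z * y)
    rw [MulAut.conj_apply] at h2
    rw [h1, h2]
  -- the fibre count
  have hfib := Cfsg.Agent.Lib.H9.AECS.sum_conj_eq z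
    (fun y => if ¬ p ∣ orderOf (y * z) then (1 : ℂ) else 0)
  have hcls : ∀ y : G, y ∈ Cfsg.Agent.Lib.H9.AECS.cls z ↔ orderOf y = p := by
    intro y
    rw [Cfsg.Agent.Lib.H9.AECS.mem_cls]
    exact (Cfsg.Agent.Lib.H2.AE.orderOf_eq_iff_isConj P hPe hconj hz hz1 y).symm
  -- rewrite both sides as cardinalities
  have hL : ∑ x : G, (if ¬ p ∣ orderOf (x * z * x⁻¹ * z) then (1 : ℂ) else 0) =
      (Nat.card {a : G // ¬ p ∣ orderOf (a * z * a⁻¹ * z)} : ℂ) := by
    rw [Finset.sum_ite, Finset.sum_const_zero, add_zero, Finset.sum_const, nsmul_eq_mul, mul_one,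
      Nat.card_eq_fintype_card, Fintype.card_subtype]
  have hR : ∑ y ∈ Cfsg.Agent.Lib.H9.AECS.cls z, (if ¬ p ∣ orderOf (y * z) then (1 : ℂ) else 0) =
      (Nat.card {y : G // orderOf y = p ∧ ¬ p ∣ orderOf (z * y)} : ℂ) := by
    rw [Finset.sum_ite, Finset.sum_const_zero, add_zero, Finset.sum_const, nsmul_eq_mul, mul_one,
      Nat.card_eq_fintype_card, Fintype.card_subtype]
    congr 2
    ext y
    simp only [Finset.mem_filter, Finset.mem_univ, true_and, hcls, hord]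
  rw [hL, hR] at hfib
  have hfibN : Nat.card {a : G // ¬ p ∣ orderOf (a * z * a⁻¹ * z)} =
      (Cfsg.Agent.Lib.H9.AECS.fib z z).card *
        Nat.card {y : G // orderOf y = p ∧ ¬ p ∣ orderOf (z * y)} := by
    exact_mod_cast hfib
  have hG := Cfsg.Agent.Lib.H9.AECS.card_fib_mul_card_cls z
  have hclsN : (Cfsg.Agent.Lib.H9.AECS.cls z).card = Nat.card {y : G // orderOf y = p} := by
    rw [Nat.card_eq_fintype_card, Fintype.card_subtype]
    congr 1
    ext y
    simp only [Finset.mem_filter, Finset.mem_univ, true_and, hcls]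
  rw [Nat.card_eq_fintype_card (α := G), ← hG, hfibN, hclsN]
  calc (p - 1) * ((Cfsg.Agent.Lib.H9.AECS.fib z z).card *
        Nat.card {y : G // orderOf y = p ∧ ¬ p ∣ orderOf (z * y)})
      = (Cfsg.Agent.Lib.H9.AECS.fib z z).card *
        ((p - 1) * Nat.card {y : G // orderOf y = p ∧ ¬ p ∣ orderOf (z * y)}) := by ring
    _ ≤ (Cfsg.Agent.Lib.H9.AECS.fib z z).card * Nat.card {y : G // orderOf y = p} :=
        Nat.mul_le_mul_left _ hreg

end Cfsg.Agent.Lib.H12.GR
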