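import Cfsg.Agent.Lib.H24.CharSchur
import Cfsg.Agent.Lib.H23.BlockOsima
import Cfsg.Agent.Lib.H15.AECONST
import Cfsg.Agent.Lib.H2.AECOUNT
import Cfsg.Agent.Lib.H25.AEPSI

/-!
# S1951 piece I (helper12): the cube identity of the principal block

With `z ∈ P#`, `B₀` the principal block and `τ` the number of `a ∈ G` with `(a z a⁻¹) z` `p`-regular:
`|G| · ∑_{B₀} (χ z)^3 / χ 1 = (|G| - τ) · |P|` and `∑_{B₀} χ z · χ 1 = 0`.
On landed pieces: `H24.irr_sum_conj_mul` (class sums), `H15.AE.principalBlock_const_on_pSingular` (CONST),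
`H25.AE.psi_eq_zero_of_regular` / `psi_self_eq` (PSI), `H2.AE.card_pSingular_mul_card` (COUNT).
-/

set_option autoImplicit false

namespace Cfsg.Agent.Lib.H12.GR

open Cfsg

variable {G : Type*} [Group G] [Finite G] {p : ℕ} [Fact p.Prime]

omit [Finite G] [Fact p.Prime] in
/-- values at `z⁻¹` and `z` agree (both lie in `P#`, which is fused). -/
theorem apply_inv_eq (P : Sylow p G)
    (hconj : ∀ x ∈ (P : Subgroup G), ∀ y ∈ (P : Subgroup G), x ≠ 1 → y ≠ 1 → ∃ g : G, g * x * g⁻¹ = y)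
    {z : G} (hz : z ∈ (P : Subgroup G)) (hz1 : z ≠ 1) (χ : Cfsg.IrrCharacter G) :
    (χ : G → ℂ) z⁻¹ = (χ : G → ℂ) z := by
  have hzi : z⁻¹ ∈ (P : Subgroup G) := Subgroup.inv_mem _ hz
  have hzi1 : z⁻¹ ≠ 1 := by
    intro h
    exact hz1 (inv_eq_one.mp h)
  obtain ⟨g, hg⟩ := hconj z hz z⁻¹ hzi hz1 hzi1
  rw [← hg]
  exact Cfsg.Agent.Lib.L0.isClassFunction_of_isCharacter
    (Cfsg.Agent.Lib.L0.isCharacter_of_irr χ.2) z g

/-- `Γ = |P|` without complex conjugation (the values `χ z` are real). -/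
theorem gamma_eq' (P : Sylow p G) (hPe : Cfsg.IsElementaryAbelian p (P : Subgroup G))
    (hconj : ∀ x ∈ (P : Subgroup G), ∀ y ∈ (P : Subgroup G), x ≠ 1 → y ≠ 1 → ∃ g : G, g * x * g⁻¹ = y)
    (hb : ∀ x ∈ (P : Subgroup G), orderOf x = p → Cfsg.HasNormalPComplement p ↥(Subgroup.centralizer ({x} : Set G)))
    (M : Ideal Cfsg.AlgInt) (hM : Cfsg.IsPModular p M) {z : G} (hz : z ∈ (P : Subgroup G)) (hz1 : z ≠ 1) :
    ∑ᶠ χ ∈ Cfsg.principalBlock M G, (χ : G → ℂ) z * (χ : G → ℂ) z = (Nat.card (P : Subgroup G) : ℂ) := by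
  have hP1 : (P : Subgroup G) ≠ ⊥ := by
    intro h
    rw [h, Subgroup.mem_bot] at hz
    exact hz1 hz
  have hzp : ∃ k : ℕ, orderOf z = p ^ k := by
    obtain ⟨k, hk⟩ := (IsPGroup.iff_orderOf.mp P.2) ⟨z, hz⟩
    exact ⟨k, by rw [← hk, Subgroup.orderOf_mk]⟩
  have hconst : ∀ χ ∈ principalBlock M G, ∀ g : G, p ∣ orderOf g → (χ : G → ℂ) g = (χ : G → ℂ) z :=
    fun χ hχ g hg =>
      Cfsg.Agent.Lib.H15.AE.principalBlock_const_on_pSingular M hM P hPe hconj hb z hz hz1 χ hχ g hg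
  have hcount := Cfsg.Agent.Lib.H2.AE.card_pSingular_mul_card P hP1 hPe hconj hb
  have h := Cfsg.Agent.Lib.H25.AE.psi_self_eq hM z hz1 hzp (Nat.card (P : Subgroup G)) hconst hcount
  rw [← h]
  exact finsum_mem_congr rfl fun χ _ => by rw [apply_inv_eq P hconj hz hz1 χ]

/-- I. The cube identity and the degree relation. -/
theorem cube_identity (P : Sylow p G) (hPe : Cfsg.IsElementaryAbelian p (P : Subgroup G))
    (hconj : ∀ x ∈ (P : Subgroup G), ∀ y ∈ (P : Subgroup G), x ≠ 1 → y ≠ 1 → ∃ g : G, g * x * g⁻¹ = y)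
    (hb : ∀ x ∈ (P : Subgroup G), orderOf x = p → Cfsg.HasNormalPComplement p ↥(Subgroup.centralizer ({x} : Set G)))
    (M : Ideal Cfsg.AlgInt) (hM : Cfsg.IsPModular p M) {z : G} (hz : z ∈ (P : Subgroup G)) (hz1 : z ≠ 1) :
    (Nat.card G : ℂ) * ∑ᶠ χ ∈ Cfsg.principalBlock M G, ((χ : G → ℂ) z) ^ 3 / (χ : G → ℂ) 1 =
      ((Nat.card G : ℂ) - (Nat.card {a : G // ¬ p ∣ orderOf (a * z * a⁻¹ * z)} : ℂ)) * (Nat.card (P : Subgroup G) : ℂ) ∧
    ∑ᶠ χ ∈ Cfsg.principalBlock M G, (χ : G → ℂ) z * (χ : G → ℂ) 1 = 0 := by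
  classical
  have : Fintype G := Fintype.ofFinite G
  have : Fintype (Cfsg.IrrCharacter G) := Fintype.ofFinite _
  have hp : p.Prime := Fact.out
  have hP1 : (P : Subgroup G) ≠ ⊥ := by
    intro h
    rw [h, Subgroup.mem_bot] at hz
    exact hz1 hz
  -- `z` is a `p`-element
  have hzp : ∃ k : ℕ, orderOf z = p ^ k := by
    obtain ⟨k, hk⟩ := (IsPGroup.iff_orderOf.mp P.2) ⟨z, hz⟩
    exact ⟨k, by rw [← hk, Subgroup.orderOf_mk]⟩
  have hinv := fun χ => apply_inv_eq P hconj hz hz1 χ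
  have hconst : ∀ χ ∈ principalBlock M G, ∀ g : G, p ∣ orderOf g → (χ : G → ℂ) g = (χ : G → ℂ) z :=
    fun χ hχ g hg =>
      Cfsg.Agent.Lib.H15.AE.principalBlock_const_on_pSingular M hM P hPe hconj hb z hz hz1 χ hχ g hg
  have hcount := Cfsg.Agent.Lib.H2.AE.card_pSingular_mul_card P hP1 hPe hconj hb
  -- Γ
  have hΓ : ∑ᶠ χ ∈ principalBlock M G, (χ : G → ℂ) z * (χ : G → ℂ) z = (Nat.card (P : Subgroup G) : ℂ) := by
    have h := Cfsg.Agent.Lib.H25.AE.psi_self_eq hM z hz1 hzp (Nat.card (P : Subgroup G)) hconst hcount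
    rw [← h]
    exact finsum_mem_congr rfl fun χ _ => by rw [hinv χ]
  -- regular elements
  have hreg : ∀ g : G, ¬ p ∣ orderOf g →
      ∑ᶠ χ ∈ principalBlock M G, (χ : G → ℂ) z * (χ : G → ℂ) g = 0 := by
    intro g hg
    have h := Cfsg.Agent.Lib.H25.AE.psi_eq_zero_of_regular hM z hz1 hzp g hg
    rw [← h]
    exact finsum_mem_congr rfl fun χ _ => by rw [hinv χ, mul_comm]
  refine ⟨?_, ?_⟩
  swap
  · have h1 : ¬ p ∣ orderOf (1 : G) := by
      rw [orderOf_one]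
      exact hp.one_lt.ne' ∘ Nat.dvd_one.1
    exact hreg 1 h1
  -- the main identity
  have hGne : (Nat.card G : ℂ) ≠ 0 := by exact_mod_cast (Nat.card_pos (α := G)).ne'
  -- per-character class sums
  have hcs : ∀ χ : IrrCharacter G,
      (Nat.card G : ℂ) * (((χ : G → ℂ) z) ^ 3 / (χ : G → ℂ) 1) =
        ∑ a : G, (χ : G → ℂ) z * (χ : G → ℂ) (a * z * a⁻¹ * z) := by
    intro χ
    rw [← Finset.mul_sum, Cfsg.Agent.Lib.H24.irr_sum_conj_mul χ z z]
    ring
  rw [Cfsg.Agent.Lib.H23.finsum_mem_eq_sum_ite, Finset.mul_sum]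
  have hstep : ∀ χ : IrrCharacter G,
      (Nat.card G : ℂ) * (if χ ∈ principalBlock M G then ((χ : G → ℂ) z) ^ 3 / (χ : G → ℂ) 1 else 0) =
        ∑ a : G, (if χ ∈ principalBlock M G then
          (χ : G → ℂ) z * (χ : G → ℂ) (a * z * a⁻¹ * z) else 0) := by
    intro χ
    split_ifs with h
    · exact hcs χ
    · simp
  rw [Finset.sum_congr rfl (fun χ _ => hstep χ), Finset.sum_comm]
  -- inner sums
  have hinner : ∀ a : G, (∑ χ : IrrCharacter G, (if χ ∈ principalBlock M G then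
        (χ : G → ℂ) z * (χ : G → ℂ) (a * z * a⁻¹ * z) else 0)) =
      if p ∣ orderOf (a * z * a⁻¹ * z) then (Nat.card (P : Subgroup G) : ℂ) else 0 := by
    intro a
    rw [← Cfsg.Agent.Lib.H23.finsum_mem_eq_sum_ite (principalBlock M G)
      (fun χ => (χ : G → ℂ) z * (χ : G → ℂ) (a * z * a⁻¹ * z))]
    split_ifs with h
    · rw [← hΓ]
      refine finsum_mem_congr rfl fun χ hχ => ?_
      rw [hconst χ hχ _ h]
    · exact hreg _ h
  rw [Finset.sum_congr rfl (fun a _ => hinner a), Finset.sum_ite, Finset.sum_const_zero, add_zero,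
    Finset.sum_const, nsmul_eq_mul]
  have hle : Nat.card {a : G // ¬ p ∣ orderOf (a * z * a⁻¹ * z)} ≤ Nat.card G := by
    rw [Nat.card_eq_fintype_card, Nat.card_eq_fintype_card]
    exact Fintype.card_subtype_le _
  have hcard : (Finset.univ.filter (fun a : G => p ∣ orderOf (a * z * a⁻¹ * z))).card =
      Nat.card G - Nat.card {a : G // ¬ p ∣ orderOf (a * z * a⁻¹ * z)} := by
    have h1 := Finset.card_filter_add_card_filter_not
        (s := (Finset.univ : Finset G)) (fun a : G => p ∣ orderOf (a * z * a⁻¹ * z))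
    rw [Finset.card_univ] at h1
    rw [Nat.card_eq_fintype_card, Nat.card_eq_fintype_card, Fintype.card_subtype]
    omega
  rw [hcard, Nat.cast_sub hle]

end Cfsg.Agent.Lib.H12.GR
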