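import Mathlib
import Cfsg.Agent.Lib.H12.SemiB

/-!
# Isometries of hermitian forms: basic lemmas (helper12)

Forms are `B : V →ₛₗ[σ] V →ₗ[F] F`, semilinear in the first argument.
-/

set_option autoImplicit false
set_option linter.unusedSectionVars false
open Polynomial

namespace Cfsg.Agent.Lib.H12.USemi

open Cfsg.Agent.Lib.H12.Semi

section involution

/-- a ring involution of a finite field is a Frobenius power `x ↦ x ^ Q` with `Q ^ 2 = |K|` -/
theorem exists_frob_of_involution {K : Type*} [Field K] [Finite K] (τ : K →+* K)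
    (hτ2 : ∀ x, τ (τ x) = x) (hτ1 : ∃ x, τ x ≠ x) :
    ∃ Q : ℕ, 2 ≤ Q ∧ (∀ x, τ x = x ^ Q) ∧ Nat.card K = Q ^ 2 := by
  classical
  obtain ⟨p, hp⟩ := CharP.exists K
  have hpp : p.Prime := CharP.char_is_prime K p
  haveI : Fact p.Prime := ⟨hpp⟩
  letI : Algebra (ZMod p) K := ZMod.algebra K p
  have : Fintype K := Fintype.ofFinite K
  let τ' : K →ₐ[ZMod p] K :=
    { τ with
      commutes' := fun r => by
        have h1 : τ.comp (algebraMap (ZMod p) K) = algebraMap (ZMod p) K :=
          Subsingleton.elim _ _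
        exact congrArg (fun f : ZMod p →+* K => f r) h1 }
  have hτ' : ∀ x, τ' x = τ x := fun x => rfl
  obtain ⟨⟨n, hlt⟩, hn⟩ := (FiniteField.bijective_frobeniusAlgHom_pow (ZMod p) K).2 τ'
  have hn' : FiniteField.frobeniusAlgHom (ZMod p) K ^ n = τ' := hn
  have hσx : ∀ x : K, τ x = x ^ (p ^ n) := by
    intro x
    rw [← hτ', ← hn', AlgHom.coe_pow, FiniteField.coe_frobeniusAlgHom, pow_iterate, ZMod.card]
  have hp2 : 2 ≤ p := hpp.two_le
  have hn0 : n ≠ 0 := by
    intro h0
    obtain ⟨x, hx⟩ := hτ1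
    apply hx
    rw [hσx, h0, pow_zero, pow_one]
  have hord := FiniteField.orderOf_frobeniusAlgHom (ZMod p) K
  have h2 : FiniteField.frobeniusAlgHom (ZMod p) K ^ (2 * n) = 1 := by
    rw [two_mul, pow_add, hn']
    apply AlgHom.ext
    intro x
    rw [AlgHom.mul_apply, hτ', hτ', hτ2, AlgHom.one_apply]
  have h3 : Module.finrank (ZMod p) K ∣ 2 * n := by
    rw [← hord]
    exact orderOf_dvd_of_pow_eq_one h2
  have h4 : 2 * n = Module.finrank (ZMod p) K := by
    obtain ⟨t, ht⟩ := h3
    have ht0 : t ≠ 0 := by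
      rintro rfl
      omega
    have ht2 : t < 2 := by
      by_contra hcon
      push Not at hcon
      have : Module.finrank (ZMod p) K * 2 ≤ Module.finrank (ZMod p) K * t :=
        Nat.mul_le_mul_left _ hcon
      omega
    have : t = 1 := by omega
    rw [this, mul_one] at ht
    exact ht
  refine ⟨p ^ n, ?_, hσx, ?_⟩
  · calc 2 = 2 ^ 1 := by norm_num
      _ ≤ p ^ 1 := Nat.pow_le_pow_left hp2 1
      _ ≤ p ^ n := Nat.pow_le_pow_right (by omega) (by omega)
  · rw [Nat.card_eq_fintype_card, Module.card_eq_pow_finrank (K := ZMod p) (V := K), ← h4,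
      ZMod.card, ← pow_mul, mul_comm]

/-- norm surjectivity for an involution of a finite field -/
theorem exists_norm_of_involution {K : Type*} [Field K] [Finite K] (τ : K →+* K)
    (hτ2 : ∀ x, τ (τ x) = x) (hτ1 : ∃ x, τ x ≠ x) (e : K) (he0 : e ≠ 0) (he : τ e = e) :
    ∃ a : K, a ≠ 0 ∧ τ a * a = e := by
  classical
  obtain ⟨Q, hQ2, hσ, hcard⟩ := exists_frob_of_involution τ hτ2 hτ1
  have : Fintype K := Fintype.ofFinite _
  obtain ⟨γ, hγ⟩ := IsCyclic.exists_generator (α := Kˣ)
  have hord : orderOf γ = Q ^ 2 - 1 := by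
    rw [orderOf_eq_card_of_forall_mem_zpowers hγ, Nat.card_units, hcard]
  set eu : Kˣ := Units.mk0 e he0 with heu
  obtain ⟨t, ht⟩ : ∃ t : ℕ, γ ^ t = eu := by
    have h1 := hγ eu
    rw [← mem_powers_iff_mem_zpowers] at h1
    exact h1
  have h1 : eu ^ (Q - 1) = 1 := by
    apply Units.ext
    rw [Units.val_pow_eq_pow_val, Units.val_one, heu, Units.val_mk0]
    have h2 : e ^ Q = e := by rw [← hσ, he]
    have h3 : e ^ (Q - 1) * e = e := by rw [← pow_succ, Nat.sub_add_cancel (by omega), h2]
    have h4 : e ^ (Q - 1) * e = 1 * e := by rw [h3, one_mul]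
    exact mul_right_cancel₀ he0 h4
  rw [← ht, ← pow_mul] at h1
  have h2 : Q ^ 2 - 1 ∣ t * (Q - 1) := by
    rw [← hord]
    exact orderOf_dvd_of_pow_eq_one h1
  have h3 : Q ^ 2 - 1 = (Q + 1) * (Q - 1) := by
    have : 1 ≤ Q := by omega
    zify [this, Nat.one_le_pow 2 Q this]
    ring
  rw [h3] at h2
  have h4 : Q + 1 ∣ t := (Nat.mul_dvd_mul_iff_right (by omega : 0 < Q - 1)).1 h2
  obtain ⟨s, hs⟩ := h4
  refine ⟨((γ ^ s : Kˣ) : K), Units.ne_zero _, ?_⟩
  rw [hσ, ← pow_succ, ← Units.val_pow_eq_pow_val, ← pow_mul, mul_comm s (Q + 1), ← hs, ht, heu,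
    Units.val_mk0]

end involution

universe u v
variable {F : Type u} [Field F] {σ : F →+* F} {V : Type v} [AddCommGroup V] [Module F V]

/-- a non-degenerate hermitian form with an isometry -/
structure UData (σ : F →+* F) (B : V →ₛₗ[σ] V →ₗ[F] F) (g : Module.End F V) : Prop where
  inv : ∀ a, σ (σ a) = a
  ne : ∃ a, σ a ≠ a
  symm : ∀ x y, σ (B x y) = B y x
  nd : ∀ v, (∀ w, B w v = 0) → v = 0
  iso : ∀ x y, B (g x) (g y) = B x y

variable {B : V →ₛₗ[σ] V →ₗ[F] F} {g : Module.End F V}

theorem UData.zero_symm (h : UData σ B g) {x y : V} (hxy : B x y = 0) : B y x = 0 := by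
  rw [← h.symm, hxy, map_zero]

theorem UData.nd_left (h : UData σ B g) (v : V) (hv : ∀ w, B v w = 0) : v = 0 := by
  apply h.nd
  intro w
  exact h.zero_symm (hv w)

theorem UData.smul_left (h : UData σ B g) (c : F) (x y : V) : B (c • x) y = σ c * B x y := by
  rw [map_smulₛₗ, LinearMap.smul_apply, smul_eq_mul]

theorem UData.smul_right (h : UData σ B g) (c : F) (x y : V) : B x (c • y) = c * B x y := by
  rw [map_smul, smul_eq_mul]

theorem UData.injective (h : UData σ B g) : Function.Injective g := by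
  rw [← LinearMap.ker_eq_bot, LinearMap.ker_eq_bot']
  intro x hx
  apply h.nd
  intro w
  rw [← h.iso, hx, map_zero]

theorem UData.iso_pow (h : UData σ B g) (i : ℕ) (x y : V) :
    B ((g ^ i) x) ((g ^ i) y) = B x y := by
  induction i with
  | zero => simp
  | succ i ih => rw [pow_succ', Module.End.mul_apply, Module.End.mul_apply, h.iso, ih]

theorem UData.iso_pow_le (h : UData σ B g) {i m : ℕ} (him : i ≤ m) (x y : V) :
    B ((g ^ m) x) ((g ^ i) y) = B ((g ^ (m - i)) x) y := by
  have : m = i + (m - i) := by omega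
  conv_lhs => rw [this, pow_add, Module.End.mul_apply, h.iso_pow]

/-- the dual polynomial: conjugate the coefficients and reverse -/
noncomputable def dualP (σ : F →+* F) (π : F[X]) : F[X] := (π.map σ).reverse

theorem natDegree_map_sigma (π : F[X]) : (π.map σ).natDegree = π.natDegree :=
  natDegree_map_eq_of_injective σ.injective π

theorem dualP_coeff (π : F[X]) (j : ℕ) (hj : j ≤ π.natDegree) :
    (dualP σ π).coeff j = σ (π.coeff (π.natDegree - j)) := by
  rw [dualP, coeff_reverse, natDegree_map_sigma, revAt_le hj, coeff_map]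

theorem dualP_natDegree_le (π : F[X]) : (dualP σ π).natDegree ≤ π.natDegree := by
  rw [dualP]
  exact (reverse_natDegree_le _).trans (le_of_eq (natDegree_map_sigma π))

/-- the adjoint of `π(g)` is `g ^ (-d) π*(g)` -/
theorem UData.form_dual (h : UData σ B g) (π : F[X]) (x z : V) :
    B ((g ^ π.natDegree) z) (aeval g π x) = B (aeval g (dualP σ π) z) x := by
  set d := π.natDegree with hd
  rw [aeval_eq_sum_range, aeval_eq_sum_range' (lt_of_le_of_lt (dualP_natDegree_le π)
    (Nat.lt_succ_self d)), LinearMap.sum_apply, LinearMap.sum_apply, map_sum, map_sum,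
    LinearMap.sum_apply]
  rw [← Finset.sum_range_reflect]
  apply Finset.sum_congr rfl
  intro j hj
  rw [Finset.mem_range] at hj
  have hj' : d + 1 - 1 - j ≤ d := by omega
  rw [LinearMap.smul_apply, LinearMap.smul_apply, map_smul, map_smulₛₗ, LinearMap.smul_apply,
    h.iso_pow_le hj', dualP_coeff π j (by omega), h.inv]
  have e1 : d + 1 - 1 - j = d - j := by omega
  have e2 : d - (d - j) = j := by omega
  rw [e1, e2, ← hd]

/-- vectors killed by `π(g)` and `ρ(g)` are orthogonal if `ρ` is coprime to the dual of `π` -/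
theorem UData.ortho_of_coprime (h : UData σ B g) {π ρ : F[X]} (hco : IsCoprime ρ (dualP σ π))
    {x y : V} (hx : aeval g π x = 0) (hy : aeval g ρ y = 0) : B y x = 0 := by
  obtain ⟨a, b, hab⟩ := hco
  have h1 : y = aeval g (dualP σ π) (aeval g b y) := by
    have h2 : aeval g (a * ρ + b * dualP σ π) y = y := by rw [hab]; simp
    rw [map_add, LinearMap.add_apply, mul_comm a ρ, aeval_mul_apply_comm g ρ a, hy, map_zero,
      zero_add, aeval_mul_apply_comm g b (dualP σ π)] at h2
    exact h2.symm
  rw [h1, ← h.form_dual, hx, map_zero]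

/-- for a self-dual `π`, `ker π(g)` is orthogonal to `range π(g)` -/
theorem UData.ortho_range (h : UData σ B g) {π : F[X]} {c : F} (hc : c ≠ 0)
    (hrev : dualP σ π = C c * π) {x : V} (hx : aeval g π x = 0) (z : V) :
    B (aeval g π z) x = 0 := by
  have h1 : aeval g π z = c⁻¹ • aeval g (dualP σ π) z := by
    rw [hrev, map_mul, Module.End.mul_apply, aeval_C, Module.algebraMap_end_apply, smul_smul,
      inv_mul_cancel₀ hc, one_smul]
  rw [h1, map_smulₛₗ, LinearMap.smul_apply, ← h.form_dual, hx, map_zero, smul_zero]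

/-- the orthogonal complement -/
def uorth (B : V →ₛₗ[σ] V →ₗ[F] F) (W : Submodule F V) : Submodule F V where
  carrier := {v | ∀ w ∈ W, B w v = 0}
  add_mem' := by
    intro a b ha hb w hw
    rw [map_add, ha w hw, hb w hw, add_zero]
  zero_mem' := by
    intro w _
    rw [map_zero]
  smul_mem' := by
    intro c a ha w hw
    rw [map_smul, ha w hw, smul_zero]

theorem mem_uorth (B : V →ₛₗ[σ] V →ₗ[F] F) (W : Submodule F V) (v : V) :
    v ∈ uorth B W ↔ ∀ w ∈ W, B w v = 0 := Iff.rfl

section findim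

variable [FiniteDimensional F V]

theorem UData.surjective (h : UData σ B g) : Function.Surjective g :=
  LinearMap.surjective_of_injective h.injective

/-- an invariant subspace is mapped onto itself -/
theorem UData.map_eq (h : UData σ B g) {H : Submodule F V} (hH : H ∈ g.invtSubmodule) :
    H.map g = H := by
  have h1 : H.map g ≤ H := by
    rintro _ ⟨x, hx, rfl⟩
    exact (Module.End.mem_invtSubmodule_iff_forall_mem_of_mem g).1 hH x hx
  apply Submodule.eq_of_le_of_finrank_le h1
  rw [← LinearEquiv.finrank_eq (Submodule.equivMapOfInjective g h.injective H)]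

/-- the orthogonal complement of an invariant subspace is invariant -/
theorem UData.orthogonal_invt (h : UData σ B g) {H : Submodule F V} (hH : H ∈ g.invtSubmodule) :
    uorth B H ∈ g.invtSubmodule := by
  rw [Module.End.mem_invtSubmodule_iff_forall_mem_of_mem g]
  intro y hy
  rw [mem_uorth] at hy ⊢
  intro x hx
  have hx' : x ∈ H.map g := by rw [h.map_eq hH]; exact hx
  obtain ⟨x0, hx0, rfl⟩ := hx'
  rw [h.iso]
  exact hy x0 hx0

end findim

end Cfsg.Agent.Lib.H12.USemi
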