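import Mathlib
import Cfsg.Agent.Lib.H12.UnitA
import Cfsg.Agent.Lib.H12.SpSemiB

/-!
# Isometries of hermitian forms over finite fields: restriction, complements, gluing (helper12)
-/

set_option autoImplicit false
set_option linter.unusedSectionVars false
open Polynomial

namespace Cfsg.Agent.Lib.H12.USemi

open Cfsg.Agent.Lib.H12.Semi

universe u v
variable {F : Type u} [Field F] {σ : F →+* F} {V : Type v} [AddCommGroup V] [Module F V]
  {W : Type v} [AddCommGroup W] [Module F W]
variable {B : V →ₛₗ[σ] V →ₗ[F] F} {g : Module.End F V}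
  {B' : W →ₛₗ[σ] W →ₗ[F] F} {g' : Module.End F W}

/-- the restriction of a form to a subspace -/
noncomputable def resForm (B : V →ₛₗ[σ] V →ₗ[F] F) (H : Submodule F V) : H →ₛₗ[σ] H →ₗ[F] F :=
  B.domRestrict₁₂ H H

@[simp] theorem resForm_apply (B : V →ₛₗ[σ] V →ₗ[F] F) (H : Submodule F V) (x y : H) :
    resForm B H x y = B x y := rfl

/-- restriction to a non-degenerate invariant subspace -/
theorem UData.restrict (h : UData σ B g) {H : Submodule F V} (hH : H ∈ g.invtSubmodule)
    (hnd : ∀ x ∈ H, (∀ y ∈ H, B y x = 0) → x = 0) : UData σ (resForm B H) (res g hH) where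
  inv := h.inv
  ne := h.ne
  symm := fun x y => h.symm x y
  nd := by
    intro x hx
    apply Subtype.ext
    apply hnd x x.2
    intro y hy
    exact hx ⟨y, hy⟩
  iso := fun x y => h.iso x y

section finite
variable [Finite F] [FiniteDimensional F V]

/-- pairing two subspaces: if `W2` pairs injectively with `W1` and the cardinalities allow it,
every functional on `W1` is represented by an element of `W2` -/
theorem exists_repr_of_le (W1 W2 : Submodule F V)
    (hinj : ∀ y ∈ W2, (∀ x ∈ W1, B y x = 0) → y = 0)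
    (hle : Module.finrank F W1 ≤ Module.finrank F W2) (l : Module.Dual F W1) :
    ∃ y ∈ W2, ∀ x : W1, B y x = l x := by
  classical
  have : Finite V := Module.finite_of_finite F
  let Ψ : W2 → Module.Dual F W1 := fun y => (B y).domRestrict W1
  have hΨ : Function.Injective Ψ := by
    intro y y' hyy
    apply Subtype.ext
    rw [← sub_eq_zero]
    apply hinj _ (W2.sub_mem y.2 y'.2)
    intro x hx
    have h1 := congrArg (fun f : Module.Dual F W1 => f ⟨x, hx⟩) hyy
    simp only [Ψ, LinearMap.domRestrict_apply] at h1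
    rw [map_sub, LinearMap.sub_apply, h1, sub_self]
  have : Finite (Module.Dual F W1) := Module.finite_of_finite F
  have hcard : Nat.card (Module.Dual F W1) ≤ Nat.card W2 := by
    rw [Module.natCard_eq_pow_finrank (K := F) (V := Module.Dual F W1),
      Module.natCard_eq_pow_finrank (K := F) (V := W2), Subspace.dual_finrank_eq]
    exact Nat.pow_le_pow_right Nat.card_pos hle
  have hbij := Function.Injective.bijective_of_nat_card_le hΨ hcard
  obtain ⟨y, hy⟩ := hbij.2 l
  refine ⟨y, y.2, ?_⟩
  intro x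
  rw [← hy]
  rfl

theorem UData.isCompl_orth (h : UData σ B g) {H : Submodule F V}
    (hnd : ∀ x ∈ H, (∀ y ∈ H, B y x = 0) → x = 0) : IsCompl H (uorth B H) := by
  constructor
  · rw [Submodule.disjoint_def]
    intro x hx hx'
    exact hnd x hx (fun y hy => hx' y hy)
  · rw [codisjoint_iff, eq_top_iff]
    intro v _
    have hinj : ∀ y ∈ H, (∀ x ∈ H, B y x = 0) → y = 0 := by
      intro y hy hyx
      apply hnd y hy
      intro x hx
      exact h.zero_symm (hyx x hx)
    obtain ⟨y, hy, hyv⟩ := exists_repr_of_le H H hinj le_rfl ((B v).domRestrict H)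
    have h1 : v - y ∈ uorth B H := by
      intro w hw
      apply h.zero_symm
      rw [map_sub, LinearMap.sub_apply, sub_eq_zero]
      have := hyv ⟨w, hw⟩
      rw [LinearMap.domRestrict_apply] at this
      exact this.symm
    have h2 : v = y + (v - y) := by abel
    rw [h2]
    exact Submodule.add_mem_sup hy h1

/-- the orthogonal complement of a non-degenerate subspace is non-degenerate -/
theorem UData.nd_orth (h : UData σ B g) {H : Submodule F V}
    (hnd : ∀ x ∈ H, (∀ y ∈ H, B y x = 0) → x = 0) :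
    ∀ x ∈ uorth B H, (∀ y ∈ uorth B H, B y x = 0) → x = 0 := by
  intro x hx hxy
  apply h.nd
  intro w
  have hc := h.isCompl_orth hnd
  have hw : w ∈ H ⊔ uorth B H := by rw [hc.sup_eq_top]; exact Submodule.mem_top
  obtain ⟨a, ha, b, hb, rfl⟩ := Submodule.mem_sup.1 hw
  rw [map_add, LinearMap.add_apply, hxy b hb, add_zero]
  exact hx a ha

end finite

/-- gluing equivariant isometries along orthogonal decompositions -/
theorem glue_iso (hV : UData σ B g) (hW : UData σ B' g') {H : Submodule F V} {H' : Submodule F W}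
    (hH : H ∈ g.invtSubmodule) (hH' : H' ∈ g'.invtSubmodule)
    (hP : uorth B H ∈ g.invtSubmodule) (hP' : uorth B' H' ∈ g'.invtSubmodule)
    (hc : IsCompl H (uorth B H)) (hc' : IsCompl H' (uorth B' H'))
    (e0 : H ≃ₗ[F] H') (e1 : ↥(uorth B H) ≃ₗ[F] ↥(uorth B' H'))
    (h0 : ∀ z, e0 (res g hH z) = res g' hH' (e0 z))
    (h0i : ∀ x y : H, B' (e0 x) (e0 y) = B x y)
    (h1 : ∀ z, e1 (res g hP z) = res g' hP' (e1 z))
    (h1i : ∀ x y : ↥(uorth B H), B' (e1 x) (e1 y) = B x y) :
    ∃ e : V ≃ₗ[F] W, (∀ x, e (g x) = g' (e x)) ∧ ∀ x y, B' (e x) (e y) = B x y := by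
  refine ⟨((Submodule.prodEquivOfIsCompl H _ hc).symm ≪≫ₗ (e0.prodCongr e1)) ≪≫ₗ
    Submodule.prodEquivOfIsCompl H' _ hc', ?_, ?_⟩
  · intro x
    obtain ⟨⟨z, z'⟩, rfl⟩ := (Submodule.prodEquivOfIsCompl H _ hc).surjective x
    have hf : g (Submodule.prodEquivOfIsCompl H _ hc (z, z')) =
        Submodule.prodEquivOfIsCompl H _ hc (res g hH z, res g hP z') := by
      simp only [Submodule.coe_prodEquivOfIsCompl', map_add, res_apply]
    rw [hf]
    simp only [LinearEquiv.trans_apply, LinearEquiv.symm_apply_apply, LinearEquiv.prodCongr_apply]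
    simp only [Submodule.coe_prodEquivOfIsCompl', h0, h1, res_apply, map_add]
  · intro x y
    obtain ⟨⟨z, z'⟩, rfl⟩ := (Submodule.prodEquivOfIsCompl H _ hc).surjective x
    obtain ⟨⟨w, w'⟩, rfl⟩ := (Submodule.prodEquivOfIsCompl H _ hc).surjective y
    simp only [LinearEquiv.trans_apply, LinearEquiv.symm_apply_apply, LinearEquiv.prodCongr_apply]
    simp only [Submodule.coe_prodEquivOfIsCompl', map_add, LinearMap.add_apply]
    have c1 : B (z : V) (w' : V) = 0 := w'.2 z z.2
    have c2 : B (z' : V) (w : V) = 0 := hV.zero_symm (z'.2 w w.2)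
    have c1' : B' (e0 z : W) (e1 w' : W) = 0 := (e1 w').2 (e0 z) (e0 z).2
    have c2' : B' (e1 z' : W) (e0 w : W) = 0 := hW.zero_symm ((e1 z').2 (e0 w) (e0 w).2)
    rw [c1, c2, c1', c2', h0i, h1i]

end Cfsg.Agent.Lib.H12.USemi
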