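import Mathlib
import Cfsg.Agent.Lib.H12.UnitB

/-!
# Hyperbolic pairs of invariant isotropic subspaces, hermitian case (helper12)
-/

set_option autoImplicit false
set_option linter.unusedSectionVars false
open Polynomial

namespace Cfsg.Agent.Lib.H12.USemi

open Cfsg.Agent.Lib.H12.Semi Cfsg.Agent.Lib.H12.SpSemi

universe u v
variable {F : Type u} [Field F] {σ : F →+* F} {V : Type v} [AddCommGroup V] [Module F V]
  {W : Type v} [AddCommGroup W] [Module F W]
variable {B : V →ₛₗ[σ] V →ₗ[F] F} {g : Module.End F V}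
  {B' : W →ₛₗ[σ] W →ₗ[F] F} {g' : Module.End F W}

/-- a pair of invariant totally isotropic subspaces in perfect duality -/
structure UHypPair (B : V →ₛₗ[σ] V →ₗ[F] F) (g : Module.End F V) (W1 W2 : Submodule F V) :
    Prop where
  inv1 : W1 ∈ g.invtSubmodule
  inv2 : W2 ∈ g.invtSubmodule
  iso1 : ∀ x ∈ W1, ∀ y ∈ W1, B x y = 0
  iso2 : ∀ x ∈ W2, ∀ y ∈ W2, B x y = 0
  pL : ∀ x ∈ W1, (∀ y ∈ W2, B x y = 0) → x = 0
  pR : ∀ y ∈ W2, (∀ x ∈ W1, B x y = 0) → y = 0

variable {W1 W2 : Submodule F V} {W1' W2' : Submodule F W}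

theorem UHypPair.disjoint (hp : UHypPair B g W1 W2) : Disjoint W1 W2 := by
  rw [Submodule.disjoint_def]
  intro x h1 h2
  exact hp.pL x h1 (fun y hy => hp.iso2 x h2 y hy)

theorem UHypPair.sup_invt (hp : UHypPair B g W1 W2) : W1 ⊔ W2 ∈ g.invtSubmodule :=
  Module.End.invtSubmodule.sup_mem hp.inv1 hp.inv2

theorem UHypPair.nd_sup (hV : UData σ B g) (hp : UHypPair B g W1 W2) :
    ∀ x ∈ W1 ⊔ W2, (∀ y ∈ W1 ⊔ W2, B y x = 0) → x = 0 := by
  intro x hx hxy
  obtain ⟨a, ha, b, hb, rfl⟩ := Submodule.mem_sup.1 hx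
  have hb0 : b = 0 := by
    apply hp.pR b hb
    intro y hy
    have h1 := hxy y (Submodule.mem_sup_left hy)
    rw [map_add, hp.iso1 y hy a ha, zero_add] at h1
    exact h1
  have ha0 : a = 0 := by
    apply hp.pL a ha
    intro y hy
    have h1 := hxy y (Submodule.mem_sup_right hy)
    rw [hb0, add_zero] at h1
    exact hV.zero_symm h1
  rw [ha0, hb0, add_zero]

section findim
variable [Finite F] [FiniteDimensional F V] [FiniteDimensional F W]

theorem UHypPair.finrank_eq (hV : UData σ B g) (hp : UHypPair B g W1 W2) :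
    Module.finrank F W2 = Module.finrank F W1 := by
  classical
  have : Finite V := Module.finite_of_finite F
  have key : ∀ (U1 U2 : Submodule F V), (∀ y ∈ U2, (∀ x ∈ U1, B y x = 0) → y = 0) →
      Module.finrank F U2 ≤ Module.finrank F U1 := by
    intro U1 U2 hinj
    let Ψ : U2 → Module.Dual F U1 := fun y => (B y).domRestrict U1
    have hΨ : Function.Injective Ψ := by
      intro y y' hyy
      apply Subtype.ext
      rw [← sub_eq_zero]
      apply hinj _ (U2.sub_mem y.2 y'.2)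
      intro x hx
      have h1 := congrArg (fun f : Module.Dual F U1 => f ⟨x, hx⟩) hyy
      simp only [Ψ, LinearMap.domRestrict_apply] at h1
      rw [map_sub, LinearMap.sub_apply, h1, sub_self]
    have : Finite (Module.Dual F U1) := Module.finite_of_finite F
    have hcard := Nat.card_le_card_of_injective Ψ hΨ
    rw [Module.natCard_eq_pow_finrank (K := F) (V := Module.Dual F U1),
      Module.natCard_eq_pow_finrank (K := F) (V := U2), Subspace.dual_finrank_eq] at hcard
    exact (Nat.pow_le_pow_iff_right Finite.one_lt_card).1 hcard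
  apply le_antisymm
  · apply key W1 W2
    intro y hy hyx
    apply hp.pR y hy
    intro x hx
    exact hV.zero_symm (hyx x hx)
  · apply key W2 W1
    intro x hx hxy
    exact hp.pL x hx hxy

/-- existence and uniqueness of the partner vector -/
theorem UHypPair.exists_partner_vec (hW : UData σ B' g') (hp' : UHypPair B' g' W1' W2')
    (l : Module.Dual F W1') : ∃ y' ∈ W2', ∀ x : W1', B' y' x = l x := by
  apply exists_repr_of_le W1' W2' _ (le_of_eq (hp'.finrank_eq hW).symm) l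
  intro y hy hyx
  apply hp'.pR y hy
  intro x hx
  exact hW.zero_symm (hyx x hx)

/-- the partner map `W2 → W2'` induced by `W1 ≃ W1'`, as a function -/
noncomputable def UHypPair.partnerFun (hW : UData σ B' g') (hp' : UHypPair B' g' W1' W2')
    (B : V →ₛₗ[σ] V →ₗ[F] F) (φ1 : W1 ≃ₗ[F] W1') (y : W2) : W2' :=
  ⟨(hp'.exists_partner_vec hW (((B (y : V)).domRestrict W1).comp φ1.symm.toLinearMap)).choose,
    (hp'.exists_partner_vec hW
      (((B (y : V)).domRestrict W1).comp φ1.symm.toLinearMap)).choose_spec.1⟩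

theorem UHypPair.partnerFun_spec (hW : UData σ B' g') (hp' : UHypPair B' g' W1' W2')
    (φ1 : W1 ≃ₗ[F] W1') (y : W2) (x : W1) :
    B' (hp'.partnerFun hW B φ1 y : W) (φ1 x : W) = B y x := by
  have := (hp'.exists_partner_vec hW
      (((B (y : V)).domRestrict W1).comp φ1.symm.toLinearMap)).choose_spec.2 (φ1 x)
  rw [LinearMap.comp_apply, LinearEquiv.coe_coe, LinearEquiv.symm_apply_apply,
    LinearMap.domRestrict_apply] at this
  exact this

theorem UHypPair.partner_unique (hW : UData σ B' g') (hp' : UHypPair B' g' W1' W2')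
    {y1 y2 : W} (h1 : y1 ∈ W2') (h2 : y2 ∈ W2') (h : ∀ x ∈ W1', B' y1 x = B' y2 x) : y1 = y2 := by
  rw [← sub_eq_zero]
  apply hp'.pR _ (W2'.sub_mem h1 h2)
  intro x hx
  apply hW.zero_symm
  rw [map_sub, LinearMap.sub_apply, h x hx, sub_self]

/-- the partner map as a linear map -/
noncomputable def UHypPair.partnerLin (hW : UData σ B' g') (hp' : UHypPair B' g' W1' W2')
    (B : V →ₛₗ[σ] V →ₗ[F] F) (φ1 : W1 ≃ₗ[F] W1') : W2 →ₗ[F] W2' where
  toFun := hp'.partnerFun hW B φ1
  map_add' := by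
    intro y z
    apply Subtype.ext
    apply hp'.partner_unique hW (Subtype.mem _) (W2'.add_mem (Subtype.mem _) (Subtype.mem _))
    intro x' hx'
    obtain ⟨x, hx⟩ := φ1.surjective ⟨x', hx'⟩
    have hxv : x' = (φ1 x : W) := by rw [hx]
    rw [hxv, hp'.partnerFun_spec hW (B := B) φ1, Submodule.coe_add, map_add, LinearMap.add_apply,
      map_add, LinearMap.add_apply, hp'.partnerFun_spec hW (B := B) φ1,
      hp'.partnerFun_spec hW (B := B) φ1]
  map_smul' := by
    intro c y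
    apply Subtype.ext
    apply hp'.partner_unique hW (Subtype.mem _) (W2'.smul_mem _ (Subtype.mem _))
    intro x' hx'
    obtain ⟨x, hx⟩ := φ1.surjective ⟨x', hx'⟩
    have hxv : x' = (φ1 x : W) := by rw [hx]
    rw [hxv, hp'.partnerFun_spec hW (B := B) φ1, RingHom.id_apply, Submodule.coe_smul, map_smulₛₗ,
      LinearMap.smul_apply, map_smulₛₗ, LinearMap.smul_apply,
      hp'.partnerFun_spec hW (B := B) φ1]

theorem UHypPair.partnerLin_spec (hW : UData σ B' g') (hp' : UHypPair B' g' W1' W2')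
    (φ1 : W1 ≃ₗ[F] W1') (y : W2) (x : W1) :
    B' (hp'.partnerLin (W2 := W2) hW B φ1 y : W) (φ1 x : W) = B y x :=
  hp'.partnerFun_spec hW (B := B) φ1 y x

/-- the partner map `W2 ≃ W2'` induced by `W1 ≃ W1'` -/
noncomputable def UHypPair.partner (hV : UData σ B g) (hW : UData σ B' g')
    (hp : UHypPair B g W1 W2) (hp' : UHypPair B' g' W1' W2')
    (φ1 : W1 ≃ₗ[F] W1') : W2 ≃ₗ[F] W2' :=
  LinearEquiv.ofBijective (hp'.partnerLin (W2 := W2) hW B φ1) (by
    have hinj : Function.Injective (hp'.partnerLin (W2 := W2) hW B φ1) := by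
      rw [← LinearMap.ker_eq_bot, LinearMap.ker_eq_bot']
      intro y hy
      apply Subtype.ext
      apply hp.pR y y.2
      intro x hx
      apply hV.zero_symm
      have := hp'.partnerLin_spec hW (B := B) φ1 y ⟨x, hx⟩
      rw [hy] at this
      rw [← this]
      simp
    refine ⟨hinj, ?_⟩
    apply (LinearMap.injective_iff_surjective_of_finrank_eq_finrank ?_).1 hinj
    rw [hp.finrank_eq hV, hp'.finrank_eq hW, LinearEquiv.finrank_eq φ1])

theorem UHypPair.partner_spec (hV : UData σ B g) (hW : UData σ B' g')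
    (hp : UHypPair B g W1 W2) (hp' : UHypPair B' g' W1' W2')
    (φ1 : W1 ≃ₗ[F] W1') (x : W1) (y : W2) :
    B' (hp.partner hV hW hp' φ1 y : W) (φ1 x : W) = B y x :=
  hp'.partnerFun_spec hW (B := B) φ1 y x

theorem UHypPair.partner_equivariant (hV : UData σ B g) (hW : UData σ B' g')
    (hp : UHypPair B g W1 W2) (hp' : UHypPair B' g' W1' W2')
    (φ1 : W1 ≃ₗ[F] W1') (hφ1 : ∀ z, φ1 (res g hp.inv1 z) = res g' hp'.inv1 (φ1 z)) (y : W2) :
    hp.partner hV hW hp' φ1 (res g hp.inv2 y) = res g' hp'.inv2 (hp.partner hV hW hp' φ1 y) := by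
  apply Subtype.ext
  apply hp'.partner_unique hW (Subtype.mem _) (Subtype.mem _)
  intro x' hx'
  -- `x' = g' x''` with `x'' ∈ W1'`
  have hx'' : x' ∈ W1'.map g' := by rw [hW.map_eq hp'.inv1]; exact hx'
  obtain ⟨x'', hx''m, rfl⟩ := hx''
  obtain ⟨x, hx⟩ := φ1.surjective ⟨x'', hx''m⟩
  have hxv : x'' = (φ1 x : W) := by rw [hx]
  rw [hxv]
  have e1 : g' ((φ1 x : W)) = (φ1 (res g hp.inv1 x) : W) := by
    rw [hφ1]
    rfl
  change B' (hp.partner hV hW hp' φ1 (res g hp.inv2 y) : W) (g' (φ1 x : W)) =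
    B' (g' (hp.partner hV hW hp' φ1 y : W)) (g' (φ1 x : W))
  rw [hW.iso, hp.partner_spec hV hW hp' φ1, e1, hp.partner_spec hV hW hp' φ1]
  change B (g y) (g x) = B y x
  exact hV.iso _ _

/-- extension of an equivariant isomorphism `W1 ≃ W1'` to an equivariant isometry of the
hyperbolic spaces `W1 ⊕ W2 ≃ W1' ⊕ W2'` -/
theorem UHypPair.extend (hV : UData σ B g) (hW : UData σ B' g')
    (hp : UHypPair B g W1 W2) (hp' : UHypPair B' g' W1' W2')
    (φ1 : W1 ≃ₗ[F] W1') (hφ1 : ∀ z, φ1 (res g hp.inv1 z) = res g' hp'.inv1 (φ1 z)) :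
    ∃ e : ↥(W1 ⊔ W2) ≃ₗ[F] ↥(W1' ⊔ W2'),
      (∀ z, e (res g hp.sup_invt z) = res g' hp'.sup_invt (e z)) ∧
      ∀ x y : ↥(W1 ⊔ W2), B' (e x) (e y) = B x y := by
  set φ2 := hp.partner hV hW hp' φ1 with hφ2
  refine ⟨((supEquiv W1 W2 hp.disjoint).symm ≪≫ₗ (φ1.prodCongr φ2)) ≪≫ₗ
    supEquiv W1' W2' hp'.disjoint, ?_, ?_⟩
  · intro z
    obtain ⟨⟨a, b⟩, rfl⟩ := (supEquiv W1 W2 hp.disjoint).surjective z
    have h1 : res g hp.sup_invt (supEquiv W1 W2 hp.disjoint (a, b)) =
        supEquiv W1 W2 hp.disjoint (res g hp.inv1 a, res g hp.inv2 b) := by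
      apply Subtype.ext
      rw [res_apply, supEquiv_apply, supEquiv_apply, map_add, res_apply, res_apply]
    rw [h1]
    simp only [LinearEquiv.trans_apply, LinearEquiv.symm_apply_apply, LinearEquiv.prodCongr_apply]
    apply Subtype.ext
    rw [res_apply, supEquiv_apply, supEquiv_apply, map_add, hφ1,
      hp.partner_equivariant hV hW hp' φ1 hφ1]
    rfl
  · intro x y
    obtain ⟨⟨a, b⟩, rfl⟩ := (supEquiv W1 W2 hp.disjoint).surjective x
    obtain ⟨⟨c, d⟩, rfl⟩ := (supEquiv W1 W2 hp.disjoint).surjective y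
    simp only [LinearEquiv.trans_apply, LinearEquiv.symm_apply_apply, LinearEquiv.prodCongr_apply]
    rw [supEquiv_apply, supEquiv_apply, supEquiv_apply, supEquiv_apply]
    simp only [map_add, LinearMap.add_apply]
    rw [hp'.iso1 _ (φ1 a).2 _ (φ1 c).2, hp'.iso2 _ (φ2 b).2 _ (φ2 d).2,
      hp.iso1 _ a.2 _ c.2, hp.iso2 _ b.2 _ d.2, hp.partner_spec hV hW hp' φ1 c b,
      ← hW.symm (φ2 d : W) (φ1 a : W), hp.partner_spec hV hW hp' φ1 a d, hV.symm]

end findim

end Cfsg.Agent.Lib.H12.USemi
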