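import Mathlib
import Cfsg.Agent.Lib.H12.UnitA

/-!
# Self-dual irreducible polynomials (hermitian case): the involution of `F[X]/(π)` and invariant
hermitian forms on it (helper12)
-/

set_option autoImplicit false
set_option linter.unusedSectionVars false
open Polynomial

namespace Cfsg.Agent.Lib.H12.USemi

universe u
variable {F : Type u} [Field F] {σ : F →+* F} (π : F[X]) [hirr : Fact (Irreducible π)]

/-- data of a self-dual irreducible polynomial -/
structure SelfDual (σ : F →+* F) (π : F[X]) (c : F) : Prop where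
  inv : ∀ a, σ (σ a) = a
  ne : ∃ a, σ a ≠ a
  monic : π.Monic
  c_ne : c ≠ 0
  dual : dualP σ π = C c * π

variable {π} {c : F}

theorem SelfDual.coeff_zero_ne (h : SelfDual σ π c) : π.coeff 0 ≠ 0 := by
  intro h0
  have h1 := dualP_coeff (σ := σ) π π.natDegree le_rfl
  rw [h.dual, coeff_C_mul, Nat.sub_self, h0, map_zero, h.monic.coeff_natDegree, mul_one] at h1
  exact h.c_ne h1

theorem SelfDual.root_ne_zero (h : SelfDual σ π c) : AdjoinRoot.root π ≠ 0 := by
  intro h0
  have h1 : aeval (AdjoinRoot.root π) π = 0 := by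
    rw [AdjoinRoot.aeval_eq, AdjoinRoot.mk_self]
  rw [h0, ← Polynomial.coeff_zero_eq_aeval_zero'] at h1
  have h2 : π.coeff 0 = 0 := by
    have := (algebraMap F (AdjoinRoot π)).injective
    apply this
    rw [h1, map_zero]
  exact h.coeff_zero_ne h2

theorem SelfDual.eval_inv (h : SelfDual σ π c) :
    π.eval₂ ((algebraMap F (AdjoinRoot π)).comp σ) (AdjoinRoot.root π)⁻¹ = 0 := by
  have hα := h.root_ne_zero
  have hα' : (AdjoinRoot.root π)⁻¹ ≠ 0 := inv_ne_zero hα
  let _ : Invertible ((AdjoinRoot.root π)⁻¹) := invertibleOfNonzero hα'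
  have h1 := eval₂_reverse_mul_pow (algebraMap F (AdjoinRoot π)) ((AdjoinRoot.root π)⁻¹)
    (π.map σ)
  have h3 : (⅟((AdjoinRoot.root π)⁻¹)) = AdjoinRoot.root π := by
    rw [invOf_eq_inv, inv_inv]
  have h2 : eval₂ (algebraMap F (AdjoinRoot π)) (AdjoinRoot.root π) π = 0 := by
    have : aeval (AdjoinRoot.root π) π = 0 := by
      rw [AdjoinRoot.aeval_eq, AdjoinRoot.mk_self]
    exact this
  have h4 : (π.map σ).reverse = C c * π := h.dual
  rw [h3, h4, eval₂_mul, h2, mul_zero, zero_mul, eval₂_map] at h1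
  exact h1.symm

/-- the involution `α ↦ α⁻¹`, `σ` on the coefficients -/
noncomputable def SelfDual.sigma (h : SelfDual σ π c) : AdjoinRoot π →+* AdjoinRoot π :=
  AdjoinRoot.lift ((algebraMap F (AdjoinRoot π)).comp σ) (AdjoinRoot.root π)⁻¹ h.eval_inv

theorem SelfDual.sigma_root (h : SelfDual σ π c) :
    h.sigma (AdjoinRoot.root π) = (AdjoinRoot.root π)⁻¹ := by
  unfold SelfDual.sigma
  rw [AdjoinRoot.lift_root]

theorem SelfDual.sigma_of (h : SelfDual σ π c) (a : F) :
    h.sigma (algebraMap F (AdjoinRoot π) a) = algebraMap F (AdjoinRoot π) (σ a) := by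
  unfold SelfDual.sigma
  have : algebraMap F (AdjoinRoot π) a = AdjoinRoot.of π a := rfl
  rw [this, AdjoinRoot.lift_of]
  rfl

theorem SelfDual.sigma_mk (h : SelfDual σ π c) (p : F[X]) :
    h.sigma (AdjoinRoot.mk π p) =
      p.eval₂ ((algebraMap F (AdjoinRoot π)).comp σ) (AdjoinRoot.root π)⁻¹ := by
  unfold SelfDual.sigma
  rw [AdjoinRoot.lift_mk]

theorem SelfDual.sigma_sigma (h : SelfDual σ π c) (x : AdjoinRoot π) : h.sigma (h.sigma x) = x := by
  obtain ⟨p, rfl⟩ := AdjoinRoot.mk_surjective x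
  induction p using Polynomial.induction_on with
  | C r =>
    have h1 : AdjoinRoot.mk π (C r) = algebraMap F (AdjoinRoot π) r := rfl
    rw [h1, h.sigma_of, h.sigma_of, h.inv]
  | add p q hp hq => rw [map_add, map_add, map_add, hp, hq]
  | monomial n r ih =>
    have h1 : AdjoinRoot.mk π (C r * X ^ (n + 1)) =
        AdjoinRoot.mk π (C r * X ^ n) * AdjoinRoot.root π := by
      rw [pow_succ, ← mul_assoc, map_mul, AdjoinRoot.mk_X]
    rw [h1, map_mul, map_mul, ih, h.sigma_root, map_inv₀, h.sigma_root, inv_inv]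

theorem SelfDual.sigma_ne_id (h : SelfDual σ π c) : ∃ x, h.sigma x ≠ x := by
  obtain ⟨a, ha⟩ := h.ne
  refine ⟨algebraMap F (AdjoinRoot π) a, ?_⟩
  rw [h.sigma_of]
  intro h1
  exact ha ((algebraMap F (AdjoinRoot π)).injective h1)

section finite

variable [Finite F]

theorem SelfDual.finite (h : SelfDual σ π c) : Finite (AdjoinRoot π) := by
  have : Module.Finite F (AdjoinRoot π) := h.monic.finite_adjoinRoot
  exact Module.finite_of_finite F

/-- norm surjectivity: fixed points of the involution are norms -/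
theorem SelfDual.exists_norm (h : SelfDual σ π c) (e : AdjoinRoot π) (he0 : e ≠ 0)
    (he : h.sigma e = e) : ∃ a : AdjoinRoot π, a ≠ 0 ∧ h.sigma a * a = e := by
  have : Finite (AdjoinRoot π) := h.finite
  exact exists_norm_of_involution h.sigma h.sigma_sigma h.sigma_ne_id e he0 he

end finite

/-- a non-degenerate hermitian form on `F[X]/(π)` invariant under multiplication by the root -/
structure UInvForm (σ : F →+* F) (β : AdjoinRoot π →ₛₗ[σ] AdjoinRoot π →ₗ[F] F) : Prop where
  symm : ∀ a b, σ (β a b) = β b a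
  nd : ∀ a, (∀ b, β a b = 0) → a = 0
  inv : ∀ a b, β (AdjoinRoot.root π * a) (AdjoinRoot.root π * b) = β a b

variable {β β' : AdjoinRoot π →ₛₗ[σ] AdjoinRoot π →ₗ[F] F}

theorem UInvForm.shift_root (hβ : UInvForm σ β) (h : SelfDual σ π c) (a b : AdjoinRoot π) :
    β (AdjoinRoot.root π * a) b = β a ((AdjoinRoot.root π)⁻¹ * b) := by
  have hα := h.root_ne_zero
  have h1 : b = AdjoinRoot.root π * ((AdjoinRoot.root π)⁻¹ * b) := by
    rw [← mul_assoc, mul_inv_cancel₀ hα, one_mul]
  nth_rewrite 1 [h1]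
  rw [hβ.inv]

theorem UInvForm.shift (hβ : UInvForm σ β) (h : SelfDual σ π c) (x a b : AdjoinRoot π) :
    β (x * a) b = β a (h.sigma x * b) := by
  obtain ⟨p, rfl⟩ := AdjoinRoot.mk_surjective x
  induction p using Polynomial.induction_on generalizing a b with
  | C r =>
    have h1 : AdjoinRoot.mk π (C r) = algebraMap F (AdjoinRoot π) r := rfl
    rw [h1, h.sigma_of, Algebra.algebraMap_eq_smul_one, smul_mul_assoc, one_mul,
      Algebra.algebraMap_eq_smul_one, smul_mul_assoc, one_mul, map_smulₛₗ, LinearMap.smul_apply,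
      map_smul]
  | add p q hp hq =>
    rw [map_add, add_mul, map_add, LinearMap.add_apply, hp, hq, map_add, add_mul, map_add]
  | monomial n r ih =>
    have h1 : AdjoinRoot.mk π (C r * X ^ (n + 1)) =
        AdjoinRoot.mk π (C r * X ^ n) * AdjoinRoot.root π := by
      rw [pow_succ, ← mul_assoc, map_mul, AdjoinRoot.mk_X]
    rw [h1, mul_assoc, ih, hβ.shift_root h]
    congr 1
    rw [map_mul h.sigma, h.sigma_root]
    ring

theorem UInvForm.repr (hβ : UInvForm σ β) (h : SelfDual σ π c) (a b : AdjoinRoot π) :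
    β a b = β 1 (h.sigma a * b) := by
  have := hβ.shift h a 1 b
  rwa [mul_one] at this

theorem UInvForm.tau_sigma (hβ : UInvForm σ β) (h : SelfDual σ π c) (z : AdjoinRoot π) :
    β 1 (h.sigma z) = σ (β 1 z) := by
  have h1 := hβ.repr h z 1
  rw [mul_one] at h1
  rw [← h1, hβ.symm]

section finite
variable [Finite F]

/-- two invariant forms differ by a fixed point of the involution -/
theorem UInvForm.exists_scale (hβ : UInvForm σ β) (hβ' : UInvForm σ β') (h : SelfDual σ π c) :
    ∃ e : AdjoinRoot π, e ≠ 0 ∧ h.sigma e = e ∧ ∀ z, β' 1 (e * z) = β 1 z := by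
  have hfin : Module.Finite F (AdjoinRoot π) := h.monic.finite_adjoinRoot
  have hτ' : ∀ e : AdjoinRoot π, (∀ z, β' 1 (e * z) = 0) → e = 0 := by
    intro e he
    by_contra he0
    have h1 : ∀ w, β' 1 w = 0 := by
      intro w
      have := he (e⁻¹ * w)
      rwa [← mul_assoc, mul_inv_cancel₀ he0, one_mul] at this
    have h2 : (1 : AdjoinRoot π) = 0 := hβ'.nd 1 h1
    exact one_ne_zero h2
  let Θ : AdjoinRoot π →ₗ[F] Module.Dual F (AdjoinRoot π) :=
    (LinearMap.mul F (AdjoinRoot π)).compr₂ (β' 1)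
  have hΘ : ∀ e z, Θ e z = β' 1 (e * z) := fun e z => rfl
  have hinj : Function.Injective Θ := by
    rw [← LinearMap.ker_eq_bot, LinearMap.ker_eq_bot']
    intro e he
    apply hτ' e
    intro z
    rw [← hΘ, he, LinearMap.zero_apply]
  have hsurj : Function.Surjective Θ := by
    apply (LinearMap.injective_iff_surjective_of_finrank_eq_finrank ?_).1 hinj
    rw [Subspace.dual_finrank_eq]
  obtain ⟨e, he⟩ := hsurj (β 1)
  have hez : ∀ z, β' 1 (e * z) = β 1 z := by
    intro z
    rw [← hΘ, he]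
  have he0 : e ≠ 0 := by
    rintro rfl
    have h1 : ∀ w, β 1 w = 0 := by
      intro w
      rw [← hez, zero_mul, map_zero]
    exact one_ne_zero (hβ.nd 1 h1)
  refine ⟨e, he0, ?_, hez⟩
  have h1 : ∀ z, β' 1 ((h.sigma e - e) * z) = 0 := by
    intro z
    have h2 : β' 1 (h.sigma e * z) = β' 1 (h.sigma (e * h.sigma z)) := by
      rw [map_mul h.sigma, h.sigma_sigma]
    rw [sub_mul, map_sub, h2, hβ'.tau_sigma h, hez, hβ.tau_sigma h, h.inv, hez, sub_self]
  exact sub_eq_zero.1 (hτ' _ h1)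

/-- two invariant forms are isometric by a multiplication -/
theorem UInvForm.exists_isometry (hβ : UInvForm σ β) (hβ' : UInvForm σ β') (h : SelfDual σ π c) :
    ∃ a : AdjoinRoot π, a ≠ 0 ∧ ∀ x y, β' (a * x) (a * y) = β x y := by
  obtain ⟨e, he0, heσ, hez⟩ := hβ.exists_scale hβ' h
  obtain ⟨a, ha0, ha⟩ := h.exists_norm e he0 heσ
  refine ⟨a, ha0, ?_⟩
  intro x y
  rw [hβ'.repr h, map_mul h.sigma, hβ.repr h x y, ← hez]
  congr 1
  rw [← ha]
  ring

end finite

end Cfsg.Agent.Lib.H12.USemi
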