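import Mathlib
import Cfsg.Agent.Lib.H12.UnitC
import Cfsg.Agent.Lib.H12.UnitD
import Cfsg.Agent.Lib.H12.SpSemiF

/-!
# Peeling lemmas for semisimple isometries of hermitian forms (helper12)
-/

set_option autoImplicit false
set_option linter.unusedSectionVars false
open Polynomial

namespace Cfsg.Agent.Lib.H12.USemi

open Cfsg.Agent.Lib.H12.Semi Cfsg.Agent.Lib.H12.SpSemi

universe u v
variable {F : Type u} [Field F] {σ : F →+* F} {V : Type v} [AddCommGroup V] [Module F V]
  [FiniteDimensional F V]
variable {B : V →ₛₗ[σ] V →ₗ[F] F} {g : Module.End F V}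

/-- for self-dual `π`, the form is non-degenerate on `ker π(g)` -/
theorem UData.nd_ker (h : UData σ B g) (hss : g.IsSemisimple) {π : F[X]} {c : F} (hc : c ≠ 0)
    (hrev : dualP σ π = C c * π) {x : V} (hx : aeval g π x = 0)
    (hxy : ∀ y, aeval g π y = 0 → B y x = 0) : x = 0 := by
  apply h.nd
  intro z
  obtain ⟨z1, z2, hz1, rfl⟩ := exists_ker_add_range hss π z
  rw [map_add, LinearMap.add_apply, hxy z1 hz1, h.ortho_range hc hrev hx, add_zero]

theorem dualP_ne_zero {π : F[X]} (h0 : π ≠ 0) : dualP σ π ≠ 0 := by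
  rw [dualP, Ne, reverse_eq_zero]
  intro h
  apply h0
  exact (Polynomial.map_eq_zero_iff σ.injective).1 h

theorem dualP_dualP (hσ : ∀ a, σ (σ a) = a) {π : F[X]} (h0 : π.coeff 0 ≠ 0) :
    dualP σ (dualP σ π) = π := by
  have hd0 : (dualP σ π).natDegree = π.natDegree := by
    apply le_antisymm (dualP_natDegree_le π)
    apply le_natDegree_of_ne_zero
    rw [dualP_coeff π _ le_rfl, Nat.sub_self]
    intro h
    apply h0
    have := congrArg σ h
    rwa [hσ, map_zero] at this
  ext j
  by_cases hj : j ≤ π.natDegree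
  · rw [dualP_coeff _ j (by rw [hd0]; exact hj), hd0, dualP_coeff π _ (by omega), hσ]
    congr 1
    omega
  · push Not at hj
    rw [coeff_eq_zero_of_natDegree_lt hj, coeff_eq_zero_of_natDegree_lt]
    calc (dualP σ (dualP σ π)).natDegree ≤ (dualP σ π).natDegree := dualP_natDegree_le _
      _ = π.natDegree := hd0
      _ < j := hj

/-- the dichotomy for an irreducible polynomial and its dual -/
theorem dual_dichotomy {π : F[X]} (hpi : Irreducible π) (hm : π.Monic) :
    IsCoprime π (dualP σ π) ∨ ∃ c : F, c ≠ 0 ∧ dualP σ π = C c * π := by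
  by_cases hd : π ∣ dualP σ π
  · right
    obtain ⟨r, hr⟩ := hd
    have hrev0 : dualP σ π ≠ 0 := dualP_ne_zero hm.ne_zero
    have hr0 : r ≠ 0 := by
      rintro rfl
      rw [mul_zero] at hr
      exact hrev0 hr
    have h1 : (dualP σ π).natDegree = π.natDegree + r.natDegree := by
      rw [hr, natDegree_mul hm.ne_zero hr0]
    have h2 := dualP_natDegree_le (σ := σ) π
    have h3 : r.natDegree = 0 := by omega
    rw [natDegree_eq_zero] at h3
    obtain ⟨c, rfl⟩ := h3
    refine ⟨c, ?_, ?_⟩
    · rintro rfl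
      exact hr0 (by simp)
    · rw [hr, mul_comm]
  · left
    exact (Irreducible.coprime_iff_not_dvd hpi).2 hd

section finite
variable [Finite F]

/-- type I: `π` coprime to its dual; the cyclic subspace has an isotropic invariant partner -/
theorem exists_hyp_of_coprime (h : UData σ B g) (hss : g.IsSemisimple) {π : F[X]}
    (hpi : Irreducible π) (hm : π.Monic) (hco : IsCoprime π (dualP σ π)) {v : V} (hv : v ≠ 0)
    (hπv : aeval g π v = 0) : ∃ W2 : Submodule F V, UHypPair B g (cyc g v) W2 := by
  have h0 : π.coeff 0 ≠ 0 := coeff_zero_ne_of_injective h.injective hpi hm hv hπv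
  have hrr : dualP σ (dualP σ π) = π := dualP_dualP h.inv h0
  have hinv1 : cyc g v ∈ g.invtSubmodule := cyc_invt g v
  have hPinv := h.orthogonal_invt hinv1
  obtain ⟨W2, hW2, hc⟩ := Module.End.isSemisimple_iff.mp hss _ hPinv
  -- elements of `W2` are killed by the dual polynomial
  have hkill : ∀ y ∈ W2, aeval g (dualP σ π) y = 0 := by
    intro y hy
    have h1 : aeval g (dualP σ π) y ∈ W2 := mem_of_invt_aeval hW2 _ hy
    have h2 : aeval g (dualP σ π) y ∈ uorth B (cyc g v) := by
      rw [mem_uorth]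
      intro x hx
      apply h.zero_symm
      rw [← h.form_dual, aeval_eq_zero_of_mem_cyc hπv hx, map_zero]
    have h3 : aeval g (dualP σ π) y ∈ uorth B (cyc g v) ⊓ W2 := ⟨h2, h1⟩
    rw [hc.inf_eq_bot, Submodule.mem_bot] at h3
    exact h3
  refine ⟨W2, ⟨hinv1, hW2, ?_, ?_, ?_, ?_⟩⟩
  · intro x hx y hy
    exact h.ortho_of_coprime hco (aeval_eq_zero_of_mem_cyc hπv hy)
      (aeval_eq_zero_of_mem_cyc hπv hx)
  · intro x hx y hy
    have hco' : IsCoprime (dualP σ π) (dualP σ (dualP σ π)) := by rw [hrr]; exact hco.symm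
    exact h.ortho_of_coprime hco' (hkill y hy) (hkill x hx)
  · intro x hx hxy
    apply h.nd_left
    intro z
    have hz : z ∈ uorth B (cyc g v) ⊔ W2 := by rw [hc.sup_eq_top]; exact Submodule.mem_top
    obtain ⟨z1, hz1, z2, hz2, rfl⟩ := Submodule.mem_sup.1 hz
    rw [map_add, hxy z2 hz2, add_zero]
    exact hz1 x hx
  · intro y hy hxy
    have h3 : y ∈ uorth B (cyc g v) ⊓ W2 := ⟨fun x hx => hxy x hx, hy⟩
    rw [hc.inf_eq_bot, Submodule.mem_bot] at h3
    exact h3

/-- type II: a self-dual `π` has a non-degenerate cyclic subspace -/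
theorem exists_nd_cyc (h : UData σ B g) (hss : g.IsSemisimple) {π : F[X]}
    (hpi : Irreducible π) (hm : π.Monic) {c : F} (hc : c ≠ 0)
    (hrev : dualP σ π = C c * π) {v : V} (hv : v ≠ 0) (hπv : aeval g π v = 0) :
    ∃ v1 : V, v1 ≠ 0 ∧ aeval g π v1 = 0 ∧
      ∀ x ∈ cyc g v1, (∀ y ∈ cyc g v1, B y x = 0) → x = 0 := by
  by_contra hcon
  push Not at hcon
  -- every vector of `ker π(g)` is isotropic
  have hiso : ∀ u : V, aeval g π u = 0 → B u u = 0 := by
    intro u hπu
    by_cases hu : u = 0
    · rw [hu, map_zero]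
    obtain ⟨x, hx, hxy, hx0⟩ := hcon u hu hπu
    have hcyc : cyc g x = cyc g u := cyc_eq_of_mem hu hpi hm hπu hx hx0
    have hrad : ∀ a : F[X], ∀ y ∈ cyc g u, B y (aeval g a x) = 0 := by
      intro a
      induction a using Polynomial.induction_on with
      | C r =>
        intro y hy
        rw [aeval_C, Module.algebraMap_end_apply, map_smul, hxy y hy, smul_zero]
      | add p q hp hq =>
        intro y hy
        rw [map_add, LinearMap.add_apply, map_add, hp y hy, hq y hy, add_zero]
      | monomial n r ih =>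
        intro y hy
        have hy' : y ∈ (cyc g u).map g := by rw [h.map_eq (cyc_invt g u)]; exact hy
        obtain ⟨y0, hy0, rfl⟩ := hy'
        have h1 : aeval g (C r * X ^ (n + 1)) x = g (aeval g (C r * X ^ n) x) := by
          rw [pow_succ, ← mul_assoc, mul_comm, map_mul, aeval_X, Module.End.mul_apply]
        rw [h1, h.iso]
        exact ih y0 hy0
    have hu' : u ∈ cyc g x := by rw [hcyc]; exact self_mem_cyc g u
    obtain ⟨a, ha⟩ := (mem_cyc_iff g x u).1 hu'
    nth_rewrite 2 [← ha]
    exact hrad a u (self_mem_cyc g u)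
  -- polarisation
  have hpol : ∀ x y : V, aeval g π x = 0 → aeval g π y = 0 → B x y + B y x = 0 := by
    intro x y hx hy
    have h1 := hiso (x + y) (by rw [map_add, hx, hy, add_zero])
    simp only [map_add, LinearMap.add_apply] at h1
    rw [hiso x hx, hiso y hy] at h1
    linear_combination h1
  have hzero : ∀ x y : V, aeval g π x = 0 → aeval g π y = 0 → B x y = 0 := by
    intro x y hx hy
    obtain ⟨l, hl⟩ := h.ne
    have h1 := hpol x y hx hy
    have h2 := hpol (l • x) y (by rw [map_smul, hx, smul_zero]) hy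
    rw [h.smul_left, h.smul_right] at h2
    -- `σ l * t + l * t' = 0`, `t + t' = 0`
    have h3 : (σ l - l) * B x y = 0 := by linear_combination h2 - l * h1
    rcases mul_eq_zero.1 h3 with h4 | h4
    · exact absurd (sub_eq_zero.1 h4) hl
    · exact h4
  apply hv
  apply h.nd_ker hss hc hrev hπv
  intro y hy
  exact hzero y v hy hπv

end finite

end Cfsg.Agent.Lib.H12.USemi
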