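import Mathlib
import Cfsg.Agent.Lib.H12.UnitE
import Cfsg.Agent.Lib.H12.SpSemiI

/-!
# Semisimple isometries of hermitian forms with equal characteristic polynomial are
isometrically conjugate (helper12)
-/

set_option autoImplicit false
set_option linter.unusedSectionVars false
open Polynomial

namespace Cfsg.Agent.Lib.H12.USemi

open Cfsg.Agent.Lib.H12.Semi Cfsg.Agent.Lib.H12.SpSemi

universe u v
variable {F : Type u} [Field F] [Fintype F] {σ : F →+* F} {V : Type v} [AddCommGroup V]
  [Module F V] [FiniteDimensional F V] {W : Type v} [AddCommGroup W] [Module F W]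
  [FiniteDimensional F W]
variable {B : V →ₛₗ[σ] V →ₗ[F] F} {g : Module.End F V}
  {B' : W →ₛₗ[σ] W →ₗ[F] F} {g' : Module.End F W}

/-- the form on `F[X]/(π)` obtained from a cyclic subspace -/
noncomputable def cycForm (B : V →ₛₗ[σ] V →ₗ[F] F) (g : Module.End F V) {π : F[X]}
    (hpi : Irreducible π) {v : V} (hv : v ≠ 0) (hπv : aeval g π v = 0) :
    AdjoinRoot π →ₛₗ[σ] AdjoinRoot π →ₗ[F] F :=
  LinearMap.mk₂'ₛₗ σ (RingHom.id F)
    (fun a b => B (cycEquiv g hv hpi hπv a : V) (cycEquiv g hv hpi hπv b : V))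
    (by intro a b c; simp only [map_add, Submodule.coe_add, LinearMap.add_apply])
    (by intro r a b; simp only [map_smul, Submodule.coe_smul, map_smulₛₗ, LinearMap.smul_apply])
    (by intro a b c; simp only [map_add, Submodule.coe_add])
    (by intro r a b; simp only [map_smul, Submodule.coe_smul, RingHom.id_apply])

theorem cycForm_apply (B : V →ₛₗ[σ] V →ₗ[F] F) (g : Module.End F V) {π : F[X]}
    (hpi : Irreducible π) {v : V} (hv : v ≠ 0) (hπv : aeval g π v = 0) (a b : AdjoinRoot π) :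
    cycForm B g hpi hv hπv a b =
      B (cycEquiv g hv hpi hπv a : V) (cycEquiv g hv hpi hπv b : V) := rfl

theorem uInvForm_cycForm (hV : UData σ B g) {π : F[X]} [hirr : Fact (Irreducible π)] {v : V}
    (hv : v ≠ 0) (hπv : aeval g π v = 0)
    (hnd : ∀ x ∈ cyc g v, (∀ y ∈ cyc g v, B y x = 0) → x = 0) :
    UInvForm σ (cycForm B g hirr.out hv hπv) := by
  have hpi := hirr.out
  refine ⟨fun a b => hV.symm _ _, ?_, ?_⟩
  · intro a ha
    set ψ := cycEquiv g hv hpi hπv with hψ
    have h1 : (ψ a : V) = 0 := by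
      apply hnd _ (ψ a).2
      intro y hy
      obtain ⟨b, hb⟩ := ψ.surjective ⟨y, hy⟩
      have := ha b
      rw [cycForm_apply, ← hψ, hb] at this
      exact hV.zero_symm this
    have h2 : ψ a = 0 := Subtype.ext h1
    exact (LinearEquiv.map_eq_zero_iff ψ).1 h2
  · intro a b
    rw [cycForm_apply, cycForm_apply, cycEquiv_root_mul, cycEquiv_root_mul, hV.iso]

/-- the common piece -/
theorem exists_piece (hV : UData σ B g) (hW : UData σ B' g') (hssV : g.IsSemisimple)
    (hssW : g'.IsSemisimple) {π : F[X]} (hpi : Irreducible π) (hm : π.Monic) {v : V} (hv : v ≠ 0)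
    (hπv : aeval g π v = 0) {w : W} (hw : w ≠ 0) (hπw : aeval g' π w = 0) :
    ∃ (H : Submodule F V) (H' : Submodule F W) (hH : H ∈ g.invtSubmodule)
      (hH' : H' ∈ g'.invtSubmodule), H ≠ ⊥ ∧ (∀ x ∈ H, (∀ y ∈ H, B y x = 0) → x = 0) ∧
      (∀ x ∈ H', (∀ y ∈ H', B' y x = 0) → x = 0) ∧
      ∃ e : H ≃ₗ[F] H', (∀ z, e (res g hH z) = res g' hH' (e z)) ∧
        ∀ x y : H, B' (e x) (e y) = B x y := by
  rcases dual_dichotomy (σ := σ) hpi hm with hco | ⟨c, hc, hrev⟩
  · obtain ⟨W2, hp⟩ := exists_hyp_of_coprime hV hssV hpi hm hco hv hπv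
    obtain ⟨W2', hp'⟩ := exists_hyp_of_coprime hW hssW hpi hm hco hw hπw
    obtain ⟨e, he1, he2⟩ := hp.extend hV hW hp'
      ((cycEquiv g hv hpi hπv).symm ≪≫ₗ cycEquiv g' hw hpi hπw)
      (phi1_equivariant hpi hv hπv hw hπw)
    refine ⟨_, _, hp.sup_invt, hp'.sup_invt, ?_, hp.nd_sup hV, hp'.nd_sup hW, e, he1, he2⟩
    intro hbot
    have : v ∈ cyc g v ⊔ W2 := Submodule.mem_sup_left (self_mem_cyc g v)
    rw [hbot, Submodule.mem_bot] at this
    exact hv this
  · obtain ⟨v1, hv1, hπv1, hnd1⟩ := exists_nd_cyc hV hssV hpi hm hc hrev hv hπv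
    obtain ⟨w1, hw1, hπw1, hnd1'⟩ := exists_nd_cyc hW hssW hpi hm hc hrev hw hπw
    have : Fact (Irreducible π) := ⟨hpi⟩
    have hsr : SelfDual σ π c := ⟨hV.inv, hV.ne, hm, hc, hrev⟩
    set ψ := cycEquiv g hv1 hpi hπv1 with hψ
    set ψ' := cycEquiv g' hw1 hpi hπw1 with hψ'
    have hIβ := uInvForm_cycForm hV hv1 hπv1 hnd1
    have hIβ' := uInvForm_cycForm hW hw1 hπw1 hnd1'
    obtain ⟨a0, ha0, hiso⟩ := hIβ.exists_isometry hIβ' hsr
    refine ⟨cyc g v1, cyc g' w1, cyc_invt g v1, cyc_invt g' w1, ?_, hnd1, hnd1',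
      (ψ.symm ≪≫ₗ mulEquiv a0 ha0) ≪≫ₗ ψ', ?_, ?_⟩
    · intro hbot
      have : v1 ∈ cyc g v1 := self_mem_cyc g v1
      rw [hbot, Submodule.mem_bot] at this
      exact hv1 this
    · intro z
      obtain ⟨k, rfl⟩ := ψ.surjective z
      rw [hψ, res_cycEquiv]
      simp only [LinearEquiv.trans_apply, LinearEquiv.symm_apply_apply]
      have hmul : (mulEquiv (F := F) a0 ha0) (AdjoinRoot.root π * k) =
          AdjoinRoot.root π * (mulEquiv (F := F) a0 ha0 k) := by
        change a0 * (AdjoinRoot.root π * k) = AdjoinRoot.root π * (a0 * k)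
        ring
      rw [hmul, hψ', res_cycEquiv]
    · intro x y
      obtain ⟨k, rfl⟩ := ψ.surjective x
      obtain ⟨l, rfl⟩ := ψ.surjective y
      simp only [LinearEquiv.trans_apply, LinearEquiv.symm_apply_apply]
      change B' (ψ' (a0 * k) : W) (ψ' (a0 * l) : W) = B (ψ k : V) (ψ l : V)
      rw [← cycForm_apply B' g' hpi hw1 hπw1, ← cycForm_apply B g hpi hv1 hπv1, hiso]

theorem exists_isometry_of_charpoly_eq : ∀ (n : ℕ) (V W : Type v) [AddCommGroup V] [Module F V]
    [FiniteDimensional F V] [AddCommGroup W] [Module F W] [FiniteDimensional F W]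
    (B : V →ₛₗ[σ] V →ₗ[F] F) (g : Module.End F V) (B' : W →ₛₗ[σ] W →ₗ[F] F)
    (g' : Module.End F W), Module.finrank F V = n → UData σ B g → UData σ B' g' →
    g.IsSemisimple → g'.IsSemisimple → g.charpoly = g'.charpoly →
    ∃ e : V ≃ₗ[F] W, (∀ x, e (g x) = g' (e x)) ∧ ∀ x y, B' (e x) (e y) = B x y := by
  intro n
  induction n using Nat.strong_induction_on with
  | _ n ih =>
    intro V W _ _ _ _ _ _ B g B' g' hn hV hW hf hg hfg
    have hWn : Module.finrank F W = n := by
      rw [← LinearMap.charpoly_natDegree g', ← hfg, LinearMap.charpoly_natDegree, hn]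
    by_cases hn0 : n = 0
    · have hsW : Subsingleton W := Module.finrank_zero_iff.mp (by rw [hWn, hn0])
      have hsV : Subsingleton V := Module.finrank_zero_iff.mp (by rw [hn, hn0])
      refine ⟨LinearEquiv.ofFinrankEq V W (by rw [hn, hWn]), fun x => Subsingleton.elim _ _, ?_⟩
      intro x y
      rw [Subsingleton.elim x 0, Subsingleton.elim
        ((LinearEquiv.ofFinrankEq V W (by rw [hn, hWn])) 0) 0]
      simp
    · have hpos : 0 < Module.finrank F V := by omega
      have hnt : Nontrivial V := Module.nontrivial_of_finrank_pos hpos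
      have hmp : 0 < (minpoly F g).natDegree :=
        minpoly.natDegree_pos (Algebra.IsIntegral.isIntegral g)
      obtain ⟨pi, hpm, hpi, hpd⟩ := exists_monic_irreducible_factor hmp
      obtain ⟨v, hv0, hv⟩ := exists_ne_zero_of_dvd_minpoly g hpd hpi.natDegree_pos
      have hdvd : pi ∣ g'.charpoly := by
        rw [← hfg]
        exact hpd.trans (LinearMap.minpoly_dvd_charpoly g)
      obtain ⟨w, hw0, hw⟩ := exists_ne_zero_of_dvd_charpoly n W g' hWn hg pi hpi hdvd
      obtain ⟨H, H', hH, hH', hne, hnd, hnd', e, he1, he2⟩ :=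
        exists_piece hV hW hf hg hpi hpm hv0 hv hw0 hw
      have hc := hV.isCompl_orth hnd
      have hc' := hW.isCompl_orth hnd'
      have hP := hV.orthogonal_invt hH
      have hP' := hW.orthogonal_invt hH'
      have hcp := charpoly_of_isCompl g hH hP hc
      have hcp' := charpoly_of_isCompl g' hH' hP' hc'
      have hHH := charpoly_res_eq_of_equiv hH hH' e he1
      have hcc : (res g hP).charpoly = (res g' hP').charpoly := by
        rw [hcp, hcp', hHH] at hfg
        exact mul_left_cancel₀ (LinearMap.charpoly_monic _).ne_zero hfg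
      have hlt : Module.finrank F ↥(uorth B H) < n := by
        have h1 := Submodule.finrank_add_eq_of_isCompl hc
        have h2 : 0 < Module.finrank F H := by
          rw [Module.finrank_pos_iff_exists_ne_zero]
          obtain ⟨x, hx, hx0⟩ := (Submodule.ne_bot_iff H).1 hne
          exact ⟨⟨x, hx⟩, fun h => hx0 (congrArg Subtype.val h)⟩
        omega
      obtain ⟨e1, he1a, he1b⟩ := ih _ hlt ↥(uorth B H) ↥(uorth B' H')
        (resForm B _) (res g hP) (resForm B' _) (res g' hP') rfl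
        (hV.restrict hP (hV.nd_orth hnd)) (hW.restrict hP' (hW.nd_orth hnd'))
        (res_isSemisimple hf hP) (res_isSemisimple hg hP') hcc
      exact glue_iso hV hW hH hH' hP hP' hc hc' e e1 he1 he2 he1a he1b

end Cfsg.Agent.Lib.H12.USemi
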