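import Mathlib
import Cfsg.Agent.Lib.H12.UnitF

/-!
# The determinant on the unitary centraliser of a semisimple isometry (helper12)
-/

set_option autoImplicit false
set_option linter.unusedSectionVars false
open Polynomial

namespace Cfsg.Agent.Lib.H12.USemi

open Cfsg.Agent.Lib.H12.Semi Cfsg.Agent.Lib.H12.SpSemi

universe u v
variable {F : Type u} [Field F] {σ : F →+* F}

/-- Hilbert 90 for an involution of a field -/
theorem hilbert90 (hσ : ∀ a, σ (σ a) = a) (hne : ∃ a, σ a ≠ a) (z : F) (hz : z * σ z = 1) :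
    ∃ w : F, w ≠ 0 ∧ z = w * (σ w)⁻¹ := by
  have hz0 : z ≠ 0 := by
    rintro rfl
    rw [zero_mul] at hz
    exact zero_ne_one hz
  by_cases h1 : 1 + z = 0
  · obtain ⟨a, ha⟩ := hne
    refine ⟨a - σ a, fun h => ha (sub_eq_zero.1 h).symm, ?_⟩
    have h2 : σ (a - σ a) = -(a - σ a) := by rw [map_sub, hσ]; ring
    have h3 : a - σ a ≠ 0 := fun h => ha (sub_eq_zero.1 h).symm
    rw [h2, inv_neg, mul_neg, mul_inv_cancel₀ h3]
    exact eq_neg_of_add_eq_zero_right h1
  · refine ⟨1 + z, h1, ?_⟩
    have h2 : σ z = z⁻¹ := eq_inv_of_mul_eq_one_right hz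
    have h3 : σ (1 + z) = (1 + z) * z⁻¹ := by
      rw [map_add, map_one, h2, add_mul, one_mul, mul_inv_cancel₀ hz0, add_comm]
    rw [h3, mul_inv, inv_inv, ← mul_assoc, mul_inv_cancel₀ h1, one_mul]

section norm

variable {π : F[X]} [hirr : Fact (Irreducible π)] {c : F} [Finite F]

theorem SelfDual.norm_sigma (h : SelfDual σ π c) (a : AdjoinRoot π) :
    Algebra.norm F (h.sigma a) = σ (Algebra.norm F a) := by
  have : Finite (AdjoinRoot π) := h.finite
  apply (algebraMap F (AdjoinRoot π)).injective
  rw [FiniteField.algebraMap_norm_eq_pow, ← map_pow, ← FiniteField.algebraMap_norm_eq_pow (K := F),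
    h.sigma_of]

end norm

variable {V : Type v} [AddCommGroup V] [Module F V] [FiniteDimensional F V]
variable {B : V →ₛₗ[σ] V →ₗ[F] F} {g : Module.End F V}

section finite
variable [Finite F]

/-- extension of an equivariant isometry of a non-degenerate invariant subspace by the identity -/
theorem extend_by_id (h : UData σ B g) {H : Submodule F V} (hH : H ∈ g.invtSubmodule)
    (hnd : ∀ x ∈ H, (∀ y ∈ H, B y x = 0) → x = 0) (e : H →ₗ[F] H)
    (he1 : ∀ z, e (res g hH z) = res g hH (e z)) (he2 : ∀ x y : H, B (e x) (e y) = B x y) :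
    ∃ c : Module.End F V, c * g = g * c ∧ (∀ x y, B (c x) (c y) = B x y) ∧
      LinearMap.det c = LinearMap.det e := by
  have hc := h.isCompl_orth hnd
  have hP := h.orthogonal_invt hH
  set e2 := Submodule.prodEquivOfIsCompl H (uorth B H) hc with he2def
  refine ⟨e2.conj (e.prodMap LinearMap.id), ?_, ?_, ?_⟩
  · apply LinearMap.ext
    intro x
    obtain ⟨⟨z, z'⟩, rfl⟩ := e2.surjective x
    have hfx : ∀ (a : H) (b : ↥(uorth B H)), g (e2 (a, b)) = e2 (res g hH a, res g hP b) := by
      intro a b
      simp only [he2def, Submodule.coe_prodEquivOfIsCompl', map_add, res_apply]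
    rw [Module.End.mul_apply, Module.End.mul_apply, hfx, LinearEquiv.conj_apply_apply,
      LinearEquiv.conj_apply_apply, LinearEquiv.symm_apply_apply, LinearEquiv.symm_apply_apply,
      LinearMap.prodMap_apply, LinearMap.prodMap_apply, he1, hfx]
    rfl
  · intro x y
    obtain ⟨⟨z, z'⟩, rfl⟩ := e2.surjective x
    obtain ⟨⟨w, w'⟩, rfl⟩ := e2.surjective y
    rw [LinearEquiv.conj_apply_apply, LinearEquiv.conj_apply_apply, LinearEquiv.symm_apply_apply,
      LinearEquiv.symm_apply_apply, LinearMap.prodMap_apply, LinearMap.prodMap_apply]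
    simp only [he2def, Submodule.coe_prodEquivOfIsCompl', map_add, LinearMap.add_apply,
      LinearMap.id_apply]
    have c1 : B (z : V) (w' : V) = 0 := w'.2 z z.2
    have c2 : B (z' : V) (w : V) = 0 := h.zero_symm (z'.2 w w.2)
    have c1' : B (e z : V) (w' : V) = 0 := w'.2 (e z) (e z).2
    have c2' : B (z' : V) (e w : V) = 0 := h.zero_symm (z'.2 (e w) (e w).2)
    rw [c1, c2, c1', c2', he2]
  · rw [LinearEquiv.conj_apply, LinearMap.comp_assoc, LinearMap.det_conj, LinearMap.det_prodMap,
      LinearMap.det_id, mul_one]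

/-- the determinant of the partner map -/
theorem det_partner (h : UData σ B g) {W1 W2 : Submodule F V} (hp : UHypPair B g W1 W2)
    (φ1 : W1 ≃ₗ[F] W1) :
    σ (LinearMap.det (hp.partner h h hp φ1).toLinearMap) * LinearMap.det φ1.toLinearMap = 1 := by
  classical
  set n := Module.finrank F W1 with hn
  let b : Module.Basis (Fin n) F W1 := Module.finBasisOfFinrankEq F W1 hn.symm
  have hy : ∀ j : Fin n, ∃ y' ∈ W2, ∀ x : W1, B y' x = b.coord j x :=
    fun j => hp.exists_partner_vec h (b.coord j)
  choose y hyW hyB using hy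
  let yv : Fin n → W2 := fun j => ⟨y j, hyW j⟩
  have hpair : ∀ i j, B (yv j : V) (b i : V) = if j = i then 1 else 0 := by
    intro i j
    rw [show ((yv j : W2) : V) = y j from rfl, hyB j (b i), Module.Basis.coord_apply,
      Module.Basis.repr_self, Finsupp.single_apply]
    simp [eq_comm]
  have hli : LinearIndependent F yv := by
    rw [Fintype.linearIndependent_iff]
    intro cf hcf i
    have h1 : B ((∑ j, cf j • yv j : W2) : V) (b i : V) = 0 := by
      rw [hcf]; simp
    rw [Submodule.coe_sum, map_sum, LinearMap.sum_apply] at h1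
    simp only [Submodule.coe_smul, map_smulₛₗ, LinearMap.smul_apply, hpair, smul_eq_mul,
      mul_ite, mul_one, mul_zero, Finset.sum_ite_eq', Finset.mem_univ, if_true] at h1
    have := congrArg σ h1
    rwa [h.inv, map_zero] at this
  have hcard : Fintype.card (Fin n) = Module.finrank F W2 := by
    rw [Fintype.card_fin, hp.finrank_eq h]
  let by' : Module.Basis (Fin n) F W2 :=
    Module.Basis.mk hli (by rw [hli.span_eq_top_of_card_eq_finrank' hcard])
  have hby : ∀ j, by' j = yv j := fun j => by
    simp [by']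
  set φ2 := hp.partner h h hp φ1 with hφ2
  set A := LinearMap.toMatrix b b φ1.toLinearMap with hA
  set C := LinearMap.toMatrix by' by' φ2.toLinearMap with hC
  have hφ1 : ∀ i, (φ1 (b i) : V) = ∑ l, A l i • (b l : V) := by
    intro i
    have := (b.sum_repr (φ1 (b i))).symm
    have h2 : (φ1 (b i) : V) = ((∑ l, b.repr (φ1 (b i)) l • b l : W1) : V) := by rw [← this]
    rw [h2, Submodule.coe_sum]
    apply Finset.sum_congr rfl
    intro l _
    rw [Submodule.coe_smul, hA, LinearMap.toMatrix_apply]
    rfl
  have hφ2' : ∀ j, (φ2 (yv j) : V) = ∑ k, C k j • (yv k : V) := by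
    intro j
    have := (by'.sum_repr (φ2 (by' j))).symm
    have h2 : (φ2 (by' j) : V) = ((∑ k, by'.repr (φ2 (by' j)) k • by' k : W2) : V) := by
      rw [← this]
    rw [← hby, h2, Submodule.coe_sum]
    apply Finset.sum_congr rfl
    intro k _
    rw [Submodule.coe_smul, hC, LinearMap.toMatrix_apply, hby, hby]
    rfl
  have hprod : (C.map σ).transpose * A = 1 := by
    ext j i
    have h1 := hp.partner_spec h h hp φ1 (b i) (yv j)
    rw [← hφ2, hφ2', hφ1, hpair] at h1
    rw [Matrix.mul_apply, Matrix.one_apply, ← h1, map_sum B, LinearMap.sum_apply]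
    apply Finset.sum_congr rfl
    intro k _
    rw [map_smulₛₗ, LinearMap.smul_apply, map_sum, smul_eq_mul, Matrix.transpose_apply,
      Matrix.map_apply]
    congr 1
    rw [Finset.sum_eq_single k]
    · rw [map_smul, hpair, if_pos rfl, smul_eq_mul, mul_one]
    · intro l _ hl
      rw [map_smul, hpair, if_neg (Ne.symm hl), smul_zero]
    · intro hk
      exact absurd (Finset.mem_univ k) hk
  have hdet := congrArg Matrix.det hprod
  rw [Matrix.det_mul, Matrix.det_transpose, Matrix.det_one] at hdet
  have h3 : (C.map σ).det = σ C.det := by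
    rw [RingHom.map_det]
    rfl
  rw [h3, hC, hA, LinearMap.det_toMatrix, LinearMap.det_toMatrix] at hdet
  exact hdet

end finite

end Cfsg.Agent.Lib.H12.USemi
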