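import Mathlib
import Cfsg.Agent.Lib.H12.UnitG

/-!
# The determinant maps the unitary centraliser of a semisimple isometry onto the norm-one group
(helper12)
-/

set_option autoImplicit false
set_option linter.unusedSectionVars false
open Polynomial

namespace Cfsg.Agent.Lib.H12.USemi

open Cfsg.Agent.Lib.H12.Semi Cfsg.Agent.Lib.H12.SpSemi

universe u v
variable {F : Type u} [Field F] [Fintype F] {σ : F →+* F}
variable {V : Type v} [AddCommGroup V] [Module F V] [FiniteDimensional F V]
variable {B : V →ₛₗ[σ] V →ₗ[F] F} {g : Module.End F V}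

/-- an equivariant automorphism of `W1` extends to an equivariant isometry of `W1 ⊕ W2`, with
control of the determinant -/
theorem UHypPair.extend_det (hV : UData σ B g) {W1 W2 : Submodule F V}
    (hp : UHypPair B g W1 W2) (φ1 : W1 ≃ₗ[F] W1)
    (hφ1 : ∀ z, φ1 (res g hp.inv1 z) = res g hp.inv1 (φ1 z)) :
    ∃ e : ↥(W1 ⊔ W2) →ₗ[F] ↥(W1 ⊔ W2),
      (∀ z, e (res g hp.sup_invt z) = res g hp.sup_invt (e z)) ∧
      (∀ x y : ↥(W1 ⊔ W2), B (e x) (e y) = B x y) ∧
      LinearMap.det e = LinearMap.det φ1.toLinearMap *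
        LinearMap.det (hp.partner hV hV hp φ1).toLinearMap := by
  set φ2 := hp.partner hV hV hp φ1 with hφ2
  set s := supEquiv W1 W2 hp.disjoint with hs
  refine ⟨s.conj (φ1.toLinearMap.prodMap φ2.toLinearMap), ?_, ?_, ?_⟩
  · intro z
    obtain ⟨⟨a, b⟩, rfl⟩ := s.surjective z
    have h1 : ∀ (a : W1) (b : W2), res g hp.sup_invt (s (a, b)) =
        s (res g hp.inv1 a, res g hp.inv2 b) := by
      intro a b
      apply Subtype.ext
      rw [res_apply, hs, supEquiv_apply, supEquiv_apply, map_add, res_apply, res_apply]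
    rw [h1, LinearEquiv.conj_apply_apply, LinearEquiv.conj_apply_apply,
      LinearEquiv.symm_apply_apply, LinearEquiv.symm_apply_apply, LinearMap.prodMap_apply,
      LinearMap.prodMap_apply, h1]
    congr 2
    · exact hφ1 a
    · exact hp.partner_equivariant hV hV hp φ1 hφ1 b
  · intro x y
    obtain ⟨⟨a, b⟩, rfl⟩ := s.surjective x
    obtain ⟨⟨c, d⟩, rfl⟩ := s.surjective y
    rw [LinearEquiv.conj_apply_apply, LinearEquiv.conj_apply_apply,
      LinearEquiv.symm_apply_apply, LinearEquiv.symm_apply_apply, LinearMap.prodMap_apply,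
      LinearMap.prodMap_apply]
    rw [hs, supEquiv_apply, supEquiv_apply, supEquiv_apply, supEquiv_apply]
    simp only [map_add, LinearMap.add_apply, LinearEquiv.coe_coe]
    rw [hp.iso1 _ (φ1 a).2 _ (φ1 c).2, hp.iso2 _ (φ2 b).2 _ (φ2 d).2,
      hp.iso1 _ a.2 _ c.2, hp.iso2 _ b.2 _ d.2, hp.partner_spec hV hV hp φ1 c b,
      ← hV.symm (φ2 d : V) (φ1 a : V), hp.partner_spec hV hV hp φ1 a d, hV.symm]
  · rw [LinearEquiv.conj_apply, LinearMap.comp_assoc, LinearMap.det_conj, LinearMap.det_prodMap]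

theorem norm_inv_eq {K : Type*} [Field K] [Algebra F K] [FiniteDimensional F K] (x : K)
    (hx : x ≠ 0) : Algebra.norm F x⁻¹ = (Algebra.norm F x)⁻¹ := by
  have h1 : Algebra.norm F x⁻¹ * Algebra.norm F x = 1 := by
    rw [← map_mul, inv_mul_cancel₀ hx, map_one]
  exact eq_inv_of_mul_eq_one_left h1

/-- the determinant is onto the norm-one group on the unitary centraliser of a semisimple
isometry -/
theorem exists_commuting_isometry_det (h : UData σ B g) (hss : g.IsSemisimple) [Nontrivial V]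
    (z : F) (hz : z * σ z = 1) :
    ∃ c : Module.End F V, c * g = g * c ∧ (∀ x y, B (c x) (c y) = B x y) ∧
      LinearMap.det c = z := by
  obtain ⟨w, hw0, hzw⟩ := hilbert90 h.inv h.ne z hz
  have hmp : 0 < (minpoly F g).natDegree :=
    minpoly.natDegree_pos (Algebra.IsIntegral.isIntegral g)
  obtain ⟨pi, hpm, hpi, hpd⟩ := exists_monic_irreducible_factor hmp
  obtain ⟨v, hv0, hv⟩ := exists_ne_zero_of_dvd_minpoly g hpd hpi.natDegree_pos
  have : Fact (Irreducible pi) := ⟨hpi⟩
  have : Module.Finite F (AdjoinRoot pi) := hpm.finite_adjoinRoot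
  have : Finite (AdjoinRoot pi) := Module.finite_of_finite F
  obtain ⟨a, ha⟩ := FiniteField.norm_surjective F (AdjoinRoot pi) w
  have ha0 : a ≠ 0 := by
    rintro rfl
    rw [Algebra.norm_zero] at ha
    exact hw0 ha.symm
  rcases dual_dichotomy (σ := σ) hpi hpm with hco | ⟨c0, hc0, hrev⟩
  · -- hyperbolic case
    obtain ⟨W2, hp⟩ := exists_hyp_of_coprime h hss hpi hpm hco hv0 hv
    set ψ := cycEquiv g hv0 hpi hv with hψ
    set φ1 : cyc g v ≃ₗ[F] cyc g v := (ψ.symm ≪≫ₗ mulEquiv a ha0) ≪≫ₗ ψ with hφ1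
    have hres : ∀ k, res g hp.inv1 (ψ k) = ψ (AdjoinRoot.root pi * k) :=
      fun k => res_cycEquiv g hv0 hpi hv k
    have hφ1eq : ∀ z, φ1 (res g hp.inv1 z) = res g hp.inv1 (φ1 z) := by
      intro z
      obtain ⟨k, rfl⟩ := ψ.surjective z
      rw [hres]
      simp only [hφ1, LinearEquiv.trans_apply, LinearEquiv.symm_apply_apply]
      have hmul : (mulEquiv (F := F) a ha0) (AdjoinRoot.root pi * k) =
          AdjoinRoot.root pi * (mulEquiv (F := F) a ha0 k) := by
        change a * (AdjoinRoot.root pi * k) = AdjoinRoot.root pi * (a * k)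
        ring
      rw [hmul, hres]
    obtain ⟨e, he1, he2, he3⟩ := hp.extend_det h φ1 hφ1eq
    have hdet1 : LinearMap.det φ1.toLinearMap = w := by
      have h1 : φ1.toLinearMap = ψ.conj (Algebra.lmul F (AdjoinRoot pi) a) := by
        apply LinearMap.ext
        intro x
        obtain ⟨k, rfl⟩ := ψ.surjective x
        rw [LinearEquiv.conj_apply_apply, LinearEquiv.symm_apply_apply]
        simp only [hφ1, LinearEquiv.coe_coe, LinearEquiv.trans_apply,
          LinearEquiv.symm_apply_apply]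
        rfl
      rw [h1, LinearEquiv.conj_apply, LinearMap.comp_assoc, LinearMap.det_conj, ← ha,
        Algebra.norm_apply]
    have hdet2 := det_partner h hp φ1
    rw [hdet1] at hdet2
    have hdet2' : LinearMap.det (hp.partner h h hp φ1).toLinearMap = (σ w)⁻¹ := by
      have h1 : σ (LinearMap.det (hp.partner h h hp φ1).toLinearMap) = w⁻¹ :=
        eq_inv_of_mul_eq_one_left hdet2
      have h2 := congrArg σ h1
      rw [h.inv, map_inv₀] at h2
      exact h2
    obtain ⟨c, hc1, hc2, hc3⟩ := extend_by_id h hp.sup_invt (hp.nd_sup h) e he1 he2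
    refine ⟨c, hc1, hc2, ?_⟩
    rw [hc3, he3, hdet1, hdet2', hzw]
  · -- self-dual case
    obtain ⟨v1, hv1, hπv1, hnd1⟩ := exists_nd_cyc h hss hpi hpm hc0 hrev hv0 hv
    have hsr : SelfDual σ pi c0 := ⟨h.inv, h.ne, hpm, hc0, hrev⟩
    set ψ := cycEquiv g hv1 hpi hπv1 with hψ
    have hIβ := uInvForm_cycForm h hv1 hπv1 hnd1
    have hsa0 : hsr.sigma a ≠ 0 := by
      intro h0
      apply ha0
      have := congrArg hsr.sigma h0
      rwa [hsr.sigma_sigma, map_zero] at this
    set μ : AdjoinRoot pi := a * (hsr.sigma a)⁻¹ with hμ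
    have hμ1 : hsr.sigma μ * μ = 1 := by
      rw [hμ, map_mul, map_inv₀, hsr.sigma_sigma]
      field_simp
    set e : cyc g v1 →ₗ[F] cyc g v1 := ψ.conj (Algebra.lmul F (AdjoinRoot pi) μ) with he
    have hee : ∀ k, e (ψ k) = ψ (μ * k) := by
      intro k
      rw [he, LinearEquiv.conj_apply_apply, LinearEquiv.symm_apply_apply]
      rfl
    have hres : ∀ k, res g (cyc_invt g v1) (ψ k) = ψ (AdjoinRoot.root pi * k) :=
      fun k => res_cycEquiv g hv1 hpi hπv1 k
    have he1 : ∀ z, e (res g (cyc_invt g v1) z) = res g (cyc_invt g v1) (e z) := by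
      intro z
      obtain ⟨k, rfl⟩ := ψ.surjective z
      rw [hres, hee, hee, hres]
      congr 1
      ring
    have he2 : ∀ x y : cyc g v1, B (e x) (e y) = B x y := by
      intro x y
      obtain ⟨k, rfl⟩ := ψ.surjective x
      obtain ⟨l, rfl⟩ := ψ.surjective y
      rw [hee, hee, ← cycForm_apply B g hpi hv1 hπv1, ← cycForm_apply B g hpi hv1 hπv1,
        hIβ.shift hsr, ← mul_assoc, hμ1, one_mul]
    have he3 : LinearMap.det e = z := by
      rw [he, LinearEquiv.conj_apply, LinearMap.comp_assoc, LinearMap.det_conj,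
        ← Algebra.norm_apply, hμ, map_mul, norm_inv_eq _ hsa0, hsr.norm_sigma, ha, hzw]
    obtain ⟨c, hc1, hc2, hc3⟩ := extend_by_id h (cyc_invt g v1) hnd1 e he1 he2
    exact ⟨c, hc1, hc2, by rw [hc3, he3]⟩

end Cfsg.Agent.Lib.H12.USemi
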