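import Mathlib
import Cfsg.Agent.Lib.H12.UnitH
import Cfsg.Agent.Lib.H12.SemiC
import Cfsg.Agent.Lib.H4.Herm
import Cfsg.Prelude.Def_Classical

/-!
# Conjugacy of semisimple elements of `SU_n(q)` with the same characteristic polynomial (helper12)
-/

set_option autoImplicit false
set_option linter.unusedSectionVars false
open Polynomial

namespace Cfsg.Agent.Lib.H12.USemi

open Cfsg.Agent.Lib.H12.Semi Cfsg.Agent.Lib.H12.SpSemi

universe u
variable {F : Type u} [Field F]

/-- the standard hermitian form `Σ σ(u_i) v_i` -/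
noncomputable def stdHerm (n : ℕ) (σ : F →+* F) : (Fin n → F) →ₛₗ[σ] (Fin n → F) →ₗ[F] F :=
  LinearMap.mk₂'ₛₗ σ (RingHom.id F) (fun u v => ∑ i, σ (u i) * v i)
    (by intro a b c; simp only [Pi.add_apply, map_add, add_mul, Finset.sum_add_distrib])
    (by intro r a b; simp only [Pi.smul_apply, smul_eq_mul, map_mul, Finset.mul_sum, mul_assoc])
    (by intro a b c; simp only [Pi.add_apply, mul_add, Finset.sum_add_distrib])
    (by
      intro r a b
      simp only [Pi.smul_apply, smul_eq_mul, RingHom.id_apply, Finset.mul_sum]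
      apply Finset.sum_congr rfl
      intro i _
      ring)

theorem stdHerm_apply (n : ℕ) (σ : F →+* F) (u v : Fin n → F) :
    stdHerm n σ u v = ∑ i, σ (u i) * v i := rfl

theorem stdHerm_eq_hermForm (n : ℕ) (σ : F →+* F) (q : ℕ) (hσ : ∀ x, σ x = x ^ q)
    (u v : Fin n → F) : stdHerm n σ u v = Cfsg.hermForm n F q v u := by
  rw [stdHerm_apply]
  unfold Cfsg.hermForm
  apply Finset.sum_congr rfl
  intro i _
  rw [hσ, mul_comm]

theorem uData_of_preserve (n : ℕ) (σ : F →+* F) (q : ℕ) (hσ : ∀ x, σ x = x ^ q)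
    (hσ2 : ∀ a, σ (σ a) = a) (hne : ∃ a, σ a ≠ a) (A : Matrix (Fin n) (Fin n) F)
    (hA : ∀ u v : Fin n → F, Cfsg.hermForm n F q (A.mulVec u) (A.mulVec v) =
      Cfsg.hermForm n F q u v) : UData σ (stdHerm n σ) (Matrix.toLin' A) where
  inv := hσ2
  ne := hne
  symm := by
    intro x y
    rw [stdHerm_apply, stdHerm_apply, map_sum]
    apply Finset.sum_congr rfl
    intro i _
    rw [map_mul, hσ2, mul_comm]
  nd := by
    classical
    intro v hv
    funext i
    have := hv (Pi.single i 1)
    rw [stdHerm_apply, Finset.sum_eq_single i] at this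
    · rw [Pi.single_eq_same, map_one, one_mul] at this
      exact this
    · intro j _ hj
      rw [Pi.single_eq_of_ne hj, map_zero, zero_mul]
    · intro hi
      exact absurd (Finset.mem_univ i) hi
  iso := by
    intro x y
    rw [stdHerm_eq_hermForm n σ q hσ, stdHerm_eq_hermForm n σ q hσ, Matrix.toLin'_apply,
      Matrix.toLin'_apply]
    exact hA y x

section finite
variable [Fintype F]

theorem frob_ne_id {q : ℕ} (hF : Fintype.card F = q ^ 2) : ∃ a : F, a ^ q ≠ a := by
  classical
  have hq2 : 2 ≤ q := by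
    have h1 : 2 ≤ Fintype.card F := Fintype.one_lt_card
    rw [hF] at h1
    by_contra hcon
    push Not at hcon
    interval_cases q <;> simp at h1
  obtain ⟨γ, hγ⟩ := IsCyclic.exists_generator (α := Fˣ)
  have hord : orderOf γ = q ^ 2 - 1 := by
    rw [orderOf_eq_card_of_forall_mem_zpowers hγ, Nat.card_units, Nat.card_eq_fintype_card, hF]
  refine ⟨(γ : F), ?_⟩
  intro h
  have h1 : γ ^ q = γ := Units.ext (by rw [Units.val_pow_eq_pow_val]; exact h)
  have h2 : γ ^ (q - 1) = 1 := by
    have : γ ^ (q - 1) * γ = 1 * γ := by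
      rw [← pow_succ, Nat.sub_add_cancel (by omega), h1, one_mul]
    exact mul_right_cancel this
  have h3 := orderOf_dvd_of_pow_eq_one h2
  rw [hord] at h3
  have h4 := Nat.le_of_dvd (by omega) h3
  have h5 : q ^ 2 = q * q := sq q
  have h6 : 2 * q ≤ q * q := Nat.mul_le_mul_right q hq2
  omega

/-- a linear isometry of the standard hermitian space is a unitary matrix: determinant relation -/
theorem det_mul_sigma_det (n : ℕ) (σ : F →+* F) (C : Matrix (Fin n) (Fin n) F)
    (hC : ∀ u v : Fin n → F, stdHerm n σ (C.mulVec u) (C.mulVec v) = stdHerm n σ u v) :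
    σ C.det * C.det = 1 := by
  classical
  have hprod : (C.map σ).transpose * C = 1 := by
    ext i j
    have := hC (Pi.single i 1) (Pi.single j 1)
    rw [stdHerm_apply, stdHerm_apply] at this
    rw [Matrix.mul_apply, Matrix.one_apply]
    simp only [Matrix.mulVec_single_one, Matrix.transpose_apply, Matrix.map_apply,
      Matrix.col_apply] at this ⊢
    rw [this, Finset.sum_eq_single i]
    · rw [Pi.single_eq_same, map_one, one_mul, Pi.single_apply]
    · intro k _ hk
      rw [Pi.single_eq_of_ne hk, map_zero, zero_mul]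
    · intro hi
      exact absurd (Finset.mem_univ i) hi
  have hdet := congrArg Matrix.det hprod
  rw [Matrix.det_mul, Matrix.det_transpose, Matrix.det_one] at hdet
  have h3 : (C.map σ).det = σ C.det := by
    rw [RingHom.map_det]
    rfl
  rw [h3] at hdet
  exact hdet

/-- semisimple elements of `SU_n(q)` with the same characteristic polynomial are conjugate -/
theorem isConj_SU_of_charpoly_eq {q : ℕ} (hF : Fintype.card F = q ^ 2) (p : ℕ) [Fact p.Prime]
    [CharP F p] (n : ℕ) (g h : ↥(Cfsg.SU n F q)) (hg : (orderOf g).Coprime p)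
    (hh : (orderOf h).Coprime p)
    (hc : ((g : Matrix.SpecialLinearGroup (Fin n) F) : Matrix (Fin n) (Fin n) F).charpoly =
      ((h : Matrix.SpecialLinearGroup (Fin n) F) : Matrix (Fin n) (Fin n) F).charpoly) :
    IsConj g h := by
  classical
  rcases Nat.eq_zero_or_pos n with rfl | hn
  · have : g = h := Subtype.ext (Subtype.ext (Subsingleton.elim _ _))
    rw [this]
  obtain ⟨σ, hσ, hσ2⟩ := Cfsg.Agent.Lib.H4.exists_frob hF
  have hne : ∃ a, σ a ≠ a := by
    obtain ⟨a, ha⟩ := frob_ne_id hF
    exact ⟨a, by rw [hσ]; exact ha⟩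
  set G : Matrix (Fin n) (Fin n) F := ((g : Matrix.SpecialLinearGroup (Fin n) F) :
    Matrix (Fin n) (Fin n) F) with hG
  set H : Matrix (Fin n) (Fin n) F := ((h : Matrix.SpecialLinearGroup (Fin n) F) :
    Matrix (Fin n) (Fin n) F) with hH
  have hGp : ∀ u v : Fin n → F, Cfsg.hermForm n F q (G.mulVec u) (G.mulVec v) =
      Cfsg.hermForm n F q u v := g.2
  have hHp : ∀ u v : Fin n → F, Cfsg.hermForm n F q (H.mulVec u) (H.mulVec v) =
      Cfsg.hermForm n F q u v := h.2
  have hdG := uData_of_preserve n σ q hσ hσ2 hne G hGp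
  have hdH := uData_of_preserve n σ q hσ hσ2 hne H hHp
  -- semisimplicity
  have hss : ∀ (x : ↥(Cfsg.SU n F q)), (orderOf x).Coprime p →
      Module.End.IsSemisimple (Matrix.toLin'
        ((x : Matrix.SpecialLinearGroup (Fin n) F) : Matrix (Fin n) (Fin n) F)) := by
    intro x hx
    apply isSemisimple_toLin'_of_pow_eq_one _ (orderOf x)
    · rw [Ne, CharP.cast_eq_zero_iff F p]
      intro hd
      have h1 : p ∣ Nat.gcd (orderOf x) p := Nat.dvd_gcd hd dvd_rfl
      rw [hx] at h1
      exact (Fact.out : p.Prime).one_lt.ne' (Nat.dvd_one.mp h1)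
    · have h1 := pow_orderOf_eq_one x
      have h2 : ((x ^ orderOf x : ↥(Cfsg.SU n F q)) : Matrix.SpecialLinearGroup (Fin n) F) = 1 := by
        rw [h1]; rfl
      rw [SubgroupClass.coe_pow] at h2
      have h3 := congrArg (fun y : Matrix.SpecialLinearGroup (Fin n) F =>
        (y : Matrix (Fin n) (Fin n) F)) h2
      simp only [Matrix.SpecialLinearGroup.coe_pow, Matrix.SpecialLinearGroup.coe_one] at h3
      exact h3
  have hssG := hss g hg
  have hssH := hss h hh
  have hcp : (Matrix.toLin' G).charpoly = (Matrix.toLin' H).charpoly := by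
    rw [Matrix.charpoly_toLin', Matrix.charpoly_toLin', hc]
  obtain ⟨e, he, hiso⟩ := exists_isometry_of_charpoly_eq
    (Module.finrank F (Fin n → F)) (Fin n → F) (Fin n → F) (stdHerm n σ) (Matrix.toLin' G)
    (stdHerm n σ) (Matrix.toLin' H) rfl hdG hdH hssG hssH hcp
  set C := LinearMap.toMatrix' e.toLinearMap with hC
  have hCiso : ∀ u v : Fin n → F, stdHerm n σ (C.mulVec u) (C.mulVec v) = stdHerm n σ u v := by
    intro u v
    rw [hC, LinearMap.toMatrix'_mulVec, LinearMap.toMatrix'_mulVec]
    exact hiso u v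
  have hCdet := det_mul_sigma_det n σ C hCiso
  have hCG : C * G = H * C := by
    calc C * G = LinearMap.toMatrix' e.toLinearMap * LinearMap.toMatrix' (Matrix.toLin' G) := by
          rw [LinearMap.toMatrix'_toLin']
      _ = LinearMap.toMatrix' (e.toLinearMap ∘ₗ Matrix.toLin' G) :=
          (LinearMap.toMatrix'_comp _ _).symm
      _ = LinearMap.toMatrix' (Matrix.toLin' H ∘ₗ e.toLinearMap) := by
          congr 1
          apply LinearMap.ext
          intro x
          exact he x
      _ = LinearMap.toMatrix' (Matrix.toLin' H) * LinearMap.toMatrix' e.toLinearMap :=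
          LinearMap.toMatrix'_comp _ _
      _ = H * C := by rw [LinearMap.toMatrix'_toLin']
  have hCdet0 : C.det ≠ 0 := by
    intro h0
    rw [h0, mul_zero] at hCdet
    exact zero_ne_one hCdet
  -- adjust the determinant
  have hnt : Nontrivial (Fin n → F) := by
    have : Nonempty (Fin n) := ⟨⟨0, hn⟩⟩
    infer_instance
  have hz : (C.det)⁻¹ * σ (C.det)⁻¹ = 1 := by
    rw [map_inv₀, ← mul_inv, mul_comm, hCdet, inv_one]
  obtain ⟨c, hc1, hc2, hc3⟩ := exists_commuting_isometry_det hdG hssG (C.det)⁻¹ hz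
  set D := LinearMap.toMatrix' c with hD
  have hDG : D * G = G * D := by
    have := congrArg LinearMap.toMatrix' hc1
    rw [Module.End.mul_eq_comp, Module.End.mul_eq_comp, LinearMap.toMatrix'_comp,
      LinearMap.toMatrix'_comp, LinearMap.toMatrix'_toLin'] at this
    exact this
  have hDdet : D.det = (C.det)⁻¹ := by rw [hD, LinearMap.det_toMatrix', hc3]
  have hYdet : (C * D).det = 1 := by
    rw [Matrix.det_mul, hDdet, mul_inv_cancel₀ hCdet0]
  have hYiso : ∀ u v : Fin n → F, Cfsg.hermForm n F q ((C * D).mulVec u) ((C * D).mulVec v) =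
      Cfsg.hermForm n F q u v := by
    intro u v
    rw [← stdHerm_eq_hermForm n σ q hσ, ← stdHerm_eq_hermForm n σ q hσ,
      ← Matrix.mulVec_mulVec, ← Matrix.mulVec_mulVec, hCiso, hD, LinearMap.toMatrix'_mulVec,
      LinearMap.toMatrix'_mulVec]
    exact hc2 v u
  set Y : ↥(Cfsg.SU n F q) := ⟨⟨C * D, hYdet⟩, hYiso⟩ with hY
  refine isConj_iff.mpr ⟨Y, ?_⟩
  rw [mul_inv_eq_iff_eq_mul]
  apply Subtype.ext
  apply Subtype.ext
  show C * D * G = H * (C * D)
  rw [Matrix.mul_assoc, hDG, ← Matrix.mul_assoc, hCG, Matrix.mul_assoc]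

end finite

end Cfsg.Agent.Lib.H12.USemi
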