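import Mathlib
import Cfsg.Agent.Lib.H12.UnitI
import Cfsg.Agent.Lib.H12.SpCountB
import Cfsg.Agent.Lib.H12.SemiD

/-!
# Realization of self-dual polynomials by isometries of hermitian spaces (helper12)
-/

set_option autoImplicit false
set_option linter.unusedSectionVars false
open Polynomial

namespace Cfsg.Agent.Lib.H12.USemi

open Cfsg.Agent.Lib.H12.Semi

universe u
variable {F : Type u} [Field F] {σ : F →+* F}

/-- `P` is the characteristic polynomial of an isometry of a non-degenerate hermitian space -/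
def Realizable (σ : F →+* F) (P : F[X]) : Prop :=
  ∃ (V : Type u) (_ : AddCommGroup V) (_ : Module F V) (_ : FiniteDimensional F V)
    (B : V →ₛₗ[σ] V →ₗ[F] F) (g : Module.End F V), UData σ B g ∧ LinearMap.charpoly g = P

theorem Realizable.one (hσ2 : ∀ a, σ (σ a) = a) (hne : ∃ a, σ a ≠ a) :
    Realizable σ (1 : F[X]) := by
  refine ⟨PUnit.{u+1}, inferInstance, inferInstance, inferInstance, 0, 0,
    ⟨hσ2, hne, ?_, ?_, ?_⟩, ?_⟩
  · intro x y; simp
  · intro v _; exact Subsingleton.elim _ _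
  · intro x y; simp
  · apply Polynomial.eq_one_of_monic_natDegree_zero (LinearMap.charpoly_monic _)
    rw [LinearMap.charpoly_natDegree]
    exact Module.finrank_zero_of_subsingleton

section prod

variable {V₁ V₂ : Type*} [AddCommGroup V₁] [Module F V₁] [AddCommGroup V₂] [Module F V₂]

/-- orthogonal sum of two forms -/
noncomputable def prodForm (B₁ : V₁ →ₛₗ[σ] V₁ →ₗ[F] F) (B₂ : V₂ →ₛₗ[σ] V₂ →ₗ[F] F) :
    (V₁ × V₂) →ₛₗ[σ] (V₁ × V₂) →ₗ[F] F :=
  LinearMap.mk₂'ₛₗ σ (RingHom.id F) (fun x y => B₁ x.1 y.1 + B₂ x.2 y.2)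
    (by intro a b c; simp only [Prod.fst_add, Prod.snd_add, map_add, LinearMap.add_apply]; ring)
    (by
      intro r a b
      simp only [Prod.smul_fst, Prod.smul_snd, map_smulₛₗ, LinearMap.smul_apply, smul_eq_mul]
      ring)
    (by intro a b c; simp only [Prod.fst_add, Prod.snd_add, map_add]; ring)
    (by
      intro r a b
      simp only [Prod.smul_fst, Prod.smul_snd, map_smul, smul_eq_mul, RingHom.id_apply]
      ring)

theorem prodForm_apply (B₁ : V₁ →ₛₗ[σ] V₁ →ₗ[F] F) (B₂ : V₂ →ₛₗ[σ] V₂ →ₗ[F] F)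
    (x y : V₁ × V₂) : prodForm B₁ B₂ x y = B₁ x.1 y.1 + B₂ x.2 y.2 := rfl

theorem UData.prod {B₁ : V₁ →ₛₗ[σ] V₁ →ₗ[F] F} {B₂ : V₂ →ₛₗ[σ] V₂ →ₗ[F] F}
    {g₁ : Module.End F V₁} {g₂ : Module.End F V₂} (h1 : UData σ B₁ g₁) (h2 : UData σ B₂ g₂) :
    UData σ (prodForm B₁ B₂) (g₁.prodMap g₂) where
  inv := h1.inv
  ne := h1.ne
  symm := by
    intro x y
    rw [prodForm_apply, prodForm_apply, map_add, h1.symm, h2.symm]
  nd := by
    intro v hv
    apply Prod.ext
    · apply h1.nd
      intro w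
      have := hv (w, 0)
      rw [prodForm_apply] at this
      simpa using this
    · apply h2.nd
      intro w
      have := hv (0, w)
      rw [prodForm_apply] at this
      simpa using this
  iso := by
    intro x y
    rw [prodForm_apply, prodForm_apply]
    simp only [LinearMap.prodMap_apply]
    rw [h1.iso, h2.iso]

end prod

theorem Realizable.mul {P Q : F[X]} (hP : Realizable σ P) (hQ : Realizable σ Q) :
    Realizable σ (P * Q) := by
  obtain ⟨V₁, _, _, _, B₁, g₁, h1, rfl⟩ := hP
  obtain ⟨V₂, _, _, _, B₂, g₂, h2, rfl⟩ := hQ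
  exact ⟨V₁ × V₂, inferInstance, inferInstance, inferInstance, prodForm B₁ B₂, g₁.prodMap g₂,
    h1.prod h2, LinearMap.charpoly_prodMap g₁ g₂⟩

/-! ### the field block -/

section field

variable {π : F[X]} [hirr : Fact (Irreducible π)] {c : F}

theorem SelfDual.sigma_smul (h : SelfDual σ π c) (a : F) (x : AdjoinRoot π) :
    h.sigma (a • x) = σ a • h.sigma x := by
  rw [Algebra.smul_def, map_mul, h.sigma_of, ← Algebra.smul_def]

/-- a non-zero hermitian functional on `F[X]/(π)` -/
theorem SelfDual.exists_functional (h : SelfDual σ π c) :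
    ∃ τ : AdjoinRoot π →ₗ[F] F, τ ≠ 0 ∧ ∀ x, τ (h.sigma x) = σ (τ x) := by
  set τ0 : AdjoinRoot π →ₗ[F] F := Cfsg.Agent.Lib.H12.SpCount.tau0 h.monic with hτ0
  obtain ⟨y0, hy0⟩ := Cfsg.Agent.Lib.H12.SpCount.exists_tau0_ne h.monic 1 one_ne_zero
  rw [one_mul] at hy0
  let τd : AdjoinRoot π →ₗ[F] F :=
    { toFun := fun x => σ (τ0 (h.sigma x))
      map_add' := by intro x y; rw [map_add, map_add, map_add]
      map_smul' := by
        intro a x
        rw [h.sigma_smul, map_smul, smul_eq_mul, map_mul, h.inv, RingHom.id_apply, smul_eq_mul] }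
  have hτd : ∀ x, τd x = σ (τ0 (h.sigma x)) := fun x => rfl
  have key : ∀ u : F, ∀ x, (u • τ0 + σ u • τd) (h.sigma x) = σ ((u • τ0 + σ u • τd) x) := by
    intro u x
    simp only [LinearMap.add_apply, LinearMap.smul_apply, smul_eq_mul, hτd, h.sigma_sigma,
      map_add, map_mul, h.inv]
    ring
  by_cases h1 : τ0 + τd = 0
  · obtain ⟨u, hu⟩ := h.ne
    refine ⟨u • τ0 + σ u • τd, ?_, key u⟩
    have h2 : τd = -τ0 := by
      rw [eq_neg_iff_add_eq_zero, add_comm]; exact h1
    rw [h2]
    intro h3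
    have h4 := congrArg (fun f : AdjoinRoot π →ₗ[F] F => f y0) h3
    simp only [LinearMap.add_apply, LinearMap.smul_apply, LinearMap.neg_apply, smul_eq_mul,
      LinearMap.zero_apply] at h4
    have h5 : (u - σ u) * τ0 y0 = 0 := by rw [← h4]; ring
    rcases mul_eq_zero.mp h5 with h6 | h6
    · exact hu (sub_eq_zero.mp h6).symm
    · exact hy0 h6
  · refine ⟨τ0 + τd, h1, ?_⟩
    have := key 1
    simpa using this

/-- the hermitian form `τ(σ(a) b)` on `F[X]/(π)` -/
noncomputable def SelfDual.form (h : SelfDual σ π c) (τ : AdjoinRoot π →ₗ[F] F) :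
    AdjoinRoot π →ₛₗ[σ] AdjoinRoot π →ₗ[F] F :=
  LinearMap.mk₂'ₛₗ σ (RingHom.id F) (fun a b => τ (h.sigma a * b))
    (by intro a b c; rw [map_add, add_mul, map_add])
    (by intro r a b; rw [h.sigma_smul, smul_mul_assoc, map_smul])
    (by intro a b c; rw [mul_add, map_add])
    (by intro r a b; rw [mul_smul_comm, map_smul, RingHom.id_apply])

theorem SelfDual.form_apply (h : SelfDual σ π c) (τ : AdjoinRoot π →ₗ[F] F)
    (a b : AdjoinRoot π) : h.form τ a b = τ (h.sigma a * b) := rfl

theorem Realizable.of_selfDual (h : SelfDual σ π c) : Realizable σ π := by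
  obtain ⟨τ, hτ0, hτ⟩ := h.exists_functional
  have hfin : Module.Finite F (AdjoinRoot π) := h.monic.finite_adjoinRoot
  refine ⟨AdjoinRoot π, inferInstance, inferInstance, hfin, h.form τ,
    LinearMap.mulLeft F (AdjoinRoot.root π), ⟨h.inv, h.ne, ?_, ?_, ?_⟩,
    charpoly_mulLeft_root h.monic⟩
  · intro x y
    rw [h.form_apply, h.form_apply, ← hτ, map_mul, h.sigma_sigma, mul_comm]
  · intro v hv
    by_contra hv0
    apply hτ0
    apply LinearMap.ext
    intro z
    have := hv (h.sigma (z * v⁻¹))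
    rw [h.form_apply, h.sigma_sigma, mul_assoc, inv_mul_cancel₀ hv0, mul_one] at this
    rw [this, LinearMap.zero_apply]
  · intro x y
    rw [h.form_apply, h.form_apply, LinearMap.mulLeft_apply, LinearMap.mulLeft_apply,
      map_mul h.sigma, h.sigma_root]
    congr 1
    have hα := h.root_ne_zero
    field_simp

end field

/-! ### the hyperbolic block -/

theorem stdHerm_symm (hσ2 : ∀ a, σ (σ a) = a) (n : ℕ) (x y : Fin n → F) :
    σ (stdHerm n σ x y) = stdHerm n σ y x := by
  rw [stdHerm_apply, stdHerm_apply, map_sum]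
  apply Finset.sum_congr rfl
  intro i _
  rw [map_mul, hσ2, mul_comm]

theorem stdHerm_single_left (n : ℕ) (i : Fin n) (v : Fin n → F) :
    stdHerm n σ (Pi.single i 1) v = v i := by
  classical
  rw [stdHerm_apply, Finset.sum_eq_single i]
  · rw [Pi.single_eq_same, map_one, one_mul]
  · intro j _ hj
    rw [Pi.single_eq_of_ne hj, map_zero, zero_mul]
  · intro hi
    exact absurd (Finset.mem_univ i) hi

theorem stdHerm_eq_dotProduct (n : ℕ) (u v : Fin n → F) :
    stdHerm n σ u v = dotProduct (σ ∘ u) v := rfl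

theorem stdHerm_mulVec (n : ℕ) (M N : Matrix (Fin n) (Fin n) F)
    (h : (M.map σ).transpose * N = 1) (u v : Fin n → F) :
    stdHerm n σ (M.mulVec u) (N.mulVec v) = stdHerm n σ u v := by
  rw [stdHerm_eq_dotProduct, stdHerm_eq_dotProduct]
  have h1 : σ ∘ (M.mulVec u) = (M.map σ).mulVec (σ ∘ u) := by
    funext i
    exact RingHom.map_mulVec σ M u i
  rw [h1, ← Matrix.vecMul_transpose, ← Matrix.dotProduct_mulVec, Matrix.mulVec_mulVec, h,
    Matrix.one_mulVec]

/-- reverse of the characteristic polynomial via the inverse matrix -/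
theorem charpoly_reverse_of_mul_eq_one {n : ℕ} (M M' : Matrix (Fin n) (Fin n) F)
    (hMM' : M * M' = 1) :
    M.charpoly.reverse = C (M.det * (-1) ^ n) * M'.charpoly := by
  rw [Matrix.reverse_charpoly, Matrix.charpolyRev]
  have h1 : (1 : Matrix (Fin n) (Fin n) F[X]) - (X : F[X]) • M.map C =
      M.map C * (-(Matrix.charmatrix M')) := by
    have h2 : M.map (C : F → F[X]) * M'.map C = 1 := by
      rw [← Matrix.map_mul, hMM', Matrix.map_one C (map_zero _) (map_one _)]
    rw [Matrix.charmatrix, neg_sub, Matrix.mul_sub, RingHom.mapMatrix_apply, h2]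
    congr 1
    rw [Matrix.scalar_apply, ← Matrix.smul_one_eq_diagonal, Matrix.mul_smul, Matrix.mul_one]
  rw [h1, Matrix.det_mul, Matrix.det_neg, Matrix.charpoly, Fintype.card_fin]
  have h3 : (M.map (C : F → F[X])).det = C M.det := by
    have := (RingHom.map_det (C : F →+* F[X]) M).symm
    rw [RingHom.mapMatrix_apply] at this
    exact this
  rw [h3, map_mul, map_pow, map_neg, map_one]
  ring

/-- the hyperbolic form on `F^d × F^d` -/
noncomputable def hypF (d : ℕ) (σ : F →+* F) :
    ((Fin d → F) × (Fin d → F)) →ₛₗ[σ] ((Fin d → F) × (Fin d → F)) →ₗ[F] F :=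
  LinearMap.mk₂'ₛₗ σ (RingHom.id F)
    (fun x y => stdHerm d σ x.1 y.2 + stdHerm d σ x.2 y.1)
    (by intro a b c; simp only [Prod.fst_add, Prod.snd_add, map_add, LinearMap.add_apply]; ring)
    (by
      intro r a b
      simp only [Prod.smul_fst, Prod.smul_snd, map_smulₛₗ, LinearMap.smul_apply, smul_eq_mul]
      ring)
    (by intro a b c; simp only [Prod.fst_add, Prod.snd_add, map_add]; ring)
    (by
      intro r a b
      simp only [Prod.smul_fst, Prod.smul_snd, map_smul, smul_eq_mul, RingHom.id_apply]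
      ring)

theorem hypF_apply (d : ℕ) (x y : (Fin d → F) × (Fin d → F)) :
    hypF d σ x y = stdHerm d σ x.1 y.2 + stdHerm d σ x.2 y.1 := rfl

theorem dualP_mul (a b : F[X]) : dualP σ (a * b) = dualP σ a * dualP σ b := by
  rw [dualP, dualP, dualP, Polynomial.map_mul, reverse_mul_of_domain]

theorem dualP_C (e : F) : dualP σ (C e) = C (σ e) := by
  rw [dualP, map_C, reverse_C]

theorem Realizable.hyp (hσ2 : ∀ a, σ (σ a) = a) (hne : ∃ a, σ a ≠ a) {π : F[X]} (hm : π.Monic)
    (h0 : π.coeff 0 ≠ 0) :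
    ∃ (ρ : F[X]) (e : F), ρ.Monic ∧ e ≠ 0 ∧ dualP σ π = C e * ρ ∧ Realizable σ (π * ρ) := by
  classical
  obtain ⟨d, hd⟩ : ∃ d, d = π.natDegree := ⟨_, rfl⟩
  obtain ⟨M, hM⟩ : ∃ M : Matrix (Fin d) (Fin d) F, M.charpoly = π := by
    rw [hd]
    exact exists_matrix_charpoly_eq π hm
  have hdet : M.det ≠ 0 := by
    rw [Matrix.det_eq_sign_charpoly_coeff, hM]
    exact mul_ne_zero (pow_ne_zero _ (by norm_num)) h0
  set A : Matrix (Fin d) (Fin d) F := (M.map σ).transpose with hA
  have hAdet : A.det = σ M.det := by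
    rw [hA, Matrix.det_transpose]
    have := (RingHom.map_det σ M).symm
    rw [RingHom.mapMatrix_apply] at this
    exact this
  have hAdet0 : A.det ≠ 0 := by
    rw [hAdet]
    intro h
    exact hdet ((map_eq_zero σ).mp h)
  set N : Matrix (Fin d) (Fin d) F := A⁻¹ with hN
  have hAN : A * N = 1 := Matrix.mul_nonsing_inv A (isUnit_iff_ne_zero.mpr hAdet0)
  have hAch : A.charpoly = π.map σ := by
    rw [hA, Matrix.charpoly_transpose, Matrix.charpoly_map, hM]
  have hrev := charpoly_reverse_of_mul_eq_one A N hAN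
  rw [hAch] at hrev
  refine ⟨N.charpoly, A.det * (-1) ^ d, Matrix.charpoly_monic N,
    mul_ne_zero hAdet0 (pow_ne_zero _ (by norm_num)), hrev, ?_⟩
  refine ⟨(Fin d → F) × (Fin d → F), inferInstance, inferInstance, inferInstance, hypF d σ,
    (Matrix.toLin' M).prodMap (Matrix.toLin' N), ⟨hσ2, hne, ?_, ?_, ?_⟩, ?_⟩
  · intro x y
    rw [hypF_apply, hypF_apply, map_add, stdHerm_symm hσ2, stdHerm_symm hσ2, add_comm]
  · intro v hv
    apply Prod.ext
    · funext i
      have := hv (0, Pi.single i 1)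
      rw [hypF_apply] at this
      simp only [map_zero, LinearMap.zero_apply, zero_add] at this
      rw [stdHerm_single_left] at this
      exact this
    · funext i
      have := hv (Pi.single i 1, 0)
      rw [hypF_apply] at this
      simp only [map_zero, LinearMap.zero_apply, add_zero] at this
      rw [stdHerm_single_left] at this
      exact this
  · intro x y
    rw [hypF_apply, hypF_apply]
    simp only [LinearMap.prodMap_apply, Matrix.toLin'_apply]
    have e1 : stdHerm d σ (N.mulVec x.2) (M.mulVec y.1) = stdHerm d σ x.2 y.1 := by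
      rw [← stdHerm_symm hσ2 d (M.mulVec y.1) (N.mulVec x.2), stdHerm_mulVec d M N hAN,
        stdHerm_symm hσ2]
    rw [stdHerm_mulVec d M N hAN, e1]
  · rw [LinearMap.charpoly_prodMap, Matrix.charpoly_toLin', Matrix.charpoly_toLin', hM]

end Cfsg.Agent.Lib.H12.USemi
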