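import Mathlib

/-!
# Orthonormal bases of hermitian spaces over finite fields (helper12)

A verbatim copy (new namespace) of the helper lemmas of `Cfsg/Agent/S0755.lean`, kept here so
that the `H12/Unit*` files do not depend on a statement file.
-/

set_option autoImplicit false

namespace Cfsg.Agent.Lib.H12.UOnb

open Module

/-- Norm surjectivity (via Hilbert 90 counting): for an involutive non-identity automorphism `σ`
of a finite field, every nonzero fixed element is of the form `σ μ * μ`. -/
theorem exists_sigma_norm_eq {F : Type*} [Field F] [Finite F] (σ : F →+* F) (hσ : σ ≠ RingHom.id F)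
    (hσ2 : ∀ a : F, σ (σ a) = a) (a : F) (ha : a ≠ 0) (hfix : σ a = a) :
    ∃ μ : F, σ μ * μ = a := by
  classical
  let s : Fˣ →* Fˣ := Units.map (σ : F →* F)
  have hs : ∀ u : Fˣ, ((s u : Fˣ) : F) = σ (u : F) := fun u => rfl
  have hss : ∀ u : Fˣ, s (s u) = u := fun u => Units.ext (by rw [hs, hs, hσ2])
  let N : Fˣ →* Fˣ := s * MonoidHom.id Fˣ
  let T : Fˣ →* Fˣ := MonoidHom.id Fˣ * s⁻¹
  have hN : ∀ u, N u = s u * u := fun u => rfl
  have hT : ∀ u, T u = u * (s u)⁻¹ := fun u => rfl
  let S : Subgroup Fˣ := (s.comp (MonoidHom.id Fˣ)).eqLocus (MonoidHom.id Fˣ)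
  have hS : ∀ u, u ∈ S ↔ s u = u := fun u => Iff.rfl
  -- T.ker = S
  have hTker : T.ker = S := by
    ext u
    rw [MonoidHom.mem_ker, hT, hS, mul_inv_eq_one, eq_comm]
  -- T.range = N.ker
  have hTrange : T.range = N.ker := by
    ext u
    rw [MonoidHom.mem_ker, hN]
    constructor
    · rintro ⟨ν, rfl⟩
      rw [hT, map_mul, map_inv, hss]
      have : s ν * (ν)⁻¹ * (ν * (s ν)⁻¹) = 1 := by
        rw [mul_assoc, inv_mul_cancel_left, mul_inv_cancel]
      exact this
    · intro hu
      -- Hilbert 90
      have hu' : σ (u : F) * (u : F) = 1 := by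
        have := congrArg Units.val hu
        simpa [hs] using this
      have hex : ∃ θ : F, θ + (u : F) * σ θ ≠ 0 := by
        by_contra hcon
        push Not at hcon
        have h1 := hcon 1
        rw [map_one, mul_one] at h1
        have hu1 : (u : F) = -1 := by linear_combination h1
        apply hσ
        ext θ
        have h2 := hcon θ
        rw [hu1] at h2
        simp only [RingHom.id_apply]
        linear_combination -h2
      obtain ⟨θ, hθ⟩ := hex
      let ν : Fˣ := Units.mk0 _ hθ
      refine ⟨ν, ?_⟩
      rw [hT]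
      apply Units.ext
      rw [Units.val_mul, Units.val_inv_eq_inv_val, hs]
      simp only [ν, Units.val_mk0]
      have hσν : σ (θ + (u : F) * σ θ) ≠ 0 := by
        intro h0
        apply hθ
        have := congrArg σ h0
        rwa [hσ2, map_zero] at this
      rw [← div_eq_mul_inv, div_eq_iff hσν, map_add, map_mul, hσ2]
      linear_combination (-θ) * hu'
  -- N.range ≤ S
  have hNrange : N.range ≤ S := by
    rintro _ ⟨u, rfl⟩
    rw [hS, hN, map_mul, hss, mul_comm]
  -- counting
  have c1 : Nat.card T.ker * Nat.card T.range = Nat.card Fˣ := by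
    rw [← Subgroup.index_ker, Subgroup.card_mul_index]
  have c2 : Nat.card N.ker * Nat.card N.range = Nat.card Fˣ := by
    rw [← Subgroup.index_ker, Subgroup.card_mul_index]
  rw [hTker, hTrange] at c1
  have hpos : 0 < Nat.card N.ker := Nat.card_pos
  have c3 : Nat.card S = Nat.card N.range := by
    have : Nat.card N.ker * Nat.card S = Nat.card N.ker * Nat.card N.range := by
      rw [mul_comm, c1, c2]
    exact Nat.eq_of_mul_eq_mul_left hpos this
  have hEq : N.range = S := Subgroup.eq_of_le_of_card_ge hNrange (le_of_eq c3)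
  have haS : Units.mk0 a ha ∈ S := by
    rw [hS]
    apply Units.ext
    rw [hs]
    exact hfix
  rw [← hEq] at haS
  obtain ⟨μ, hμ⟩ := haS
  refine ⟨(μ : F), ?_⟩
  have := congrArg Units.val hμ
  simpa [hN, hs] using this


/-- a nonzero conjugate-symmetric sesquilinear form has a non-isotropic vector -/
theorem exists_nonisotropic {F V : Type*} [Field F] [AddCommGroup V] [Module F V]
    (σ : F →+* F) (hσ : σ ≠ RingHom.id F) (B : V →ₛₗ[σ] V →ₗ[F] F) (hS : B.IsSymm)
    (hB : B.SeparatingLeft) [Nontrivial V] : ∃ x : V, B x x ≠ 0 := by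
  by_contra hcon
  push Not at hcon
  obtain ⟨lam, hlam⟩ : ∃ lam : F, σ lam ≠ lam := by
    by_contra h
    push Not at h
    apply hσ
    ext x
    exact h x
  have hzero : ∀ x y : V, B x y = 0 := by
    intro x y
    have h1 : ∀ x y : V, B x y + σ (B x y) = 0 := by
      intro x y
      have h := hcon (x + y)
      simp only [map_add, LinearMap.add_apply, hcon x, hcon y, zero_add, add_zero] at h
      rw [hS.eq x y]
      linear_combination h
    have h2 := h1 (lam • x) y
    rw [LinearMap.map_smulₛₗ, LinearMap.smul_apply, smul_eq_mul, map_mul] at h2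
    have h3 := h1 x y
    have h4 : (σ lam - σ (σ lam)) * B x y = 0 := by
      have : σ (B x y) = -B x y := by linear_combination h3
      rw [this] at h2
      linear_combination h2
    have h5 : σ lam - σ (σ lam) ≠ 0 := by
      intro h0
      apply hlam
      have h6 : σ lam = σ (σ lam) := sub_eq_zero.1 h0
      exact (σ.injective h6).symm
    exact (mul_eq_zero.1 h4).resolve_left h5
  obtain ⟨x, hx⟩ := exists_ne (0 : V)
  exact hx (hB x (fun y => hzero x y))

universe u

theorem herm_onb {F : Type*} [Field F] [Finite F] (σ : F →+* F) (hσ : σ ≠ RingHom.id F)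
    (hσ2 : ∀ a : F, σ (σ a) = a) :
    ∀ (d : ℕ) {V : Type u} [AddCommGroup V] [Module F V] [FiniteDimensional F V]
      (B : V →ₛₗ[σ] V →ₗ[F] F) (_ : B.IsSymm) (_ : B.Nondegenerate) (_ : finrank F V = d),
      ∃ b : Module.Basis (Fin d) F V, ∀ i j, B (b i) (b j) = if i = j then 1 else 0 := by
  intro d
  induction d with
  | zero =>
    intro V _ _ _ B hS hB hd
    exact ⟨basisOfFinrankZero hd, fun i => i.elim0⟩
  | succ d ih =>
    intro V _ _ _ B hS hB hd
    have : Nontrivial V := Module.nontrivial_of_finrank_pos (R := F) (by omega)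
    obtain ⟨x, hx⟩ := exists_nonisotropic σ hσ B hS hB.1
    have hfix : σ (B x x) = B x x := hS.eq x x
    have hfix' : σ (B x x)⁻¹ = (B x x)⁻¹ := by rw [map_inv₀, hfix]
    obtain ⟨μ, hμ⟩ := exists_sigma_norm_eq σ hσ hσ2 (B x x)⁻¹ (inv_ne_zero hx) hfix'
    obtain ⟨v, hv⟩ : ∃ v : V, v = μ • x := ⟨_, rfl⟩
    have hvv : B v v = 1 := by
      have e1 : B (μ • x) = σ μ • B x := LinearMap.map_smulₛₗ B μ x
      calc B v v = (σ μ • B x) (μ • x) := by rw [hv, e1]
        _ = σ μ * (μ * B x x) := by
          rw [LinearMap.smul_apply, map_smul, smul_eq_mul, smul_eq_mul]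
        _ = 1 := by rw [← mul_assoc, hμ, inv_mul_cancel₀ hx]
    set W := LinearMap.ker (B v) with hW
    have hWmem : ∀ w ∈ W, B v w = 0 := fun w hw => hw
    have hWmem' : ∀ w ∈ W, B w v = 0 := fun w hw => by
      rw [← hS.eq v w, hWmem w hw, map_zero]
    have hdecomp : ∀ z : V, z - (B v z) • v ∈ W := by
      intro z
      rw [hW, LinearMap.mem_ker, map_sub, map_smul, hvv]
      simp
    let B' := B.domRestrict₁₂ W W
    have hB' : B'.Nondegenerate := by
      constructor
      · intro w hw
        apply Subtype.ext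
        apply hB.1
        intro z
        have h1 : z = (z - B v z • v) + B v z • v := by abel
        rw [h1, map_add, map_smul, hWmem' w w.2, smul_zero, add_zero]
        exact hw ⟨_, hdecomp z⟩
      · intro w hw
        apply Subtype.ext
        apply hB.2
        intro z
        have h1 : z = (z - B v z • v) + B v z • v := by abel
        rw [h1, map_add, LinearMap.add_apply, LinearMap.map_smulₛₗ, LinearMap.smul_apply,
          hWmem w w.2, smul_zero, add_zero]
        exact hw ⟨_, hdecomp z⟩
    have hWdim : finrank F W = d := by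
      have h1 := LinearMap.finrank_range_add_finrank_ker (B v)
      have h2 : finrank F (LinearMap.range (B v)) = 1 := by
        have : LinearMap.range (B v) = ⊤ := by
          rw [LinearMap.range_eq_top]
          intro c
          exact ⟨c • v, by rw [map_smul, hvv]; simp⟩
        rw [this, finrank_top, finrank_self]
      rw [h2, hd, ← hW] at h1
      omega
    obtain ⟨b', hb'⟩ := ih B' (hS.domRestrict W) hB' hWdim
    let b := Module.Basis.mkFinCons v b'
      (by
        intro c w hw hc
        have h3 : B v (c • v + w) = 0 := by rw [hc, map_zero]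
        rw [map_add, map_smul, hvv, hWmem w hw, smul_eq_mul, mul_one, add_zero] at h3
        exact h3)
      (by
        intro z
        refine ⟨-B v z, ?_⟩
        have := hdecomp z
        rwa [sub_eq_add_neg, ← neg_smul] at this)
    have hbcoe : (b : Fin (d + 1) → V) = Fin.cons v ((↑) ∘ b') := Module.Basis.coe_mkFinCons _ _ _ _
    refine ⟨b, ?_⟩
    intro i j
    rw [hbcoe]
    refine Fin.cases ?_ (fun i => ?_) i <;> refine Fin.cases ?_ (fun j => ?_) j <;>
      simp only [Fin.cons_zero, Fin.cons_succ, Function.comp_apply]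
    · simpa using hvv
    · rw [hWmem _ (b' j).2]
      simp [(Fin.succ_ne_zero j).symm]
    · rw [hWmem' _ (b' i).2]
      simp [Fin.succ_ne_zero]
    · have := hb' i j
      simp only [B', LinearMap.domRestrict₁₂_apply] at this
      rw [this]
      simp [Fin.succ_inj]

end Cfsg.Agent.Lib.H12.UOnb
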