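import Mathlib
import Cfsg.Agent.Lib.H12.UnitJ
import Cfsg.Agent.Lib.H12.UnitOnb

/-!
# Every self-dual polynomial is realized in the unitary group (helper12)
-/

set_option autoImplicit false
set_option linter.unusedSectionVars false
open Polynomial

namespace Cfsg.Agent.Lib.H12.USemi

open Cfsg.Agent.Lib.H12.Semi

universe u
variable {F : Type u} [Field F] {σ : F →+* F}

/-- self-dual up to a constant -/
def SD (σ : F →+* F) (P : F[X]) : Prop := ∃ e : F, e ≠ 0 ∧ dualP σ P = C e * P

theorem SD.coeff_zero_ne {P : F[X]} (hP : P.Monic) (h : SD σ P) : P.coeff 0 ≠ 0 := by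
  obtain ⟨e, he, hd⟩ := h
  intro h0
  have h1 := dualP_coeff (σ := σ) P P.natDegree le_rfl
  rw [hd, coeff_C_mul, Nat.sub_self, h0, map_zero, hP.coeff_natDegree, mul_one] at h1
  exact he h1

theorem SD.of_mul {Q R : F[X]} (hQ0 : Q ≠ 0) (hQ : SD σ Q) (hQR : SD σ (Q * R)) : SD σ R := by
  obtain ⟨a, ha, hQd⟩ := hQ
  obtain ⟨b, hb, hQRd⟩ := hQR
  refine ⟨a⁻¹ * b, mul_ne_zero (inv_ne_zero ha) hb, ?_⟩
  rw [dualP_mul, hQd] at hQRd
  have h1 : Q * (C a * dualP σ R) = Q * (C b * R) := by
    calc Q * (C a * dualP σ R) = C a * Q * dualP σ R := by ring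
      _ = C b * (Q * R) := hQRd
      _ = Q * (C b * R) := by ring
  have h2 := mul_left_cancel₀ hQ0 h1
  calc dualP σ R = C a⁻¹ * (C a * dualP σ R) := by
        rw [← mul_assoc, ← C_mul, inv_mul_cancel₀ ha, C_1, one_mul]
    _ = C a⁻¹ * (C b * R) := by rw [h2]
    _ = C (a⁻¹ * b) * R := by rw [← mul_assoc, ← C_mul]

/-- every monic self-dual polynomial is the characteristic polynomial of an isometry -/
theorem realizable_of_SD (hσ2 : ∀ a, σ (σ a) = a) (hne : ∃ a, σ a ≠ a) :
    ∀ (d : ℕ) (P : F[X]), P.natDegree = d → P.Monic → SD σ P → Realizable σ P := by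
  intro d
  induction d using Nat.strong_induction_on with
  | _ d ih =>
    intro P hd hP hSD
    rcases Nat.eq_zero_or_pos d with h0 | hpos
    · have : P = 1 := Polynomial.eq_one_of_monic_natDegree_zero hP (hd.trans h0)
      rw [this]
      exact Realizable.one hσ2 hne
    · have hnu : ¬ IsUnit P := not_isUnit_of_natDegree_pos P (by rw [hd]; exact hpos)
      obtain ⟨π, hπm, hπi, hπd⟩ := exists_monic_irreducible_factor P hnu
      have hP0 := hSD.coeff_zero_ne hP
      obtain ⟨R, hR⟩ := hπd
      have hπ0 : π.coeff 0 ≠ 0 := by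
        intro h
        apply hP0
        rw [hR, mul_coeff_zero, h, zero_mul]
      have hπdeg : 0 < π.natDegree := hπi.natDegree_pos
      rcases dual_dichotomy (σ := σ) hπi hπm with hco | ⟨c, hc, hdual⟩
      · -- hyperbolic block
        obtain ⟨ρ, e, hρm, he, hρ, hreal⟩ := Realizable.hyp hσ2 hne hπm hπ0
        obtain ⟨eP, heP, hPd⟩ := hSD
        have h1 : dualP σ π ∣ dualP σ P := by
          rw [hR, dualP_mul]
          exact dvd_mul_right _ _
        have h2 : ρ ∣ P := by
          have h3 : ρ ∣ C eP * P := by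
            rw [← hPd]
            exact (Dvd.intro_left (C e) hρ.symm).trans h1
          exact (IsUnit.dvd_mul_left (isUnit_C.mpr (isUnit_iff_ne_zero.mpr heP))).mp h3
        have hcop : IsCoprime π ρ := by
          rw [hρ] at hco
          exact hco.of_mul_right_right
        have h3 : π * ρ ∣ P := hcop.mul_dvd (Dvd.intro _ hR.symm) h2
        obtain ⟨P', hP'⟩ := h3
        have hπρm : (π * ρ).Monic := hπm.mul hρm
        have hP'm : P'.Monic := by
          rw [hP'] at hP
          exact hπρm.of_mul_monic_left hP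
        have hSDπρ : SD σ (π * ρ) := by
          have h4 : dualP σ (dualP σ π) = π := dualP_dualP hσ2 hπ0
          rw [hρ, dualP_mul, dualP_C] at h4
          have hσe : σ e ≠ 0 := by
            intro h
            exact he ((map_eq_zero σ).mp h)
          have h5 : dualP σ ρ = C (σ e)⁻¹ * π := by
            rw [← h4, ← mul_assoc, ← C_mul, inv_mul_cancel₀ hσe, C_1, one_mul]
          refine ⟨e * (σ e)⁻¹, mul_ne_zero he (inv_ne_zero hσe), ?_⟩
          rw [dualP_mul, hρ, h5, C_mul]
          ring
        have hSDP' : SD σ P' := by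
          apply SD.of_mul hπρm.ne_zero hSDπρ
          rw [← hP']
          exact ⟨eP, heP, hPd⟩
        have hdeg : P'.natDegree < d := by
          rw [← hd, hP', hπρm.natDegree_mul hP'm, hπm.natDegree_mul hρm]
          omega
        rw [hP']
        exact hreal.mul (ih _ hdeg P' rfl hP'm hSDP')
      · -- field block
        haveI : Fact (Irreducible π) := ⟨hπi⟩
        have hsd : SelfDual σ π c := ⟨hσ2, hne, hπm, hc, hdual⟩
        have hRm : R.Monic := by
          rw [hR] at hP
          exact hπm.of_mul_monic_left hP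
        have hSDR : SD σ R := by
          apply SD.of_mul hπm.ne_zero ⟨c, hc, hdual⟩
          rw [← hR]
          exact hSD
        have hdeg : R.natDegree < d := by
          rw [← hd, hR, hπm.natDegree_mul hRm]
          omega
        rw [hR]
        exact (Realizable.of_selfDual hsd).mul (ih _ hdeg R rfl hRm hSDR)

/-- transport a realization to the standard hermitian space -/
theorem Realizable.exists_matrix [Finite F] (hσ2 : ∀ a, σ (σ a) = a) (hne : ∃ a, σ a ≠ a)
    {P : F[X]} {n : ℕ} (hn : P.natDegree = n) (h : Realizable σ P) :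
    ∃ A : Matrix (Fin n) (Fin n) F,
      (∀ u v, stdHerm n σ (A.mulVec u) (A.mulVec v) = stdHerm n σ u v) ∧ A.charpoly = P := by
  classical
  obtain ⟨V, _, _, _, B, g, hU, rfl⟩ := h
  have hfin : Module.finrank F V = n := by rw [← hn, LinearMap.charpoly_natDegree]
  have hσne : σ ≠ RingHom.id F := by
    obtain ⟨a, ha⟩ := hne
    intro h
    apply ha
    rw [h, RingHom.id_apply]
  have hS : B.IsSymm := ⟨fun x y => hU.symm x y⟩
  have hN : B.Nondegenerate := ⟨fun x hx => hU.nd_left x hx, fun y hy => hU.nd y hy⟩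
  obtain ⟨b, hb⟩ := Cfsg.Agent.Lib.H12.UOnb.herm_onb σ hσne hσ2 n B hS hN hfin
  have h1 : ∀ (c : Fin n → F) (w : V), B (∑ i, c i • b i) w = ∑ i, σ (c i) * B (b i) w := by
    intro c w
    rw [map_sum, LinearMap.sum_apply]
    apply Finset.sum_congr rfl
    intro i _
    rw [map_smulₛₗ, LinearMap.smul_apply, smul_eq_mul]
  have h2 : ∀ (i : Fin n) (c : Fin n → F), B (b i) (∑ j, c j • b j) = c i := by
    intro i c
    rw [map_sum, Finset.sum_eq_single i]
    · rw [map_smul, hb, if_pos rfl, smul_eq_mul, mul_one]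
    · intro j _ hj
      rw [map_smul, hb, if_neg (Ne.symm hj), smul_zero]
    · intro hi
      exact absurd (Finset.mem_univ i) hi
  have hB : ∀ x y : V, B x y = stdHerm n σ (b.equivFun x) (b.equivFun y) := by
    intro x y
    conv_lhs => rw [← b.sum_equivFun x, ← b.sum_equivFun y]
    rw [h1, stdHerm_apply]
    apply Finset.sum_congr rfl
    intro i _
    rw [h2]
  refine ⟨LinearMap.toMatrix b b g, ?_, LinearMap.charpoly_toMatrix g b⟩
  intro u v
  have hu : ∃ x : V, b.equivFun x = u := ⟨b.equivFun.symm u, LinearEquiv.apply_symm_apply _ _⟩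
  have hv : ∃ y : V, b.equivFun y = v := ⟨b.equivFun.symm v, LinearEquiv.apply_symm_apply _ _⟩
  obtain ⟨x, rfl⟩ := hu
  obtain ⟨y, rfl⟩ := hv
  have e1 : ∀ z : V, (LinearMap.toMatrix b b g).mulVec (b.equivFun z) = b.equivFun (g z) := by
    intro z
    have := LinearMap.toMatrix_mulVec_repr b b g z
    funext i
    have h2 := congrFun this i
    simpa using h2
  rw [e1, e1, ← hB, ← hB, hU.iso]

end Cfsg.Agent.Lib.H12.USemi
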