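import Mathlib
import Cfsg.Agent.Lib.H12.UnitK
import Cfsg.Agent.Lib.H12.SemiF

/-!
# The number of classes of elements of order prime to `p` in `SU_n(q)` (helper12)
-/

set_option autoImplicit false
set_option linter.unusedSectionVars false
open Polynomial

namespace Cfsg.Agent.Lib.H12.USemi

open Cfsg.Agent.Lib.H12.Semi

universe u
variable {F : Type u} [Field F] {σ : F →+* F}

theorem sigma_transpose_mul (n : ℕ) (σ : F →+* F) (A : Matrix (Fin n) (Fin n) F)
    (hA : ∀ u v : Fin n → F, stdHerm n σ (A.mulVec u) (A.mulVec v) = stdHerm n σ u v) :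
    (A.map σ).transpose * A = 1 := by
  classical
  ext i j
  have := hA (Pi.single i 1) (Pi.single j 1)
  rw [stdHerm_apply, stdHerm_apply] at this
  rw [Matrix.mul_apply, Matrix.one_apply]
  simp only [Matrix.mulVec_single_one, Matrix.transpose_apply, Matrix.map_apply,
    Matrix.col_apply] at this ⊢
  rw [this, Finset.sum_eq_single i]
  · rw [Pi.single_eq_same, map_one, one_mul, Pi.single_apply]
  · intro k _ hk
    rw [Pi.single_eq_of_ne hk, map_zero, zero_mul]
  · intro hi
    exact absurd (Finset.mem_univ i) hi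

/-- the characteristic polynomial of a unitary matrix is self-dual -/
theorem dualP_charpoly_of_preserve (n : ℕ) (A : Matrix (Fin n) (Fin n) F)
    (hA : ∀ u v : Fin n → F, stdHerm n σ (A.mulVec u) (A.mulVec v) = stdHerm n σ u v) :
    dualP σ A.charpoly = C (σ A.det * (-1) ^ n) * A.charpoly := by
  have hprod := sigma_transpose_mul n σ A hA
  have h := charpoly_reverse_of_mul_eq_one _ _ hprod
  rw [Matrix.charpoly_transpose, Matrix.charpoly_map, Matrix.det_transpose] at h
  have h3 : (A.map σ).det = σ A.det := by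
    have := (RingHom.map_det σ A).symm
    rw [RingHom.mapMatrix_apply] at this
    exact this
  rw [h3] at h
  exact h

/-- fixed points of a semilinear involution: `|Fix| ^ 2 = |W|` -/
theorem card_fix_sq {W : Type*} [AddCommGroup W] [Module F W] [Finite W]
    (θ : F) (hθ : σ θ ≠ θ) (Θ : W → W) (hadd : ∀ a b, Θ (a + b) = Θ a + Θ b)
    (hsmul : ∀ (c : F) (w : W), Θ (c • w) = σ c • Θ w) (hinv : ∀ w, Θ (Θ w) = w) :
    Nat.card {w : W // Θ w = w} ^ 2 = Nat.card W := by
  let T : W →+ W := AddMonoidHom.mk' Θ hadd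
  have hT : ∀ w, T w = Θ w := fun w => rfl
  have hθ' : θ - σ θ ≠ 0 := fun h => hθ (sub_eq_zero.mp h).symm
  apply le_antisymm
  · -- Fix × Fix ↪ W
    rw [sq, ← Nat.card_prod]
    apply Nat.card_le_card_of_injective
      (fun ab : {w : W // Θ w = w} × {w : W // Θ w = w} => ab.1.1 + θ • ab.2.1)
    rintro ⟨⟨a, ha⟩, ⟨b, hb⟩⟩ ⟨⟨a', ha'⟩, ⟨b', hb'⟩⟩ h
    simp only at h
    have h2 := congrArg Θ h
    rw [hadd, hadd, hsmul, hsmul, ha, ha', hb, hb'] at h2
    have h3 : (θ - σ θ) • (b - b') = 0 := by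
      rw [sub_smul, smul_sub, smul_sub]
      have e1 : θ • b - θ • b' = a' - a := by
        rw [sub_eq_sub_iff_add_eq_add, add_comm (θ • b) a, h, add_comm]
      have e2 : σ θ • b - σ θ • b' = a' - a := by
        rw [sub_eq_sub_iff_add_eq_add, add_comm (σ θ • b) a, h2, add_comm]
      rw [e1, e2, sub_self]
    have h4 : b = b' := sub_eq_zero.mp ((smul_eq_zero.mp h3).resolve_left hθ')
    subst h4
    have h5 : a = a' := add_right_cancel h
    subst h5
    rfl
  · -- W ↪ Fix × Fix
    rw [sq, ← Nat.card_prod]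
    apply Nat.card_le_card_of_injective
      (fun w : W => ((⟨w + Θ w, by rw [hadd, hinv, add_comm]⟩ : {w : W // Θ w = w}),
        (⟨θ • w + Θ (θ • w), by rw [hadd, hinv, add_comm]⟩ : {w : W // Θ w = w})))
    intro w w' h
    have h1 : w + Θ w = w' + Θ w' := congrArg (fun x => x.1.1) h
    have h2 : θ • w + Θ (θ • w) = θ • w' + Θ (θ • w') := congrArg (fun x => x.2.1) h
    rw [hsmul, hsmul] at h2
    set d := w - w' with hd
    have hd1 : d + Θ d = 0 := by
      rw [hd, ← hT, map_sub, hT, hT]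
      have : w - w' + (Θ w - Θ w') = (w + Θ w) - (w' + Θ w') := by abel
      rw [this, h1, sub_self]
    have hd2 : θ • d + σ θ • Θ d = 0 := by
      rw [hd, ← hT, map_sub, hT, hT, smul_sub, smul_sub]
      have : θ • w - θ • w' + (σ θ • Θ w - σ θ • Θ w') =
          (θ • w + σ θ • Θ w) - (θ • w' + σ θ • Θ w') := by abel
      rw [this, h2, sub_self]
    have hd3 : Θ d = -d := by
      rw [eq_neg_iff_add_eq_zero, add_comm]
      exact hd1
    rw [hd3, smul_neg, ← sub_eq_add_neg, ← sub_smul] at hd2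
    have hd4 : d = 0 := (smul_eq_zero.mp hd2).resolve_left hθ'
    exact sub_eq_zero.mp hd4

/-- the semilinear involution whose fixed points parametrize the self-dual polynomials -/
def theta (m : ℕ) (σ : F →+* F) (s : Fin m → F) : Fin m → F :=
  fun i => (-1) ^ (m + 1) * σ (s (Fin.rev i))

theorem sigma_eps (k : ℕ) : σ ((-1) ^ k) = (-1) ^ k := by
  rw [map_pow, map_neg, map_one]

theorem card_fix_theta [Fintype F] {q : ℕ} (hF : Fintype.card F = q ^ 2)
    (hσ2 : ∀ a, σ (σ a) = a) (hne : ∃ a, σ a ≠ a) (m : ℕ) :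
    Nat.card {s : Fin m → F // theta m σ s = s} = q ^ m := by
  obtain ⟨θ, hθ⟩ := hne
  have h1 := card_fix_sq (σ := σ) (W := Fin m → F) θ hθ (theta m σ)
    (by
      intro a b
      funext i
      simp only [theta, Pi.add_apply, map_add, mul_add])
    (by
      intro c w
      funext i
      simp only [theta, Pi.smul_apply, smul_eq_mul, map_mul]
      ring)
    (by
      intro w
      funext i
      simp only [theta, map_mul, sigma_eps, hσ2, Fin.rev_rev]
      rw [← mul_assoc, neg_one_pow_mul_self, one_mul])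
  have h2 : Nat.card (Fin m → F) = (q ^ m) ^ 2 := by
    rw [Nat.card_eq_fintype_card, Fintype.card_fun, Fintype.card_fin, hF, ← pow_mul, ← pow_mul,
      mul_comm]
  rw [h2] at h1
  exact Nat.pow_left_injective (by norm_num : 2 ≠ 0) h1

/-- the monic polynomial of degree `m + 1` with constant term `(-1)^(m+1)` and middle
coefficients `s` -/
noncomputable def polyS {m : ℕ} (s : Fin m → F) : F[X] :=
  polyOf (Fin.cons ((-1) ^ (m + 1)) s : Fin (m + 1) → F)

theorem polyS_monic {m : ℕ} (s : Fin m → F) : (polyS s).Monic := polyOf_monic _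

theorem polyS_natDegree {m : ℕ} (s : Fin m → F) : (polyS s).natDegree = m + 1 :=
  polyOf_natDegree _

theorem polyS_coeff_zero {m : ℕ} (s : Fin m → F) : (polyS s).coeff 0 = (-1) ^ (m + 1) := by
  have := polyOf_coeff (Fin.cons ((-1) ^ (m + 1)) s : Fin (m + 1) → F) 0
  rwa [Fin.val_zero, Fin.cons_zero] at this

theorem polyS_coeff_succ {m : ℕ} (s : Fin m → F) (i : Fin m) :
    (polyS s).coeff ((i : ℕ) + 1) = s i := by
  have := polyOf_coeff (Fin.cons ((-1) ^ (m + 1)) s : Fin (m + 1) → F) i.succ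
  rwa [Fin.val_succ, Fin.cons_succ] at this

theorem polyS_injective {m : ℕ} : Function.Injective (polyS : (Fin m → F) → F[X]) := by
  intro s t h
  funext i
  rw [← polyS_coeff_succ s i, h, polyS_coeff_succ]

theorem polyS_SD {m : ℕ} (s : Fin m → F) (hs : theta m σ s = s) : SD σ (polyS s) := by
  refine ⟨(-1) ^ (m + 1), pow_ne_zero _ (by norm_num), ?_⟩
  ext j
  have hdeg := polyS_natDegree s
  have hcases : j = 0 ∨ (∃ i : Fin m, j = (i : ℕ) + 1) ∨ j = m + 1 ∨ m + 1 < j := by
    rcases Nat.eq_zero_or_pos j with h | h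
    · exact Or.inl h
    · rcases lt_trichotomy j (m + 1) with h1 | h1 | h1
      · exact Or.inr (Or.inl ⟨⟨j - 1, by omega⟩, by simp only; omega⟩)
      · exact Or.inr (Or.inr (Or.inl h1))
      · exact Or.inr (Or.inr (Or.inr h1))
  rcases hcases with rfl | ⟨i, rfl⟩ | rfl | hj
  · rw [dualP_coeff _ 0 (Nat.zero_le _), Nat.sub_zero, (polyS_monic s).coeff_natDegree, map_one,
      coeff_C_mul, polyS_coeff_zero, neg_one_pow_mul_self]
  · have hi : (i : ℕ) + 1 ≤ (polyS s).natDegree := by rw [hdeg]; omega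
    rw [dualP_coeff _ _ hi, coeff_C_mul, polyS_coeff_succ, hdeg]
    have e1 : m + 1 - ((i : ℕ) + 1) = ((Fin.rev i : Fin m) : ℕ) + 1 := by
      rw [Fin.val_rev]; omega
    rw [e1, polyS_coeff_succ]
    have h1 := congrFun hs i
    simp only [theta] at h1
    rw [← h1, ← mul_assoc, neg_one_pow_mul_self, one_mul]
  · have hi : m + 1 ≤ (polyS s).natDegree := by rw [hdeg]
    rw [dualP_coeff _ _ hi, coeff_C_mul, hdeg, Nat.sub_self, polyS_coeff_zero, sigma_eps]
    have := (polyS_monic s).coeff_natDegree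
    rw [hdeg] at this
    rw [this, mul_one]
  · have h1 : (dualP σ (polyS s)).coeff j = 0 := by
      apply coeff_eq_zero_of_natDegree_lt
      have h3 : (dualP σ (polyS s)).natDegree ≤ (polyS s).natDegree := dualP_natDegree_le _
      rw [hdeg] at h3
      omega
    have h2 : (polyS s).coeff j = 0 :=
      coeff_eq_zero_of_natDegree_lt (by rw [hdeg]; exact hj)
    rw [h1, coeff_C_mul, h2, mul_zero]

/-- the middle coefficients of the characteristic polynomial of a unitary matrix of
determinant one -/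
theorem charpoly_eq_polyS (m : ℕ) (A : Matrix (Fin (m + 1)) (Fin (m + 1)) F)
    (hσ2 : ∀ a, σ (σ a) = a)
    (hA : ∀ u v : Fin (m + 1) → F,
      stdHerm (m + 1) σ (A.mulVec u) (A.mulVec v) = stdHerm (m + 1) σ u v)
    (hdet : A.det = 1) :
    theta m σ (fun i : Fin m => A.charpoly.coeff ((i : ℕ) + 1)) =
        (fun i : Fin m => A.charpoly.coeff ((i : ℕ) + 1)) ∧
      polyS (fun i : Fin m => A.charpoly.coeff ((i : ℕ) + 1)) = A.charpoly := by
  have hd := dualP_charpoly_of_preserve (σ := σ) (m + 1) A hA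
  rw [hdet, map_one, one_mul] at hd
  have hdeg : A.charpoly.natDegree = m + 1 := by
    rw [Matrix.charpoly_natDegree_eq_dim, Fintype.card_fin]
  have h0 : A.charpoly.coeff 0 = (-1) ^ (m + 1) := by
    have h1 := Matrix.det_eq_sign_charpoly_coeff A
    rw [hdet, Fintype.card_fin] at h1
    calc A.charpoly.coeff 0
        = ((-1 : F) ^ (m + 1) * (-1 : F) ^ (m + 1)) * A.charpoly.coeff 0 := by
          rw [neg_one_pow_mul_self, one_mul]
      _ = (-1 : F) ^ (m + 1) * 1 := by rw [mul_assoc, ← h1]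
      _ = (-1) ^ (m + 1) := mul_one _
  constructor
  · funext i
    simp only [theta]
    have hi : ((Fin.rev i : Fin m) : ℕ) + 1 ≤ A.charpoly.natDegree := by
      rw [hdeg]; omega
    have h1 := dualP_coeff (σ := σ) A.charpoly _ hi
    rw [hd, coeff_C_mul, hdeg] at h1
    have e1 : m + 1 - (((Fin.rev i : Fin m) : ℕ) + 1) = (i : ℕ) + 1 := by
      rw [Fin.val_rev]; omega
    rw [e1] at h1
    have h2 := congrArg σ h1
    rw [hσ2, map_mul, sigma_eps] at h2
    exact h2
  · have hQ := polyOf_coeffs A.charpoly (Matrix.charpoly_monic A) hdeg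
    conv_rhs => rw [← hQ]
    unfold polyS
    congr 1
    funext i
    refine Fin.cases ?_ (fun j => ?_) i
    · rw [Fin.cons_zero, Fin.val_zero, h0]
    · rw [Fin.cons_succ, Fin.val_succ]

end Cfsg.Agent.Lib.H12.USemi
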