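import Mathlib
import Cfsg.Agent.Lib.H12.UnitL

/-!
# `SU_n(q)` has `q^(n-1)` classes of elements of order prime to `p` (helper12)
-/

set_option autoImplicit false
set_option linter.unusedSectionVars false
open Polynomial

namespace Cfsg.Agent.Lib.H12.USemi

open Cfsg.Agent.Lib.H12.Semi

universe u
variable {F : Type u} [Field F] [Fintype F]

/-- every self-dual polynomial with the right constant term is the characteristic polynomial of an
element of `SU_n(q)` of order prime to `p` -/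
theorem exists_SU_charpoly_eq {q : ℕ} (hF : Fintype.card F = q ^ 2) (p : ℕ) [Fact p.Prime]
    [CharP F p] (σ : F →+* F) (hσ : ∀ x, σ x = x ^ q) (hσ2 : ∀ a, σ (σ a) = a)
    (hne : ∃ a, σ a ≠ a) (m : ℕ) (s : Fin m → F) (hs : theta m σ s = s) :
    ∃ g : ↥(Cfsg.SU (m + 1) F q), (orderOf g).Coprime p ∧
      ((g : Matrix.SpecialLinearGroup (Fin (m + 1)) F) :
        Matrix (Fin (m + 1)) (Fin (m + 1)) F).charpoly = polyS s := by
  classical
  have hreal := realizable_of_SD hσ2 hne (m + 1) (polyS s) (polyS_natDegree s) (polyS_monic s)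
    (polyS_SD s hs)
  obtain ⟨A, hA, hAch⟩ := hreal.exists_matrix hσ2 hne (polyS_natDegree s)
  have hdet : A.det = 1 := by
    rw [Matrix.det_eq_sign_charpoly_coeff, hAch, polyS_coeff_zero, Fintype.card_fin,
      neg_one_pow_mul_self]
  have hpres : ∀ u v : Fin (m + 1) → F,
      Cfsg.hermForm (m + 1) F q (A.mulVec u) (A.mulVec v) = Cfsg.hermForm (m + 1) F q u v := by
    intro u v
    rw [← stdHerm_eq_hermForm (m + 1) σ q hσ, ← stdHerm_eq_hermForm (m + 1) σ q hσ]
    exact hA v u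
  set g0 : ↥(Cfsg.SU (m + 1) F q) := ⟨⟨A, hdet⟩, hpres⟩ with hg0
  have hg0v : ((g0 : Matrix.SpecialLinearGroup (Fin (m + 1)) F) :
      Matrix (Fin (m + 1)) (Fin (m + 1)) F) = A := rfl
  have hp : p.Prime := Fact.out
  have hN : orderOf g0 ≠ 0 := (orderOf_pos g0).ne'
  obtain ⟨a, k, hk, hNk⟩ := Nat.exists_eq_pow_mul_and_not_dvd hN p hp.ne_one
  have hpq : p ∣ Fintype.card F := by
    obtain ⟨j, -, hj⟩ := FiniteField.card F p
    rw [hj]
    exact dvd_pow_self p j.ne_zero
  refine ⟨g0 ^ (Fintype.card F ^ a), ?_, ?_⟩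
  · have h1 : (g0 ^ (Fintype.card F ^ a)) ^ k = 1 := by
      rw [← pow_mul]
      apply orderOf_dvd_iff_pow_eq_one.mp
      rw [hNk]
      exact Nat.mul_dvd_mul (pow_dvd_pow_of_dvd hpq a) dvd_rfl
    have h2 : orderOf (g0 ^ (Fintype.card F ^ a)) ∣ k := orderOf_dvd_of_pow_eq_one h1
    have h3 : Nat.Coprime k p := ((Nat.Prime.coprime_iff_not_dvd hp).mpr hk).symm
    exact Nat.Coprime.coprime_dvd_left h2 h3
  · rw [SubgroupClass.coe_pow, Matrix.SpecialLinearGroup.coe_pow, charpoly_pow_card_pow, hg0v,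
      hAch]

theorem charpoly_eq_of_isConj_SU {q n : ℕ} {g h : ↥(Cfsg.SU n F q)} (hc : IsConj g h) :
    ((g : Matrix.SpecialLinearGroup (Fin n) F) : Matrix (Fin n) (Fin n) F).charpoly =
      ((h : Matrix.SpecialLinearGroup (Fin n) F) : Matrix (Fin n) (Fin n) F).charpoly := by
  classical
  have h1 := (Cfsg.SU n F q).subtype.map_isConj hc
  have h2 := charpoly_eq_of_isConj ((Matrix.SpecialLinearGroup.toGL
    (n := Fin n) (R := F)).map_isConj h1)
  rw [Matrix.SpecialLinearGroup.coe_GL_coe_matrix, Matrix.SpecialLinearGroup.coe_GL_coe_matrix]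
    at h2
  exact h2

theorem card_semisimple_classes_SU {q : ℕ} (hF : Fintype.card F = q ^ 2) (p : ℕ) [Fact p.Prime]
    [CharP F p] (n : ℕ) (hn : 1 ≤ n) :
    Nat.card {c : ConjClasses ↥(Cfsg.SU n F q) //
      ∃ g : ↥(Cfsg.SU n F q), ConjClasses.mk g = c ∧ (orderOf g).Coprime p} = q ^ (n - 1) := by
  classical
  obtain ⟨m, rfl⟩ : ∃ m, n = m + 1 := ⟨n - 1, by omega⟩
  rw [Nat.add_sub_cancel]
  obtain ⟨σ, hσ, hσ2⟩ := Cfsg.Agent.Lib.H4.exists_frob hF
  have hne : ∃ a, σ a ≠ a := by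
    obtain ⟨a, ha⟩ := frob_ne_id hF
    exact ⟨a, by rw [hσ]; exact ha⟩
  have hex : ∀ s : {s : Fin m → F // theta m σ s = s},
      ∃ g : ↥(Cfsg.SU (m + 1) F q), (orderOf g).Coprime p ∧
        ((g : Matrix.SpecialLinearGroup (Fin (m + 1)) F) :
          Matrix (Fin (m + 1)) (Fin (m + 1)) F).charpoly = polyS s.1 :=
    fun s => exists_SU_charpoly_eq hF p σ hσ hσ2 hne m s.1 s.2
  choose G hG1 hG2 using hex
  have hbij : Function.Bijective
      (fun s : {s : Fin m → F // theta m σ s = s} =>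
        (⟨ConjClasses.mk (G s), G s, rfl, hG1 s⟩ :
          {c : ConjClasses ↥(Cfsg.SU (m + 1) F q) //
            ∃ g : ↥(Cfsg.SU (m + 1) F q), ConjClasses.mk g = c ∧ (orderOf g).Coprime p})) := by
    constructor
    · intro s t hst
      have h1 : ConjClasses.mk (G s) = ConjClasses.mk (G t) := congrArg Subtype.val hst
      have h2 := charpoly_eq_of_isConj_SU (ConjClasses.mk_eq_mk_iff_isConj.mp h1)
      rw [hG2, hG2] at h2
      exact Subtype.ext (polyS_injective h2)
    · rintro ⟨c, g, rfl, hg⟩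
      set A : Matrix (Fin (m + 1)) (Fin (m + 1)) F :=
        ((g : Matrix.SpecialLinearGroup (Fin (m + 1)) F) :
          Matrix (Fin (m + 1)) (Fin (m + 1)) F) with hA
      have hpres : ∀ u v : Fin (m + 1) → F,
          stdHerm (m + 1) σ (A.mulVec u) (A.mulVec v) = stdHerm (m + 1) σ u v := by
        intro u v
        rw [stdHerm_eq_hermForm (m + 1) σ q hσ, stdHerm_eq_hermForm (m + 1) σ q hσ]
        exact g.2 v u
      have hdet : A.det = 1 := (g : Matrix.SpecialLinearGroup (Fin (m + 1)) F).2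
      obtain ⟨hfix, hpoly⟩ := charpoly_eq_polyS m A hσ2 hpres hdet
      refine ⟨⟨fun i : Fin m => A.charpoly.coeff ((i : ℕ) + 1), hfix⟩, ?_⟩
      apply Subtype.ext
      show ConjClasses.mk (G _) = ConjClasses.mk g
      rw [ConjClasses.mk_eq_mk_iff_isConj]
      apply isConj_SU_of_charpoly_eq hF p (m + 1) _ _ (hG1 _) hg
      rw [hG2, hpoly]
  rw [← Nat.card_eq_of_bijective _ hbij]
  exact card_fix_theta hF hσ2 hne m

end Cfsg.Agent.Lib.H12.USemi
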