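import Mathlib
import Cfsg.Agent.Lib.H12.SpOrdA
import Cfsg.Agent.Lib.H12.UnitM
import Cfsg.Agent.Lib.H11.HermNorm4

/-!
# Elements of prime order `r` in `GU_n(q)` and their characteristic polynomials (helper12)
-/

set_option autoImplicit false
open Polynomial

namespace Cfsg.Agent.Lib.H12.GUOrd

open Cfsg.Agent.Lib.H12.Semi Cfsg.Agent.Lib.H12.USemi Cfsg.Agent.Lib.H12.SpOrd

universe u
variable {F : Type u} [Field F]

theorem charpoly_dvd_of_pow_eq_one (n : ℕ) (A : Matrix (Fin n) (Fin n) F)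
    (hss : Module.End.IsSemisimple (Matrix.toLin' A)) (r : ℕ) (hA : A ^ r = 1) :
    A.charpoly ∣ (X ^ r - 1) ^ n := by
  have hdeg : A.charpoly.natDegree = n := by
    rw [Matrix.charpoly_natDegree_eq_dim, Fintype.card_fin]
  apply dvd_pow_natDegree_of_irreducible_dvd _ _ _ hdeg (Matrix.charpoly_monic _).ne_zero
  intro ρ hρ hdvd
  rw [← Matrix.charpoly_toLin'] at hdvd
  obtain ⟨w, hw0, hw⟩ := exists_ne_zero_of_dvd_charpoly _ _ _ rfl hss ρ hρ hdvd
  by_contra hnd
  have hcop : IsCoprime ρ (X ^ r - 1) := (hρ.coprime_iff_not_dvd).mpr hnd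
  obtain ⟨a, b, hab⟩ := hcop
  have h1 : aeval (Matrix.toLin' A) (X ^ r - 1 : F[X]) = 0 := by
    rw [map_sub, map_pow, aeval_X, map_one, ← toLin'_pow_eq, hA, Matrix.toLin'_one]
    exact sub_self _
  have h3 := congrArg (fun f => aeval (Matrix.toLin' A) f w) hab
  simp only [map_add, map_mul, map_one, h1, mul_zero, add_zero, Module.End.mul_apply,
    Module.End.one_apply, hw, map_zero] at h3
  exact hw0 h3.symm

theorem aeval_eq_zero_of_charpoly_dvd (n : ℕ) (A : Matrix (Fin n) (Fin n) F)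
    (hss : Module.End.IsSemisimple (Matrix.toLin' A))
    (Q : F[X]) (N : ℕ) (hN : N ≠ 0) (hdvd : A.charpoly ∣ Q ^ N) : aeval A Q = 0 := by
  have hsq : Squarefree (minpoly F (Matrix.toLin' A)) := hss.minpoly_squarefree
  rw [Matrix.minpoly_toLin'] at hsq
  have h1 : minpoly F A ∣ Q ^ N := (Matrix.minpoly_dvd_charpoly _).trans hdvd
  have h2 : minpoly F A ∣ Q := (hsq.dvd_pow_iff_dvd hN).mp h1
  exact (minpoly.dvd_iff).mp h2

theorem eq_one_of_charpoly_eq (n : ℕ) (A : Matrix (Fin n) (Fin n) F)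
    (hss : Module.End.IsSemisimple (Matrix.toLin' A))
    (hc : A.charpoly = (X - 1) ^ n) : A = 1 := by
  rcases Nat.eq_zero_or_pos n with hn | hn
  · subst hn
    apply Matrix.ext
    intro i
    exact i.elim0
  · have h1 := aeval_eq_zero_of_charpoly_dvd n A hss (X - 1) n (by omega) (by rw [hc])
    rw [map_sub, aeval_X, map_one, sub_eq_zero] at h1
    exact h1

variable {q n : ℕ}

/-- the matrix of an element of `GU_n(q)` -/
abbrev mat (g : ↥(Cfsg.GU n F q)) : Matrix (Fin n) (Fin n) F :=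
  ((g : Matrix.GeneralLinearGroup (Fin n) F) : Matrix (Fin n) (Fin n) F)

theorem mat_pow (g : ↥(Cfsg.GU n F q)) (k : ℕ) : mat (g ^ k) = mat g ^ k := by
  unfold mat
  rw [SubgroupClass.coe_pow, Units.val_pow_eq_pow_val]

theorem mat_one : mat (1 : ↥(Cfsg.GU n F q)) = 1 := rfl

theorem mat_injective : Function.Injective (mat : ↥(Cfsg.GU n F q) → Matrix (Fin n) (Fin n) F) := by
  intro g h hgh
  exact Subtype.ext (Units.ext hgh)

theorem pow_eq_one_iff (g : ↥(Cfsg.GU n F q)) (k : ℕ) : g ^ k = 1 ↔ mat g ^ k = 1 := by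
  rw [← mat_pow, ← mat_one (F := F) (q := q) (n := n)]
  exact mat_injective.eq_iff.symm

theorem preserve_stdHerm (σ : F →+* F) (hσ : ∀ x, σ x = x ^ q) (g : ↥(Cfsg.GU n F q))
    (u v : Fin n → F) :
    stdHerm n σ ((mat g).mulVec u) ((mat g).mulVec v) = stdHerm n σ u v := by
  rw [stdHerm_eq_hermForm n σ q hσ, stdHerm_eq_hermForm n σ q hσ]
  exact g.2 v u

theorem det_ne_zero (g : ↥(Cfsg.GU n F q)) : (mat g).det ≠ 0 :=
  ((Matrix.isUnit_iff_isUnit_det _).mp (Units.isUnit (g : Matrix.GeneralLinearGroup (Fin n) F))).ne_zero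

theorem SD_charpoly (σ : F →+* F) (hσ : ∀ x, σ x = x ^ q) (g : ↥(Cfsg.GU n F q)) :
    SD σ (mat g).charpoly := by
  refine ⟨σ (mat g).det * (-1) ^ n, ?_, dualP_charpoly_of_preserve n (mat g)
    (preserve_stdHerm σ hσ g)⟩
  apply mul_ne_zero
  · rw [Ne, map_eq_zero]
    exact det_ne_zero g
  · exact pow_ne_zero _ (neg_ne_zero.mpr one_ne_zero)

theorem charpoly_eq_of_isConj_GU {g h : ↥(Cfsg.GU n F q)} (hc : IsConj g h) :
    (mat g).charpoly = (mat h).charpoly :=
  charpoly_eq_of_isConj ((Cfsg.GU n F q).subtype.map_isConj hc)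

theorem isSemisimple_of_orderOf_coprime (p : ℕ) [Fact p.Prime] [CharP F p]
    (g : ↥(Cfsg.GU n F q)) (hg : (orderOf g).Coprime p) :
    Module.End.IsSemisimple (Matrix.toLin' (mat g)) := by
  apply isSemisimple_toLin'_of_orderOf_coprime p (g : Matrix.GeneralLinearGroup (Fin n) F)
  rw [Subgroup.orderOf_coe]
  exact hg

theorem isConj_of_charpoly_eq [Fintype F] (hF : Fintype.card F = q ^ 2) (p : ℕ) [Fact p.Prime]
    [CharP F p] (g h : ↥(Cfsg.GU n F q)) (hg : (orderOf g).Coprime p)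
    (hh : (orderOf h).Coprime p) (hc : (mat g).charpoly = (mat h).charpoly) : IsConj g h := by
  apply Cfsg.Agent.Lib.H11.HermNorm.isConj_GU_of_isConj_GL hF
  exact isConj_GL_of_charpoly_eq _ _ (isSemisimple_of_orderOf_coprime p g hg)
    (isSemisimple_of_orderOf_coprime p h hh) hc

end Cfsg.Agent.Lib.H12.GUOrd
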