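import Mathlib
import Cfsg.Agent.Lib.H12.GUOrdA

/-!
# Classes of elements of prime order `r` in `GU_n(q)` via characteristic polynomials (helper12)
-/

set_option autoImplicit false
open Polynomial

namespace Cfsg.Agent.Lib.H12.GUOrd

open Cfsg.Agent.Lib.H12.Semi Cfsg.Agent.Lib.H12.USemi Cfsg.Agent.Lib.H12.SpOrd

universe u
variable {F : Type u} [Field F] [Fintype F] {q : ℕ}

/-- every monic self-dual polynomial of degree `n` is the characteristic polynomial of an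
element of `GU_n(q)` of order prime to `p` -/
theorem exists_GU_charpoly_eq (hF : Fintype.card F = q ^ 2) (p : ℕ) [Fact p.Prime]
    [CharP F p] (σ : F →+* F) (hσ : ∀ x, σ x = x ^ q) (hσ2 : ∀ a, σ (σ a) = a)
    (hne : ∃ a, σ a ≠ a) (n : ℕ) (P : F[X]) (hm : P.Monic) (hd : P.natDegree = n)
    (hsd : SD σ P) :
    ∃ g : ↥(Cfsg.GU n F q), (orderOf g).Coprime p ∧ (mat g).charpoly = P := by
  classical
  have hreal := realizable_of_SD hσ2 hne n P hd hm hsd
  obtain ⟨A, hA, hAch⟩ := hreal.exists_matrix hσ2 hne hd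
  have hdet : A.det ≠ 0 := by
    rw [Matrix.det_eq_sign_charpoly_coeff, hAch]
    apply mul_ne_zero
    · exact pow_ne_zero _ (neg_ne_zero.mpr one_ne_zero)
    · exact hsd.coeff_zero_ne hm
  have hpres : ∀ u v : Fin n → F,
      Cfsg.hermForm n F q (A.mulVec u) (A.mulVec v) = Cfsg.hermForm n F q u v := by
    intro u v
    rw [← stdHerm_eq_hermForm n σ q hσ, ← stdHerm_eq_hermForm n σ q hσ]
    exact hA v u
  set g0 : ↥(Cfsg.GU n F q) := ⟨Matrix.GeneralLinearGroup.mkOfDetNeZero A hdet, hpres⟩ with hg0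
  have hg0v : mat g0 = A := rfl
  have hp : p.Prime := Fact.out
  have hN : orderOf g0 ≠ 0 := (orderOf_pos g0).ne'
  obtain ⟨a, k, hk, hNk⟩ := Nat.exists_eq_pow_mul_and_not_dvd hN p hp.ne_one
  have hpq : p ∣ Fintype.card F := by
    obtain ⟨j, -, hj⟩ := FiniteField.card F p
    rw [hj]
    exact dvd_pow_self p j.ne_zero
  refine ⟨g0 ^ (Fintype.card F ^ a), ?_, ?_⟩
  · have h1 : (g0 ^ (Fintype.card F ^ a)) ^ k = 1 := by
      rw [← pow_mul]
      apply orderOf_dvd_iff_pow_eq_one.mp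
      rw [hNk]
      exact Nat.mul_dvd_mul (pow_dvd_pow_of_dvd hpq a) dvd_rfl
    have h2 : orderOf (g0 ^ (Fintype.card F ^ a)) ∣ k := orderOf_dvd_of_pow_eq_one h1
    have h3 : Nat.Coprime k p := ((Nat.Prime.coprime_iff_not_dvd hp).mpr hk).symm
    exact Nat.Coprime.coprime_dvd_left h2 h3
  · rw [mat_pow, charpoly_pow_card_pow, hg0v, hAch]

/-- classes of elements of order `r` correspond to self-dual divisors of `(X^r-1)^n` other
than `(X-1)^n` -/
theorem card_classes_order_eq (hF : Fintype.card F = q ^ 2) (p : ℕ) [Fact p.Prime] [CharP F p]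
    (σ : F →+* F) (hσ : ∀ x, σ x = x ^ q) (hσ2 : ∀ a, σ (σ a) = a) (hne : ∃ a, σ a ≠ a)
    (n r : ℕ) (hr : r.Prime) (hrp : r ≠ p) :
    Nat.card {C : ConjClasses ↥(Cfsg.GU n F q) //
      ∃ g : ↥(Cfsg.GU n F q), ConjClasses.mk g = C ∧ orderOf g = r} + 1 =
    Nat.card {P : F[X] // P.Monic ∧ P.natDegree = n ∧ SD σ P ∧ P ∣ (X ^ r - 1) ^ n} := by
  classical
  have hcop : r.Coprime p := (Nat.coprime_primes hr (Fact.out : p.Prime)).mpr hrp
  have hdegc : ∀ g : ↥(Cfsg.GU n F q), (mat g).charpoly.natDegree = n := by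
    intro g
    rw [Matrix.charpoly_natDegree_eq_dim, Fintype.card_fin]
  have hone : (mat (1 : ↥(Cfsg.GU n F q))).charpoly = (X - 1 : F[X]) ^ n := by
    rw [mat_one, Matrix.charpoly_one, Fintype.card_fin]
  -- the distinguished polynomial
  have hP1 : ((X - 1 : F[X]) ^ n).Monic ∧ ((X - 1 : F[X]) ^ n).natDegree = n ∧
      SD σ ((X - 1 : F[X]) ^ n) ∧ (X - 1 : F[X]) ^ n ∣ (X ^ r - 1) ^ n := by
    rw [← hone]
    refine ⟨Matrix.charpoly_monic _, hdegc _, SD_charpoly σ hσ _, ?_⟩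
    rw [hone]
    apply pow_dvd_pow_of_dvd
    have : (X - 1 : F[X]) = X - C 1 := by rw [C_1]
    rw [this, dvd_iff_isRoot]
    simp
  set P1 : {P : F[X] // P.Monic ∧ P.natDegree = n ∧ SD σ P ∧ P ∣ (X ^ r - 1) ^ n} :=
    ⟨(X - 1 : F[X]) ^ n, hP1⟩ with hP1def
  have hch : ∀ c : {C : ConjClasses ↥(Cfsg.GU n F q) //
      ∃ g : ↥(Cfsg.GU n F q), ConjClasses.mk g = C ∧ orderOf g = r},
      ∃ g : ↥(Cfsg.GU n F q), ConjClasses.mk g = c.1 ∧ orderOf g = r := fun c => c.2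
  choose G hG1 hG2 using hch
  have hcopg : ∀ g : ↥(Cfsg.GU n F q), orderOf g = r → (orderOf g).Coprime p := by
    intro g hg
    rw [hg]
    exact hcop
  have hss : ∀ g : ↥(Cfsg.GU n F q), orderOf g = r →
      Module.End.IsSemisimple (Matrix.toLin' (mat g)) :=
    fun g hg => isSemisimple_of_orderOf_coprime p g (hcopg g hg)
  have hmem : ∀ g : ↥(Cfsg.GU n F q), orderOf g = r →
      (mat g).charpoly.Monic ∧ (mat g).charpoly.natDegree = n ∧ SD σ (mat g).charpoly ∧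
        (mat g).charpoly ∣ (X ^ r - 1) ^ n := by
    intro g hg
    refine ⟨Matrix.charpoly_monic _, hdegc g, SD_charpoly σ hσ g, ?_⟩
    apply charpoly_dvd_of_pow_eq_one n (mat g) (hss g hg) r
    rw [← pow_eq_one_iff, ← hg]
    exact pow_orderOf_eq_one g
  have hne1 : ∀ g : ↥(Cfsg.GU n F q), ∀ hg : orderOf g = r,
      (⟨(mat g).charpoly, hmem g hg⟩ : {P : F[X] // P.Monic ∧ P.natDegree = n ∧ SD σ P ∧
        P ∣ (X ^ r - 1) ^ n}) ≠ P1 := by
    intro g hg heq
    have h1 : (mat g).charpoly = (X - 1 : F[X]) ^ n := congrArg Subtype.val heq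
    have h2 := eq_one_of_charpoly_eq n (mat g) (hss g hg) h1
    have h3 : g = 1 := mat_injective (by rw [h2, mat_one])
    rw [h3, orderOf_one] at hg
    exact hr.one_lt.ne hg
  let Ψ : {C : ConjClasses ↥(Cfsg.GU n F q) //
      ∃ g : ↥(Cfsg.GU n F q), ConjClasses.mk g = C ∧ orderOf g = r} →
      {P : {P : F[X] // P.Monic ∧ P.natDegree = n ∧ SD σ P ∧ P ∣ (X ^ r - 1) ^ n} // P ≠ P1} :=
    fun c => ⟨⟨(mat (G c)).charpoly, hmem (G c) (hG2 c)⟩, hne1 (G c) (hG2 c)⟩
  have hΨinj : Function.Injective Ψ := by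
    intro c d hcd
    have heq : (mat (G c)).charpoly = (mat (G d)).charpoly :=
      congrArg (fun x => x.1.1) hcd
    have hconj : IsConj (G c) (G d) :=
      isConj_of_charpoly_eq hF p (G c) (G d) (hcopg _ (hG2 c)) (hcopg _ (hG2 d)) heq
    apply Subtype.ext
    rw [← hG1 c, ← hG1 d]
    exact ConjClasses.mk_eq_mk_iff_isConj.mpr hconj
  have hΨsurj : Function.Surjective Ψ := by
    rintro ⟨⟨P, hPm, hPd, hPsd, hPdvd⟩, hPne⟩
    have hn : n ≠ 0 := by
      intro hn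
      apply hPne
      apply Subtype.ext
      show P = (X - 1 : F[X]) ^ n
      rw [hn, pow_zero]
      rw [hn] at hPd
      exact Polynomial.eq_one_of_monic_natDegree_zero hPm hPd
    obtain ⟨g, hgc, hgP⟩ := exists_GU_charpoly_eq hF p σ hσ hσ2 hne n P hPm hPd hPsd
    have hgss := isSemisimple_of_orderOf_coprime p g hgc
    have h1 := aeval_eq_zero_of_charpoly_dvd n (mat g) hgss (X ^ r - 1) n hn
      (by rw [hgP]; exact hPdvd)
    rw [map_sub, map_pow, aeval_X, map_one, sub_eq_zero] at h1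
    have h2 : g ^ r = 1 := (pow_eq_one_iff g r).mpr h1
    have h3 : g ≠ 1 := by
      intro h
      apply hPne
      apply Subtype.ext
      show P = (X - 1 : F[X]) ^ n
      rw [← hgP, h, hone]
    have h4 : orderOf g = r := by
      have : Fact r.Prime := ⟨hr⟩
      exact orderOf_eq_prime h2 h3
    refine ⟨⟨ConjClasses.mk g, g, rfl, h4⟩, ?_⟩
    apply Subtype.ext
    apply Subtype.ext
    show (mat (G ⟨ConjClasses.mk g, g, rfl, h4⟩)).charpoly = P
    rw [← hgP]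
    apply charpoly_eq_of_isConj_GU
    exact ConjClasses.mk_eq_mk_iff_isConj.mp (hG1 ⟨ConjClasses.mk g, g, rfl, h4⟩)
  have e1 := Equiv.ofBijective Ψ ⟨hΨinj, hΨsurj⟩
  have hfin : Finite {P : {P : F[X] // P.Monic ∧ P.natDegree = n ∧ SD σ P ∧
        P ∣ (X ^ r - 1) ^ n} // P ≠ P1} := Finite.of_equiv _ e1
  rw [Nat.card_congr e1, ← Finite.card_option, Nat.card_congr (Equiv.optionSubtypeNe P1)]

end Cfsg.Agent.Lib.H12.GUOrd
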