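import Mathlib
import Cfsg.Agent.Lib.H29.ChevCert13
import Cfsg.Agent.Lib.H12.ChevNXD
import Cfsg.Agent.Lib.H12.ChevSL2Hom

/-!
# Two-element generation of Chevalley groups: the common tools (helper12)

A subgroup `M` of `GL` containing `n_w` is studied through the set of roots `s` that are *good*, that
is, `X_s ≤ M`.  Goodness is propagated along the orbits of `w` and through the commutator formula,
following a certificate (a list of steps) that the kernel evaluates.
-/

set_option autoImplicit false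
set_option linter.unusedSectionVars false
set_option linter.unusedVariables false

namespace Cfsg.Agent.Lib.H12.Gen2

open Cfsg.Lie Cfsg.Agent.Lib.H29.Chev Cfsg.Agent.Lib.H12.ChevNX Cfsg.Agent.Lib.H12.ChevSL2

section abstract

variable {G : Type*} [Group G]

/-- commuting `g` and `x` with `g ^ n = 1` and `x ^ (n + 1) = 1` are both powers of `g * x` -/
theorem sep_of_commute (g x : G) (hc : Commute g x) (n : ℕ) (hg : g ^ n = 1) (hx : x ^ (n + 1) = 1)
    (M : Subgroup G) (h : g * x ∈ M) : x ∈ M ∧ g ∈ M := by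
  have h1 : (g * x) ^ n = x ^ n := by rw [hc.mul_pow, hg, one_mul]
  have h2 : x ^ n = x⁻¹ := by
    rw [eq_inv_iff_mul_eq_one, ← pow_succ, hx]
  have hx' : x ∈ M := by
    have := M.pow_mem h n
    rw [h1, h2] at this
    exact M.inv_mem_iff.mp this
  refine ⟨hx', ?_⟩
  have := M.mul_mem h (M.inv_mem hx')
  rwa [mul_inv_cancel_right] at this

/-- a subgroup that lies in the closure of two of its elements is generated by two elements -/
theorem two_gen_of_le (H : Subgroup G) (a b : G) (ha : a ∈ H) (hb : b ∈ H)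
    (h : H ≤ Subgroup.closure {a, b}) :
    ∃ a' b' : ↥H, Subgroup.closure ({a', b'} : Set ↥H) = ⊤ := by
  refine ⟨⟨a, ha⟩, ⟨b, hb⟩, ?_⟩
  rw [eq_top_iff]
  intro g _
  have hg : (g : G) ∈ Subgroup.closure {a, b} := h g.2
  have hmap : (Subgroup.closure ({⟨a, ha⟩, ⟨b, hb⟩} : Set ↥H)).map H.subtype =
      Subgroup.closure {a, b} := by
    rw [MonoidHom.map_closure]
    congr 1
    rw [Set.image_pair]
    rfl
  rw [← hmap] at hg
  obtain ⟨y, hy, hyg⟩ := hg
  have : y = g := Subtype.ext hyg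
  rwa [← this]

/-- the commutator of two products with central factors -/
theorem comm_of_central (A B A' B' : G) (h1 : Commute A B) (h2 : Commute A A') (h3 : Commute A B')
    (h4 : Commute A' B) (h5 : Commute A' B') :
    (A * B) * (A' * B') * (A * B)⁻¹ * (A' * B')⁻¹ = B * B' * B⁻¹ * B'⁻¹ := by
  have e1 : A * B * (A' * B') = B * B' * (A * A') := by
    calc A * B * (A' * B') = A * (B * A') * B' := by group
      _ = A * (A' * B) * B' := by rw [h4.eq]
      _ = (A * A') * (B * B') := by group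
      _ = (B * B') * (A * A') := by
        have : Commute (A * A') (B * B') := (h1.mul_right h3).mul_left (h4.mul_right h5)
        exact this.eq
      _ = B * B' * (A * A') := by group
  have e2 : (A * B)⁻¹ * (A' * B')⁻¹ = (A * A')⁻¹ * (B⁻¹ * B'⁻¹) := by
    have e3 : A' * B' * (A * B) = B' * B * (A * A') := by
      calc A' * B' * (A * B) = A' * (B' * A) * B := by group
        _ = A' * (A * B') * B := by rw [h3.eq]
        _ = (A' * A) * (B' * B) := by group
        _ = (A * A') * (B' * B) := by rw [h2.eq]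
        _ = (B' * B) * (A * A') := by
          have : Commute (A * A') (B' * B) := (h3.mul_right h1).mul_left (h5.mul_right h4)
          exact this.eq
        _ = B' * B * (A * A') := by group
    have : (A * B)⁻¹ * (A' * B')⁻¹ = (A' * B' * (A * B))⁻¹ := by group
    rw [this, e3]
    group
  calc A * B * (A' * B') * (A * B)⁻¹ * (A' * B')⁻¹
      = A * B * (A' * B') * ((A * B)⁻¹ * (A' * B')⁻¹) := by group
    _ = B * B' * (A * A') * ((A * A')⁻¹ * (B⁻¹ * B'⁻¹)) := by rw [e1, e2]
    _ = B * B' * B⁻¹ * B'⁻¹ := by group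

/-- a factor of a product lies in a subgroup when the product and all the other factors do -/
theorem mem_of_prod_mem (M : Subgroup G) {ι : Type*} (f : ι → G) (L₁ L₂ : List ι) (e : ι)
    (h1 : ∀ x ∈ L₁, f x ∈ M) (h2 : ∀ x ∈ L₂, f x ∈ M)
    (h : ((L₁ ++ e :: L₂).map f).prod ∈ M) : f e ∈ M := by
  rw [List.map_append, List.prod_append, List.map_cons, List.prod_cons] at h
  have hA : (L₁.map f).prod ∈ M := by
    apply Subgroup.list_prod_mem
    intro x hx
    obtain ⟨y, hy, rfl⟩ := List.mem_map.mp hx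
    exact h1 y hy
  have hB : (L₂.map f).prod ∈ M := by
    apply Subgroup.list_prod_mem
    intro x hx
    obtain ⟨y, hy, rfl⟩ := List.mem_map.mp hx
    exact h2 y hy
  have : f e = ((L₁.map f).prod)⁻¹ * ((L₁.map f).prod * (f e * (L₂.map f).prod)) *
      ((L₂.map f).prod)⁻¹ := by group
  rw [this]
  exact M.mul_mem (M.mul_mem (M.inv_mem hA) h) (M.inv_mem hB)

end abstract

section field

variable {F : Type*} [Field F]

/-- `κ` generates the multiplicative group -/
def IsGen (κ : F) : Prop := ∀ u : F, u ≠ 0 → ∃ i : ℕ, κ ^ i = u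

theorem exists_isGen [Finite F] : ∃ k : F, k ≠ 0 ∧ IsGen k := by
  obtain ⟨g, hg⟩ := IsCyclic.exists_monoid_generator (α := Fˣ)
  refine ⟨(g : F), g.ne_zero, fun u hu => ?_⟩
  obtain ⟨i, hi⟩ := Submonoid.mem_powers_iff _ _ |>.mp (hg (Units.mk0 u hu))
  refine ⟨i, ?_⟩
  have := congrArg (fun x : Fˣ => (x : F)) hi
  simpa using this

theorem IsGen.inv {k : F} (hk : IsGen k) : IsGen k⁻¹ := by
  intro u hu
  obtain ⟨i, hi⟩ := hk u⁻¹ (inv_ne_zero hu)
  exact ⟨i, by rw [inv_pow, hi, inv_inv]⟩

theorem IsGen.ne_one {k : F} (hk : IsGen k) (hF : ∃ x : F, x ≠ 0 ∧ x ≠ 1) : k ≠ 1 := by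
  rintro rfl
  obtain ⟨x, hx0, hx1⟩ := hF
  obtain ⟨i, hi⟩ := hk x hx0
  rw [one_pow] at hi
  exact hx1 hi.symm

theorem IsGen.zp1 {k : F} (hk : IsGen k) : IsGen (k ^ (1 : ℤ)) := by rwa [_root_.zpow_one]

theorem IsGen.zpm1 {k : F} (hk : IsGen k) : IsGen (k ^ (-1 : ℤ)) := by
  rw [_root_.zpow_neg_one]; exact hk.inv

/-- in characteristic 3, the cube of a generator is a generator -/
theorem IsGen.cube [Finite F] [CharP F 3] {k : F} (hk : IsGen k) : IsGen (k ^ 3) := by
  intro u hu
  have : Fact (Nat.Prime 3) := ⟨by norm_num⟩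
  have hsurj : Function.Surjective (frobenius F 3) :=
    (Finite.injective_iff_surjective.mp (frobenius_inj F 3))
  obtain ⟨v, hv⟩ := hsurj u
  have hv0 : v ≠ 0 := by
    rintro rfl
    rw [map_zero] at hv
    exact hu hv.symm
  obtain ⟨i, hi⟩ := hk v hv0
  refine ⟨i, ?_⟩
  rw [← hv, frobenius_def, ← hi, ← pow_mul, ← pow_mul, mul_comm]

theorem IsGen.zp3 [Finite F] [CharP F 3] {k : F} (hk : IsGen k) : IsGen (k ^ (3 : ℤ)) := by
  have : k ^ (3 : ℤ) = k ^ 3 := by norm_cast
  rw [this]; exact hk.cube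

theorem IsGen.zpm3 [Finite F] [CharP F 3] {k : F} (hk : IsGen k) :
    IsGen (k ^ (-3 : ℤ)) := by
  have : k ^ (-3 : ℤ) = (k ^ 3)⁻¹ := by rw [zpow_neg]; norm_cast
  rw [this]; exact hk.cube.inv

theorem pow_card_sub_one_of_ne_zero [Fintype F] (k : F) (hk : k ≠ 0) :
    k ^ (Fintype.card F - 1) = 1 := FiniteField.pow_card_sub_one_eq_one k hk

end field

section chev

variable {D : ChevalleyDatum} {fd : FD} {fx : FX} {fc : FC} {F : Type*} [Field F]
variable (C : Cert6 D fd fx fc)
include C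

/-- the coefficient in `Perm` is not zero -/
theorem perm_exists_ne_zero (n : GL D.Idx F) (π : ℕ → ℕ) (hπ : C.c2.Perm n π) (s : ℕ)
    (hs : s < fd.n) :
    π s < fd.n ∧ ∃ c : F, c ≠ 0 ∧ ∀ t, n * C.c2.xA s t * n⁻¹ = C.c2.xA (π s) (c * t) := by
  obtain ⟨h1, _, c, hc⟩ := hπ s hs
  refine ⟨h1, c, ?_, hc⟩
  intro h0
  have h2 := hc 1
  rw [h0, zero_mul, C.c2.xA_zero] at h2
  have h3 : C.c2.xA s (1 : F) = 1 := by
    have : C.c2.xA s (1 : F) = n⁻¹ * (n * C.c2.xA s 1 * n⁻¹) * n := by group
    rw [this, h2]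
    group
  exact one_ne_zero (C.xA_eq_one s hs 1 h3)

/-- goodness is transported by an element of `M` that permutes the root subgroups -/
theorem goodIn_perm (M : Subgroup (GL D.Idx F)) (n : GL D.Idx F) (hn : n ∈ M) (π : ℕ → ℕ)
    (hπ : C.c2.Perm n π) (s : ℕ) (hs : GoodIn C M s) : GoodIn C M (π s) := by
  obtain ⟨h1, c, hc0, hc⟩ := perm_exists_ne_zero C n π hπ s hs.1
  refine ⟨h1, fun t => ?_⟩
  have := hc (c⁻¹ * t)
  rw [← mul_assoc, mul_inv_cancel₀ hc0, one_mul] at this
  rw [← this]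
  exact M.mul_mem (M.mul_mem hn (hs.2 _)) (M.inv_mem hn)

/-- a non-trivial element of `X_s` in `M` gives one of `X_{π^i s}` -/
theorem exists_mem_iterate (M : Subgroup (GL D.Idx F)) (n : GL D.Idx F) (hn : n ∈ M) (π : ℕ → ℕ)
    (hπ : C.c2.Perm n π) (s : ℕ) (hs : s < fd.n) (c : F) (hc : c ≠ 0) (h : C.c2.xA s c ∈ M)
    (i : ℕ) : π^[i] s < fd.n ∧ ∃ c' : F, c' ≠ 0 ∧ C.c2.xA (π^[i] s) c' ∈ M := by
  induction i with
  | zero => exact ⟨hs, c, hc, h⟩
  | succ i ih =>
    obtain ⟨h1, c', hc', hm⟩ := ih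
    rw [Function.iterate_succ_apply']
    obtain ⟨h2, d, hd0, hd⟩ := perm_exists_ne_zero C n π hπ _ h1
    refine ⟨h2, d * c', mul_ne_zero hd0 hc', ?_⟩
    rw [← hd]
    exact M.mul_mem (M.mul_mem hn hm) (M.inv_mem hn)

/-- a non-trivial element of `X_s` in `M` and an element of `M` acting on `X_s` through a generator
of the multiplicative group: `X_s ≤ M` -/
theorem goodIn_of_fill (M : Subgroup (GL D.Idx F)) (s : ℕ) (hs : s < fd.n) (c : F) (hc : c ≠ 0)
    (h : C.c2.xA s c ∈ M) (g : GL D.Idx F) (hg : g ∈ M) (κ : F) (hκ : IsGen κ)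
    (hact : ∀ u : F, g * C.c2.xA s u * g⁻¹ = C.c2.xA s (κ * u)) : GoodIn C M s := by
  refine ⟨hs, fun t => ?_⟩
  by_cases ht : t = 0
  · rw [ht, C.c2.xA_zero]; exact one_mem _
  obtain ⟨i, hi⟩ := hκ (t / c) (div_ne_zero ht hc)
  have key : ∀ i : ℕ, ∀ u, g ^ i * C.c2.xA s u * (g ^ i)⁻¹ = C.c2.xA s (κ ^ i * u) := by
    intro i
    induction i with
    | zero => intro u; simp
    | succ i ih =>
      intro u
      have : g ^ (i + 1) * C.c2.xA s u * (g ^ (i + 1))⁻¹ =
          g * (g ^ i * C.c2.xA s u * (g ^ i)⁻¹) * g⁻¹ := by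
        rw [pow_succ']; group
      rw [this, ih, hact, pow_succ', mul_assoc]
  have := key i c
  rw [hi, div_mul_cancel₀ _ hc] at this
  rw [← this]
  exact M.mul_mem (M.mul_mem (M.pow_mem hg i) h) (M.inv_mem (M.pow_mem hg i))

/-- `h_r(u) ∈ M` when `X_r` and `X_{-r}` lie in `M` -/
theorem TdG_mem_of_good (M : Subgroup (GL D.Idx F)) (r : ℕ) (hr : GoodIn C M r)
    (hr' : GoodIn C M (fd.n - 1 - r)) (u : F) (hu : u ≠ 0) :
    TdG (hExp D fd fx r) u hu ∈ M := by
  rw [← wG_mul_wG_neg_one C.c2 r hr.1 u hu]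
  unfold wG
  exact M.mul_mem (M.mul_mem (M.mul_mem (hr.2 _) (hr'.2 _)) (hr.2 _))
    (M.mul_mem (M.mul_mem (hr.2 _) (hr'.2 _)) (hr.2 _))

/-- `h_r(u)` lies in the Chevalley group -/
theorem TdG_mem_group (r : ℕ) (hr : r < fd.n) (u : F) (hu : u ≠ 0) :
    TdG (hExp D fd fx r) u hu ∈ D.group F := by
  rw [← wG_mul_wG_neg_one C.c2 r hr u hu]
  unfold wG
  exact mul_mem (mul_mem (mul_mem (C.c2.xA_mem_group _ _) (C.c2.xA_mem_group _ _))
    (C.c2.xA_mem_group _ _))
    (mul_mem (mul_mem (C.c2.xA_mem_group _ _) (C.c2.xA_mem_group _ _)) (C.c2.xA_mem_group _ _))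

omit C in
/-- powers of torus elements -/
theorem TdG_pow (e : D.Idx → ℤ) (c : F) (hc : c ≠ 0) (m : ℕ) :
    (TdG e c hc) ^ m = TdG e (c ^ m) (pow_ne_zero m hc) := by
  induction m with
  | zero =>
    apply gl_ext
    simp only [pow_zero, Units.val_one]
    unfold TdG Td
    simp
  | succ m ih =>
    rw [pow_succ, ih]
    apply gl_ext
    rw [Units.val_mul]
    show Td e (c ^ m) * Td e c = Td e (c ^ (m + 1))
    rw [Td_mul_param, pow_succ]

omit C in
theorem TdG_pow_card_sub_one [Fintype F] (e : D.Idx → ℤ) (c : F) (hc : c ≠ 0) :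
    (TdG e c hc) ^ (Fintype.card F - 1) = 1 := by
  rw [TdG_pow]
  apply gl_ext
  show Td e (c ^ (Fintype.card F - 1)) = 1
  rw [FiniteField.pow_card_sub_one_eq_one c hc]
  unfold Td
  simp

omit C in
/-- torus elements with the same parameter commute -/
theorem TdG_commute (e e' : D.Idx → ℤ) (c : F) (hc : c ≠ 0) :
    Commute (TdG e c hc) (TdG e' c hc) := by
  apply gl_ext
  rw [Units.val_mul, Units.val_mul]
  show Td e c * Td e' c = Td e' c * Td e c
  rw [Td_mul_Td e e' c hc, Td_mul_Td e' e c hc, add_comm]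

/-- powers of root elements -/
theorem xA_pow (s : ℕ) (t : F) (m : ℕ) : (C.c2.xA s t) ^ m = C.c2.xA s ((m : F) * t) := by
  induction m with
  | zero => simp [C.c2.xA_zero]
  | succ m ih =>
    rw [pow_succ, ih, C.c2.xA_mul]
    congr 1
    push_cast
    ring

theorem xA_pow_card [Fintype F] (s : ℕ) (t : F) : (C.c2.xA s t) ^ (Fintype.card F) = 1 := by
  rw [xA_pow C, Nat.cast_card_eq_zero, zero_mul, C.c2.xA_zero]

/-- root elements of roots with no commutator term commute -/
theorem xA_commute (r s : ℕ) (hr : r < fd.n) (hs : s < fd.n) (hne : s ≠ r)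
    (hneg : s ≠ fd.n - 1 - r) (hT : fd.commT r s = []) (t u : F) :
    Commute (C.c2.xA r t) (C.c2.xA s u) := by
  obtain ⟨-, hcf⟩ := C.c5.c3.cf_all (F := F) C.c5.cf _ r s hr hs hne hneg rfl
  have h1 := hcf t u
  rw [hT] at h1
  unfold Cert2.ctG at h1
  simp only [List.map_nil, List.prod_nil, mul_one] at h1
  exact h1.symm

/-- conjugation of a root element by the inverse of a torus element -/
theorem TdG_inv_conj_x (r s : ℕ) (hr : r < fd.n) (hs : s < fd.n) (c : F) (hc : c ≠ 0) (u : F) :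
    (TdG (hExp D fd fx r) c hc)⁻¹ * C.c2.xA s u * TdG (hExp D fd fx r) c hc =
      C.c2.xA s ((c ^ (fd.pr s r))⁻¹ * u) := by
  have h := TdG_conj_x C.c2 r s hr hs c hc ((c ^ (fd.pr s r))⁻¹ * u)
  rw [← mul_assoc, mul_inv_cancel₀ (zpow_ne_zero _ hc), one_mul] at h
  rw [← h]
  group

end chev

section checker

/-- the root added by a certificate step, if the step is valid: `(0, s, _, _)` is an orbit step,
`(_ + 1, r, s, idx)` a commutator step aiming at the term `idx` of `commT r s` -/
def stepRoot (fd : FD) (π : ℕ → ℕ) (ok : ℤ → Bool) (G : List ℕ) : ℕ × ℕ × ℕ × ℕ → Option ℕ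
  | (0, s, _, _) => if G.contains s then some (π s) else none
  | (_ + 1, r, s, idx) =>
    match (fd.commT r s)[idx]? with
    | none => none
    | some e =>
      if G.contains r && G.contains s && (s != r) && (s != fd.n - 1 - r) && ok e.2.1 &&
          (e.2.2.1 == 1 || e.2.2.2 == 1) &&
          ((fd.commT r s).take idx).all (fun e' => G.contains e'.1) &&
          ((fd.commT r s).drop (idx + 1)).all (fun e' => G.contains e'.1)
      then some e.1 else none

/-- run a certificate from a list of good roots -/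
def runSteps (fd : FD) (π : ℕ → ℕ) (ok : ℤ → Bool) :
    List (ℕ × ℕ × ℕ × ℕ) → List ℕ → Option (List ℕ)
  | [], G => some G
  | st :: sts, G =>
    match stepRoot fd π ok G st with
    | none => none
    | some x => runSteps fd π ok sts (x :: G)

/-- the fundamental roots and their negatives -/
def pmSimples (fd : FD) : List ℕ :=
  (List.range fd.l).flatMap fun i => [fd.simples.getD i 0, fd.n - 1 - fd.simples.getD i 0]

/-- the certificate reaches all the targets -/
def chkSteps (fd : FD) (π : ℕ → ℕ) (ok : ℤ → Bool) (steps : List (ℕ × ℕ × ℕ × ℕ)) (G : List ℕ)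
    (targets : List ℕ) : Bool :=
  match runSteps fd π ok steps G with
  | none => false
  | some G' => targets.all fun s => G'.contains s

variable {D : ChevalleyDatum} {fd : FD} {fx : FX} {fc : FC} {F : Type*} [Field F]
variable (C : Cert6 D fd fx fc)
include C

theorem stepRoot_sound (M : Subgroup (GL D.Idx F)) (π : ℕ → ℕ)
    (hπ : ∀ s, GoodIn C M s → GoodIn C M (π s)) (ok : ℤ → Bool)
    (hok : ∀ N : ℤ, ok N = true → ((N : ℤ) : F) ≠ 0) (G : List ℕ)
    (hG : ∀ s ∈ G, GoodIn C M s) (st : ℕ × ℕ × ℕ × ℕ) (x : ℕ)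
    (h : stepRoot fd π ok G st = some x) : GoodIn C M x := by
  obtain ⟨k, r, s, idx⟩ := st
  cases k with
  | zero =>
    simp only [stepRoot] at h
    split_ifs at h with hc
    have hx : π r = x := Option.some.inj h
    rw [← hx]
    exact hπ r (hG r (by simpa using hc))
  | succ k =>
    simp only [stepRoot] at h
    split at h
    · exact absurd h (by simp)
    · rename_i e he
      split_ifs at h with hc
      have hx : e.1 = x := Option.some.inj h
      simp only [Bool.and_eq_true, Bool.or_eq_true, bne_iff_ne, ne_eq, beq_iff_eq,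
        List.all_eq_true, List.contains_iff_mem] at hc
      obtain ⟨⟨⟨⟨⟨⟨⟨hr, hs⟩, hne⟩, hneg⟩, hN⟩, hij⟩, hL1⟩, hL2⟩ := hc
      have gr := hG r hr
      have gs := hG s hs
      obtain ⟨hlt, hcf⟩ := C.c5.c3.cf_all (F := F) C.c5.cf _ r s gr.1 gs.1 hne hneg rfl
      have hidx : idx < (fd.commT r s).length := by
        by_contra hcon
        rw [List.getElem?_eq_none (by omega)] at he
        exact absurd he (by simp)
      have hget : (fd.commT r s)[idx] = e := by
        rw [List.getElem?_eq_getElem hidx] at he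
        exact Option.some.inj he
      have hsplit : fd.commT r s = (fd.commT r s).take idx ++ e :: (fd.commT r s).drop (idx + 1) := by
        rw [← hget, ← List.drop_eq_getElem_cons hidx, List.take_append_drop]
      have hemem : e ∈ fd.commT r s := by rw [← hget]; exact List.getElem_mem hidx
      rw [← hx]
      refine ⟨hlt e hemem, fun v => ?_⟩
      have hN0 := hok _ hN
      -- every value of the term lies in `M`
      have hterm : ∀ t u : F,
          C.c2.xA e.1 (((e.2.1 : ℤ) : F) * (-t) ^ e.2.2.1 * u ^ e.2.2.2) ∈ M := by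
        intro t u
        have hct : C.c2.ctG (fd.commT r s) t u ∈ M := by
          have h1 := hcf t u
          have : C.c2.ctG (fd.commT r s) t u =
              (C.c2.xA r t * C.c2.xA s u)⁻¹ * (C.c2.xA s u * C.c2.xA r t) := by
            rw [h1]; group
          rw [this]
          exact M.mul_mem (M.inv_mem (M.mul_mem (gr.2 _) (gs.2 _))) (M.mul_mem (gs.2 _) (gr.2 _))
        unfold Cert2.ctG at hct
        rw [hsplit] at hct
        exact mem_of_prod_mem M
          (fun c : ℕ × ℤ × ℕ × ℕ => C.c2.xA c.1 (((c.2.1 : ℤ) : F) * (-t) ^ c.2.2.1 * u ^ c.2.2.2))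
          _ _ e (fun y hy => ((hG _ (hL1 y hy)).2 _)) (fun y hy => ((hG _ (hL2 y hy)).2 _)) hct
      rcases hij with hi | hj
      · have := hterm (-(v / ((e.2.1 : ℤ) : F))) 1
        rw [hi, neg_neg, pow_one, one_pow, mul_one, mul_div_cancel₀ _ hN0] at this
        exact this
      · have := hterm (-1) (v / ((e.2.1 : ℤ) : F))
        rw [hj, neg_neg, one_pow, mul_one, pow_one, mul_div_cancel₀ _ hN0] at this
        exact this

theorem runSteps_sound (M : Subgroup (GL D.Idx F)) (π : ℕ → ℕ)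
    (hπ : ∀ s, GoodIn C M s → GoodIn C M (π s)) (ok : ℤ → Bool)
    (hok : ∀ N : ℤ, ok N = true → ((N : ℤ) : F) ≠ 0) (steps : List (ℕ × ℕ × ℕ × ℕ)) :
    ∀ (G G' : List ℕ), (∀ s ∈ G, GoodIn C M s) → runSteps fd π ok steps G = some G' →
      ∀ s ∈ G', GoodIn C M s := by
  induction steps with
  | nil =>
    intro G G' hG h
    simp only [runSteps] at h
    rw [← Option.some.inj h]
    exact hG
  | cons st sts ih =>
    intro G G' hG h
    simp only [runSteps] at h
    split at h
    · exact absurd h (by simp)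
    · rename_i x hx
      apply ih (x :: G) G' _ h
      intro s hs
      rcases List.mem_cons.mp hs with rfl | hs
      · exact stepRoot_sound C M π hπ ok hok G hG st _ hx
      · exact hG s hs

theorem chkSteps_sound (M : Subgroup (GL D.Idx F)) (π : ℕ → ℕ)
    (hπ : ∀ s, GoodIn C M s → GoodIn C M (π s)) (ok : ℤ → Bool)
    (hok : ∀ N : ℤ, ok N = true → ((N : ℤ) : F) ≠ 0) (steps : List (ℕ × ℕ × ℕ × ℕ))
    (G targets : List ℕ) (hG : ∀ s ∈ G, GoodIn C M s)
    (h : chkSteps fd π ok steps G targets = true) : ∀ s ∈ targets, GoodIn C M s := by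
  unfold chkSteps at h
  split at h
  · exact absurd h (by simp)
  · rename_i G' hG'
    intro s hs
    rw [List.all_eq_true] at h
    have := h s hs
    exact runSteps_sound C M π hπ ok hok steps G G' hG hG' s (by simpa using this)

/-- a subgroup in which the fundamental roots and their negatives are good contains the group -/
theorem group_le_of_pmSimples (M : Subgroup (GL D.Idx F))
    (h : ∀ s ∈ pmSimples fd, GoodIn C M s) (seeds : List ℕ)
    (hseeds : ∀ s ∈ seeds, ∃ i < fd.l, s = fd.simples.getD i 0)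
    (horb : chkAll fd fx seeds 32 = true) : D.group F ≤ M := by
  apply group_le_of_simple C M _ seeds hseeds horb
  intro i t hi
  have hi' : i < fd.l := by rw [← C.c2.rank_eq]; exact hi
  have hp := C.c2.simple_lt i hi'
  rw [C.c2.agrees.simple_eq, C.c2.agrees.neg_eq' _ hp]
  have h1 : fd.simples.getD i 0 ∈ pmSimples fd := by
    unfold pmSimples
    rw [List.mem_flatMap]
    exact ⟨i, List.mem_range.mpr hi', by simp⟩
  have h2 : fd.n - 1 - fd.simples.getD i 0 ∈ pmSimples fd := by
    unfold pmSimples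
    rw [List.mem_flatMap]
    exact ⟨i, List.mem_range.mpr hi', by simp⟩
  exact ⟨(h _ h1).2 t, (h _ h2).2 t⟩

end checker

end Cfsg.Agent.Lib.H12.Gen2
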