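import Mathlib
import Cfsg.Agent.Lib.H29.ChevGen39
import Cfsg.Agent.Lib.H12.Gen2Base

/-!
# Two-element generation of Chevalley groups: one seed (helper12)

`a = h_δ(k) x_α(1)` with `⟨α, δ^∨⟩ = 0`, `b = n_w`.
-/

set_option autoImplicit false
set_option linter.unusedSectionVars false
set_option linter.unusedVariables false

namespace Cfsg.Agent.Lib.H12.Gen2

open Cfsg.Lie Cfsg.Agent.Lib.H29.Chev Cfsg.Agent.Lib.H12.ChevNX Cfsg.Agent.Lib.H12.ChevSL2

variable {D : ChevalleyDatum} {fd : FD} {fx : FX} {fc : FC} {fz : FZ}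

theorem wordN_mem_group (C : Cert12 D fd fx fc fz) (F : Type*) [Field F] (w : List ℕ) :
    C.wordN F w ∈ D.group F :=
  C.c6.c2.monomial_le_group (C.wordN_mem w)

/-- the data check for one seed -/
def chkA (fd : FD) (fx : FX) (ok okE : ℤ → Bool) (w : List ℕ) (α δ i : ℕ)
    (steps : List (ℕ × ℕ × ℕ × ℕ)) : Bool :=
  decide (α < fd.n) && decide (δ < fd.n) && w.all (fun j => decide (j < fd.l)) &&
  decide (fd.pr α δ = 0) && okE (fd.pr ((fd.wordP fx w)^[i] α) δ) &&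
  chkSteps fd (fd.wordP fx w) ok steps [(fd.wordP fx w)^[i] α] (pmSimples fd)

theorem designA (C : Cert12 D fd fx fc fz) (F : Type*) [Field F] [Fintype F]
    (k : F) (hk0 : k ≠ 0) (ok okE : ℤ → Bool)
    (hok : ∀ N : ℤ, ok N = true → ((N : ℤ) : F) ≠ 0)
    (hokE : ∀ e : ℤ, okE e = true → IsGen (k ^ e))
    (w : List ℕ) (α δ i : ℕ) (steps : List (ℕ × ℕ × ℕ × ℕ))
    (h : chkA fd fx ok okE w α δ i steps = true)
    (seeds : List ℕ) (hseeds : ∀ s ∈ seeds, ∃ i < fd.l, s = fd.simples.getD i 0)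
    (horb : chkAll fd fx seeds 32 = true) :
    ∃ a b : GL D.Idx F, a ∈ D.group F ∧ b ∈ D.group F ∧
      D.group F ≤ Subgroup.closure {a, b} := by
  simp only [chkA, Bool.and_eq_true, decide_eq_true_eq, List.all_eq_true] at h
  obtain ⟨⟨⟨⟨⟨hα, hδ⟩, hw⟩, hpr⟩, hE⟩, hsteps⟩ := h
  have hw' : IsWd fd.l w := fun j hj => hw j hj
  refine ⟨TdG (hExp D fd fx δ) k hk0 * C.c6.c2.xA α (1 : F), C.wordN F w,
    mul_mem (TdG_mem_group C.c6 δ hδ k hk0) (C.c6.c2.xA_mem_group _ _),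
    wordN_mem_group C F w, ?_⟩
  generalize hM : Subgroup.closure
    ({TdG (hExp D fd fx δ) k hk0 * C.c6.c2.xA α (1 : F), C.wordN F w} : Set (GL D.Idx F)) = M
  have hnM : C.wordN F w ∈ M := by rw [← hM]; exact Subgroup.subset_closure (by simp)
  have haM : TdG (hExp D fd fx δ) k hk0 * C.c6.c2.xA α (1 : F) ∈ M := by
    rw [← hM]; exact Subgroup.subset_closure (by simp)
  have hcomm : Commute (TdG (hExp D fd fx δ) k hk0) (C.c6.c2.xA α (1 : F)) := by
    have := TdG_conj_x C.c6.c2 δ α hδ hα k hk0 1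
    rw [hpr, zpow_zero, one_mul] at this
    exact mul_inv_eq_iff_eq_mul.mp this
  obtain ⟨hxM, hhM⟩ := sep_of_commute _ _ hcomm (Fintype.card F - 1)
    (TdG_pow_card_sub_one _ k hk0) (by
      have : Fintype.card F - 1 + 1 = Fintype.card F := Nat.sub_add_cancel Fintype.card_pos
      rw [this]; exact xA_pow_card C.c6 α 1) M haM
  have hperm := C.perm_wordN (F := F) w hw'
  obtain ⟨hα', c', hc', hm⟩ := exists_mem_iterate C.c6 M _ hnM _ hperm α hα 1 one_ne_zero hxM i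
  have good0 : GoodIn C.c6 M ((fd.wordP fx w)^[i] α) :=
    goodIn_of_fill C.c6 M _ hα' c' hc' hm _ hhM (k ^ fd.pr ((fd.wordP fx w)^[i] α) δ)
      (hokE _ hE) (fun u => TdG_conj_x C.c6.c2 δ _ hδ hα' k hk0 u)
  have hall := chkSteps_sound C.c6 M (fd.wordP fx w)
    (fun s hs => goodIn_perm C.c6 M _ hnM _ hperm s hs) ok hok steps _ _
    (by intro s hs; rw [List.mem_singleton] at hs; rw [hs]; exact good0) hsteps
  exact group_le_of_pmSimples C.c6 M hall seeds hseeds horb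

end Cfsg.Agent.Lib.H12.Gen2
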