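import Mathlib
import Cfsg.Agent.Lib.H29.ChevGen39
import Cfsg.Agent.Lib.H12.Gen2A

/-!
# Two-element generation of Chevalley groups: two seeds (helper12)

`a = (y h_δ(k) y⁻¹) x_α(1)` with `y = x_β(1)`, `⟨α, δ^∨⟩ = 0`, `α` and `β` commuting; `b = n_w`.
-/

set_option autoImplicit false
set_option linter.unusedSectionVars false
set_option linter.unusedVariables false

namespace Cfsg.Agent.Lib.H12.Gen2

open Cfsg.Lie Cfsg.Agent.Lib.H29.Chev Cfsg.Agent.Lib.H12.ChevNX Cfsg.Agent.Lib.H12.ChevSL2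

variable {D : ChevalleyDatum} {fd : FD} {fx : FX} {fc : FC} {fz : FZ}

/-- the data check for two seeds -/
def chkB (fd : FD) (fx : FX) (ok okE : ℤ → Bool) (w : List ℕ) (α β δ i r : ℕ)
    (steps1 steps2 : List (ℕ × ℕ × ℕ × ℕ)) : Bool :=
  decide (α < fd.n) && decide (β < fd.n) && decide (δ < fd.n) &&
  w.all (fun j => decide (j < fd.l)) && decide (fd.pr α δ = 0) &&
  (β != α) && (β != fd.n - 1 - α) && (fd.commT α β).isEmpty &&
  (β != (fd.wordP fx w)^[i] α) && (β != fd.n - 1 - (fd.wordP fx w)^[i] α) &&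
  (fd.commT ((fd.wordP fx w)^[i] α) β).isEmpty &&
  okE (fd.pr ((fd.wordP fx w)^[i] α) δ) && okE (fd.pr β δ) && okE (fd.pr β r) &&
  match runSteps fd (fd.wordP fx w) ok steps1 [(fd.wordP fx w)^[i] α] with
  | none => false
  | some G1 => G1.contains r && G1.contains (fd.n - 1 - r) &&
      chkSteps fd (fd.wordP fx w) ok steps2 (β :: G1) (pmSimples fd)

theorem designB (C : Cert12 D fd fx fc fz) (F : Type*) [Field F] [Fintype F]
    (hF : ∃ x : F, x ≠ 0 ∧ x ≠ 1)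
    (k : F) (hk0 : k ≠ 0) (ok okE : ℤ → Bool)
    (hok : ∀ N : ℤ, ok N = true → ((N : ℤ) : F) ≠ 0)
    (hokE : ∀ e : ℤ, okE e = true → IsGen (k ^ e))
    (w : List ℕ) (α β δ i r : ℕ) (steps1 steps2 : List (ℕ × ℕ × ℕ × ℕ))
    (h : chkB fd fx ok okE w α β δ i r steps1 steps2 = true)
    (seeds : List ℕ) (hseeds : ∀ s ∈ seeds, ∃ i < fd.l, s = fd.simples.getD i 0)
    (horb : chkAll fd fx seeds 32 = true) :
    ∃ a b : GL D.Idx F, a ∈ D.group F ∧ b ∈ D.group F ∧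
      D.group F ≤ Subgroup.closure {a, b} := by
  unfold chkB at h
  split at h
  · simp at h
  rename_i G1 hG1
  simp only [Bool.and_eq_true, decide_eq_true_eq, List.all_eq_true, bne_iff_ne, ne_eq,
    List.isEmpty_iff, List.contains_iff_mem] at h
  obtain ⟨⟨⟨⟨⟨⟨⟨⟨⟨⟨⟨⟨⟨⟨hα, hβ⟩, hδ⟩, hw⟩, hpr⟩, hne⟩, hneg⟩, hT⟩, hne'⟩, hneg'⟩, hT'⟩, hE1⟩, hE2⟩, hE3⟩,
    ⟨hr1, hr2⟩, hsteps2⟩ := h
  have hw' : IsWd fd.l w := fun j hj => hw j hj
  -- notation
  generalize hhdef : TdG (hExp D fd fx δ) k hk0 = hh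
  generalize hxdef : C.c6.c2.xA α (1 : F) = x
  generalize hydef : C.c6.c2.xA β (1 : F) = y
  have hhG : hh ∈ D.group F := by rw [← hhdef]; exact TdG_mem_group C.c6 δ hδ k hk0
  have hxG : x ∈ D.group F := by rw [← hxdef]; exact C.c6.c2.xA_mem_group _ _
  have hyG : y ∈ D.group F := by rw [← hydef]; exact C.c6.c2.xA_mem_group _ _
  refine ⟨y * hh * y⁻¹ * x, C.wordN F w,
    mul_mem (mul_mem (mul_mem hyG hhG) (inv_mem hyG)) hxG, wordN_mem_group C F w, ?_⟩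
  generalize hM : Subgroup.closure
    ({y * hh * y⁻¹ * x, C.wordN F w} : Set (GL D.Idx F)) = M
  have hnM : C.wordN F w ∈ M := by rw [← hM]; exact Subgroup.subset_closure (by simp)
  have haM : y * hh * y⁻¹ * x ∈ M := by rw [← hM]; exact Subgroup.subset_closure (by simp)
  have hyx : Commute y x := by
    rw [← hxdef, ← hydef]
    exact (xA_commute C.c6 α β hα hβ hne hneg hT 1 1).symm
  have hhx : Commute hh x := by
    rw [← hxdef, ← hhdef]
    have := TdG_conj_x C.c6.c2 δ α hδ hα k hk0 1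
    rw [hpr, zpow_zero, one_mul] at this
    exact mul_inv_eq_iff_eq_mul.mp this
  have htx : Commute (y * hh * y⁻¹) x := (hyx.mul_left hhx).mul_left hyx.inv_left
  have htpow : (y * hh * y⁻¹) ^ (Fintype.card F - 1) = 1 := by
    rw [conj_pow, ← hhdef, TdG_pow_card_sub_one, mul_one, mul_inv_cancel]
  obtain ⟨hxM, htM⟩ := sep_of_commute _ _ htx (Fintype.card F - 1) htpow (by
      have : Fintype.card F - 1 + 1 = Fintype.card F := Nat.sub_add_cancel Fintype.card_pos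
      rw [this, ← hxdef]; exact xA_pow_card C.c6 α 1) M haM
  have hperm := C.perm_wordN (F := F) w hw'
  rw [← hxdef] at hxM
  obtain ⟨hα', c', hc', hm⟩ := exists_mem_iterate C.c6 M _ hnM _ hperm α hα 1 one_ne_zero hxM i
  generalize hα'def : (fd.wordP fx w)^[i] α = α' at *
  -- `t` acts on `X_{α'}`
  have hact1 : ∀ u : F, (y * hh * y⁻¹) * C.c6.c2.xA α' u * (y * hh * y⁻¹)⁻¹ =
      C.c6.c2.xA α' (k ^ fd.pr α' δ * u) := by
    intro u
    have hy1 : ∀ v : F, Commute y (C.c6.c2.xA α' v) := by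
      intro v
      rw [← hydef]
      exact (xA_commute C.c6 α' β hα' hβ hne' hneg' hT' v 1).symm
    have e1 : (y * hh * y⁻¹) * C.c6.c2.xA α' u * (y * hh * y⁻¹)⁻¹ =
        y * (hh * (y⁻¹ * C.c6.c2.xA α' u * y) * hh⁻¹) * y⁻¹ := by group
    have e2 : y⁻¹ * C.c6.c2.xA α' u * y = C.c6.c2.xA α' u := by
      rw [(hy1 u).inv_left.eq, inv_mul_cancel_right]
    rw [e1, e2, ← hhdef, TdG_conj_x C.c6.c2 δ α' hδ hα' k hk0 u,
      (hy1 _).eq, mul_inv_cancel_right]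
  have good0 : GoodIn C.c6 M α' :=
    goodIn_of_fill C.c6 M _ hα' c' hc' hm _ htM (k ^ fd.pr α' δ) (hokE _ hE1) hact1
  have hπ : ∀ s, GoodIn C.c6 M s → GoodIn C.c6 M (fd.wordP fx w s) :=
    fun s hs => goodIn_perm C.c6 M _ hnM _ hperm s hs
  have hgood1 : ∀ s ∈ G1, GoodIn C.c6 M s :=
    runSteps_sound C.c6 M (fd.wordP fx w) hπ ok hok steps1 _ G1
      (by intro s hs; rw [List.mem_singleton] at hs; rw [hs]; exact good0) hG1
  -- the torus element of `r`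
  have hrlt : r < fd.n := (hgood1 r hr1).1
  generalize hgdef : TdG (hExp D fd fx r) k hk0 = g
  have hgM : g ∈ M := by
    rw [← hgdef]; exact TdG_mem_of_good C.c6 M r (hgood1 r hr1) (hgood1 _ hr2) k hk0
  have hgh : Commute g hh := by rw [← hgdef, ← hhdef]; exact TdG_commute _ _ k hk0
  have hact3 : ∀ u : F, g * C.c6.c2.xA β u * g⁻¹ = C.c6.c2.xA β (k ^ fd.pr β r * u) := by
    intro u; rw [← hgdef]; exact TdG_conj_x C.c6.c2 r β hrlt hβ k hk0 u
  have hk3 : k ^ fd.pr β r ≠ 1 := (hokE _ hE3).ne_one hF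
  have hk2 : k ^ fd.pr β δ ≠ 1 := (hokE _ hE2).ne_one hF
  have hk2' : k ^ fd.pr β δ ≠ 0 := zpow_ne_zero _ hk0
  -- a non-trivial element of `X_β` in `M`
  have hz : (y * hh * y⁻¹)⁻¹ * (g * (y * hh * y⁻¹) * g⁻¹) =
      C.c6.c2.xA β ((k ^ fd.pr β r - 1) * ((k ^ fd.pr β δ)⁻¹ - 1)) := by
    have e1 : g * (y * hh * y⁻¹) * g⁻¹ = (g * y * g⁻¹) * (g * hh * g⁻¹) * (g * y * g⁻¹)⁻¹ := by
      group
    have e2 : g * hh * g⁻¹ = hh := by rw [hgh.eq, mul_inv_cancel_right]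
    have e3 : g * y * g⁻¹ = C.c6.c2.xA β (k ^ fd.pr β r) := by
      rw [← hydef, hact3, mul_one]
    rw [e1, e2, e3]
    have e4 : (y * hh * y⁻¹)⁻¹ * (C.c6.c2.xA β (k ^ fd.pr β r) * hh *
        (C.c6.c2.xA β (k ^ fd.pr β r))⁻¹) =
        y * (hh⁻¹ * (y⁻¹ * C.c6.c2.xA β (k ^ fd.pr β r)) * hh) *
          (C.c6.c2.xA β (k ^ fd.pr β r))⁻¹ := by group
    rw [e4, ← hydef, C.c6.c2.xA_inv, C.c6.c2.xA_mul, ← hhdef,
      TdG_inv_conj_x C.c6 δ β hδ hβ k hk0, C.c6.c2.xA_inv, C.c6.c2.xA_mul, C.c6.c2.xA_mul]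
    congr 1
    ring
  have hzM : C.c6.c2.xA β ((k ^ fd.pr β r - 1) * ((k ^ fd.pr β δ)⁻¹ - 1)) ∈ M := by
    rw [← hz]
    exact M.mul_mem (M.inv_mem htM) (M.mul_mem (M.mul_mem hgM htM) (M.inv_mem hgM))
  have hc'' : (k ^ fd.pr β r - 1) * ((k ^ fd.pr β δ)⁻¹ - 1) ≠ 0 := by
    apply mul_ne_zero (sub_ne_zero.mpr hk3)
    rw [sub_ne_zero]
    intro h1
    exact hk2 (inv_eq_one.mp h1)
  have goodβ : GoodIn C.c6 M β :=
    goodIn_of_fill C.c6 M β hβ _ hc'' hzM g hgM (k ^ fd.pr β r) (hokE _ hE3) hact3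
  have hall := chkSteps_sound C.c6 M (fd.wordP fx w) hπ ok hok steps2 (β :: G1) _
    (by
      intro s hs
      rcases List.mem_cons.mp hs with rfl | hs
      · exact goodβ
      · exact hgood1 s hs) hsteps2
  exact group_le_of_pmSimples C.c6 M hall seeds hseeds horb

end Cfsg.Agent.Lib.H12.Gen2
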