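import Mathlib
import Cfsg.Agent.Lib.H29.ChevGen39
import Cfsg.Agent.Lib.H12.Gen2A

/-!
# Two-element generation of Chevalley groups over the field with two elements (helper12)

`a = x_α(1) x_β(1)` with `α` and `β` commuting, `b = n_w`: commutators of `a` with its conjugates
under the powers of `b` give root elements.
-/

set_option autoImplicit false
set_option linter.unusedSectionVars false
set_option linter.unusedVariables false

namespace Cfsg.Agent.Lib.H12.Gen2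

open Cfsg.Lie Cfsg.Agent.Lib.H29.Chev Cfsg.Agent.Lib.H12.ChevNX Cfsg.Agent.Lib.H12.ChevSL2

variable {D : ChevalleyDatum} {fd : FD} {fx : FX} {fc : FC} {fz : FZ}

/-- the roots `r`, `s` have no commutator term -/
def commB (fd : FD) (r s : ℕ) : Bool :=
  (s != r) && (s != fd.n - 1 - r) && (fd.commT r s).isEmpty

/-- the commutator of `r`, `s` is the single term `γ = r + s` with an invertible coefficient -/
def singleT (fd : FD) (ok : ℤ → Bool) (r s γ : ℕ) : Bool :=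
  (s != r) && (s != fd.n - 1 - r) &&
  match fd.commT r s with
  | [(g, N, 1, 1)] => (g == γ) && ok N
  | _ => false

/-- the data check over the field with two elements -/
def chkD (fd : FD) (fx : FX) (ok : ℤ → Bool) (w : List ℕ) (α β j1 j2 γ1 γ2 : ℕ)
    (steps : List (ℕ × ℕ × ℕ × ℕ)) : Bool :=
  decide (α < fd.n) && decide (β < fd.n) && w.all (fun j => decide (j < fd.l)) &&
  commB fd α β &&
  commB fd α ((fd.wordP fx w)^[j1] α) && commB fd α ((fd.wordP fx w)^[j1] β) &&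
  commB fd ((fd.wordP fx w)^[j1] α) β &&
  commB fd ((fd.wordP fx w)^[j1] α) ((fd.wordP fx w)^[j1] β) &&
  singleT fd ok β ((fd.wordP fx w)^[j1] β) γ1 &&
  commB fd β ((fd.wordP fx w)^[j2] β) && commB fd β ((fd.wordP fx w)^[j2] α) &&
  commB fd ((fd.wordP fx w)^[j2] β) α &&
  commB fd ((fd.wordP fx w)^[j2] β) ((fd.wordP fx w)^[j2] α) &&
  singleT fd ok α ((fd.wordP fx w)^[j2] α) γ2 &&
  chkSteps fd (fd.wordP fx w) ok steps [γ1, γ2] (pmSimples fd)

section lemmas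

variable {F : Type*} [Field F] (C : Cert6 D fd fx fc)
include C

theorem commute_of_commB (r s : ℕ) (hr : r < fd.n) (hs : s < fd.n) (h : commB fd r s = true)
    (t u : F) : Commute (C.c2.xA r t) (C.c2.xA s u) := by
  simp only [commB, Bool.and_eq_true, bne_iff_ne, ne_eq, List.isEmpty_iff] at h
  exact xA_commute C r s hr hs h.1.1 h.1.2 h.2 t u

/-- the conjugates of a root element under the powers of an element of `N` -/
theorem iterate_conj (n : GL D.Idx F) (π : ℕ → ℕ) (hπ : C.c2.Perm n π) (s : ℕ) (hs : s < fd.n)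
    (j : ℕ) : π^[j] s < fd.n ∧ ∃ c : F, c ≠ 0 ∧
      ∀ t, n ^ j * C.c2.xA s t * (n ^ j)⁻¹ = C.c2.xA (π^[j] s) (c * t) := by
  induction j with
  | zero => exact ⟨hs, 1, one_ne_zero, fun t => by simp⟩
  | succ j ih =>
    obtain ⟨h1, c, hc, hconj⟩ := ih
    rw [Function.iterate_succ_apply']
    obtain ⟨h2, d, hd0, hd⟩ := perm_exists_ne_zero C n π hπ _ h1
    refine ⟨h2, d * c, mul_ne_zero hd0 hc, fun t => ?_⟩
    have : n ^ (j + 1) * C.c2.xA s t * (n ^ (j + 1))⁻¹ =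
        n * (n ^ j * C.c2.xA s t * (n ^ j)⁻¹) * n⁻¹ := by
      rw [pow_succ']; group
    rw [this, hconj, hd, mul_assoc]

/-- a single-term commutator as a root element -/
theorem xA_of_singleT (ok : ℤ → Bool) (hok : ∀ N : ℤ, ok N = true → ((N : ℤ) : F) ≠ 0)
    (r s γ : ℕ) (hr : r < fd.n) (hs : s < fd.n) (h : singleT fd ok r s γ = true) :
    γ < fd.n ∧ ∃ c : F, c ≠ 0 ∧ C.c2.xA γ c =
      C.c2.xA s 1 * C.c2.xA r 1 * (C.c2.xA s 1)⁻¹ * (C.c2.xA r 1)⁻¹ := by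
  unfold singleT at h
  split at h
  · rename_i g N hT
    simp only [Bool.and_eq_true, bne_iff_ne, ne_eq, beq_iff_eq] at h
    obtain ⟨⟨hne, hneg⟩, hg, hN⟩ := h
    obtain ⟨hlt, hcf⟩ := C.c5.c3.cf_all (F := F) C.c5.cf _ r s hr hs hne hneg rfl
    rw [hT] at hlt
    have hγ : g < fd.n := hlt (g, N, 1, 1) (by simp)
    rw [← hg]
    refine ⟨hγ, -((N : ℤ) : F), neg_ne_zero.mpr (hok N hN), ?_⟩
    have h1 := hcf (-1) (-1)
    rw [hT] at h1
    unfold Cert2.ctG at h1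
    simp only [List.map_cons, List.map_nil, List.prod_cons, List.prod_nil, mul_one, neg_neg,
      pow_one] at h1
    have h2 : C.c2.xA g (((N : ℤ) : F) * -1) =
        (C.c2.xA r (-1) * C.c2.xA s (-1))⁻¹ * (C.c2.xA s (-1) * C.c2.xA r (-1)) := by
      rw [h1]; group
    have e : -((N : ℤ) : F) = ((N : ℤ) : F) * -1 := by ring
    rw [e, h2, C.c2.xA_inv, C.c2.xA_inv, ← C.c2.xA_inv s 1, ← C.c2.xA_inv r 1]
    group
  · simp at h

end lemmas

theorem designD (C : Cert12 D fd fx fc fz) (F : Type*) [Field F] [Fintype F]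
    (hF2 : Fintype.card F = 2) (ok : ℤ → Bool)
    (hok : ∀ N : ℤ, ok N = true → ((N : ℤ) : F) ≠ 0)
    (w : List ℕ) (α β j1 j2 γ1 γ2 : ℕ) (steps : List (ℕ × ℕ × ℕ × ℕ))
    (h : chkD fd fx ok w α β j1 j2 γ1 γ2 steps = true)
    (seeds : List ℕ) (hseeds : ∀ s ∈ seeds, ∃ i < fd.l, s = fd.simples.getD i 0)
    (horb : chkAll fd fx seeds 32 = true) :
    ∃ a b : GL D.Idx F, a ∈ D.group F ∧ b ∈ D.group F ∧
      D.group F ≤ Subgroup.closure {a, b} := by
  simp only [chkD, Bool.and_eq_true, decide_eq_true_eq, List.all_eq_true] at h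
  obtain ⟨⟨⟨⟨⟨⟨⟨⟨⟨⟨⟨⟨⟨⟨hα, hβ⟩, hw⟩, hab⟩, h11⟩, h12⟩, h13⟩, h14⟩, hs1⟩, h21⟩, h22⟩, h23⟩, h24⟩,
    hs2⟩, hsteps⟩ := h
  have hw' : IsWd fd.l w := fun j hj => hw j hj
  have hone : ∀ c : F, c ≠ 0 → c = 1 := by
    intro c hc
    have := FiniteField.pow_card_sub_one_eq_one c hc
    rwa [hF2, show 2 - 1 = 1 from rfl, pow_one] at this
  refine ⟨C.c6.c2.xA α (1 : F) * C.c6.c2.xA β (1 : F), C.wordN F w,
    mul_mem (C.c6.c2.xA_mem_group _ _) (C.c6.c2.xA_mem_group _ _), wordN_mem_group C F w, ?_⟩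
  generalize hM : Subgroup.closure
    ({C.c6.c2.xA α (1 : F) * C.c6.c2.xA β (1 : F), C.wordN F w} : Set (GL D.Idx F)) = M
  have hnM : C.wordN F w ∈ M := by rw [← hM]; exact Subgroup.subset_closure (by simp)
  have haM : C.c6.c2.xA α (1 : F) * C.c6.c2.xA β (1 : F) ∈ M := by
    rw [← hM]; exact Subgroup.subset_closure (by simp)
  have hperm := C.perm_wordN (F := F) w hw'
  -- the conjugates of `a`
  have hconj : ∀ j : ℕ, (fd.wordP fx w)^[j] α < fd.n ∧ (fd.wordP fx w)^[j] β < fd.n ∧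
      C.c6.c2.xA ((fd.wordP fx w)^[j] α) (1 : F) * C.c6.c2.xA ((fd.wordP fx w)^[j] β) (1 : F) ∈ M := by
    intro j
    obtain ⟨ha1, c1, hc1, hx1⟩ := iterate_conj C.c6 (C.wordN F w) _ hperm α hα j
    obtain ⟨hb1, c2, hc2, hx2⟩ := iterate_conj C.c6 (C.wordN F w) _ hperm β hβ j
    refine ⟨ha1, hb1, ?_⟩
    have e : C.wordN F w ^ j * (C.c6.c2.xA α (1 : F) * C.c6.c2.xA β (1 : F)) *
        (C.wordN F w ^ j)⁻¹ =
        (C.wordN F w ^ j * C.c6.c2.xA α (1 : F) * (C.wordN F w ^ j)⁻¹) *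
          (C.wordN F w ^ j * C.c6.c2.xA β (1 : F) * (C.wordN F w ^ j)⁻¹) := by group
    have := M.mul_mem (M.mul_mem (M.pow_mem hnM j) haM) (M.inv_mem (M.pow_mem hnM j))
    rw [e, hx1, hx2, mul_one, mul_one, hone c1 hc1, hone c2 hc2] at this
    exact this
  have hgood : ∀ γ : ℕ, γ < fd.n → (∃ c : F, c ≠ 0 ∧ C.c6.c2.xA γ c ∈ M) → GoodIn C.c6 M γ := by
    rintro γ hγ ⟨c, hc, hm⟩
    refine ⟨hγ, fun t => ?_⟩
    by_cases ht : t = 0
    · rw [ht, C.c6.c2.xA_zero]; exact one_mem _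
    · rw [hone t ht, ← hone c hc]; exact hm
  -- the first root element
  obtain ⟨hα1, hβ1, hm1⟩ := hconj j1
  obtain ⟨hγ1, c1, hc1, he1⟩ := xA_of_singleT C.c6 ok hok β _ γ1 hβ hβ1 hs1
  have good1 : GoodIn C.c6 M γ1 := by
    apply hgood γ1 hγ1 ⟨c1, hc1, ?_⟩
    rw [he1, ← comm_of_central (C.c6.c2.xA ((fd.wordP fx w)^[j1] α) (1 : F))
      (C.c6.c2.xA ((fd.wordP fx w)^[j1] β) (1 : F)) (C.c6.c2.xA α (1 : F)) (C.c6.c2.xA β (1 : F))
      (commute_of_commB C.c6 _ _ hα1 hβ1 h14 1 1)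
      (commute_of_commB C.c6 _ _ hα hα1 h11 1 1).symm
      (commute_of_commB C.c6 _ _ hα1 hβ h13 1 1)
      (commute_of_commB C.c6 _ _ hα hβ1 h12 1 1)
      (commute_of_commB C.c6 _ _ hα hβ hab 1 1)]
    exact M.mul_mem (M.mul_mem (M.mul_mem hm1 haM) (M.inv_mem hm1)) (M.inv_mem haM)
  -- the second root element
  obtain ⟨hα2, hβ2, hm2⟩ := hconj j2
  obtain ⟨hγ2, c2, hc2, he2⟩ := xA_of_singleT C.c6 ok hok α _ γ2 hα hα2 hs2
  have hab' : Commute (C.c6.c2.xA α (1 : F)) (C.c6.c2.xA β (1 : F)) :=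
    commute_of_commB C.c6 _ _ hα hβ hab 1 1
  have hab2 : Commute (C.c6.c2.xA ((fd.wordP fx w)^[j2] β) (1 : F))
      (C.c6.c2.xA ((fd.wordP fx w)^[j2] α) (1 : F)) :=
    commute_of_commB C.c6 _ _ hβ2 hα2 h24 1 1
  have good2 : GoodIn C.c6 M γ2 := by
    apply hgood γ2 hγ2 ⟨c2, hc2, ?_⟩
    rw [he2, ← comm_of_central (C.c6.c2.xA ((fd.wordP fx w)^[j2] β) (1 : F))
      (C.c6.c2.xA ((fd.wordP fx w)^[j2] α) (1 : F)) (C.c6.c2.xA β (1 : F)) (C.c6.c2.xA α (1 : F))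
      hab2
      (commute_of_commB C.c6 _ _ hβ hβ2 h21 1 1).symm
      (commute_of_commB C.c6 _ _ hβ2 hα h23 1 1)
      (commute_of_commB C.c6 _ _ hβ hα2 h22 1 1)
      hab'.symm, hab2.eq, ← hab'.eq]
    exact M.mul_mem (M.mul_mem (M.mul_mem hm2 haM) (M.inv_mem hm2)) (M.inv_mem haM)
  have hπ : ∀ s, GoodIn C.c6 M s → GoodIn C.c6 M (fd.wordP fx w s) :=
    fun s hs => goodIn_perm C.c6 M _ hnM _ hperm s hs
  have hall := chkSteps_sound C.c6 M (fd.wordP fx w) hπ ok hok steps [γ1, γ2] _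
    (by
      intro s hs
      rw [List.mem_cons, List.mem_singleton] at hs
      rcases hs with rfl | rfl
      · exact good1
      · exact good2) hsteps
  exact group_le_of_pmSimples C.c6 M hall seeds hseeds horb

end Cfsg.Agent.Lib.H12.Gen2
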