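import Mathlib
import Cfsg.Agent.Lib.H12.Gen2A
import Cfsg.Agent.Lib.H12.Gen2B
import Cfsg.Agent.Lib.H12.Gen2D
import Cfsg.Agent.Lib.H12.ChevNXB

/-!
# Two-element generation of the Chevalley groups of type `G₂`, `F₄`, `E₆`, `E₇`, `E₈` (helper12)

The certificates (found by a search on the root tables) and the resulting theorems.
-/

set_option autoImplicit false
set_option linter.unusedSectionVars false
set_option linter.unusedVariables false

namespace Cfsg.Agent.Lib.H12.Gen2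

open Cfsg.Lie Cfsg.Agent.Lib.H29.Chev Cfsg.Agent.Lib.H12.ChevNX

/-- coefficients `±1` -/
def okOne (N : ℤ) : Bool := N.natAbs == 1
/-- coefficients `±1, ±3` -/
def okOneThree (N : ℤ) : Bool := N.natAbs == 1 || N.natAbs == 3
/-- coefficients prime to 3 -/
def okNot3 (N : ℤ) : Bool := N.natAbs % 3 != 0
/-- odd coefficients -/
def okOdd (N : ℤ) : Bool := N.natAbs % 2 == 1

theorem dataA_E6 : chkA fdE6 fxE6 okOne okOne [0, 1, 2, 3, 4, 5] 2 13 3
    [(0, 33, 0, 0), (0, 62, 0, 0), (0, 68, 0, 0), (0, 53, 0, 0), (0, 66, 0, 0), (1, 33, 45, 0), (1, 66, 43, 0), (0, 45, 0, 0), (0, 43, 0, 0), (0, 70, 0, 0), (0, 14, 0, 0), (0, 48, 0, 0), (0, 55, 0, 0), (1, 33, 21, 0), (1, 33, 41, 0), (1, 45, 19, 0), (0, 60, 0, 0), (0, 19, 0, 0), (0, 39, 0, 0), (0, 25, 0, 0), (1, 33, 32, 0), (1, 33, 37, 0), (1, 33, 13, 0), (1, 45, 30, 0), (1, 19, 42, 0), (0, 15, 0, 0), (0, 32, 0, 0), (0, 37, 0, 0), (0, 11, 0, 0), (0, 22, 0, 0)] =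 true := by
  decide +kernel

theorem dataA_E7 : chkA fdE7 fxE7 okOne okOne [0, 1, 2, 3, 4, 5, 6] 12 26 3
    [(0, 49, 0, 0), (1, 49, 43, 0), (0, 43, 0, 0), (0, 33, 0, 0), (0, 78, 0, 0), (0, 53, 0, 0), (0, 95, 0, 0), (0, 99, 0, 0), (0, 84, 0, 0), (0, 109, 0, 0), (0, 104, 0, 0), (0, 119, 0, 0), (0, 113, 0, 0), (0, 125, 0, 0), (1, 49, 88, 0), (1, 49, 124, 0), (0, 88, 0, 0), (0, 79, 0, 0), (0, 120, 0, 0), (0, 107, 0, 0), (0, 96, 0, 0), (0, 115, 0, 0), (0, 76, 0, 0), (0, 85, 0, 0), (0, 122, 0, 0), (0, 82, 0, 0), (0, 105, 0, 0), (0, 117, 0, 0), (1, 49, 47, 0), (1, 49, 75, 0), (1, 88, 40, 0), (0, 75, 0, 0), (0, 91, 0, 0), (0, 40, 0, 0), (0, 61, 0, 0), (0, 69, 0, 0), (1, 49, 71, 0), (1, 49, 20, 0), (1, 43, 52, 0), (1, 88, 8, 0), (0, 81, 0, 0), (0, 66, 0, 0), (0, 39, 0, 0), (0, 27, 0, 0), (0, 98, 0, 0), (0, 64, 0, 0), (0, 56, 0, 0), (0, 93, 0, 0)] = true := by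
  decide +kernel

theorem dataA_E8 : chkA fdE8 fxE8 okOne okOne [0, 1, 2, 3, 4, 5, 6, 7] 6 78 2
    [(0, 14, 0, 0), (0, 8, 0, 0), (0, 16, 0, 0), (0, 22, 0, 0), (0, 37, 0, 0), (0, 79, 0, 0), (0, 106, 0, 0), (0, 110, 0, 0), (0, 170, 0, 0), (0, 185, 0, 0), (0, 205, 0, 0), (0, 227, 0, 0), (1, 14, 219, 0), (0, 219, 0, 0), (0, 93, 0, 0), (1, 14, 233, 0), (1, 219, 162, 0), (0, 233, 0, 0), (0, 162, 0, 0), (0, 226, 0, 0), (0, 232, 0, 0), (0, 135, 0, 0), (0, 234, 0, 0), (0, 225, 0, 0), (0, 142, 0, 0), (0, 235, 0, 0), (0, 231, 0, 0), (0, 165, 0, 0), (0, 236, 0, 0), (1, 14, 223, 0), (1, 141, 97, 0), (0, 223, 0, 0), (0, 237, 0, 0), (0, 109, 0, 0), (1, 14, 217, 0), (1, 14, 238, 0), (1, 149, 91, 0), (0, 238, 0, 0), (0, 113, 0, 0), (0, 167, 0, 0), (0, 123, 0, 0), (1, 14, 239, 0), (0, 239, 0, 0), (0, 116, 0, 0), (0, 151, 0, 0), (0, 121, 0, 0), (0, 168, 0, 0), (1, 14, 224, 0), (0, 118, 0, 0), (0, 130, 0, 0), (0, 77, 0,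 0)] = true := by
  decide +kernel

theorem dataA_G2 : chkA fdG2 fxG2 okOneThree okOne [0, 1] 2 5 1
    [(0, 3, 0, 0), (1, 3, 7, 0), (0, 7, 0, 0), (0, 5, 0, 0), (0, 9, 0, 0), (0, 10, 0, 0), (0, 8, 0, 0), (0, 11, 0, 0)] = true := by
  decide +kernel

theorem dataB_G2 : chkB fdG2 fxG2 okNot3 okOneThree [0, 1] 3 5 1 1 7
    [(0, 7, 0, 0), (0, 9, 0, 0), (0, 8, 0, 0)]
    [(0, 5, 0, 0), (1, 5, 8, 2), (1, 4, 10, 2)] = true := by
  decide +kernel

theorem dataB_F4 : chkB fdF4 fxF4 okOne okOne [0, 1, 2, 3] 0 11 17 1 21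
    [(0, 15, 0, 0), (0, 21, 0, 0), (0, 41, 0, 0), (0, 45, 0, 0), (0, 46, 0, 0), (0, 47, 0, 0), (0, 32, 0, 0)]
    [(0, 11, 0, 0), (0, 26, 0, 0), (1, 15, 6, 0), (1, 21, 32, 0), (1, 45, 6, 0), (1, 45, 1, 0), (1, 47, 1, 0), (1, 33, 30, 0), (1, 6, 37, 0), (0, 33, 0, 0), (0, 31, 0, 0), (0, 22, 0, 0), (0, 14, 0, 0)] = true := by
  decide +kernel

theorem dataD_F4 : chkD fdF4 fxF4 okOdd [0, 1, 2, 3] 1 33 1 5 34 22
    [(0, 34, 0, 0), (0, 22, 0, 0), (1, 22, 23, 0), (0, 37, 0, 0), (0, 23, 0, 0), (0, 44, 0, 0), (0, 42, 0, 0), (0, 40, 0, 0), (0, 30, 0, 0), (0, 39, 0, 0), (0, 43, 0, 0), (1, 21, 29, 0), (0, 29, 0, 0), (0, 31, 0, 0), (1, 27, 13, 0), (0, 25, 0, 0), (0, 14, 0, 0), (1, 34, 20, 0)] = true := by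
  decide +kernel

section coefficients

variable {F : Type*} [Field F]

theorem hok_one : ∀ N : ℤ, okOne N = true → ((N : ℤ) : F) ≠ 0 := by
  intro N hN
  simp only [okOne, beq_iff_eq] at hN
  rcases Int.natAbs_eq N with h | h <;> rw [h, hN] <;> simp

theorem hokE_one {k : F} (hk : IsGen k) : ∀ e : ℤ, okOne e = true → IsGen (k ^ e) := by
  intro e he
  simp only [okOne, beq_iff_eq] at he
  rcases Int.natAbs_eq e with h | h <;> rw [h, he]
  · exact hk.zp1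
  · exact hk.zpm1

theorem hok_oneThree (h3 : ringChar F ≠ 3) : ∀ N : ℤ, okOneThree N = true → ((N : ℤ) : F) ≠ 0 := by
  intro N hN
  simp only [okOneThree, Bool.or_eq_true, beq_iff_eq] at hN
  have h3' := three_ne_zero_of (K := F) h3
  rcases hN with hN | hN
  · rcases Int.natAbs_eq N with h | h <;> rw [h, hN] <;> simp
  · rcases Int.natAbs_eq N with h | h <;> rw [h, hN]
    · simpa using h3'
    · simpa using h3'

theorem hok_not3 [CharP F 3] : ∀ N : ℤ, okNot3 N = true → ((N : ℤ) : F) ≠ 0 := by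
  intro N hN
  simp only [okNot3, bne_iff_ne, ne_eq] at hN
  rw [Ne, CharP.intCast_eq_zero_iff F 3 N]
  intro hdvd
  apply hN
  have : ((3 : ℕ) : ℤ) ∣ N := hdvd
  rw [Int.natCast_dvd] at this
  exact Nat.mod_eq_zero_of_dvd this

theorem hokE_oneThree [Finite F] [CharP F 3] {k : F} (hk : IsGen k) :
    ∀ e : ℤ, okOneThree e = true → IsGen (k ^ e) := by
  intro e he
  simp only [okOneThree, Bool.or_eq_true, beq_iff_eq] at he
  rcases he with he | he
  · rcases Int.natAbs_eq e with h | h <;> rw [h, he]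
    · exact hk.zp1
    · exact hk.zpm1
  · rcases Int.natAbs_eq e with h | h <;> rw [h, he]
    · exact hk.zp3
    · exact hk.zpm3

theorem hok_odd [Fintype F] (hF2 : Fintype.card F = 2) :
    ∀ N : ℤ, okOdd N = true → ((N : ℤ) : F) ≠ 0 := by
  intro N hN
  simp only [okOdd, beq_iff_eq] at hN
  have h2 : (2 : F) = 0 := by
    have := Nat.cast_card_eq_zero F
    rw [hF2] at this
    exact_mod_cast this
  have hodd : N % 2 = 1 := by omega
  have hN' : N = 2 * (N / 2) + 1 := by omega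
  rw [hN']
  push_cast
  rw [h2, zero_mul, zero_add]
  exact one_ne_zero

end coefficients

section main

variable (F : Type*) [Field F] [Finite F]

theorem gen_E6 : ∃ a b : ↥(chevE6.group F), Subgroup.closure ({a, b} : Set ↥(chevE6.group F)) = ⊤ := by
  have := Fintype.ofFinite F
  obtain ⟨k, hk0, hk⟩ := exists_isGen (F := F)
  obtain ⟨a, b, ha, hb, hle⟩ := designA cert12_E6 F k hk0 okOne okOne hok_one (hokE_one hk)
    _ _ _ _ _ dataA_E6 [fdE6.simples.getD 0 0]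
    (by intro s hs; rw [List.mem_singleton] at hs; exact ⟨0, by decide, hs⟩) (orbE6 0 (by decide))
  exact two_gen_of_le _ a b ha hb hle

theorem gen_E7 : ∃ a b : ↥(chevE7.group F), Subgroup.closure ({a, b} : Set ↥(chevE7.group F)) = ⊤ := by
  have := Fintype.ofFinite F
  obtain ⟨k, hk0, hk⟩ := exists_isGen (F := F)
  obtain ⟨a, b, ha, hb, hle⟩ := designA cert12_E7 F k hk0 okOne okOne hok_one (hokE_one hk)
    _ _ _ _ _ dataA_E7 [fdE7.simples.getD 0 0]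
    (by intro s hs; rw [List.mem_singleton] at hs; exact ⟨0, by decide, hs⟩) (orbE7 0 (by decide))
  exact two_gen_of_le _ a b ha hb hle

theorem gen_E8 : ∃ a b : ↥(chevE8.group F), Subgroup.closure ({a, b} : Set ↥(chevE8.group F)) = ⊤ := by
  have := Fintype.ofFinite F
  obtain ⟨k, hk0, hk⟩ := exists_isGen (F := F)
  obtain ⟨a, b, ha, hb, hle⟩ := designA cert12_E8 F k hk0 okOne okOne hok_one (hokE_one hk)
    _ _ _ _ _ dataA_E8 [fdE8.simples.getD 0 0]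
    (by intro s hs; rw [List.mem_singleton] at hs; exact ⟨0, by decide, hs⟩) (orbE8 0 (by decide))
  exact two_gen_of_le _ a b ha hb hle

theorem seedsG2 : ∀ s ∈ [fdG2.simples.getD 0 0, fdG2.simples.getD 1 0],
    ∃ i < fdG2.l, s = fdG2.simples.getD i 0 := by
  intro s hs
  rw [List.mem_cons, List.mem_singleton] at hs
  rcases hs with rfl | rfl
  · exact ⟨0, by decide, rfl⟩
  · exact ⟨1, by decide, rfl⟩

theorem seedsF4 : ∀ s ∈ [fdF4.simples.getD 0 0, fdF4.simples.getD (0 + 2) 0],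
    ∃ i < fdF4.l, s = fdF4.simples.getD i 0 := by
  intro s hs
  rw [List.mem_cons, List.mem_singleton] at hs
  rcases hs with rfl | rfl
  · exact ⟨0, by decide, rfl⟩
  · exact ⟨2, by decide, rfl⟩

theorem gen_G2 (hF : ∃ x : F, x ≠ 0 ∧ x ≠ 1) :
    ∃ a b : ↥(chevG2.group F), Subgroup.closure ({a, b} : Set ↥(chevG2.group F)) = ⊤ := by
  have := Fintype.ofFinite F
  obtain ⟨k, hk0, hk⟩ := exists_isGen (F := F)
  by_cases h3 : ringChar F = 3
  · have : CharP F 3 := by rw [← h3]; exact ringChar.charP F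
    obtain ⟨a, b, ha, hb, hle⟩ := designB cert12_G2 F hF k hk0 okNot3 okOneThree hok_not3
      (hokE_oneThree hk) _ _ _ _ _ _ _ _ dataB_G2 _ seedsG2 pairG2
    exact two_gen_of_le _ a b ha hb hle
  · obtain ⟨a, b, ha, hb, hle⟩ := designA cert12_G2 F k hk0 okOneThree okOne (hok_oneThree h3)
      (hokE_one hk) _ _ _ _ _ dataA_G2 _ seedsG2 pairG2
    exact two_gen_of_le _ a b ha hb hle

theorem gen_F4 : ∃ a b : ↥(chevF4.group F), Subgroup.closure ({a, b} : Set ↥(chevF4.group F)) = ⊤ := by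
  have := Fintype.ofFinite F
  by_cases h2 : Fintype.card F = 2
  · obtain ⟨a, b, ha, hb, hle⟩ := designD cert12_F4 F h2 okOdd (hok_odd h2) _ _ _ _ _ _ _ _
      dataD_F4 _ seedsF4 (pairF4 0 (by decide) 0 (by decide))
    exact two_gen_of_le _ a b ha hb hle
  · have hF : ∃ x : F, x ≠ 0 ∧ x ≠ 1 := by
      classical
      by_contra hcon0
      have hcon : ∀ x : F, x ≠ 0 → x = 1 := by
        intro x hx
        by_contra hx1
        exact hcon0 ⟨x, hx, hx1⟩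
      apply h2
      apply le_antisymm
      · have : (Finset.univ : Finset F) ⊆ {0, 1} := by
          intro x _
          by_cases hx : x = 0
          · simp [hx]
          · simp [hcon x hx]
        calc Fintype.card F = (Finset.univ : Finset F).card := rfl
          _ ≤ ({0, 1} : Finset F).card := Finset.card_le_card this
          _ ≤ 2 := Finset.card_le_two
      · exact Fintype.one_lt_card
    obtain ⟨k, hk0, hk⟩ := exists_isGen (F := F)
    obtain ⟨a, b, ha, hb, hle⟩ := designB cert12_F4 F hF k hk0 okOne okOne hok_one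
      (hokE_one hk) _ _ _ _ _ _ _ _ dataB_F4 _ seedsF4 (pairF4 0 (by decide) 0 (by decide))
    exact two_gen_of_le _ a b ha hb hle

end main

end Cfsg.Agent.Lib.H12.Gen2
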