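import Mathlib
import Cfsg.Agent.Lib.H13.AutPSLBasic
import Cfsg.Agent.Lib.H2.SLGen

set_option autoImplicit false

/-!
# Subgroups of `SL_n(F)` containing all transvections with a given centre

`Cen H` is the set of vectors `w` such that every transvection `1 + w ⊗ φ` (`φ w = 0`) lies in
`H`.  It is an `H`-invariant subspace, and `H = ⊤` as soon as it is everything.
-/

namespace Cfsg.Agent.Lib.H12.Gen3

open Matrix Cfsg.Agent.Lib.H13.AutPSL

variable {n : ℕ} {F : Type*} [Field F]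

theorem tv_zero_left (φ : Fin n → F) (h : φ ⬝ᵥ (0 : Fin n → F) = 0) : tv 0 φ h = 1 := by
  apply Subtype.ext
  rw [tv_coe, tm_zero_left]; rfl

theorem coe_mul_inv (g : SpecialLinearGroup (Fin n) F) :
    g.1 * (g⁻¹ : SpecialLinearGroup (Fin n) F).1 = 1 := by
  have := congrArg Subtype.val (mul_inv_cancel g)
  exact this

theorem coe_inv_mul (g : SpecialLinearGroup (Fin n) F) :
    (g⁻¹ : SpecialLinearGroup (Fin n) F).1 * g.1 = 1 := by
  have := congrArg Subtype.val (inv_mul_cancel g)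
  exact this

theorem tm_smul_left (c : F) (w φ : Fin n → F) : tm (c • w) φ = tm w (c • φ) := by
  unfold tm
  rw [smul_vecMulVec, vecMulVec_smul]

/-- conjugation of a transvection by an element of `SL` -/
theorem conj_tv (g : SpecialLinearGroup (Fin n) F) (v φ : Fin n → F) (h : φ ⬝ᵥ v = 0)
    (h' : (φ ᵥ* (g⁻¹ : SpecialLinearGroup (Fin n) F).1) ⬝ᵥ (g.1 *ᵥ v) = 0) :
    g * tv v φ h * g⁻¹ = tv (g.1 *ᵥ v) (φ ᵥ* (g⁻¹ : SpecialLinearGroup (Fin n) F).1) h' := by
  apply Subtype.ext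
  have h1 : g.1 * (g⁻¹ : SpecialLinearGroup (Fin n) F).1 = 1 := coe_mul_inv g
  show g.1 * tm v φ * (g⁻¹ : SpecialLinearGroup (Fin n) F).1 = tm _ _
  exact conj_tm _ _ h1 v φ

theorem conj_dot (g : SpecialLinearGroup (Fin n) F) (v φ : Fin n → F) :
    (φ ᵥ* (g⁻¹ : SpecialLinearGroup (Fin n) F).1) ⬝ᵥ (g.1 *ᵥ v) = φ ⬝ᵥ v := by
  have h1 : (g⁻¹ : SpecialLinearGroup (Fin n) F).1 * g.1 = 1 := coe_inv_mul g
  rw [← dotProduct_mulVec, mulVec_mulVec, h1, one_mulVec]

/-- the centres all of whose transvections lie in `H` -/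
def Cen (H : Subgroup (SpecialLinearGroup (Fin n) F)) : Submodule F (Fin n → F) where
  carrier := {w | ∀ (φ : Fin n → F) (h : φ ⬝ᵥ w = 0), tv w φ h ∈ H}
  zero_mem' := by
    intro φ h
    rw [tv_zero_left]; exact H.one_mem
  smul_mem' := by
    intro c w hw φ h
    have h' : (c • φ) ⬝ᵥ w = 0 := by
      rw [smul_dotProduct]; rw [dotProduct_smul] at h; exact h
    have : tv (c • w) φ h = tv w (c • φ) h' := Subtype.ext (tm_smul_left c w φ)
    rw [this]; exact hw _ h'
  add_mem' := by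
    intro w w' hw hw' φ h
    by_cases hdep : w' ∈ Submodule.span F {w}
    · obtain ⟨c, rfl⟩ := Submodule.mem_span_singleton.mp hdep
      have h0 : ((1 + c) • φ) ⬝ᵥ w = 0 := by
        rw [smul_dotProduct]
        have : φ ⬝ᵥ (w + c • w) = (1 + c) • (φ ⬝ᵥ w) := by
          rw [dotProduct_add, dotProduct_smul, smul_eq_mul, smul_eq_mul]; ring
        rw [← this]; exact h
      have : tv (w + c • w) φ h = tv w ((1 + c) • φ) h0 := by
        apply Subtype.ext
        show tm (w + c • w) φ = tm w ((1 + c) • φ)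
        rw [← tm_smul_left, add_smul, one_smul]
      rw [this]; exact hw _ h0
    · obtain ⟨f, hf, hker⟩ := Submodule.exists_le_ker_of_notMem hdep
      have hfw : f w = 0 := hker (Submodule.mem_span_singleton_self w)
      -- the row vector of `(f w')⁻¹ • f`
      set ψ : Fin n → F := fun j => (f w')⁻¹ * f (Pi.single j 1) with hψ
      have hfe : ∀ y : Fin n → F, ψ ⬝ᵥ y = (f w')⁻¹ * f y := by
        intro y
        have hy : y = ∑ j, y j • (Pi.single j 1 : Fin n → F) := by
          ext i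
          simp [Finset.sum_apply, Pi.single_apply]
        conv_rhs => rw [hy, map_sum, Finset.mul_sum]
        unfold dotProduct
        apply Finset.sum_congr rfl
        intro j _
        rw [hψ, map_smul, smul_eq_mul]; ring
      have hψw : ψ ⬝ᵥ w = 0 := by rw [hfe, hfw, mul_zero]
      have hψw' : ψ ⬝ᵥ w' = 1 := by rw [hfe, inv_mul_cancel₀ hf]
      set g := tv w ψ hψw with hg
      have hgH : g ∈ H := hw ψ hψw
      have hgw' : g.1 *ᵥ w' = w + w' := by
        show tm w ψ *ᵥ w' = _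
        rw [tm_mulVec, hψw', one_smul, add_comm]
      have hd : (φ ᵥ* g.1) ⬝ᵥ w' = 0 := by
        rw [← dotProduct_mulVec, hgw']; exact h
      have key := conj_tv g w' (φ ᵥ* g.1) hd (by rw [conj_dot]; exact hd)
      have hval : (φ ᵥ* g.1) ᵥ* (g⁻¹ : SpecialLinearGroup (Fin n) F).1 = φ := by
        have h1 : g.1 * (g⁻¹ : SpecialLinearGroup (Fin n) F).1 = 1 := coe_mul_inv g
        rw [vecMul_vecMul, h1, vecMul_one]
      have : tv (w + w') φ h = g * tv w' (φ ᵥ* g.1) hd * g⁻¹ := by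
        rw [key]
        apply Subtype.ext
        show tm (w + w') φ = tm _ _
        rw [hval, hgw']
      rw [this]
      exact H.mul_mem (H.mul_mem hgH (hw' _ hd)) (H.inv_mem hgH)

theorem mem_cen {H : Subgroup (SpecialLinearGroup (Fin n) F)} {w : Fin n → F} :
    w ∈ Cen H ↔ ∀ (φ : Fin n → F) (h : φ ⬝ᵥ w = 0), tv w φ h ∈ H := Iff.rfl

/-- `Cen H` is `H`-invariant -/
theorem mulVec_mem_cen {H : Subgroup (SpecialLinearGroup (Fin n) F)} {g : SpecialLinearGroup (Fin n) F}
    (hg : g ∈ H) {w : Fin n → F} (hw : w ∈ Cen H) : g.1 *ᵥ w ∈ Cen H := by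
  intro φ h
  have hd : (φ ᵥ* g.1) ⬝ᵥ w = 0 := by rw [← dotProduct_mulVec]; exact h
  have key := conj_tv g w (φ ᵥ* g.1) hd (by rw [conj_dot]; exact hd)
  have hval : (φ ᵥ* g.1) ᵥ* (g⁻¹ : SpecialLinearGroup (Fin n) F).1 = φ := by
    have h1 : g.1 * (g⁻¹ : SpecialLinearGroup (Fin n) F).1 = 1 := coe_mul_inv g
    rw [vecMul_vecMul, h1, vecMul_one]
  have : tv (g.1 *ᵥ w) φ h = g * tv w (φ ᵥ* g.1) hd * g⁻¹ := by
    rw [key]
    apply Subtype.ext
    show tm _ φ = tm _ _
    rw [hval]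
  rw [this]
  exact H.mul_mem (H.mul_mem hg (hw _ hd)) (H.inv_mem hg)

/-- If every centre is good, `H` is everything. -/
theorem eq_top_of_cen (hn : 2 ≤ n) {H : Subgroup (SpecialLinearGroup (Fin n) F)} (h : Cen H = ⊤) :
    H = ⊤ := by
  have : Nontrivial (Fin n) := Fin.nontrivial_iff_two_le.mpr hn
  rw [eq_top_iff, ← Cfsg.Agent.Lib.H2.SL_closure_transvection, Subgroup.closure_le]
  rintro A ⟨i, j, hij, c, rfl⟩
  have hmem : (Pi.single i 1 : Fin n → F) ∈ Cen H := by rw [h]; trivial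
  have hd : (Pi.single j c : Fin n → F) ⬝ᵥ (Pi.single i 1 : Fin n → F) = 0 := by
    rw [single_dotProduct, Pi.single_apply, if_neg (Ne.symm hij), mul_zero]
  have := hmem _ hd
  have heq : tv (Pi.single i 1) (Pi.single j c) hd = SpecialLinearGroup.transvection hij c := by
    apply Subtype.ext
    rw [tv_coe, transvection_coe_eq_tm]
  rw [← heq]; exact this

/-- If all standard basis vectors are good centres, `H` is everything. -/
theorem eq_top_of_single (hn : 2 ≤ n) {H : Subgroup (SpecialLinearGroup (Fin n) F)}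
    (h : ∀ i : Fin n, (Pi.single i 1 : Fin n → F) ∈ Cen H) : H = ⊤ := by
  apply eq_top_of_cen hn
  rw [eq_top_iff]
  intro y _
  have hy : y = ∑ j, y j • (Pi.single j 1 : Fin n → F) := by
    ext i
    simp [Finset.sum_apply, Pi.single_apply]
  rw [hy]
  exact Submodule.sum_mem _ (fun j _ => Submodule.smul_mem _ _ (h j))

end Cfsg.Agent.Lib.H12.Gen3
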