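import Mathlib
import Cfsg.Agent.Lib.H12.Gen3A
import Cfsg.Agent.Lib.H12.Gen3B

set_option autoImplicit false

/-!
# Root subgroups normalised by a hidden torus
-/

namespace Cfsg.Agent.Lib.H12.Gen3

open Matrix Cfsg.Agent.Lib.H13.AutPSL

variable {n : ℕ} {F : Type*} [Field F]

/-- the semisimple and unipotent parts of `s = h u` are powers of `s` -/
theorem split_mem {G : Type*} [Group G] {H : Subgroup G} {s h u : G} (q : ℕ) (hs : s ∈ H)
    (hsu : s = h * u) (hc : Commute h u) (hh : h ^ q = h) (hu : u ^ q = 1) : h ∈ H ∧ u ∈ H := by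
  have h1 : s ^ q = h := by rw [hsu, hc.mul_pow, hh, hu, mul_one]
  have hhH : h ∈ H := by rw [← h1]; exact H.pow_mem hs q
  refine ⟨hhH, ?_⟩
  have : u = h⁻¹ * s := by rw [hsu]; group
  rw [this]
  exact H.mul_mem (H.inv_mem hhH) hs

/-- conjugation with an explicit inverse -/
theorem conj_tv' (A B : SpecialLinearGroup (Fin n) F) (hAB : A * B = 1) (v φ : Fin n → F)
    (h : φ ⬝ᵥ v = 0) (h' : (φ ᵥ* B.1) ⬝ᵥ (A.1 *ᵥ v) = 0) :
    A * tv v φ h * B = tv (A.1 *ᵥ v) (φ ᵥ* B.1) h' := by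
  apply Subtype.ext
  have h1 : A.1 * B.1 = 1 := congrArg Subtype.val hAB
  show A.1 * tm v φ * B.1 = tm _ _
  exact conj_tm _ _ h1 v φ

theorem conj_dot' (A B : SpecialLinearGroup (Fin n) F) (hAB : A * B = 1) (v φ : Fin n → F) :
    (φ ᵥ* B.1) ⬝ᵥ (A.1 *ᵥ v) = φ ⬝ᵥ v := by
  have h1 : B.1 * A.1 = 1 := by
    have : B * A = 1 := mul_eq_one_comm.mp hAB
    exact congrArg Subtype.val this
  rw [← dotProduct_mulVec, mulVec_mulVec, h1, one_mulVec]

theorem tv_congr {v v' φ φ' : Fin n → F} (hv : v = v') (hφ : φ = φ') (h : φ ⬝ᵥ v = 0)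
    (h' : φ' ⬝ᵥ v' = 0) : tv v φ h = tv v' φ' h' := by
  subst hv; subst hφ; rfl

theorem tv_mul_right (v φ ψ : Fin n → F) (h : φ ⬝ᵥ v = 0) (h' : ψ ⬝ᵥ v = 0)
    (h'' : (φ + ψ) ⬝ᵥ v = 0) : tv v φ h * tv v ψ h' = tv v (φ + ψ) h'' := by
  apply Subtype.ext
  show tm v φ * tm v ψ = tm v (φ + ψ)
  exact tm_mul_right v φ ψ h

theorem tv_mul_left (v w φ : Fin n → F) (h : φ ⬝ᵥ v = 0) (h' : φ ⬝ᵥ w = 0)
    (h'' : φ ⬝ᵥ (v + w) = 0) : tv v φ h * tv w φ h' = tv (v + w) φ h'' := by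
  apply Subtype.ext
  show tm v φ * tm w φ = tm (v + w) φ
  exact tm_mul_left v w φ h'

theorem tv_zero_right (v : Fin n → F) (h : (0 : Fin n → F) ⬝ᵥ v = 0) : tv v 0 h = 1 := by
  apply Subtype.ext
  rw [tv_coe, tm_zero_right]; rfl

theorem smul_dot_zero {v φ : Fin n → F} (h : φ ⬝ᵥ v = 0) (t : F) : (t • φ) ⬝ᵥ v = 0 := by
  rw [smul_dotProduct, h, smul_zero]

/-- the parameters of the root elements with centre `v` and axis `φ` that lie in `H` -/
def rootSub (H : Subgroup (SpecialLinearGroup (Fin n) F)) (v φ : Fin n → F) (h : φ ⬝ᵥ v = 0) :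
    AddSubgroup F where
  carrier := {t | tv v (t • φ) (smul_dot_zero h t) ∈ H}
  zero_mem' := by
    show tv v ((0 : F) • φ) _ ∈ H
    have : tv v ((0 : F) • φ) (smul_dot_zero h 0) = 1 := by
      apply Subtype.ext
      show tm v ((0 : F) • φ) = 1
      rw [zero_smul, tm_zero_right]
    rw [this]; exact H.one_mem
  add_mem' := by
    intro a b ha hb
    show tv v ((a + b) • φ) _ ∈ H
    have : tv v ((a + b) • φ) (smul_dot_zero h (a + b)) =
        tv v (a • φ) (smul_dot_zero h a) * tv v (b • φ) (smul_dot_zero h b) := by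
      apply Subtype.ext
      show tm v ((a + b) • φ) = tm v (a • φ) * tm v (b • φ)
      rw [tm_mul_right _ _ _ (smul_dot_zero h a), add_smul]
    rw [this]; exact H.mul_mem ha hb
  neg_mem' := by
    intro a ha
    show tv v ((-a) • φ) _ ∈ H
    have : tv v ((-a) • φ) (smul_dot_zero h (-a)) = (tv v (a • φ) (smul_dot_zero h a))⁻¹ := by
      apply eq_inv_of_mul_eq_one_left
      apply Subtype.ext
      show tm v ((-a) • φ) * tm v (a • φ) = 1
      rw [tm_mul_right _ _ _ (smul_dot_zero h (-a)), ← add_smul, neg_add_cancel, zero_smul,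
        tm_zero_right]
    rw [this]; exact H.inv_mem ha

theorem mem_rootSub {H : Subgroup (SpecialLinearGroup (Fin n) F)} {v φ : Fin n → F}
    {h : φ ⬝ᵥ v = 0} {t : F} :
    t ∈ rootSub H v φ h ↔ tv v (t • φ) (smul_dot_zero h t) ∈ H := Iff.rfl

/-- powers of a transvection -/
theorem tv_pow (v φ : Fin n → F) (h : φ ⬝ᵥ v = 0) (k : ℕ) :
    (tv v φ h) ^ k = tv v ((k : F) • φ) (smul_dot_zero h _) := by
  induction k with
  | zero =>
    rw [pow_zero]
    apply Subtype.ext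
    show (1 : Matrix (Fin n) (Fin n) F) = tm v (((0 : ℕ) : F) • φ)
    rw [Nat.cast_zero, zero_smul, tm_zero_right]
  | succ k ih =>
    rw [pow_succ, ih]
    apply Subtype.ext
    show tm v ((k : F) • φ) * tm v φ = tm v (((k + 1 : ℕ) : F) • φ)
    rw [tm_mul_right _ _ _ (smul_dot_zero h _), Nat.cast_succ, add_smul, one_smul]

theorem tv_pow_card [Fintype F] (v φ : Fin n → F) (h : φ ⬝ᵥ v = 0) :
    (tv v φ h) ^ (Fintype.card F) = 1 := by
  rw [tv_pow]
  apply Subtype.ext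
  show tm v (((Fintype.card F : ℕ) : F) • φ) = 1
  rw [FiniteField.cast_card_eq_zero, zero_smul, tm_zero_right]

end Cfsg.Agent.Lib.H12.Gen3
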