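import Mathlib
import Cfsg.Agent.Lib.H12.Gen3C

set_option autoImplicit false

/-!
# Two conjugate regular unipotents generating `SL_3(F)`: characteristic `≠ 3`

`x` is the companion matrix of `(X - 1)^3` and `z = g x g⁻¹` with `g = diag(1, l, l⁻¹)`.  Then
`z x⁻¹ = h u` is lower triangular with commuting semisimple part `h` (eigenvalues `l, l, l⁻²`)
and unipotent part `u` (a transvection), so `h` and `u` are powers of `z x⁻¹`.
-/

namespace Cfsg.Agent.Lib.H12.Gen3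

open Matrix Cfsg.Agent.Lib.H13.AutPSL

variable {F : Type*} [Field F]

/-- the companion matrix of `(X - 1)^3` -/
def Cm (F : Type*) [Field F] : Matrix (Fin 3) (Fin 3) F := !![0, 0, 1; 1, 0, -3; 0, 1, 3]

/-- its inverse -/
def Ci (F : Type*) [Field F] : Matrix (Fin 3) (Fin 3) F := !![3, 1, 0; -3, 0, 1; 1, 0, 0]

theorem det_Cm : (Cm F).det = 1 := by
  simp [Cm, det_fin_three]

theorem det_Ci : (Ci F).det = 1 := by
  simp [Ci, det_fin_three]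

theorem Cm_mul_Ci : Cm F * Ci F = 1 := by
  ext i j
  fin_cases i <;> fin_cases j <;> simp [Cm, Ci, Matrix.mul_apply, Fin.sum_univ_three]

theorem Cm_sub_one_pow : (Cm F - 1) ^ 3 = 0 := by
  have h1 : Cm F - 1 = !![-1, 0, 1; 1, -1, -3; 0, 1, 2] := by
    ext i j
    fin_cases i <;> fin_cases j <;> simp [Cm] <;> norm_num
  rw [h1, pow_succ, pow_two]
  ext i j
  fin_cases i <;> fin_cases j <;> simp [Matrix.mul_apply, Fin.sum_univ_three] <;> norm_num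

theorem Cm_sub_one_sq : (Cm F - 1) ^ 2 ≠ 0 := by
  have h1 : Cm F - 1 = !![-1, 0, 1; 1, -1, -3; 0, 1, 2] := by
    ext i j
    fin_cases i <;> fin_cases j <;> simp [Cm] <;> norm_num
  rw [h1, pow_two]
  intro h
  have := congrFun (congrFun h 0) 0
  simp [Matrix.mul_apply, Fin.sum_univ_three] at this

/-- matrices `[[a,0,0],[0,a,0],[e,0,b]]` -/
def Mat3 (a b e : F) : Matrix (Fin 3) (Fin 3) F := !![a, 0, 0; 0, a, 0; e, 0, b]

theorem Mat3_mul (a b e a' b' e' : F) :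
    Mat3 a b e * Mat3 a' b' e' = Mat3 (a * a') (b * b') (e * a' + b * e') := by
  ext i j
  fin_cases i <;> fin_cases j <;> simp [Mat3, Matrix.mul_apply, Fin.sum_univ_three]

theorem Mat3_pow (a b η : F) (k : ℕ) :
    Mat3 a b (η * (a - b)) ^ k = Mat3 (a ^ k) (b ^ k) (η * (a ^ k - b ^ k)) := by
  induction k with
  | zero =>
    rw [pow_zero]
    ext i j
    fin_cases i <;> fin_cases j <;> simp [Mat3]
  | succ k ih =>
    rw [pow_succ, ih, Mat3_mul, ← pow_succ, ← pow_succ]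
    congr 1
    ring

theorem det_Mat3 (a b e : F) : (Mat3 a b e).det = a * a * b := by
  simp [Mat3, det_fin_three]


/-- `x` -/
def xB (F : Type*) [Field F] : SpecialLinearGroup (Fin 3) F := ⟨Cm F, det_Cm⟩

/-- `x⁻¹` -/
def xBi (F : Type*) [Field F] : SpecialLinearGroup (Fin 3) F := ⟨Ci F, det_Ci⟩

theorem xB_mul_xBi : xB F * xBi F = 1 := Subtype.ext Cm_mul_Ci

theorem xB_inv : (xB F)⁻¹ = xBi F := inv_eq_of_mul_eq_one_right xB_mul_xBi

/-- the conjugating torus element `diag(1, l, l⁻¹)` -/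
def gB (l : F) (hl : l ≠ 0) : SpecialLinearGroup (Fin 3) F :=
  ⟨!![1, 0, 0; 0, l, 0; 0, 0, l⁻¹], by simp [det_fin_three, hl]⟩

/-- its inverse -/
def gBi (l : F) (hl : l ≠ 0) : SpecialLinearGroup (Fin 3) F :=
  ⟨!![1, 0, 0; 0, l⁻¹, 0; 0, 0, l], by simp [det_fin_three, hl]⟩

theorem gB_mul_gBi (l : F) (hl : l ≠ 0) : gB l hl * gBi l hl = 1 := by
  apply Subtype.ext
  show (!![1, 0, 0; 0, l, 0; 0, 0, l⁻¹] : Matrix (Fin 3) (Fin 3) F) * !![1, 0, 0; 0, l⁻¹, 0; 0, 0, l] = 1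
  ext i j
  fin_cases i <;> fin_cases j <;> simp [Matrix.mul_apply, Fin.sum_univ_three, hl]

theorem gB_inv (l : F) (hl : l ≠ 0) : (gB l hl)⁻¹ = gBi l hl :=
  inv_eq_of_mul_eq_one_right (gB_mul_gBi l hl)

/-- the semisimple part `h` -/
def hB (l : F) (hl : l ≠ 0) : SpecialLinearGroup (Fin 3) F :=
  ⟨Mat3 l (l ^ 2)⁻¹ (3 * (1 - (l ^ 2)⁻¹)), by rw [det_Mat3]; field_simp⟩

/-- `h⁻¹` -/
def hBi (l : F) (hl : l ≠ 0) : SpecialLinearGroup (Fin 3) F :=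
  ⟨Mat3 l⁻¹ (l ^ 2) (3 * (1 - l ^ 2) * l⁻¹), by rw [det_Mat3]; field_simp⟩

theorem hB_mul_hBi (l : F) (hl : l ≠ 0) : hB l hl * hBi l hl = 1 := by
  apply Subtype.ext
  show Mat3 l (l ^ 2)⁻¹ (3 * (1 - (l ^ 2)⁻¹)) * Mat3 l⁻¹ (l ^ 2) (3 * (1 - l ^ 2) * l⁻¹) = 1
  rw [Mat3_mul]
  ext i j
  fin_cases i <;> fin_cases j <;> simp [Mat3, hl]
  field_simp
  ring

/-- the vectors -/
def e0 (F : Type*) [Field F] : Fin 3 → F := ![1, 0, 0]
def e1 (F : Type*) [Field F] : Fin 3 → F := ![0, 1, 0]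
def e2 (F : Type*) [Field F] : Fin 3 → F := ![0, 0, 1]

theorem dot_e0_e1 (c : F) : (c • e0 F) ⬝ᵥ e1 F = 0 := by
  simp [e0, e1, dotProduct, Fin.sum_univ_three]

/-- the unipotent part `u = E₁₀(c)` -/
def uB (c : F) : SpecialLinearGroup (Fin 3) F := tv (e1 F) (c • e0 F) (dot_e0_e1 c)

theorem uB_coe (c : F) : (uB c).1 = !![1, 0, 0; c, 1, 0; 0, 0, 1] := by
  show tm (e1 F) (c • e0 F) = _
  ext i j
  fin_cases i <;> fin_cases j <;> simp [tm, vecMulVec_apply, e0, e1]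

theorem uB_mul (c d : F) : uB c * uB d = uB (c + d) := by
  unfold uB
  rw [tv_mul_right (h'' := by rw [← add_smul]; exact dot_e0_e1 _)]
  exact tv_congr rfl (add_smul c d (e0 F)).symm _ _

theorem uB_inv (c : F) : (uB c)⁻¹ = uB (-c) := by
  apply inv_eq_of_mul_eq_one_right
  rw [uB_mul, add_neg_cancel]
  unfold uB
  apply Subtype.ext
  show tm (e1 F) ((0 : F) • e0 F) = 1
  rw [zero_smul, tm_zero_right]

/-- the key identity `g x g⁻¹ = h u x` -/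
theorem conj_eq (l : F) (hl : l ≠ 0) :
    gB l hl * xB F * (gB l hl)⁻¹ = hB l hl * uB (3 * (1 - l)) * xB F := by
  rw [gB_inv]
  apply Subtype.ext
  show (!![1, 0, 0; 0, l, 0; 0, 0, l⁻¹] : Matrix (Fin 3) (Fin 3) F) * Cm F *
    !![1, 0, 0; 0, l⁻¹, 0; 0, 0, l] = Mat3 l (l ^ 2)⁻¹ (3 * (1 - (l ^ 2)⁻¹)) * (uB (3 * (1 - l))).1 * Cm F
  rw [uB_coe]
  ext i j
  fin_cases i <;> fin_cases j <;>
    simp [Cm, Mat3, Matrix.mul_apply, Fin.sum_univ_three, hl] <;> field_simp <;> ring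

theorem commute_hB_uB (l : F) (hl : l ≠ 0) (c : F) : Commute (hB l hl) (uB c) := by
  apply Subtype.ext
  show Mat3 l (l ^ 2)⁻¹ (3 * (1 - (l ^ 2)⁻¹)) * (uB c).1 = (uB c).1 * Mat3 l (l ^ 2)⁻¹ (3 * (1 - (l ^ 2)⁻¹))
  rw [uB_coe]
  ext i j
  fin_cases i <;> fin_cases j <;>
    simp [Mat3, Matrix.mul_apply, Fin.sum_univ_three, hl, mul_comm]

theorem hB_pow_card [Fintype F] (l : F) (hl : l ≠ 0) (hl3 : l ^ 3 ≠ 1) :
    hB l hl ^ Fintype.card F = hB l hl := by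
  have hne : l - (l ^ 2)⁻¹ ≠ 0 := by
    intro h
    apply hl3
    have : l = (l ^ 2)⁻¹ := sub_eq_zero.mp h
    field_simp at this
    linear_combination this
  have hform : Mat3 l (l ^ 2)⁻¹ (3 * (1 - (l ^ 2)⁻¹)) =
      Mat3 l (l ^ 2)⁻¹ ((3 * (1 - (l ^ 2)⁻¹) / (l - (l ^ 2)⁻¹)) * (l - (l ^ 2)⁻¹)) := by
    rw [div_mul_cancel₀ _ hne]
  apply Subtype.ext
  show (hB l hl).1 ^ Fintype.card F = (hB l hl).1
  show Mat3 l (l ^ 2)⁻¹ (3 * (1 - (l ^ 2)⁻¹)) ^ Fintype.card F = Mat3 l (l ^ 2)⁻¹ (3 * (1 - (l ^ 2)⁻¹))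
  rw [hform, Mat3_pow, FiniteField.pow_card, FiniteField.pow_card]

end Cfsg.Agent.Lib.H12.Gen3
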