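import Mathlib
import Cfsg.Agent.Lib.H12.Gen3D

set_option autoImplicit false

/-!
# Two conjugate regular unipotents generating `SL_3(F)`: characteristic `≠ 3`, main argument
-/

namespace Cfsg.Agent.Lib.H12.Gen3

open Matrix Cfsg.Agent.Lib.H13.AutPSL

variable {F : Type*} [Field F]

/-- the first axis `(3, 1, 0)` -/
def φ0 (F : Type*) [Field F] : Fin 3 → F := ![3, 1, 0]

/-- the second axis `(3 - c, 1, 0)` -/
def φ1 (c : F) : Fin 3 → F := ![3 - c, 1, 0]

theorem dot_φ0 : φ0 F ⬝ᵥ e2 F = 0 := by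
  simp [φ0, e2, dotProduct, Fin.sum_univ_three]

theorem dot_φ1 (c : F) : φ1 c ⬝ᵥ e2 F = 0 := by
  simp [φ1, e2, dotProduct, Fin.sum_univ_three]

theorem single_eq (i : Fin 3) :
    (Pi.single i 1 : Fin 3 → F) = if i = 0 then e0 F else if i = 1 then e1 F else e2 F := by
  fin_cases i <;> (ext j; fin_cases j <;> simp [e0, e1, e2])

theorem caseB [Fintype F] (h3 : (3 : F) ≠ 0) {l : F} (hl : l ≠ 0) (hl3 : l ^ 3 ≠ 1)
    (hcl : Subfield.closure {l ^ 3} = ⊤) :
    Subgroup.closure ({xB F, gB l hl * xB F * (gB l hl)⁻¹} : Set (SpecialLinearGroup (Fin 3) F)) = ⊤ := by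
  set H := Subgroup.closure ({xB F, gB l hl * xB F * (gB l hl)⁻¹} :
    Set (SpecialLinearGroup (Fin 3) F)) with hH
  have hxH : xB F ∈ H := Subgroup.subset_closure (by simp)
  have hzH : gB l hl * xB F * (gB l hl)⁻¹ ∈ H := Subgroup.subset_closure (by simp)
  have hxiH : xBi F ∈ H := by rw [← xB_inv]; exact H.inv_mem hxH
  have hl1 : l ≠ 1 := by
    intro h; apply hl3; rw [h, one_pow]
  set c : F := 3 * (1 - l) with hc
  have hc0 : c ≠ 0 := mul_ne_zero h3 (sub_ne_zero.mpr (Ne.symm hl1))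
  -- `s = h u ∈ H`
  have hsH : hB l hl * uB c ∈ H := by
    have : hB l hl * uB c = gB l hl * xB F * (gB l hl)⁻¹ * (xB F)⁻¹ := by
      rw [conj_eq, mul_inv_cancel_right]
    rw [this]; exact H.mul_mem hzH (H.inv_mem hxH)
  obtain ⟨hhH, huH⟩ := split_mem (Fintype.card F) hsH rfl (commute_hB_uB l hl c)
    (hB_pow_card l hl hl3) (tv_pow_card _ _ _)
  have hhiH : hBi l hl ∈ H := by
    rw [← inv_eq_of_mul_eq_one_right (hB_mul_hBi l hl)]; exact H.inv_mem hhH
  -- the root subgroup with centre `e₂` and axis `φ₀`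
  have hcS : c ∈ rootSub H (e2 F) (φ0 F) dot_φ0 := by
    rw [mem_rootSub]
    have key := conj_tv' (xB F) (xBi F) xB_mul_xBi (e1 F) (c • e0 F) (dot_e0_e1 c)
      (by rw [conj_dot' _ _ xB_mul_xBi]; exact dot_e0_e1 c)
    have hv : (xB F).1 *ᵥ e1 F = e2 F := by
      show Cm F *ᵥ e1 F = e2 F
      ext i; fin_cases i <;> simp [Cm, e1, e2, Matrix.mulVec, dotProduct, Fin.sum_univ_three]
    have hφ : (c • e0 F) ᵥ* (xBi F).1 = c • φ0 F := by
      show (c • e0 F) ᵥ* Ci F = c • φ0 F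
      ext i; fin_cases i <;> simp [Ci, e0, φ0, Matrix.vecMul, dotProduct, Fin.sum_univ_three]
    have heq : tv (e2 F) (c • φ0 F) (smul_dot_zero dot_φ0 c) = xB F * uB c * xBi F := by
      rw [show uB c = tv (e1 F) (c • e0 F) (dot_e0_e1 c) from rfl, key]
      exact tv_congr hv.symm hφ.symm _ _
    rw [heq]
    exact H.mul_mem (H.mul_mem hxH huH) hxiH
  have hmul : ∀ t ∈ rootSub H (e2 F) (φ0 F) dot_φ0, l ^ 3 * t ∈ rootSub H (e2 F) (φ0 F) dot_φ0 := by
    intro t ht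
    rw [mem_rootSub] at ht ⊢
    have hih : hBi l hl * hB l hl = 1 := mul_eq_one_comm.mp (hB_mul_hBi l hl)
    have key := conj_tv' (hBi l hl) (hB l hl) hih (e2 F) (t • φ0 F) (smul_dot_zero dot_φ0 t)
      (by rw [conj_dot' _ _ hih]; exact smul_dot_zero dot_φ0 t)
    have hv : (hBi l hl).1 *ᵥ e2 F = l ^ 2 • e2 F := by
      show Mat3 l⁻¹ (l ^ 2) (3 * (1 - l ^ 2) * l⁻¹) *ᵥ e2 F = l ^ 2 • e2 F
      ext i; fin_cases i <;> simp [Mat3, e2, Matrix.mulVec, dotProduct, Fin.sum_univ_three]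
    have hφ : (t • φ0 F) ᵥ* (hB l hl).1 = (t * l) • φ0 F := by
      show (t • φ0 F) ᵥ* Mat3 l (l ^ 2)⁻¹ (3 * (1 - (l ^ 2)⁻¹)) = (t * l) • φ0 F
      ext i; fin_cases i <;> simp [Mat3, φ0, Matrix.vecMul, dotProduct, Fin.sum_univ_three] <;> ring
    have heq : tv (e2 F) ((l ^ 3 * t) • φ0 F) (smul_dot_zero dot_φ0 _) =
        hBi l hl * tv (e2 F) (t • φ0 F) (smul_dot_zero dot_φ0 t) * hB l hl := by
      rw [key]
      apply Subtype.ext
      show tm (e2 F) ((l ^ 3 * t) • φ0 F) = tm _ _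
      rw [hv, hφ, tm_smul_left, smul_smul]
      congr 2
      ring
    rw [heq]
    exact H.mul_mem (H.mul_mem hhiH ht) hhH
  have hfull : ∀ t : F, t ∈ rootSub H (e2 F) (φ0 F) dot_φ0 :=
    addSubgroup_eq_top _ hcl hc0 hcS hmul
  -- the second axis
  have hfull' : ∀ t : F, tv (e2 F) (t • φ1 c) (smul_dot_zero (dot_φ1 c) t) ∈ H := by
    intro t
    have hu : uB c * uB (-c) = 1 := by rw [← uB_inv, mul_inv_cancel]
    have key := conj_tv' (uB c) (uB (-c)) hu (e2 F) (t • φ0 F) (smul_dot_zero dot_φ0 t)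
      (by rw [conj_dot' _ _ hu]; exact smul_dot_zero dot_φ0 t)
    have hv : (uB c).1 *ᵥ e2 F = e2 F := by
      rw [uB_coe]
      ext i; fin_cases i <;> simp [e2, Matrix.mulVec, dotProduct, Fin.sum_univ_three]
    have hφ : (t • φ0 F) ᵥ* (uB (-c)).1 = t • φ1 c := by
      rw [uB_coe]
      ext i; fin_cases i <;> simp [φ0, φ1, Matrix.vecMul, dotProduct, Fin.sum_univ_three] <;> ring
    have heq : tv (e2 F) (t • φ1 c) (smul_dot_zero (dot_φ1 c) t) =
        uB c * tv (e2 F) (t • φ0 F) (smul_dot_zero dot_φ0 t) * uB (-c) := by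
      rw [key]
      exact tv_congr hv.symm hφ.symm _ _
    rw [heq]
    have huiH : uB (-c) ∈ H := by rw [← uB_inv]; exact H.inv_mem huH
    exact H.mul_mem (H.mul_mem huH (hfull t)) huiH
  -- `e₂` is a good centre
  have he2 : e2 F ∈ Cen H := by
    intro φ hφ
    have hφ2 : φ 2 = 0 := by
      simpa [e2, dotProduct, Fin.sum_univ_three] using hφ
    set β : F := (3 * φ 1 - φ 0) / c with hβ
    set α : F := φ 1 - β with hα
    have hsum : α • φ0 F + β • φ1 c = φ := by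
      ext i
      fin_cases i
      · simp [φ0, φ1, hα]
        field_simp
        rw [hβ]
        field_simp
        ring
      · simp [φ0, φ1, hα]
      · simp [φ0, φ1, hφ2]
    have := tv_mul_right (e2 F) (α • φ0 F) (β • φ1 c) (smul_dot_zero dot_φ0 α)
      (smul_dot_zero (dot_φ1 c) β) (by rw [hsum]; exact hφ)
    rw [tv_congr rfl hsum.symm hφ (by rw [hsum]; exact hφ), ← this]
    exact H.mul_mem (hfull α) (hfull' β)
  have he1 : e1 F ∈ Cen H := by
    have := mulVec_mem_cen hxiH he2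
    have hv : (xBi F).1 *ᵥ e2 F = e1 F := by
      show Ci F *ᵥ e2 F = e1 F
      ext i; fin_cases i <;> simp [Ci, e1, e2, Matrix.mulVec, dotProduct, Fin.sum_univ_three]
    rwa [hv] at this
  have he0 : e0 F ∈ Cen H := by
    have := mulVec_mem_cen hxiH he1
    have hv : (xBi F).1 *ᵥ e1 F = e0 F := by
      show Ci F *ᵥ e1 F = e0 F
      ext i; fin_cases i <;> simp [Ci, e1, e0, Matrix.mulVec, dotProduct, Fin.sum_univ_three]
    rwa [hv] at this
  apply eq_top_of_single (by norm_num)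
  intro i
  rw [single_eq]
  fin_cases i
  · simpa using he0
  · simpa using he1
  · simpa using he2

end Cfsg.Agent.Lib.H12.Gen3
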