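import Mathlib
import Cfsg.Agent.Lib.H12.Gen3D

set_option autoImplicit false

/-!
# Two conjugate regular unipotents generating `SL_3(F)`: characteristic `3`, the matrices
-/

namespace Cfsg.Agent.Lib.H12.Gen3

open Matrix Cfsg.Agent.Lib.H13.AutPSL

variable {F : Type*} [Field F]

/-- the regular unipotent `x` (characteristic 3), `θ = 1 - l^3` -/
def xCm (θ : F) : Matrix (Fin 3) (Fin 3) F := !![-1, 0, -1; 0, 1, θ; 1, 0, 0]

/-- its inverse -/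
def xCim (θ : F) : Matrix (Fin 3) (Fin 3) F := !![0, 0, 1; θ, 1, θ; -1, 0, -1]

theorem det_xCm (θ : F) : (xCm θ).det = 1 := by
  simp [xCm, det_fin_three]

theorem det_xCim (θ : F) : (xCim θ).det = 1 := by
  simp [xCim, det_fin_three]

theorem xCm_mul_xCim (θ : F) : xCm θ * xCim θ = 1 := by
  ext i j
  fin_cases i <;> fin_cases j <;> simp [xCm, xCim, Matrix.mul_apply, Fin.sum_univ_three]

theorem xCm_sub_one_pow (h3 : (3 : F) = 0) (θ : F) : (xCm θ - 1) ^ 3 = 0 := by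
  have h2 : (-1 - 1 : F) = 1 := by linear_combination (-1 : F) * h3
  have h1 : xCm θ - 1 = !![1, 0, -1; 0, 0, θ; 1, 0, -1] := by
    ext i j
    fin_cases i <;> fin_cases j <;> simp [xCm, h2]
  rw [h1, pow_succ, pow_two]
  ext i j
  fin_cases i <;> fin_cases j <;> simp [Matrix.mul_apply, Fin.sum_univ_three]

theorem xCm_sub_one_sq (h3 : (3 : F) = 0) {θ : F} (hθ : θ ≠ 0) : (xCm θ - 1) ^ 2 ≠ 0 := by
  have h2 : (-1 - 1 : F) = 1 := by linear_combination (-1 : F) * h3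
  have h1 : xCm θ - 1 = !![1, 0, -1; 0, 0, θ; 1, 0, -1] := by
    ext i j
    fin_cases i <;> fin_cases j <;> simp [xCm, h2]
  rw [h1, pow_two]
  intro h
  have := congrFun (congrFun h 1) 0
  simp [Matrix.mul_apply, Fin.sum_univ_three] at this
  exact hθ this

/-- `x` -/
def xC (θ : F) : SpecialLinearGroup (Fin 3) F := ⟨xCm θ, det_xCm θ⟩

/-- `x⁻¹` -/
def xCi (θ : F) : SpecialLinearGroup (Fin 3) F := ⟨xCim θ, det_xCim θ⟩

theorem xC_mul_xCi (θ : F) : xC θ * xCi θ = 1 := Subtype.ext (xCm_mul_xCim θ)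

theorem xC_inv (θ : F) : (xC θ)⁻¹ = xCi θ := inv_eq_of_mul_eq_one_right (xC_mul_xCi θ)

/-- the conjugating element -/
def gC (l : F) (hl : l ≠ 0) : SpecialLinearGroup (Fin 3) F :=
  ⟨!![l, l * (1 - l) / (1 - l ^ 3), l * (1 - l); 0, 1, 0; 0, (1 - l) / (l * (1 - l ^ 3)), l⁻¹],
    by simp [det_fin_three, hl]⟩

/-- the semisimple part `diag(l, l, l⁻²)` -/
def hC (l : F) (hl : l ≠ 0) : SpecialLinearGroup (Fin 3) F :=
  ⟨Mat3 l (l ^ 2)⁻¹ 0, by rw [det_Mat3]; field_simp⟩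

/-- its inverse -/
def hCi (l : F) (hl : l ≠ 0) : SpecialLinearGroup (Fin 3) F :=
  ⟨Mat3 l⁻¹ (l ^ 2) 0, by rw [det_Mat3]; field_simp⟩

theorem hC_mul_hCi (l : F) (hl : l ≠ 0) : hC l hl * hCi l hl = 1 := by
  apply Subtype.ext
  show Mat3 l (l ^ 2)⁻¹ 0 * Mat3 l⁻¹ (l ^ 2) 0 = 1
  rw [Mat3_mul]
  ext i j
  fin_cases i <;> fin_cases j <;> simp [Mat3, hl]

theorem hC_pow_card [Fintype F] (l : F) (hl : l ≠ 0) :
    hC l hl ^ Fintype.card F = hC l hl := by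
  apply Subtype.ext
  show (hC l hl).1 ^ Fintype.card F = (hC l hl).1
  show Mat3 l (l ^ 2)⁻¹ 0 ^ Fintype.card F = Mat3 l (l ^ 2)⁻¹ 0
  have := Mat3_pow l (l ^ 2)⁻¹ 0 (Fintype.card F)
  rw [zero_mul, zero_mul, FiniteField.pow_card, FiniteField.pow_card] at this
  exact this

theorem dot_e1_e0 (c : F) : (c • e1 F) ⬝ᵥ e0 F = 0 := by
  simp [e0, e1, dotProduct, Fin.sum_univ_three]

/-- the unipotent part `u = E₀₁(c)` -/
def uC (c : F) : SpecialLinearGroup (Fin 3) F := tv (e0 F) (c • e1 F) (dot_e1_e0 c)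

theorem uC_coe (c : F) : (uC c).1 = !![1, c, 0; 0, 1, 0; 0, 0, 1] := by
  show tm (e0 F) (c • e1 F) = _
  ext i j
  fin_cases i <;> fin_cases j <;> simp [tm, e0, e1]

theorem uC_mul (c d : F) : uC c * uC d = uC (c + d) := by
  unfold uC
  rw [tv_mul_right (h'' := by rw [← add_smul]; exact dot_e1_e0 _)]
  exact tv_congr rfl (add_smul c d (e1 F)).symm _ _

theorem uC_inv (c : F) : (uC c)⁻¹ = uC (-c) := by
  apply inv_eq_of_mul_eq_one_right
  rw [uC_mul, add_neg_cancel]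
  unfold uC
  apply Subtype.ext
  show tm (e0 F) ((0 : F) • e1 F) = 1
  rw [zero_smul, tm_zero_right]

theorem commute_hC_uC (l : F) (hl : l ≠ 0) (c : F) : Commute (hC l hl) (uC c) := by
  apply Subtype.ext
  show Mat3 l (l ^ 2)⁻¹ 0 * (uC c).1 = (uC c).1 * Mat3 l (l ^ 2)⁻¹ 0
  rw [uC_coe]
  ext i j
  fin_cases i <;> fin_cases j <;>
    simp [Mat3, Matrix.mul_apply, Fin.sum_univ_three, mul_comm]

/-- the key identity `g x g⁻¹ = h u x` -/
theorem conj_eq_C (l : F) (hl : l ≠ 0) (hl3 : l ^ 3 ≠ 1) :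
    gC l hl * xC (1 - l ^ 3) * (gC l hl)⁻¹ = hC l hl * uC 1 * xC (1 - l ^ 3) := by
  rw [mul_inv_eq_iff_eq_mul]
  have hθ : 1 - l ^ 3 ≠ 0 := sub_ne_zero.mpr (Ne.symm hl3)
  apply Subtype.ext
  show (!![l, l * (1 - l) / (1 - l ^ 3), l * (1 - l); 0, 1, 0; 0, (1 - l) / (l * (1 - l ^ 3)), l⁻¹] :
      Matrix (Fin 3) (Fin 3) F) * xCm (1 - l ^ 3) =
    Mat3 l (l ^ 2)⁻¹ 0 * (uC 1).1 * xCm (1 - l ^ 3) *
      !![l, l * (1 - l) / (1 - l ^ 3), l * (1 - l); 0, 1, 0; 0, (1 - l) / (l * (1 - l ^ 3)), l⁻¹]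
  rw [uC_coe]
  ext i j
  fin_cases i <;> fin_cases j <;>
    simp [xCm, Mat3, Matrix.mul_apply, Fin.sum_univ_three]
  all_goals first | (field_simp; ring) | field_simp | ring

end Cfsg.Agent.Lib.H12.Gen3
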