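import Mathlib
import Cfsg.Agent.Lib.H12.Gen3E
import Cfsg.Agent.Lib.H12.Gen3F

set_option autoImplicit false

/-!
# Two conjugate regular unipotents generating `SL_3(F)`: characteristic `3`, main argument
-/

namespace Cfsg.Agent.Lib.H12.Gen3

open Matrix Cfsg.Agent.Lib.H13.AutPSL

variable {F : Type*} [Field F]

/-- the centre `x e₀ = (-1, 0, 1)` -/
def vC (F : Type*) [Field F] : Fin 3 → F := ![-1, 0, 1]

/-- the axis `e₁* x⁻¹ = (θ, 1, θ)` -/
def ψC (θ : F) : Fin 3 → F := ![θ, 1, θ]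

/-- the axis `(θ, 1, θ l³)` -/
def ψC' (θ k : F) : Fin 3 → F := ![θ, 1, θ * k]

/-- the centre `x e₂ = (-1, θ, 0)` -/
def cC (θ : F) : Fin 3 → F := ![-1, θ, 0]

theorem dot_ψC_vC (θ : F) : ψC θ ⬝ᵥ vC F = 0 := by
  simp [ψC, vC, dotProduct, Fin.sum_univ_three]

theorem dot_e1_vC : e1 F ⬝ᵥ vC F = 0 := by
  simp [e1, vC, dotProduct, Fin.sum_univ_three]

theorem dot_e1_e2 : e1 F ⬝ᵥ e2 F = 0 := by
  simp [e1, e2, dotProduct, Fin.sum_univ_three]

theorem dot_ψC_cC (θ : F) : ψC θ ⬝ᵥ cC θ = 0 := by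
  simp [ψC, cC, dotProduct, Fin.sum_univ_three]

theorem dot_ψC'_cC (θ k : F) : ψC' θ k ⬝ᵥ cC θ = 0 := by
  simp [ψC', cC, dotProduct, Fin.sum_univ_three]

theorem caseC [Fintype F] {l : F} (hl : l ≠ 0) (hl3 : l ^ 3 ≠ 1)
    (hcl : Subfield.closure {l ^ 3} = ⊤) :
    Subgroup.closure ({xC (1 - l ^ 3), gC l hl * xC (1 - l ^ 3) * (gC l hl)⁻¹} :
      Set (SpecialLinearGroup (Fin 3) F)) = ⊤ := by
  set θ : F := 1 - l ^ 3 with hθ
  have hθ0 : θ ≠ 0 := sub_ne_zero.mpr (Ne.symm hl3)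
  set H := Subgroup.closure ({xC θ, gC l hl * xC θ * (gC l hl)⁻¹} :
    Set (SpecialLinearGroup (Fin 3) F)) with hH
  have hxH : xC θ ∈ H := Subgroup.subset_closure (by simp)
  have hzH : gC l hl * xC θ * (gC l hl)⁻¹ ∈ H := Subgroup.subset_closure (by simp)
  have hxiH : xCi θ ∈ H := by rw [← xC_inv]; exact H.inv_mem hxH
  -- `s = h u ∈ H`
  have hsH : hC l hl * uC 1 ∈ H := by
    have : hC l hl * uC 1 = gC l hl * xC θ * (gC l hl)⁻¹ * (xC θ)⁻¹ := by
      rw [hθ, conj_eq_C l hl hl3, mul_inv_cancel_right]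
    rw [this]; exact H.mul_mem hzH (H.inv_mem hxH)
  obtain ⟨hhH, huH⟩ := split_mem (Fintype.card F) hsH rfl (commute_hC_uC l hl 1)
    (hC_pow_card l hl) (tv_pow_card _ _ _)
  have hhiH : hCi l hl ∈ H := by
    rw [← inv_eq_of_mul_eq_one_right (hC_mul_hCi l hl)]; exact H.inv_mem hhH
  have huiH : uC (-1) ∈ H := by rw [← uC_inv]; exact H.inv_mem huH
  have hih : hCi l hl * hC l hl = 1 := mul_eq_one_comm.mp (hC_mul_hCi l hl)
  -- `u' = x u x⁻¹`
  have hu'H : tv (vC F) (ψC θ) (dot_ψC_vC θ) ∈ H := by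
    have hd : ((1 : F) • e1 F) ᵥ* (xCi θ).1 ⬝ᵥ (xC θ).1 *ᵥ e0 F = 0 := by
      rw [conj_dot' _ _ (xC_mul_xCi θ)]; exact dot_e1_e0 1
    have key := conj_tv' (xC θ) (xCi θ) (xC_mul_xCi θ) (e0 F) ((1 : F) • e1 F) (dot_e1_e0 1) hd
    have hv : (xC θ).1 *ᵥ e0 F = vC F := by
      show xCm θ *ᵥ e0 F = vC F
      ext i; fin_cases i <;> simp [xCm, e0, vC, Matrix.mulVec, dotProduct, Fin.sum_univ_three]
    have hφ : ((1 : F) • e1 F) ᵥ* (xCi θ).1 = ψC θ := by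
      show ((1 : F) • e1 F) ᵥ* xCim θ = ψC θ
      ext i; fin_cases i <;> simp [xCim, e1, ψC, Matrix.vecMul, dotProduct, Fin.sum_univ_three]
    have heq : tv (vC F) (ψC θ) (dot_ψC_vC θ) = xC θ * uC 1 * xCi θ := by
      rw [show uC (1 : F) = tv (e0 F) ((1 : F) • e1 F) (dot_e1_e0 1) from rfl, key]
      exact tv_congr hv.symm hφ.symm _ _
    rw [heq]
    exact H.mul_mem (H.mul_mem hxH huH) hxiH
  -- `τ = [u, u']`
  have hτH : tv (vC F) ((-θ) • e1 F) (smul_dot_zero dot_e1_vC _) ∈ H := by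
    have hu : uC (1 : F) * uC (-1) = 1 := by rw [← uC_inv, mul_inv_cancel]
    have hd : (ψC θ) ᵥ* (uC (-1 : F)).1 ⬝ᵥ (uC (1 : F)).1 *ᵥ vC F = 0 := by
      rw [conj_dot' _ _ hu]; exact dot_ψC_vC θ
    have key := conj_tv' (uC 1) (uC (-1)) hu (vC F) (ψC θ) (dot_ψC_vC θ) hd
    have hv : (uC (1 : F)).1 *ᵥ vC F = vC F := by
      rw [uC_coe]
      ext i; fin_cases i <;> simp [vC, Matrix.mulVec, dotProduct, Fin.sum_univ_three]
    have hφ : (ψC θ) ᵥ* (uC (-1 : F)).1 = ψC θ + (-θ) • e1 F := by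
      rw [uC_coe]
      ext i; fin_cases i <;> simp [ψC, e1, Matrix.vecMul, dotProduct, Fin.sum_univ_three]
      ring
    have hd2 : (ψC θ + (-θ) • e1 F) ⬝ᵥ vC F = 0 := by
      rw [add_dotProduct, dot_ψC_vC, smul_dot_zero dot_e1_vC, add_zero]
    have h1 : tv (vC F) (ψC θ + (-θ) • e1 F) hd2 ∈ H := by
      have : tv (vC F) (ψC θ + (-θ) • e1 F) hd2 =
          uC 1 * tv (vC F) (ψC θ) (dot_ψC_vC θ) * uC (-1) := by
        rw [key]
        exact tv_congr hv.symm hφ.symm _ _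
      rw [this]
      exact H.mul_mem (H.mul_mem huH hu'H) huiH
    have hd3 : (-ψC θ) ⬝ᵥ vC F = 0 := by rw [neg_dotProduct, dot_ψC_vC, neg_zero]
    have h2 : tv (vC F) (-ψC θ) hd3 ∈ H := by
      have : tv (vC F) (-ψC θ) hd3 = (tv (vC F) (ψC θ) (dot_ψC_vC θ))⁻¹ := by
        apply eq_inv_of_mul_eq_one_left
        rw [tv_mul_right (h'' := by rw [neg_add_cancel, zero_dotProduct])]
        apply Subtype.ext
        show tm (vC F) (-ψC θ + ψC θ) = 1
        rw [neg_add_cancel, tm_zero_right]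
      rw [this]; exact H.inv_mem hu'H
    have hd4 : (ψC θ + (-θ) • e1 F + -ψC θ) ⬝ᵥ vC F = 0 := by
      rw [add_dotProduct, hd2, hd3, add_zero]
    have := tv_mul_right (vC F) _ _ hd2 hd3 hd4
    have hsum : ψC θ + (-θ) • e1 F + -ψC θ = (-θ) • e1 F := by abel
    rw [tv_congr rfl hsum.symm (smul_dot_zero dot_e1_vC _) hd4, ← this]
    exact H.mul_mem h1 h2
  -- the root subgroup with centre `e₂` and axis `e₁`
  have hmul : ∀ t ∈ rootSub H (e2 F) (e1 F) dot_e1_e2, l ^ 3 * t ∈ rootSub H (e2 F) (e1 F) dot_e1_e2 := by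
    intro t ht
    rw [mem_rootSub] at ht ⊢
    have key := conj_tv' (hCi l hl) (hC l hl) hih (e2 F) (t • e1 F) (smul_dot_zero dot_e1_e2 t)
      (by rw [conj_dot' _ _ hih]; exact smul_dot_zero dot_e1_e2 t)
    have hv : (hCi l hl).1 *ᵥ e2 F = l ^ 2 • e2 F := by
      show Mat3 l⁻¹ (l ^ 2) 0 *ᵥ e2 F = l ^ 2 • e2 F
      ext i; fin_cases i <;> simp [Mat3, e2, Matrix.mulVec, dotProduct, Fin.sum_univ_three]
    have hφ : (t • e1 F) ᵥ* (hC l hl).1 = (t * l) • e1 F := by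
      show (t • e1 F) ᵥ* Mat3 l (l ^ 2)⁻¹ 0 = (t * l) • e1 F
      ext i; fin_cases i <;> simp [Mat3, e1, Matrix.vecMul, dotProduct, Fin.sum_univ_three]
    have heq : tv (e2 F) ((l ^ 3 * t) • e1 F) (smul_dot_zero dot_e1_e2 _) =
        hCi l hl * tv (e2 F) (t • e1 F) (smul_dot_zero dot_e1_e2 t) * hC l hl := by
      rw [key]
      apply Subtype.ext
      show tm (e2 F) ((l ^ 3 * t) • e1 F) = tm _ _
      rw [hv, hφ, tm_smul_left, smul_smul]
      congr 2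
      ring
    rw [heq]
    exact H.mul_mem (H.mul_mem hhiH ht) hhH
  set t0 : F := θ * (1 - l ^ 3) with ht0
  have ht00 : t0 ≠ 0 := mul_ne_zero hθ0 hθ0
  have ht0S : t0 ∈ rootSub H (e2 F) (e1 F) dot_e1_e2 := by
    rw [mem_rootSub]
    -- `h⁻¹ τ h`
    have key := conj_tv' (hCi l hl) (hC l hl) hih (vC F) ((-θ) • e1 F) (smul_dot_zero dot_e1_vC _)
      (by rw [conj_dot' _ _ hih]; exact smul_dot_zero dot_e1_vC _)
    have hv : (hCi l hl).1 *ᵥ vC F = l⁻¹ • ![-1, 0, l ^ 3] := by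
      show Mat3 l⁻¹ (l ^ 2) 0 *ᵥ vC F = l⁻¹ • ![-1, 0, l ^ 3]
      ext i; fin_cases i <;> simp [Mat3, vC, Matrix.mulVec, dotProduct, Fin.sum_univ_three]
      field_simp
    have hφ : ((-θ) • e1 F) ᵥ* (hC l hl).1 = l • ((-θ) • e1 F) := by
      show ((-θ) • e1 F) ᵥ* Mat3 l (l ^ 2)⁻¹ 0 = l • ((-θ) • e1 F)
      ext i; fin_cases i <;> simp [Mat3, e1, Matrix.vecMul, dotProduct, Fin.sum_univ_three]
      ring
    have hd5 : ((-θ) • e1 F) ⬝ᵥ (![-1, 0, l ^ 3] : Fin 3 → F) = 0 := by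
      simp [e1, dotProduct, Fin.sum_univ_three]
    have h1 : tv (![-1, 0, l ^ 3] : Fin 3 → F) ((-θ) • e1 F) hd5 ∈ H := by
      have : tv (![-1, 0, l ^ 3] : Fin 3 → F) ((-θ) • e1 F) hd5 =
          hCi l hl * tv (vC F) ((-θ) • e1 F) (smul_dot_zero dot_e1_vC _) * hC l hl := by
        rw [key]
        apply Subtype.ext
        show tm _ _ = tm _ _
        rw [hv, hφ, tm_smul_left, smul_smul, inv_mul_cancel₀ hl, one_smul]
      rw [this]
      exact H.mul_mem (H.mul_mem hhiH hτH) hhH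
    -- `τ⁻¹`
    have hd6 : ((-θ) • e1 F) ⬝ᵥ (-vC F) = 0 := by
      rw [dotProduct_neg, smul_dot_zero dot_e1_vC, neg_zero]
    have h2 : tv (-vC F) ((-θ) • e1 F) hd6 ∈ H := by
      have : tv (-vC F) ((-θ) • e1 F) hd6 = (tv (vC F) ((-θ) • e1 F) (smul_dot_zero dot_e1_vC _))⁻¹ := by
        apply eq_inv_of_mul_eq_one_left
        rw [tv_mul_left (h'' := by rw [neg_add_cancel, dotProduct_zero])]
        apply Subtype.ext
        show tm (-vC F + vC F) _ = 1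
        rw [neg_add_cancel, tm_zero_left]
      rw [this]; exact H.inv_mem hτH
    have hd7 : ((-θ) • e1 F) ⬝ᵥ (-vC F + ![-1, 0, l ^ 3]) = 0 := by
      rw [dotProduct_add, hd6, hd5, add_zero]
    have := tv_mul_left (-vC F) (![-1, 0, l ^ 3] : Fin 3 → F) ((-θ) • e1 F) hd6 hd5 hd7
    have hfin : tv (e2 F) (t0 • e1 F) (smul_dot_zero dot_e1_e2 t0) =
        tv (-vC F + ![-1, 0, l ^ 3]) ((-θ) • e1 F) hd7 := by
      apply Subtype.ext
      show tm (e2 F) (t0 • e1 F) = tm (-vC F + ![-1, 0, l ^ 3]) ((-θ) • e1 F)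
      have hvec : (-vC F + ![-1, 0, l ^ 3] : Fin 3 → F) = (-(1 - l ^ 3)) • e2 F := by
        ext i; fin_cases i <;> simp [vC, e2]
        ring
      rw [hvec, tm_smul_left, smul_smul, ht0]
      congr 2
      ring
    rw [hfin, ← this]
    exact H.mul_mem h2 h1
  have hfull : ∀ t : F, t ∈ rootSub H (e2 F) (e1 F) dot_e1_e2 :=
    addSubgroup_eq_top _ hcl ht00 ht0S hmul
  -- the root subgroups with centre `c = x e₂`
  have hY : ∀ t : F, tv (cC θ) (t • ψC θ) (smul_dot_zero (dot_ψC_cC θ) t) ∈ H := by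
    intro t
    have key := conj_tv' (xC θ) (xCi θ) (xC_mul_xCi θ) (e2 F) (t • e1 F) (smul_dot_zero dot_e1_e2 t)
      (by rw [conj_dot' _ _ (xC_mul_xCi θ)]; exact smul_dot_zero dot_e1_e2 t)
    have hv : (xC θ).1 *ᵥ e2 F = cC θ := by
      show xCm θ *ᵥ e2 F = cC θ
      ext i; fin_cases i <;> simp [xCm, e2, cC, Matrix.mulVec, dotProduct, Fin.sum_univ_three]
    have hφ : (t • e1 F) ᵥ* (xCi θ).1 = t • ψC θ := by
      show (t • e1 F) ᵥ* xCim θ = t • ψC θ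
      ext i; fin_cases i <;> simp [xCim, e1, ψC, Matrix.vecMul, dotProduct, Fin.sum_univ_three]
    have heq : tv (cC θ) (t • ψC θ) (smul_dot_zero (dot_ψC_cC θ) t) =
        xC θ * tv (e2 F) (t • e1 F) (smul_dot_zero dot_e1_e2 t) * xCi θ := by
      rw [key]
      exact tv_congr hv.symm hφ.symm _ _
    rw [heq]
    exact H.mul_mem (H.mul_mem hxH (hfull t)) hxiH
  have hY' : ∀ t : F, tv (cC θ) (t • ψC' θ (l ^ 3)) (smul_dot_zero (dot_ψC'_cC θ _) t) ∈ H := by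
    intro t
    have key := conj_tv' (hC l hl) (hCi l hl) (hC_mul_hCi l hl) (cC θ) (t • ψC θ)
      (smul_dot_zero (dot_ψC_cC θ) t)
      (by rw [conj_dot' _ _ (hC_mul_hCi l hl)]; exact smul_dot_zero (dot_ψC_cC θ) t)
    have hv : (hC l hl).1 *ᵥ cC θ = l • cC θ := by
      show Mat3 l (l ^ 2)⁻¹ 0 *ᵥ cC θ = l • cC θ
      ext i; fin_cases i <;> simp [Mat3, cC, Matrix.mulVec, dotProduct, Fin.sum_univ_three]
    have hφ : (t • ψC θ) ᵥ* (hCi l hl).1 = l⁻¹ • (t • ψC' θ (l ^ 3)) := by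
      show (t • ψC θ) ᵥ* Mat3 l⁻¹ (l ^ 2) 0 = l⁻¹ • (t • ψC' θ (l ^ 3))
      ext i; fin_cases i <;> simp [Mat3, ψC, ψC', Matrix.vecMul, dotProduct, Fin.sum_univ_three]
      · ring
      · ring
      · field_simp
    have heq : tv (cC θ) (t • ψC' θ (l ^ 3)) (smul_dot_zero (dot_ψC'_cC θ _) t) =
        hC l hl * tv (cC θ) (t • ψC θ) (smul_dot_zero (dot_ψC_cC θ) t) * hCi l hl := by
      rw [key]
      apply Subtype.ext
      show tm _ _ = tm _ _
      rw [hv, hφ, tm_smul_left, smul_smul, mul_inv_cancel₀ hl, one_smul]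
    rw [heq]
    exact H.mul_mem (H.mul_mem hhH (hY t)) hhiH
  -- `c` is a good centre
  have hc : cC θ ∈ Cen H := by
    intro φ hφ
    have hφ0 : φ 0 = θ * φ 1 := by
      have : -φ 0 + φ 1 * θ = 0 := by
        simpa [cC, dotProduct, Fin.sum_univ_three] using hφ
      linear_combination -this
    have hk : l ^ 3 - 1 ≠ 0 := sub_ne_zero.mpr hl3
    set β : F := (φ 2 - θ * φ 1) / (θ * (l ^ 3 - 1)) with hβ
    set α : F := φ 1 - β with hα
    have hsum : α • ψC θ + β • ψC' θ (l ^ 3) = φ := by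
      ext i
      fin_cases i
      · simp [ψC, ψC', hα, hφ0]; ring
      · simp [ψC, ψC', hα]
      · simp [ψC, ψC', hα]
        rw [hβ]
        field_simp
        ring
    have := tv_mul_right (cC θ) (α • ψC θ) (β • ψC' θ (l ^ 3)) (smul_dot_zero (dot_ψC_cC θ) α)
      (smul_dot_zero (dot_ψC'_cC θ _) β) (by rw [hsum]; exact hφ)
    rw [tv_congr rfl hsum.symm hφ (by rw [hsum]; exact hφ), ← this]
    exact H.mul_mem (hY α) (hY' β)
  -- the standard basis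
  have he0 : e0 F ∈ Cen H := by
    have h1 := mulVec_mem_cen huH hc
    have hv : (uC (1 : F)).1 *ᵥ cC θ = cC θ + θ • e0 F := by
      rw [uC_coe]
      ext i; fin_cases i <;> simp [cC, e0, Matrix.mulVec, dotProduct, Fin.sum_univ_three]
    rw [hv] at h1
    have h2 : θ • e0 F ∈ Cen H := by
      have := (Cen H).sub_mem h1 hc
      rwa [add_sub_cancel_left] at this
    have := (Cen H).smul_mem θ⁻¹ h2
    rwa [smul_smul, inv_mul_cancel₀ hθ0, one_smul] at this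
  have he1 : e1 F ∈ Cen H := by
    have h1 : cC θ + e0 F ∈ Cen H := (Cen H).add_mem hc he0
    have hv : cC θ + e0 F = θ • e1 F := by
      ext i; fin_cases i <;> simp [cC, e0, e1]
    rw [hv] at h1
    have := (Cen H).smul_mem θ⁻¹ h1
    rwa [smul_smul, inv_mul_cancel₀ hθ0, one_smul] at this
  have he2 : e2 F ∈ Cen H := by
    have h1 := mulVec_mem_cen hxH hc
    have hv : (xC θ).1 *ᵥ cC θ = e0 F + θ • e1 F - e2 F := by
      show xCm θ *ᵥ cC θ = _
      ext i; fin_cases i <;> simp [xCm, cC, e0, e1, e2, Matrix.mulVec, dotProduct, Fin.sum_univ_three]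
    rw [hv] at h1
    have h2 : e0 F + θ • e1 F ∈ Cen H := (Cen H).add_mem he0 ((Cen H).smul_mem θ he1)
    have := (Cen H).sub_mem h2 h1
    rwa [sub_sub_cancel] at this
  apply eq_top_of_single (by norm_num)
  intro i
  rw [single_eq]
  fin_cases i
  · simpa using he0
  · simpa using he1
  · simpa using he2

end Cfsg.Agent.Lib.H12.Gen3
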