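import Mathlib

set_option autoImplicit false

/-!
# `SL_3(4)`: a computable model of `𝔽₄` and words for the elementary matrices in two conjugate
regular unipotent elements
-/

namespace Cfsg.Agent.Lib.H12.Gen3

/-- a computable model of the field with four elements: `a + b ω`, `ω² = ω + 1` -/
structure R4 where
  a : ZMod 2
  b : ZMod 2
deriving DecidableEq, Fintype

namespace R4

instance : Zero R4 := ⟨⟨0, 0⟩⟩
instance : One R4 := ⟨⟨1, 0⟩⟩
instance : Add R4 := ⟨fun x y => ⟨x.a + y.a, x.b + y.b⟩⟩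
instance : Neg R4 := ⟨fun x => x⟩
instance : Mul R4 := ⟨fun x y => ⟨x.a * y.a + x.b * y.b, x.a * y.b + x.b * y.a + x.b * y.b⟩⟩

instance : CommRing R4 := CommRing.ofMinimalAxioms (by decide) (by decide) (by decide) (by decide)
  (by decide) (by decide) (by decide)

/-- `ω` -/
def w : R4 := ⟨0, 1⟩

/-- `ω²` -/
def w2 : R4 := ⟨1, 1⟩

@[simp] theorem zero_a : (0 : R4).a = 0 := rfl
@[simp] theorem zero_b : (0 : R4).b = 0 := rfl
@[simp] theorem one_a : (1 : R4).a = 1 := rfl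
@[simp] theorem one_b : (1 : R4).b = 0 := rfl
@[simp] theorem add_a (x y : R4) : (x + y).a = x.a + y.a := rfl
@[simp] theorem add_b (x y : R4) : (x + y).b = x.b + y.b := rfl
@[simp] theorem mul_a (x y : R4) : (x * y).a = x.a * y.a + x.b * y.b := rfl
@[simp] theorem mul_b (x y : R4) : (x * y).b = x.a * y.b + x.b * y.a + x.b * y.b := rfl
@[simp] theorem w_a : w.a = 0 := rfl
@[simp] theorem w_b : w.b = 1 := rfl

end R4

open Matrix R4

local notation "tv" => Matrix.SpecialLinearGroup.transvection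

/-- `SL_3` over the model -/
abbrev S4 := SpecialLinearGroup (Fin 3) R4

def a4 : S4 := ⟨!![1,1,0;0,1,1;0,0,1], by decide⟩
def a4' : S4 := ⟨!![1,1,1;0,1,1;0,0,1], by decide⟩
def g4 : S4 := ⟨!![1,1,0;0,w,w2;w,w2,1], by decide⟩
def g4' : S4 := ⟨!![0,1,w2;1,1,w2;w2,1,w], by decide⟩
def b4 : S4 := ⟨!![w2,0,1;1,w2,w2;0,1,1], by decide⟩
def b4' : S4 := ⟨!![0,1,w2;1,w2,w2;1,w2,w], by decide⟩

theorem a4_mul : a4 * a4' = 1 := by decide
theorem g4_mul : g4 * g4' = 1 := by decide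
theorem b4_mul : b4 * b4' = 1 := by decide
theorem b4_eq : g4 * a4 * g4' = b4 := by decide

theorem w01 : tv (show (0 : Fin 3) ≠ 1 by decide) (1 : R4) = b4' * a4 * a4 * b4 * a4 * a4 * b4' * a4 * a4 * b4 := by decide
theorem w02 : tv (show (0 : Fin 3) ≠ 2 by decide) (1 : R4) = a4 * a4 := by decide
theorem w10 : tv (show (1 : Fin 3) ≠ 0 by decide) (1 : R4) = a4' * b4' * a4 * b4 * a4' * b4' * a4 * b4 := by decide
theorem w12 : tv (show (1 : Fin 3) ≠ 2 by decide) (1 : R4) = a4 * b4' * a4 * a4 * b4 * a4 * a4 * b4' * a4 * a4 * b4 := by decide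
theorem w20 : tv (show (2 : Fin 3) ≠ 0 by decide) (1 : R4) = a4 * b4' * a4 * b4 * a4 * a4 * b4' * a4' * b4 * a4' := by decide
theorem w21 : tv (show (2 : Fin 3) ≠ 1 by decide) (1 : R4) = a4' * b4' * a4 * a4 * b4 * a4 := by decide
theorem w02w : tv (show (0 : Fin 3) ≠ 2 by decide) w = a4 * b4 * b4 * a4 * a4 * b4' * a4 * a4 * b4 * b4 := by decide

end Cfsg.Agent.Lib.H12.Gen3
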