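import Mathlib
import Cfsg.Agent.Lib.H2.SLGen

set_option autoImplicit false

/-!
# Generation of `SL_n(F)` from the elementary matrices `E_ij(1)` and one `E_ab(r)`
-/

namespace Cfsg.Agent.Lib.H12.GenSL

open Matrix
open scoped commutatorElement

variable {ι : Type*} [DecidableEq ι] [Fintype ι] {F : Type*} [Field F]

local notation "tv" => Matrix.SpecialLinearGroup.transvection

/-- Steinberg relation `⁅E_ik(a), E_kj(b)⁆ = E_ij(ab)`. -/
theorem transvection_commutator {i j k : ι} (hij : i ≠ j) (hik : i ≠ k) (hkj : k ≠ j) (a b : F) :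
    ⁅tv hik a, tv hkj b⁆ = tv hij (a * b) := by
  rw [commutatorElement_def, SpecialLinearGroup.transvection_inv,
    SpecialLinearGroup.transvection_inv]
  apply SpecialLinearGroup.coeMonoidHom_injective
  simp only [map_mul, SpecialLinearGroup.coeMonoidHom_apply, SpecialLinearGroup.transvection_coe]
  simp only [mul_add, add_mul, mul_one, one_mul, single_mul_single_same,
    single_mul_single_of_ne _ _ _ _ hik.symm, single_mul_single_of_ne _ _ _ _ hij.symm,
    single_mul_single_of_ne _ _ _ _ hkj.symm, add_zero, ← single_neg, mul_neg, neg_mul]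
  abel

/-- all the elementary matrices with parameter `t` lie in `H` -/
def Full (H : Subgroup (SpecialLinearGroup ι F)) (t : F) : Prop :=
  ∀ (i j : ι) (h : i ≠ j), tv h t ∈ H

theorem exists_third (h3 : 3 ≤ Fintype.card ι) (i j : ι) : ∃ k : ι, k ≠ i ∧ k ≠ j := by
  by_contra hcon
  push Not at hcon
  have : Fintype.card ι ≤ ({i, j} : Finset ι).card := by
    rw [← Finset.card_univ]
    refine Finset.card_le_card (fun x _ => ?_)
    by_cases hx : x = i
    · simp [hx]
    · simp [hcon x hx]
  have h2 : ({i, j} : Finset ι).card ≤ 2 := Finset.card_le_two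
  omega

theorem Full.mul (h3 : 3 ≤ Fintype.card ι) {H : Subgroup (SpecialLinearGroup ι F)} {a b : F}
    (ha : Full H a) (hb : Full H b) : Full H (a * b) := by
  intro i j hij
  obtain ⟨k, hki, hkj⟩ := exists_third h3 i j
  rw [← transvection_commutator hij hki.symm hkj a b, commutatorElement_def]
  exact H.mul_mem (H.mul_mem (H.mul_mem (ha i k _) (hb k j _)) (H.inv_mem (ha i k _)))
    (H.inv_mem (hb k j _))

theorem Full.pow (h3 : 3 ≤ Fintype.card ι) {H : Subgroup (SpecialLinearGroup ι F)} {a : F}
    (h1 : Full H 1) (ha : Full H a) (k : ℕ) : Full H (a ^ k) := by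
  induction k with
  | zero => rw [pow_zero]; exact h1
  | succ k ih => rw [pow_succ]; exact ih.mul h3 ha

theorem comm_mem {H : Subgroup (SpecialLinearGroup ι F)} {x y : SpecialLinearGroup ι F}
    (hx : x ∈ H) (hy : y ∈ H) : ⁅x, y⁆ ∈ H := by
  rw [commutatorElement_def]
  exact H.mul_mem (H.mul_mem (H.mul_mem hx hy) (H.inv_mem hx)) (H.inv_mem hy)

/-- If all `E_ij(1)` lie in `H` and one `E_ab(t)` does, then all `E_ij(t)` do. -/
theorem full_of_one (h3 : 3 ≤ Fintype.card ι) {H : Subgroup (SpecialLinearGroup ι F)}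
    (h1 : Full H 1) {a b : ι} (hab : a ≠ b) {t : F} (ht : tv hab t ∈ H) : Full H t := by
  -- row `a`
  have hrow : ∀ (j : ι) (h : a ≠ j), tv h t ∈ H := by
    intro j haj
    by_cases hjb : j = b
    · subst hjb; exact ht
    · have := transvection_commutator haj hab (Ne.symm hjb) t 1
      rw [mul_one] at this
      rw [← this]
      exact comm_mem ht (h1 b j _)
  -- everything outside column `a`
  have hgen : ∀ (i j : ι) (h : i ≠ j), j ≠ a → tv h t ∈ H := by
    intro i j hij hja
    by_cases hia : i = a
    · subst hia; exact hrow j hij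
    · have := transvection_commutator hij hia (Ne.symm hja) 1 t
      rw [one_mul] at this
      rw [← this]
      exact comm_mem (h1 i a _) (hrow j _)
  intro i j hij
  by_cases hja : j = a
  · subst hja
    obtain ⟨k, hki, hkj⟩ := exists_third h3 i j
    have := transvection_commutator hij hki.symm hkj t 1
    rw [mul_one] at this
    rw [← this]
    exact comm_mem (hgen i k _ hkj) (h1 k j _)
  · exact hgen i j hij hja

/-- If all `E_ij(1)` lie in `H`, and one `E_ab(r)` with `r` a generator of `Fˣ`, then `H = ⊤`. -/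
theorem eq_top_of_full (h3 : 3 ≤ Fintype.card ι) {H : Subgroup (SpecialLinearGroup ι F)}
    (h1 : Full H 1) {r : F} (hr : ∀ a : F, a ≠ 0 → ∃ k : ℕ, a = r ^ k)
    {a b : ι} (hab : a ≠ b) (ht : tv hab r ∈ H) : H = ⊤ := by
  have hfr : Full H r := full_of_one h3 h1 hab ht
  have hall : ∀ t : F, Full H t := by
    intro t
    by_cases h0 : t = 0
    · subst h0
      intro i j hij
      rw [SpecialLinearGroup.transvection_coeff_zero]
      exact H.one_mem
    · obtain ⟨k, hk⟩ := hr t h0
      rw [hk]
      exact Full.pow h3 h1 hfr k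
  have : Nontrivial ι := Fintype.one_lt_card_iff_nontrivial.mp (by omega)
  rw [eq_top_iff, ← Cfsg.Agent.Lib.H2.SL_closure_transvection, Subgroup.closure_le]
  rintro A ⟨i, j, hij, c, rfl⟩
  exact hall c i j hij

/-- a generator of the multiplicative group of a finite field -/
theorem exists_generator [Finite F] : ∃ r : F, ∀ a : F, a ≠ 0 → ∃ k : ℕ, a = r ^ k := by
  have : Fintype F := Fintype.ofFinite F
  obtain ⟨g, hg⟩ := IsCyclic.exists_generator (α := Fˣ)
  refine ⟨(g : F), fun a ha => ?_⟩
  have hmem := hg (Units.mk0 a ha)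
  obtain ⟨k, hk⟩ := (mem_powers_iff_mem_zpowers.mpr hmem)
  refine ⟨k, ?_⟩
  have := congrArg (fun u : Fˣ => (u : F)) hk
  simp only [Units.val_pow_eq_pow_val, Units.val_mk0] at this
  exact this.symm

end Cfsg.Agent.Lib.H12.GenSL
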