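import Mathlib
import Cfsg.Agent.Lib.H12.GenSLA
import Cfsg.Agent.Lib.H12.Unipotent

set_option autoImplicit false

/-!
# Three conjugate regular unipotent elements generating `SL_{m+1}(F)`, `m ≥ 3`: matrix part
-/

namespace Cfsg.Agent.Lib.H12.GenSL

open Matrix

variable {F : Type*} [Field F] {m : ℕ}

/-- `1 + e₀ ⊗ φ` -/
def Rrow (φ : Fin (m + 1) → F) : Matrix (Fin (m + 1)) (Fin (m + 1)) F :=
  1 + vecMulVec (Pi.single 0 1) φ

/-- `1 + v ⊗ e₀` -/
def Ccol (v : Fin (m + 1) → F) : Matrix (Fin (m + 1)) (Fin (m + 1)) F :=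
  1 + vecMulVec v (Pi.single 0 1)

theorem transvection_eq_Rrow (j : Fin (m + 1)) (t : F) :
    Matrix.transvection 0 j t = Rrow (Pi.single j t) := by
  unfold Rrow Matrix.transvection
  congr 1
  ext a b
  simp only [single_apply, vecMulVec_apply, Pi.single_apply]
  by_cases ha : a = 0 <;> by_cases hb : b = j
  · simp [ha, hb]
  · have hb' : ¬ j = b := fun h => hb h.symm
    simp [ha, hb, hb']
  · have ha' : ¬ 0 = a := fun h => ha h.symm
    simp [ha, hb, ha']
  · have ha' : ¬ 0 = a := fun h => ha h.symm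
    simp [ha, hb, ha']

theorem transvection_eq_Ccol (i : Fin (m + 1)) (t : F) :
    Matrix.transvection i 0 t = Ccol (Pi.single i t) := by
  unfold Ccol Matrix.transvection
  congr 1
  ext a b
  simp only [single_apply, vecMulVec_apply, Pi.single_apply]
  by_cases ha : a = i <;> by_cases hb : b = 0
  · simp [ha, hb]
  · have hb' : ¬ 0 = b := fun h => hb h.symm
    simp [ha, hb, hb']
  · have ha' : ¬ i = a := fun h => ha h.symm
    simp [ha, hb, ha']
  · have ha' : ¬ i = a := fun h => ha h.symm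
    simp [ha, hb, ha']

theorem Rrow_mul_Rrow (φ ψ : Fin (m + 1) → F) (hφ : φ 0 = 0) :
    Rrow φ * Rrow ψ = Rrow (φ + ψ) := by
  unfold Rrow
  rw [mul_add, add_mul, add_mul, Matrix.one_mul, Matrix.mul_one, Matrix.one_mul,
    vecMulVec_mul_vecMulVec]
  have : φ ⬝ᵥ (Pi.single 0 1 : Fin (m + 1) → F) = 0 := by
    rw [dotProduct_single, hφ, zero_mul]
  rw [this, zero_smul]
  ext a b
  simp [vecMulVec_apply, mul_add]
  ring

theorem Ccol_mul_Ccol (v w : Fin (m + 1) → F) (hw : w 0 = 0) :
    Ccol v * Ccol w = Ccol (v + w) := by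
  unfold Ccol
  rw [mul_add, add_mul, add_mul, Matrix.one_mul, Matrix.mul_one, Matrix.one_mul,
    vecMulVec_mul_vecMulVec]
  have : (Pi.single 0 1 : Fin (m + 1) → F) ⬝ᵥ w = 0 := by
    rw [single_dotProduct, hw, mul_zero]
  rw [this, zero_smul]
  ext a b
  simp [vecMulVec_apply, add_mul]
  ring

theorem Rrow_mul (φ : Fin (m + 1) → F) (M : Matrix (Fin (m + 1)) (Fin (m + 1)) F)
    (hM : M *ᵥ Pi.single 0 1 = Pi.single 0 1) : Rrow φ * M = M * Rrow (φ ᵥ* M) := by
  unfold Rrow
  rw [add_mul, mul_add, Matrix.one_mul, Matrix.mul_one, vecMulVec_mul, mul_vecMulVec, hM]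

theorem mul_Ccol (v : Fin (m + 1) → F) (M : Matrix (Fin (m + 1)) (Fin (m + 1)) F)
    (hM : Pi.single 0 1 ᵥ* M = Pi.single 0 1) : M * Ccol v = Ccol (M *ᵥ v) * M := by
  unfold Ccol
  rw [add_mul, mul_add, Matrix.one_mul, Matrix.mul_one, vecMulVec_mul, mul_vecMulVec, hM]

/-- `P`: ones on the diagonal and at the places `(i, i+1)` with `1 ≤ i`. -/
def Pm (F : Type*) [Field F] (m : ℕ) : Matrix (Fin (m + 1)) (Fin (m + 1)) F :=
  Matrix.of fun i j => if i = j then 1 else if 1 ≤ i.val ∧ j.val = i.val + 1 then 1 else 0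

theorem Pm_apply (i j : Fin (m + 1)) :
    Pm F m i j = if i = j then 1 else if 1 ≤ i.val ∧ j.val = i.val + 1 then 1 else 0 := rfl

theorem Pm_mulVec_e0 : Pm F m *ᵥ Pi.single 0 1 = Pi.single 0 1 := by
  ext i
  rw [mulVec_single_one]
  simp only [col_apply, Pm_apply, Pi.single_apply]
  by_cases hi : i = 0
  · simp [hi]
  · simp [hi]

theorem e0_vecMul_Pm : Pi.single 0 1 ᵥ* Pm F m = Pi.single 0 1 := by
  ext j
  rw [single_one_vecMul]
  simp only [row_apply, Pm_apply, Pi.single_apply]
  by_cases hj : j = 0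
  · simp [hj]
  · simp [hj, Ne.symm hj]

theorem single_vecMul_Pm (k k' : Fin (m + 1)) (h1 : 1 ≤ k.val) (hk' : k'.val = k.val + 1) (t : F) :
    Pi.single k t ᵥ* Pm F m = Pi.single k t + Pi.single k' t := by
  ext j
  rw [single_vecMul]
  simp only [Pi.smul_apply, row_apply, Pm_apply, Pi.add_apply, Pi.single_apply, smul_eq_mul]
  by_cases hj : j = k
  · subst hj
    have : ¬ (j = k') := fun h => by rw [h] at hk'; omega
    simp [this]
  · by_cases hj' : j = k'
    · subst hj'
      simp [hj, Ne.symm hj, h1, hk']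
    · have : ¬ (j.val = k.val + 1) := fun h => hj' (Fin.ext (h.trans hk'.symm))
      simp [hj, hj', Ne.symm hj, this]

theorem last_vecMul_Pm (t : F) :
    Pi.single (Fin.last m) t ᵥ* Pm F m = Pi.single (Fin.last m) t := by
  ext j
  rw [single_vecMul]
  simp only [Pi.smul_apply, row_apply, Pm_apply, Pi.single_apply, smul_eq_mul]
  by_cases hj : j = Fin.last m
  · simp [hj]
  · have : ¬ (j.val = (Fin.last m).val + 1) := by
      have := j.isLt
      simp only [Fin.val_last]
      omega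
    simp only [hj, Ne.symm hj, if_false, Fin.val_last]
    rw [if_neg, mul_zero]
    have := j.isLt
    omega

theorem Pm_mulVec_single (k k'' : Fin (m + 1)) (h2 : 2 ≤ k.val) (hk'' : k''.val + 1 = k.val) (t : F) :
    Pm F m *ᵥ Pi.single k t = Pi.single k t + Pi.single k'' t := by
  ext i
  rw [mulVec_single]
  simp only [Pi.smul_apply, col_apply, Pm_apply, Pi.add_apply, Pi.single_apply,
    MulOpposite.smul_eq_mul_unop, MulOpposite.unop_op]
  by_cases hi : i = k
  · subst hi
    have : ¬ (i = k'') := fun h => by rw [h] at hk''; omega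
    simp [this]
  · by_cases hi' : i = k''
    · subst hi'
      have h1 : 1 ≤ i.val := by omega
      simp [hi, h1, hk''.symm]
    · have : ¬ (k.val = i.val + 1) := fun h => hi' (Fin.ext (by omega))
      simp [hi, hi', this]

theorem Pm_mulVec_one (h1 : 1 ≤ m) (t : F) :
    Pm F m *ᵥ Pi.single (⟨1, by omega⟩ : Fin (m + 1)) t = Pi.single ⟨1, by omega⟩ t := by
  ext i
  rw [mulVec_single]
  simp only [Pi.smul_apply, col_apply, Pm_apply, Pi.single_apply,
    MulOpposite.smul_eq_mul_unop, MulOpposite.unop_op]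
  by_cases hi : i = ⟨1, by omega⟩
  · simp [hi]
  · have : ¬ (1 ≤ i.val ∧ 1 = i.val + 1) := by omega
    simp only [hi, if_false, this, zero_mul]

theorem det_Pm : (Pm F m).det = 1 := by
  have h : (Pm F m).BlockTriangular id := by
    intro i j hij
    simp only [id] at hij
    have hne : i ≠ j := ne_of_gt hij
    have hlt : j.val < i.val := hij
    rw [Pm_apply, if_neg hne, if_neg]
    omega
  rw [Matrix.det_of_isUpperTriangular h]
  apply Finset.prod_eq_one
  intro i _
  rw [Pm_apply, if_pos rfl]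

end Cfsg.Agent.Lib.H12.GenSL
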