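import Mathlib
import Cfsg.Agent.Lib.H12.GenSLB

set_option autoImplicit false

/-!
# Three conjugate regular unipotent elements generating `SL_{m+1}(F)`, `m ≥ 3`: the elements
-/

namespace Cfsg.Agent.Lib.H12.GenSL

open Matrix

variable {F : Type*} [Field F] {m : ℕ}

local notation "tv" => Matrix.SpecialLinearGroup.transvection

theorem vecMul_Rrow (ψ χ : Fin (m + 1) → F) : ψ ᵥ* Rrow χ = ψ + ψ 0 • χ := by
  unfold Rrow
  rw [vecMul_add, vecMul_one, vecMul_vecMulVec, dotProduct_single, mul_one]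

theorem Rrow_mulVec_e0 (χ : Fin (m + 1) → F) (hχ : χ 0 = 0) :
    Rrow χ *ᵥ Pi.single 0 1 = Pi.single 0 1 := by
  unfold Rrow
  rw [add_mulVec, one_mulVec, vecMulVec_mulVec, dotProduct_single, hχ, zero_mul]
  simp

/-- the matrix of `x`: `P * E₀₁(1)` -/
def Xm (F : Type*) [Field F] (m : ℕ) : Matrix (Fin (m + 1)) (Fin (m + 1)) F :=
  Pm F m * Rrow (Pi.single 1 1)

theorem one_ne_zero_fin (h1 : 1 ≤ m) : (1 : Fin (m + 1)) ≠ 0 := by
  intro h
  have := congrArg Fin.val h
  rw [Fin.val_one', Fin.val_zero] at this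
  have : 1 % (m + 1) = 1 := Nat.mod_eq_of_lt (by omega)
  omega

theorem single_one_zero (h1 : 1 ≤ m) (t : F) : (Pi.single (1 : Fin (m + 1)) t : Fin (m + 1) → F) 0 = 0 := by
  rw [Pi.single_apply, if_neg (one_ne_zero_fin h1).symm]

theorem Xm_mulVec_e0 (h1 : 1 ≤ m) : Xm F m *ᵥ Pi.single 0 1 = Pi.single 0 1 := by
  unfold Xm
  rw [← mulVec_mulVec, Rrow_mulVec_e0 _ (single_one_zero h1 1), Pm_mulVec_e0]

theorem single_vecMul_Xm (k k' : Fin (m + 1)) (h1 : 1 ≤ k.val) (hk' : k'.val = k.val + 1) (t : F) :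
    Pi.single k t ᵥ* Xm F m = Pi.single k t + Pi.single k' t := by
  unfold Xm
  rw [← vecMul_vecMul, single_vecMul_Pm k k' h1 hk', vecMul_Rrow]
  have hk0 : k ≠ 0 := fun h => by rw [h] at h1; simp at h1
  have hk0' : k' ≠ 0 := fun h => by rw [h] at hk'; simp at hk'
  simp [Pi.single_apply, hk0.symm, hk0'.symm]

theorem last_vecMul_Xm (h1 : 1 ≤ m) (t : F) :
    Pi.single (Fin.last m) t ᵥ* Xm F m = Pi.single (Fin.last m) t := by
  unfold Xm
  rw [← vecMul_vecMul, last_vecMul_Pm, vecMul_Rrow]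
  have : (Fin.last m) ≠ 0 := by
    intro h
    have := congrArg Fin.val h
    simp at this
    omega
  simp [Pi.single_apply, this.symm]

theorem Xm_eq (h1 : 1 ≤ m) : Xm F m = 1 + shiftMatrix (m + 1) := by
  unfold Xm Rrow
  rw [mul_add, Matrix.mul_one, mul_vecMulVec, Pm_mulVec_e0]
  ext i j
  rw [Matrix.add_apply, Matrix.add_apply, Pm_apply, vecMulVec_apply, Pi.single_apply,
    Pi.single_apply, Matrix.one_apply]
  simp only [shiftMatrix, of_apply]
  have h10 : ((1 : Fin (m + 1)) : ℕ) = 1 := by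
    rw [Fin.val_one']; exact Nat.mod_eq_of_lt (by omega)
  by_cases hij : i = j
  · subst hij
    have h2 : ¬ (i.val = i.val + 1) := by omega
    rw [if_pos rfl, if_pos rfl, if_neg h2, add_zero]
    by_cases hi0 : i = 0
    · subst hi0
      rw [if_neg (one_ne_zero_fin h1).symm, mul_zero, add_zero]
    · rw [if_neg hi0, zero_mul, add_zero]
  · rw [if_neg hij, if_neg hij, zero_add]
    by_cases hi0 : i = 0
    · subst hi0
      by_cases hj1 : j = 1
      · subst hj1
        have : ¬ (1 ≤ ((0 : Fin (m + 1)) : ℕ) ∧ ((1 : Fin (m + 1)) : ℕ) = ((0 : Fin (m + 1)) : ℕ) + 1) := by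
          simp
        rw [if_neg this, if_pos rfl, if_pos rfl, if_pos (by rw [h10]; simp), zero_add, mul_one]
      · have h3 : ¬ (j.val = ((0 : Fin (m + 1)) : ℕ) + 1) := fun h => hj1 (Fin.ext (by rw [h10, h]; simp))
        have : ¬ (1 ≤ ((0 : Fin (m + 1)) : ℕ) ∧ j.val = ((0 : Fin (m + 1)) : ℕ) + 1) := fun h => h3 h.2
        rw [if_neg this, if_pos rfl, if_neg hj1, if_neg h3, zero_add, mul_zero]
    · have hi1 : 1 ≤ i.val := by
        rcases Nat.eq_zero_or_pos i.val with h | h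
        · exact absurd (Fin.ext h) hi0
        · exact h
      rw [if_neg hi0, zero_mul, add_zero]
      by_cases h4 : j.val = i.val + 1
      · rw [if_pos ⟨hi1, h4⟩, if_pos h4]
      · rw [if_neg (fun h => h4 h.2), if_neg h4]

theorem det_Xm (h1 : 1 ≤ m) : (Xm F m).det = 1 := by
  unfold Xm
  rw [det_mul, det_Pm, one_mul, ← transvection_eq_Rrow, det_transvection_of_ne _ _ (one_ne_zero_fin h1).symm]

end Cfsg.Agent.Lib.H12.GenSL
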