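import Mathlib
import Cfsg.Agent.Lib.H12.GenSLC

set_option autoImplicit false

/-!
# The monomial conjugating matrix
-/

namespace Cfsg.Agent.Lib.H12.GenSL

open Matrix

variable {F : Type*} [Field F] {m : ℕ}

/-- the diagonal part: `1` at the last index, `-1` elsewhere -/
def dz (F : Type*) [Field F] (m : ℕ) : Fin (m + 1) → F := fun j => if j = Fin.last m then 1 else -1

/-- the monomial matrix with `g e_j = d_j e_{σ j}`, `σ` the rotation -/
def gzm (F : Type*) [Field F] (m : ℕ) : Matrix (Fin (m + 1)) (Fin (m + 1)) F :=
  (Matrix.diagonal (dz F m)).submatrix (finRotate (m + 1)).symm id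

theorem gzm_apply (i j : Fin (m + 1)) :
    gzm F m i j = if i = finRotate (m + 1) j then dz F m j else 0 := by
  unfold gzm
  rw [submatrix_apply, id, diagonal_apply]
  by_cases h : i = finRotate (m + 1) j
  · have : (finRotate (m + 1)).symm i = j := by rw [h, Equiv.symm_apply_apply]
    rw [if_pos this, if_pos h, this]
  · have : ¬ (finRotate (m + 1)).symm i = j := fun h' => h (by rw [← h', Equiv.apply_symm_apply])
    rw [if_neg this, if_neg h]

theorem prod_dz : ∏ j, dz F m j = (-1) ^ m := by
  rw [Fin.prod_univ_castSucc]
  have h1 : dz F m (Fin.last m) = 1 := by simp [dz]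
  have h2 : ∀ j : Fin m, dz F m j.castSucc = -1 := by
    intro j
    have : j.castSucc ≠ Fin.last m := (Fin.castSucc_lt_last j).ne
    simp [dz, this]
  rw [h1, mul_one, Finset.prod_congr rfl (fun j _ => h2 j), Finset.prod_const, Finset.card_univ,
    Fintype.card_fin]

theorem det_gzm : (gzm F m).det = 1 := by
  unfold gzm
  rw [det_permute, det_diagonal, prod_dz, Equiv.Perm.sign_symm, sign_finRotate]
  simp only [add_tsub_cancel_right, Units.val_pow_eq_pow_val, Units.val_neg, Units.val_one,
    Int.cast_pow, Int.cast_neg, Int.cast_one]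
  rw [← mul_pow]
  simp

theorem gzm_mul_apply (M : Matrix (Fin (m + 1)) (Fin (m + 1)) F) (i j : Fin (m + 1)) :
    (gzm F m * M) (finRotate (m + 1) i) j = dz F m i * M i j := by
  rw [mul_apply, Finset.sum_eq_single i]
  · rw [gzm_apply, if_pos rfl]
  · intro b _ hb
    rw [gzm_apply, if_neg (fun h => hb ((finRotate (m + 1)).injective h).symm), zero_mul]
  · intro h; exact absurd (Finset.mem_univ _) h

theorem mul_gzm_apply (M : Matrix (Fin (m + 1)) (Fin (m + 1)) F) (i j : Fin (m + 1)) :
    (M * gzm F m) i j = M i (finRotate (m + 1) j) * dz F m j := by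
  rw [mul_apply, Finset.sum_eq_single (finRotate (m + 1) j)]
  · rw [gzm_apply, if_pos rfl]
  · intro b _ hb
    rw [gzm_apply, if_neg hb, mul_zero]
  · intro h; exact absurd (Finset.mem_univ _) h

/-- the matrix `E_{m0}(-1) * P` -/
def Am (F : Type*) [Field F] (m : ℕ) : Matrix (Fin (m + 1)) (Fin (m + 1)) F :=
  Ccol (Pi.single (Fin.last m) (-1)) * Pm F m

theorem Am_apply (i j : Fin (m + 1)) :
    Am F m i j = Pm F m i j + (if i = Fin.last m then -1 else 0) * (if j = 0 then 1 else 0) := by
  unfold Am Ccol
  rw [add_mul, Matrix.one_mul, vecMulVec_mul, e0_vecMul_Pm, Matrix.add_apply, vecMulVec_apply,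
    Pi.single_apply, Pi.single_apply]

theorem key_entry (h1 : 1 ≤ m) (i j : Fin (m + 1)) :
    dz F m i * (1 + shiftMatrix (m + 1) : Matrix (Fin (m + 1)) (Fin (m + 1)) F) i j =
      Am F m (finRotate (m + 1) i) (finRotate (m + 1) j) * dz F m j := by
  rw [Am_apply, Pm_apply, Matrix.add_apply, Matrix.one_apply]
  simp only [shiftMatrix, of_apply, dz]
  have hl0 : (Fin.last m) ≠ (0 : Fin (m + 1)) := by
    intro h
    have := congrArg Fin.val h
    simp at this
    omega
  by_cases hi : i = Fin.last m
  · subst hi
    rw [finRotate_last]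
    have hi2 : ∀ j : Fin (m + 1), ¬ (j.val = (Fin.last m).val + 1) := by
      intro j
      have := j.isLt
      simp only [Fin.val_last]
      omega
    by_cases hj : j = Fin.last m
    · subst hj
      rw [finRotate_last]
      simp [hl0.symm]
    · have hjv : (finRotate (m + 1) j).val = j.val + 1 := coe_finRotate_of_ne_last hj
      have hne : (0 : Fin (m + 1)) ≠ finRotate (m + 1) j := by
        intro h
        have := congrArg Fin.val h
        rw [hjv] at this
        simp at this
      rw [if_pos rfl, if_neg (Ne.symm hj), if_neg (hi2 j), if_neg hne, if_neg hj]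
      have h3 : ¬ (1 ≤ ((0 : Fin (m + 1)) : ℕ) ∧ (finRotate (m + 1) j).val = ((0 : Fin (m + 1)) : ℕ) + 1) := by
        simp
      rw [if_neg h3, if_neg hl0.symm]
      ring
  · have hiv : (finRotate (m + 1) i).val = i.val + 1 := coe_finRotate_of_ne_last hi
    have hilt : i.val < m := by
      have := i.isLt
      have : i.val ≠ m := fun h => hi (Fin.ext (by simp [h]))
      omega
    rw [if_neg hi]
    by_cases hj : j = Fin.last m
    · subst hj
      rw [finRotate_last, if_pos rfl, if_pos rfl]
      have hne : finRotate (m + 1) i ≠ 0 := by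
        intro h
        have := congrArg Fin.val h
        rw [hiv] at this
        simp at this
      rw [if_neg hne, if_neg hi]
      have h3 : ¬ (1 ≤ (finRotate (m + 1) i).val ∧ ((0 : Fin (m + 1)) : ℕ) = (finRotate (m + 1) i).val + 1) := by
        simp
      rw [if_neg h3]
      by_cases h4 : (Fin.last m).val = i.val + 1
      · have : finRotate (m + 1) i = Fin.last m := Fin.ext (by rw [hiv, ← h4])
        rw [if_pos h4, if_pos this]
        ring
      · have : finRotate (m + 1) i ≠ Fin.last m := fun h => h4 (by rw [← hiv, h])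
        rw [if_neg h4, if_neg this]
        ring
    · have hjv : (finRotate (m + 1) j).val = j.val + 1 := coe_finRotate_of_ne_last hj
      have hne : finRotate (m + 1) j ≠ 0 := by
        intro h
        have := congrArg Fin.val h
        rw [hjv] at this
        simp at this
      rw [if_neg hj, if_neg hne, mul_zero, add_zero]
      by_cases hij : i = j
      · subst hij
        have h2 : ¬ (i.val = i.val + 1) := by omega
        rw [if_pos rfl, if_pos rfl, if_neg h2]
        ring
      · have hne2 : finRotate (m + 1) i ≠ finRotate (m + 1) j :=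
          fun h => hij ((finRotate (m + 1)).injective h)
        rw [if_neg hij, if_neg hne2, zero_add]
        by_cases h5 : j.val = i.val + 1
        · have : 1 ≤ (finRotate (m + 1) i).val ∧ (finRotate (m + 1) j).val = (finRotate (m + 1) i).val + 1 := by
            rw [hiv, hjv]; omega
          rw [if_pos h5, if_pos this]
          ring
        · have : ¬ (1 ≤ (finRotate (m + 1) i).val ∧ (finRotate (m + 1) j).val = (finRotate (m + 1) i).val + 1) := by
            rw [hiv, hjv]; omega
          rw [if_neg h5, if_neg this]
          ring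

/-- the conjugation identity `g_z x = (E_{m0}(-1) P) g_z` -/
theorem gzm_mul_Xm (h1 : 1 ≤ m) : gzm F m * Xm F m = Am F m * gzm F m := by
  ext i j
  obtain ⟨i', rfl⟩ := (finRotate (m + 1)).surjective i
  rw [gzm_mul_apply, mul_gzm_apply, Xm_eq h1, key_entry h1]

end Cfsg.Agent.Lib.H12.GenSL
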