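import Mathlib
import Cfsg.Agent.Lib.H12.GenSLD

set_option autoImplicit false

/-!
# Three conjugate regular unipotent elements generating `SL_{m+1}(F)`, `m ≥ 3`: group identities
-/

namespace Cfsg.Agent.Lib.H12.GenSL

open Matrix

variable {F : Type*} [Field F] {m : ℕ}

local notation "tv" => Matrix.SpecialLinearGroup.transvection

/-- `P` as an element of `SL` -/
def Pg (F : Type*) [Field F] (m : ℕ) : SpecialLinearGroup (Fin (m + 1)) F := ⟨Pm F m, det_Pm⟩

/-- `x = P E₀₁(1)` as an element of `SL` -/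
def xg (F : Type*) [Field F] (m : ℕ) (h1 : 1 ≤ m) : SpecialLinearGroup (Fin (m + 1)) F :=
  ⟨Xm F m, det_Xm h1⟩

/-- the monomial matrix as an element of `SL` -/
def gzg (F : Type*) [Field F] (m : ℕ) : SpecialLinearGroup (Fin (m + 1)) F := ⟨gzm F m, det_gzm⟩

theorem coe_tv {i j : Fin (m + 1)} (h : i ≠ j) (t : F) :
    ((tv h t : SpecialLinearGroup (Fin (m + 1)) F) : Matrix (Fin (m + 1)) (Fin (m + 1)) F) =
      Matrix.transvection i j t := rfl

theorem single_apply_zero {k : Fin (m + 1)} (hk : k ≠ 0) (t : F) :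
    (Pi.single k t : Fin (m + 1) → F) 0 = 0 := by
  rw [Pi.single_apply, if_neg hk.symm]

/-- `x = P * E₀₁(1)` -/
theorem xg_eq (h1 : 1 ≤ m) : xg F m h1 = Pg F m * tv (one_ne_zero_fin h1).symm 1 := by
  apply SpecialLinearGroup.coeMonoidHom_injective
  simp only [map_mul, SpecialLinearGroup.coeMonoidHom_apply]
  rw [coe_tv, transvection_eq_Rrow]
  rfl

/-- `g_z x = E_{m0}(-1) P g_z` -/
theorem gzg_mul_xg (h1 : 1 ≤ m) (hl : Fin.last m ≠ 0) :
    gzg F m * xg F m h1 = tv hl (-1) * Pg F m * gzg F m := by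
  apply SpecialLinearGroup.coeMonoidHom_injective
  simp only [map_mul, SpecialLinearGroup.coeMonoidHom_apply]
  rw [coe_tv, transvection_eq_Ccol]
  exact gzm_mul_Xm h1

/-- `P` commutes with `E_{0m}(t)` -/
theorem Pg_comm_last (hl : (0 : Fin (m + 1)) ≠ Fin.last m) (t : F) :
    Pg F m * tv hl t = tv hl t * Pg F m := by
  apply SpecialLinearGroup.coeMonoidHom_injective
  simp only [map_mul, SpecialLinearGroup.coeMonoidHom_apply]
  rw [coe_tv, transvection_eq_Rrow]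
  show Pm F m * _ = _ * Pm F m
  rw [Rrow_mul _ _ Pm_mulVec_e0, last_vecMul_Pm]

/-- `E_{0k}(t) P = P E_{0k}(t) E_{0,k+1}(t)` -/
theorem tv_mul_Pg {k k' : Fin (m + 1)} (hk : (0 : Fin (m + 1)) ≠ k) (hk' : (0 : Fin (m + 1)) ≠ k')
    (hkk' : k'.val = k.val + 1) (t : F) :
    tv hk t * Pg F m = Pg F m * tv hk t * tv hk' t := by
  apply SpecialLinearGroup.coeMonoidHom_injective
  simp only [map_mul, SpecialLinearGroup.coeMonoidHom_apply]
  rw [coe_tv, coe_tv, transvection_eq_Rrow, transvection_eq_Rrow]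
  show _ * Pm F m = Pm F m * _ * _
  have h1 : 1 ≤ k.val := by
    rcases Nat.eq_zero_or_pos k.val with h | h
    · exact absurd (Fin.ext h).symm hk
    · exact h
  rw [Rrow_mul _ _ Pm_mulVec_e0, single_vecMul_Pm k k' h1 hkk', Matrix.mul_assoc,
    Rrow_mul_Rrow _ _ (single_apply_zero hk.symm t)]

/-- `P E_{k0}(t) = E_{k0}(t) E_{k-1,0}(t) P` -/
theorem Pg_mul_tv {k k'' : Fin (m + 1)} (hk : k ≠ 0) (hk'' : k'' ≠ 0) (h2 : 2 ≤ k.val)
    (hkk : k''.val + 1 = k.val) (t : F) :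
    Pg F m * tv hk t = tv hk t * tv hk'' t * Pg F m := by
  apply SpecialLinearGroup.coeMonoidHom_injective
  simp only [map_mul, SpecialLinearGroup.coeMonoidHom_apply]
  rw [coe_tv, coe_tv, transvection_eq_Ccol, transvection_eq_Ccol]
  show Pm F m * _ = _ * _ * Pm F m
  rw [mul_Ccol _ _ e0_vecMul_Pm, Pm_mulVec_single k k'' h2 hkk,
    Ccol_mul_Ccol _ _ (single_apply_zero hk'' t)]

/-- row-zero elementary matrices commute -/
theorem tv_comm {a b : Fin (m + 1)} (ha : (0 : Fin (m + 1)) ≠ a) (hb : (0 : Fin (m + 1)) ≠ b) (s t : F) :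
    tv ha s * tv hb t = tv hb t * tv ha s := by
  apply SpecialLinearGroup.coeMonoidHom_injective
  simp only [map_mul, SpecialLinearGroup.coeMonoidHom_apply]
  rw [coe_tv, coe_tv,
    transvection_eq_Rrow, transvection_eq_Rrow,
    Rrow_mul_Rrow _ _ (single_apply_zero ha.symm s), Rrow_mul_Rrow _ _ (single_apply_zero hb.symm t)]
  congr 1
  exact add_comm _ _

/-- `E_{0k}(t) x = x E_{0k}(t) E_{0,k+1}(t)` -/
theorem tv_mul_xg (h1 : 1 ≤ m) {k k' : Fin (m + 1)} (hk : (0 : Fin (m + 1)) ≠ k)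
    (hk' : (0 : Fin (m + 1)) ≠ k') (hkk' : k'.val = k.val + 1) (t : F) :
    tv hk t * xg F m h1 = xg F m h1 * tv hk t * tv hk' t := by
  have h01 : (0 : Fin (m + 1)) ≠ 1 := (one_ne_zero_fin h1).symm
  rw [xg_eq, ← mul_assoc, tv_mul_Pg hk hk' hkk', mul_assoc, mul_assoc, mul_assoc, mul_assoc]
  congr 1
  calc tv hk t * (tv hk' t * tv h01 1) = tv hk t * (tv h01 1 * tv hk' t) := by rw [tv_comm hk' h01]
    _ = (tv hk t * tv h01 1) * tv hk' t := (mul_assoc _ _ _).symm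
    _ = (tv h01 1 * tv hk t) * tv hk' t := by rw [tv_comm hk h01]
    _ = tv h01 1 * (tv hk t * tv hk' t) := mul_assoc _ _ _

/-- `E_{0m}(t) x = x E_{0m}(t)` -/
theorem tv_last_mul_xg (h1 : 1 ≤ m) (hl : (0 : Fin (m + 1)) ≠ Fin.last m) (t : F) :
    tv hl t * xg F m h1 = xg F m h1 * tv hl t := by
  rw [xg_eq, ← mul_assoc, ← Pg_comm_last hl, mul_assoc, mul_assoc, tv_comm hl]

/-- the `SL₂` identity `E_{ij}(1) E_{ji}(-1) E_{ij}(1) E_{ji}(1) E_{ij}(-1) = E_{ji}(-1)` -/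
theorem sl2_identity {i j : Fin (m + 1)} (hij : i ≠ j) :
    tv hij (1 : F) * tv hij.symm (-1) * tv hij 1 * tv hij.symm 1 * tv hij (-1) = tv hij.symm (-1) := by
  apply SpecialLinearGroup.coeMonoidHom_injective
  simp only [map_mul, SpecialLinearGroup.coeMonoidHom_apply, SpecialLinearGroup.transvection_coe]
  have h0 : (1 + single i j (1 : F) : Matrix (Fin (m + 1)) (Fin (m + 1)) F) =
      Cfsg.Agent.Lib.H2.M4 i j 1 1 0 1 := by
    have := Cfsg.Agent.Lib.H2.M4_mul_transvection hij (1 : F) 0 0 1 1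
    rw [Cfsg.Agent.Lib.H2.M4_one, Matrix.one_mul] at this
    rw [this]
    simp
  nth_rewrite 1 [h0]
  rw [Cfsg.Agent.Lib.H2.M4_mul_transvection' hij, Cfsg.Agent.Lib.H2.M4_mul_transvection hij,
    Cfsg.Agent.Lib.H2.M4_mul_transvection' hij, Cfsg.Agent.Lib.H2.M4_mul_transvection hij]
  have h1 : (1 + single j i (-1 : F) : Matrix (Fin (m + 1)) (Fin (m + 1)) F) =
      Cfsg.Agent.Lib.H2.M4 i j 1 0 (-1) 1 := by
    have := Cfsg.Agent.Lib.H2.M4_mul_transvection' hij (1 : F) 0 0 1 (-1)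
    rw [Cfsg.Agent.Lib.H2.M4_one, Matrix.one_mul] at this
    rw [this]
    simp
  rw [h1]
  congr 1 <;> ring

end Cfsg.Agent.Lib.H12.GenSL
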