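import Mathlib
import Cfsg.Agent.Lib.H12.GenSLE

set_option autoImplicit false

/-!
# Three conjugate regular unipotent elements generating `SL_{m+1}(F)`, `m ≥ 3`: the theorem
-/

namespace Cfsg.Agent.Lib.H12.GenSL

open Matrix
open scoped commutatorElement

variable {F : Type*} [Field F] {m : ℕ}

local notation "tv" => Matrix.SpecialLinearGroup.transvection

theorem zero_ne_mk {k : ℕ} (hk : k < m + 1) (h1 : 1 ≤ k) : (0 : Fin (m + 1)) ≠ ⟨k, hk⟩ := by
  intro h
  have := congrArg Fin.val h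
  simp at this
  omega

theorem zero_ne_last (h1 : 1 ≤ m) : (0 : Fin (m + 1)) ≠ Fin.last m := by
  intro h
  have := congrArg Fin.val h
  simp at this
  omega

/-- the conjugating element `g_y = E_{0,m-2}(1) E_{0,m-1}(r)` -/
def gyg (F : Type*) [Field F] (m : ℕ) (hm : 3 ≤ m) (r : F) : SpecialLinearGroup (Fin (m + 1)) F :=
  tv (zero_ne_mk (k := m - 2) (by omega) (by omega)) 1 *
    tv (zero_ne_mk (k := m - 1) (by omega) (by omega)) r

theorem comm4 {G : Type*} [Group G] {a b c d : G} (hab : a * b = b * a) (hcd : c * d = d * c)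
    (had : a * d = d * a) : a * b * c * d = b * d * a * c := by
  calc a * b * c * d = b * a * (c * d) := by rw [hab, mul_assoc]
    _ = b * a * (d * c) := by rw [hcd]
    _ = b * (a * d) * c := by simp only [mul_assoc]
    _ = b * (d * a) * c := by rw [had]
    _ = b * d * a * c := by simp only [mul_assoc]

/-- `g_y x = x τ g_y` -/
theorem gyg_mul_xg (hm : 3 ≤ m) (r : F) :
    gyg F m hm r * xg F m (by omega) =
      xg F m (by omega) *
        (tv (zero_ne_mk (k := m - 1) (by omega) (by omega)) 1 * tv (zero_ne_last (by omega)) r) *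
        gyg F m hm r := by
  have h1 : 1 ≤ m := by omega
  have ha := zero_ne_mk (m := m) (k := m - 2) (by omega) (by omega)
  have hb := zero_ne_mk (m := m) (k := m - 1) (by omega) (by omega)
  have hl := zero_ne_last (m := m) h1
  have hab : (⟨m - 1, by omega⟩ : Fin (m + 1)).val = (⟨m - 2, by omega⟩ : Fin (m + 1)).val + 1 := by
    simp only; omega
  have hbl : (Fin.last m).val = (⟨m - 1, by omega⟩ : Fin (m + 1)).val + 1 := by
    simp only [Fin.val_last]; omega
  unfold gyg
  calc tv ha 1 * tv hb r * xg F m h1 = tv ha 1 * (tv hb r * xg F m h1) := mul_assoc _ _ _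
    _ = tv ha 1 * (xg F m h1 * tv hb r * tv hl r) := by rw [tv_mul_xg h1 hb hl hbl]
    _ = (tv ha 1 * xg F m h1) * tv hb r * tv hl r := by simp only [mul_assoc]
    _ = (xg F m h1 * tv ha 1 * tv hb 1) * tv hb r * tv hl r := by rw [tv_mul_xg h1 ha hb hab]
    _ = xg F m h1 * (tv ha 1 * tv hb 1 * tv hb r * tv hl r) := by simp only [mul_assoc]
    _ = xg F m h1 * (tv hb 1 * tv hl r * tv ha 1 * tv hb r) := by
        rw [comm4 (tv_comm ha hb 1 1) (tv_comm hb hl r r) (tv_comm ha hl 1 r)]
    _ = xg F m h1 * (tv hb 1 * tv hl r) * (tv ha 1 * tv hb r) := by simp only [mul_assoc]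

/-- `τ x = x τ E_{0m}(1)` -/
theorem tau_mul_xg (hm : 3 ≤ m) (r : F) :
    (tv (zero_ne_mk (m := m) (k := m - 1) (by omega) (by omega)) 1 * tv (zero_ne_last (by omega)) r) *
        xg F m (by omega) =
      xg F m (by omega) *
        (tv (zero_ne_mk (k := m - 1) (by omega) (by omega)) 1 * tv (zero_ne_last (by omega)) r) *
        tv (zero_ne_last (by omega)) 1 := by
  have h1 : 1 ≤ m := by omega
  have hb := zero_ne_mk (m := m) (k := m - 1) (by omega) (by omega)
  have hl := zero_ne_last (m := m) h1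
  have hbl : (Fin.last m).val = (⟨m - 1, by omega⟩ : Fin (m + 1)).val + 1 := by
    simp only [Fin.val_last]; omega
  calc tv hb 1 * tv hl r * xg F m h1 = tv hb 1 * (tv hl r * xg F m h1) := mul_assoc _ _ _
    _ = tv hb 1 * (xg F m h1 * tv hl r) := by rw [tv_last_mul_xg h1 hl]
    _ = (tv hb 1 * xg F m h1) * tv hl r := by simp only [mul_assoc]
    _ = (xg F m h1 * tv hb 1 * tv hl 1) * tv hl r := by rw [tv_mul_xg h1 hb hl hbl]
    _ = xg F m h1 * tv hb 1 * (tv hl 1 * tv hl r) := by simp only [mul_assoc]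
    _ = xg F m h1 * tv hb 1 * (tv hl r * tv hl 1) := by rw [tv_comm hl hl 1 r]
    _ = xg F m h1 * (tv hb 1 * tv hl r) * tv hl 1 := by simp only [mul_assoc]

/-- **Main generation statement** for `SL_{m+1}(F)`, `m ≥ 3`. -/
theorem eq_top_of_mem (hm : 3 ≤ m) (H : Subgroup (SpecialLinearGroup (Fin (m + 1)) F)) {r : F}
    (hr : ∀ a : F, a ≠ 0 → ∃ k : ℕ, a = r ^ k)
    (hx : xg F m (by omega) ∈ H)
    (hy : gyg F m hm r * xg F m (by omega) * (gyg F m hm r)⁻¹ ∈ H)
    (hz : gzg F m * xg F m (by omega) * (gzg F m)⁻¹ ∈ H) : H = ⊤ := by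
  have h1 : 1 ≤ m := by omega
  have hb := zero_ne_mk (m := m) (k := m - 1) (by omega) (by omega)
  have hl := zero_ne_last (m := m) h1
  set x := xg F m h1 with hxdef
  set τ := tv hb (1 : F) * tv hl r with hτdef
  -- τ ∈ H
  have hy' : gyg F m hm r * x * (gyg F m hm r)⁻¹ = x * τ := by
    rw [gyg_mul_xg hm r, mul_assoc, mul_inv_cancel, mul_one]
  have hτ : τ ∈ H := by
    have : τ = x⁻¹ * (gyg F m hm r * x * (gyg F m hm r)⁻¹) := by rw [hy']; group
    rw [this]
    exact H.mul_mem (H.inv_mem hx) hy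
  -- E_{0m}(1) ∈ H
  have hT : tv hl (1 : F) ∈ H := by
    have h := tau_mul_xg hm r
    have : tv hl (1 : F) = τ⁻¹ * x⁻¹ * τ * x := by
      have h' : τ * x = x * τ * tv hl 1 := h
      calc tv hl (1 : F) = τ⁻¹ * x⁻¹ * (x * τ * tv hl 1) := by group
        _ = τ⁻¹ * x⁻¹ * (τ * x) := by rw [h']
        _ = τ⁻¹ * x⁻¹ * τ * x := by group
    rw [this]
    exact H.mul_mem (H.mul_mem (H.mul_mem (H.inv_mem hτ) (H.inv_mem hx)) hτ) hx
  -- z = E_{m0}(-1) P
  have hz' : gzg F m * x * (gzg F m)⁻¹ = tv hl.symm (-1) * Pg F m := by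
    rw [gzg_mul_xg h1 hl.symm, mul_assoc, mul_inv_cancel, mul_one]
  rw [hz'] at hz
  -- E_{m0}(-1) ∈ H
  have hV : tv hl.symm (-1 : F) * tv hl 1 * tv hl.symm 1 ∈ H := by
    have : tv hl.symm (-1 : F) * tv hl 1 * tv hl.symm 1 =
        (tv hl.symm (-1) * Pg F m) * tv hl 1 * (tv hl.symm (-1) * Pg F m)⁻¹ := by
      rw [_root_.mul_inv_rev, SpecialLinearGroup.transvection_inv, neg_neg]
      calc tv hl.symm (-1 : F) * tv hl 1 * tv hl.symm 1
          = tv hl.symm (-1 : F) * (tv hl 1 * Pg F m * (Pg F m)⁻¹) * tv hl.symm 1 := by group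
        _ = tv hl.symm (-1 : F) * (Pg F m * tv hl 1 * (Pg F m)⁻¹) * tv hl.symm 1 := by
            rw [Pg_comm_last hl]
        _ = tv hl.symm (-1) * Pg F m * tv hl 1 * ((Pg F m)⁻¹ * tv hl.symm 1) := by group
    rw [this]
    exact H.mul_mem (H.mul_mem hz hT) (H.inv_mem hz)
  have hL : tv hl.symm (-1 : F) ∈ H := by
    rw [← sl2_identity hl]
    have hTi : tv hl (-1 : F) ∈ H := by
      rw [← SpecialLinearGroup.transvection_inv]; exact H.inv_mem hT
    have : tv hl (1 : F) * tv hl.symm (-1) * tv hl 1 * tv hl.symm 1 * tv hl (-1) =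
        tv hl (1 : F) * (tv hl.symm (-1) * tv hl 1 * tv hl.symm 1) * tv hl (-1) := by
      simp only [mul_assoc]
    rw [this]
    exact H.mul_mem (H.mul_mem hT hV) hTi
  -- P ∈ H, E_{01}(1) ∈ H
  have hP : Pg F m ∈ H := by
    have : Pg F m = (tv hl.symm (-1 : F))⁻¹ * (tv hl.symm (-1) * Pg F m) := by group
    rw [this]
    exact H.mul_mem (H.inv_mem hL) hz
  have h01 : (0 : Fin (m + 1)) ≠ 1 := (one_ne_zero_fin h1).symm
  have hE01 : tv h01 (1 : F) ∈ H := by
    have : tv h01 (1 : F) = (Pg F m)⁻¹ * x := by rw [hxdef, xg_eq]; group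
    rw [this]
    exact H.mul_mem (H.inv_mem hP) hx
  -- row zero
  have hrow : ∀ k : ℕ, 1 ≤ k → ∀ hk : k < m + 1, ∀ h : (0 : Fin (m + 1)) ≠ ⟨k, hk⟩,
      tv h (1 : F) ∈ H := by
    intro k hk1
    induction k, hk1 using Nat.le_induction with
    | base =>
      intro hk h
      have e : (⟨1, hk⟩ : Fin (m + 1)) = 1 := by
        apply Fin.ext
        rw [Fin.val_one']
        exact (Nat.mod_eq_of_lt hk).symm
      revert h
      rw [e]
      intro h
      exact hE01
    | succ k hk1 ih =>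
      intro hk h
      have hk' : k < m + 1 := by omega
      have hk0 := zero_ne_mk (m := m) hk' hk1
      have key := tv_mul_Pg (F := F) (m := m) hk0 h (by simp) 1
      have : tv h (1 : F) = (tv hk0 1)⁻¹ * (Pg F m)⁻¹ * (tv hk0 1 * Pg F m) := by
        rw [key]; group
      rw [this]
      exact H.mul_mem (H.mul_mem (H.inv_mem (ih hk' hk0)) (H.inv_mem hP)) (H.mul_mem (ih hk' hk0) hP)
  -- column zero
  have hcol : ∀ d : ℕ, ∀ k : ℕ, k + d = m → 1 ≤ k → ∀ hk : k < m + 1,
      ∀ h : (⟨k, hk⟩ : Fin (m + 1)) ≠ 0, tv h (1 : F) ∈ H := by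
    intro d
    induction d with
    | zero =>
      intro k hkd hk1 hk h
      have e : (⟨k, hk⟩ : Fin (m + 1)) = Fin.last m := Fin.ext (by simp; omega)
      revert h
      rw [e]
      intro h
      have : tv h (1 : F) = (tv hl.symm (-1 : F))⁻¹ := by
        rw [SpecialLinearGroup.transvection_inv, neg_neg]
      rw [this]
      exact H.inv_mem hL
    | succ d ih =>
      intro k hkd hk1 hk h
      have hk' : k + 1 < m + 1 := by omega
      have hk0 : (⟨k + 1, hk'⟩ : Fin (m + 1)) ≠ 0 := (zero_ne_mk hk' (by omega)).symm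
      have hmem := ih (k + 1) (by omega) (by omega) hk' hk0
      have key := Pg_mul_tv (F := F) (m := m) hk0 h (by simp; omega) (by simp) 1
      have : tv h (1 : F) = (tv hk0 1)⁻¹ * (Pg F m * tv hk0 1) * (Pg F m)⁻¹ := by
        rw [key]; group
      rw [this]
      exact H.mul_mem (H.mul_mem (H.inv_mem hmem) (H.mul_mem hP hmem)) (H.inv_mem hP)
  -- all elementary matrices with parameter one
  have hfull : Full H (1 : F) := by
    intro i j hij
    by_cases hi : i = 0
    · subst hi
      have hj1 : 1 ≤ j.val := by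
        rcases Nat.eq_zero_or_pos j.val with h | h
        · exact absurd (Fin.ext h).symm hij
        · exact h
      exact hrow j.val hj1 j.isLt hij
    · have hi1 : 1 ≤ i.val := by
        rcases Nat.eq_zero_or_pos i.val with h | h
        · exact absurd (Fin.ext h) hi
        · exact h
      by_cases hj : j = 0
      · subst hj
        exact hcol (m - i.val) i.val (by have := i.isLt; omega) hi1 i.isLt hij
      · have hj1 : 1 ≤ j.val := by
          rcases Nat.eq_zero_or_pos j.val with h | h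
          · exact absurd (Fin.ext h) hj
          · exact h
        have h0j : (0 : Fin (m + 1)) ≠ j := fun h => hj h.symm
        have := transvection_commutator hij hi h0j (1 : F) 1
        rw [mul_one] at this
        rw [← this]
        exact comm_mem (hcol (m - i.val) i.val (by have := i.isLt; omega) hi1 i.isLt hi)
          (hrow j.val hj1 j.isLt h0j)
  -- E_{0m}(r) ∈ H
  have hTr : tv hl r ∈ H := by
    have : tv hl r = (tv hb (1 : F))⁻¹ * τ := by rw [hτdef]; group
    rw [this]
    exact H.mul_mem (H.inv_mem (hrow (m - 1) (by omega) (by omega) hb)) hτ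
  have h3 : 3 ≤ Fintype.card (Fin (m + 1)) := by rw [Fintype.card_fin]; omega
  exact eq_top_of_full h3 hfull hr hl hTr

end Cfsg.Agent.Lib.H12.GenSL
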