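import Mathlib
import Cfsg.Agent.Lib.H12.GenSLF

set_option autoImplicit false

/-!
# `SL_3`: the Jordan block and its transpose generate `SL_3(ℤ)`-many elementary matrices
-/

namespace Cfsg.Agent.Lib.H12.GenSL

open Matrix

local notation "tv" => Matrix.SpecialLinearGroup.transvection

/-- `SL_3(ℤ)` -/
abbrev SZ := Matrix.SpecialLinearGroup (Fin 3) ℤ

/-- the Jordan block -/
def aZ : SZ := ⟨!![1,1,0;0,1,1;0,0,1], by decide⟩
/-- its inverse -/
def aZ' : SZ := ⟨!![1,-1,1;0,1,-1;0,0,1], by decide⟩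
/-- the transposed Jordan block -/
def bZ : SZ := ⟨!![1,0,0;1,1,0;0,1,1], by decide⟩
/-- its inverse -/
def bZ' : SZ := ⟨!![1,0,0;-1,1,0;1,-1,1], by decide⟩
/-- the conjugating monomial matrix -/
def wZ : SZ := ⟨!![0,0,-1;0,-1,0;-1,0,0], by decide⟩
/-- a transvection with centre `e₁` -/
def s1Z : SZ := ⟨!![1,0,0;4,1,1;0,0,1], by decide⟩
/-- a transvection with centre `e₁` -/
def s2Z : SZ := ⟨!![1,0,0;-3,1,-1;0,0,1], by decide⟩

theorem aZ_mul : aZ * aZ' = 1 := by decide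
theorem bZ_mul : bZ * bZ' = 1 := by decide
theorem wZ_mul : wZ * wZ = 1 := by decide
theorem wZ_conj : wZ * aZ * wZ = bZ := by decide

theorem word1 : (aZ * bZ' * bZ' * aZ' * aZ') *
    (aZ * aZ * bZ * aZ' * bZ' * aZ * bZ' * bZ' * aZ * aZ * bZ' * aZ') *
    (aZ * aZ * bZ * bZ * aZ') = s1Z := by decide

theorem word2 : (aZ * bZ' * bZ' * aZ' * aZ') *
    (bZ * aZ' * aZ' * bZ * aZ' * bZ' * aZ * bZ * aZ' * bZ) *
    (aZ * aZ * bZ * bZ * aZ') = s2Z := by decide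

theorem e10_eq : tv (show (1 : Fin 3) ≠ 0 by decide) (1 : ℤ) = s1Z * s2Z := by decide

theorem e12_eq : tv (show (1 : Fin 3) ≠ 2 by decide) (1 : ℤ) * (s1Z * s1Z * s1Z * s2Z * s2Z * s2Z * s2Z) = 1 := by
  decide

theorem e01_eq : tv (show (1 : Fin 3) ≠ 2 by decide) (1 : ℤ) * tv (show (0 : Fin 3) ≠ 1 by decide) (1 : ℤ) = aZ := by
  decide

theorem e21_eq : tv (show (1 : Fin 3) ≠ 0 by decide) (1 : ℤ) * tv (show (2 : Fin 3) ≠ 1 by decide) (1 : ℤ) = bZ := by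
  decide

theorem e02_eq : tv (show (0 : Fin 3) ≠ 2 by decide) (1 : ℤ) =
    tv (show (0 : Fin 3) ≠ 1 by decide) 1 * tv (show (1 : Fin 3) ≠ 2 by decide) 1 *
      (tv (show (0 : Fin 3) ≠ 1 by decide) 1)⁻¹ * (tv (show (1 : Fin 3) ≠ 2 by decide) 1)⁻¹ := by
  rw [SpecialLinearGroup.transvection_inv, SpecialLinearGroup.transvection_inv]
  decide

theorem e20_eq : tv (show (2 : Fin 3) ≠ 0 by decide) (1 : ℤ) =
    tv (show (2 : Fin 3) ≠ 1 by decide) 1 * tv (show (1 : Fin 3) ≠ 0 by decide) 1 *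
      (tv (show (2 : Fin 3) ≠ 1 by decide) 1)⁻¹ * (tv (show (1 : Fin 3) ≠ 0 by decide) 1)⁻¹ := by
  rw [SpecialLinearGroup.transvection_inv, SpecialLinearGroup.transvection_inv]
  decide

/-- every elementary matrix `E_ij(1)` lies in the subgroup of `SL_3(ℤ)` generated by the Jordan
block and its transpose -/
theorem tv_mem_closure (i j : Fin 3) (h : i ≠ j) :
    tv h (1 : ℤ) ∈ Subgroup.closure ({aZ, bZ} : Set SZ) := by
  set K := Subgroup.closure ({aZ, bZ} : Set SZ) with hK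
  have ha : aZ ∈ K := Subgroup.subset_closure (by simp)
  have hb : bZ ∈ K := Subgroup.subset_closure (by simp)
  have ha' : aZ' ∈ K := by
    rw [eq_inv_of_mul_eq_one_right aZ_mul]; exact K.inv_mem ha
  have hb' : bZ' ∈ K := by
    rw [eq_inv_of_mul_eq_one_right bZ_mul]; exact K.inv_mem hb
  have hh : aZ * bZ' * bZ' * aZ' * aZ' ∈ K :=
    K.mul_mem (K.mul_mem (K.mul_mem (K.mul_mem ha hb') hb') ha') ha'
  have hhi : aZ * aZ * bZ * bZ * aZ' ∈ K :=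
    K.mul_mem (K.mul_mem (K.mul_mem (K.mul_mem ha ha) hb) hb) ha'
  have ht1 : aZ * aZ * bZ * aZ' * bZ' * aZ * bZ' * bZ' * aZ * aZ * bZ' * aZ' ∈ K :=
    K.mul_mem (K.mul_mem (K.mul_mem (K.mul_mem (K.mul_mem (K.mul_mem (K.mul_mem (K.mul_mem
      (K.mul_mem (K.mul_mem (K.mul_mem ha ha) hb) ha') hb') ha) hb') hb') ha) ha) hb') ha'
  have ht2 : bZ * aZ' * aZ' * bZ * aZ' * bZ' * aZ * bZ * aZ' * bZ ∈ K :=
    K.mul_mem (K.mul_mem (K.mul_mem (K.mul_mem (K.mul_mem (K.mul_mem (K.mul_mem (K.mul_mem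
      (K.mul_mem hb ha') ha') hb) ha') hb') ha) hb) ha') hb
  have hs1 : s1Z ∈ K := by rw [← word1]; exact K.mul_mem (K.mul_mem hh ht1) hhi
  have hs2 : s2Z ∈ K := by rw [← word2]; exact K.mul_mem (K.mul_mem hh ht2) hhi
  have h10 : tv (show (1 : Fin 3) ≠ 0 by decide) (1 : ℤ) ∈ K := by
    rw [e10_eq]; exact K.mul_mem hs1 hs2
  have h12 : tv (show (1 : Fin 3) ≠ 2 by decide) (1 : ℤ) ∈ K := by
    rw [eq_inv_of_mul_eq_one_left e12_eq]
    exact K.inv_mem (K.mul_mem (K.mul_mem (K.mul_mem (K.mul_mem (K.mul_mem (K.mul_mem hs1 hs1) hs1)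
      hs2) hs2) hs2) hs2)
  have h01 : tv (show (0 : Fin 3) ≠ 1 by decide) (1 : ℤ) ∈ K := by
    have : tv (show (0 : Fin 3) ≠ 1 by decide) (1 : ℤ) =
        (tv (show (1 : Fin 3) ≠ 2 by decide) (1 : ℤ))⁻¹ * aZ := by rw [← e01_eq]; group
    rw [this]; exact K.mul_mem (K.inv_mem h12) ha
  have h21 : tv (show (2 : Fin 3) ≠ 1 by decide) (1 : ℤ) ∈ K := by
    have : tv (show (2 : Fin 3) ≠ 1 by decide) (1 : ℤ) =
        (tv (show (1 : Fin 3) ≠ 0 by decide) (1 : ℤ))⁻¹ * bZ := by rw [← e21_eq]; group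
    rw [this]; exact K.mul_mem (K.inv_mem h10) hb
  have h02 : tv (show (0 : Fin 3) ≠ 2 by decide) (1 : ℤ) ∈ K := by
    rw [e02_eq]
    exact K.mul_mem (K.mul_mem (K.mul_mem h01 h12) (K.inv_mem h01)) (K.inv_mem h12)
  have h20 : tv (show (2 : Fin 3) ≠ 0 by decide) (1 : ℤ) ∈ K := by
    rw [e20_eq]
    exact K.mul_mem (K.mul_mem (K.mul_mem h21 h10) (K.inv_mem h21)) (K.inv_mem h10)
  fin_cases i <;> fin_cases j
  · exact absurd rfl h
  · exact h01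
  · exact h02
  · exact h10
  · exact absurd rfl h
  · exact h12
  · exact h20
  · exact h21
  · exact absurd rfl h

end Cfsg.Agent.Lib.H12.GenSL
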