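import Mathlib
import Cfsg.Agent.Lib.H12.GenSLG

set_option autoImplicit false

/-!
# Three conjugate regular unipotent elements generate `SL_n(F)`, `n ≥ 3`
-/

namespace Cfsg.Agent.Lib.H12.GenSL

open Matrix

variable {F : Type*} [Field F]

local notation "tv" => Matrix.SpecialLinearGroup.transvection

theorem map_tv {ι : Type*} [DecidableEq ι] [Fintype ι] {R S : Type*} [CommRing R] [CommRing S]
    (f : R →+* S) {i j : ι} (h : i ≠ j) (c : R) :
    SpecialLinearGroup.map f (tv h c) = tv h (f c) := by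
  apply Subtype.ext
  rw [SpecialLinearGroup.map_apply_coe]
  show f.mapMatrix (1 + single i j c) = 1 + single i j (f c)
  rw [map_add, map_one, RingHom.mapMatrix_apply, Matrix.map_single]

/-- the regular unipotent property of `x` -/
theorem regular_xg {m : ℕ} (h1 : 1 ≤ m) :
    IsNilpotent (((xg F m h1 : SpecialLinearGroup (Fin (m + 1)) F) : Matrix (Fin (m + 1)) (Fin (m + 1)) F) - 1) ∧
      (((xg F m h1 : SpecialLinearGroup (Fin (m + 1)) F) : Matrix (Fin (m + 1)) (Fin (m + 1)) F) - 1) ^ m ≠ 0 := by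
  have : ((xg F m h1 : SpecialLinearGroup (Fin (m + 1)) F) : Matrix (Fin (m + 1)) (Fin (m + 1)) F) - 1 =
      shiftMatrix (m + 1) := by
    show Xm F m - 1 = _
    rw [Xm_eq h1, add_sub_cancel_left]
  rw [this]
  exact ⟨⟨m + 1, shiftMatrix_pow_eq_zero _⟩, shiftMatrix_pow_ne_zero _ _ (by omega)⟩

theorem map_aZ : SpecialLinearGroup.map (Int.castRingHom F) aZ = xg F 2 (by norm_num) := by
  apply Subtype.ext
  rw [SpecialLinearGroup.map_apply_coe]
  show (Int.castRingHom F).mapMatrix _ = Xm F 2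
  rw [Xm_eq (by norm_num)]
  ext i j
  fin_cases i <;> fin_cases j <;> simp [aZ, shiftMatrix]

/-- the case `n = 3` -/
theorem eq_top_three [Finite F] :
    ∃ u g h : SpecialLinearGroup (Fin 3) F,
      (IsNilpotent ((u : Matrix (Fin 3) (Fin 3) F) - 1) ∧ ((u : Matrix (Fin 3) (Fin 3) F) - 1) ^ 2 ≠ 0) ∧
      Subgroup.closure ({u, g * u * g⁻¹, h * u * h⁻¹} : Set (SpecialLinearGroup (Fin 3) F)) = ⊤ := by
  obtain ⟨r, hr⟩ := exists_generator (F := F)
  have h1 : 1 ≤ 2 := by norm_num
  have h01 : (0 : Fin 3) ≠ 1 := by decide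
  have h02 : (0 : Fin 3) ≠ 2 := by decide
  set φ := SpecialLinearGroup.map (n := Fin 3) (Int.castRingHom F) with hφ
  refine ⟨xg F 2 h1, tv h01 r, φ wZ, regular_xg h1, ?_⟩
  set x := xg F 2 h1 with hx
  set H := Subgroup.closure ({x, tv h01 r * x * (tv h01 r)⁻¹, φ wZ * x * (φ wZ)⁻¹} :
    Set (SpecialLinearGroup (Fin 3) F)) with hH
  have hxH : x ∈ H := Subgroup.subset_closure (by simp)
  have hyH : tv h01 r * x * (tv h01 r)⁻¹ ∈ H := Subgroup.subset_closure (by simp)
  have hzH : φ wZ * x * (φ wZ)⁻¹ ∈ H := Subgroup.subset_closure (by simp)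
  -- the transposed block
  have hb : φ bZ ∈ H := by
    have : φ bZ = φ wZ * x * (φ wZ)⁻¹ := by
      have hw : (φ wZ)⁻¹ = φ wZ := by
        rw [← map_inv]
        congr 1
        exact (eq_inv_of_mul_eq_one_right wZ_mul).symm
      rw [hw, hx, ← map_aZ, ← map_mul, ← map_mul, wZ_conj]
    rw [this]; exact hzH
  have ha : φ aZ ∈ H := by rw [hφ, map_aZ]; exact hxH
  have hle : Subgroup.closure ({aZ, bZ} : Set SZ) ≤ H.comap φ := by
    rw [Subgroup.closure_le]
    intro g hg
    rcases hg with rfl | rfl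
    · exact ha
    · exact hb
  have hfull : Full H (1 : F) := by
    intro i j hij
    have := hle (tv_mem_closure i j hij)
    rw [Subgroup.mem_comap, hφ, map_tv] at this
    simpa using this
  -- `E₀₂(r) ∈ H`
  have hkk : (2 : Fin 3).val = (1 : Fin 3).val + 1 := by decide
  have key := tv_mul_xg (F := F) (m := 2) h1 h01 h02 hkk r
  have hT : tv h02 r ∈ H := by
    have hc : tv h01 r * tv h02 r = tv h02 r * tv h01 r := tv_comm h01 h02 r r
    have : tv h02 r = x⁻¹ * (tv h01 r * x * (tv h01 r)⁻¹) := by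
      rw [hx, key]
      calc tv h02 r = tv h02 r * tv h01 r * (tv h01 r)⁻¹ := by group
        _ = tv h01 r * tv h02 r * (tv h01 r)⁻¹ := by rw [hc]
        _ = (xg F 2 h1)⁻¹ * (xg F 2 h1 * tv h01 r * tv h02 r * (tv h01 r)⁻¹) := by group
    rw [this]
    exact H.mul_mem (H.inv_mem hxH) hyH
  have h3 : 3 ≤ Fintype.card (Fin 3) := by simp
  exact eq_top_of_full h3 hfull hr h02 hT

/-- **Three conjugate regular unipotent elements generate `SL_n(F)`**, `n ≥ 3`. -/
theorem exists_three_conjugates [Finite F] (n : ℕ) (hn : 3 ≤ n) :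
    ∃ u g h : SpecialLinearGroup (Fin n) F,
      (IsNilpotent ((u : Matrix (Fin n) (Fin n) F) - 1) ∧ ((u : Matrix (Fin n) (Fin n) F) - 1) ^ (n - 1) ≠ 0) ∧
      Subgroup.closure ({u, g * u * g⁻¹, h * u * h⁻¹} : Set (SpecialLinearGroup (Fin n) F)) = ⊤ := by
  obtain ⟨m, rfl⟩ : ∃ m, n = m + 1 := ⟨n - 1, by omega⟩
  rcases Nat.lt_or_ge m 3 with hm | hm
  · have : m = 2 := by omega
    subst this
    exact eq_top_three
  · obtain ⟨r, hr⟩ := exists_generator (F := F)
    have h1 : 1 ≤ m := by omega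
    refine ⟨xg F m h1, gyg F m hm r, gzg F m, ?_, ?_⟩
    · have := regular_xg (F := F) h1
      simpa using this
    · apply eq_top_of_mem hm _ hr
      · exact Subgroup.subset_closure (by simp)
      · exact Subgroup.subset_closure (by simp)
      · exact Subgroup.subset_closure (by simp)

end Cfsg.Agent.Lib.H12.GenSL
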