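import Mathlib
import Cfsg.Agent.Lib.H12.GenSLH
import Cfsg.Agent.Lib.H12.Gen3H

set_option autoImplicit false

/-!
# Two conjugate regular unipotents generating `SL_3(F)` for `|F| = 2` and `|F| = 4`
-/

namespace Cfsg.Agent.Lib.H12.Gen3

open Matrix Cfsg.Agent.Lib.H12.GenSL

variable {F : Type*} [Field F]

local notation "tv" => Matrix.SpecialLinearGroup.transvection

/-! ### `|F| = 2` -/

theorem caseTwo [Fintype F] (h2 : Fintype.card F = 2) :
    ∃ u g : SpecialLinearGroup (Fin 3) F,
      (IsNilpotent ((u : Matrix (Fin 3) (Fin 3) F) - 1) ∧ ((u : Matrix (Fin 3) (Fin 3) F) - 1) ^ 2 ≠ 0) ∧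
      Subgroup.closure ({u, g * u * g⁻¹} : Set (SpecialLinearGroup (Fin 3) F)) = ⊤ := by
  classical
  have h1 : 1 ≤ 2 := by norm_num
  set φ := SpecialLinearGroup.map (n := Fin 3) (Int.castRingHom F) with hφ
  refine ⟨xg F 2 h1, φ wZ, regular_xg h1, ?_⟩
  set x := xg F 2 h1 with hx
  set H := Subgroup.closure ({x, φ wZ * x * (φ wZ)⁻¹} :
    Set (SpecialLinearGroup (Fin 3) F)) with hH
  have hxH : x ∈ H := Subgroup.subset_closure (by simp)
  have hzH : φ wZ * x * (φ wZ)⁻¹ ∈ H := Subgroup.subset_closure (by simp)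
  have hb : φ bZ ∈ H := by
    have : φ bZ = φ wZ * x * (φ wZ)⁻¹ := by
      have hw : (φ wZ)⁻¹ = φ wZ := by
        rw [← map_inv]
        congr 1
        exact (eq_inv_of_mul_eq_one_right wZ_mul).symm
      rw [hw, hx, ← map_aZ, ← map_mul, ← map_mul, wZ_conj]
    rw [this]; exact hzH
  have ha : φ aZ ∈ H := by rw [hφ, map_aZ]; exact hxH
  have hle : Subgroup.closure ({aZ, bZ} : Set SZ) ≤ H.comap φ := by
    rw [Subgroup.closure_le]
    intro g hg
    rcases hg with rfl | rfl
    · exact ha
    · exact hb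
  have hfull : Full H (1 : F) := by
    intro i j hij
    have := hle (tv_mem_closure i j hij)
    rw [Subgroup.mem_comap, hφ, map_tv] at this
    simpa using this
  have h3 : 3 ≤ Fintype.card (Fin 3) := by simp
  have h02 : (0 : Fin 3) ≠ 2 := by decide
  have hr : ∀ a : F, a ≠ 0 → ∃ k : ℕ, a = (1 : F) ^ k := by
    intro a ha
    refine ⟨0, ?_⟩
    rw [pow_zero]
    by_contra hne
    have hcard : ({0, 1, a} : Finset F).card = 3 := by
      rw [Finset.card_insert_of_notMem, Finset.card_insert_of_notMem, Finset.card_singleton]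
      · simpa using Ne.symm hne
      · simp only [Finset.mem_insert, Finset.mem_singleton, not_or]
        exact ⟨zero_ne_one, Ne.symm ha⟩
    have := Finset.card_le_univ ({0, 1, a} : Finset F)
    omega
  exact eq_top_of_full h3 hfull hr h02 (hfull 0 2 h02)

/-! ### `|F| = 4` -/

/-- the ring homomorphism from the model to a field with an element `ω`, `ω² = ω + 1`, `2 = 0` -/
def ψ4 [CharP F 2] (ω : F) (hω : ω ^ 2 = ω + 1) : R4 →+* F where
  toFun x := ZMod.castHom (dvd_refl 2) F x.a + ZMod.castHom (dvd_refl 2) F x.b * ω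
  map_one' := by simp
  map_zero' := by simp
  map_add' := by
    intro x y
    simp only [R4.add_a, R4.add_b, map_add]
    ring
  map_mul' := by
    intro x y
    simp only [R4.mul_a, R4.mul_b, map_add, map_mul]
    linear_combination (-(ZMod.castHom (dvd_refl 2) F x.b * ZMod.castHom (dvd_refl 2) F y.b)) * hω

theorem ψ4_w [CharP F 2] (ω : F) (hω : ω ^ 2 = ω + 1) : ψ4 ω hω R4.w = ω := by
  show ZMod.castHom (dvd_refl 2) F R4.w.a + ZMod.castHom (dvd_refl 2) F R4.w.b * ω = ω
  simp

theorem caseFour [Fintype F] (h4 : Fintype.card F = 4) :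
    ∃ u g : SpecialLinearGroup (Fin 3) F,
      (IsNilpotent ((u : Matrix (Fin 3) (Fin 3) F) - 1) ∧ ((u : Matrix (Fin 3) (Fin 3) F) - 1) ^ 2 ≠ 0) ∧
      Subgroup.closure ({u, g * u * g⁻¹} : Set (SpecialLinearGroup (Fin 3) F)) = ⊤ := by
  classical
  -- characteristic two
  obtain ⟨p, hp⟩ := CharP.exists F
  obtain ⟨n, hpp, hcard⟩ := FiniteField.card F p
  have hp2 : p = 2 := by
    rw [h4] at hcard
    have hdvd : p ∣ 4 := by
      rw [hcard]; exact dvd_pow_self p n.ne_zero
    have : p ∣ 2 ^ 2 := by norm_num; exact hdvd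
    exact (Nat.prime_dvd_prime_iff_eq hpp Nat.prime_two).mp (hpp.dvd_of_dvd_pow this)
  subst hp2
  -- an element `ω ∉ {0, 1}`
  obtain ⟨ω, hω0, hω1⟩ : ∃ ω : F, ω ≠ 0 ∧ ω ≠ 1 := by
    by_contra hne
    push Not at hne
    have hsub : (Finset.univ : Finset F) ⊆ {0, 1} := by
      intro a _
      by_cases ha : a = 0
      · simp [ha]
      · simp [hne a ha]
    have := Finset.card_le_card hsub
    rw [Finset.card_univ, h4] at this
    have h2 : ({0, 1} : Finset F).card ≤ 2 := Finset.card_le_two
    omega
  have h20 : (2 : F) = 0 := by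
    have := CharP.cast_eq_zero F 2
    exact_mod_cast this
  have hω : ω ^ 2 = ω + 1 := by
    have h3 : ω ^ 3 = 1 := by
      have := FiniteField.pow_card_sub_one_eq_one ω hω0
      rwa [h4] at this
    have hfac : (ω - 1) * (ω ^ 2 + ω + 1) = 0 := by linear_combination h3
    rcases mul_eq_zero.mp hfac with h | h
    · exact absurd (sub_eq_zero.mp h) hω1
    · linear_combination h - (ω + 1) * h20
  set ψ := ψ4 ω hω with hψ
  set φ := SpecialLinearGroup.map (n := Fin 3) ψ with hφ
  have h1 : 1 ≤ 2 := by norm_num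
  have hxa : φ a4 = xg F 2 h1 := by
    apply Subtype.ext
    rw [SpecialLinearGroup.map_apply_coe]
    show ψ.mapMatrix _ = Xm F 2
    rw [Xm_eq (by norm_num)]
    ext i j
    fin_cases i <;> fin_cases j <;> simp [a4, shiftMatrix]
  refine ⟨φ a4, φ g4, by rw [hxa]; exact regular_xg h1, ?_⟩
  have hginv : (φ g4)⁻¹ = φ g4' := by
    rw [← map_inv]
    congr 1
    exact (eq_inv_of_mul_eq_one_right g4_mul).symm
  have hz : φ g4 * φ a4 * (φ g4)⁻¹ = φ b4 := by
    rw [hginv, ← map_mul, ← map_mul, b4_eq]
  rw [hz]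
  set H := Subgroup.closure ({φ a4, φ b4} : Set (SpecialLinearGroup (Fin 3) F)) with hH
  set K := H.comap φ with hK
  have ha : a4 ∈ K := Subgroup.subset_closure (by simp)
  have hb : b4 ∈ K := Subgroup.subset_closure (by simp)
  have ha' : a4' ∈ K := by
    rw [eq_inv_of_mul_eq_one_right a4_mul]; exact K.inv_mem ha
  have hb' : b4' ∈ K := by
    rw [eq_inv_of_mul_eq_one_right b4_mul]; exact K.inv_mem hb
  have hmapK : ∀ {i j : Fin 3} (hij : i ≠ j) (c : R4), tv hij c ∈ K → tv hij (ψ c) ∈ H := by
    intro i j hij c hc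
    rw [hK, Subgroup.mem_comap, hφ, map_tv] at hc
    exact hc
  have hfull : Full H (1 : F) := by
    intro i j hij
    have key : tv hij (1 : R4) ∈ K := by
      fin_cases i <;> fin_cases j
      · exact absurd rfl hij
      · show tv _ (1 : R4) ∈ K
        rw [w01]
        repeat' apply Subgroup.mul_mem
        all_goals assumption
      · show tv _ (1 : R4) ∈ K
        rw [w02]
        repeat' apply Subgroup.mul_mem
        all_goals assumption
      · show tv _ (1 : R4) ∈ K
        rw [w10]
        repeat' apply Subgroup.mul_mem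
        all_goals assumption
      · exact absurd rfl hij
      · show tv _ (1 : R4) ∈ K
        rw [w12]
        repeat' apply Subgroup.mul_mem
        all_goals assumption
      · show tv _ (1 : R4) ∈ K
        rw [w20]
        repeat' apply Subgroup.mul_mem
        all_goals assumption
      · show tv _ (1 : R4) ∈ K
        rw [w21]
        repeat' apply Subgroup.mul_mem
        all_goals assumption
      · exact absurd rfl hij
    have := hmapK hij 1 key
    rwa [map_one] at this
  have h02 : (0 : Fin 3) ≠ 2 := by decide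
  have hT : tv h02 ω ∈ H := by
    have key : tv h02 R4.w ∈ K := by
      rw [w02w]
      repeat' apply Subgroup.mul_mem
      all_goals assumption
    have := hmapK h02 R4.w key
    rwa [hψ, ψ4_w] at this
  have hr : ∀ a : F, a ≠ 0 → ∃ k : ℕ, a = ω ^ k := by
    intro a ha
    have hcard : ({0, 1, ω, ω + 1} : Finset F).card = 4 := by
      have hω2 : ω + 1 ≠ 0 := by
        intro h
        apply hω1
        linear_combination h - h20
      rw [Finset.card_insert_of_notMem, Finset.card_insert_of_notMem,
        Finset.card_insert_of_notMem, Finset.card_singleton]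
      · simp
      · simp only [Finset.mem_insert, Finset.mem_singleton, not_or]
        refine ⟨Ne.symm hω1, ?_⟩
        intro h
        apply hω0
        linear_combination -h
      · simp only [Finset.mem_insert, Finset.mem_singleton, not_or]
        exact ⟨zero_ne_one, Ne.symm hω0, Ne.symm hω2⟩
    have huniv : ({0, 1, ω, ω + 1} : Finset F) = Finset.univ :=
      Finset.eq_univ_of_card _ (by rw [hcard, h4])
    have hmem : a ∈ ({0, 1, ω, ω + 1} : Finset F) := by rw [huniv]; exact Finset.mem_univ a
    simp only [Finset.mem_insert, Finset.mem_singleton] at hmem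
    rcases hmem with h | h | h | h
    · exact absurd h ha
    · exact ⟨0, by rw [h, pow_zero]⟩
    · exact ⟨1, by rw [h, pow_one]⟩
    · exact ⟨2, by rw [h, hω]⟩
  have h3 : 3 ≤ Fintype.card (Fin 3) := by simp
  exact eq_top_of_full h3 hfull hr h02 hT

end Cfsg.Agent.Lib.H12.Gen3
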