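import Mathlib
import Cfsg.Agent.Lib.H12.Gen3C

set_option autoImplicit false

/-!
# Two conjugate regular unipotent elements of `SL_n(F)`, `n ≥ 4`: matrix-level membership and
the abstract transvection system

`InH H M` says that the matrix `M` is (the matrix of) an element of the subgroup `H` of `SL_n(F)`.
A *system* `Sys H` consists of vectors `v k`, functionals `φ k` (`k : ℤ`) with pairings
`φ i ⬝ᵥ v j = f (j - i)` where `f` vanishes on the window `0 ≤ i < L` and `f L = 1`, such that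
`H` contains all `1 + A k - A (k+1)`, `A k = ν • v k ⊗ φ k`.
-/

namespace Cfsg.Agent.Lib.H12.Gen4

open Matrix Cfsg.Agent.Lib.H13.AutPSL Cfsg.Agent.Lib.H12.Gen3

variable {n : ℕ} {F : Type*} [Field F]

/-- the matrix `M` belongs to `H` -/
def InH (H : Subgroup (SpecialLinearGroup (Fin n) F)) (M : Matrix (Fin n) (Fin n) F) : Prop :=
  ∃ g ∈ H, (g : Matrix (Fin n) (Fin n) F) = M

variable {H : Subgroup (SpecialLinearGroup (Fin n) F)}

theorem InH.of_mem {g : SpecialLinearGroup (Fin n) F} (hg : g ∈ H) : InH H g.1 := ⟨g, hg, rfl⟩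

theorem InH.one : InH H 1 := ⟨1, H.one_mem, rfl⟩

theorem InH.mul {M M' : Matrix (Fin n) (Fin n) F} (h : InH H M) (h' : InH H M') :
    InH H (M * M') := by
  obtain ⟨g, hg, rfl⟩ := h
  obtain ⟨g', hg', rfl⟩ := h'
  exact ⟨g * g', H.mul_mem hg hg', rfl⟩

theorem coe_inv_eq {g : SpecialLinearGroup (Fin n) F} {M' : Matrix (Fin n) (Fin n) F}
    (h : g.1 * M' = 1) : (g⁻¹ : SpecialLinearGroup (Fin n) F).1 = M' := by
  have h1 : (g⁻¹ : SpecialLinearGroup (Fin n) F).1 * g.1 = 1 := coe_inv_mul g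
  calc (g⁻¹ : SpecialLinearGroup (Fin n) F).1
      = (g⁻¹ : SpecialLinearGroup (Fin n) F).1 * (g.1 * M') := by rw [h, Matrix.mul_one]
    _ = M' := by rw [← Matrix.mul_assoc, h1, Matrix.one_mul]

theorem InH.inv {M M' : Matrix (Fin n) (Fin n) F} (h : InH H M) (hM : M * M' = 1) :
    InH H M' := by
  obtain ⟨g, hg, rfl⟩ := h
  exact ⟨g⁻¹, H.inv_mem hg, coe_inv_eq hM⟩

/-- right cancellation -/
theorem InH.of_mul_eq {M X Y : Matrix (Fin n) (Fin n) F} (hX : InH H X) (hY : InH H Y)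
    (h : M * X = Y) : InH H M := by
  obtain ⟨gX, hgX, rfl⟩ := hX
  obtain ⟨gY, hgY, rfl⟩ := hY
  refine ⟨gY * gX⁻¹, H.mul_mem hgY (H.inv_mem hgX), ?_⟩
  show gY.1 * (gX⁻¹ : SpecialLinearGroup (Fin n) F).1 = M
  rw [← h, Matrix.mul_assoc, coe_mul_inv, Matrix.mul_one]

theorem InH.conj {Y Y' M : Matrix (Fin n) (Fin n) F} (hY : InH H Y) (hYY' : Y * Y' = 1)
    (hM : InH H M) : InH H (Y * M * Y') :=
  (hY.mul hM).mul (hY.inv hYY')

theorem InH.tv_mem {v φ : Fin n → F} (h : InH H (tm v φ)) (h0 : φ ⬝ᵥ v = 0) : tv v φ h0 ∈ H := by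
  obtain ⟨g, hg, hgm⟩ := h
  have : g = tv v φ h0 := Subtype.ext hgm
  rw [← this]; exact hg

theorem tm_mul_tm_neg (x χ : Fin n → F) (h : χ ⬝ᵥ x = 0) : tm x χ * tm x (-χ) = 1 := by
  rw [tm_mul_right x χ (-χ) h, add_neg_cancel, tm_zero_right]

/-- **Stabiliser lemma**: if `Y ∈ H` fixes the centre `x` of the transvection `T(x, χ) ∈ H`, then
`T(x, χ - χ Y⁻¹) ∈ H`. -/
theorem InH.stab {x χ : Fin n → F} {Y Y' : Matrix (Fin n) (Fin n) F} (hχ : χ ⬝ᵥ x = 0)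
    (hX : InH H (tm x χ)) (hY : InH H Y) (hYY' : Y * Y' = 1) (hfix : Y *ᵥ x = x) :
    (χ - χ ᵥ* Y') ⬝ᵥ x = 0 ∧ InH H (tm x (χ - χ ᵥ* Y')) := by
  have hY'Y : Y' * Y = 1 := mul_eq_one_comm.mp hYY'
  have hfix' : Y' *ᵥ x = x := by
    conv_lhs => rw [← hfix]
    rw [mulVec_mulVec, hY'Y, one_mulVec]
  have h1 : (χ ᵥ* Y') ⬝ᵥ x = 0 := by
    rw [← dotProduct_mulVec, hfix', hχ]
  have hconj : InH H (tm x (χ ᵥ* Y')) := by
    have := hY.conj hYY' hX
    rw [conj_tm Y Y' hYY', hfix] at this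
    exact this
  have hinv : InH H (tm x (-(χ ᵥ* Y'))) := hconj.inv (tm_mul_tm_neg x _ h1)
  refine ⟨by rw [sub_dotProduct, hχ, h1, sub_zero], ?_⟩
  have := hX.mul hinv
  rw [tm_mul_right x χ _ hχ, ← sub_eq_add_neg] at this
  exact this

/-- the abstract transvection system -/
structure Sys (H : Subgroup (SpecialLinearGroup (Fin n) F)) where
  v : ℤ → Fin n → F
  φ : ℤ → Fin n → F
  f : ℤ → F
  L : ℕ
  ν : F
  ε : F
  hL : 3 ≤ L
  pair : ∀ i j : ℤ, φ i ⬝ᵥ v j = f (j - i)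
  f_zero : ∀ i : ℤ, 0 ≤ i → i < L → f i = 0
  f_L : f L = 1
  f_neg_one : f (-1) = ε
  hε : ε = 1 ∨ ε = -1
  hD : ∀ k : ℤ, InH H (1 + vecMulVec (v k) (ν • φ k) - vecMulVec (v (k + 1)) (ν • φ (k + 1)))

namespace Sys

variable (S : Sys H)

/-- the rank one matrix `ν v_k ⊗ φ_k` -/
def A (k : ℤ) : Matrix (Fin n) (Fin n) F := vecMulVec (S.v k) (S.ν • S.φ k)

theorem A_mul (a b : ℤ) :
    S.A a * S.A b = (S.ν * S.f (b - a)) • vecMulVec (S.v a) (S.ν • S.φ b) := by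
  unfold A
  rw [vecMulVec_mul_vecMulVec, vecMulVec_smul, smul_dotProduct, S.pair, smul_eq_mul]

theorem A_mul_zero (a b : ℤ) (h0 : 0 ≤ b - a) (h1 : b - a < S.L) : S.A a * S.A b = 0 := by
  rw [S.A_mul, S.f_zero _ h0 h1, mul_zero, zero_smul]

theorem vecMul_A (b k : ℤ) : S.φ b ᵥ* S.A k = (S.ν * S.f (k - b)) • S.φ k := by
  unfold A
  rw [vecMul_vecMulVec, S.pair, smul_smul, mul_comm]

theorem A_mulVec (k a : ℤ) : S.A k *ᵥ S.v a = (S.ν * S.f (a - k)) • S.v k := by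
  unfold A
  rw [vecMulVec_mulVec, smul_dotProduct, S.pair, smul_eq_mul]
  ext i
  simp [mul_comm]

/-- `d_k = t_k t_{k+1}⁻¹` -/
def D (k : ℤ) : Matrix (Fin n) (Fin n) F := 1 + S.A k - S.A (k + 1)

/-- the inverse of `d_k` -/
def D' (k : ℤ) : Matrix (Fin n) (Fin n) F := 1 + S.A (k + 1) - S.A k - S.A (k + 1) * S.A k

theorem inH_D (k : ℤ) : InH H (S.D k) := S.hD k

theorem D_mul_D' (k : ℤ) : S.D k * S.D' k = 1 := by
  have hL := S.hL
  have haa : S.A k * S.A k = 0 := S.A_mul_zero k k (by omega) (by omega)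
  have hab : S.A k * S.A (k + 1) = 0 := S.A_mul_zero k (k + 1) (by omega) (by omega)
  have hbb : S.A (k + 1) * S.A (k + 1) = 0 := S.A_mul_zero (k + 1) (k + 1) (by omega) (by omega)
  unfold D D'
  generalize S.A k = a at *
  generalize S.A (k + 1) = b at *
  have e1 : a * (b * a) = 0 := by rw [← Matrix.mul_assoc, hab, Matrix.zero_mul]
  have e2 : b * (b * a) = 0 := by rw [← Matrix.mul_assoc, hbb, Matrix.zero_mul]
  simp only [add_mul, sub_mul, mul_add, mul_sub, Matrix.one_mul, Matrix.mul_one, haa, hab, hbb,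
    e1, e2]
  abel

theorem D_mulVec (k a : ℤ) (h1 : 0 ≤ a - k - 1) (h2 : a - k < S.L) :
    S.D k *ᵥ S.v a = S.v a := by
  unfold D
  rw [sub_mulVec, add_mulVec, one_mulVec, S.A_mulVec, S.A_mulVec,
    S.f_zero (a - k) (by omega) h2, S.f_zero (a - (k + 1)) (by omega) (by omega)]
  simp

theorem vecMul_D' (b k : ℤ) :
    S.φ b ᵥ* S.D' k = S.φ b + (S.ν * S.f (k + 1 - b)) • S.φ (k + 1) - (S.ν * S.f (k - b)) • S.φ k
      - (S.ν * S.f (k + 1 - b) * (S.ν * S.ε)) • S.φ k := by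
  unfold D'
  rw [vecMul_sub, vecMul_sub, vecMul_add, vecMul_one, S.vecMul_A, S.vecMul_A, ← vecMul_vecMul,
    S.vecMul_A, smul_vecMul, S.vecMul_A, smul_smul]
  have : k - (k + 1) = -1 := by omega
  rw [this, S.f_neg_one]

end Sys

end Cfsg.Agent.Lib.H12.Gen4
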