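import Mathlib
import Cfsg.Agent.Lib.H12.Gen4A

set_option autoImplicit false

/-!
# The coefficient groups `C d` of a transvection system and the four basic steps
-/

namespace Cfsg.Agent.Lib.H12.Gen4

open Matrix Cfsg.Agent.Lib.H13.AutPSL Cfsg.Agent.Lib.H12.Gen3

variable {n : ℕ} {F : Type*} [Field F]
variable {H : Subgroup (SpecialLinearGroup (Fin n) F)}

namespace Sys

variable (S : Sys H)

/-- the functionals `ψ` (vanishing at `v a`) such that the transvection `T(v a, ψ)` lies in `H` -/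
def Psi (a : ℤ) : AddSubgroup (Fin n → F) where
  carrier := {ψ | ψ ⬝ᵥ S.v a = 0 ∧ InH H (tm (S.v a) ψ)}
  zero_mem' := ⟨zero_dotProduct _, by rw [tm_zero_right]; exact InH.one⟩
  add_mem' := by
    rintro ψ ψ' ⟨h1, h2⟩ ⟨h1', h2'⟩
    refine ⟨by rw [add_dotProduct, h1, h1', add_zero], ?_⟩
    have := h2.mul h2'
    rwa [tm_mul_right _ _ _ h1] at this
  neg_mem' := by
    rintro ψ ⟨h1, h2⟩
    exact ⟨by rw [neg_dotProduct, h1, neg_zero], h2.inv (tm_mul_tm_neg _ _ h1)⟩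

theorem mem_Psi {a : ℤ} {ψ : Fin n → F} :
    ψ ∈ S.Psi a ↔ ψ ⬝ᵥ S.v a = 0 ∧ InH H (tm (S.v a) ψ) := Iff.rfl

theorem Psi_stab {a : ℤ} {ψ : Fin n → F} (hψ : ψ ∈ S.Psi a) {Y Y' : Matrix (Fin n) (Fin n) F}
    (hY : InH H Y) (hYY' : Y * Y' = 1) (hfix : Y *ᵥ S.v a = S.v a) :
    ψ - ψ ᵥ* Y' ∈ S.Psi a :=
  InH.stab hψ.1 hψ.2 hY hYY' hfix

theorem Psi_congr {a a' : ℤ} (h : a = a') {ψ : Fin n → F} (hψ : ψ ∈ S.Psi a) : ψ ∈ S.Psi a' := by
  subst h; exact hψ

/-- the coefficients `c` with `T(v (k+d), c φ k) ∈ H` for all `k` -/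
def C (d : ℤ) : AddSubgroup F where
  carrier := {c | ∀ k : ℤ, c • S.φ k ∈ S.Psi (k + d)}
  zero_mem' := fun k => by rw [zero_smul]; exact zero_mem _
  add_mem' := fun h h' k => by rw [add_smul]; exact add_mem (h k) (h' k)
  neg_mem' := fun h k => by rw [neg_smul]; exact neg_mem (h k)

theorem mem_C {d : ℤ} {c : F} : c ∈ S.C d ↔ ∀ k : ℤ, c • S.φ k ∈ S.Psi (k + d) := Iff.rfl

theorem C_congr {d d' : ℤ} (h : d = d') {c : F} (hc : c ∈ S.C d) : c ∈ S.C d' := by
  subst h; exact hc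

theorem eps_mul_mem {d : ℤ} {c : F} (hc : c ∈ S.C d) : S.ε * c ∈ S.C d := by
  rcases S.hε with h | h
  · rw [h, one_mul]; exact hc
  · rw [h, neg_one_mul]; exact neg_mem hc

/-- the general stabiliser computation with `Y = d_{b-j}` -/
theorem stepGen {d : ℤ} {c : F} (hc : c ∈ S.C d) (j : ℤ) (hj : 1 ≤ j) (hd : 0 ≤ d)
    (hdj : d + j < S.L) (b : ℤ) :
    (c * (S.ν * S.f (-j))) • S.φ (b - j) + (c * (S.ν * S.f (1 - j) * (S.ν * S.ε))) • S.φ (b - j)
      - (c * (S.ν * S.f (1 - j))) • S.φ (b - j + 1) ∈ S.Psi (b + d) := by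
  have key := S.Psi_stab (hc b) (S.inH_D (b - j)) (S.D_mul_D' _)
    (S.D_mulVec (b - j) (b + d) (by omega) (by omega))
  have e1 : b - j + 1 - b = 1 - j := by ring
  have e2 : b - j - b = -j := by ring
  rw [smul_vecMul, S.vecMul_D', e1, e2] at key
  convert key using 1
  ext i
  simp only [Pi.add_apply, Pi.sub_apply, Pi.smul_apply, smul_eq_mul]
  ring

/-- shift: `c ∈ C d ⟹ ν c ∈ C (d+1)` -/
theorem stepB {d : ℤ} {c : F} (hc : c ∈ S.C d) (hd : 0 ≤ d) (hd1 : d + 1 < S.L) :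
    S.ν * c ∈ S.C (d + 1) := by
  have h0 : S.f 0 = 0 := S.f_zero 0 le_rfl (by have := S.hL; omega)
  have hmain : S.ε * (S.ν * c) ∈ S.C (d + 1) := by
    intro k
    have key := S.stepGen hc 1 le_rfl hd hd1 (k + 1)
    have e1 : (1 : ℤ) - 1 = 0 := by norm_num
    have e2 : k + 1 - 1 = k := by ring
    rw [e1, h0, S.f_neg_one, e2] at key
    simp only [mul_zero, zero_mul, zero_smul, add_zero, sub_zero] at key
    have e3 : c * (S.ν * S.ε) = S.ε * (S.ν * c) := by ring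
    rw [e3] at key
    exact S.Psi_congr (by ring) key
  have := S.eps_mul_mem hmain
  rw [← mul_assoc] at this
  rcases S.hε with h | h
  · rw [h] at this; simpa using this
  · rw [h] at this; simpa using this

/-- iterated shift -/
theorem pushUp (i : ℕ) : ∀ {d : ℤ} {c : F}, c ∈ S.C d → 0 ≤ d → d + i < S.L →
    S.ν ^ i * c ∈ S.C (d + i) := by
  induction i with
  | zero =>
    intro d c hc _ _
    rw [pow_zero, one_mul]
    exact S.C_congr (by simp) hc
  | succ i ih =>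
    intro d c hc hd hdi
    have h1 := ih hc hd (by push_cast at hdi ⊢; omega)
    have h2 := S.stepB h1 (by omega) (by push_cast at hdi ⊢; omega)
    rw [pow_succ, mul_comm (S.ν ^ i) S.ν, mul_assoc]
    exact S.C_congr (by push_cast; ring) h2

/-- the inhomogeneous step -/
theorem stepD (j : ℕ) : ∀ {d : ℤ} {c : F}, c ∈ S.C d → 0 ≤ d → d + j < S.L →
    S.ν * S.f (-(j : ℤ)) * c ∈ S.C (d + j) := by
  induction j with
  | zero =>
    intro d c _ _ _
    have h0 : S.f 0 = 0 := S.f_zero 0 le_rfl (by have := S.hL; omega)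
    simp only [Nat.cast_zero, neg_zero, h0, mul_zero, zero_mul]
    exact zero_mem _
  | succ j ih =>
    intro d c hc hd hdj
    push_cast at hdj
    have hα : S.ν * S.f (-(j : ℤ)) * c ∈ S.C (d + j) := ih hc hd (by omega)
    have hβ : S.ε * (S.ν * (S.ν * S.f (-(j : ℤ)) * c)) ∈ S.C (d + j + 1) :=
      S.eps_mul_mem (S.stepB hα (by omega) (by omega))
    intro k
    have key := S.stepGen hc ((j : ℤ) + 1) (by omega) hd (by omega) (k + ((j : ℤ) + 1))
    have e1 : (1 : ℤ) - ((j : ℤ) + 1) = -(j : ℤ) := by ring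
    have e2 : k + ((j : ℤ) + 1) - ((j : ℤ) + 1) = k := by ring
    rw [e1, e2] at key
    have k1 := S.Psi_congr (a' := k + ((j : ℤ) + 1) + d) (by ring) (hα (k + 1))
    have k2 := S.Psi_congr (a' := k + ((j : ℤ) + 1) + d) (by ring) (hβ k)
    have := add_mem (sub_mem key k2) k1
    refine S.Psi_congr (a := k + ((j : ℤ) + 1) + d) (by push_cast; ring) ?_
    convert this using 1
    ext i
    simp only [Pi.add_apply, Pi.sub_apply, Pi.smul_apply, smul_eq_mul]
    push_cast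
    ring

/-- wrap around -/
theorem stepW {d1 d2 : ℤ} {c c' : F} (hc : c ∈ S.C d1) (hc' : c' ∈ S.C d2) (h1 : 0 ≤ d1)
    (h1' : d1 < S.L) (h2 : 0 ≤ d2) (h2' : d2 < S.L) (h : (S.L : ℤ) ≤ d1 + d2) :
    c * c' ∈ S.C (d1 + d2 - S.L) := by
  intro k
  -- `b' = k`, `a' = k + d2`, `b = a' - L`, `a = b + d1`
  have hX := hc (k + d2 - S.L)
  have hY := hc' k
  have hYY' := tm_mul_tm_neg (S.v (k + d2)) (c' • S.φ k) hY.1
  have hfix : tm (S.v (k + d2)) (c' • S.φ k) *ᵥ S.v (k + d2 - S.L + d1) = S.v (k + d2 - S.L + d1) := by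
    rw [tm_mulVec, smul_dotProduct, S.pair, S.f_zero _ (by omega) (by omega)]
    simp
  have key := S.Psi_stab hX hY.2 hYY' hfix
  rw [vecMul_tm, smul_dotProduct, S.pair] at key
  have e : k + d2 - (k + d2 - S.L) = S.L := by ring
  rw [e, S.f_L] at key
  refine S.Psi_congr (a := k + d2 - S.L + d1) (by ring) ?_
  convert key using 1
  ext i
  simp only [Pi.add_apply, Pi.sub_apply, Pi.smul_apply, Pi.neg_apply, smul_eq_mul]
  ring

end Sys

end Cfsg.Agent.Lib.H12.Gen4
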