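import Mathlib
import Cfsg.Agent.Lib.H12.Gen4B

set_option autoImplicit false

/-!
# The seed: `ν³ ∈ C 2` from the double commutator `[s₁,[s₁,s₂]]`
-/

namespace Cfsg.Agent.Lib.H12.Gen4

open Matrix Cfsg.Agent.Lib.H13.AutPSL Cfsg.Agent.Lib.H12.Gen3

/-- the commutator identities in a ring with `aᵢ aⱼ = 0` for `i ≤ j` -/
theorem comm_identity {R : Type*} [Ring R] (a1 a2 a3 : R) (h11 : a1 * a1 = 0) (h12 : a1 * a2 = 0)
    (h13 : a1 * a3 = 0) (h22 : a2 * a2 = 0) (h23 : a2 * a3 = 0) (h33 : a3 * a3 = 0) :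
    (1 - a2 * a1 + a3 * a1 - a3 * a2 + a3 * a2 * a1) * ((1 + a2 - a3) * (1 + a1 - a2))
        = (1 + a1 - a2) * (1 + a2 - a3) ∧
    (1 + a3 * a2 * a1) * ((1 - a2 * a1 + a3 * a1 - a3 * a2 + a3 * a2 * a1) * (1 + a1 - a2))
        = (1 + a1 - a2) * (1 - a2 * a1 + a3 * a1 - a3 * a2 + a3 * a2 * a1) := by
  have k11 : ∀ x, a1 * (a1 * x) = 0 := fun x => by rw [← mul_assoc, h11, zero_mul]
  have k12 : ∀ x, a1 * (a2 * x) = 0 := fun x => by rw [← mul_assoc, h12, zero_mul]
  have k13 : ∀ x, a1 * (a3 * x) = 0 := fun x => by rw [← mul_assoc, h13, zero_mul]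
  have k22 : ∀ x, a2 * (a2 * x) = 0 := fun x => by rw [← mul_assoc, h22, zero_mul]
  have k23 : ∀ x, a2 * (a3 * x) = 0 := fun x => by rw [← mul_assoc, h23, zero_mul]
  have k33 : ∀ x, a3 * (a3 * x) = 0 := fun x => by rw [← mul_assoc, h33, zero_mul]
  constructor
  · simp only [add_mul, sub_mul, mul_add, mul_sub, one_mul, mul_one, mul_assoc, h11, h12, h13, h22,
      h23, h33, k11, k12, k13, k22, k23, k33, mul_zero, zero_mul, add_zero, sub_zero, zero_add,
      zero_sub]
    abel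
  · simp only [add_mul, sub_mul, mul_add, mul_sub, one_mul, mul_one, mul_assoc, h11, h12, h13, h22,
      h23, h33, k11, k12, k13, k22, k23, k33, mul_zero, zero_mul, add_zero, sub_zero, zero_add,
      zero_sub]
    abel

variable {n : ℕ} {F : Type*} [Field F]
variable {H : Subgroup (SpecialLinearGroup (Fin n) F)}

namespace Sys

variable (S : Sys H)

theorem A3_mul (k : ℤ) :
    S.A (k + 2) * S.A (k + 1) * S.A k = vecMulVec (S.v (k + 2)) (S.ν ^ 3 • S.φ k) := by
  rw [Matrix.mul_assoc, S.A_mul (k + 1) k, Matrix.mul_smul]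
  unfold A
  rw [vecMulVec_mul_vecMulVec, smul_dotProduct, S.pair]
  have e1 : k - (k + 1) = -1 := by ring
  have e2 : k + 1 - (k + 2) = -1 := by ring
  rw [e1, e2, S.f_neg_one, vecMulVec_smul, vecMulVec_smul, vecMulVec_smul, smul_smul, smul_smul]
  congr 1
  rcases S.hε with h | h <;> rw [h] <;> simp only [smul_eq_mul] <;> ring

/-- the seed -/
theorem seed : S.ν ^ 3 ∈ S.C 2 := by
  intro k
  have hL := S.hL
  refine ⟨?_, ?_⟩
  · rw [smul_dotProduct, S.pair, S.f_zero _ (by omega) (by omega), smul_zero]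
  · have h11 : S.A k * S.A k = 0 := S.A_mul_zero _ _ (by omega) (by omega)
    have h12 : S.A k * S.A (k + 1) = 0 := S.A_mul_zero _ _ (by omega) (by omega)
    have h13 : S.A k * S.A (k + 2) = 0 := S.A_mul_zero _ _ (by omega) (by omega)
    have h22 : S.A (k + 1) * S.A (k + 1) = 0 := S.A_mul_zero _ _ (by omega) (by omega)
    have h23 : S.A (k + 1) * S.A (k + 2) = 0 := S.A_mul_zero _ _ (by omega) (by omega)
    have h33 : S.A (k + 2) * S.A (k + 2) = 0 := S.A_mul_zero _ _ (by omega) (by omega)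
    obtain ⟨id1, id2⟩ := comm_identity (S.A k) (S.A (k + 1)) (S.A (k + 2)) h11 h12 h13 h22 h23 h33
    have s1 : InH H (1 + S.A k - S.A (k + 1)) := S.inH_D k
    have s2 : InH H (1 + S.A (k + 1) - S.A (k + 2)) := by
      have := S.inH_D (k + 1)
      unfold D at this
      have e : k + 1 + 1 = k + 2 := by ring
      rw [e] at this
      exact this
    have hc := InH.of_mul_eq (s2.mul s1) (s1.mul s2) id1
    have hW := InH.of_mul_eq (hc.mul s1) (s1.mul hc) id2
    rw [S.A3_mul] at hW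
    exact hW

end Sys

end Cfsg.Agent.Lib.H12.Gen4
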