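import Mathlib
import Cfsg.Agent.Lib.H12.Gen4C

set_option autoImplicit false

/-!
# All coefficient groups are everything
-/

namespace Cfsg.Agent.Lib.H12.Gen4

open Matrix Cfsg.Agent.Lib.H13.AutPSL Cfsg.Agent.Lib.H12.Gen3

variable {n : ℕ} {F : Type*} [Field F]
variable {H : Subgroup (SpecialLinearGroup (Fin n) F)}

namespace Sys

variable (S : Sys H)

theorem nu_pow_L : S.ν ^ S.L ∈ S.C ((S.L : ℤ) - 1) := by
  have hL := S.hL
  have := S.pushUp (S.L - 3) S.seed (by norm_num) (by omega)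
  rw [← pow_add, Nat.sub_add_cancel hL] at this
  exact S.C_congr (by omega) this

/-- `B = C (L-1)` is closed under `(b, b') ↦ ν b b'` -/
theorem B_mul {b b' : F} (hb : b ∈ S.C ((S.L : ℤ) - 1)) (hb' : b' ∈ S.C ((S.L : ℤ) - 1)) :
    S.ν * (b * b') ∈ S.C ((S.L : ℤ) - 1) := by
  have hL := S.hL
  have h1 := S.stepW hb hb' (by omega) (by omega) (by omega) (by omega) (by omega)
  have h2 := S.stepB h1 (by omega) (by omega)
  exact S.C_congr (by ring) h2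

/-- the set `A = ν B` -/
def AA : AddSubgroup F := (S.C ((S.L : ℤ) - 1)).comap (AddMonoidHom.mulLeft S.ν⁻¹)

theorem mem_AA {x : F} : x ∈ S.AA ↔ S.ν⁻¹ * x ∈ S.C ((S.L : ℤ) - 1) := Iff.rfl

theorem AA_mul (hν : S.ν ≠ 0) {x y : F} (hx : x ∈ S.AA) (hy : y ∈ S.AA) : x * y ∈ S.AA := by
  rw [mem_AA] at *
  have := S.B_mul hx hy
  convert this using 1
  field_simp

theorem AA_pow (hν : S.ν ≠ 0) {x : F} (hx : x ∈ S.AA) (k : ℕ) (hk : 1 ≤ k) : x ^ k ∈ S.AA := by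
  induction k, hk using Nat.le_induction with
  | base => rw [pow_one]; exact hx
  | succ k _ ih => rw [pow_succ]; exact S.AA_mul hν ih hx

theorem AA_nu_pow (hν : S.ν ≠ 0) : S.ν ^ (S.L + 1) ∈ S.AA := by
  rw [mem_AA, pow_succ, ← mul_assoc, mul_comm, ← mul_assoc, mul_inv_cancel₀ hν, one_mul]
  exact S.nu_pow_L

section finite

variable [Fintype F]

theorem AA_one (hν : S.ν ≠ 0) : (1 : F) ∈ S.AA := by
  have h0 : S.ν ^ (S.L + 1) ≠ 0 := pow_ne_zero _ hν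
  have h1 := FiniteField.pow_card_sub_one_eq_one _ h0
  have hq : 1 ≤ Fintype.card F - 1 := by
    have := Fintype.one_lt_card (α := F); omega
  rw [← h1]
  exact S.AA_pow hν (S.AA_nu_pow hν) _ hq

theorem AA_pow' (hν : S.ν ≠ 0) {x : F} (hx : x ∈ S.AA) (k : ℕ) : x ^ k ∈ S.AA := by
  rcases Nat.eq_zero_or_pos k with h | h
  · rw [h, pow_zero]; exact S.AA_one hν
  · exact S.AA_pow hν hx k h

theorem AA_inv (hν : S.ν ≠ 0) {x : F} (hx : x ∈ S.AA) : x⁻¹ ∈ S.AA := by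
  by_cases h0 : x = 0
  · rw [h0, _root_.inv_zero]; exact zero_mem _
  · have h1 := FiniteField.pow_card_sub_one_eq_one x h0
    have hq : Fintype.card F - 1 = (Fintype.card F - 2) + 1 := by
      have := Fintype.one_lt_card (α := F); omega
    rw [hq, pow_succ] at h1
    have : x⁻¹ = x ^ (Fintype.card F - 2) := (eq_inv_of_mul_eq_one_left h1).symm
    rw [this]
    exact S.AA_pow' hν hx _

theorem AA_int (hν : S.ν ≠ 0) (z : ℤ) : (z : F) ∈ S.AA := by
  have := S.AA.zsmul_mem (S.AA_one hν) z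
  rwa [zsmul_eq_mul, mul_one] at this

/-- the chain: `ν^(j-1) ∈ A` whenever `f (-j) ≠ 0` -/
theorem AA_chain (hν : S.ν ≠ 0) (hint : ∀ i : ℤ, ∃ z : ℤ, S.f i = (z : F)) (j : ℕ) (hj : 1 ≤ j)
    (hjL : j + 1 ≤ S.L) (hf : S.f (-(j : ℤ)) ≠ 0) : S.ν ^ (j - 1) ∈ S.AA := by
  have hL := S.hL
  have h1 := S.nu_pow_L
  have h3 := S.seed
  have hw1 := S.stepW h1 h3 (by omega) (by omega) (by omega) (by omega) (by omega)
  have hw1' : S.ν ^ S.L * S.ν ^ 3 ∈ S.C 1 := S.C_congr (by ring) hw1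
  have hw2 := S.stepW hw1' h1 (by omega) (by omega) (by omega) (by omega) (by omega)
  have hw2' : S.ν ^ S.L * S.ν ^ 3 * S.ν ^ S.L ∈ S.C 0 := S.C_congr (by ring) hw2
  have hd := S.stepD j hw2' le_rfl (by omega)
  have hp := S.pushUp (S.L - 1 - j) hd (by omega) (by omega)
  have hB : S.ν ^ (S.L - 1 - j) * (S.ν * S.f (-(j : ℤ)) * (S.ν ^ S.L * S.ν ^ 3 * S.ν ^ S.L)) ∈
      S.C ((S.L : ℤ) - 1) := S.C_congr (by omega) hp
  obtain ⟨z, hz⟩ := hint (-(j : ℤ))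
  have hA : S.f (-(j : ℤ)) * S.ν ^ ((S.L - 1 - j) + 2 * S.L + 5) ∈ S.AA := by
    rw [mem_AA]
    convert hB using 1
    field_simp
    ring
  have hzinv : (S.f (-(j : ℤ)))⁻¹ ∈ S.AA := by
    rw [hz]; exact S.AA_inv hν (S.AA_int hν z)
  have hA2 : S.ν ^ ((S.L - 1 - j) + 2 * S.L + 5) ∈ S.AA := by
    have := S.AA_mul hν hzinv hA
    rwa [← mul_assoc, inv_mul_cancel₀ hf, one_mul] at this
  have h33 : (S.ν ^ (S.L + 1)) ^ 3 ∈ S.AA := S.AA_pow' hν (S.AA_nu_pow hν) 3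
  have := S.AA_mul hν h33 (S.AA_inv hν hA2)
  convert this using 1
  have hne : S.ν ^ ((S.L - 1 - j) + 2 * S.L + 5) ≠ 0 := pow_ne_zero _ hν
  rw [eq_mul_inv_iff_mul_eq₀ hne, ← pow_add, ← pow_mul]
  congr 1
  omega

/-- all coefficient groups are everything -/
theorem C_top (hν : S.ν ≠ 0) (hgen : ∀ a : F, a ≠ 0 → ∃ k : ℕ, a = S.ν ^ k)
    (hint : ∀ i : ℤ, ∃ z : ℤ, S.f i = (z : F)) (p : ℕ) [Fact p.Prime] [CharP F p] (w : ℕ)
    (hcase : p ^ w = S.L + 1 ∨ (p ^ w + 2 ≤ S.L ∧ S.f (-((p ^ w + 1 : ℕ) : ℤ)) ≠ 0)) :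
    ∀ d : ℤ, 0 ≤ d → d < S.L → S.C d = ⊤ := by
  have hL := S.hL
  -- `ν ^ (p ^ w) ∈ A`
  have hP : S.ν ^ (p ^ w) ∈ S.AA := by
    rcases hcase with h | ⟨h1, h2⟩
    · rw [h]; exact S.AA_nu_pow hν
    · have := S.AA_chain hν hint (p ^ w + 1) (by omega) (by omega) h2
      rwa [Nat.add_sub_cancel] at this
  -- `ν ∈ A`
  have hνA : S.ν ∈ S.AA := by
    obtain ⟨e, _, he⟩ := FiniteField.card F p
    have h1 : S.ν ^ (Fintype.card F) ^ w = S.ν := FiniteField.pow_card_pow w S.ν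
    have he1 : 1 ≤ (e : ℕ) := e.pos
    have h2 : (Fintype.card F) ^ w = p ^ w * p ^ ((e : ℕ) * w - w) := by
      rw [he, ← pow_mul, ← pow_add]
      congr 1
      have : w ≤ (e : ℕ) * w := Nat.le_mul_of_pos_left w e.pos
      omega
    rw [h2, pow_mul] at h1
    rw [← h1]
    exact S.AA_pow' hν hP _
  -- `A = ⊤`
  have hAtop : ∀ x : F, x ∈ S.AA := by
    intro x
    by_cases hx : x = 0
    · rw [hx]; exact zero_mem _
    · obtain ⟨k, rfl⟩ := hgen x hx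
      exact S.AA_pow' hν hνA k
  have hBtop : ∀ x : F, x ∈ S.C ((S.L : ℤ) - 1) := by
    intro x
    have := hAtop (S.ν * x)
    rwa [mem_AA, ← mul_assoc, inv_mul_cancel₀ hν, one_mul] at this
  -- downward induction
  have hdown : ∀ i : ℕ, i < S.L → ∀ x : F, x ∈ S.C ((S.L : ℤ) - 1 - i) := by
    intro i
    induction i with
    | zero =>
      intro _ x
      exact S.C_congr (by simp) (hBtop x)
    | succ i ih =>
      intro hi x
      have h1 := ih (by omega) 1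
      have := S.stepW (hBtop x) h1 (by omega) (by omega) (by omega) (by omega) (by omega)
      rw [mul_one] at this
      exact S.C_congr (by push_cast; ring) this
  intro d hd0 hdL
  rw [eq_top_iff]
  intro x _
  have := hdown (S.L - 1 - d.toNat) (by omega) x
  exact S.C_congr (by omega) this

end finite

end Sys

end Cfsg.Agent.Lib.H12.Gen4
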