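import Mathlib
import Cfsg.Agent.Lib.H12.GenSLH
import Cfsg.Agent.Lib.H12.Gen4D

set_option autoImplicit false

/-!
# Powers of the Jordan block: the first row of `J ^ k`, `k : ℤ`
-/

namespace Cfsg.Agent.Lib.H12.Gen4

open Matrix Cfsg.Agent.Lib.H13.AutPSL Cfsg.Agent.Lib.H12.Gen3 Cfsg.Agent.Lib.H12
  Cfsg.Agent.Lib.H12.GenSL

variable {F : Type*} [Field F] {m : ℕ}

/-- the Jordan block `1 + N` -/
noncomputable def JJ (F : Type*) [Field F] (m : ℕ) (h1 : 1 ≤ m) :
    SpecialLinearGroup (Fin (m + 1)) F := xg F m h1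

theorem JJ_coe (h1 : 1 ≤ m) :
    ((JJ F m h1 : SpecialLinearGroup (Fin (m + 1)) F) : Matrix (Fin (m + 1)) (Fin (m + 1)) F) =
      1 + shiftMatrix (m + 1) := by
  show Xm F m = _
  exact Xm_eq h1

/-- the first row of `J ^ k` -/
noncomputable def rowJ (F : Type*) [Field F] (m : ℕ) (k : ℤ) : Fin (m + 1) → F :=
  fun b => ((Ring.choose k b.val : ℤ) : F)

theorem vecMul_shift (x : Fin (m + 1) → F) (b : Fin (m + 1)) :
    (x ᵥ* shiftMatrix (F := F) (m + 1)) b =
      if h : 1 ≤ b.val then x ⟨b.val - 1, by have := b.2; omega⟩ else 0 := by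
  unfold vecMul dotProduct shiftMatrix
  simp only [of_apply]
  split_ifs with h
  · rw [Finset.sum_eq_single (⟨b.val - 1, by have := b.2; omega⟩ : Fin (m + 1))]
    · rw [if_pos (by simp; omega), mul_one]
    · intro a _ ha
      rw [if_neg, mul_zero]
      intro hh
      apply ha
      apply Fin.ext
      simp; omega
    · intro hh; exact absurd (Finset.mem_univ _) hh
  · apply Finset.sum_eq_zero
    intro a _
    rw [if_neg (by omega), mul_zero]

theorem rowJ_vecMul (h1 : 1 ≤ m) (k : ℤ) :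
    rowJ F m k ᵥ* (JJ F m h1 : SpecialLinearGroup (Fin (m + 1)) F).1 = rowJ F m (k + 1) := by
  rw [JJ_coe, vecMul_add, vecMul_one]
  ext b
  rw [Pi.add_apply, vecMul_shift]
  unfold rowJ
  split_ifs with h
  · obtain ⟨c, hc⟩ : ∃ c, b.val = c + 1 := ⟨b.val - 1, by omega⟩
    simp only [hc, Nat.add_sub_cancel]
    rw [Ring.choose_succ_succ]
    push_cast
    ring
  · have : b.val = 0 := by omega
    rw [this, Ring.choose_zero_right, Ring.choose_zero_right, add_zero]

theorem rowJ_zero : rowJ F m 0 = Pi.single 0 1 := by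
  ext b
  unfold rowJ
  rw [Ring.choose_zero_ite, Pi.single_apply]
  by_cases h : b = 0
  · rw [if_pos h, if_pos (by rw [h]; rfl)]; simp
  · have hb : ¬ (b.val = 0) := fun hh => h (Fin.ext hh)
    rw [if_neg h, if_neg hb]; simp

theorem val_mul {n : ℕ} (a b : SpecialLinearGroup (Fin n) F) : (a * b).1 = a.1 * b.1 := rfl

/-- the first row of `J ^ k` -/
theorem e0_vecMul_zpow (h1 : 1 ≤ m) (k : ℤ) :
    (Pi.single 0 1 : Fin (m + 1) → F) ᵥ* ((JJ F m h1) ^ k : SpecialLinearGroup (Fin (m + 1)) F).1 =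
      rowJ F m k := by
  induction k using Int.induction_on with
  | zero => rw [zpow_zero, rowJ_zero]; exact vecMul_one _
  | succ i ih =>
    rw [_root_.zpow_add_one, val_mul, ← vecMul_vecMul, ih, rowJ_vecMul]
  | pred i ih =>
    have h2 : rowJ F m (-(i : ℤ) - 1) ᵥ* (JJ F m h1 : SpecialLinearGroup (Fin (m + 1)) F).1 =
        rowJ F m (-(i : ℤ)) := by
      have := rowJ_vecMul (F := F) h1 (-(i : ℤ) - 1)
      rwa [sub_add_cancel] at this
    rw [_root_.zpow_sub_one, val_mul, ← vecMul_vecMul, ih, ← h2, vecMul_vecMul,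
      coe_mul_inv, vecMul_one]

end Cfsg.Agent.Lib.H12.Gen4
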