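import Mathlib
import Cfsg.Agent.Lib.H12.Gen4E

set_option autoImplicit false

/-!
# The concrete transvection system of `H = ⟨J, t J t⁻¹⟩`, `t = E_{last,0}(ν)`
-/

namespace Cfsg.Agent.Lib.H12.Gen4

open Matrix Cfsg.Agent.Lib.H13.AutPSL Cfsg.Agent.Lib.H12.Gen3 Cfsg.Agent.Lib.H12
  Cfsg.Agent.Lib.H12.GenSL

variable {F : Type*} [Field F] {m : ℕ}

/-- the last basis vector -/
def eL (F : Type*) [Field F] (m : ℕ) : Fin (m + 1) → F := Pi.single (Fin.last m) 1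

/-- the first basis functional -/
def e0 (F : Type*) [Field F] (m : ℕ) : Fin (m + 1) → F := Pi.single 0 1

theorem e0_dot_eL (h1 : 1 ≤ m) : e0 F m ⬝ᵥ eL F m = 0 := by
  unfold e0 eL
  rw [single_one_dotProduct, Pi.single_apply, if_neg]
  intro h
  have := congrArg Fin.val h
  simp at this
  omega

theorem smul_e0_dot_eL (h1 : 1 ≤ m) (ν : F) : (ν • e0 F m) ⬝ᵥ eL F m = 0 := by
  rw [smul_dotProduct, e0_dot_eL h1, smul_zero]

/-- the conjugating transvection `t = E_{last,0}(ν)` -/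
def tt (h1 : 1 ≤ m) (ν : F) : SpecialLinearGroup (Fin (m + 1)) F :=
  tv (eL F m) (ν • e0 F m) (smul_e0_dot_eL h1 ν)

/-- the subgroup generated by `J` and `t J t⁻¹` -/
def HH (F : Type*) [Field F] (m : ℕ) (h1 : 1 ≤ m) (ν : F) :
    Subgroup (SpecialLinearGroup (Fin (m + 1)) F) :=
  Subgroup.closure {JJ F m h1, tt h1 ν * JJ F m h1 * (tt h1 ν)⁻¹}

theorem JJ_mem (h1 : 1 ≤ m) (ν : F) : JJ F m h1 ∈ HH F m h1 ν :=
  Subgroup.subset_closure (by simp)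

theorem tJt_mem (h1 : 1 ≤ m) (ν : F) : tt h1 ν * JJ F m h1 * (tt h1 ν)⁻¹ ∈ HH F m h1 ν :=
  Subgroup.subset_closure (by simp)

/-- `v k = J ^ k e_last` -/
noncomputable def vv (h1 : 1 ≤ m) (k : ℤ) : Fin (m + 1) → F :=
  ((JJ F m h1) ^ k : SpecialLinearGroup (Fin (m + 1)) F).1 *ᵥ eL F m

/-- `φ k = e_0 J ^ (-k)` -/
noncomputable def pp (h1 : 1 ≤ m) (k : ℤ) : Fin (m + 1) → F :=
  e0 F m ᵥ* ((JJ F m h1) ^ (-k) : SpecialLinearGroup (Fin (m + 1)) F).1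

/-- `f i = (J ^ i)_{0,last}` -/
noncomputable def ff (F : Type*) [Field F] (m : ℕ) (i : ℤ) : F := ((Ring.choose i m : ℤ) : F)

theorem zpow_mulVec_vv (h1 : 1 ≤ m) (a k : ℤ) :
    ((JJ F m h1) ^ a : SpecialLinearGroup (Fin (m + 1)) F).1 *ᵥ vv (F := F) h1 k = vv h1 (a + k) := by
  unfold vv
  rw [mulVec_mulVec, ← val_mul, ← _root_.zpow_add]

theorem pp_vecMul_zpow (h1 : 1 ≤ m) (k a : ℤ) :
    pp (F := F) h1 k ᵥ* ((JJ F m h1) ^ (-a) : SpecialLinearGroup (Fin (m + 1)) F).1 = pp h1 (k + a) := by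
  unfold pp
  rw [vecMul_vecMul, ← val_mul, ← _root_.zpow_add, neg_add]

theorem vv_zero (h1 : 1 ≤ m) : vv (F := F) h1 0 = eL F m := by
  unfold vv
  rw [zpow_zero]; exact one_mulVec _

theorem pp_zero (h1 : 1 ≤ m) : pp (F := F) h1 0 = e0 F m := by
  unfold pp
  rw [neg_zero, zpow_zero]; exact vecMul_one _

theorem pp_eq_rowJ (h1 : 1 ≤ m) (k : ℤ) : pp (F := F) h1 k = rowJ F m (-k) := by
  unfold pp e0
  exact e0_vecMul_zpow h1 (-k)

theorem pair_vv (h1 : 1 ≤ m) (i j : ℤ) : pp (F := F) h1 i ⬝ᵥ vv h1 j = ff F m (j - i) := by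
  unfold pp vv
  rw [dotProduct_mulVec, vecMul_vecMul, ← val_mul, ← _root_.zpow_add]
  unfold e0
  rw [e0_vecMul_zpow, eL, dotProduct_single_one]
  unfold rowJ ff
  have : -i + j = j - i := by ring
  rw [this]
  simp

theorem ff_zero_of (i : ℤ) (h0 : 0 ≤ i) (h1 : i < m) : ff F m i = 0 := by
  unfold ff
  obtain ⟨k, rfl⟩ := Int.eq_ofNat_of_zero_le h0
  rw [Ring.choose_natCast, Nat.choose_eq_zero_of_lt (by omega)]
  simp

theorem ff_m : ff F m (m : ℤ) = 1 := by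
  unfold ff
  rw [Ring.choose_natCast, Nat.choose_self]
  simp

/-- `f (-j) = (-1)^m C(j+m-1, m)` -/
theorem ff_neg (j : ℕ) (hj : 1 ≤ j) :
    ff F m (-(j : ℤ)) = (-1) ^ m * ((Nat.choose (j + m - 1) m : ℕ) : F) := by
  unfold ff
  rw [Ring.choose_neg]
  have : (j : ℤ) + (m : ℤ) - 1 = ((j + m - 1 : ℕ) : ℤ) := by omega
  rw [this, Ring.choose_natCast, Units.smul_def, smul_eq_mul, Int.coe_negOnePow_natCast]
  push_cast
  ring

theorem ff_neg_one : ff F m (-1) = (-1) ^ m := by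
  have := ff_neg (F := F) (m := m) 1 le_rfl
  simp only [Nat.cast_one] at this
  rw [this]
  have : 1 + m - 1 = m := by omega
  rw [this, Nat.choose_self]
  simp

theorem ff_int (i : ℤ) : ∃ z : ℤ, ff F m i = (z : F) := ⟨_, rfl⟩

end Cfsg.Agent.Lib.H12.Gen4
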