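import Mathlib
import Cfsg.Agent.Lib.H12.Gen4F

set_option autoImplicit false

/-!
# The concrete system is a system
-/

namespace Cfsg.Agent.Lib.H12.Gen4

open Matrix Cfsg.Agent.Lib.H13.AutPSL Cfsg.Agent.Lib.H12.Gen3 Cfsg.Agent.Lib.H12
  Cfsg.Agent.Lib.H12.GenSL

variable {F : Type*} [Field F] {m : ℕ}

theorem tt_coe (h1 : 1 ≤ m) (ν : F) :
    (tt h1 ν).1 = tm (vv (F := F) h1 0) (ν • pp h1 0) := by
  rw [vv_zero, pp_zero]; rfl

theorem pp0_dot_vv0 (h1 : 1 ≤ m) (ν : F) : (ν • pp (F := F) h1 0) ⬝ᵥ vv h1 0 = 0 := by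
  rw [vv_zero, pp_zero]; exact smul_e0_dot_eL h1 ν

theorem tt_inv_coe (h1 : 1 ≤ m) (ν : F) :
    ((tt h1 ν)⁻¹ : SpecialLinearGroup (Fin (m + 1)) F).1 =
      tm (vv (F := F) h1 0) (-(ν • pp h1 0)) := by
  apply coe_inv_eq
  rw [tt_coe]
  exact tm_mul_tm_neg _ _ (pp0_dot_vv0 h1 ν)

theorem JJ_mulVec_vv (h1 : 1 ≤ m) (k : ℤ) :
    (JJ F m h1).1 *ᵥ vv (F := F) h1 k = vv h1 (k + 1) := by
  have := zpow_mulVec_vv (F := F) h1 1 k
  rw [zpow_one] at this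
  rw [this]
  congr 1
  ring

theorem pp_vecMul_inv (h1 : 1 ≤ m) (k : ℤ) :
    pp (F := F) h1 k ᵥ* ((JJ F m h1)⁻¹ : SpecialLinearGroup (Fin (m + 1)) F).1 = pp h1 (k + 1) := by
  have := pp_vecMul_zpow (F := F) h1 k 1
  rw [_root_.zpow_neg_one] at this
  exact this

/-- `d_0 = (t J t⁻¹) J⁻¹` -/
theorem d0_coe (h2 : 2 ≤ m) (ν : F) :
    (tt (by omega) ν * JJ F m (by omega) * (tt (by omega) ν)⁻¹ * (JJ F m (by omega))⁻¹ :
      SpecialLinearGroup (Fin (m + 1)) F).1 =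
      1 + vecMulVec (vv (F := F) (by omega) 0) (ν • pp (by omega) 0)
        - vecMulVec (vv (F := F) (by omega) 1) (ν • pp (by omega) 1) := by
  have h1 : 1 ≤ m := by omega
  have e : (tt h1 ν * JJ F m h1 * (tt h1 ν)⁻¹ * (JJ F m h1)⁻¹ :
      SpecialLinearGroup (Fin (m + 1)) F).1 =
      (tt h1 ν).1 * ((JJ F m h1).1 * ((tt h1 ν)⁻¹ : SpecialLinearGroup (Fin (m + 1)) F).1 *
        ((JJ F m h1)⁻¹ : SpecialLinearGroup (Fin (m + 1)) F).1) := by
    simp only [val_mul, Matrix.mul_assoc]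
  rw [e, tt_inv_coe, conj_tm _ _ (coe_mul_inv (JJ F m h1)), JJ_mulVec_vv, neg_vecMul, smul_vecMul,
    pp_vecMul_inv, tt_coe, tm_mul_tm, smul_dotProduct, pair_vv]
  have : ff F m ((0 : ℤ) + 1 - 0) = 0 := ff_zero_of _ (by norm_num) (by norm_num; omega)
  rw [this, smul_zero, zero_smul, add_zero, vecMulVec_neg, ← sub_eq_add_neg]
  simp only [zero_add]

theorem zpow_mul_zpow_neg (h1 : 1 ≤ m) (k : ℤ) :
    ((JJ F m h1) ^ k : SpecialLinearGroup (Fin (m + 1)) F).1 *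
      ((JJ F m h1) ^ (-k) : SpecialLinearGroup (Fin (m + 1)) F).1 = 1 := by
  rw [← val_mul, ← _root_.zpow_add, add_neg_cancel, zpow_zero]; rfl

/-- `d_k ∈ H` -/
theorem inH_dk (h2 : 2 ≤ m) (ν : F) (k : ℤ) :
    InH (HH F m (by omega) ν)
      (1 + vecMulVec (vv (F := F) (by omega) k) (ν • pp (by omega) k)
        - vecMulVec (vv (F := F) (by omega) (k + 1)) (ν • pp (by omega) (k + 1))) := by
  have h1 : 1 ≤ m := by omega
  have hd0 : InH (HH F m h1 ν) _ :=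
    InH.of_mem (H := HH F m h1 ν)
      ((HH F m h1 ν).mul_mem (tJt_mem h1 ν) ((HH F m h1 ν).inv_mem (JJ_mem h1 ν)))
  rw [d0_coe h2] at hd0
  have hJ : InH (HH F m h1 ν) ((JJ F m h1) ^ k : SpecialLinearGroup (Fin (m + 1)) F).1 :=
    InH.of_mem ((HH F m h1 ν).zpow_mem (JJ_mem h1 ν) k)
  have := hJ.conj (zpow_mul_zpow_neg h1 k) hd0
  convert this using 1
  rw [mul_sub, mul_add, sub_mul, add_mul, Matrix.mul_one, zpow_mul_zpow_neg, mul_vecMulVec,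
    vecMulVec_mul, mul_vecMulVec, vecMulVec_mul, zpow_mulVec_vv, zpow_mulVec_vv, smul_vecMul,
    smul_vecMul, pp_vecMul_zpow, pp_vecMul_zpow]
  simp only [add_zero, zero_add]
  rw [add_comm (1 : ℤ) k]

/-- the concrete system -/
noncomputable def sysJ (h3 : 3 ≤ m) (ν : F) : Sys (HH F m (by omega) ν) where
  v := vv (by omega)
  φ := pp (by omega)
  f := ff F m
  L := m
  ν := ν
  ε := (-1) ^ m
  hL := h3
  pair := pair_vv (by omega)
  f_zero := fun i h0 h1 => ff_zero_of i h0 h1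
  f_L := ff_m
  f_neg_one := ff_neg_one
  hε := by
    rcases Nat.even_or_odd m with h | h
    · left; exact h.neg_one_pow
    · right; exact h.neg_one_pow
  hD := inH_dk (by omega) ν

end Cfsg.Agent.Lib.H12.Gen4
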