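import Mathlib
import Cfsg.Agent.Lib.H12.Gen4G

set_option autoImplicit false

/-!
# Number theory: a binomial coefficient that is nonzero modulo `p` (Lucas)
-/

namespace Cfsg.Agent.Lib.H12.Gen4

open Matrix

/-- `C(p^w k + p^w - 1, p^w) ≡ k (mod p)` -/
theorem lucasA (p : ℕ) [Fact p.Prime] (w : ℕ) :
    ∀ k : ℕ, Nat.choose (p ^ w * k + p ^ w - 1) (p ^ w) ≡ k [MOD p] := by
  have hp : p.Prime := Fact.out
  induction w with
  | zero =>
    intro k
    simp only [pow_zero, one_mul, Nat.add_sub_cancel, Nat.choose_one_right]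
    exact Nat.ModEq.refl _
  | succ w ih =>
    intro k
    have hpos : 1 ≤ p ^ w := Nat.one_le_pow _ _ hp.pos
    have hN : p ^ (w + 1) * k + p ^ (w + 1) - 1 = p * (p ^ w * k + p ^ w - 1) + (p - 1) := by
      have h1 : 1 ≤ p ^ w * k + p ^ w := by omega
      have h2 : 1 ≤ p := hp.pos
      have h3 : p * (p ^ w * k + p ^ w - 1) = p * (p ^ w * k + p ^ w) - p := by
        rw [Nat.mul_sub, mul_one]
      have h4 : p ≤ p * (p ^ w * k + p ^ w) := Nat.le_mul_of_pos_right p (by omega)
      have h5 : p * (p ^ w * k + p ^ w) = p ^ (w + 1) * k + p ^ (w + 1) := by ring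
      omega
    have hmod : (p ^ (w + 1) * k + p ^ (w + 1) - 1) % p = p - 1 := by
      rw [hN, Nat.mul_add_mod]
      exact Nat.mod_eq_of_lt (by have := hp.pos; omega)
    have hdiv : (p ^ (w + 1) * k + p ^ (w + 1) - 1) / p = p ^ w * k + p ^ w - 1 := by
      rw [hN, Nat.mul_add_div hp.pos, Nat.div_eq_of_lt (by have := hp.pos; omega), add_zero]
    have hkmod : p ^ (w + 1) % p = 0 := by
      rw [pow_succ]; exact Nat.mul_mod_left _ _
    have hkdiv : p ^ (w + 1) / p = p ^ w := by
      rw [pow_succ]; exact Nat.mul_div_cancel _ hp.pos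
    have := Choose.choose_modEq_choose_mod_mul_choose_div_nat
      (n := p ^ (w + 1) * k + p ^ (w + 1) - 1) (k := p ^ (w + 1)) (p := p)
    rw [hmod, hdiv, hkmod, hkdiv, Nat.choose_zero_right, one_mul] at this
    exact this.trans (ih k)

variable {F : Type*} [Field F]

/-- the case distinction needed for `Sys.C_top` -/
theorem hcase_of (p : ℕ) [Fact p.Prime] [CharP F p] (m : ℕ) (hm : 3 ≤ m) :
    ∃ w : ℕ, p ^ w = m + 1 ∨ (p ^ w + 2 ≤ m ∧ ff F m (-((p ^ w + 1 : ℕ) : ℤ)) ≠ 0) := by
  have hp : p.Prime := Fact.out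
  set w := (m + 1).factorization p with hw
  set k := (m + 1) / p ^ w with hk
  have hdvd : p ^ w ∣ m + 1 := Nat.ordProj_dvd (m + 1) p
  have hmk : m + 1 = p ^ w * k := (Nat.mul_div_cancel' hdvd).symm
  have hpk : ¬ p ∣ k := Nat.not_dvd_ordCompl hp (by omega)
  refine ⟨w, ?_⟩
  by_cases hcase : p ^ w = m + 1
  · left; exact hcase
  · right
    have hP1 : 1 ≤ p ^ w := Nat.one_le_pow _ _ hp.pos
    have hk2 : 2 ≤ k := by
      rcases Nat.lt_or_ge k 2 with h | h
      · interval_cases k
        · omega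
        · exfalso; apply hcase; omega
      · exact h
    have hsize : p ^ w + 3 ≤ p ^ w * k := by
      rcases Nat.lt_or_ge (p ^ w) 3 with h | h
      · have h12 : p ^ w = 1 ∨ p ^ w = 2 := by omega
        rcases h12 with h | h
        · rw [h] at hmk ⊢; omega
        · have hp2 : p = 2 := by
            have hw0 : w ≠ 0 := by
              intro h0; rw [h0, pow_zero] at h; omega
            have : p ∣ 2 := by
              rw [← h]; exact dvd_pow_self p hw0
            exact (Nat.prime_dvd_prime_iff_eq hp Nat.prime_two).mp this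
          have hk3 : 3 ≤ k := by
            rcases Nat.lt_or_ge k 3 with h' | h'
            · exfalso
              have : k = 2 := by omega
              apply hpk; rw [this, hp2]
            · exact h'
          rw [h]; omega
      · nlinarith
    refine ⟨by omega, ?_⟩
    rw [ff_neg _ (by omega)]
    apply mul_ne_zero (pow_ne_zero _ (neg_ne_zero.mpr one_ne_zero))
    rw [Ne, CharP.cast_eq_zero_iff F p]
    intro hdiv
    apply hpk
    have e1 : p ^ w + 1 + m - 1 = p ^ w * k + p ^ w - 1 := by omega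
    have e2 : Nat.choose (p ^ w * k + p ^ w - 1) m = Nat.choose (p ^ w * k + p ^ w - 1) (p ^ w) := by
      have : p ^ w * k + p ^ w - 1 = m + p ^ w := by omega
      rw [this]
      exact Nat.choose_symm_add
    rw [e1, e2] at hdiv
    exact ((lucasA p w k).dvd_iff (dvd_refl p)).mp hdiv

end Cfsg.Agent.Lib.H12.Gen4
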