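import Mathlib
import Cfsg.Agent.Lib.H12.Gen4H

set_option autoImplicit false

/-!
# `⟨J, t J t⁻¹⟩ = SL_n(F)` for `n ≥ 4`
-/

namespace Cfsg.Agent.Lib.H12.Gen4

open Matrix Cfsg.Agent.Lib.H13.AutPSL Cfsg.Agent.Lib.H12.Gen3 Cfsg.Agent.Lib.H12
  Cfsg.Agent.Lib.H12.GenSL

variable {F : Type*} [Field F] {m : ℕ}

theorem sum_smul_single {n : ℕ} (g : Fin n → F) :
    ∑ b, g b • (Pi.single b 1 : Fin n → F) = g := by
  ext i
  simp [Finset.sum_apply, Pi.single_apply]

theorem rowJ_nat (i : ℕ) (b : Fin (m + 1)) : rowJ F m (i : ℤ) b = ((Nat.choose i b.val : ℕ) : F) := by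
  unfold rowJ
  rw [Ring.choose_natCast]
  simp

/-- the functionals all of whose multiples are in `Psi 0` -/
def WW {H : Subgroup (SpecialLinearGroup (Fin (m + 1)) F)} (S : Sys H) :
    Submodule F (Fin (m + 1) → F) where
  carrier := {ψ | ∀ c : F, c • ψ ∈ S.Psi 0}
  zero_mem' := fun c => by rw [smul_zero]; exact zero_mem _
  add_mem' := fun h h' c => by rw [smul_add]; exact add_mem (h c) (h' c)
  smul_mem' := fun a ψ h c => by rw [smul_smul]; exact h (c * a)

theorem shift_mulVec_single (b : Fin (m + 1)) (hb : 1 ≤ b.val) :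
    shiftMatrix (F := F) (m + 1) *ᵥ (Pi.single b 1 : Fin (m + 1) → F) =
      Pi.single (⟨b.val - 1, by have := b.2; omega⟩ : Fin (m + 1)) 1 := by
  rw [mulVec_single_one]
  ext a
  simp only [col_apply, shiftMatrix, of_apply, Pi.single_apply]
  by_cases h : b.val = a.val + 1
  · rw [if_pos h, if_pos]
    apply Fin.ext
    simp; omega
  · rw [if_neg h, if_neg]
    intro hh
    apply h
    have := congrArg Fin.val hh
    simp at this
    omega

theorem HH_eq_top [Fintype F] (h3 : 3 ≤ m) (ν : F) (hν : ν ≠ 0)
    (hgen : ∀ a : F, a ≠ 0 → ∃ k : ℕ, a = ν ^ k) : HH F m (by omega) ν = ⊤ := by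
  have h1 : 1 ≤ m := by omega
  set S := sysJ h3 ν with hS
  have hp : (ringChar F).Prime := CharP.char_is_prime F (ringChar F)
  have : Fact (ringChar F).Prime := ⟨hp⟩
  obtain ⟨w, hw⟩ := hcase_of (F := F) (ringChar F) m h3
  have hC : ∀ d : ℤ, 0 ≤ d → d < (m : ℤ) → S.C d = ⊤ :=
    S.C_top hν hgen ff_int (ringChar F) w hw
  -- the rows
  have hrow : ∀ i : ℕ, i < m → rowJ F m (i : ℤ) ∈ WW S := by
    intro i hi c
    have hc : c ∈ S.C (i : ℤ) := by rw [hC _ (by omega) (by omega)]; trivial
    have := hc (-(i : ℤ))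
    have e : S.φ (-(i : ℤ)) = rowJ F m (i : ℤ) := by
      show pp h1 (-(i : ℤ)) = _
      rw [pp_eq_rowJ, neg_neg]
    rw [e] at this
    exact S.Psi_congr (by ring) this
  -- the basis functionals
  have hsingle : ∀ i : ℕ, ∀ hi : i < m,
      (Pi.single (⟨i, by omega⟩ : Fin (m + 1)) 1 : Fin (m + 1) → F) ∈ WW S := by
    intro i
    induction i using Nat.strong_induction_on with
    | _ i ih =>
      intro hi
      have key : (Pi.single (⟨i, by omega⟩ : Fin (m + 1)) 1 : Fin (m + 1) → F) =
          rowJ F m (i : ℤ) - ∑ b : Fin (m + 1),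
            (if b.val < i then rowJ F m (i : ℤ) b else 0) • (Pi.single b 1 : Fin (m + 1) → F) := by
        rw [sum_smul_single]
        ext x
        rw [Pi.sub_apply, rowJ_nat, Pi.single_apply]
        rcases Nat.lt_trichotomy x.val i with h | h | h
        · have hne : ¬ (x = (⟨i, by omega⟩ : Fin (m + 1))) := by
            intro hh; rw [hh] at h; simp at h
          rw [if_pos h, if_neg hne]; simp
        · have hlt : ¬ (x.val < i) := by omega
          have heq : x = (⟨i, by omega⟩ : Fin (m + 1)) := Fin.ext h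
          rw [if_neg hlt, if_pos heq, h, Nat.choose_self]; simp
        · have hlt : ¬ (x.val < i) := by omega
          have hne : ¬ (x = (⟨i, by omega⟩ : Fin (m + 1))) := by
            intro hh; rw [hh] at h; simp at h
          rw [if_neg hlt, if_neg hne, Nat.choose_eq_zero_of_lt h]; simp
      rw [key]
      refine Submodule.sub_mem _ (hrow i hi) (Submodule.sum_mem _ ?_)
      intro b _
      by_cases hb : b.val < i
      · rw [if_pos hb]
        exact Submodule.smul_mem _ _ (ih b.val hb (by omega))
      · rw [if_neg hb, zero_smul]; exact Submodule.zero_mem _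
  -- `e_last` is a good centre
  have heL : eL F m ∈ Cen (HH F m h1 ν) := by
    intro φ hφ
    have hlast : φ (Fin.last m) = 0 := by
      unfold eL at hφ
      rwa [dotProduct_single_one] at hφ
    have hmem : φ ∈ WW S := by
      rw [← sum_smul_single φ]
      refine Submodule.sum_mem _ ?_
      intro b _
      by_cases hb : b.val < m
      · exact Submodule.smul_mem _ _ (hsingle b.val hb)
      · have : b = Fin.last m := by
          apply Fin.ext
          have := b.2
          simp; omega
        rw [this, hlast, zero_smul]; exact Submodule.zero_mem _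
    have h2 := hmem 1
    rw [one_smul] at h2
    have h3' : InH (HH F m h1 ν) (tm (vv h1 0) φ) := h2.2
    rw [vv_zero] at h3'
    exact h3'.tv_mem hφ
  -- all basis vectors are good centres
  have hall : ∀ i : ℕ, ∀ hi : i ≤ m,
      (Pi.single (⟨m - i, by omega⟩ : Fin (m + 1)) 1 : Fin (m + 1) → F) ∈ Cen (HH F m h1 ν) := by
    intro i
    induction i with
    | zero =>
      intro _
      exact heL
    | succ i ih =>
      intro hi
      have hb := ih (by omega)
      have hJ := mulVec_mem_cen (JJ_mem h1 ν) hb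
      have hsub := Submodule.sub_mem _ hJ hb
      rw [JJ_coe, add_mulVec, one_mulVec, add_sub_cancel_left,
        shift_mulVec_single _ (by simp; omega)] at hsub
      convert hsub using 3
      simp; omega
  apply eq_top_of_single (by omega)
  intro b
  have := hall (m - b.val) (by omega)
  convert this using 3
  have := b.2
  omega

end Cfsg.Agent.Lib.H12.Gen4
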