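import Mathlib
import Cfsg.Agent.Lib.H12.Gen4I

set_option autoImplicit false

/-!
# `SL_n(F)`, `n ≥ 4`, is generated by two conjugate regular unipotent elements
-/

namespace Cfsg.Agent.Lib.H12.Gen4

open Matrix Cfsg.Agent.Lib.H13.AutPSL Cfsg.Agent.Lib.H12.Gen3 Cfsg.Agent.Lib.H12
  Cfsg.Agent.Lib.H12.GenSL

variable {F : Type*} [Field F]

theorem exists_generator' [Finite F] :
    ∃ r : F, r ≠ 0 ∧ ∀ a : F, a ≠ 0 → ∃ k : ℕ, a = r ^ k := by
  have : Fintype F := Fintype.ofFinite F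
  obtain ⟨g, hg⟩ := IsCyclic.exists_generator (α := Fˣ)
  refine ⟨(g : F), g.ne_zero, fun a ha => ?_⟩
  have hmem := hg (Units.mk0 a ha)
  obtain ⟨k, hk⟩ := (mem_powers_iff_mem_zpowers.mpr hmem)
  refine ⟨k, ?_⟩
  have := congrArg (fun u : Fˣ => (u : F)) hk
  simp only [Units.val_pow_eq_pow_val, Units.val_mk0] at this
  exact this.symm

theorem conj_pow_aux {n : ℕ} (A B M : Matrix (Fin n) (Fin n) F) (hBA : B * A = 1) (k : ℕ) :
    (A * M * B) ^ k * A = A * M ^ k := by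
  induction k with
  | zero => rw [pow_zero, pow_zero, Matrix.one_mul, Matrix.mul_one]
  | succ k ih =>
    rw [pow_succ', Matrix.mul_assoc, ih, pow_succ', Matrix.mul_assoc (A * M), ← Matrix.mul_assoc B,
      hBA, Matrix.one_mul, Matrix.mul_assoc]

/-- conjugates of regular unipotent elements are regular unipotent -/
theorem conj_regular {n : ℕ} (u g : SpecialLinearGroup (Fin n) F) (k : ℕ)
    (h : IsNilpotent ((u : Matrix (Fin n) (Fin n) F) - 1) ∧
      ((u : Matrix (Fin n) (Fin n) F) - 1) ^ k ≠ 0) :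
    IsNilpotent (((g * u * g⁻¹ : SpecialLinearGroup (Fin n) F) : Matrix (Fin n) (Fin n) F) - 1) ∧
      (((g * u * g⁻¹ : SpecialLinearGroup (Fin n) F) : Matrix (Fin n) (Fin n) F) - 1) ^ k ≠ 0 := by
  have hAB : g.1 * (g⁻¹ : SpecialLinearGroup (Fin n) F).1 = 1 := coe_mul_inv g
  have hBA : (g⁻¹ : SpecialLinearGroup (Fin n) F).1 * g.1 = 1 := coe_inv_mul g
  have hsub : ((g * u * g⁻¹ : SpecialLinearGroup (Fin n) F) : Matrix (Fin n) (Fin n) F) - 1 =
      g.1 * (u.1 - 1) * (g⁻¹ : SpecialLinearGroup (Fin n) F).1 := by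
    rw [Matrix.mul_sub, Matrix.sub_mul, Matrix.mul_one, hAB]
    rfl
  rw [hsub]
  have hpow : ∀ j : ℕ, (g.1 * (u.1 - 1) * (g⁻¹ : SpecialLinearGroup (Fin n) F).1) ^ j * g.1 =
      g.1 * (u.1 - 1) ^ j := conj_pow_aux _ _ _ hBA
  constructor
  · obtain ⟨j, hj⟩ := h.1
    refine ⟨j, ?_⟩
    have h1 := hpow j
    have hj' : (u.1 - 1) ^ j = 0 := hj
    rw [hj', Matrix.mul_zero] at h1
    calc (g.1 * (u.1 - 1) * (g⁻¹ : SpecialLinearGroup (Fin n) F).1) ^ j
        = (g.1 * (u.1 - 1) * (g⁻¹ : SpecialLinearGroup (Fin n) F).1) ^ j *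
            (g.1 * (g⁻¹ : SpecialLinearGroup (Fin n) F).1) := by rw [hAB, Matrix.mul_one]
      _ = ((g.1 * (u.1 - 1) * (g⁻¹ : SpecialLinearGroup (Fin n) F).1) ^ j * g.1) *
            (g⁻¹ : SpecialLinearGroup (Fin n) F).1 := (Matrix.mul_assoc _ _ _).symm
      _ = 0 := by rw [h1, Matrix.zero_mul]
  · intro h0
    apply h.2
    have h1 := hpow k
    rw [h0, Matrix.zero_mul] at h1
    calc (u.1 - 1) ^ k
        = ((g⁻¹ : SpecialLinearGroup (Fin n) F).1 * g.1) * (u.1 - 1) ^ k := by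
          rw [hBA, Matrix.one_mul]
      _ = (g⁻¹ : SpecialLinearGroup (Fin n) F).1 * (g.1 * (u.1 - 1) ^ k) :=
          Matrix.mul_assoc _ _ _
      _ = 0 := by rw [← h1, Matrix.mul_zero]

/-- the main theorem for `n = m + 1`, `m ≥ 3` -/
theorem exists_two_conjugates_succ [Finite F] (m : ℕ) (h3 : 3 ≤ m) :
    ∃ u g : SpecialLinearGroup (Fin (m + 1)) F,
      (IsNilpotent ((u : Matrix (Fin (m + 1)) (Fin (m + 1)) F) - 1) ∧
        ((u : Matrix (Fin (m + 1)) (Fin (m + 1)) F) - 1) ^ m ≠ 0) ∧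
      Subgroup.closure ({u, g * u * g⁻¹} : Set (SpecialLinearGroup (Fin (m + 1)) F)) = ⊤ := by
  have : Fintype F := Fintype.ofFinite F
  obtain ⟨ν, hν, hgen⟩ := exists_generator' (F := F)
  have h1 : 1 ≤ m := by omega
  exact ⟨JJ F m h1, tt h1 ν, regular_xg h1, HH_eq_top h3 ν hν hgen⟩

/-- `SL_n(F)`, `n ≥ 4`, is generated by a regular unipotent element and one of its conjugates -/
theorem exists_two_conjugates [Finite F] (n : ℕ) (hn : 4 ≤ n) :
    ∃ u g : SpecialLinearGroup (Fin n) F,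
      (IsNilpotent ((u : Matrix (Fin n) (Fin n) F) - 1) ∧
        ((u : Matrix (Fin n) (Fin n) F) - 1) ^ (n - 1) ≠ 0) ∧
      Subgroup.closure ({u, g * u * g⁻¹} : Set (SpecialLinearGroup (Fin n) F)) = ⊤ := by
  obtain ⟨m, rfl⟩ : ∃ m, n = m + 1 := ⟨n - 1, by omega⟩
  exact exists_two_conjugates_succ m (by omega)

end Cfsg.Agent.Lib.H12.Gen4
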