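import Mathlib

/-!
# Jordan systems (chain bases) for nilpotent endomorphisms, from the PID structure theorem (helper12)
-/


set_option autoImplicit false
open Polynomial DirectSum

namespace Cfsg.Agent.Lib.H12.Jordan

universe u v
variable {F : Type u} [Field F] {V : Type v} [AddCommGroup V] [Module F V]

/-- a Jordan system for a (nilpotent) endomorphism: a basis made of chains. -/
structure JSys (N : Module.End F V) where
  /-- number of chains -/
  d : ℕ
  /-- chain lengths -/
  k : Fin d → ℕ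
  /-- the basis -/
  b : Module.Basis (Σ i : Fin d, Fin (k i)) F V
  /-- the action on the basis -/
  hN : ∀ (i : Fin d) (j : Fin (k i)),
    N (b ⟨i, j⟩) = if h : (j : ℕ) + 1 < k i then b ⟨i, ⟨(j : ℕ) + 1, h⟩⟩ else 0

/-- basis of `F[X]/(X^k)` by powers of `X`. -/
noncomputable def quotBasis (k : ℕ) : Module.Basis (Fin k) F (F[X] ⧸ F[X] ∙ (X ^ k : F[X])) :=
  ((AdjoinRoot.powerBasis' (monic_X_pow k)).basis.reindex (finCongr (natDegree_X_pow k)))

theorem quotBasis_apply (k : ℕ) (j : Fin k) :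
    quotBasis (F := F) k j = Submodule.Quotient.mk (X ^ (j : ℕ) : F[X]) := by
  unfold quotBasis
  erw [Module.Basis.reindex_apply, PowerBasis.basis_eq_pow]
  simp only [AdjoinRoot.powerBasis'_gen]
  rw [← AdjoinRoot.mk_X, ← map_pow]
  rfl

theorem X_smul_quotBasis (k : ℕ) (j : Fin k) :
    (X : F[X]) • quotBasis (F := F) k j =
      if h : (j : ℕ) + 1 < k then quotBasis k ⟨(j : ℕ) + 1, h⟩ else 0 := by
  rw [quotBasis_apply, ← Submodule.Quotient.mk_smul, smul_eq_mul, ← pow_succ']
  split_ifs with h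
  · rw [quotBasis_apply]
  · have hj : (j : ℕ) + 1 = k := by have := j.2; omega
    rw [hj, Submodule.Quotient.mk_eq_zero]
    exact Submodule.mem_span_singleton_self _

theorem dfinsupp_basis_apply {ι : Type*} [DecidableEq ι] {R : Type*} [Semiring R] {M : ι → Type*}
    [∀ i, AddCommMonoid (M i)] [∀ i, Module R (M i)] {η : ι → Type*}
    (b : ∀ i, Module.Basis (η i) R (M i)) (i : ι) (j : η i) :
    DFinsupp.basis b ⟨i, j⟩ = DFinsupp.single i (b i j) := by
  classical
  have hrepr : (DFinsupp.basis b).repr =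
      ((DFinsupp.mapRange.linearEquiv fun i => (b i).repr).trans
        (sigmaFinsuppLequivDFinsupp R).symm) := rfl
  apply (DFinsupp.basis b).repr.injective
  rw [Module.Basis.repr_self, hrepr]
  simp only [LinearEquiv.trans_apply,
    DFinsupp.mapRange.linearEquiv_apply, DFinsupp.mapRange_single, Module.Basis.repr_self]
  rw [LinearEquiv.eq_symm_apply]
  exact (sigmaFinsuppEquivDFinsupp_single ⟨i, j⟩ (1 : R))

theorem exists_jsys [FiniteDimensional F V] (N : Module.End F V) (hN : IsNilpotent N) :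
    Nonempty (JSys N) := by
  obtain ⟨n, hn⟩ := hN
  have hM : Module.IsTorsion' (Module.AEval' N) (Submonoid.powers (X : F[X])) := by
    intro x
    refine ⟨⟨X ^ n, n, rfl⟩, ?_⟩
    show (X ^ n : F[X]) • x = 0
    obtain ⟨v, rfl⟩ := (Module.AEval'.of N).surjective x
    rw [Module.AEval'.X_pow_smul_of, hn]
    simp
  obtain ⟨d, k, ⟨φ⟩⟩ := Module.torsion_by_prime_power_decomposition
    (Polynomial.irreducible_X (R := F)) hM
  set ψ : V ≃ₗ[F] (⨁ i : Fin d, F[X] ⧸ F[X] ∙ (X ^ k i : F[X])) :=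
    (Module.AEval'.of N) ≪≫ₗ (φ.restrictScalars F) with hψ
  have hψN : ∀ y, N (ψ.symm y) = ψ.symm ((X : F[X]) • y) := by
    intro y
    obtain ⟨v, rfl⟩ := ψ.surjective y
    rw [LinearEquiv.symm_apply_apply, eq_comm, LinearEquiv.symm_apply_eq, eq_comm]
    show φ (Module.AEval'.of N (N v)) = (X : F[X]) • φ (Module.AEval'.of N v)
    rw [← Module.AEval'.X_smul_of, map_smul]
  refine ⟨⟨d, k, (DFinsupp.basis (fun i => quotBasis (F := F) (k i))).map ψ.symm, ?_⟩⟩
  intro i j
  rw [Module.Basis.map_apply, hψN, dfinsupp_basis_apply]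
  rw [← DFinsupp.single_smul, X_smul_quotBasis]
  split_ifs with h
  · rw [Module.Basis.map_apply, dfinsupp_basis_apply]
  · rw [DFinsupp.single_zero, map_zero]

end Cfsg.Agent.Lib.H12.Jordan
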