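import Cfsg.Agent.Lib.H12.JordanA

/-!
# Powers of a nilpotent endomorphism on a Jordan system; ranks of powers (helper12)
-/

set_option autoImplicit false
open Polynomial

namespace Cfsg.Agent.Lib.H12.Jordan

universe u v
variable {F : Type u} [Field F] {V : Type v} [AddCommGroup V] [Module F V]

theorem JSys.pow_apply {N : Module.End F V} (J : JSys N) (t : ℕ) (i : Fin J.d) (j : Fin (J.k i)) :
    (N ^ t) (J.b ⟨i, j⟩) =
      if h : (j : ℕ) + t < J.k i then J.b ⟨i, ⟨(j : ℕ) + t, h⟩⟩ else 0 := by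
  induction t generalizing j with
  | zero => simp
  | succ t ih =>
    rw [pow_succ, Module.End.mul_apply, J.hN]
    by_cases h1 : (j : ℕ) + 1 < J.k i
    · rw [dif_pos h1, ih]
      by_cases h2 : (j : ℕ) + (t + 1) < J.k i
      · rw [dif_pos h2, dif_pos (by simpa [add_assoc, add_comm 1 t] using h2)]
        congr 3
        simp only [add_assoc, add_comm 1 t]
      · rw [dif_neg h2, dif_neg (by simpa [add_assoc, add_comm 1 t] using h2)]
    · rw [dif_neg h1, map_zero, dif_neg (by omega)]

theorem card_filter_fin_le (m t : ℕ) :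
    (Finset.univ.filter (fun j : Fin m => t ≤ (j : ℕ))).card = m - t := by
  have h1 := Finset.card_filter_add_card_filter_not (s := (Finset.univ : Finset (Fin m)))
    (fun j : Fin m => j < t)
  have h2 : (Finset.univ.filter (fun j : Fin m => ¬ ((j : ℕ) < t))) =
      Finset.univ.filter (fun j : Fin m => t ≤ (j : ℕ)) := by
    ext j; simp
  rw [Fin.card_filter_val_lt, h2, Finset.card_univ, Fintype.card_fin] at h1
  omega

theorem JSys.range_pow {N : Module.End F V} (J : JSys N) (t : ℕ) :
    LinearMap.range (N ^ t) =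
      Submodule.span F (Set.range (fun p : {p : Σ i : Fin J.d, Fin (J.k i) // t ≤ (p.2 : ℕ)} =>
        J.b p.1)) := by
  apply le_antisymm
  · rw [LinearMap.range_eq_map, ← J.b.span_eq, Submodule.map_span, Submodule.span_le]
    rintro _ ⟨_, ⟨⟨i, j⟩, rfl⟩, rfl⟩
    rw [J.pow_apply]
    split_ifs with h
    · apply Submodule.subset_span
      exact ⟨⟨⟨i, ⟨(j : ℕ) + t, h⟩⟩, by simp⟩, rfl⟩
    · exact Submodule.zero_mem _
  · rw [Submodule.span_le]
    rintro _ ⟨⟨⟨i, j⟩, hp⟩, rfl⟩
    simp only at hp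
    have hlt : (j : ℕ) - t < J.k i := by have := j.2; omega
    refine ⟨J.b ⟨i, ⟨(j : ℕ) - t, hlt⟩⟩, ?_⟩
    rw [J.pow_apply]
    have h1 : ((⟨(j : ℕ) - t, hlt⟩ : Fin (J.k i)) : ℕ) + t < J.k i := by
      simp only; have := j.2; omega
    rw [dif_pos h1]
    congr 3
    simp only
    omega

theorem JSys.finrank_range_pow {N : Module.End F V} (J : JSys N) (t : ℕ) :
    Module.finrank F (LinearMap.range (N ^ t)) = ∑ i : Fin J.d, (J.k i - t) := by
  classical
  have h0 := finrank_span_eq_card (R := F)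
    (J.b.linearIndependent.comp (Subtype.val :
      {p : Σ i : Fin J.d, Fin (J.k i) // t ≤ (p.2 : ℕ)} → _) Subtype.val_injective)
  rw [J.range_pow]
  refine Eq.trans h0 ?_
  rw [Fintype.card_subtype]
  have h1 : (Finset.univ.filter (fun p : Σ i : Fin J.d, Fin (J.k i) => t ≤ (p.2 : ℕ))) =
      Finset.univ.sigma (fun i => Finset.univ.filter (fun j : Fin (J.k i) => t ≤ (j : ℕ))) := by
    ext ⟨i, j⟩
    simp
  rw [h1, Finset.card_sigma]
  apply Finset.sum_congr rfl
  intro i _
  exact card_filter_fin_le _ _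

theorem JSys.sum_k {N : Module.End F V} (J : JSys N) [FiniteDimensional F V] :
    ∑ i : Fin J.d, J.k i = Module.finrank F V := by
  rw [Module.finrank_eq_card_basis J.b, Fintype.card_sigma]
  simp

theorem JSys.pow_eq_zero {N : Module.End F V} (J : JSys N) (t : ℕ) (ht : ∀ i, J.k i ≤ t) :
    N ^ t = 0 := by
  apply J.b.ext
  rintro ⟨i, j⟩
  rw [J.pow_apply, dif_neg (by have := ht i; omega)]
  rfl

end Cfsg.Agent.Lib.H12.Jordan
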