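import Cfsg.Agent.Lib.H12.JordanB

/-!
# Matching the chains of two Jordan systems with equal rank sequences (helper12)
-/

set_option autoImplicit false

namespace Cfsg.Agent.Lib.H12.Jordan

universe u v v'

theorem exists_equiv_of_card_fiber_eq {α α' : Type*} [Fintype α] [Fintype α'] [DecidableEq α]
    [DecidableEq α'] (f : α → ℕ) (f' : α' → ℕ)
    (h : ∀ l : ℕ, Fintype.card {x // f x = l} = Fintype.card {x // f' x = l}) :
    ∃ σ : α ≃ α', ∀ x, f' (σ x) = f x := by
  refine ⟨(Equiv.sigmaFiberEquiv f).symm.trans ((Equiv.sigmaCongrRight fun l =>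
    Fintype.equivOfCardEq (h l)).trans (Equiv.sigmaFiberEquiv f')), ?_⟩
  intro x
  simp only [Equiv.trans_apply, Equiv.sigmaCongrRight_apply, Equiv.sigmaFiberEquiv_apply]
  exact ((Fintype.equivOfCardEq (h (f x))) ⟨x, rfl⟩).2

/-- number of chains longer than `t`, via rank differences. -/
theorem sum_sub_eq (d : ℕ) (k : Fin d → ℕ) (t : ℕ) :
    ∑ i : Fin d, (k i - t) =
      ∑ i : Fin d, (k i - (t + 1)) + (Finset.univ.filter (fun i => t < k i)).card := by
  rw [Finset.card_filter, ← Finset.sum_add_distrib]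
  apply Finset.sum_congr rfl
  intro i _
  split_ifs with h <;> omega

theorem card_gt_eq (d : ℕ) (k : Fin d → ℕ) (l : ℕ) :
    (Finset.univ.filter (fun i => l < k i)).card =
      (Finset.univ.filter (fun i => k i = l + 1)).card +
        (Finset.univ.filter (fun i => l + 1 < k i)).card := by
  rw [← Finset.card_union_of_disjoint]
  · congr 1
    ext i
    simp only [Finset.mem_filter, Finset.mem_univ, true_and, Finset.mem_union]
    omega
  · rw [Finset.disjoint_filter]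
    intro i _ h1 h2
    omega

theorem card_eq_of_sums {d d' : ℕ} (k : Fin d → ℕ) (k' : Fin d' → ℕ)
    (h : ∀ t, ∑ i : Fin d, (k i - t) = ∑ i : Fin d', (k' i - t)) (l : ℕ) :
    (Finset.univ.filter (fun i => k i = l + 1)).card =
      (Finset.univ.filter (fun i => k' i = l + 1)).card := by
  have hgt : ∀ t, (Finset.univ.filter (fun i => t < k i)).card =
      (Finset.univ.filter (fun i => t < k' i)).card := by
    intro t
    have h1 := sum_sub_eq d k t
    have h2 := sum_sub_eq d' k' t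
    have h3 := h t
    have h4 := h (t + 1)
    omega
  have h1 := card_gt_eq d k l
  have h2 := card_gt_eq d' k' l
  have h3 := hgt l
  have h4 := hgt (l + 1)
  omega

theorem sigma_fin_ext {d : ℕ} {k : Fin d → ℕ} (p p' : Σ i : Fin d, Fin (k i)) (h1 : p.1 = p'.1)
    (h2 : (p.2 : ℕ) = (p'.2 : ℕ)) : p = p' := by
  obtain ⟨i, j⟩ := p
  obtain ⟨i', j'⟩ := p'
  simp only at h1
  subst h1
  simp only at h2
  congr
  exact Fin.ext h2

/-- a matching of the non-empty chains of two systems with the same rank sequence. -/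
theorem exists_matching {d d' : ℕ} (k : Fin d → ℕ) (k' : Fin d' → ℕ)
    (h : ∀ t, ∑ i : Fin d, (k i - t) = ∑ i : Fin d', (k' i - t)) :
    ∃ σ : {i : Fin d // k i ≠ 0} ≃ {i : Fin d' // k' i ≠ 0}, ∀ x, k' (σ x).1 = k x.1 := by
  classical
  apply exists_equiv_of_card_fiber_eq (fun x : {i : Fin d // k i ≠ 0} => k x.1)
    (fun x : {i : Fin d' // k' i ≠ 0} => k' x.1)
  intro l
  rcases Nat.eq_zero_or_pos l with rfl | hl
  · rw [Fintype.card_eq_zero_iff.mpr ⟨fun x => x.1.2 x.2⟩,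
      Fintype.card_eq_zero_iff.mpr ⟨fun x => x.1.2 x.2⟩]
  · obtain ⟨l', rfl⟩ : ∃ l', l = l' + 1 := ⟨l - 1, by omega⟩
    have h1 := card_eq_of_sums k k' h l'
    have e1 : {x : {i : Fin d // k i ≠ 0} // k x.1 = l' + 1} ≃ {i : Fin d // k i = l' + 1} :=
      { toFun := fun x => ⟨x.1.1, x.2⟩
        invFun := fun x => ⟨⟨x.1, by rw [x.2]; omega⟩, x.2⟩
        left_inv := fun x => rfl
        right_inv := fun x => rfl }
    have e2 : {x : {i : Fin d' // k' i ≠ 0} // k' x.1 = l' + 1} ≃ {i : Fin d' // k' i = l' + 1} :=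
      { toFun := fun x => ⟨x.1.1, x.2⟩
        invFun := fun x => ⟨⟨x.1, by rw [x.2]; omega⟩, x.2⟩
        left_inv := fun x => rfl
        right_inv := fun x => rfl }
    rw [Fintype.card_congr e1, Fintype.card_congr e2, Fintype.card_subtype, Fintype.card_subtype]
    exact h1

variable {F : Type u} [Field F] {V : Type v} [AddCommGroup V] [Module F V]
  {V' : Type v'} [AddCommGroup V'] [Module F V']

theorem exists_equiv_of_sums {N : Module.End F V} {N' : Module.End F V'} (J : JSys N)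
    (J' : JSys N')
    (h : ∀ t, ∑ i : Fin J.d, (J.k i - t) = ∑ i : Fin J'.d, (J'.k i - t)) :
    ∃ e : V ≃ₗ[F] V', ∀ x, e (N x) = N' (e x) := by
  obtain ⟨σ, hσ⟩ := exists_matching J.k J'.k h
  have hpos : ∀ (i : Fin J.d), Fin (J.k i) → J.k i ≠ 0 := fun i j => by
    have := j.2; omega
  have hpos' : ∀ (i : Fin J'.d), Fin (J'.k i) → J'.k i ≠ 0 := fun i j => by
    have := j.2; omega
  have hσ' : ∀ x, J.k (σ.symm x).1 = J'.k x.1 := by
    intro x
    have := hσ (σ.symm x)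
    rw [Equiv.apply_symm_apply] at this
    exact this.symm
  let τ : (Σ i : Fin J.d, Fin (J.k i)) ≃ (Σ i : Fin J'.d, Fin (J'.k i)) :=
    { toFun := fun p => ⟨(σ ⟨p.1, hpos p.1 p.2⟩).1, Fin.cast (hσ ⟨p.1, hpos p.1 p.2⟩).symm p.2⟩
      invFun := fun p =>
        ⟨(σ.symm ⟨p.1, hpos' p.1 p.2⟩).1, Fin.cast (hσ' ⟨p.1, hpos' p.1 p.2⟩).symm p.2⟩
      left_inv := fun p => by
        apply sigma_fin_ext
        · simp
        · simp
      right_inv := fun p => by
        apply sigma_fin_ext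
        · simp
        · simp }
  have hτ1 : ∀ p, J'.k (τ p).1 = J.k p.1 := fun p => hσ ⟨p.1, hpos p.1 p.2⟩
  have hτ2 : ∀ p, ((τ p).2 : ℕ) = (p.2 : ℕ) := fun p => rfl
  refine ⟨J.b.equiv J'.b τ, ?_⟩
  intro x
  have hlin : (J.b.equiv J'.b τ).toLinearMap ∘ₗ N = N' ∘ₗ (J.b.equiv J'.b τ).toLinearMap := by
    apply J.b.ext
    rintro ⟨i, j⟩
    simp only [LinearMap.comp_apply, LinearEquiv.coe_coe, Module.Basis.equiv_apply]
    rw [J.hN]
    have h3 := J'.hN (τ ⟨i, j⟩).1 (τ ⟨i, j⟩).2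
    rw [show (⟨(τ ⟨i, j⟩).1, (τ ⟨i, j⟩).2⟩ : Σ i : Fin J'.d, Fin (J'.k i)) = τ ⟨i, j⟩ from rfl] at h3
    rw [h3]
    have h4 : J'.k (τ ⟨i, j⟩).1 = J.k i := hτ1 ⟨i, j⟩
    have h5 : ((τ ⟨i, j⟩).2 : ℕ) = (j : ℕ) := hτ2 ⟨i, j⟩
    by_cases hc : (j : ℕ) + 1 < J.k i
    · rw [dif_pos hc, dif_pos (by rw [h5, h4]; exact hc), Module.Basis.equiv_apply]
      congr 1
    · rw [dif_neg hc, dif_neg (by rw [h5, h4]; exact hc), map_zero]
  exact LinearMap.congr_fun hlin x

end Cfsg.Agent.Lib.H12.Jordan
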