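import Cfsg.Agent.Lib.H12.JordanC

/-!
# The partition of a Jordan system is a conjugacy invariant and determines the class (helper12)
-/

set_option autoImplicit false

namespace Cfsg.Agent.Lib.H12.Jordan

universe u v v'
variable {F : Type u} [Field F] {V : Type v} [AddCommGroup V] [Module F V]
  {V' : Type v'} [AddCommGroup V'] [Module F V']

/-- the multiset of (non-zero) chain lengths. -/
def JSys.parts {N : Module.End F V} (J : JSys N) : Multiset ℕ :=
  ((Finset.univ : Finset (Fin J.d)).val.map J.k).filter (· ≠ 0)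

theorem JSys.parts_pos {N : Module.End F V} (J : JSys N) {a : ℕ} (ha : a ∈ J.parts) : 0 < a := by
  rw [JSys.parts, Multiset.mem_filter] at ha
  exact Nat.pos_of_ne_zero ha.2

theorem JSys.count_parts {N : Module.End F V} (J : JSys N) (l : ℕ) :
    J.parts.count (l + 1) = (Finset.univ.filter (fun i => J.k i = l + 1)).card := by
  classical
  rw [JSys.parts, Multiset.count_filter, if_pos (Nat.succ_ne_zero l), Multiset.count_map,
    ← Finset.filter_val, Finset.card_def]
  congr 2
  ext i
  simp [eq_comm]

theorem JSys.sum_parts_sub {N : Module.End F V} (J : JSys N) (t : ℕ) :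
    (J.parts.map (fun a => a - t)).sum = ∑ i : Fin J.d, (J.k i - t) := by
  classical
  rw [Finset.sum]
  have hmm : Multiset.map (fun i => J.k i - t) (Finset.univ : Finset (Fin J.d)).val =
      Multiset.map (fun a => a - t) (Multiset.map J.k (Finset.univ : Finset (Fin J.d)).val) := by
    rw [Multiset.map_map]; rfl
  rw [hmm]
  have h := Multiset.filter_add_not (fun a : ℕ => a ≠ 0) ((Finset.univ : Finset (Fin J.d)).val.map J.k)
  conv_rhs => rw [← h, Multiset.map_add, Multiset.sum_add]
  rw [JSys.parts]
  have h0 : (Multiset.map (fun a => a - t)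
      (Multiset.filter (fun a => ¬ a ≠ 0) (Multiset.map J.k Finset.univ.val))).sum = 0 := by
    apply Multiset.sum_eq_zero
    intro x hx
    rw [Multiset.mem_map] at hx
    obtain ⟨a, ha, rfl⟩ := hx
    rw [Multiset.mem_filter] at ha
    have := ha.2
    push Not at this
    rw [this]
    simp
  rw [h0, add_zero]

theorem JSys.sum_parts {N : Module.End F V} (J : JSys N) [FiniteDimensional F V] :
    J.parts.sum = Module.finrank F V := by
  have := J.sum_parts_sub 0
  simp only [Nat.sub_zero, Multiset.map_id'] at this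
  rw [this, J.sum_k]

/-- equal rank sequences give equal parts. -/
theorem JSys.parts_eq_of_sums {N : Module.End F V} {N' : Module.End F V'} (J : JSys N)
    (J' : JSys N')
    (h : ∀ t, ∑ i : Fin J.d, (J.k i - t) = ∑ i : Fin J'.d, (J'.k i - t)) :
    J.parts = J'.parts := by
  classical
  ext a
  rcases Nat.eq_zero_or_pos a with rfl | ha
  · rw [Multiset.count_eq_zero_of_notMem (fun h0 => (J.parts_pos h0).ne' rfl),
      Multiset.count_eq_zero_of_notMem (fun h0 => (J'.parts_pos h0).ne' rfl)]
  · obtain ⟨l, rfl⟩ : ∃ l, a = l + 1 := ⟨a - 1, by omega⟩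
    rw [J.count_parts, J'.count_parts]
    exact card_eq_of_sums J.k J'.k h l

theorem JSys.sums_eq_of_parts {N : Module.End F V} {N' : Module.End F V'} (J : JSys N)
    (J' : JSys N') (h : J.parts = J'.parts) (t : ℕ) :
    ∑ i : Fin J.d, (J.k i - t) = ∑ i : Fin J'.d, (J'.k i - t) := by
  rw [← J.sum_parts_sub, ← J'.sum_parts_sub, h]

/-- conjugate endomorphisms have the same parts. -/
theorem JSys.parts_eq_of_equiv {N : Module.End F V} {N' : Module.End F V'} (J : JSys N)
    (J' : JSys N') (e : V ≃ₗ[F] V') (he : ∀ x, e (N x) = N' (e x)) : J.parts = J'.parts := by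
  apply J.parts_eq_of_sums J'
  intro t
  rw [← J.finrank_range_pow, ← J'.finrank_range_pow]
  have hpow : ∀ x, e ((N ^ t) x) = (N' ^ t) (e x) := by
    induction t with
    | zero => intro x; simp
    | succ t ih =>
      intro x
      rw [pow_succ, pow_succ, Module.End.mul_apply, Module.End.mul_apply, ih, he]
  have hr : LinearMap.range (N' ^ t) = (LinearMap.range (N ^ t)).map e.toLinearMap := by
    ext y
    constructor
    · rintro ⟨x, rfl⟩
      refine ⟨(N ^ t) (e.symm x), ⟨_, rfl⟩, ?_⟩
      show e ((N ^ t) (e.symm x)) = _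
      rw [hpow, LinearEquiv.apply_symm_apply]
    · rintro ⟨_, ⟨x, rfl⟩, rfl⟩
      exact ⟨e x, (hpow x).symm⟩
  rw [hr]
  exact (LinearEquiv.finrank_map_eq e _).symm

theorem JSys.exists_equiv_of_parts {N : Module.End F V} {N' : Module.End F V'} (J : JSys N)
    (J' : JSys N') (h : J.parts = J'.parts) : ∃ e : V ≃ₗ[F] V', ∀ x, e (N x) = N' (e x) :=
  exists_equiv_of_sums J J' (J.sums_eq_of_parts J' h)

end Cfsg.Agent.Lib.H12.Jordan
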