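import Mathlib
import Cfsg.Agent.Lib.H24.GlaubSolv4
import Cfsg.Agent.Lib.H24.CharBasic
import Cfsg.Agent.Lib.H24.CharOrth

/-!
# S4591 pieces B2 and F1 (helper12): the Glauberman count for a Sylow subgroup acting on a
normal `p'`-subgroup

`L ⊴ G` a `p'`-group, `P` a Sylow `p`-subgroup.
* `invariant_irr_eq_one`: if `C_L(P) = 1` the only `P`-invariant irreducible character of `L` is `1`;
* `exists_invariant_irr_ne_one`: if `C_L(P) ≠ 1` there is a nontrivial `P`-invariant irreducible one.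
-/

set_option autoImplicit false

namespace Cfsg.Agent.Lib.H12.KPP

open Cfsg Cfsg.Agent.Lib.L0 Cfsg.Agent.Lib.H23 Cfsg.Agent.Lib.H24

variable {G : Type*} [Group G] [Fintype G] (p : ℕ) [hp : Fact p.Prime]

/-- The Glauberman count, specialised: `P` a Sylow `p`-subgroup, `L ⊴ G` a `p'`-group. -/
theorem sylow_count (P : Sylow p G) (L : Subgroup G) [L.Normal]
    (hc : (Nat.card L).Coprime p) :
    Nat.card {χ : IrrCharacter L // ∀ s ∈ (P : Subgroup G), Glaub.InvUnder L s (χ : L → ℂ)} =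
      Nat.card {cl : ConjClasses L // Glaub.ClsInv L (P : Subgroup G) cl} := by
  have hnorm : ∀ s ∈ (P : Subgroup G), ∀ g ∈ L, s * g * s⁻¹ ∈ L :=
    fun s _ g hg => (inferInstance : L.Normal).conj_mem g hg s
  have hPp : IsPGroup p (P : Subgroup G) := P.isPGroup'
  have hcop : (Nat.card L).Coprime (Nat.card (P : Subgroup G)) := by
    obtain ⟨n, hn⟩ := hPp.exists_card_eq
    rw [hn]
    exact Nat.Coprime.pow_right n hc
  have hsolv : Group.IsSolvable (P : Subgroup G) := by
    have : Group.IsNilpotent (P : Subgroup G) := hPp.isNilpotent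
    infer_instance
  exact Glaub.solv_count (Γ := G) L P hnorm hcop hsolv

/-- A `P`-invariant class of `L` contains an element of `C_L(P)`. -/
theorem invariant_class_meets_centralizer (P : Sylow p G) (L : Subgroup G) [L.Normal]
    (hc : (Nat.card L).Coprime p) (g : L)
    (hcl : Glaub.ClsInv L (P : Subgroup G) (ConjClasses.mk g)) :
    ∃ c : L, (c : G) ∈ Subgroup.centralizer ((P : Subgroup G) : Set G) ∧
      ConjClasses.mk c = ConjClasses.mk g := by
  have hnorm : ∀ s ∈ (P : Subgroup G), ∀ g ∈ L, s * g * s⁻¹ ∈ L :=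
    fun s _ g hg => (inferInstance : L.Normal).conj_mem g hg s
  have hPp : IsPGroup p (P : Subgroup G) := P.isPGroup'
  have hpL : ¬ p ∣ Nat.card L := by
    intro h
    have h1 : p ∣ Nat.gcd (Nat.card L) p := Nat.dvd_gcd h dvd_rfl
    rw [hc] at h1
    exact hp.out.one_lt.ne' (Nat.dvd_one.mp h1)
  obtain ⟨x, hx⟩ := Glaub.exists_conj_mem_centralizer hPp hnorm hpL g
    (fun q hq g' hg' => ConjClasses.mk_eq_mk_iff_isConj.mp (hcl q hq g g' hg' rfl))
  refine ⟨x * g * x⁻¹, ?_, ?_⟩
  · rw [Subgroup.mem_centralizer_iff]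
    intro q hq
    have h1 := hx q hq
    calc q * ((x * g * x⁻¹ : L) : G) = q * ((x * g * x⁻¹ : L) : G) * q⁻¹ * q := by group
      _ = ((x * g * x⁻¹ : L) : G) * q := by rw [h1]
  · rw [ConjClasses.mk_eq_mk_iff_isConj, isConj_iff]
    exact ⟨x⁻¹, by group⟩

/-- B2 (Glauberman count): if `C_L(P) = 1` the only `P`-invariant irreducible character of `L` is `1`. -/
theorem invariant_irr_eq_one (P : Sylow p G) (L : Subgroup G) [L.Normal] [Fintype L]
    (hc : (Nat.card L).Coprime p)
    (hL : L ⊓ Subgroup.centralizer ((P : Subgroup G) : Set G) = ⊥) (θ : IrrCharacter L)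
    (hinv : ∀ s ∈ (P : Subgroup G), ∀ g g' : L, (g' : G) = s * g * s⁻¹ →
      (θ : L → ℂ) g' = (θ : L → ℂ) g) :
    (θ : L → ℂ) = fun _ => 1 := by
  classical
  have hcount := sylow_count p P L hc
  have hcls : ∀ cl : ConjClasses L, Glaub.ClsInv L (P : Subgroup G) cl →
      cl = ConjClasses.mk 1 := by
    intro cl hcl
    obtain ⟨g, rfl⟩ := ConjClasses.exists_rep cl
    obtain ⟨c, hcC, hcg⟩ := invariant_class_meets_centralizer p P L hc g hcl
    have hmem : (c : G) ∈ L ⊓ Subgroup.centralizer ((P : Subgroup G) : Set G) := ⟨c.2, hcC⟩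
    rw [hL, Subgroup.mem_bot] at hmem
    have hc1 : c = 1 := Subtype.ext hmem
    rw [← hcg, hc1]
  have : Subsingleton {cl : ConjClasses L // Glaub.ClsInv L (P : Subgroup G) cl} :=
    ⟨fun a b => Subtype.ext ((hcls a.1 a.2).trans (hcls b.1 b.2).symm)⟩
  have : Finite (IrrCharacter L) := finite_irr
  have hle : Nat.card {χ : IrrCharacter L //
      ∀ s ∈ (P : Subgroup G), Glaub.InvUnder L s (χ : L → ℂ)} ≤ 1 := by
    rw [hcount]
    exact Finite.card_le_one_iff_subsingleton.mpr inferInstance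
  have hss := Finite.card_le_one_iff_subsingleton.mp hle
  let a : {χ : IrrCharacter L // ∀ s ∈ (P : Subgroup G), Glaub.InvUnder L s (χ : L → ℂ)} :=
    ⟨θ, fun s hs g g' hgg' => hinv s hs g g' hgg'⟩
  let b : {χ : IrrCharacter L // ∀ s ∈ (P : Subgroup G), Glaub.InvUnder L s (χ : L → ℂ)} :=
    ⟨⟨fun _ => 1, Cfsg.Agent.Lib.H24.isIrrCharacter_one⟩, fun s _ g g' _ => rfl⟩
  have hab : a = b := Subsingleton.elim a b
  have h1 := congrArg (fun x => (x.1 : L → ℂ)) hab
  exact h1

end Cfsg.Agent.Lib.H12.KPP
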