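import Mathlib
import Cfsg.Agent.Lib.H12.KPPB2

/-!
# S4591 piece F1 (helper12): a nontrivial `P`-invariant irreducible character of a normal
`p'`-subgroup `L` with `C_L(P) ≠ 1` (Glauberman count)
-/

set_option autoImplicit false

namespace Cfsg.Agent.Lib.H12.KPP

open Cfsg Cfsg.Agent.Lib.L0 Cfsg.Agent.Lib.H23 Cfsg.Agent.Lib.H24

variable {G : Type*} [Group G] [Fintype G] (p : ℕ) [hp : Fact p.Prime]

/-- F1 (Glauberman count): if `C_L(P) ≠ 1` there is a nontrivial `P`-invariant irreducible character. -/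
theorem exists_invariant_irr_ne_one (P : Sylow p G) (L : Subgroup G) [L.Normal] [Fintype L]
    (hc : (Nat.card L).Coprime p)
    (hL : L ⊓ Subgroup.centralizer ((P : Subgroup G) : Set G) ≠ ⊥) :
    ∃ θ : IrrCharacter L, (∀ s ∈ (P : Subgroup G), ∀ g g' : L, (g' : G) = s * g * s⁻¹ →
      (θ : L → ℂ) g' = (θ : L → ℂ) g) ∧ (θ : L → ℂ) ≠ fun _ => 1 := by
  classical
  have hcount := sylow_count p P L hc
  by_contra hcon
  push Not at hcon
  -- all invariant irreducibles are trivial: at most one of them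
  have : Subsingleton {χ : IrrCharacter L //
      ∀ s ∈ (P : Subgroup G), Glaub.InvUnder L s (χ : L → ℂ)} := by
    refine ⟨fun a b => Subtype.ext (Subtype.ext ?_)⟩
    rw [hcon a.1 (fun s hs g g' hgg' => a.2 s hs g g' hgg'),
      hcon b.1 (fun s hs g g' hgg' => b.2 s hs g g' hgg')]
  have : Finite (IrrCharacter L) := finite_irr
  have hle : Nat.card {cl : ConjClasses L // Glaub.ClsInv L (P : Subgroup G) cl} ≤ 1 := by
    rw [← hcount]
    exact Finite.card_le_one_iff_subsingleton.mpr inferInstance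
  have hss := Finite.card_le_one_iff_subsingleton.mp hle
  -- a nontrivial element of `C_L(P)`
  obtain ⟨⟨c, hcL, hcC⟩, hc1⟩ := (Subgroup.ne_bot_iff_exists_ne_one).mp hL
  have hfix : ∀ d : L, (d : G) ∈ Subgroup.centralizer ((P : Subgroup G) : Set G) →
      Glaub.ClsInv L (P : Subgroup G) (ConjClasses.mk d) := by
    intro d hd s hs g g' hgg' hg
    rw [ConjClasses.mk_eq_mk_iff_isConj, isConj_iff] at hg ⊢
    obtain ⟨y, hy⟩ := hg
    have hy' : (y : G) * (g : G) * (y : G)⁻¹ = (d : G) := congrArg Subtype.val hy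
    have hsd : s * (d : G) * s⁻¹ = (d : G) := by
      have h1 := (Subgroup.mem_centralizer_iff.mp hd) s hs
      calc s * (d : G) * s⁻¹ = (d : G) * s * s⁻¹ := by rw [h1]
        _ = (d : G) := by group
    refine ⟨⟨s * y * s⁻¹, (inferInstance : L.Normal).conj_mem y y.2 s⟩, Subtype.ext ?_⟩
    show s * (y : G) * s⁻¹ * (g' : G) * (s * (y : G) * s⁻¹)⁻¹ = (d : G)
    rw [hgg']
    calc s * (y : G) * s⁻¹ * (s * (g : G) * s⁻¹) * (s * (y : G) * s⁻¹)⁻¹
        = s * ((y : G) * (g : G) * (y : G)⁻¹) * s⁻¹ := by group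
      _ = (d : G) := by rw [hy', hsd]
  let a : {cl : ConjClasses L // Glaub.ClsInv L (P : Subgroup G) cl} :=
    ⟨ConjClasses.mk 1, hfix 1 (Subgroup.one_mem _)⟩
  let b : {cl : ConjClasses L // Glaub.ClsInv L (P : Subgroup G) cl} :=
    ⟨ConjClasses.mk ⟨c, hcL⟩, hfix ⟨c, hcL⟩ hcC⟩
  have hab : a = b := Subsingleton.elim a b
  have h1 : ConjClasses.mk (1 : L) = ConjClasses.mk ⟨c, hcL⟩ := congrArg Subtype.val hab
  rw [ConjClasses.mk_eq_mk_iff_isConj, isConj_one_right] at h1
  have hc' : c = 1 := congrArg Subtype.val h1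
  exact hc1 (Subtype.ext hc')

end Cfsg.Agent.Lib.H12.KPP
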