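import Mathlib
import Cfsg.Agent.Lib.H24.CoprimeCount
import Cfsg.Agent.Lib.H24.CoprimeAbove
import Cfsg.Agent.Lib.H24.CharAbelian
import Cfsg.Agent.Lib.H23.Ito
import Cfsg.Agent.Lib.H23.RelMGroup
import Cfsg.Agent.Lib.L0.CharIndChar
import Cfsg.Agent.Lib.H14.KPPPPC

/-!
# S4591 piece F2 (helper12): a `P`-invariant irreducible character of a normal `p'`-subgroup lies
under an irreducible character of `G` of degree prime to `p`

`θ` is invariant in `H = L P`, `L` is a normal Hall subgroup of `H`, so `θ` extends to `η ∈ Irr(H)`;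
`η^G` has degree `|G:H| θ(1)` prime to `p`; take a constituent of degree prime to `p`.
-/

set_option autoImplicit false

namespace Cfsg.Agent.Lib.H12.KPP

open Cfsg Cfsg.Agent.Lib.L0 Cfsg.Agent.Lib.H23 Cfsg.Agent.Lib.H24

variable {G : Type*} [Group G] [Fintype G] (p : ℕ) [hp : Fact p.Prime]

/-- F2 (extension + induction): a `P`-invariant `θ ∈ Irr(L)`, `L ⊴ G` a `p'`-group, lies under some
`χ ∈ Irr(G)` of `p'`-degree. -/
theorem exists_pprime_over_invariant (P : Sylow p G) (L : Subgroup G) [L.Normal] [Fintype L]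
    (hc : (Nat.card L).Coprime p) (θ : IrrCharacter L)
    (hinv : ∀ s ∈ (P : Subgroup G), ∀ g g' : L, (g' : G) = s * g * s⁻¹ →
      (θ : L → ℂ) g' = (θ : L → ℂ) g) :
    ∃ χ : IrrCharacter G, ¬ p ∣ charDegree (χ : G → ℂ) ∧
      classInner (fun n : L => (χ : G → ℂ) n) (θ : L → ℂ) ≠ 0 := by
  classical
  set H : Subgroup G := L ⊔ (P : Subgroup G) with hH
  have hLH : L ≤ H := le_sup_left
  have hPH : (P : Subgroup G) ≤ H := le_sup_right
  have hθcf : IsClassFunction L (θ : L → ℂ) :=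
    isClassFunction_of_isCharacter (isCharacter_of_irr θ.2)
  have hHI : H ≤ Cfsg.Agent.Lib.H23.inertia L (θ : L → ℂ) :=
    sup_le (Cfsg.Agent.Lib.H23.le_inertia L hθcf)
      (fun s hs n => hinv s hs n ⟨s * n * s⁻¹, (inferInstance : L.Normal).conj_mem n n.2 s⟩ rfl)
  set K : Subgroup H := L.subgroupOf H with hK
  have hKn : K.Normal := Subgroup.Normal.subgroupOf inferInstance H
  let e : K ≃* L := Subgroup.subgroupOfEquivOfLe hLH
  set θK : K → ℂ := (θ : L → ℂ) ∘ e with hθK
  have hθKirr : IsIrrCharacter K θK := isIrrCharacter_comp_mulEquiv e θ.2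
  have hcardK : Nat.card K = Nat.card L := Nat.card_congr e.toEquiv
  have hidx : K.index ∣ Nat.card (P : Subgroup G) := by
    have h1 : K.index = L.relIndex H := rfl
    rw [h1, hH, Subgroup.relIndex_sup_left]
    exact Subgroup.relIndex_dvd_card L P
  have hcopK : (Nat.card K).Coprime K.index := by
    rw [hcardK]
    obtain ⟨n, hn⟩ := P.isPGroup'.exists_card_eq
    refine Nat.Coprime.coprime_dvd_right hidx ?_
    rw [hn]
    exact Nat.Coprime.pow_right n hc
  have hinvK : ∀ (g : H) (n : K), θK ⟨g * n * g⁻¹, hKn.conj_mem (n : H) n.2 g⟩ = θK n := by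
    intro g n
    have h1 := hHI g.2 (e n)
    show (θ : L → ℂ) (e ⟨g * n * g⁻¹, _⟩) = (θ : L → ℂ) (e n)
    rw [← h1]
    congr 1
  obtain ⟨η, hη, hηK⟩ := exists_extension_of_hall K hcopK θK hθKirr hinvK
  have hηc : IsCharacter H η := isCharacter_of_irr hη
  have hψ : IsCharacter G (indFun H η) := isCharacter_indFun H hηc
  have hη1 : η 1 = (charDegree (θ : L → ℂ) : ℂ) := by
    have h1 := hηK 1
    have h2 : ((1 : K) : H) = 1 := rfl
    rw [h2] at h1
    rw [h1]
    show (θ : L → ℂ) (e 1) = _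
    rw [map_one]
    exact apply_one_eq_charDegree _ θ.2
  have hψ1 : indFun H η 1 = ((H.index * charDegree (θ : L → ℂ) : ℕ) : ℂ) := by
    rw [indFun_apply_one, hη1]
    push_cast
    rfl
  have hpd : ¬ p ∣ H.index * charDegree (θ : L → ℂ) := by
    intro h
    rcases (Nat.Prime.dvd_mul hp.out).mp h with h | h
    · exact P.not_dvd_index (h.trans (Subgroup.index_dvd_of_le hPH))
    · have h1 : charDegree (θ : L → ℂ) ∣ Nat.card L := charDegree_dvd_card _ θ.2
      have h2 : p ∣ Nat.gcd (Nat.card L) p := Nat.dvd_gcd (h.trans h1) dvd_rfl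
      rw [hc] at h2
      exact hp.out.one_lt.ne' (Nat.dvd_one.mp h2)
  obtain ⟨χ, hχdeg, hχψ⟩ :=
    Cfsg.Agent.Lib.H14.KPP.exists_pprime_constituent p (indFun H η) hψ _ hψ1 hpd
  refine ⟨χ, hχdeg, ?_⟩
  have hχc : IsCharacter G (χ : G → ℂ) := isCharacter_of_irr χ.2
  have hχcf := isClassFunction_of_isCharacter hχc
  rw [frobenius_reciprocity H η _ hχcf] at hχψ
  have h1 : classInner (fun m : H => (χ : G → ℂ) m) η ≠ 0 := by
    rw [← classInner_conj_symm]
    intro h0
    apply hχψ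
    have := congrArg (starRingEnd ℂ) h0
    simpa using this
  refine constituent_trans L H hLH (χ : G → ℂ) hχc η hη (θ : L → ℂ) θ.2 h1 ?_
  have h2 : (fun n : L.subgroupOf H => η n) = θK := funext hηK
  rw [h2]
  show classInner θK θK ≠ 0
  rw [irr_classInner_self hθKirr]
  exact one_ne_zero

end Cfsg.Agent.Lib.H12.KPP
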