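import Mathlib
import Cfsg.Agent.Lib.H12.KPPF1
import Cfsg.Agent.Lib.H12.KPPF2
import Cfsg.Agent.Lib.H14.KPPRESK
import Cfsg.Agent.Lib.H20.KPPDefs

/-!
# S4591 piece CENT (helper12): a normal `p'`-subgroup inside the kernel of all `p'`-degree
irreducible characters meets `C_G(P)` trivially
-/

set_option autoImplicit false

namespace Cfsg.Agent.Lib.H12.KPP

open Cfsg Cfsg.Agent.Lib.L0 Cfsg.Agent.Lib.H23 Cfsg.Agent.Lib.H24 Cfsg.Agent.Lib.H20.KPP

variable {G : Type*} [Group G] [Fintype G] (p : ℕ) [hp : Fact p.Prime]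

/-- CENT = F1 + F2 + RESK. -/
theorem inf_centralizer_eq_bot_of_le_kerPP (P : Sylow p G) (L : Subgroup G) [L.Normal]
    (hc : (Nat.card L).Coprime p) (hle : L ≤ kerPP p) :
    L ⊓ Subgroup.centralizer ((P : Subgroup G) : Set G) = ⊥ := by
  classical
  by_contra hne
  obtain ⟨θ, hinv, hθ1⟩ := exists_invariant_irr_ne_one p P L hc hne
  obtain ⟨χ, hχdeg, hcon⟩ := exists_pprime_over_invariant p P L hc θ hinv
  apply hθ1
  apply irr_eq_trivial_of_charKer_eq_top θ.2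
  rw [eq_top_iff]
  intro x _
  rw [mem_charKer]
  have hx : (χ : G → ℂ) (x : G) = (χ : G → ℂ) 1 := (mem_kerPP p (x : G)).mp (hle x.2) χ hχdeg
  exact Cfsg.Agent.Lib.H14.KPP.constituent_apply_eq L (χ : G → ℂ) (isCharacter_of_irr χ.2)
    (θ : L → ℂ) θ.2 hcon x hx

end Cfsg.Agent.Lib.H12.KPP
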