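import Mathlib
import Cfsg.Prelude.Def_BlockRank
import Cfsg.Agent.Lib.H23.BlockEquiv

/-!
S4651 piece (K5 BRI) `blockRank_irrEquiv_image`: the `p`-regular rank is invariant under group isomorphisms.
-/

set_option autoImplicit false

namespace Cfsg.Agent.Lib.H12.KR

open Cfsg Cfsg.Agent.Lib.H23

theorem pRegularPart_comp_mulEquiv {A B : Type*} [Group A] [Group B] (e : A ≃* B) (p : ℕ) (f : B → ℂ) :
    pRegularPart p (fun a => f (e a)) = fun a => pRegularPart p f (e a) := by
  classical
  funext a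
  unfold pRegularPart
  have h : IsPRegular p (e a) ↔ IsPRegular p a := by
    unfold IsPRegular
    rw [MulEquiv.orderOf_eq]
  by_cases ha : IsPRegular p a
  · rw [if_pos ha, if_pos (h.mpr ha)]
  · rw [if_neg ha, if_neg (fun h' => ha (h.mp h'))]

theorem blockRank_irrEquiv_image {A B : Type*} [Group A] [Group B] (e : A ≃* B) (p : ℕ)
    (S : Set (IrrCharacter B)) :
    blockRank p ((irrEquiv e) '' S) = blockRank p S := by
  unfold blockRank
  -- the linear equivalence `(B → ℂ) ≃ (A → ℂ)`, `f ↦ f ∘ e`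
  let L : (B → ℂ) ≃ₗ[ℂ] (A → ℂ) := LinearEquiv.funCongrLeft ℂ ℂ e.toEquiv
  have hL : ∀ f : B → ℂ, L f = fun a => f (e a) := fun f => rfl
  have himg : (fun χ : IrrCharacter A => pRegularPart p (χ : A → ℂ)) '' ((irrEquiv e) '' S) =
      L '' ((fun χ : IrrCharacter B => pRegularPart p (χ : B → ℂ)) '' S) := by
    rw [Set.image_image, Set.image_image]
    apply Set.image_congr
    intro θ _
    rw [hL]
    exact pRegularPart_comp_mulEquiv e p (θ : B → ℂ)
  rw [himg]
  have hspan : Submodule.span ℂ (L '' ((fun χ : IrrCharacter B => pRegularPart p (χ : B → ℂ)) '' S)) =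
      (Submodule.span ℂ ((fun χ : IrrCharacter B => pRegularPart p (χ : B → ℂ)) '' S)).map
        (L : (B → ℂ) →ₗ[ℂ] (A → ℂ)) := by
    rw [Submodule.map_span]
    rfl
  rw [hspan]
  exact LinearEquiv.finrank_map_eq L _

end Cfsg.Agent.Lib.H12.KR
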