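import Mathlib

set_option autoImplicit false

/-!
# S4575 (helper12): the abstract arithmetic (pure Mathlib)

`K` a finite set of characters, `h` the heights, `A χ` the averaged diagonal contributions (natural numbers),
`D = 2 ^ d`, `l = l(b)`:  trace equality `∑ A = l D`, `A ≤ D`, `A` odd in height zero, `2 ^ (h+1) ∣ A`, `0 < A`,
`A ≠ D` in positive height, and one of the two forms of the off-diagonal bound against a character of height zero.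
Then `k ≤ l + 3` forces `k ≤ D`.
-/

namespace Cfsg.Agent.Lib.H12.KX

/-- the complementary numbers `D - A χ` are at least `3` when no height zero character has `D - A ≤ 1`. -/
theorem three_le_compl {ι : Type*} (K : Finset ι) (h : ι → ℕ) (A : ι → ℕ) (d : ℕ)
    (hU : ∀ χ ∈ K, A χ ≤ 2 ^ d)
    (h0 : ∀ χ ∈ K, h χ = 0 → Odd (A χ))
    (h1 : ∀ χ ∈ K, 1 ≤ h χ → 2 ^ (h χ + 1) ∣ A χ ∧ 0 < A χ ∧ A χ ≠ 2 ^ d)
    (hbig : ∀ ψ ∈ K, h ψ = 0 → 2 ≤ 2 ^ d - A ψ) :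
    ∀ χ ∈ K, 3 ≤ 2 ^ d - A χ := by
  intro χ hχ
  rcases Nat.eq_zero_or_pos (h χ) with hh | hh
  · -- height zero: `A` odd, `D - A ≥ 2`, so `D` is even and `D - A` is odd
    have hodd := h0 χ hχ hh
    have h2 := hbig χ hχ hh
    have hle := hU χ hχ
    have hd : d ≠ 0 := by
      rintro rfl
      have : 0 < A χ := hodd.pos
      simp at h2
      omega
    obtain ⟨e, rfl⟩ := Nat.exists_eq_succ_of_ne_zero hd
    obtain ⟨a, ha⟩ := hodd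
    have : 2 ^ (e + 1) = 2 * 2 ^ e := by rw [pow_succ]; ring
    omega
  · -- positive height
    obtain ⟨hdvd, hpos, hne⟩ := h1 χ hχ hh
    have hle := hU χ hχ
    have hpowle : 2 ^ (h χ + 1) ≤ 2 ^ d := (Nat.le_of_dvd hpos hdvd).trans hle
    have hexp : h χ + 1 ≤ d := (Nat.pow_le_pow_iff_right (by norm_num)).mp hpowle
    have hdvdD : 2 ^ (h χ + 1) ∣ 2 ^ d := pow_dvd_pow 2 hexp
    have hdvdsub : 2 ^ (h χ + 1) ∣ 2 ^ d - A χ := Nat.dvd_sub hdvdD hdvd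
    have hsubpos : 0 < 2 ^ d - A χ := by
      have : A χ < 2 ^ d := lt_of_le_of_ne hle hne
      omega
    have h4 : 4 ≤ 2 ^ (h χ + 1) := by
      calc 4 = 2 ^ (1 + 1) := by norm_num
        _ ≤ 2 ^ (h χ + 1) := Nat.pow_le_pow_right (by norm_num) (by omega)
    have := Nat.le_of_dvd hsubpos hdvdsub
    omega

/-- the counting step: if all `D - A χ ≥ 3`, `∑ A = l D`, `A ≤ D` and `k ≤ l + 3` then `k ≤ D`. -/
theorem card_le_of_three_le_compl {ι : Type*} (K : Finset ι) (A : ι → ℕ) (D l : ℕ)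
    (hk : K.card ≤ l + 3) (hT : ∑ χ ∈ K, A χ = l * D) (hU : ∀ χ ∈ K, A χ ≤ D)
    (h3 : ∀ χ ∈ K, 3 ≤ D - A χ) : K.card ≤ D := by
  have hsum : ∑ χ ∈ K, (D - A χ) + ∑ χ ∈ K, A χ = K.card * D := by
    rw [← Finset.sum_add_distrib, Finset.card_eq_sum_ones, Finset.sum_mul]
    refine Finset.sum_congr rfl (fun χ hχ => ?_)
    have := hU χ hχ
    omega
  have hlow : 3 * K.card ≤ ∑ χ ∈ K, (D - A χ) := by
    calc 3 * K.card = ∑ _χ ∈ K, 3 := by rw [Finset.sum_const, smul_eq_mul, mul_comm]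
      _ ≤ ∑ χ ∈ K, (D - A χ) := Finset.sum_le_sum h3
  have hup : K.card * D ≤ (l + 3) * D := Nat.mul_le_mul_right D hk
  nlinarith

/-- the number of elements is at most `∑ 4 ^ h`. -/
theorem card_le_sum_four_pow {ι : Type*} (K : Finset ι) (h : ι → ℕ) : K.card ≤ ∑ χ ∈ K, 4 ^ h χ := by
  calc K.card = ∑ _χ ∈ K, 1 := by rw [Finset.card_eq_sum_ones]
    _ ≤ ∑ χ ∈ K, 4 ^ h χ := Finset.sum_le_sum (fun χ _ => Nat.one_le_pow _ _ (by norm_num))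

/-- (ABS', form J of the lead's sketch) off-diagonal bound `∑_{χ ≠ ψ} 4^{h χ} ≤ A ψ (D - A ψ)`. -/
theorem card_le_two_pow_of_erase {ι : Type*} [DecidableEq ι] (K : Finset ι) (h : ι → ℕ) (A : ι → ℕ) (d l : ℕ)
    (hk : K.card ≤ l + 3) (hT : ∑ χ ∈ K, A χ = l * 2 ^ d)
    (hU : ∀ χ ∈ K, A χ ≤ 2 ^ d)
    (h0 : ∀ χ ∈ K, h χ = 0 → Odd (A χ))
    (h1 : ∀ χ ∈ K, 1 ≤ h χ → 2 ^ (h χ + 1) ∣ A χ ∧ 0 < A χ ∧ A χ ≠ 2 ^ d)
    (hJ : ∀ ψ ∈ K, h ψ = 0 → ∑ χ ∈ K.erase ψ, 4 ^ h χ ≤ A ψ * (2 ^ d - A ψ)) :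
    K.card ≤ 2 ^ d := by
  by_cases hsmall : ∃ ψ ∈ K, h ψ = 0 ∧ 2 ^ d - A ψ ≤ 1
  · obtain ⟨ψ, hψ, hh, hle1⟩ := hsmall
    have hJ' := hJ ψ hψ hh
    have hc := card_le_sum_four_pow (K.erase ψ) h
    rw [Finset.card_erase_of_mem hψ] at hc
    have hUψ := hU ψ hψ
    have hpos : 0 < A ψ := (h0 ψ hψ hh).pos
    have : A ψ * (2 ^ d - A ψ) ≤ A ψ * 1 := Nat.mul_le_mul_left _ hle1
    have hDpos : 0 < 2 ^ d := by positivity
    have hcase : 2 ^ d - A ψ = 0 ∨ 2 ^ d - A ψ = 1 := by omega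
    rcases hcase with h0' | h1'
    · rw [h0'] at hJ'
      omega
    · rw [h1'] at hJ'
      omega
  · push Not at hsmall
    have hbig : ∀ ψ ∈ K, h ψ = 0 → 2 ≤ 2 ^ d - A ψ := fun ψ hψ hh => hsmall ψ hψ hh
    exact card_le_of_three_le_compl K A (2 ^ d) l hk hT hU (three_le_compl K h A d hU h0 h1 hbig)

/-- (ABS', form of helper9's sketch) off-diagonal bound `∑_χ 4^{h χ} ≤ D (D - A ψ)`. -/
theorem card_le_two_pow_of_compl {ι : Type*} (K : Finset ι) (h : ι → ℕ) (A : ι → ℕ) (d l : ℕ)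
    (hk : K.card ≤ l + 3) (hT : ∑ χ ∈ K, A χ = l * 2 ^ d)
    (hU : ∀ χ ∈ K, A χ ≤ 2 ^ d)
    (h0 : ∀ χ ∈ K, h χ = 0 → Odd (A χ))
    (h1 : ∀ χ ∈ K, 1 ≤ h χ → 2 ^ (h χ + 1) ∣ A χ ∧ 0 < A χ ∧ A χ ≠ 2 ^ d)
    (hJ : ∀ ψ ∈ K, h ψ = 0 → ∑ χ ∈ K, 4 ^ h χ ≤ 2 ^ d * (2 ^ d - A ψ)) :
    K.card ≤ 2 ^ d := by
  by_cases hsmall : ∃ ψ ∈ K, h ψ = 0 ∧ 2 ^ d - A ψ ≤ 1
  · obtain ⟨ψ, hψ, hh, hle1⟩ := hsmall
    have hJ' := hJ ψ hψ hh
    have hc := card_le_sum_four_pow K h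
    have : 2 ^ d * (2 ^ d - A ψ) ≤ 2 ^ d * 1 := Nat.mul_le_mul_left _ hle1
    omega
  · push Not at hsmall
    have hbig : ∀ ψ ∈ K, h ψ = 0 → 2 ≤ 2 ^ d - A ψ := fun ψ hψ hh => hsmall ψ hψ hh
    exact card_le_of_three_le_compl K A (2 ^ d) l hk hT hU (three_le_compl K h A d hU h0 h1 hbig)

end Cfsg.Agent.Lib.H12.KX
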