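import Cfsg.Agent.Lib.H22.KBFACTS

/-!
# S4575, pieces U and NZ (helper12): the diagonal contributions are in `[0, 1]`, and `< 1` in positive height

For a major subsection `(z, b)` of `B`: `m_{χχ} = ∑_ψ |m_{χψ}|²` (landed `contrib_self_eq_sum`), so `m_{χχ}` is real with
`0 ≤ m_{χχ} ≤ 1`; if `m_{χχ} = 1` then the off-diagonal row vanishes, which contradicts
`contrib_ne_zero_of_height_zero` + `contrib_conj` when `χ ∈ B` has positive height.
In `pcontrib` form (as in `pcontrib_facts`): `0 ≤ re ≤ p^d`, and `∑_k re < φ(m) p^d` in positive height.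
-/

set_option autoImplicit false

namespace Cfsg.Agent.Lib.H12.KX

open Cfsg Cfsg.Agent.Lib.H23 Cfsg.Agent.Lib.H23.Contrib Cfsg.Agent.Lib.H28.KB
open scoped ComplexConjugate

variable {G : Type*} [Group G] [Fintype G] {p : ℕ} [Fact p.Prime] {M : Ideal AlgInt}

omit [Fact p.Prime] in
/-- (U) the diagonal contribution is a real number in `[0, 1]`. -/
theorem contrib_self_mem_unitInterval [Fintype (IrrCharacter G)] (hM : IsPModular p M)
    (H : Subgroup G) [Fintype H] [Fintype (IrrCharacter H)] {z : H}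
    (hzc : z ∈ Subgroup.center H) (hz : ∃ k : ℕ, orderOf z = p ^ k)
    (hC : ∀ g : G, g * (z : G) * g⁻¹ = (z : G) → g ∈ H)
    (ξ₁ : IrrCharacter H) (χ : IrrCharacter G) :
    ∃ r : ℝ, contrib p H (blockOf M (ξ₁ : H → ℂ)) z (χ : G → ℂ) (χ : G → ℂ) = (r : ℂ) ∧ 0 ≤ r ∧ r ≤ 1 ∧
      (r = 1 → ∀ ψ : IrrCharacter G, ψ ≠ χ →
        contrib p H (blockOf M (ξ₁ : H → ℂ)) z (χ : G → ℂ) (ψ : G → ℂ) = 0) := by
  classical
  set c : IrrCharacter G → ℂ := fun ψ =>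
    contrib p H (blockOf M (ξ₁ : H → ℂ)) z (χ : G → ℂ) (ψ : G → ℂ) with hc
  set r : ℝ := ∑ ψ : IrrCharacter G, ‖c ψ‖ ^ 2 with hr
  have hself : c χ = (r : ℂ) := contrib_self_eq_sum H hM hzc hz hC ξ₁ χ
  have hr0 : 0 ≤ r := Finset.sum_nonneg fun ψ _ => by positivity
  have hsplit : r = ‖c χ‖ ^ 2 + ∑ ψ ∈ Finset.univ.erase χ, ‖c ψ‖ ^ 2 := by
    rw [hr, ← Finset.add_sum_erase Finset.univ _ (Finset.mem_univ χ)]
  have hnorm : ‖c χ‖ ^ 2 = r ^ 2 := by
    rw [hself, Complex.norm_real, Real.norm_eq_abs, sq_abs]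
  have hrest0 : 0 ≤ ∑ ψ ∈ Finset.univ.erase χ, ‖c ψ‖ ^ 2 :=
    Finset.sum_nonneg fun ψ _ => by positivity
  have hle : r ≤ 1 := by
    by_contra hgt
    push Not at hgt
    nlinarith
  refine ⟨r, hself, hr0, hle, ?_⟩
  intro h1 ψ hψ
  have hrest : ∑ ψ ∈ Finset.univ.erase χ, ‖c ψ‖ ^ 2 = 0 := by
    rw [hnorm, h1] at hsplit
    linarith
  have hz0 := (Finset.sum_eq_zero_iff_of_nonneg (fun ψ _ => by positivity)).1 hrest ψ
    (Finset.mem_erase.2 ⟨hψ, Finset.mem_univ ψ⟩)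
  have : ‖c ψ‖ = 0 := by
    have h2 : ‖c ψ‖ ^ 2 = 0 := hz0
    exact pow_eq_zero_iff (two_ne_zero) |>.1 h2
  exact norm_eq_zero.1 this

/-- (NZ) in positive height the diagonal contribution is not `1`. -/
theorem contrib_self_ne_one_of_one_le_height [Fintype (IrrCharacter G)] (hM : IsPModular p M)
    (H : Subgroup G) [Fintype H] [Fintype (IrrCharacter H)] (ξ₁ : IrrCharacter H)
    {B : Set (IrrCharacter G)}
    (hind : IsInducedBlock M H (blockOf M (ξ₁ : H → ℂ)) B)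
    (hdef : blockDefect p (blockOf M (ξ₁ : H → ℂ)) = blockDefect p B) {z : H}
    (hzc : z ∈ Subgroup.center H) (hz : ∃ k : ℕ, orderOf z = p ^ k)
    (hC : ∀ g : G, g * (z : G) * g⁻¹ = (z : G) → g ∈ H)
    {χ : IrrCharacter G} (hχ : χ ∈ B) (hh : 1 ≤ blockHeight p B (χ : G → ℂ)) :
    contrib p H (blockOf M (ξ₁ : H → ℂ)) z (χ : G → ℂ) (χ : G → ℂ) ≠ 1 := by
  classical
  have hPr := isPrime_of_isPModular hM
  intro h1
  obtain ⟨r, hr, -, -, hoff⟩ := contrib_self_mem_unitInterval hM H hzc hz hC ξ₁ χ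
  have hr1 : r = 1 := by
    rw [h1] at hr
    exact_mod_cast hr.symm
  -- a character of height zero
  obtain ⟨χ₁, hχ₁⟩ := hind.2.1
  obtain ⟨ψ₀, hψ₀B, hψ₀0⟩ :=
    Cfsg.Agent.Lib.L0.BlockHeight.exists_height_zero (p := p) (M := M) χ₁
  rw [← hχ₁] at hψ₀B hψ₀0
  have hne : ψ₀ ≠ χ := by
    rintro rfl
    omega
  have h0 := hoff hr1 ψ₀ hne
  have hnz := contrib_ne_zero_of_height_zero H ξ₁ hM hind hdef hzc hz hψ₀B hψ₀0 hχ
  have hconj := contrib_conj (p := p) H (blockOf M (ξ₁ : H → ℂ)) z hM hzc ξ₁ rfl χ ψ₀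
  rw [h0, map_zero] at hconj
  exact hnz hconj.symm

/-- (U) in `pcontrib` form: the diagonal entries are real, in `[0, p^d]`. -/
theorem pcontrib_self_bounds [Fintype (IrrCharacter G)] (hM : IsPModular p M)
    (H : Subgroup G) [Fintype H] [Fintype (IrrCharacter H)] (ξ₁ : IrrCharacter H) (y : H)
    (hyc : y ∈ Subgroup.center H) (hy : ∃ k : ℕ, orderOf y = p ^ k)
    (hC : ∀ g : G, g * (y : G) * g⁻¹ = (y : G) → g ∈ H) (m : ℕ) [NeZero m] (hm : m = Nat.card G)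
    (d : ℕ) (χ : IrrCharacter G) (k : (ZMod m)ˣ) :
    pcontrib p H (blockOf M (ξ₁ : H → ℂ)) d y m k (χ : G → ℂ) (χ : G → ℂ) =
        (((pcontrib p H (blockOf M (ξ₁ : H → ℂ)) d y m k (χ : G → ℂ) (χ : G → ℂ)).re : ℝ) : ℂ) ∧
      0 ≤ (pcontrib p H (blockOf M (ξ₁ : H → ℂ)) d y m k (χ : G → ℂ) (χ : G → ℂ)).re ∧
      (pcontrib p H (blockOf M (ξ₁ : H → ℂ)) d y m k (χ : G → ℂ) (χ : G → ℂ)).re ≤ (p : ℝ) ^ d := by
  classical
  have hp : p.Prime := Fact.out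
  have hpR : (0 : ℝ) < p := by exact_mod_cast hp.pos
  have hpd : (0 : ℝ) < (p : ℝ) ^ d := pow_pos hpR d
  have hord_dvd : orderOf y ∣ m := by
    rw [hm]
    exact (orderOf_dvd_natCard y).trans (Subgroup.card_subgroup_dvd_card H)
  have hdata := pow_central_data H hyc hy hp hC
    (Nat.Coprime.coprime_dvd_right hord_dvd (ZMod.val_coe_unit_coprime k))
  obtain ⟨r, hr, hr0, hr1, -⟩ :=
    contrib_self_mem_unitInterval hM H hdata.1 hdata.2.1 hdata.2.2 ξ₁ χ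
  have hval : pcontrib p H (blockOf M (ξ₁ : H → ℂ)) d y m k (χ : G → ℂ) (χ : G → ℂ) =
      (((p : ℝ) ^ d * r : ℝ) : ℂ) := by
    rw [pcontrib, hr]
    push_cast
    rfl
  rw [hval, Complex.ofReal_re]
  refine ⟨rfl, mul_nonneg hpd.le hr0, ?_⟩
  nlinarith

/-- (NZ) in `pcontrib` form: in positive height the sum over the Galois conjugates of the diagonal entries
is strictly smaller than `φ(m) p^d`. -/
theorem sum_pcontrib_self_lt [Fintype (IrrCharacter G)] (hM : IsPModular p M)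
    (H : Subgroup G) [Fintype H] [Fintype (IrrCharacter H)] (ξ₁ : IrrCharacter H)
    {B : Set (IrrCharacter G)}
    (hind : IsInducedBlock M H (blockOf M (ξ₁ : H → ℂ)) B)
    (hdef : blockDefect p (blockOf M (ξ₁ : H → ℂ)) = blockDefect p B) (y : H)
    (hyc : y ∈ Subgroup.center H) (hy : ∃ k : ℕ, orderOf y = p ^ k)
    (hC : ∀ g : G, g * (y : G) * g⁻¹ = (y : G) → g ∈ H)
    {χ : IrrCharacter G} (hχ : χ ∈ B) (hh : 1 ≤ blockHeight p B (χ : G → ℂ))
    (m : ℕ) [NeZero m] (hm : m = Nat.card G) :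
    ∑ k : (ZMod m)ˣ, (pcontrib p H (blockOf M (ξ₁ : H → ℂ)) (blockDefect p B) y m k
        (χ : G → ℂ) (χ : G → ℂ)).re <
      (Fintype.card (ZMod m)ˣ : ℝ) * (p : ℝ) ^ blockDefect p B := by
  classical
  have hp : p.Prime := Fact.out
  have hpR : (0 : ℝ) < p := by exact_mod_cast hp.pos
  set d := blockDefect p B with hd
  have hpd : (0 : ℝ) < (p : ℝ) ^ d := pow_pos hpR d
  have hord_dvd : orderOf y ∣ m := by
    rw [hm]
    exact (orderOf_dvd_natCard y).trans (Subgroup.card_subgroup_dvd_card H)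
  have hym : y ^ m = 1 := by
    obtain ⟨q, hq⟩ := hord_dvd
    rw [hq, pow_mul, pow_orderOf_eq_one, one_pow]
  have hconst : (Fintype.card (ZMod m)ˣ : ℝ) * (p : ℝ) ^ d = ∑ _k : (ZMod m)ˣ, (p : ℝ) ^ d := by
    rw [Finset.sum_const, Finset.card_univ, nsmul_eq_mul]
  rw [hconst]
  refine Finset.sum_lt_sum (fun k _ => (pcontrib_self_bounds hM H ξ₁ y hyc hy hC m hm d χ k).2.2)
    ⟨1, Finset.mem_univ _, ?_⟩
  -- the entry at `k = 1`
  have h1 : y ^ (((1 : (ZMod m)ˣ) : ZMod m)).val = y := by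
    rw [Units.val_one]
    exact pow_val_one_eq m y hym
  obtain ⟨r, hr, hr0, hr1, -⟩ := contrib_self_mem_unitInterval hM H hyc hy hC ξ₁ χ
  have hne := contrib_self_ne_one_of_one_le_height hM H ξ₁ hind hdef hyc hy hC hχ hh
  have hrlt : r < 1 := by
    refine lt_of_le_of_ne hr1 ?_
    rintro rfl
    apply hne
    rw [hr]
    norm_num
  have hval : pcontrib p H (blockOf M (ξ₁ : H → ℂ)) d y m 1 (χ : G → ℂ) (χ : G → ℂ) =
      (((p : ℝ) ^ d * r : ℝ) : ℂ) := by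
    rw [pcontrib, h1, hr]
    push_cast
    rfl
  rw [hval, Complex.ofReal_re]
  nlinarith

end Cfsg.Agent.Lib.H12.KX
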