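/-
S2333: piece KB - the double count.  For a frame `(u0, w0)` (`B u0 w0 = 1`) of a quadratic form `Q` on `F^n`, `|F| = q` even:
`(q^n - 1)(q^n - q) q^(2n-4) ≤ |orb Q| * |frames Q (Q u0) (Q w0)|`.
-/
import Cfsg.Agent.Lib.H12.LS2Defs
import Cfsg.Agent.Lib.H4.ClsProd.Basis

set_option autoImplicit false

namespace Cfsg.Agent.Lib.H12.LS2

open Matrix Cfsg.Agent.Lib.H4.ClsProd

variable {F : Type*} [Field F] {n : ℕ}

/-! ### substitution of a matrix into a quadratic form -/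

/-- `Q ∘ M` -/
def compM (Q : QuadraticForm F (Fin n → F)) (M : Matrix (Fin n) (Fin n) F) :
    QuadraticForm F (Fin n → F) := Q.comp (Matrix.toLin' M)

theorem compM_apply (Q : QuadraticForm F (Fin n → F)) (M : Matrix (Fin n) (Fin n) F) (x : Fin n → F) :
    compM Q M x = Q (M *ᵥ x) := by
  simp [compM]

theorem compM_compM (Q : QuadraticForm F (Fin n → F)) (M N : Matrix (Fin n) (Fin n) F) :
    compM (compM Q M) N = compM Q (M * N) := by
  apply DFunLike.ext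
  intro x
  rw [compM_apply, compM_apply, compM_apply, Matrix.mulVec_mulVec]

theorem compM_one (Q : QuadraticForm F (Fin n → F)) : compM Q 1 = Q := by
  apply DFunLike.ext
  intro x
  rw [compM_apply, Matrix.one_mulVec]

theorem polar_compM (Q : QuadraticForm F (Fin n → F)) (M : Matrix (Fin n) (Fin n) F) (u w : Fin n → F) :
    QuadraticMap.polar (compM Q M) u w = QuadraticMap.polar Q (M *ᵥ u) (M *ᵥ w) := by
  unfold QuadraticMap.polar
  rw [compM_apply, compM_apply, compM_apply, Matrix.mulVec_add]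

theorem compM_mem_orb (Q : QuadraticForm F (Fin n → F)) (M M' : Matrix (Fin n) (Fin n) F)
    (h : M * M' = 1) (h' : M' * M = 1) : compM Q M ∈ orb Q :=
  ⟨⟨M, M', h, h'⟩, fun x => compM_apply Q M x⟩

theorem eq_compM_of_mem_orb {Q Q' : QuadraticForm F (Fin n → F)} (h : Q' ∈ orb Q) :
    ∃ g : GL (Fin n) F, Q' = compM Q g.1 := by
  obtain ⟨g, hg⟩ := h
  refine ⟨g, ?_⟩
  apply DFunLike.ext
  intro x
  rw [hg x, compM_apply]

theorem mem_orb_of_mem_orb_compM (Q : QuadraticForm F (Fin n → F)) (M M' : Matrix (Fin n) (Fin n) F)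
    (h : M * M' = 1) (h' : M' * M = 1) {Q' : QuadraticForm F (Fin n → F)}
    (hQ' : Q' ∈ orb (compM Q M)) : Q' ∈ orb Q := by
  obtain ⟨g, rfl⟩ := eq_compM_of_mem_orb hQ'
  rw [compM_compM]
  refine compM_mem_orb Q (M * g.1) (g⁻¹.1 * M') ?_ ?_
  · rw [Matrix.mul_assoc, ← Matrix.mul_assoc g.1, Units.mul_inv, Matrix.one_mul, h]
  · rw [Matrix.mul_assoc, ← Matrix.mul_assoc M', h', Matrix.one_mul, Units.inv_mul]

theorem polar_self_eq_zero (h2 : (2 : F) = 0) (Q : QuadraticForm F (Fin n → F)) (u : Fin n → F) :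
    QuadraticMap.polar Q u u = 0 := by
  rw [QuadraticMap.polar_self, two_smul, ← two_mul, h2, zero_mul]

/-! ### (A) the number of frames is constant on the orbit -/

theorem card_frames_le_of_mem_orb [Finite F] {Q Q' : QuadraticForm F (Fin n → F)}
    (hQ' : Q' ∈ orb Q) (α β : F) : Nat.card (frames Q' α β) ≤ Nat.card (frames Q α β) := by
  obtain ⟨g, rfl⟩ := eq_compM_of_mem_orb hQ'
  have hmem : ∀ p : frames (compM Q g.1) α β,
      ((g.1 *ᵥ p.1.1, g.1 *ᵥ p.1.2) : (Fin n → F) × (Fin n → F)) ∈ frames Q α β := by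
    rintro ⟨p, h1, h2, h3⟩
    refine ⟨?_, ?_, ?_⟩
    · rw [← compM_apply]; exact h1
    · rw [← compM_apply]; exact h2
    · rw [← polar_compM]; exact h3
  refine Nat.card_le_card_of_injective
    (fun p => (⟨(g.1 *ᵥ p.1.1, g.1 *ᵥ p.1.2), hmem p⟩ : frames Q α β)) ?_
  intro p p' h
  have h1 := congrArg (fun x : frames Q α β => x.1) h
  simp only [Prod.mk.injEq] at h1
  have hinj : ∀ x y : Fin n → F, g.1 *ᵥ x = g.1 *ᵥ y → x = y := by
    intro x y hxy
    have := congrArg (fun z => g⁻¹.1 *ᵥ z) hxy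
    simp only [Matrix.mulVec_mulVec, Units.inv_mul, Matrix.one_mulVec] at this
    exact this
  apply Subtype.ext
  exact Prod.ext (hinj _ _ h1.1) (hinj _ _ h1.2)

/-! ### (C) the number of independent pairs -/

theorem card_pairIndep [Fintype F] (hn : 2 ≤ n) :
    Nat.card {p : (Fin n → F) × (Fin n → F) // PairIndep p.1 p.2} =
      (Fintype.card F ^ n - 1) * (Fintype.card F ^ n - Fintype.card F) := by
  have h := card_linearIndependent (K := F) (V := Fin n → F) (k := 2)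
    (by rw [Module.finrank_fin_fun]; exact hn)
  rw [Fin.prod_univ_two, Module.finrank_fin_fun] at h
  simp only [Fin.val_zero, pow_zero, Fin.val_one, pow_one] at h
  rw [← h]
  refine Nat.card_congr (Equiv.subtypeEquiv (piFinTwoEquiv fun _ => (Fin n → F)).symm ?_)
  intro p
  have h1 : ((piFinTwoEquiv fun _ => (Fin n → F)).symm p) = ![p.1, p.2] := by
    funext i
    fin_cases i <;> rfl
  rw [h1, LinearIndependent.pair_iff]
  rfl

/-! ### (B) every independent pair is a frame of at least `q^(2n-4)` forms of the orbit -/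

/-- the index `0` -/
def k0 (n : ℕ) (hn : 2 ≤ n) : Fin n := ⟨0, by omega⟩

/-- the index `1` -/
def k1 (n : ℕ) (hn : 2 ≤ n) : Fin n := ⟨1, by omega⟩

theorem k0_ne_k1 (n : ℕ) (hn : 2 ≤ n) : k0 n hn ≠ k1 n hn := by
  intro h
  have := congrArg Fin.val h
  simp [k0, k1] at this

/-- standard basis vector -/
def eb (i : Fin n) : Fin n → F := Pi.single i 1

/-- extension by zero to the first two coordinates -/
def ext0 (f : Fin (n - 2) → F) : Fin n → F :=
  fun i => if h : 2 ≤ i.val then f ⟨i.val - 2, by omega⟩ else 0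

theorem ext0_injective : Function.Injective (ext0 (F := F) (n := n)) := by
  intro f f' h
  funext j
  have h1 := congrFun h ⟨j.val + 2, by omega⟩
  simp only [ext0] at h1
  rw [dif_pos (by simp), dif_pos (by simp)] at h1
  simpa using h1

theorem ext0_k0 (hn : 2 ≤ n) (f : Fin (n - 2) → F) : ext0 f (k0 n hn) = 0 := by
  simp [ext0, k0]

theorem ext0_k1 (hn : 2 ≤ n) (f : Fin (n - 2) → F) : ext0 f (k1 n hn) = 0 := by
  simp [ext0, k1]

theorem vecMulVec_mulVec' (a φ y : Fin n → F) : vecMulVec a φ *ᵥ y = (φ ⬝ᵥ y) • a := by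
  funext i
  simp only [Matrix.mulVec, dotProduct, Matrix.vecMulVec_apply, Pi.smul_apply, smul_eq_mul,
    Finset.sum_mul]
  refine Finset.sum_congr rfl fun j _ => ?_
  ring

/-- `1 + e_0 φᵀ + e_1 ψᵀ` -/
def gC (hn : 2 ≤ n) (φ ψ : Fin n → F) : Matrix (Fin n) (Fin n) F :=
  1 + vecMulVec (eb (k0 n hn)) φ + vecMulVec (eb (k1 n hn)) ψ

theorem gC_mulVec (hn : 2 ≤ n) (φ ψ y : Fin n → F) :
    gC hn φ ψ *ᵥ y = y + (φ ⬝ᵥ y) • eb (k0 n hn) + (ψ ⬝ᵥ y) • eb (k1 n hn) := by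
  rw [gC, Matrix.add_mulVec, Matrix.add_mulVec, Matrix.one_mulVec, vecMulVec_mulVec',
    vecMulVec_mulVec']

theorem dot_eb (φ : Fin n → F) (i : Fin n) : φ ⬝ᵥ eb i = φ i := by
  rw [eb, dotProduct_single, mul_one]

theorem gC_mulVec_eb (hn : 2 ≤ n) (φ ψ : Fin n → F) (i : Fin n) (hφ : φ i = 0) (hψ : ψ i = 0) :
    gC hn φ ψ *ᵥ eb i = eb i := by
  rw [gC_mulVec, dot_eb, dot_eb, hφ, hψ, zero_smul, zero_smul, add_zero, add_zero]

theorem add_self_vec (h2 : (2 : F) = 0) (v : Fin n → F) : v + v = 0 := by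
  rw [← two_smul F v, h2, zero_smul]

theorem gC_mul_gC (h2 : (2 : F) = 0) (hn : 2 ≤ n) (φ ψ : Fin n → F)
    (hφ0 : φ (k0 n hn) = 0) (hφ1 : φ (k1 n hn) = 0) (hψ0 : ψ (k0 n hn) = 0) (hψ1 : ψ (k1 n hn) = 0) :
    gC hn φ ψ * gC hn φ ψ = 1 := by
  apply Matrix.mulVec_injective
  funext y
  rw [← Matrix.mulVec_mulVec, gC_mulVec hn φ ψ y, Matrix.mulVec_add, Matrix.mulVec_add,
    Matrix.mulVec_smul, Matrix.mulVec_smul, gC_mulVec_eb hn φ ψ _ hφ0 hψ0,
    gC_mulVec_eb hn φ ψ _ hφ1 hψ1, gC_mulVec, Matrix.one_mulVec]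
  have e1 := add_self_vec h2 ((φ ⬝ᵥ y) • eb (k0 n hn))
  have e2 := add_self_vec h2 ((ψ ⬝ᵥ y) • eb (k1 n hn))
  calc y + (φ ⬝ᵥ y) • eb (k0 n hn) + (ψ ⬝ᵥ y) • eb (k1 n hn) + (φ ⬝ᵥ y) • eb (k0 n hn) +
        (ψ ⬝ᵥ y) • eb (k1 n hn)
      = y + ((φ ⬝ᵥ y) • eb (k0 n hn) + (φ ⬝ᵥ y) • eb (k0 n hn)) +
        ((ψ ⬝ᵥ y) • eb (k1 n hn) + (ψ ⬝ᵥ y) • eb (k1 n hn)) := by abel
    _ = y := by rw [e1, e2, add_zero, add_zero]

theorem polar_gC_k0 (h2 : (2 : F) = 0) (hn : 2 ≤ n) (Q0 : QuadraticForm F (Fin n → F))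
    (h1 : QuadraticMap.polar Q0 (eb (k0 n hn)) (eb (k1 n hn)) = 1) (φ ψ : Fin n → F)
    (hφ0 : φ (k0 n hn) = 0) (hψ0 : ψ (k0 n hn) = 0) (y : Fin n → F) :
    QuadraticMap.polar (compM Q0 (gC hn φ ψ)) (eb (k0 n hn)) y =
      QuadraticMap.polar Q0 (eb (k0 n hn)) y + ψ ⬝ᵥ y := by
  rw [polar_compM, gC_mulVec_eb hn φ ψ _ hφ0 hψ0, gC_mulVec, QuadraticMap.polar_add_right,
    QuadraticMap.polar_add_right, QuadraticMap.polar_smul_right, QuadraticMap.polar_smul_right,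
    polar_self_eq_zero h2, h1, smul_zero, add_zero, smul_eq_mul, mul_one]

theorem polar_gC_k1 (h2 : (2 : F) = 0) (hn : 2 ≤ n) (Q0 : QuadraticForm F (Fin n → F))
    (h1 : QuadraticMap.polar Q0 (eb (k0 n hn)) (eb (k1 n hn)) = 1) (φ ψ : Fin n → F)
    (hφ1 : φ (k1 n hn) = 0) (hψ1 : ψ (k1 n hn) = 0) (y : Fin n → F) :
    QuadraticMap.polar (compM Q0 (gC hn φ ψ)) (eb (k1 n hn)) y =
      QuadraticMap.polar Q0 (eb (k1 n hn)) y + φ ⬝ᵥ y := by
  have h1' : QuadraticMap.polar Q0 (eb (k1 n hn)) (eb (k0 n hn)) = 1 := by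
    rw [QuadraticMap.polar_comm]; exact h1
  rw [polar_compM, gC_mulVec_eb hn φ ψ _ hφ1 hψ1, gC_mulVec, QuadraticMap.polar_add_right,
    QuadraticMap.polar_add_right, QuadraticMap.polar_smul_right, QuadraticMap.polar_smul_right,
    polar_self_eq_zero h2, h1', smul_zero, add_zero, smul_eq_mul, mul_one]

theorem eq_of_dot_eq (φ φ' : Fin n → F) (h : ∀ y, φ ⬝ᵥ y = φ' ⬝ᵥ y) : φ = φ' := by
  funext i
  have := h (eb i)
  rwa [dot_eb, dot_eb] at this

/-- the standard frame: at least `q^(2n-4)` forms of the orbit have `(u, w)` as a frame -/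
theorem card_ge_std [Fintype F] (h2 : (2 : F) = 0) (hn : 2 ≤ n) (Q0 : QuadraticForm F (Fin n → F))
    (h1 : QuadraticMap.polar Q0 (eb (k0 n hn)) (eb (k1 n hn)) = 1)
    (P1 P1' : Matrix (Fin n) (Fin n) F) (hP : P1 * P1' = 1) (hP' : P1' * P1 = 1)
    (u w : Fin n → F) (hu : P1 *ᵥ u = eb (k0 n hn)) (hw : P1 *ᵥ w = eb (k1 n hn)) :
    Fintype.card F ^ (2 * n - 4) ≤
      Nat.card {Q' : QuadraticForm F (Fin n → F) // Q' ∈ orb Q0 ∧
        ((u, w) : (Fin n → F) × (Fin n → F)) ∈ frames Q' (Q0 (eb (k0 n hn))) (Q0 (eb (k1 n hn)))} := by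
  classical
  have hT : Nat.card ((Fin (n - 2) → F) × (Fin (n - 2) → F)) = Fintype.card F ^ (2 * n - 4) := by
    rw [Nat.card_eq_fintype_card, Fintype.card_prod, Fintype.card_fun, Fintype.card_fin, ← pow_add]
    congr 1
    omega
  rw [← hT]
  have hgg : ∀ f : (Fin (n - 2) → F) × (Fin (n - 2) → F),
      gC hn (ext0 f.1) (ext0 f.2) * gC hn (ext0 f.1) (ext0 f.2) = 1 := fun f =>
    gC_mul_gC h2 hn _ _ (ext0_k0 hn _) (ext0_k1 hn _) (ext0_k0 hn _) (ext0_k1 hn _)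
  have hmem : ∀ f : (Fin (n - 2) → F) × (Fin (n - 2) → F),
      compM Q0 (gC hn (ext0 f.1) (ext0 f.2) * P1) ∈ orb Q0 ∧
      ((u, w) : (Fin n → F) × (Fin n → F)) ∈
        frames (compM Q0 (gC hn (ext0 f.1) (ext0 f.2) * P1)) (Q0 (eb (k0 n hn))) (Q0 (eb (k1 n hn))) := by
    intro f
    have e0 : (gC hn (ext0 f.1) (ext0 f.2) * P1) *ᵥ u = eb (k0 n hn) := by
      rw [← Matrix.mulVec_mulVec, hu, gC_mulVec_eb hn _ _ _ (ext0_k0 hn _) (ext0_k0 hn _)]
    have e1 : (gC hn (ext0 f.1) (ext0 f.2) * P1) *ᵥ w = eb (k1 n hn) := by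
      rw [← Matrix.mulVec_mulVec, hw, gC_mulVec_eb hn _ _ _ (ext0_k1 hn _) (ext0_k1 hn _)]
    refine ⟨compM_mem_orb Q0 _ (P1' * gC hn (ext0 f.1) (ext0 f.2)) ?_ ?_, ?_, ?_, ?_⟩
    · rw [Matrix.mul_assoc, ← Matrix.mul_assoc P1, hP, Matrix.one_mul, hgg]
    · rw [Matrix.mul_assoc, ← Matrix.mul_assoc (gC hn (ext0 f.1) (ext0 f.2)), hgg, Matrix.one_mul, hP']
    · show compM Q0 _ u = _
      rw [compM_apply, e0]
    · show compM Q0 _ w = _
      rw [compM_apply, e1]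
    · show QuadraticMap.polar (compM Q0 _) u w = 1
      rw [polar_compM, e0, e1, h1]
  refine Nat.card_le_card_of_injective (fun f => ⟨_, hmem f⟩) ?_
  intro f f' hff
  have h3 : compM Q0 (gC hn (ext0 f.1) (ext0 f.2) * P1) =
      compM Q0 (gC hn (ext0 f'.1) (ext0 f'.2) * P1) := congrArg Subtype.val hff
  have h4 : compM Q0 (gC hn (ext0 f.1) (ext0 f.2)) = compM Q0 (gC hn (ext0 f'.1) (ext0 f'.2)) := by
    have := congrArg (fun Q' => compM Q' P1') h3
    simp only [compM_compM, Matrix.mul_assoc, hP, Matrix.mul_one] at this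
    exact this
  have h5 : ext0 f.2 = ext0 f'.2 := by
    apply eq_of_dot_eq
    intro y
    have e := polar_gC_k0 h2 hn Q0 h1 (ext0 f.1) (ext0 f.2) (ext0_k0 hn _) (ext0_k0 hn _) y
    have e' := polar_gC_k0 h2 hn Q0 h1 (ext0 f'.1) (ext0 f'.2) (ext0_k0 hn _) (ext0_k0 hn _) y
    rw [h4, e'] at e
    exact (add_left_cancel e).symm
  have h6 : ext0 f.1 = ext0 f'.1 := by
    apply eq_of_dot_eq
    intro y
    have e := polar_gC_k1 h2 hn Q0 h1 (ext0 f.1) (ext0 f.2) (ext0_k1 hn _) (ext0_k1 hn _) y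
    have e' := polar_gC_k1 h2 hn Q0 h1 (ext0 f'.1) (ext0 f'.2) (ext0_k1 hn _) (ext0_k1 hn _) y
    rw [h4, e'] at e
    exact (add_left_cancel e).symm
  exact Prod.ext (ext0_injective h6) (ext0_injective h5)

theorem pairIndep_of_polar (h2 : (2 : F) = 0) (Q : QuadraticForm F (Fin n → F)) (u0 w0 : Fin n → F)
    (h1 : QuadraticMap.polar Q u0 w0 = 1) : PairIndep u0 w0 := by
  intro s t hst
  have e1 : QuadraticMap.polar Q (s • u0 + t • w0) w0 = s := by
    rw [QuadraticMap.polar_add_left, QuadraticMap.polar_smul_left, QuadraticMap.polar_smul_left,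
      polar_self_eq_zero h2, h1, smul_zero, add_zero, smul_eq_mul, mul_one]
  have e2 : QuadraticMap.polar Q u0 (s • u0 + t • w0) = t := by
    rw [QuadraticMap.polar_add_right, QuadraticMap.polar_smul_right, QuadraticMap.polar_smul_right,
      polar_self_eq_zero h2, h1, smul_zero, zero_add, smul_eq_mul, mul_one]
  rw [hst] at e1 e2
  constructor
  · rw [← e1]; simp [QuadraticMap.polar]
  · rw [← e2]; simp [QuadraticMap.polar]

/-- every independent pair `(u, w)` is a frame (with the values `Q u0`, `Q w0`) of at least `q^(2n-4)` forms of the orbit -/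
theorem card_ge_of_pairIndep [Fintype F] (h2 : (2 : F) = 0) (hn : 2 ≤ n)
    (Q : QuadraticForm F (Fin n → F)) (u0 w0 : Fin n → F) (h1 : QuadraticMap.polar Q u0 w0 = 1)
    (u w : Fin n → F) (huw : PairIndep u w) :
    Fintype.card F ^ (2 * n - 4) ≤
      Nat.card {Q' : QuadraticForm F (Fin n → F) // Q' ∈ orb Q ∧
        ((u, w) : (Fin n → F) × (Fin n → F)) ∈ frames Q' (Q u0) (Q w0)} := by
  obtain ⟨P0, P0', hP0, hP0', hu0, hw0⟩ :=
    exists_basis_matrix u0 w0 (pairIndep_of_polar h2 Q u0 w0 h1) (k0_ne_k1 n hn)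
  obtain ⟨P1, P1', hP1, hP1', hu, hw⟩ := exists_basis_matrix u w huw (k0_ne_k1 n hn)
  have e0 : P0' *ᵥ eb (k0 n hn) = u0 := by
    rw [eb, ← hu0, Matrix.mulVec_mulVec, hP0', Matrix.one_mulVec]
  have e1 : P0' *ᵥ eb (k1 n hn) = w0 := by
    rw [eb, ← hw0, Matrix.mulVec_mulVec, hP0', Matrix.one_mulVec]
  have hQ0 : compM Q P0' (eb (k0 n hn)) = Q u0 := by rw [compM_apply, e0]
  have hQ1 : compM Q P0' (eb (k1 n hn)) = Q w0 := by rw [compM_apply, e1]
  have hpol : QuadraticMap.polar (compM Q P0') (eb (k0 n hn)) (eb (k1 n hn)) = 1 := by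
    rw [polar_compM, e0, e1, h1]
  have hstd := card_ge_std h2 hn (compM Q P0') hpol P1 P1' hP1 hP1' u w hu hw
  rw [hQ0, hQ1] at hstd
  refine le_trans hstd ?_
  refine Nat.card_le_card_of_injective
    (fun Q' => (⟨Q'.1, mem_orb_of_mem_orb_compM Q P0' P0 hP0' hP0 Q'.2.1, Q'.2.2⟩ :
      {Q' : QuadraticForm F (Fin n → F) // Q' ∈ orb Q ∧
        ((u, w) : (Fin n → F) × (Fin n → F)) ∈ frames Q' (Q u0) (Q w0)})) ?_
  intro a b hab
  apply Subtype.ext
  exact congrArg (fun x : {Q' : QuadraticForm F (Fin n → F) // Q' ∈ orb Q ∧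
        ((u, w) : (Fin n → F) × (Fin n → F)) ∈ frames Q' (Q u0) (Q w0)} => x.1) hab

/-! ### the double count -/

/-- **LS2-KB** -/
theorem card_pairs_mul_le [Fintype F] (h2 : (2 : F) = 0) (n : ℕ) (hn : 2 ≤ n)
    (Q : QuadraticForm F (Fin n → F)) (u0 w0 : Fin n → F) (h1 : QuadraticMap.polar Q u0 w0 = 1) :
    (Fintype.card F ^ n - 1) * (Fintype.card F ^ n - Fintype.card F) * Fintype.card F ^ (2 * n - 4) ≤
      Nat.card (orb Q) * Nat.card (frames Q (Q u0) (Q w0)) := by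
  classical
  letI : Fintype (QuadraticForm F (Fin n → F)) := Fintype.ofFinite _
  set s : Finset (QuadraticForm F (Fin n → F)) := Finset.univ.filter (fun Q' => Q' ∈ orb Q) with hs
  set t : Finset ((Fin n → F) × (Fin n → F)) := Finset.univ.filter (fun p => PairIndep p.1 p.2) with ht
  have hscard : s.card = Nat.card (orb Q) := by
    rw [hs, Nat.card_eq_fintype_card, ← Fintype.card_subtype]
  have htcard : t.card = (Fintype.card F ^ n - 1) * (Fintype.card F ^ n - Fintype.card F) := by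
    rw [← card_pairIndep hn, ht, Nat.card_eq_fintype_card, ← Fintype.card_subtype]
  have hdc := Finset.sum_card_bipartiteAbove_eq_sum_card_bipartiteBelow (s := s) (t := t)
    (fun (Q' : QuadraticForm F (Fin n → F)) (p : (Fin n → F) × (Fin n → F)) =>
      p ∈ frames Q' (Q u0) (Q w0))
  have hL : ∑ a ∈ s, (Finset.bipartiteAbove (fun (Q' : QuadraticForm F (Fin n → F))
      (p : (Fin n → F) × (Fin n → F)) => p ∈ frames Q' (Q u0) (Q w0)) t a).card ≤
      s.card * Nat.card (frames Q (Q u0) (Q w0)) := by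
    rw [← smul_eq_mul, ← Finset.sum_const]
    refine Finset.sum_le_sum fun a ha => ?_
    have ha' : a ∈ orb Q := (Finset.mem_filter.1 ha).2
    refine le_trans ?_ (card_frames_le_of_mem_orb ha' (Q u0) (Q w0))
    rw [Nat.card_eq_fintype_card, Fintype.card_subtype]
    refine Finset.card_le_card ?_
    intro p hp
    rw [Finset.bipartiteAbove, Finset.mem_filter] at hp
    exact Finset.mem_filter.2 ⟨Finset.mem_univ _, hp.2⟩
  have hR : t.card * Fintype.card F ^ (2 * n - 4) ≤ ∑ b ∈ t, (Finset.bipartiteBelow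
      (fun (Q' : QuadraticForm F (Fin n → F)) (p : (Fin n → F) × (Fin n → F)) =>
        p ∈ frames Q' (Q u0) (Q w0)) s b).card := by
    rw [← smul_eq_mul, ← Finset.sum_const]
    refine Finset.sum_le_sum fun b hb => ?_
    have hb' : PairIndep b.1 b.2 := (Finset.mem_filter.1 hb).2
    refine le_trans (card_ge_of_pairIndep h2 hn Q u0 w0 h1 b.1 b.2 hb') ?_
    rw [Nat.card_eq_fintype_card, Fintype.card_subtype]
    refine Finset.card_le_card ?_
    intro Q' hQ'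
    rw [Finset.mem_filter] at hQ'
    rw [Finset.bipartiteBelow, Finset.mem_filter]
    exact ⟨Finset.mem_filter.2 ⟨Finset.mem_univ _, hQ'.2.1⟩, hQ'.2.2⟩
  rw [← htcard, ← hscard]
  calc t.card * Fintype.card F ^ (2 * n - 4) ≤ _ := hR
    _ = _ := hdc.symm
    _ ≤ _ := hL

end Cfsg.Agent.Lib.H12.LS2
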