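/-
S2333: the counting lemma (K) assembled from KA1, KA2, KA3, KB.
-/
import Cfsg.Agent.Lib.H12.LS2KB
import Cfsg.Agent.Lib.H26.LS2KA1
import Cfsg.Agent.Lib.H26.LS2KA2
import Cfsg.Agent.Lib.H23.LS2KA3

set_option autoImplicit false

namespace Cfsg.Agent.Lib.H12.LS2

open Matrix

variable {F : Type*} [Field F]

/-- **(K)** `(q^n - 1)(q^n - q) ≤ 2 (q + 1) |GL_n . Q|` for a quadratic form with non-zero polar form, `q` even -/
theorem orbit_card_ge' [Fintype F] (h2 : (2 : F) = 0) (n : ℕ) (hn : 2 ≤ n)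
    (Q : QuadraticForm F (Fin n → F)) (hQ : ∃ u w, QuadraticMap.polar Q u w ≠ 0) :
    (Fintype.card F ^ n - 1) * (Fintype.card F ^ n - Fintype.card F) ≤
      2 * (Fintype.card F + 1) * Nat.card (orb Q) := by
  obtain ⟨u0, w0, h1, hgood⟩ := Cfsg.Agent.Lib.H26.LS2.exists_good_frame h2 n Q hQ
  have hA := Cfsg.Agent.Lib.H23.LS2.card_frames_le h2 n hn Q u0 w0 h1 hgood (2 * (Fintype.card F + 1))
    (fun a b c h => Cfsg.Agent.Lib.H26.LS2.card_quad_le h2 (Q u0) (Q w0) a b c h)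
  have hB := card_pairs_mul_le h2 n hn Q u0 w0 h1
  have hq : 0 < Fintype.card F ^ (2 * n - 4) := pow_pos Fintype.card_pos _
  have h3 : (Fintype.card F ^ n - 1) * (Fintype.card F ^ n - Fintype.card F) *
      Fintype.card F ^ (2 * n - 4) ≤
      2 * (Fintype.card F + 1) * Nat.card (orb Q) * Fintype.card F ^ (2 * n - 4) :=
    calc (Fintype.card F ^ n - 1) * (Fintype.card F ^ n - Fintype.card F) *
          Fintype.card F ^ (2 * n - 4)
        ≤ Nat.card (orb Q) * Nat.card (frames Q (Q u0) (Q w0)) := hB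
      _ ≤ Nat.card (orb Q) * (2 * (Fintype.card F + 1) * Fintype.card F ^ (2 * n - 4)) :=
          Nat.mul_le_mul_left _ hA
      _ = 2 * (Fintype.card F + 1) * Nat.card (orb Q) * Fintype.card F ^ (2 * n - 4) := by ring
  exact Nat.le_of_mul_le_mul_right h3 hq

end Cfsg.Agent.Lib.H12.LS2
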