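/-
S2333: piece N2 - a non-trivial complex representation of `Sp_2n(q)`, `q` even, `(n, q) ≠ (2, 2)`, is faithful
(helper2's `normal_dichotomy`, `perfect`, `center_eq`).
-/
import Cfsg.Agent.Lib.H2.SpSimple

set_option autoImplicit false

namespace Cfsg.Agent.Lib.H12.LS2

open Matrix

variable {F : Type*} [Field F]

theorem eq_one_of_map_eq_one [Fintype F] (h2 : (2 : F) = 0) (n : ℕ) (hn : 2 ≤ n)
    (hex : n = 2 → 3 ≤ Fintype.card F)
    {M : Type*} [Monoid M] (ρ : Matrix.symplecticGroup (Fin n) F →* M) (hρ : ∃ g, ρ g ≠ 1)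
    (g : Matrix.symplecticGroup (Fin n) F) (hg : ρ g = 1) : g = 1 := by
  have hperf : commutator (Matrix.symplecticGroup (Fin n) F) = ⊤ := by
    apply Cfsg.Agent.Lib.H2.Sp.perfect
    by_cases h3 : 3 ≤ n
    · exact Or.inl h3
    · have h4 : n = 2 := by omega
      exact Or.inr (Or.inl ⟨h4, hex h4⟩)
  rcases Cfsg.Agent.Lib.H2.Sp.normal_dichotomy hn hperf ρ.ker with h | h
  · have h3 : g ∈ ρ.ker := hg
    have h4 := h h3
    have hcen := Cfsg.Agent.Lib.H2.Sp.center_eq (F := F) n (by omega)
    rw [← SetLike.mem_coe, hcen] at h4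
    rcases h4 with h4 | h4
    · exact h4
    · rw [Set.mem_singleton_iff] at h4
      rw [h4]
      apply Subtype.ext
      show (-1 : Matrix _ _ F) = 1
      have : CharP F 2 := by
        have h5 : ringChar F = 2 := by
          apply CharP.ringChar_of_prime_eq_zero Nat.prime_two
          exact_mod_cast h2
        rw [← h5]; exact ringChar.charP F
      ext i j
      rw [Matrix.neg_apply, CharTwo.neg_eq]
  · exfalso
    obtain ⟨g0, hg0⟩ := hρ
    apply hg0
    have : g0 ∈ ρ.ker := by rw [h]; trivial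
    exact this

end Cfsg.Agent.Lib.H12.LS2
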