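/-
S2333: piece R' = helper4's LS-R (`exists_char_orbit_le`) with the sharper conclusion `ψ X0 ≠ 1`.
-/
import Cfsg.Agent.Lib.H4.LSR

set_option autoImplicit false
set_option linter.unusedSectionVars false

namespace Cfsg.Agent.Lib.H12.LS2

open Cfsg.Agent.Lib.H15.LS Cfsg.Agent.Lib.H4

variable {G : Type*} [Group G] {S : Type*} [AddCommGroup S] [Fintype S]
  {V : Type*} [AddCommGroup V] [Module ℂ V] [FiniteDimensional ℂ V]

/-- some character `ψ` with `ψ X0 ≠ 1` occurs in `ρ ∘ t` as soon as `ρ (t X0) ≠ 1` -/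
theorem exists_apply_ne_one (ρ : G →* Module.End ℂ V) (t : S → G)
    (ht : ∀ X X', t (X + X') = t X * t X') (X0 : S) (hX0 : ρ (t X0) ≠ 1) :
    ∃ ψ : AddChar S ℂ, ψ X0 ≠ 1 ∧ RepChar.proj ρ t ψ ≠ 0 := by
  classical
  by_contra hcon0
  have hcon : ∀ ψ : AddChar S ℂ, ψ X0 ≠ 1 → RepChar.proj ρ t ψ = 0 := fun ψ hψ =>
    by_contra fun h' => hcon0 ⟨ψ, hψ, h'⟩
  apply hX0
  have hs := RepChar.sum_proj ρ t ht
  calc ρ (t X0) = ρ (t X0) * ∑ ψ : AddChar S ℂ, RepChar.proj ρ t ψ := by rw [hs, mul_one]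
    _ = ∑ ψ : AddChar S ℂ, ρ (t X0) * RepChar.proj ρ t ψ := Finset.mul_sum _ _ _
    _ = ∑ ψ : AddChar S ℂ, RepChar.proj ρ t ψ := by
        refine Finset.sum_congr rfl fun ψ _ => ?_
        rw [RepChar.map_mul_proj ρ t ht]
        by_cases h1 : ψ X0 = 1
        · rw [h1, one_smul]
        · rw [hcon ψ h1, smul_zero]
    _ = 1 := hs

/-- **R'** : LS-R with `ψ X0 ≠ 1` -/
theorem exists_char_orbit_le' {L : Type*} [Group L]
    (ρ : G →* Module.End ℂ V) (t : S → G) (ht : ∀ X X', t (X + X') = t X * t X')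
    (l : L →* G) (act : L → S → S)
    (hact1 : ∀ X, act 1 X = X) (hactmul : ∀ g h X, act (g * h) X = act g (act h X))
    (hactadd : ∀ g X X', act g (X + X') = act g X + act g X')
    (hconj : ∀ g X, l g * t X * (l g)⁻¹ = t (act g X))
    (X0 : S) (hX0 : ρ (t X0) ≠ 1) :
    ∃ ψ : AddChar S ℂ, ψ X0 ≠ 1 ∧ Module.finrank ℂ (LinearMap.range (projC ρ t ψ)) ≠ 0 ∧
      Nat.card {ψ' : AddChar S ℂ // ∃ g : L, ∀ X, ψ' X = ψ (act g X)} *
        Module.finrank ℂ (LinearMap.range (projC ρ t ψ)) ≤ Module.finrank ℂ V := by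
  classical
  obtain ⟨ψ, hψ1, hψ0⟩ := exists_apply_ne_one ρ t ht X0 hX0
  refine ⟨ψ, hψ1, RepChar.finrank_range_ne_zero ρ t hψ0, ?_⟩
  rw [Nat.card_eq_fintype_card, Fintype.card_subtype]
  refine RepChar.orbit_card_mul_le_finrank ρ t ht ψ _ fun ψ' hψ' => ?_
  obtain ⟨g, hg⟩ := (Finset.mem_filter.1 hψ').2
  refine ⟨l g⁻¹, LS.actEquiv act hact1 hactmul hactadd g⁻¹, ?_, ?_⟩
  · intro X
    exact hconj g⁻¹ X
  · apply DFunLike.ext
    intro X
    rw [hg X]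
    show ψ (act g X) = ψ (act g⁻¹⁻¹ X)
    rw [inv_inv]

end Cfsg.Agent.Lib.H12.LS2
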