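/-
S2333: assembly.  A non-trivial complex representation of `Sp_2n(q)`, `q` even, `n ≥ 2`, `(n, q) ≠ (2, 2)`, has degree `d` with
`2 (q + 1) d ≥ (q^n - 1)(q^n - q)`.
-/
import Cfsg.Agent.Lib.H12.LS2K
import Cfsg.Agent.Lib.H5.LS2S2
import Cfsg.Agent.Lib.H24.LS2D2
import Cfsg.Agent.Lib.H12.LS2R
import Cfsg.Agent.Lib.H12.LS2N

set_option autoImplicit false

namespace Cfsg.Agent.Lib.H12.LS2

open Matrix Cfsg.Agent.Lib.H15.LS

variable {F : Type*} [Field F]

/-- the action `X ↦ g X gᵀ` of `GL_n` on symmetric matrices -/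
def act {n : ℕ} (g : GL (Fin n) F) (X : Symm n F) : Symm n F :=
  ⟨g.1 * (X : Matrix (Fin n) (Fin n) F) * g.1ᵀ, mul_mul_transpose_mem g.1 X.2⟩

theorem act_val {n : ℕ} (g : GL (Fin n) F) (X : Symm n F) :
    ((act g X : Symm n F) : Matrix (Fin n) (Fin n) F) = g.1 * (X : Matrix (Fin n) (Fin n) F) * g.1ᵀ := rfl

theorem act_one {n : ℕ} (X : Symm n F) : act (1 : GL (Fin n) F) X = X := by
  apply Subtype.ext
  rw [act_val]
  simp

theorem act_mul {n : ℕ} (g h : GL (Fin n) F) (X : Symm n F) : act (g * h) X = act g (act h X) := by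
  apply Subtype.ext
  rw [act_val, act_val, act_val, Units.val_mul, Matrix.transpose_mul]
  simp only [Matrix.mul_assoc]

theorem act_add {n : ℕ} (g : GL (Fin n) F) (X X' : Symm n F) :
    act g (X + X') = act g X + act g X' := by
  apply Subtype.ext
  rw [AddSubgroup.coe_add, act_val, act_val, act_val, AddSubgroup.coe_add, Matrix.mul_add,
    Matrix.add_mul]

/-- `act g` as an additive hom -/
def actHom {n : ℕ} (g : GL (Fin n) F) : Symm n F →+ Symm n F where
  toFun := act g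
  map_zero' := by
    apply Subtype.ext
    rw [act_val]
    simp
  map_add' := act_add g

/-- the index `0` -/
def i0 (n : ℕ) (hn : 2 ≤ n) : Fin n := ⟨0, by omega⟩

/-- the index `1` -/
def i1 (n : ℕ) (hn : 2 ≤ n) : Fin n := ⟨1, by omega⟩

theorem i0_ne_i1 (n : ℕ) (hn : 2 ≤ n) : i0 n hn ≠ i1 n hn := by
  intro h
  have := congrArg Fin.val h
  simp [i0, i1] at this

/-- `E_01 + E_10` -/
def X01 (n : ℕ) (hn : 2 ≤ n) : Symm n F :=
  ⟨Matrix.single (i0 n hn) (i1 n hn) 1 + Matrix.single (i1 n hn) (i0 n hn) 1, by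
    show (Matrix.single (i0 n hn) (i1 n hn) (1 : F) + Matrix.single (i1 n hn) (i0 n hn) (1 : F))ᵀ = _
    rw [Matrix.transpose_add, Matrix.transpose_single, Matrix.transpose_single, add_comm]⟩

theorem X01_val (n : ℕ) (hn : 2 ≤ n) : ((X01 n hn : Symm n F) : Matrix (Fin n) (Fin n) F) =
    Matrix.single (i0 n hn) (i1 n hn) 1 + Matrix.single (i1 n hn) (i0 n hn) 1 := rfl

theorem X01_diag (n : ℕ) (hn : 2 ≤ n) (i : Fin n) :
    ((X01 n hn : Symm n F) : Matrix (Fin n) (Fin n) F) i i = 0 := by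
  rw [X01_val, Matrix.add_apply, Matrix.single_apply, Matrix.single_apply]
  have h01 := i0_ne_i1 n hn
  by_cases h0 : i0 n hn = i
  · have h1 : ¬ (i1 n hn = i) := fun h => h01 (h0.trans h.symm)
    simp [h1]
  · simp [h0]

theorem X01_ne_zero (n : ℕ) (hn : 2 ≤ n) : (X01 n hn : Symm n F) ≠ 0 := by
  intro h
  have h1 : ((X01 n hn : Symm n F) : Matrix (Fin n) (Fin n) F) (i0 n hn) (i1 n hn) = 0 := by
    rw [h]; rfl
  rw [X01_val, Matrix.add_apply, Matrix.single_apply, Matrix.single_apply] at h1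
  have h01 := i0_ne_i1 n hn
  simp [h01.symm] at h1

/-- **main bound** -/
theorem min_degree [Fintype F] (h2 : (2 : F) = 0) (n : ℕ) (hn : 2 ≤ n)
    (hex : n = 2 → 3 ≤ Fintype.card F)
    {V : Type*} [AddCommGroup V] [Module ℂ V] [FiniteDimensional ℂ V]
    (ρ : Matrix.symplecticGroup (Fin n) F →* Module.End ℂ V) (hρ : ∃ g, ρ g ≠ 1) :
    (Fintype.card F ^ n - 1) * (Fintype.card F ^ n - Fintype.card F) ≤
      2 * (Fintype.card F + 1) * Module.finrank ℂ V := by
  classical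
  obtain ⟨t, l, ht, htinj, hconj⟩ := Cfsg.Agent.Lib.H5.LS2.exists_siegel (F := F) n
  letI : Fintype (Symm n F) := Fintype.ofFinite _
  have ht0 : t 0 = 1 := by
    have h := ht 0 0
    rw [add_zero] at h
    exact mul_eq_left.1 h.symm
  have hX0 : ρ (t (X01 n hn)) ≠ 1 := by
    intro h
    have h3 := eq_one_of_map_eq_one h2 n hn hex ρ hρ _ h
    rw [← ht0] at h3
    exact X01_ne_zero n hn (htinj h3)
  obtain ⟨ψ, hψ, hd, hle⟩ := exists_char_orbit_le' ρ t ht l act act_one act_mul act_add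
    (fun g X => hconj g X (act g X) (act_val g X)) (X01 n hn) hX0
  obtain ⟨R, hRe, hRp⟩ := Cfsg.Agent.Lib.H24.LS2.exists_quadForm h2 n
  have hpol := hRp ψ (X01 n hn) (X01_diag n hn) hψ
  have hK := orbit_card_ge' h2 n hn (R ψ) hpol
  -- the orbit of `R ψ` is an image of the orbit of `ψ`
  have hcard : Nat.card (orb (R ψ)) ≤
      Nat.card {ψ' : AddChar (Symm n F) ℂ // ∃ g : GL (Fin n) F, ∀ X, ψ' X = ψ (act g X)} := by
    have hmem : ∀ ψ' : {ψ' : AddChar (Symm n F) ℂ // ∃ g : GL (Fin n) F, ∀ X, ψ' X = ψ (act g X)},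
        R ψ'.1 ∈ orb (R ψ) := by
      rintro ⟨ψ', g, hg⟩
      refine ⟨g, hRe ψ ψ' g ?_⟩
      intro X Y hY
      rw [hg X]
      congr 1
      exact Subtype.ext hY.symm
    refine Nat.card_le_card_of_surjective
      (fun ψ' => (⟨R ψ'.1, hmem ψ'⟩ : orb (R ψ))) ?_
    rintro ⟨Q', g, hg⟩
    refine ⟨⟨ψ.compAddMonoidHom (actHom g), g, fun X => rfl⟩, ?_⟩
    apply Subtype.ext
    apply DFunLike.ext
    intro x
    show R (ψ.compAddMonoidHom (actHom g)) x = Q' x
    rw [hg x]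
    refine hRe ψ _ g ?_ x
    intro X Y hY
    show ψ (act g X) = ψ Y
    congr 1
    exact Subtype.ext hY.symm
  have h1 : Nat.card {ψ' : AddChar (Symm n F) ℂ // ∃ g : GL (Fin n) F, ∀ X, ψ' X = ψ (act g X)} ≤
      Module.finrank ℂ V :=
    le_trans (Nat.le_mul_of_pos_right _ (Nat.pos_of_ne_zero hd)) hle
  calc (Fintype.card F ^ n - 1) * (Fintype.card F ^ n - Fintype.card F)
      ≤ 2 * (Fintype.card F + 1) * Nat.card (orb (R ψ)) := hK
    _ ≤ 2 * (Fintype.card F + 1) * Module.finrank ℂ V :=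
        Nat.mul_le_mul_left _ (le_trans hcard h1)

end Cfsg.Agent.Lib.H12.LS2
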