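import Mathlib

/-!
# Laws in groups: general lemmas (helper12)

`IsLaw w G`: the word `w` is a law in `G`.  Laws pass to subgroups, quotients, isomorphic groups,
and from `G̃ ⧸ Z(G̃)` to `K ⧸ Z(K)` along any injective `K →* G̃`.
Every finite group `H` embeds in the alternating group of degree `n ≥ |H| + 2`.
-/

set_option autoImplicit false

namespace Cfsg.Agent.Lib.H12.Law

/-- `w` is a law in `G` -/
def IsLaw (w : FreeGroup ℕ) (G : Type*) [Group G] : Prop :=
  ∀ f : ℕ → G, FreeGroup.lift f w = 1

theorem lift_map {G H : Type*} [Group G] [Group H] (φ : G →* H) (g : ℕ → G) (w : FreeGroup ℕ) :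
    φ (FreeGroup.lift g w) = FreeGroup.lift (fun i => φ (g i)) w := by
  have := FreeGroup.lift_unique (f := fun i => φ (g i))
    (φ.comp (FreeGroup.lift g)) (fun x => by simp) (x := w)
  simpa using this

variable {w : FreeGroup ℕ}

theorem IsLaw.of_injective {G H : Type*} [Group G] [Group H] (h : IsLaw w G) (φ : H →* G)
    (hφ : Function.Injective φ) : IsLaw w H := by
  intro f
  apply hφ
  rw [lift_map, map_one]
  exact h _

theorem IsLaw.of_surjective {G H : Type*} [Group G] [Group H] (h : IsLaw w G) (φ : G →* H)
    (hφ : Function.Surjective φ) : IsLaw w H := by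
  intro f
  choose g hg using fun i => hφ (f i)
  have : f = fun i => φ (g i) := funext fun i => (hg i).symm
  rw [this, ← lift_map, h g, map_one]

theorem IsLaw.of_mulEquiv {G H : Type*} [Group G] [Group H] (h : IsLaw w G) (e : G ≃* H) :
    IsLaw w H :=
  h.of_surjective e.toMonoidHom e.surjective

/-- the key transfer lemma: from the central quotient of `G` to the central quotient of any group
embedded in `G` -/
theorem IsLaw.center_quot {K G : Type*} [Group K] [Group G] (h : IsLaw w (G ⧸ Subgroup.center G))
    (ι : K →* G) (hι : Function.Injective ι) : IsLaw w (K ⧸ Subgroup.center K) := by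
  intro f
  choose g hg using fun i => QuotientGroup.mk'_surjective (Subgroup.center K) (f i)
  have hf : f = fun i => QuotientGroup.mk' (Subgroup.center K) (g i) := funext fun i => (hg i).symm
  rw [hf, ← lift_map]
  rw [QuotientGroup.mk'_apply, QuotientGroup.eq_one_iff]
  have h1 := h (fun i => QuotientGroup.mk' (Subgroup.center G) (ι (g i)))
  have h2 : (QuotientGroup.mk' (Subgroup.center G)) (ι (FreeGroup.lift g w)) = 1 := by
    rw [lift_map ι, lift_map (QuotientGroup.mk' (Subgroup.center G))]
    exact h1
  rw [QuotientGroup.mk'_apply, QuotientGroup.eq_one_iff] at h2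
  rw [Subgroup.mem_center_iff]
  intro k
  apply hι
  rw [map_mul, map_mul]
  exact Subgroup.mem_center_iff.mp h2 (ι k)

/-- a law in `G` is a law in the central quotient -/
theorem IsLaw.quot_center {G : Type*} [Group G] (h : IsLaw w G) :
    IsLaw w (G ⧸ Subgroup.center G) :=
  h.of_surjective (QuotientGroup.mk' _) (QuotientGroup.mk'_surjective _)

/-! ### Cayley embedding into an alternating group -/

/-- `ℤˣ → Perm (Fin 2)` -/
def unitsToPerm : ℤˣ →* Equiv.Perm (Fin 2) where
  toFun u := if u = 1 then 1 else Equiv.swap 0 1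
  map_one' := by simp
  map_mul' := by
    intro a b
    rcases Int.units_eq_one_or a with rfl | rfl <;> rcases Int.units_eq_one_or b with rfl | rfl <;>
      simp

theorem sign_unitsToPerm (u : ℤˣ) : Equiv.Perm.sign (unitsToPerm u) = u := by
  rcases Int.units_eq_one_or u with rfl | rfl
  · simp [unitsToPerm]
  · have : (-1 : ℤˣ) ≠ 1 := by decide
    simp [unitsToPerm, this]

theorem exists_injective_alt (H : Type*) [Group H] [Finite H] (n : ℕ)
    (hn : Nat.card H + 2 ≤ n) :
    ∃ φ : H →* alternatingGroup (Fin n), Function.Injective φ := by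
  classical
  have := Fintype.ofFinite H
  let c : H →* Equiv.Perm H := MulAction.toPermHom H H
  have hc : Function.Injective c := MulAction.toPerm_injective
  let s : H →* ℤˣ := Equiv.Perm.sign.comp c
  let d : H →* Equiv.Perm (H ⊕ Fin 2) :=
    (Equiv.Perm.sumCongrHom H (Fin 2)).comp (c.prod (unitsToPerm.comp s))
  have hd : Function.Injective d := by
    intro a b hab
    have h1 := Equiv.Perm.sumCongrHom_injective hab
    have h2 := congrArg Prod.fst h1
    exact hc h2
  have hsign : ∀ h, Equiv.Perm.sign (d h) = 1 := by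
    intro h
    change Equiv.Perm.sign (Equiv.Perm.sumCongr (c h) (unitsToPerm (s h))) = 1
    rw [Equiv.Perm.sign_sumCongr, sign_unitsToPerm]
    change s h * s h = 1
    exact Int.units_mul_self _
  have hcard : Fintype.card (H ⊕ Fin 2) ≤ Fintype.card (Fin n) := by
    rw [Fintype.card_sum, Fintype.card_fin, Fintype.card_fin, ← Nat.card_eq_fintype_card]
    exact hn
  obtain ⟨e⟩ := Function.Embedding.nonempty_of_card_le hcard
  let ψ : H →* Equiv.Perm (Fin n) := (Equiv.Perm.viaEmbeddingHom e).comp d
  have hψ : Function.Injective ψ := (Equiv.Perm.viaEmbeddingHom_injective e).comp hd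
  have hψs : ∀ h, ψ h ∈ alternatingGroup (Fin n) := by
    intro h
    rw [Equiv.Perm.mem_alternatingGroup]
    have h1 : ψ h = Equiv.Perm.viaEmbedding (d h) e := rfl
    rw [h1]
    delta Equiv.Perm.viaEmbedding
    rw [Equiv.Perm.sign_extendDomain]
    exact hsign h
  refine ⟨ψ.codRestrict _ hψs, ?_⟩
  intro a b hab
  apply hψ
  exact congrArg Subtype.val hab

end Cfsg.Agent.Lib.H12.Law
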