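import Mathlib
import Cfsg.Prelude.Def_Classical
import Cfsg.Agent.Lib.H2.SLGen
import Cfsg.Agent.Lib.H12.LawA

/-!
# Laws in groups: embeddings into the classical groups (helper12)
-/

set_option autoImplicit false

namespace Cfsg.Agent.Lib.H12.Law

open Matrix
open scoped MatrixGroups

section general

variable {R : Type*} [CommRing R]
variable {a b : Type*} [Fintype a] [DecidableEq a] [Fintype b] [DecidableEq b]

/-- reindexing `SL` along an equivalence of index types -/
def slReindex (e : a ≃ b) : SpecialLinearGroup a R →* SpecialLinearGroup b R where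
  toFun g := ⟨Matrix.reindex e e g.1, by rw [Matrix.det_reindex_self]; exact g.2⟩
  map_one' := by
    apply Subtype.ext
    simp
  map_mul' g h := by
    apply Subtype.ext
    change Matrix.reindex e e (g.1 * h.1) = Matrix.reindex e e g.1 * Matrix.reindex e e h.1
    simp [Matrix.submatrix_mul_equiv]

theorem slReindex_val (e : a ≃ b) (g : SpecialLinearGroup a R) :
    ((slReindex e g : SpecialLinearGroup b R) : Matrix b b R) = Matrix.reindex e e g.1 := rfl

theorem slReindex_injective (e : a ≃ b) : Function.Injective (slReindex (R := R) e) := by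
  intro g h hgh
  apply Subtype.ext
  have := congrArg Subtype.val hgh
  exact (Matrix.reindex e e).injective this

/-- block embedding `g ↦ diag(g, 1)` -/
def slBlock (a b : Type*) [Fintype a] [DecidableEq a] [Fintype b] [DecidableEq b] (R : Type*)
    [CommRing R] : SpecialLinearGroup a R →* SpecialLinearGroup (a ⊕ b) R where
  toFun g := ⟨fromBlocks g.1 0 0 1, by
    rw [Matrix.det_fromBlocks_zero₂₁, det_one, mul_one]; exact g.2⟩
  map_one' := by
    apply Subtype.ext
    simp [fromBlocks_one]
  map_mul' g h := by
    apply Subtype.ext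
    change fromBlocks (g.1 * h.1) 0 0 1 = fromBlocks g.1 0 0 1 * fromBlocks h.1 0 0 1
    simp [fromBlocks_multiply]

theorem slBlock_val (g : SpecialLinearGroup a R) :
    ((slBlock a b R g : SpecialLinearGroup (a ⊕ b) R) : Matrix (a ⊕ b) (a ⊕ b) R) =
      fromBlocks g.1 0 0 1 := rfl

theorem slBlock_injective : Function.Injective (slBlock a b R) := by
  intro g h hgh
  apply Subtype.ext
  have := congrArg Subtype.val hgh
  rw [slBlock_val, slBlock_val] at this
  exact (fromBlocks_inj.mp this).1

/-- the index equivalence `Fin k ⊕ Fin (n - k) ≃ Fin n` -/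
def finSplit (k n : ℕ) (h : k ≤ n) : Fin k ⊕ Fin (n - k) ≃ Fin n :=
  finSumFinEquiv.trans (finCongr (by omega))

/-- `SL_k → SL_n` for `k ≤ n` -/
def slIncl (k n : ℕ) (h : k ≤ n) (R : Type*) [CommRing R] :
    SpecialLinearGroup (Fin k) R →* SpecialLinearGroup (Fin n) R :=
  (slReindex (finSplit k n h)).comp (slBlock (Fin k) (Fin (n - k)) R)

theorem slIncl_injective (k n : ℕ) (h : k ≤ n) : Function.Injective (slIncl k n h R) :=
  (slReindex_injective _).comp slBlock_injective

/-- permutation matrices: `Alt(n) → SL_n` -/
def altToSL (n : ℕ) (R : Type*) [CommRing R] :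
    alternatingGroup (Fin n) →* SpecialLinearGroup (Fin n) R where
  toFun σ := ⟨Matrix.permMatrixHom (R := R) σ.1, by
    have h1 : Equiv.Perm.sign (σ.1⁻¹) = 1 := by
      rw [Equiv.Perm.sign_inv]; exact Equiv.Perm.mem_alternatingGroup.mp σ.2
    rw [Matrix.permMatrixHom_apply, Matrix.det_permutation, h1]
    simp⟩
  map_one' := by
    apply Subtype.ext
    simp
  map_mul' σ τ := by
    apply Subtype.ext
    change Matrix.permMatrixHom (R := R) (σ.1 * τ.1) =
      Matrix.permMatrixHom (R := R) σ.1 * Matrix.permMatrixHom (R := R) τ.1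
    rw [map_mul]

theorem altToSL_val (n : ℕ) (σ : alternatingGroup (Fin n)) :
    ((altToSL n R σ : SpecialLinearGroup (Fin n) R) : Matrix (Fin n) (Fin n) R) =
      (σ.1⁻¹).permMatrix R := rfl

theorem permMatrix_injective [Nontrivial R] {n : Type*} [DecidableEq n] :
    Function.Injective (fun σ : Equiv.Perm n => σ.permMatrix R) := by
  intro σ τ h
  ext i
  have h1 := congrFun (congrFun h i) (σ i)
  simp only [Equiv.Perm.permMatrix, PEquiv.toMatrix_apply, Equiv.toPEquiv_apply, Option.mem_def,
    Option.some.injEq, if_true] at h1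
  by_contra hne
  rw [if_neg (fun h2 => hne h2.symm)] at h1
  exact one_ne_zero h1

theorem altToSL_injective [Nontrivial R] (n : ℕ) : Function.Injective (altToSL n R) := by
  intro σ τ h
  have h1 := congrArg Subtype.val h
  rw [altToSL_val, altToSL_val] at h1
  have h2 := permMatrix_injective h1
  apply Subtype.ext
  exact inv_injective h2

end general

end Cfsg.Agent.Lib.H12.Law
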