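import Mathlib
import Cfsg.Prelude.Def_Classical
import Cfsg.Agent.Lib.H2.SLGen
import Cfsg.Agent.Lib.H12.LawB

/-!
# Laws in groups: `SL_m → Sp_{2m}` and `SL_m → Ω(Q)` (helper12)
-/

set_option autoImplicit false

namespace Cfsg.Agent.Lib.H12.Law

open Matrix
open scoped MatrixGroups

section levi

variable {R : Type*} [CommRing R]
variable {l : Type*} [Fintype l] [DecidableEq l]

theorem sl_mul_inv (g : SpecialLinearGroup l R) :
    (g : Matrix l l R) * ((g⁻¹ : SpecialLinearGroup l R) : Matrix l l R) = 1 := by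
  rw [← Matrix.SpecialLinearGroup.coe_mul, mul_inv_cancel, Matrix.SpecialLinearGroup.coe_one]

theorem sl_inv_mul (g : SpecialLinearGroup l R) :
    ((g⁻¹ : SpecialLinearGroup l R) : Matrix l l R) * (g : Matrix l l R) = 1 := by
  rw [← Matrix.SpecialLinearGroup.coe_mul, inv_mul_cancel, Matrix.SpecialLinearGroup.coe_one]

/-- the Levi matrix `diag(g, g⁻ᵀ)` -/
def leviMat (l : Type*) [Fintype l] [DecidableEq l] (R : Type*) [CommRing R] :
    SpecialLinearGroup l R →* Matrix (l ⊕ l) (l ⊕ l) R where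
  toFun g := fromBlocks (g : Matrix l l R) 0 0 ((g⁻¹ : SpecialLinearGroup l R) : Matrix l l R)ᵀ
  map_one' := by simp [fromBlocks_one]
  map_mul' g h := by
    rw [fromBlocks_multiply]
    simp [Matrix.transpose_mul]

theorem leviMat_apply (g : SpecialLinearGroup l R) :
    leviMat l R g = fromBlocks (g : Matrix l l R) 0 0 ((g⁻¹ : SpecialLinearGroup l R) : Matrix l l R)ᵀ := rfl

theorem leviMat_injective : Function.Injective (leviMat l R) := by
  intro g h hgh
  rw [leviMat_apply, leviMat_apply] at hgh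
  exact Subtype.ext (fromBlocks_inj.mp hgh).1

theorem leviMat_mulVec (g : SpecialLinearGroup l R) (x : l ⊕ l → R) :
    ((leviMat l R g *ᵥ x) ∘ Sum.inl) ⬝ᵥ ((leviMat l R g *ᵥ x) ∘ Sum.inr) =
      (x ∘ Sum.inl) ⬝ᵥ (x ∘ Sum.inr) := by
  rw [leviMat_apply, fromBlocks_mulVec]
  simp only [Matrix.zero_mulVec, add_zero, zero_add]
  have h1 : (Sum.elim ((g : Matrix l l R) *ᵥ x ∘ Sum.inl)
      (((g⁻¹ : SpecialLinearGroup l R) : Matrix l l R)ᵀ *ᵥ x ∘ Sum.inr)) ∘ Sum.inl =
      (g : Matrix l l R) *ᵥ x ∘ Sum.inl := rfl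
  have h2 : (Sum.elim ((g : Matrix l l R) *ᵥ x ∘ Sum.inl)
      (((g⁻¹ : SpecialLinearGroup l R) : Matrix l l R)ᵀ *ᵥ x ∘ Sum.inr)) ∘ Sum.inr =
      ((g⁻¹ : SpecialLinearGroup l R) : Matrix l l R)ᵀ *ᵥ x ∘ Sum.inr := rfl
  rw [h1, h2, dotProduct_mulVec, vecMul_transpose, Matrix.mulVec_mulVec, sl_inv_mul,
    Matrix.one_mulVec]

/-- `SL_m → Sp_{2m}` -/
def slToSp (l : Type*) [Fintype l] [DecidableEq l] (R : Type*) [CommRing R] :
    SpecialLinearGroup l R →* Matrix.symplecticGroup l R :=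
  (leviMat l R).codRestrict (Matrix.symplecticGroup l R) (fun g => by
    rw [leviMat_apply, SymplecticGroup.fromBlocks_mem_iff]
    refine ⟨by simp, by simp, ?_⟩
    rw [Matrix.mul_zero, sub_zero, ← Matrix.transpose_mul, sl_inv_mul, Matrix.transpose_one])

theorem slToSp_injective : Function.Injective (slToSp l R) := by
  intro g h hgh
  apply leviMat_injective
  exact congrArg Subtype.val hgh

end levi

section orth

variable {F : Type*} [Field F]
variable {ι : Type} [Fintype ι] [DecidableEq ι]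

/-- a multiplicative map from a group to matrices lands in `GL` -/
def glOf {H : Type*} [Group H] (μ : H →* Matrix ι ι F) : H →* GL ι F :=
  (Units.map μ).comp (toUnits (G := H)).toMonoidHom

theorem glOf_val {H : Type*} [Group H] (μ : H →* Matrix ι ι F) (h : H) :
    ((glOf μ h : GL ι F) : Matrix ι ι F) = μ h := rfl

/-- a multiplicative map to matrices preserving `Q` gives a hom to the isometry group -/
def isoOf {H : Type*} [Group H] (μ : H →* Matrix ι ι F) (Q : (ι → F) → F)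
    (hμ : ∀ h x, Q (μ h *ᵥ x) = Q x) : H →* Cfsg.isometryGroup F Q :=
  (glOf μ).codRestrict (Cfsg.isometryGroup F Q) (fun h => by
    intro u _
    exact hμ h u)

theorem isoOf_val {H : Type*} [Group H] (μ : H →* Matrix ι ι F) (Q : (ι → F) → F)
    (hμ : ∀ h x, Q (μ h *ᵥ x) = Q x) (h : H) :
    (((isoOf μ Q hμ h : Cfsg.isometryGroup F Q) : GL ι F) : Matrix ι ι F) = μ h := rfl

theorem isoOf_injective {H : Type*} [Group H] (μ : H →* Matrix ι ι F) (Q : (ι → F) → F)
    (hμ : ∀ h x, Q (μ h *ᵥ x) = Q x) (hinj : Function.Injective μ) :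
    Function.Injective (isoOf μ Q hμ) := by
  intro g h hgh
  apply hinj
  rw [← isoOf_val μ Q hμ g, ← isoOf_val μ Q hμ h, hgh]

/-- a hom from a perfect group to the isometry group lands in `Ω` -/
def omegaOf {H : Type*} [Group H] (hH : commutator H = ⊤) (Q : (ι → F) → F)
    (ψ : H →* Cfsg.isometryGroup F Q) : H →* Cfsg.Omega F Q :=
  ψ.codRestrict (Cfsg.Omega F Q) (fun h => by
    have h1 : h ∈ commutator H := by rw [hH]; exact Subgroup.mem_top h
    have h2 := Subgroup.mem_map_of_mem ψ h1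
    rw [commutator_def, Subgroup.map_commutator] at h2
    change ψ h ∈ commutator _
    rw [commutator_def]
    exact Subgroup.commutator_mono le_top le_top h2)

theorem omegaOf_injective {H : Type*} [Group H] (hH : commutator H = ⊤) (Q : (ι → F) → F)
    (ψ : H →* Cfsg.isometryGroup F Q) (hψ : Function.Injective ψ) :
    Function.Injective (omegaOf hH Q ψ) := by
  intro g h hgh
  apply hψ
  exact congrArg Subtype.val hgh

end orth

section forms

variable {F : Type*} [Field F] (m : ℕ)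

theorem quadFormPlus_eq (x : Fin m ⊕ Fin m → F) :
    Cfsg.quadFormPlus m F x = (x ∘ Sum.inl) ⬝ᵥ (x ∘ Sum.inr) := rfl

theorem plus_isometry (g : SpecialLinearGroup (Fin m) F) (x : Fin m ⊕ Fin m → F) :
    Cfsg.quadFormPlus m F (leviMat (Fin m) F g *ᵥ x) = Cfsg.quadFormPlus m F x := by
  rw [quadFormPlus_eq, quadFormPlus_eq]
  exact leviMat_mulVec g x

/-- block embeddings of matrix monoids -/
def blockR (a b : Type*) [Fintype a] [DecidableEq a] [Fintype b] [DecidableEq b] :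
    Matrix b b F →* Matrix (a ⊕ b) (a ⊕ b) F where
  toFun M := fromBlocks 1 0 0 M
  map_one' := fromBlocks_one
  map_mul' M N := by rw [fromBlocks_multiply]; simp

def blockL (a b : Type*) [Fintype a] [DecidableEq a] [Fintype b] [DecidableEq b] :
    Matrix a a F →* Matrix (a ⊕ b) (a ⊕ b) F where
  toFun M := fromBlocks M 0 0 1
  map_one' := fromBlocks_one
  map_mul' M N := by rw [fromBlocks_multiply]; simp

theorem blockR_injective (a b : Type*) [Fintype a] [DecidableEq a] [Fintype b] [DecidableEq b] :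
    Function.Injective (blockR (F := F) a b) := by
  intro M N h
  exact (fromBlocks_inj.mp h).2.2.2

theorem blockL_injective (a b : Type*) [Fintype a] [DecidableEq a] [Fintype b] [DecidableEq b] :
    Function.Injective (blockL (F := F) a b) := by
  intro M N h
  exact (fromBlocks_inj.mp h).1

theorem quadFormOdd_eq (v : Unit ⊕ (Fin m ⊕ Fin m) → F) :
    Cfsg.quadFormOdd m F v = v (.inl ()) ^ 2 + Cfsg.quadFormPlus m F (v ∘ Sum.inr) := rfl

theorem quadFormMinus_eq (a b : F) (v : (Fin m ⊕ Fin m) ⊕ Fin 2 → F) :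
    Cfsg.quadFormMinus m F a b v = Cfsg.quadFormPlus m F (v ∘ Sum.inl) +
      (v (.inr 0) ^ 2 + a * v (.inr 0) * v (.inr 1) + b * v (.inr 1) ^ 2) := rfl

theorem odd_isometry (g : SpecialLinearGroup (Fin m) F) (v : Unit ⊕ (Fin m ⊕ Fin m) → F) :
    Cfsg.quadFormOdd m F (blockR Unit (Fin m ⊕ Fin m) (leviMat (Fin m) F g) *ᵥ v) =
      Cfsg.quadFormOdd m F v := by
  rw [quadFormOdd_eq, quadFormOdd_eq]
  have h1 : (blockR Unit (Fin m ⊕ Fin m) (leviMat (Fin m) F g) *ᵥ v) ∘ Sum.inr =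
      leviMat (Fin m) F g *ᵥ (v ∘ Sum.inr) := by
    change (fromBlocks 1 0 0 _ *ᵥ v) ∘ Sum.inr = _
    rw [fromBlocks_mulVec]
    ext i
    simp
  have h2 : (blockR Unit (Fin m ⊕ Fin m) (leviMat (Fin m) F g) *ᵥ v) (Sum.inl ()) =
      v (Sum.inl ()) := by
    change (fromBlocks 1 0 0 _ *ᵥ v) (Sum.inl ()) = _
    rw [fromBlocks_mulVec]
    simp
  rw [h1, h2, plus_isometry]

theorem minus_isometry (a b : F) (g : SpecialLinearGroup (Fin m) F)
    (v : (Fin m ⊕ Fin m) ⊕ Fin 2 → F) :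
    Cfsg.quadFormMinus m F a b (blockL (Fin m ⊕ Fin m) (Fin 2) (leviMat (Fin m) F g) *ᵥ v) =
      Cfsg.quadFormMinus m F a b v := by
  rw [quadFormMinus_eq, quadFormMinus_eq]
  have h1 : (blockL (Fin m ⊕ Fin m) (Fin 2) (leviMat (Fin m) F g) *ᵥ v) ∘ Sum.inl =
      leviMat (Fin m) F g *ᵥ (v ∘ Sum.inl) := by
    change (fromBlocks _ 0 0 1 *ᵥ v) ∘ Sum.inl = _
    rw [fromBlocks_mulVec]
    ext i
    simp
  have h2 : ∀ j : Fin 2, (blockL (Fin m ⊕ Fin m) (Fin 2) (leviMat (Fin m) F g) *ᵥ v) (Sum.inr j) =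
      v (Sum.inr j) := by
    intro j
    change (fromBlocks _ 0 0 1 *ᵥ v) (Sum.inr j) = _
    rw [fromBlocks_mulVec]
    simp
  rw [h1, h2, h2, plus_isometry]

/-- `SL_m → Ω⁺_{2m}`, `m ≥ 3` -/
noncomputable def slToOmegaPlus (hm : 3 ≤ m) :
    SpecialLinearGroup (Fin m) F →* Cfsg.Omega F (Cfsg.quadFormPlus m F) :=
  omegaOf (Cfsg.Agent.Lib.H2.SL_commutator_eq_top (by simpa using hm)) _
    (isoOf (leviMat (Fin m) F) _ (plus_isometry m))

theorem slToOmegaPlus_injective (hm : 3 ≤ m) :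
    Function.Injective (slToOmegaPlus (F := F) m hm) :=
  omegaOf_injective _ _ _ (isoOf_injective _ _ _ leviMat_injective)

/-- `SL_m → Ω_{2m+1}`, `m ≥ 3` -/
noncomputable def slToOmegaOdd (hm : 3 ≤ m) :
    SpecialLinearGroup (Fin m) F →* Cfsg.Omega F (Cfsg.quadFormOdd m F) :=
  omegaOf (Cfsg.Agent.Lib.H2.SL_commutator_eq_top (by simpa using hm)) _
    (isoOf ((blockR Unit (Fin m ⊕ Fin m)).comp (leviMat (Fin m) F)) _ (odd_isometry m))

theorem slToOmegaOdd_injective (hm : 3 ≤ m) :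
    Function.Injective (slToOmegaOdd (F := F) m hm) :=
  omegaOf_injective _ _ _ (isoOf_injective _ _ _
    ((blockR_injective _ _).comp leviMat_injective))

/-- `SL_m → Ω⁻_{2m+2}`, `m ≥ 3` -/
noncomputable def slToOmegaMinus (hm : 3 ≤ m) (a b : F) :
    SpecialLinearGroup (Fin m) F →* Cfsg.Omega F (Cfsg.quadFormMinus m F a b) :=
  omegaOf (Cfsg.Agent.Lib.H2.SL_commutator_eq_top (by simpa using hm)) _
    (isoOf ((blockL (Fin m ⊕ Fin m) (Fin 2)).comp (leviMat (Fin m) F)) _ (minus_isometry m a b))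

theorem slToOmegaMinus_injective (hm : 3 ≤ m) (a b : F) :
    Function.Injective (slToOmegaMinus (F := F) m hm a b) :=
  omegaOf_injective _ _ _ (isoOf_injective _ _ _
    ((blockL_injective _ _).comp leviMat_injective))

end forms

end Cfsg.Agent.Lib.H12.Law
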