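import Mathlib
import Cfsg.Prelude.Def_Classical
import Cfsg.Agent.Lib.H12.LawB

/-!
# Laws in groups: `Alt(n) → SU_n(q)` and `SU_2(q) → SU_n(q)` (helper12)
-/

set_option autoImplicit false

namespace Cfsg.Agent.Lib.H12.Law

open Matrix
open scoped MatrixGroups

variable {F : Type*} [Field F] (q : ℕ)

/-- the hermitian form on an arbitrary index type -/
def hermG {ι : Type*} [Fintype ι] (u v : ι → F) : F := ∑ i, u i * (v i) ^ q

theorem hermForm_eq (n : ℕ) (u v : Fin n → F) : Cfsg.hermForm n F q u v = hermG q u v := rfl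

theorem hermG_comp {ι κ : Type*} [Fintype ι] [Fintype κ] (e : ι ≃ κ) (u v : κ → F) :
    hermG q (u ∘ e) (v ∘ e) = hermG q u v := by
  unfold hermG
  exact Equiv.sum_comp e (fun i => u i * (v i) ^ q)

theorem hermG_sum {a b : Type*} [Fintype a] [Fintype b] (u v : a ⊕ b → F) :
    hermG q u v = hermG q (u ∘ Sum.inl) (v ∘ Sum.inl) + hermG q (u ∘ Sum.inr) (v ∘ Sum.inr) := by
  unfold hermG
  rw [Fintype.sum_sum_type]
  rfl

theorem mem_SU_iff (n : ℕ) (g : SpecialLinearGroup (Fin n) F) :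
    g ∈ Cfsg.SU n F q ↔ ∀ u v : Fin n → F,
      hermG q ((g : Matrix (Fin n) (Fin n) F) *ᵥ u) ((g : Matrix (Fin n) (Fin n) F) *ᵥ v) =
        hermG q u v := Iff.rfl

/-- `Alt(n) → SU_n(q)` by permutation matrices -/
def altToSU (n : ℕ) : alternatingGroup (Fin n) →* Cfsg.SU n F q :=
  (altToSL n F).codRestrict (Cfsg.SU n F q) (fun σ => by
    rw [mem_SU_iff]
    intro u v
    rw [altToSL_val, Matrix.permMatrix_mulVec, Matrix.permMatrix_mulVec]
    exact hermG_comp q (σ.1⁻¹ : Equiv.Perm (Fin n)) u v)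

theorem altToSU_injective (n : ℕ) : Function.Injective (altToSU (F := F) q n) := by
  intro σ τ h
  apply altToSL_injective (R := F) n
  exact congrArg Subtype.val h

theorem slIncl_val (k n : ℕ) (h : k ≤ n) (g : SpecialLinearGroup (Fin k) F) :
    ((slIncl k n h F g : SpecialLinearGroup (Fin n) F) : Matrix (Fin n) (Fin n) F) =
      Matrix.reindex (finSplit k n h) (finSplit k n h)
        (fromBlocks (g : Matrix (Fin k) (Fin k) F) 0 0 1) := rfl

theorem slIncl_mem_SU (k n : ℕ) (h : k ≤ n) (g : SpecialLinearGroup (Fin k) F)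
    (hg : g ∈ Cfsg.SU k F q) : slIncl k n h F g ∈ Cfsg.SU n F q := by
  rw [mem_SU_iff] at hg ⊢
  intro u v
  rw [slIncl_val, Matrix.reindex_apply, Matrix.submatrix_mulVec_equiv,
    Matrix.submatrix_mulVec_equiv, hermG_comp]
  simp only [Equiv.symm_symm]
  rw [← hermG_comp q (finSplit k n h) u v, hermG_sum q (u ∘ _), hermG_sum q (_ *ᵥ _)]
  rw [fromBlocks_mulVec, fromBlocks_mulVec]
  simp only [Matrix.zero_mulVec, add_zero, zero_add, Matrix.one_mulVec]
  have h1 : ∀ (x : Fin k → F) (y : Fin (n - k) → F), (Sum.elim x y) ∘ Sum.inl = x := fun _ _ => rfl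
  have h2 : ∀ (x : Fin k → F) (y : Fin (n - k) → F), (Sum.elim x y) ∘ Sum.inr = y := fun _ _ => rfl
  rw [h1, h1, h2, h2, hg]

/-- `SU_k(q) → SU_n(q)`, `k ≤ n` -/
def suIncl (k n : ℕ) (h : k ≤ n) : Cfsg.SU k F q →* Cfsg.SU n F q :=
  ((slIncl k n h F).comp (Cfsg.SU k F q).subtype).codRestrict (Cfsg.SU n F q)
    (fun g => slIncl_mem_SU q k n h g.1 g.2)

theorem suIncl_injective (k n : ℕ) (h : k ≤ n) : Function.Injective (suIncl (F := F) q k n h) := by
  intro g g' hgg
  apply Subtype.ext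
  apply slIncl_injective (R := F) k n h
  exact congrArg Subtype.val hgg

end Cfsg.Agent.Lib.H12.Law
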