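import Mathlib
import Cfsg.Prelude.Def_Classical
import Cfsg.Agent.Lib.H2.SU2
import Cfsg.Agent.Lib.H12.LawC
import Cfsg.Agent.Lib.H12.LawD

/-!
# Laws in groups: the order bound for each classical family (helper12)
-/

set_option autoImplicit false

namespace Cfsg.Agent.Lib.H12.Law

open Matrix
open scoped MatrixGroups

/-! ### Cardinality bounds -/

theorem card_le_of_inj {X : Type*} {ι F : Type*} [Fintype ι] [Fintype F]
    (f : X → Matrix ι ι F) (hf : Function.Injective f) :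
    Nat.card X ≤ Fintype.card F ^ (Fintype.card ι ^ 2) := by
  classical
  have h1 : Nat.card X ≤ Nat.card (ι → ι → F) := Nat.card_le_card_of_injective f hf
  have h2 : Nat.card (ι → ι → F) = Fintype.card F ^ (Fintype.card ι ^ 2) := by
    rw [Nat.card_eq_fintype_card, Fintype.card_fun, Fintype.card_fun, ← pow_mul, sq]
  rw [← h2]
  exact h1

theorem card_center_quot_le {X : Type*} [Group X] {ι F : Type*} [Fintype ι] [Fintype F]
    (f : X → Matrix ι ι F) (hf : Function.Injective f) :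
    Nat.card (X ⧸ Subgroup.center X) ≤ Fintype.card F ^ (Fintype.card ι ^ 2) := by
  classical
  have : Finite X := Finite.of_injective (β := ι → ι → F) f hf
  exact (Nat.card_le_card_of_surjective _
    (QuotientGroup.mk_surjective (s := Subgroup.center X))).trans (card_le_of_inj f hf)

theorem pow_bound {Q d N₀ N₁ : ℕ} (hQ : Q ≤ (N₀ + 1) ^ 2) (hd : d ≤ 2 * N₁ + 1) :
    Q ^ (d ^ 2) ≤ ((N₀ + 1) ^ 2) ^ ((2 * N₁ + 1) ^ 2) :=
  (Nat.pow_le_pow_left hQ _).trans
    (Nat.pow_le_pow_right (by positivity) (Nat.pow_le_pow_left hd 2))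

theorem lt_sq_succ {Q N₀ : ℕ} (h : Q < N₀) : Q ≤ (N₀ + 1) ^ 2 := by nlinarith

/-! ### The hypotheses -/

/-- the two facts extracted from the `PSL₂` theorem -/
structure Bounds (w : FreeGroup ℕ) (N₀ N₁ : ℕ) : Prop where
  field : ∀ (K : Type) [Field K] [Fintype K],
    IsLaw w (SpecialLinearGroup (Fin 2) K ⧸ Subgroup.center (SpecialLinearGroup (Fin 2) K)) →
      Fintype.card K < N₀
  rank : ∀ m : ℕ, IsLaw w (alternatingGroup (Fin m) ⧸ Subgroup.center (alternatingGroup (Fin m))) →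
    m < N₁

variable {w : FreeGroup ℕ} {N₀ N₁ : ℕ}

/-- the general step: a group with central quotient satisfying the law, containing `SL_m(F)` -/
theorem Bounds.of_sl (hB : Bounds w N₀ N₁) {X : Type*} [Group X] {F : Type} [Field F] [Fintype F]
    (m : ℕ) (hm : 2 ≤ m) (ψ : SpecialLinearGroup (Fin m) F →* X) (hψ : Function.Injective ψ)
    (h : IsLaw w (X ⧸ Subgroup.center X)) : Fintype.card F < N₀ ∧ m < N₁ := by
  constructor
  · exact hB.field F (h.center_quot (ψ.comp (slIncl 2 m hm F)) (hψ.comp (slIncl_injective 2 m hm)))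
  · exact hB.rank m (h.center_quot (ψ.comp (altToSL m F)) (hψ.comp (altToSL_injective m)))

theorem alt_le (hB : Bounds w N₀ N₁) (n : ℕ) (h : IsLaw w (alternatingGroup (Fin n))) :
    Nat.card (alternatingGroup (Fin n)) ≤ N₁.factorial := by
  have h1 : n < N₁ := hB.rank n h.quot_center
  have h2 : Nat.card (alternatingGroup (Fin n)) ≤ Nat.card (Equiv.Perm (Fin n)) :=
    Nat.card_le_card_of_injective _ Subtype.val_injective
  rw [Nat.card_eq_fintype_card (α := Equiv.Perm (Fin n)), Fintype.card_perm, Fintype.card_fin] at h2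
  exact h2.trans (Nat.factorial_le h1.le)

theorem psl_le (hB : Bounds w N₀ N₁) (F : Type) [Field F] [Fintype F] (n : ℕ) (hn : 2 ≤ n)
    (h : IsLaw w (Matrix.ProjectiveSpecialLinearGroup (Fin n) F)) :
    Nat.card (Matrix.ProjectiveSpecialLinearGroup (Fin n) F) ≤
      ((N₀ + 1) ^ 2) ^ ((2 * N₁ + 1) ^ 2) := by
  obtain ⟨h1, h2⟩ := hB.of_sl n hn (MonoidHom.id _) Function.injective_id h
  refine (card_center_quot_le (X := SpecialLinearGroup (Fin n) F) (ι := Fin n) (F := F)
    (fun g => (g : Matrix (Fin n) (Fin n) F)) Subtype.val_injective).trans ?_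
  apply pow_bound (lt_sq_succ h1)
  rw [Fintype.card_fin]
  omega

theorem psp_le (hB : Bounds w N₀ N₁) (F : Type) [Field F] [Fintype F] (m : ℕ) (hm : 2 ≤ m)
    (h : IsLaw w (Cfsg.PSp m F)) :
    Nat.card (Cfsg.PSp m F) ≤ ((N₀ + 1) ^ 2) ^ ((2 * N₁ + 1) ^ 2) := by
  obtain ⟨h1, h2⟩ := hB.of_sl m hm (slToSp (Fin m) F) slToSp_injective h
  refine (card_center_quot_le (X := Matrix.symplecticGroup (Fin m) F) (ι := Fin m ⊕ Fin m) (F := F)
    (fun g => (g : Matrix (Fin m ⊕ Fin m) (Fin m ⊕ Fin m) F)) Subtype.val_injective).trans ?_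
  apply pow_bound (lt_sq_succ h1)
  rw [Fintype.card_sum, Fintype.card_fin]
  omega

theorem omega_val_injective {ι : Type} [Fintype ι] [DecidableEq ι] {F : Type*} [Field F]
    (Q : (ι → F) → F) :
    Function.Injective (fun g : Cfsg.Omega F Q =>
      (((g : Cfsg.isometryGroup F Q) : GL ι F) : Matrix ι ι F)) := by
  intro g h hgh
  apply Subtype.ext
  apply Subtype.ext
  exact Units.ext hgh

theorem pomega_odd_le (hB : Bounds w N₀ N₁) (F : Type) [Field F] [Fintype F] (m : ℕ) (hm : 3 ≤ m)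
    (h : IsLaw w (Cfsg.POmega F (Cfsg.quadFormOdd m F))) :
    Nat.card (Cfsg.POmega F (Cfsg.quadFormOdd m F)) ≤ ((N₀ + 1) ^ 2) ^ ((2 * N₁ + 1) ^ 2) := by
  obtain ⟨h1, h2⟩ := hB.of_sl m (by omega) (slToOmegaOdd m hm) (slToOmegaOdd_injective m hm) h
  refine (card_center_quot_le _ (omega_val_injective _)).trans ?_
  apply pow_bound (lt_sq_succ h1)
  rw [Fintype.card_sum, Fintype.card_sum, Fintype.card_fin, Fintype.card_unit]
  omega

theorem pomega_plus_le (hB : Bounds w N₀ N₁) (F : Type) [Field F] [Fintype F] (m : ℕ) (hm : 3 ≤ m)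
    (h : IsLaw w (Cfsg.POmega F (Cfsg.quadFormPlus m F))) :
    Nat.card (Cfsg.POmega F (Cfsg.quadFormPlus m F)) ≤ ((N₀ + 1) ^ 2) ^ ((2 * N₁ + 1) ^ 2) := by
  obtain ⟨h1, h2⟩ := hB.of_sl m (by omega) (slToOmegaPlus m hm) (slToOmegaPlus_injective m hm) h
  refine (card_center_quot_le _ (omega_val_injective _)).trans ?_
  apply pow_bound (lt_sq_succ h1)
  rw [Fintype.card_sum, Fintype.card_fin]
  omega

theorem pomega_minus_le (hB : Bounds w N₀ N₁) (F : Type) [Field F] [Fintype F] (m : ℕ) (hm : 3 ≤ m)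
    (a b : F) (h : IsLaw w (Cfsg.POmega F (Cfsg.quadFormMinus m F a b))) :
    Nat.card (Cfsg.POmega F (Cfsg.quadFormMinus m F a b)) ≤
      ((N₀ + 1) ^ 2) ^ ((2 * N₁ + 1) ^ 2) := by
  obtain ⟨h1, h2⟩ := hB.of_sl m (by omega) (slToOmegaMinus m hm a b)
    (slToOmegaMinus_injective m hm a b) h
  refine (card_center_quot_le _ (omega_val_injective _)).trans ?_
  apply pow_bound (lt_sq_succ h1)
  rw [Fintype.card_sum, Fintype.card_sum, Fintype.card_fin, Fintype.card_fin]
  omega

/-! ### The unitary groups -/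

theorem exists_field_of_sq {F : Type*} [Field F] [Fintype F] {q : ℕ}
    (hF : Fintype.card F = q ^ 2) :
    ∃ (K : Type) (_ : Field K) (_ : Fintype K), Fintype.card K = q := by
  obtain ⟨p, _, n, hp, hcard⟩ := FiniteField.card' F
  haveI := Fact.mk hp
  have hq : q ∣ (p : ℕ) ^ (n : ℕ) := by
    rw [← hcard, hF]
    exact Dvd.intro_left _ (by ring)
  obtain ⟨j, -, hj⟩ := (Nat.dvd_prime_pow hp).mp hq
  have hj0 : j ≠ 0 := by
    rintro rfl
    rw [pow_zero] at hj
    have := Fintype.one_lt_card (α := F)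
    rw [hF, hj] at this
    omega
  haveI : Fintype (GaloisField p j) := Fintype.ofFinite _
  refine ⟨GaloisField p j, inferInstance, inferInstance, ?_⟩
  rw [← Nat.card_eq_fintype_card, GaloisField.card p j hj0, hj]

theorem psu_le (hB : Bounds w N₀ N₁) (F : Type) [Field F] [Fintype F] (n q : ℕ)
    (hF : Fintype.card F = q ^ 2) (hn : 2 ≤ n) (h : IsLaw w (Cfsg.PSU n F q)) :
    Nat.card (Cfsg.PSU n F q) ≤ ((N₀ + 1) ^ 2) ^ ((2 * N₁ + 1) ^ 2) := by
  obtain ⟨K, _, _, hK⟩ := exists_field_of_sq hF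
  obtain ⟨e⟩ := Cfsg.Agent.Lib.H2.SU2.main (F := F) (K := K) hF hK
  have h1 : q < N₀ := by
    rw [← hK]
    refine hB.field K (h.center_quot ((suIncl q 2 n hn).comp e.symm.toMonoidHom) ?_)
    exact (suIncl_injective q 2 n hn).comp e.symm.injective
  have h2 : n < N₁ := hB.rank n (h.center_quot (altToSU q n) (altToSU_injective q n))
  refine (card_center_quot_le (X := Cfsg.SU n F q) (ι := Fin n) (F := F)
    (fun g => ((g : SpecialLinearGroup (Fin n) F) : Matrix (Fin n) (Fin n) F))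
    (Subtype.val_injective.comp Subtype.val_injective)).trans ?_
  apply pow_bound
  · rw [hF]
    exact Nat.pow_le_pow_left (by omega) 2
  · rw [Fintype.card_fin]
    omega

end Cfsg.Agent.Lib.H12.Law
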