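import Mathlib

/-!
# Linearised polynomials over a finite field (helper12)

For a finite field `F` of characteristic `p` with `p ^ n` elements:

* `coeff_eq_zero` / `coeff_unique`: the coefficients of a `p`-polynomial `∑_{i<n} a_i x^(p^i)` are
  determined by its values;
* `exists_linearized`: every additive map `F →+ F` is given by a (unique) `p`-polynomial;
* `exists_bilinearized`: every biadditive map `F → F → F` is `∑ c_ij x^(p^i) y^(p^j)`.
-/

set_option autoImplicit false

namespace Cfsg.Agent.Lib.H12.LinPoly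

open Polynomial Finset

variable {F : Type*} [Field F] [Fintype F]

/-- the `p`-polynomial with coefficient vector `a` -/
noncomputable def lin (p n : ℕ) (a : Fin n → F) : F[X] :=
  ∑ i : Fin n, C (a i) * X ^ (p ^ (i : ℕ))

omit [Fintype F] in
theorem lin_eval (p n : ℕ) (a : Fin n → F) (x : F) :
    (lin p n a).eval x = ∑ i : Fin n, a i * x ^ (p ^ (i : ℕ)) := by
  simp [lin, eval_finsetSum]

omit [Fintype F] in
theorem lin_natDegree_lt (p n : ℕ) (hp : 1 < p) (a : Fin n → F) :
    (lin p n a).natDegree < p ^ n := by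
  have h1 : (lin p n a).natDegree ≤ p ^ n - 1 := by
    unfold lin
    apply natDegree_sum_le_of_forall_le
    intro i _
    have h2 : (C (a i) * X ^ (p ^ (i : ℕ)) : F[X]).natDegree ≤ p ^ (i : ℕ) :=
      natDegree_C_mul_X_pow_le (a i) (p ^ (i : ℕ))
    have h3 : p ^ (i : ℕ) < p ^ n := Nat.pow_lt_pow_right hp i.2
    omega
  have h4 : 0 < p ^ n := Nat.pow_pos (by omega)
  omega

omit [Fintype F] in
theorem lin_coeff (p n : ℕ) (hp : 1 < p) (a : Fin n → F) (j : Fin n) :
    (lin p n a).coeff (p ^ (j : ℕ)) = a j := by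
  unfold lin
  rw [finsetSum_coeff]
  rw [Finset.sum_eq_single j]
  · simp
  · intro i _ hij
    rw [coeff_C_mul, coeff_X_pow]
    have : p ^ (j : ℕ) ≠ p ^ (i : ℕ) := by
      intro h
      apply hij
      exact Fin.ext ((Nat.pow_right_injective hp h).symm)
    simp [this]
  · intro h; exact absurd (Finset.mem_univ j) h

/-- a `p`-polynomial vanishing everywhere has zero coefficients -/
theorem coeff_eq_zero (p n : ℕ) (hp : 1 < p) (hcard : Fintype.card F = p ^ n) (a : Fin n → F)
    (h : ∀ x : F, ∑ i : Fin n, a i * x ^ (p ^ (i : ℕ)) = 0) : a = 0 := by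
  have h0 : lin p n a = 0 := by
    apply eq_zero_of_natDegree_lt_card_of_eval_eq_zero (lin p n a) (f := (id : F → F))
      Function.injective_id
    · intro x
      rw [id, lin_eval]
      exact h x
    · rw [hcard]
      exact lin_natDegree_lt p n hp a
  funext j
  have := lin_coeff p n hp a j
  rw [h0, coeff_zero] at this
  simpa using this.symm

/-- the coefficients of a `p`-polynomial are determined by its values -/
theorem coeff_unique (p n : ℕ) (hp : 1 < p) (hcard : Fintype.card F = p ^ n) (a b : Fin n → F)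
    (h : ∀ x : F, ∑ i : Fin n, a i * x ^ (p ^ (i : ℕ)) = ∑ i : Fin n, b i * x ^ (p ^ (i : ℕ))) :
    a = b := by
  have h1 : a - b = 0 := by
    apply coeff_eq_zero p n hp hcard
    intro x
    have : ∑ i : Fin n, (a - b) i * x ^ (p ^ (i : ℕ)) =
        ∑ i : Fin n, a i * x ^ (p ^ (i : ℕ)) - ∑ i : Fin n, b i * x ^ (p ^ (i : ℕ)) := by
      rw [← Finset.sum_sub_distrib]
      apply Finset.sum_congr rfl
      intro i _
      rw [Pi.sub_apply, sub_mul]
    rw [this, h x, sub_self]
  exact sub_eq_zero.mp h1

/-- the additive map of a `p`-polynomial -/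
noncomputable def linMap (p n : ℕ) [Fact p.Prime] [CharP F p] (a : Fin n → F) : F →+ F where
  toFun x := ∑ i : Fin n, a i * x ^ (p ^ (i : ℕ))
  map_zero' := by
    apply Finset.sum_eq_zero
    intro i _
    have : p ^ (i : ℕ) ≠ 0 := pow_ne_zero _ (Fact.out : p.Prime).ne_zero
    rw [zero_pow this, mul_zero]
  map_add' x y := by
    rw [← Finset.sum_add_distrib]
    apply Finset.sum_congr rfl
    intro i _
    rw [add_pow_char_pow, mul_add]

omit [Fintype F] in
theorem linMap_apply (p n : ℕ) [Fact p.Prime] [CharP F p] (a : Fin n → F) (x : F) :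
    linMap p n a x = ∑ i : Fin n, a i * x ^ (p ^ (i : ℕ)) := rfl

theorem linMap_injective (p n : ℕ) [Fact p.Prime] [CharP F p] (hcard : Fintype.card F = p ^ n) :
    Function.Injective (linMap (F := F) p n) := by
  intro a b hab
  apply coeff_unique p n (Fact.out : p.Prime).one_lt hcard
  intro x
  have := congrArg (fun f : F →+ F => f x) hab
  simpa [linMap_apply] using this

theorem natCard_addMonoidHom (p n : ℕ) [Fact p.Prime] [CharP F p]
    (hcard : Fintype.card F = p ^ n) : Nat.card (F →+ F) = p ^ (n * n) := by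
  let _ : Algebra (ZMod p) F := ZMod.algebra F p
  have hfin : Module.Finite (ZMod p) F := Module.Finite.of_finite
  have h1 : Nat.card (F →+ F) = Nat.card (F →ₗ[ZMod p] F) :=
    Nat.card_congr (AddMonoidHom.toZModLinearMapEquiv p (M := F) (M₁ := F)).toEquiv
  have hd : Module.finrank (ZMod p) F = n := by
    have h2 : Nat.card F = Nat.card (ZMod p) ^ Module.finrank (ZMod p) F :=
      Module.natCard_eq_pow_finrank
    rw [Nat.card_eq_fintype_card, hcard, Nat.card_eq_fintype_card, ZMod.card] at h2
    exact (Nat.pow_right_injective (Fact.out : p.Prime).two_le h2).symm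
  have h3 : Nat.card (F →ₗ[ZMod p] F) =
      Nat.card (ZMod p) ^ Module.finrank (ZMod p) (F →ₗ[ZMod p] F) :=
    Module.natCard_eq_pow_finrank
  rw [h1, h3, Module.finrank_linearMap, hd, Nat.card_eq_fintype_card, ZMod.card]

/-- every additive endomorphism of `F` is a `p`-polynomial -/
theorem exists_linearized (p n : ℕ) [Fact p.Prime] [CharP F p] (hcard : Fintype.card F = p ^ n)
    (f : F →+ F) : ∃ a : Fin n → F, ∀ x : F, f x = ∑ i : Fin n, a i * x ^ (p ^ (i : ℕ)) := by
  have hfinite : Finite (F →+ F) := by
    apply Nat.finite_of_card_ne_zero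
    rw [natCard_addMonoidHom p n hcard]
    exact pow_ne_zero _ (Fact.out : p.Prime).ne_zero
  have hc : Nat.card (Fin n → F) = Nat.card (F →+ F) := by
    rw [natCard_addMonoidHom p n hcard, Nat.card_eq_fintype_card, Fintype.card_fun,
      Fintype.card_fin, hcard, ← pow_mul]
  have hbij : Function.Bijective (linMap (F := F) p n) := by
    rw [Nat.bijective_iff_injective_and_card]
    exact ⟨linMap_injective p n hcard, hc⟩
  obtain ⟨a, ha⟩ := hbij.2 f
  exact ⟨a, fun x => by rw [← ha]; rfl⟩

/-- every biadditive map `F → F → F` is a `p`-polynomial in two variables -/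
theorem exists_bilinearized (p n : ℕ) [Fact p.Prime] [CharP F p] (hcard : Fintype.card F = p ^ n)
    (β : F → F → F) (hl : ∀ x y z : F, β (x + y) z = β x z + β y z)
    (hr : ∀ x y z : F, β x (y + z) = β x y + β x z) :
    ∃ c : Fin n → Fin n → F, ∀ x y : F,
      β x y = ∑ i : Fin n, ∑ j : Fin n, c i j * x ^ (p ^ (i : ℕ)) * y ^ (p ^ (j : ℕ)) := by
  have hp1 : 1 < p := (Fact.out : p.Prime).one_lt
  -- for each `x` the coefficients of `β x ·`
  have h1 : ∀ x : F, ∃ b : Fin n → F, ∀ y : F, β x y = ∑ j : Fin n, b j * y ^ (p ^ (j : ℕ)) := by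
    intro x
    have hz : β x 0 = 0 := by
      have := hr x 0 0
      rw [add_zero] at this
      exact left_eq_add.mp this
    exact exists_linearized p n hcard
      { toFun := β x, map_zero' := hz, map_add' := hr x }
  choose b hb using h1
  -- `b` is additive in `x`
  have hbadd : ∀ x x' : F, b (x + x') = b x + b x' := by
    intro x x'
    apply coeff_unique p n hp1 hcard
    intro y
    rw [← hb (x + x') y, hl, hb x y, hb x' y, ← Finset.sum_add_distrib]
    apply Finset.sum_congr rfl
    intro j _
    rw [Pi.add_apply, add_mul]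
  have hb0 : b 0 = 0 := by
    have := hbadd 0 0
    rw [add_zero] at this
    exact left_eq_add.mp this
  -- each coefficient function is a `p`-polynomial in `x`
  have h2 : ∀ j : Fin n, ∃ a : Fin n → F, ∀ x : F, b x j = ∑ i : Fin n, a i * x ^ (p ^ (i : ℕ)) := by
    intro j
    exact exists_linearized p n hcard
      { toFun := fun x => b x j
        map_zero' := by rw [hb0]; rfl
        map_add' := fun x x' => by rw [hbadd]; rfl }
  choose a ha using h2
  refine ⟨fun i j => a j i, ?_⟩
  intro x y
  rw [hb x y, Finset.sum_comm]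
  apply Finset.sum_congr rfl
  intro j _
  rw [ha j x, Finset.sum_mul]

end Cfsg.Agent.Lib.H12.LinPoly
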