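import Cfsg.Agent.Lib.H12.O5760E3

/-!
S4429 piece (F3) `arith11`: PURE integer combinatorics behind the principal 11-block of a group with a
self-centralizing Sylow 11-subgroup whose normalizer has order 55.
-/

set_option autoImplicit false

namespace Cfsg.Agent.Lib.H12.M7920

open scoped BigOperators
universe u

/-- split a sum over a fintype at two distinct points. -/
theorem sum_split_two {ι : Type u} [Fintype ι] [DecidableEq ι] (F : ι → ℤ) (j₁ j₂ : ι) (h : j₁ ≠ j₂) :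
    ∑ i, F i = F j₁ + F j₂ + ∑ i, (if i = j₁ ∨ i = j₂ then 0 else F i) := by
  have h1 : ∀ i, F i = (if i = j₁ then F i else 0) + (if i = j₂ then F i else 0)
      + (if i = j₁ ∨ i = j₂ then 0 else F i) := by
    intro i
    by_cases a : i = j₁
    · have b : i ≠ j₂ := fun b => h (a.symm.trans b)
      rw [if_pos a, if_neg b, if_pos (Or.inl a)]
      ring
    · by_cases b : i = j₂
      · rw [if_neg a, if_pos b, if_pos (Or.inr b)]
        ring
      · rw [if_neg a, if_neg b, if_neg (by tauto)]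
        ring
  calc ∑ i, F i = ∑ i, ((if i = j₁ then F i else 0) + (if i = j₂ then F i else 0)
      + (if i = j₁ ∨ i = j₂ then 0 else F i)) := Finset.sum_congr rfl (fun i _ => h1 i)
    _ = F j₁ + F j₂ + ∑ i, (if i = j₁ ∨ i = j₂ then 0 else F i) := by
      rw [Finset.sum_add_distrib, Finset.sum_add_distrib, Finset.sum_ite_eq', Finset.sum_ite_eq']
      simp

theorem sq_eq_one_of_le_two (a : ℤ) (h0 : a ^ 2 ≠ 0) (h2 : a ^ 2 ≤ 2) : a = 1 ∨ a = -1 := by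
  have h1 : -1 ≤ a := by nlinarith
  have h3 : a ≤ 1 := by nlinarith
  have h4 : a ≠ 0 := fun h => h0 (by rw [h]; norm_num)
  omega

theorem bound_of_sq_le_five (a : ℤ) (h : a ^ 2 ≤ 5) : -2 ≤ a ∧ a ≤ 2 := by
  constructor <;> nlinarith

/-- the final case analysis of `arith11`, isolated. -/
theorem final_cases (a1 a2 mj1 mj2 dd R T : ℤ) (hm1 : mj1 = 1 ∨ mj1 = -1) (hmneg : mj2 = -mj1)
    (sAM : a1 * mj1 + a2 * mj2 = 1) (sA : 6 = a1 ^ 2 + a2 ^ 2 + R) (hR1 : 1 ≤ R)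
    (sdA : 0 = dd * a1 + dd * a2 + T) (hbad : a1 ^ 2 + a2 ^ 2 = 5 → T = 1) :
    (a1 = mj1 ∧ a2 = 0 ∧ R = 5 ∧ T + mj1 * dd = 0) ∨ (a2 = mj2 ∧ a1 = 0 ∧ R = 5 ∧ T + mj2 * dd = 0) := by
  have hAA : a1 ^ 2 + a2 ^ 2 ≤ 5 := by linarith
  obtain ⟨l1, u1⟩ := bound_of_sq_le_five a1 (by have := sq_nonneg a2; linarith)
  obtain ⟨l2, u2⟩ := bound_of_sq_le_five a2 (by have := sq_nonneg a1; linarith)
  subst hmneg
  rcases hm1 with h | h <;> subst h
  · -- a1 - a2 = 1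
    have hrel : a1 = a2 + 1 := by linarith
    subst hrel
    interval_cases a2
    · right; exfalso
      have hT := hbad (by norm_num)
      rw [hT] at sdA
      omega
    · right; refine ⟨by norm_num, by norm_num, by linarith, by linarith⟩
    · left; refine ⟨by norm_num, rfl, by linarith, by linarith⟩
    · exfalso
      have hT := hbad (by norm_num)
      rw [hT] at sdA
      omega
    · exfalso
      norm_num at hAA
  · -- a2 - a1 = 1
    have hrel : a2 = a1 + 1 := by linarith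
    subst hrel
    interval_cases a1
    · exfalso
      have hT := hbad (by norm_num)
      rw [hT] at sdA
      omega
    · left; refine ⟨by norm_num, by norm_num, by linarith, by linarith⟩
    · right; refine ⟨by norm_num, rfl, by linarith, by linarith⟩
    · exfalso
      have hT := hbad (by norm_num)
      rw [hT] at sdA
      omega
    · exfalso
      norm_num at hAA

theorem arith11 {ι : Type u} [Fintype ι] [DecidableEq ι] (A m d : ι → ℤ) (i₁ : ι)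
    (hA1 : A i₁ = 1) (hm1 : m i₁ = 0) (hd1 : d i₁ = 1) (hdpos : ∀ i, 0 < d i)
    (hf : ∑ i, (A i ^ 2 - A i * m i + 3 * m i ^ 2) = 11)
    (h2a : ∑ i, (A i ^ 2 - 3 * m i ^ 2) = 0) (h2b : ∑ i, (2 * A i * m i - m i ^ 2) = 0)
    (hdA : ∑ i, d i * A i = 0) (hdm : ∑ i, d i * m i = 0) :
    ∃ (σ : ℤ) (j₁ j₂ : ι), (σ = 1 ∨ σ = -1) ∧ j₁ ≠ i₁ ∧ j₂ ≠ i₁ ∧ j₁ ≠ j₂ ∧
      A j₁ = σ ∧ m j₁ = σ ∧ A j₂ = 0 ∧ m j₂ = -σ ∧ d j₁ = d j₂ ∧
      (∀ i, i ≠ j₁ → i ≠ j₂ → m i = 0) ∧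
      ∑ i, (if i = j₁ ∨ i = j₂ then 0 else A i ^ 2) = 5 ∧
      ∑ i, (if i = j₁ ∨ i = j₂ then 0 else d i * A i) + σ * d j₁ = 0 := by
  -- the three totals
  have e1 : ∑ i, (A i ^ 2 - A i * m i + 3 * m i ^ 2)
      = ∑ i, A i ^ 2 - ∑ i, A i * m i + 3 * ∑ i, m i ^ 2 := by
    rw [Finset.sum_add_distrib, Finset.sum_sub_distrib, Finset.mul_sum]
  have e2 : ∑ i, (A i ^ 2 - 3 * m i ^ 2) = ∑ i, A i ^ 2 - 3 * ∑ i, m i ^ 2 := by
    rw [Finset.sum_sub_distrib, Finset.mul_sum]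
  have e3 : ∑ i, (2 * A i * m i - m i ^ 2) = 2 * ∑ i, A i * m i - ∑ i, m i ^ 2 := by
    rw [Finset.sum_sub_distrib, Finset.mul_sum]
    congr 1
    exact Finset.sum_congr rfl (fun i _ => by ring)
  rw [e1] at hf
  rw [e2] at h2a
  rw [e3] at h2b
  have hSM : ∑ i, m i ^ 2 = 2 := by omega
  have hSA : ∑ i, A i ^ 2 = 6 := by omega
  have hSAM : ∑ i, A i * m i = 1 := by omega
  -- the two indices with `m ≠ 0`
  have hnn : ∀ i, 0 ≤ m i ^ 2 := fun i => sq_nonneg _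
  obtain ⟨j₁, -, hj₁0, hj₁le, hrest1⟩ :=
    Cfsg.Agent.Lib.H12.O5760.peel_sum_nonneg Finset.univ (fun i => m i ^ 2) hnn 2 hSM (by norm_num)
  have hmj₁ : m j₁ = 1 ∨ m j₁ = -1 := sq_eq_one_of_le_two _ hj₁0 hj₁le
  have hmj₁sq : m j₁ ^ 2 = 1 := by rcases hmj₁ with h | h <;> rw [h] <;> norm_num
  have hrest1' : ∑ i ∈ Finset.univ.erase j₁, m i ^ 2 = 1 := by
    rw [hrest1]; show (2 : ℤ) - m j₁ ^ 2 = 1; rw [hmj₁sq]; norm_num
  obtain ⟨j₂, hj₂S, hj₂0, hj₂le, hrest2⟩ :=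
    Cfsg.Agent.Lib.H12.O5760.peel_sum_nonneg (Finset.univ.erase j₁) (fun i => m i ^ 2) hnn 1 hrest1'
      (by norm_num)
  have hmj₂ : m j₂ = 1 ∨ m j₂ = -1 := sq_eq_one_of_le_two _ hj₂0 (by linarith)
  have hmj₂sq : m j₂ ^ 2 = 1 := by rcases hmj₂ with h | h <;> rw [h] <;> norm_num
  have hj₂j₁ : j₂ ≠ j₁ := (Finset.mem_erase.mp hj₂S).1
  have hrest2' : ∑ i ∈ (Finset.univ.erase j₁).erase j₂, m i ^ 2 = 0 := by
    rw [hrest2]; show (1 : ℤ) - m j₂ ^ 2 = 0; rw [hmj₂sq]; norm_num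
  have hm0 : ∀ i, i ≠ j₁ → i ≠ j₂ → m i = 0 := by
    intro i h1 h2
    have hi : i ∈ (Finset.univ.erase j₁).erase j₂ := by
      simp [Finset.mem_erase, h1, h2]
    have := (Finset.sum_eq_zero_iff_of_nonneg (fun i _ => hnn i)).mp hrest2' i hi
    exact pow_eq_zero_iff (two_ne_zero) |>.mp this
  have hj₁i₁ : j₁ ≠ i₁ := by
    intro h; rw [h, hm1] at hmj₁; omega
  have hj₂i₁ : j₂ ≠ i₁ := by
    intro h; rw [h, hm1] at hmj₂; omega
  have hj₁j₂ : j₁ ≠ j₂ := Ne.symm hj₂j₁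
  -- split the sums
  have sAM := sum_split_two (fun i => A i * m i) j₁ j₂ hj₁j₂
  have sdm := sum_split_two (fun i => d i * m i) j₁ j₂ hj₁j₂
  have sA := sum_split_two (fun i => A i ^ 2) j₁ j₂ hj₁j₂
  have sdA := sum_split_two (fun i => d i * A i) j₁ j₂ hj₁j₂
  have z1 : ∑ i, (if i = j₁ ∨ i = j₂ then 0 else A i * m i) = 0 := by
    apply Finset.sum_eq_zero
    intro i _
    by_cases h : i = j₁ ∨ i = j₂
    · rw [if_pos h]
    · rw [if_neg h, hm0 i (by tauto) (by tauto), mul_zero]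
  have z2 : ∑ i, (if i = j₁ ∨ i = j₂ then 0 else d i * m i) = 0 := by
    apply Finset.sum_eq_zero
    intro i _
    by_cases h : i = j₁ ∨ i = j₂
    · rw [if_pos h]
    · rw [if_neg h, hm0 i (by tauto) (by tauto), mul_zero]
  beta_reduce at sAM sdm sA sdA
  rw [hSAM, z1, add_zero] at sAM
  rw [hdm, z2, add_zero] at sdm
  rw [hSA] at sA
  rw [hdA] at sdA
  set R : ℤ := ∑ i, (if i = j₁ ∨ i = j₂ then 0 else A i ^ 2) with hR
  set T : ℤ := ∑ i, (if i = j₁ ∨ i = j₂ then 0 else d i * A i) with hT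
  -- `R ≥ 1` from the index `i₁`
  have hgnn : ∀ i, 0 ≤ (if i = j₁ ∨ i = j₂ then 0 else A i ^ 2) := by
    intro i
    split_ifs
    · exact le_refl _
    · exact sq_nonneg _
  have hgi₁ : (if i₁ = j₁ ∨ i₁ = j₂ then 0 else A i₁ ^ 2) = 1 := by
    rw [if_neg (by
      intro h
      rcases h with h | h
      · exact hj₁i₁ h.symm
      · exact hj₂i₁ h.symm), hA1]
    norm_num
  have hRsplit := Finset.add_sum_erase Finset.univ
    (fun i => (if i = j₁ ∨ i = j₂ then 0 else A i ^ 2)) (Finset.mem_univ i₁)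
  beta_reduce at hRsplit
  rw [hgi₁, ← hR] at hRsplit
  have hR' : 0 ≤ ∑ i ∈ Finset.univ.erase i₁, (if i = j₁ ∨ i = j₂ then 0 else A i ^ 2) :=
    Finset.sum_nonneg (fun i _ => hgnn i)
  have hR1 : 1 ≤ R := by linarith
  -- `d j₁ = d j₂`, `m j₂ = - m j₁`
  have hd₁ := hdpos j₁
  have hd₂ := hdpos j₂
  have hmm : m j₂ = -m j₁ ∧ d j₁ = d j₂ := by
    rcases hmj₁ with h | h <;> rcases hmj₂ with h' | h' <;> rw [h, h'] at sdm <;>
      first
        | (exfalso; linarith)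
        | (refine ⟨by omega, by linarith⟩)
  obtain ⟨hmneg, hdd⟩ := hmm
  -- bounds on `A j₁`, `A j₂`
  have hAA : A j₁ ^ 2 + A j₂ ^ 2 ≤ 5 := by linarith
  have hb1 : -2 ≤ A j₁ ∧ A j₁ ≤ 2 :=
    bound_of_sq_le_five _ (by have := sq_nonneg (A j₂); linarith)
  have hb2 : -2 ≤ A j₂ ∧ A j₂ ≤ 2 :=
    bound_of_sq_le_five _ (by have := sq_nonneg (A j₁); linarith)
  -- the exceptional case kills
  have hbad : A j₁ ^ 2 + A j₂ ^ 2 = 5 → T = 1 := by
    intro h5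
    have hR0 : ∑ i ∈ Finset.univ.erase i₁, (if i = j₁ ∨ i = j₂ then 0 else A i ^ 2) = 0 := by
      linarith
    have hz := (Finset.sum_eq_zero_iff_of_nonneg (fun i _ => hgnn i)).mp hR0
    rw [hT]
    rw [Finset.sum_eq_single i₁]
    · rw [if_neg (by
        intro h
        rcases h with h | h
        · exact hj₁i₁ h.symm
        · exact hj₂i₁ h.symm), hd1, hA1]
      norm_num
    · intro b _ hb
      by_cases h : b = j₁ ∨ b = j₂
      · rw [if_pos h]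
      · rw [if_neg h]
        have := hz b (Finset.mem_erase.mpr ⟨hb, Finset.mem_univ b⟩)
        rw [if_neg h] at this
        have hAb : A b = 0 := pow_eq_zero_iff (two_ne_zero) |>.mp this
        rw [hAb, mul_zero]
    · intro h
      exact absurd (Finset.mem_univ i₁) h
  have hfin := final_cases (A j₁) (A j₂) (m j₁) (m j₂) (d j₁) R T hmj₁ hmneg
    (by rw [hdd] at *; linarith) (by linarith) hR1 (by rw [← hdd] at sdA; linarith) hbad
  have hswapR : ∑ i, (if i = j₂ ∨ i = j₁ then 0 else A i ^ 2) = R := by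
    rw [hR]
    exact Finset.sum_congr rfl (fun i _ => by simp only [or_comm])
  have hswapT : ∑ i, (if i = j₂ ∨ i = j₁ then 0 else d i * A i) = T := by
    rw [hT]
    exact Finset.sum_congr rfl (fun i _ => by simp only [or_comm])
  rcases hfin with ⟨c1, c2, c3, c4⟩ | ⟨c1, c2, c3, c4⟩
  · exact ⟨m j₁, j₁, j₂, hmj₁, hj₁i₁, hj₂i₁, hj₁j₂, c1, rfl, c2, hmneg, hdd, hm0, c3, c4⟩
  · refine ⟨m j₂, j₂, j₁, hmj₂, hj₂i₁, hj₁i₁, hj₂j₁, c1, rfl, c2, by rw [hmneg]; ring, hdd.symm,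
      fun i h1 h2 => hm0 i h2 h1, ?_, ?_⟩
    · rw [hswapR]; exact c3
    · rw [hswapT, ← hdd]; exact c4

end Cfsg.Agent.Lib.H12.M7920
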