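import Cfsg.Agent.Lib.H12.O7920F2

/-!
S0434 piece (VAL3) `values_order3`: values of an irreducible character at an element `t` with `t ^ 3 = 1`.
-/

set_option autoImplicit false

namespace Cfsg.Agent.Lib.H12.M7920

open Cfsg Cfsg.Agent.Lib.L0
open scoped ComplexConjugate BigOperators
universe u

theorem values_order3 {G : Type u} [Group G] [Finite G] (χ : IrrCharacter G) (t : G) (ht : t ^ 3 = 1)
    (d : ℕ) (hd : (χ : G → ℂ) 1 = d) :
    (conj ((χ : G → ℂ) t) = (χ : G → ℂ) t → ∃ v : ℤ, (χ : G → ℂ) t = v ∧ v ≡ d [ZMOD 3]) ∧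
    (¬ 3 ∣ d → 1 ≤ ‖(χ : G → ℂ) t‖ ^ 2) := by
  classical
  obtain ⟨ω, hω⟩ : ∃ ω : ℂ, IsPrimitiveRoot ω 3 := ⟨_, Complex.isPrimitiveRoot_exp 3 (by norm_num)⟩
  obtain ⟨n, R, htr, -, -, -, -⟩ := Cfsg.Agent.Lib.H15.B60.exists_isometric_model χ.1 χ.2
  obtain ⟨a, hpow, hroot, -, -⟩ := Cfsg.Agent.Lib.H9.B60.exists_eigen_list_rep R χ.1 htr
    (finrank_euclideanSpace_fin) t
  have ha3 : ∀ k, a k ^ 3 = 1 := by
    intro k
    obtain ⟨c, hc⟩ := orderOf_dvd_of_pow_eq_one ht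
    rw [hc, pow_mul, hroot k, one_pow]
  have h3 : ω ^ 3 = 1 := hω.pow_eq_one
  have hs : 1 + ω + ω ^ 2 = 0 := by
    have h := hω.geom_sum_eq_zero (by norm_num : 1 < 3)
    simp only [Finset.sum_range_succ, Finset.sum_range_zero, pow_zero, pow_one, zero_add] at h
    exact h
  have hcω : conj ω = ω ^ 2 := by
    have hn : ‖ω‖ = 1 := hω.norm'_eq_one (by norm_num)
    have h0 : ω ≠ 0 := hω.ne_zero (by norm_num)
    have h1 : ω * conj ω = 1 := by
      rw [Complex.mul_conj, Complex.normSq_eq_norm_sq, hn]; norm_num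
    have h2 : ω * ω ^ 2 = 1 := by rw [← h3]; ring
    exact mul_left_cancel₀ h0 (h1.trans h2.symm)
  have hω1 : ω ≠ 1 := hω.ne_one (by norm_num)
  have hω0 : ω ≠ 0 := hω.ne_zero (by norm_num)
  set M : ℕ → ℕ := fun i => (Finset.univ.filter (fun k => a k = ω ^ i)).card with hM
  have hval : ∀ j : ℕ, (χ : G → ℂ) (t ^ j) = ∑ i ∈ Finset.range 3, (M i : ℂ) * (ω ^ i) ^ j := by
    intro j
    rw [hpow j]
    exact Cfsg.Agent.Lib.H12.O7920.pow_sum_eq_mult ω hω a ha3 j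
  have hv1 : (χ : G → ℂ) t = (M 0 : ℂ) + (M 1 : ℂ) * ω + (M 2 : ℂ) * ω ^ 2 := by
    have := hval 1
    simp only [pow_one, Finset.sum_range_succ, Finset.sum_range_zero, zero_add, pow_zero] at this
    rw [this]
    ring
  have hv0 : (d : ℂ) = (M 0 : ℂ) + (M 1 : ℂ) + (M 2 : ℂ) := by
    have := hval 0
    simp only [pow_zero, Finset.sum_range_succ, Finset.sum_range_zero, zero_add, mul_one] at this
    rw [← hd, this]
  have hdN : d = M 0 + M 1 + M 2 := by exact_mod_cast hv0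
  have hconj : conj ((χ : G → ℂ) t) = (M 0 : ℂ) + (M 1 : ℂ) * ω ^ 2 + (M 2 : ℂ) * ω := by
    rw [hv1]
    simp only [map_add, map_mul, map_natCast, map_pow, hcω]
    have : (ω ^ 2) ^ 2 = ω := by
      calc (ω ^ 2) ^ 2 = ω ^ 3 * ω := by ring
        _ = ω := by rw [h3]; ring
    rw [this]
  constructor
  · intro hreal
    rw [hconj, hv1] at hreal
    have h1 : ((M 1 : ℂ) - (M 2 : ℂ)) * (ω ^ 2 - ω) = 0 := by linear_combination hreal
    have h2 : ω ^ 2 - ω ≠ 0 := by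
      intro h
      have : ω * (ω - 1) = 0 := by linear_combination h
      rcases mul_eq_zero.mp this with h' | h'
      · exact hω0 h'
      · exact hω1 (sub_eq_zero.mp h')
    have h4 : (M 1 : ℂ) = (M 2 : ℂ) := sub_eq_zero.mp ((mul_eq_zero.mp h1).resolve_right h2)
    have h5 : M 1 = M 2 := by exact_mod_cast h4
    refine ⟨(M 0 : ℤ) - M 1, ?_, ?_⟩
    · rw [hv1, ← h4]
      push_cast
      linear_combination (M 1 : ℂ) * hs
    · rw [Int.modEq_iff_dvd]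
      refine ⟨(M 1 : ℤ), ?_⟩
      rw [hdN, ← h5]
      push_cast
      ring
  · intro h3d
    have hN : ((χ : G → ℂ) t) * conj ((χ : G → ℂ) t) =
        (((M 0 : ℤ) ^ 2 + (M 1 : ℤ) ^ 2 + (M 2 : ℤ) ^ 2 - (M 0 : ℤ) * M 1 - (M 1 : ℤ) * M 2
          - (M 2 : ℤ) * M 0 : ℤ) : ℂ) := by
      rw [hconj, hv1]
      push_cast
      linear_combination ((M 0 : ℂ) * M 1 + (M 1 : ℂ) * M 2 + (M 2 : ℂ) * M 0) * hs
        + ((M 1 : ℂ) ^ 2 + (M 2 : ℂ) ^ 2 + (M 1 : ℂ) * M 2 * ω) * h3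
    set N : ℤ := (M 0 : ℤ) ^ 2 + (M 1 : ℤ) ^ 2 + (M 2 : ℤ) ^ 2 - (M 0 : ℤ) * M 1 - (M 1 : ℤ) * M 2
          - (M 2 : ℤ) * M 0 with hNdef
    have hN1 : 1 ≤ N := by
      by_contra hlt
      have hle : N ≤ 0 := by omega
      have hsq : ((M 0 : ℤ) - M 1) ^ 2 + ((M 1 : ℤ) - M 2) ^ 2 + ((M 2 : ℤ) - M 0) ^ 2 ≤ 0 := by
        have : ((M 0 : ℤ) - M 1) ^ 2 + ((M 1 : ℤ) - M 2) ^ 2 + ((M 2 : ℤ) - M 0) ^ 2 = 2 * N := by
          rw [hNdef]; ring
        rw [this]; linarith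
      have e1 : (M 0 : ℤ) - M 1 = 0 := by
        have := sq_nonneg ((M 0 : ℤ) - M 1)
        have := sq_nonneg ((M 1 : ℤ) - M 2)
        have := sq_nonneg ((M 2 : ℤ) - M 0)
        have h0 : ((M 0 : ℤ) - M 1) ^ 2 = 0 := by linarith
        exact pow_eq_zero_iff (two_ne_zero) |>.mp h0
      have e2 : (M 1 : ℤ) - M 2 = 0 := by
        have := sq_nonneg ((M 0 : ℤ) - M 1)
        have := sq_nonneg ((M 1 : ℤ) - M 2)
        have := sq_nonneg ((M 2 : ℤ) - M 0)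
        have h0 : ((M 1 : ℤ) - M 2) ^ 2 = 0 := by linarith
        exact pow_eq_zero_iff (two_ne_zero) |>.mp h0
      apply h3d
      refine ⟨M 0, ?_⟩
      have e1' : M 0 = M 1 := by omega
      have e2' : M 1 = M 2 := by omega
      rw [hdN, ← e2', ← e1']
      ring
    rw [Complex.mul_conj] at hN
    have hre : Complex.normSq ((χ : G → ℂ) t) = (N : ℝ) := by
      have : ((Complex.normSq ((χ : G → ℂ) t) : ℝ) : ℂ) = (((N : ℝ)) : ℂ) := by
        rw [hN]; push_cast; rfl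
      exact Complex.ofReal_injective this
    rw [← Complex.normSq_eq_norm_sq, hre]
    exact_mod_cast hN1

end Cfsg.Agent.Lib.H12.M7920
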