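/-
S2549 piece LEVI (architect helper8; piece by helper12): (a) `B = (B ∩ s⁻¹ B s) X_s` for `GM a b = O⁻_{2m+2}`:
`exists_mid_solve`, `diag_ne_zero`, `exists_XM_factor`, `root_factorM`.
-/
import Cfsg.Agent.Lib.H12.MBNOMS
import Cfsg.Agent.Lib.H1.MBNNONTRIV
import Cfsg.Agent.Lib.H22.MBNXY

set_option autoImplicit false

namespace Cfsg.Agent.Lib.H12.MBN

open Matrix Cfsg.Agent.Lib.H12.DCos Cfsg.Agent.Lib.H8.FBN Cfsg.Agent.Lib.H8.MBN

variable {F : Type*} [Field F] {m : ℕ} (a b : F)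

/-! ### generalities -/

theorem lv_def (k : Fin (2 * m + 2)) : lv k = if (k : ℕ) ≤ m then (k : ℕ) else (k : ℕ) - 1 := rfl

/-- right multiplication by a matrix unit -/
theorem mul_single_apply' (M : Matrix (Fin (2 * m + 2)) (Fin (2 * m + 2)) F) (i' j' : Fin (2 * m + 2)) (c : F)
    (i j : Fin (2 * m + 2)) : (M * Matrix.single i' j' c) i j = if j = j' then M i i' * c else 0 := by
  by_cases h : j = j'
  · subst h
    rw [if_pos rfl, Matrix.mul_single_apply_same]
  · rw [if_neg h, Matrix.mul_single_apply_of_ne _ _ _ _ _ h]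

/-- the columns of `M * xS k l c` -/
theorem mul_xS_apply (k l : Fin (2 * m + 2)) (c : F) (M : Matrix (Fin (2 * m + 2)) (Fin (2 * m + 2)) F)
    (t u : Fin (2 * m + 2)) :
    (M * xS k l c) t u = M t u + (if u = l then M t k * c else 0) - (if u = k.rev then M t l.rev * c else 0) := by
  unfold xS xSm
  rw [Matrix.mul_sub, Matrix.mul_add, Matrix.mul_one, Matrix.sub_apply, Matrix.add_apply, mul_single_apply',
    mul_single_apply', RingHom.id_apply]

/-- the columns of `M * xW a b k w₀ w₁` -/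
theorem mul_xW_apply (k : Fin (2 * m + 2)) (w₀ w₁ : F) (M : Matrix (Fin (2 * m + 2)) (Fin (2 * m + 2)) F)
    (t u : Fin (2 * m + 2)) :
    (M * xW a b k w₀ w₁) t u = M t u + (if u = k.rev then M t p0 * w₀ else 0) +
      (if u = k.rev then M t p1 * w₁ else 0) - (if u = k.rev then M t k * QW a b w₀ w₁ else 0) -
      (if u = p0 then M t k * (2 * w₀ + a * w₁) else 0) - (if u = p1 then M t k * (a * w₀ + 2 * b * w₁) else 0) := by
  unfold xW
  rw [Matrix.mul_sub, Matrix.mul_sub, Matrix.mul_sub, Matrix.mul_add, Matrix.mul_add, Matrix.mul_one,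
    Matrix.sub_apply, Matrix.sub_apply, Matrix.sub_apply, Matrix.add_apply, Matrix.add_apply,
    mul_single_apply', mul_single_apply', mul_single_apply', mul_single_apply', mul_single_apply']

/-- the polar form when the second vector has no middle component -/
theorem Bm_of_mid_zero (u v : Fin (2 * m + 2) → F) (h0 : v p0 = 0) (h1 : v p1 = 0) :
    Bm a b u v = ∑ i : Fin (2 * m + 2), if (i : ℕ) < m then u i * v i.rev + u i.rev * v i else 0 := by
  rw [Bm_eq_sum, h0, h1]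
  ring

/-- the quadratic form of a vector without middle component -/
theorem Qm_of_mid_zero (v : Fin (2 * m + 2) → F) (h0 : v p0 = 0) (h1 : v p1 = 0) :
    Qm a b v = ∑ i : Fin (2 * m + 2), if (i : ℕ) < m then v i * v i.rev else 0 := by
  unfold Qm
  rw [h0, h1]
  ring

/-! ### the middle block and the diagonal of an element of `B` -/

/-- the outer diagonal entries of an element of `B` are nonzero -/
theorem diag_ne_zero (b' : ↥(GM (m := m) a b)) (hb : b' ∈ BsM a b) (k : Fin (2 * m + 2)) (hk : ¬ IsMid k) :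
    (b'.1 : Matrix (Fin (2 * m + 2)) (Fin (2 * m + 2)) F) k k ≠ 0 := by
  have hinv : b'⁻¹ ∈ BsM a b := (BsM a b).inv_mem hb
  have h := congrFun (congrFun (val_mul_inv a b b') k) k
  rw [isUpB_mul_diag (mem_BsM.mp hb) (mem_BsM.mp hinv) k hk, Matrix.one_apply_eq] at h
  exact left_ne_zero_of_mul_eq_one h

/-- the middle `2 × 2` block of an element of `B` is invertible: solve `M w = v` -/
theorem exists_mid_solve (b' : ↥(GM (m := m) a b)) (hb : b' ∈ BsM a b) (v₀ v₁ : F) :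
    ∃ w₀ w₁ : F,
      (b'.1 : Matrix (Fin (2 * m + 2)) (Fin (2 * m + 2)) F) p0 p0 * w₀ +
        (b'.1 : Matrix (Fin (2 * m + 2)) (Fin (2 * m + 2)) F) p0 p1 * w₁ = v₀ ∧
      (b'.1 : Matrix (Fin (2 * m + 2)) (Fin (2 * m + 2)) F) p1 p0 * w₀ +
        (b'.1 : Matrix (Fin (2 * m + 2)) (Fin (2 * m + 2)) F) p1 p1 * w₁ = v₁ := by
  have hinv : b'⁻¹ ∈ BsM a b := (BsM a b).inv_mem hb
  have hm0 : IsMid (p0 : Fin (2 * m + 2)) := (isMid_iff _).mpr (Or.inl rfl)
  have hm1 : IsMid (p1 : Fin (2 * m + 2)) := (isMid_iff _).mpr (Or.inr rfl)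
  have hne : (p0 : Fin (2 * m + 2)) ≠ p1 := p0_ne_p1
  have e00 := congrFun (congrFun (val_mul_inv a b b') p0) p0
  have e01 := congrFun (congrFun (val_mul_inv a b b') p0) p1
  have e10 := congrFun (congrFun (val_mul_inv a b b') p1) p0
  have e11 := congrFun (congrFun (val_mul_inv a b b') p1) p1
  rw [isUpB_mul_mid (mem_BsM.mp hb) (mem_BsM.mp hinv) _ _ hm0 hm0, Matrix.one_apply_eq] at e00
  rw [isUpB_mul_mid (mem_BsM.mp hb) (mem_BsM.mp hinv) _ _ hm0 hm1, Matrix.one_apply_ne hne] at e01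
  rw [isUpB_mul_mid (mem_BsM.mp hb) (mem_BsM.mp hinv) _ _ hm1 hm0, Matrix.one_apply_ne hne.symm] at e10
  rw [isUpB_mul_mid (mem_BsM.mp hb) (mem_BsM.mp hinv) _ _ hm1 hm1, Matrix.one_apply_eq] at e11
  refine ⟨((b'⁻¹ : ↥(GM (m := m) a b)).1 : Matrix (Fin (2 * m + 2)) (Fin (2 * m + 2)) F) p0 p0 * v₀ +
      ((b'⁻¹ : ↥(GM (m := m) a b)).1 : Matrix (Fin (2 * m + 2)) (Fin (2 * m + 2)) F) p0 p1 * v₁,
    ((b'⁻¹ : ↥(GM (m := m) a b)).1 : Matrix (Fin (2 * m + 2)) (Fin (2 * m + 2)) F) p1 p0 * v₀ +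
      ((b'⁻¹ : ↥(GM (m := m) a b)).1 : Matrix (Fin (2 * m + 2)) (Fin (2 * m + 2)) F) p1 p1 * v₁, ?_, ?_⟩
  · linear_combination v₀ * e00 + v₁ * e01
  · linear_combination v₀ * e10 + v₁ * e11

/-! ### the root group factor -/

/-- (a), first half, short roots -/
theorem exists_XM_factor_short (j : Fin m) (hj : (j : ℕ) + 1 < m) (b' : ↥(GM (m := m) a b)) (hb : b' ∈ BsM a b) :
    ∃ x ∈ XM a b j, ∀ k l, PhiM j k l →
      ((b' * x⁻¹).1 : Matrix (Fin (2 * m + 2)) (Fin (2 * m + 2)) F) k l = 0 := by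
  have hj2 := j.2
  have hk0 : ¬ IsMid (loM j : Fin (2 * m + 2)) := by
    unfold IsMid
    rw [loM_val]
    omega
  have hl0 : ¬ IsMid (nxM j : Fin (2 * m + 2)) := by
    unfold IsMid
    rw [nxM_val]
    omega
  have hkl : (loM j : Fin (2 * m + 2)) ≠ nxM j := by
    intro h
    have := congrArg Fin.val h
    rw [loM_val, nxM_val] at this
    omega
  have hkl' : (loM j : Fin (2 * m + 2)) ≠ (nxM j).rev := by
    intro h
    have := congrArg Fin.val h
    rw [Fin.val_rev, loM_val, nxM_val] at this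
    omega
  have hlk' : (nxM j : Fin (2 * m + 2)) ≠ (loM j).rev := by
    intro h
    have := congrArg Fin.val h
    rw [Fin.val_rev, loM_val, nxM_val] at this
    omega
  have hd := diag_ne_zero a b b' hb (loM j) hk0
  set c : F := (b'.1 : Matrix (Fin (2 * m + 2)) (Fin (2 * m + 2)) F) (loM j) (nxM j) /
    (b'.1 : Matrix (Fin (2 * m + 2)) (Fin (2 * m + 2)) F) (loM j) (loM j) with hc_def
  have hx : xSG a b (loM j) (nxM j) c ∈ XM a b j := (Cfsg.Agent.Lib.H1.MBN.xSG_mem_XM' a b j hj c).1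
  refine ⟨xSG a b (loM j) (nxM j) c, hx, ?_⟩
  have hval : ((b' * (xSG a b (loM j) (nxM j) c)⁻¹).1 : Matrix (Fin (2 * m + 2)) (Fin (2 * m + 2)) F) =
      (b'.1 : Matrix (Fin (2 * m + 2)) (Fin (2 * m + 2)) F) * xS (loM j) (nxM j) (-c) := by
    rw [Cfsg.Agent.Lib.H8.MBN.val_mul, xSG_inv a b _ _ hk0 hl0 hkl, xSG_val a b _ _ hk0 hl0 hkl]
  have hb'' : b' * (xSG a b (loM j) (nxM j) c)⁻¹ ∈ BsM a b :=
    (BsM a b).mul_mem hb ((BsM a b).inv_mem (UsM_le_BsM (XM_subset_UsM j hx)))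
  set b'' : ↥(GM (m := m) a b) := b' * (xSG a b (loM j) (nxM j) c)⁻¹ with hb''_def
  have hup : IsUpB (b''.1 : Matrix (Fin (2 * m + 2)) (Fin (2 * m + 2)) F) := mem_BsM.mp hb''
  -- the entry `(j, j+1)`
  have e1 : (b''.1 : Matrix (Fin (2 * m + 2)) (Fin (2 * m + 2)) F) (loM j) (nxM j) = 0 := by
    rw [hval, mul_xS_apply, if_pos rfl, if_neg hlk', hc_def]
    field_simp
    ring
  -- the entry `(rev (j+1), rev j)`: `β(b'' e_{rev j}, b'' e_{j+1}) = 0`
  have e2 : (b''.1 : Matrix (Fin (2 * m + 2)) (Fin (2 * m + 2)) F) (nxM j).rev (loM j).rev = 0 := by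
    have hB := Bm_col a b b'' (loM j).rev (nxM j)
    have hJ : Jm a b ((loM j).rev : Fin (2 * m + 2)) (nxM j) = 0 := by
      rw [Jm_apply, Fin.val_rev, loM_val, if_neg (by omega), if_neg (by omega), Fin.rev_rev, if_neg hkl.symm]
    have hv0 : (b''.1 : Matrix (Fin (2 * m + 2)) (Fin (2 * m + 2)) F) p0 (nxM j) = 0 :=
      hup _ _ (by rw [lv_def, lv_def, p0_val, nxM_val]; split_ifs <;> omega)
    have hv1 : (b''.1 : Matrix (Fin (2 * m + 2)) (Fin (2 * m + 2)) F) p1 (nxM j) = 0 :=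
      hup _ _ (by rw [lv_def, lv_def, p1_val, nxM_val]; split_ifs <;> omega)
    rw [Bm_of_mid_zero a b _ _ hv0 hv1, hJ, Finset.sum_eq_single (nxM j)] at hB
    · beta_reduce at hB
      rw [if_pos (by rw [nxM_val]; exact hj)] at hB
      have h3 : (b''.1 : Matrix (Fin (2 * m + 2)) (Fin (2 * m + 2)) F) (nxM j).rev (nxM j) = 0 :=
        hup _ _ (by rw [lv_def, lv_def, Fin.val_rev, nxM_val]; split_ifs <;> omega)
      rw [h3, mul_zero, zero_add] at hB
      exact (mul_eq_zero.mp hB).resolve_right (diag_ne_zero a b b'' hb'' (nxM j) hl0)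
    · intro i _ hi
      beta_reduce
      split_ifs with him
      · have hi2 := i.2
        have h4 : (b''.1 : Matrix (Fin (2 * m + 2)) (Fin (2 * m + 2)) F) i.rev (nxM j) = 0 :=
          hup _ _ (by rw [lv_def, lv_def, Fin.val_rev, nxM_val]; split_ifs <;> omega)
        rw [h4, mul_zero, zero_add]
        by_cases h5 : (i : ℕ) < j
        · rw [hup i.rev (loM j).rev
            (by rw [lv_def, lv_def, Fin.val_rev, Fin.val_rev, loM_val]; split_ifs <;> omega), zero_mul]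
        · by_cases h6 : (i : ℕ) = j
          · have : i = loM j := Fin.ext h6
            rw [this, e1, mul_zero]
          · have hne : (i : ℕ) ≠ j + 1 := fun h => hi (Fin.ext h)
            rw [hup i (nxM j) (by rw [lv_def, lv_def, nxM_val]; split_ifs <;> omega), mul_zero]
      · rfl
    · intro h
      exact absurd (Finset.mem_univ _) h
  intro k l hΦ
  rw [PhiM_iff, if_pos hj] at hΦ
  rcases hΦ with ⟨h1, h2⟩ | ⟨h1, h2⟩
  · have hk : k = loM j := Fin.ext h1
    have hl : l = nxM j := Fin.ext h2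
    rw [hk, hl]
    exact e1
  · have hk : k = (nxM j).rev := by
      apply Fin.ext
      rw [Fin.val_rev, nxM_val, h1]
      omega
    have hl : l = (loM j).rev := by
      apply Fin.ext
      rw [Fin.val_rev, loM_val, h2]
      omega
    rw [hk, hl]
    exact e2

/-- (a), first half, the last (short-root) reflection -/
theorem exists_XM_factor_last (j : Fin m) (hj : ¬ (j : ℕ) + 1 < m) (b' : ↥(GM (m := m) a b)) (hb : b' ∈ BsM a b) :
    ∃ x ∈ XM a b j, ∀ k l, PhiM j k l →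
      ((b' * x⁻¹).1 : Matrix (Fin (2 * m + 2)) (Fin (2 * m + 2)) F) k l = 0 := by
  have hj2 := j.2
  have hk0 : ¬ IsMid (loM j : Fin (2 * m + 2)) := by
    unfold IsMid
    rw [loM_val]
    omega
  have hkr : ¬ IsMid ((loM j).rev : Fin (2 * m + 2)) := not_isMid_rev hk0
  have hr0 : ((loM j).rev : Fin (2 * m + 2)) ≠ p0 := ne_p0_of_not_isMid hkr
  have hr1 : ((loM j).rev : Fin (2 * m + 2)) ≠ p1 := ne_p1_of_not_isMid hkr
  have hupb : IsUpB (b'.1 : Matrix (Fin (2 * m + 2)) (Fin (2 * m + 2)) F) := mem_BsM.mp hb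
  obtain ⟨w₀, w₁, hw0, hw1⟩ := exists_mid_solve a b b' hb
    ((b'.1 : Matrix (Fin (2 * m + 2)) (Fin (2 * m + 2)) F) p0 (loM j).rev)
    ((b'.1 : Matrix (Fin (2 * m + 2)) (Fin (2 * m + 2)) F) p1 (loM j).rev)
  have hx : xWG a b (loM j) w₀ w₁ ∈ XM a b j := (Cfsg.Agent.Lib.H1.MBN.xWG_mem_XM' a b j hj w₀ w₁).1
  refine ⟨xWG a b (loM j) w₀ w₁, hx, ?_⟩
  have hval : ((b' * (xWG a b (loM j) w₀ w₁)⁻¹).1 : Matrix (Fin (2 * m + 2)) (Fin (2 * m + 2)) F) =
      (b'.1 : Matrix (Fin (2 * m + 2)) (Fin (2 * m + 2)) F) * xW a b (loM j) (-w₀) (-w₁) := by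
    rw [Cfsg.Agent.Lib.H8.MBN.val_mul, xWG_inv a b _ hk0, xWG_val a b _ hk0]
  have hb'' : b' * (xWG a b (loM j) w₀ w₁)⁻¹ ∈ BsM a b :=
    (BsM a b).mul_mem hb ((BsM a b).inv_mem (UsM_le_BsM (XM_subset_UsM j hx)))
  set b'' : ↥(GM (m := m) a b) := b' * (xWG a b (loM j) w₀ w₁)⁻¹ with hb''_def
  have hup : IsUpB (b''.1 : Matrix (Fin (2 * m + 2)) (Fin (2 * m + 2)) F) := mem_BsM.mp hb''
  -- the middle entries of column `m + 2`
  have ep0 : (b''.1 : Matrix (Fin (2 * m + 2)) (Fin (2 * m + 2)) F) p0 (loM j).rev = 0 := by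
    have hz : (b'.1 : Matrix (Fin (2 * m + 2)) (Fin (2 * m + 2)) F) p0 (loM j) = 0 :=
      hupb _ _ (by rw [lv_def, lv_def, p0_val, loM_val]; split_ifs <;> omega)
    rw [hval, mul_xW_apply, if_pos rfl, if_pos rfl, if_pos rfl, if_neg hr0, if_neg hr1, hz]
    linear_combination (-1 : F) * hw0
  have ep1 : (b''.1 : Matrix (Fin (2 * m + 2)) (Fin (2 * m + 2)) F) p1 (loM j).rev = 0 := by
    have hz : (b'.1 : Matrix (Fin (2 * m + 2)) (Fin (2 * m + 2)) F) p1 (loM j) = 0 :=
      hupb _ _ (by rw [lv_def, lv_def, p1_val, loM_val]; split_ifs <;> omega)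
    rw [hval, mul_xW_apply, if_pos rfl, if_pos rfl, if_pos rfl, if_neg hr0, if_neg hr1, hz]
    linear_combination (-1 : F) * hw1
  have hdd := diag_ne_zero a b b'' hb'' (loM j).rev hkr
  -- the entry `(m-1, m+2)`: `Q(b'' e_{m+2}) = 0`
  have etop : (b''.1 : Matrix (Fin (2 * m + 2)) (Fin (2 * m + 2)) F) (loM j) (loM j).rev = 0 := by
    have hQ := Qm_col a b b'' (loM j).rev
    rw [if_neg hr0, if_neg hr1, Qm_of_mid_zero a b _ ep0 ep1, Finset.sum_eq_single (loM j)] at hQ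
    · beta_reduce at hQ
      rw [if_pos (by rw [loM_val]; exact hj2)] at hQ
      exact (mul_eq_zero.mp hQ).resolve_right hdd
    · intro i _ hi
      beta_reduce
      split_ifs with him
      · have hi2 := i.2
        have hne : (i : ℕ) ≠ j := fun h => hi (Fin.ext h)
        rw [hup i.rev (loM j).rev
          (by rw [lv_def, lv_def, Fin.val_rev, Fin.val_rev, loM_val]; split_ifs <;> omega), mul_zero]
      · rfl
    · intro h
      exact absurd (Finset.mem_univ _) h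
  -- the entries `(m-1, p)`, `p` a middle index: `β(b'' e_p, b'' e_{m+2}) = 0`
  have emid : ∀ p : Fin (2 * m + 2), IsMid p →
      (b''.1 : Matrix (Fin (2 * m + 2)) (Fin (2 * m + 2)) F) (loM j) p = 0 := by
    intro p hp
    have hpv : (p : ℕ) = m ∨ (p : ℕ) = m + 1 := hp
    have hB := Bm_col a b b'' p (loM j).rev
    have hJ : Jm a b p ((loM j).rev : Fin (2 * m + 2)) = 0 := by
      rw [Jm_apply, Fin.val_rev, loM_val]
      rcases hpv with h | h
      · rw [if_pos h, if_neg (by omega), if_neg (by omega)]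
      · rw [if_neg (by omega), if_pos h, if_neg (by omega), if_neg (by omega)]
    rw [Bm_of_mid_zero a b _ _ ep0 ep1, hJ, Finset.sum_eq_single (loM j)] at hB
    · beta_reduce at hB
      rw [if_pos (by rw [loM_val]; exact hj2)] at hB
      have h3 : (b''.1 : Matrix (Fin (2 * m + 2)) (Fin (2 * m + 2)) F) (loM j).rev p = 0 :=
        hup _ _ (by rw [lv_def, lv_def, Fin.val_rev, loM_val]; split_ifs <;> omega)
      rw [h3, zero_mul, add_zero] at hB
      exact (mul_eq_zero.mp hB).resolve_right hdd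
    · intro i _ hi
      beta_reduce
      split_ifs with him
      · have hi2 := i.2
        have hne : (i : ℕ) ≠ j := fun h => hi (Fin.ext h)
        rw [hup i.rev (loM j).rev
          (by rw [lv_def, lv_def, Fin.val_rev, Fin.val_rev, loM_val]; split_ifs <;> omega), mul_zero, zero_add,
          hup i.rev p (by rw [lv_def, lv_def, Fin.val_rev]; split_ifs <;> omega), zero_mul]
      · rfl
    · intro h
      exact absurd (Finset.mem_univ _) h
  intro k l hΦ
  have hk2 := k.2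
  have hl2 := l.2
  rw [PhiM_iff, if_neg hj] at hΦ
  rcases hΦ with ⟨h1, h2, h3⟩ | ⟨h1, h2, h3⟩
  · have hk : k = loM j := Fin.ext h1
    rw [hk]
    by_cases hl : (l : ℕ) = 2 * m + 1 - j
    · have : l = (loM j).rev := by
        apply Fin.ext
        rw [Fin.val_rev, loM_val, hl]
        omega
      rw [this]
      exact etop
    · exact emid l (by unfold IsMid; omega)
  · have hl : l = (loM j).rev := by
      apply Fin.ext
      rw [Fin.val_rev, loM_val, h3]
      omega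
    rw [hl]
    have hkm : (k : ℕ) = m ∨ (k : ℕ) = m + 1 := by omega
    rcases hkm with h | h
    · have : k = p0 := Fin.ext h
      rw [this]
      exact ep0
    · have : k = p1 := Fin.ext h
      rw [this]
      exact ep1

/-- (a), first half: the root group element -/
theorem exists_XM_factor (j : Fin m) (b' : ↥(GM (m := m) a b)) (hb : b' ∈ BsM a b) :
    ∃ x ∈ XM a b j, ∀ k l, PhiM j k l →
      ((b' * x⁻¹).1 : Matrix (Fin (2 * m + 2)) (Fin (2 * m + 2)) F) k l = 0 := by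
  by_cases hj : (j : ℕ) + 1 < m
  · exact exists_XM_factor_short a b j hj b' hb
  · exact exists_XM_factor_last a b j hj b' hb

/-- (a) -/
theorem root_factorM (j : Fin m) (b' : ↥(GM (m := m) a b)) (hb : b' ∈ BsM a b) :
    ∃ b'' ∈ BsM a b, ∃ x ∈ XM a b j, b' = b'' * x ∧ sRefM a b j * b'' * (sRefM a b j)⁻¹ ∈ BsM a b := by
  obtain ⟨x, hx, h0⟩ := exists_XM_factor a b j b' hb
  have hb'' : b' * x⁻¹ ∈ BsM a b :=
    (BsM a b).mul_mem hb ((BsM a b).inv_mem (UsM_le_BsM (XM_subset_UsM j hx)))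
  refine ⟨b' * x⁻¹, hb'', x, hx, by group, ?_⟩
  exact Cfsg.Agent.Lib.H22.MBN.sRefM_conj_mem_BsM a b j (b' * x⁻¹) hb'' h0

end Cfsg.Agent.Lib.H12.MBN
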