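import Mathlib
import Cfsg.Agent.Lib.H24.MI.Defs

set_option autoImplicit false

/-!
# S4245 piece K4 (helper12): `|A| = |B| |T|` for `A = B T`, `B` normalized by `A`, coprime orders
-/

namespace Cfsg.Agent.Lib.H12.MI

open Cfsg.Agent.Lib.H24.MI
open scoped Pointwise

/-- K4. `|A| = |B| |T|`. -/
theorem card_eq_mul {G : Type*} [Group G] [Finite G] (A B T : Subgroup G) (hB : B ≤ A) (hT : T ≤ A)
    (hn : A ≤ Subgroup.normalizer (B : Set G)) (hA : A ≤ B ⊔ T) (hcop : (Nat.card B).Coprime (Nat.card T)) :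
    Nat.card A = Nat.card B * Nat.card T := by
  have hAeq : A = B ⊔ T := le_antisymm hA (sup_le hB hT)
  have hset : ((B ⊔ T : Subgroup G) : Set G) = (B : Set G) * (T : Set G) :=
    Subgroup.coe_mul_of_right_le_normalizer_left B T (hT.trans hn)
  have hle : Nat.card A ≤ Nat.card B * Nat.card T := by
    have h1 : Nat.card A = Nat.card ((B : Set G) * (T : Set G) : Set G) := by
      rw [hAeq, ← hset]
      rfl
    rw [h1]
    exact Set.natCard_mul_le
  have hdvd : Nat.card B * Nat.card T ∣ Nat.card A :=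
    Nat.Coprime.mul_dvd_of_dvd_of_dvd hcop (Subgroup.card_dvd_of_le hB) (Subgroup.card_dvd_of_le hT)
  exact le_antisymm hle (Nat.le_of_dvd Nat.card_pos hdvd)

end Cfsg.Agent.Lib.H12.MI
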