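import Mathlib
import Cfsg.Agent.Lib.H24.MI.K7Core
import Cfsg.Agent.Lib.H19.MIK5
import Cfsg.Agent.Lib.H12.MIK4

set_option autoImplicit false

/-!
# S4245 piece K7 (helper12, 2nd seat): the case `|B|` odd

Wrapper: helper24's `solvable_of_odd_of` (K7 core) fed with helper19's K5 and helper12's K4.
-/

namespace Cfsg.Agent.Lib.H12.MI

open Cfsg.Agent.Lib.H24.MI

/-- K7. The case `|B|` odd. -/
theorem solvable_of_odd {G : Type*} [Group G] [Finite G] (p : ℕ) (hp : p.Prime) (A B T : Subgroup G) (s : ℕ)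
    (hBA : B ≤ A) (hTA : T ≤ A) (hn : A ≤ Subgroup.normalizer (B : Set G)) (hsup : A ≤ B ⊔ T) (hB : IsCyclic B)
    (hT : IsCyclic T) (hT2 : IsPGroup 2 T) (hidx : A.index ∣ p ^ s) (hodd : ¬ 2 ∣ Nat.card B) :
    Group.IsSolvable G := by
  obtain ⟨e, he⟩ := (IsPGroup.iff_card (p := 2) (G := T)).mp hT2
  have hcop : (Nat.card B).Coprime (Nat.card T) := by
    rw [he]
    exact Nat.Coprime.pow_right e ((Nat.coprime_comm.mp ((Nat.Prime.coprime_iff_not_dvd Nat.prime_two).mpr hodd)))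
  exact solvable_of_odd_of
    (fun H _ _ B' hB' q t hq h => Cfsg.Agent.Lib.H19.MI.solvable_of_cyclic_index B' hB' q t hq h)
    p hp A B T s hBA hB hT hT2 hidx hodd (card_eq_mul A B T hBA hTA hn hsup hcop)

end Cfsg.Agent.Lib.H12.MI
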