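import Mathlib
import Cfsg.Prelude.Def_SporadicB
import Cfsg.Agent.Lib.H3.FusGen

/-!
# A criterion for the simplicity of the `2`-fusion system of a group "of McLaughlin type" (abstract part)

`G` has one class of involutions, a subgroup `S₀` of order `128 = |G|₂` generated by involutions with centre `{1, t}`,
and `C_G(t)` is a double cover of `A₈`.  Then `N_G(S₀) = S₀` (a Sylow `2`-subgroup of `A₈` is self-normalizing) and
`S₀` has no proper nontrivial strongly closed subgroup, so the `2`-fusion system of `G` is simple.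
-/

set_option autoImplicit false
set_option linter.unusedSectionVars false
set_option linter.unusedVariables false
set_option linter.unusedSimpArgs false

namespace Cfsg.Agent.Lib.H12.McLFus

open Cfsg

variable {G : Type*} [Group G]

theorem card_alt8 : Nat.card ↥(alternatingGroup (Fin 8)) = 20160 := by
  have h := two_mul_card_alternatingGroup (α := Fin 8)
  rw [Fintype.card_perm, Fintype.card_fin] at h
  rw [Nat.card_eq_fintype_card]
  have : (8 : ℕ).factorial = 40320 := by decide
  omega

/-- `N_G(S₀) ≤ S₀` when `Z(S₀) = ⟨t⟩`, `C_G(t)/Z(C_G(t)) ≅ A₈`, `|Z(C_G(t))| = 2` and `|S₀| = 128`. -/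
theorem normalizer_le_of_cover [Finite G] (S₀ : Subgroup G) (t : G) (hS : Nat.card S₀ = 128)
    (htS : t ∈ S₀) (ht1 : t ≠ 1) (htc : ∀ y ∈ S₀, t * y = y * t)
    (hZ : ∀ x ∈ S₀, (∀ y ∈ S₀, x * y = y * x) → x = 1 ∨ x = t)
    (hcard : Nat.card (Subgroup.center ↥(Subgroup.centralizer ({t} : Set G))) = 2)
    (φ : ↥(Subgroup.centralizer ({t} : Set G)) ⧸ Subgroup.center ↥(Subgroup.centralizer ({t} : Set G)) ≃*
      ↥(alternatingGroup (Fin 8)))
    (hA8 : ∀ P : Sylow 2 (alternatingGroup (Fin 8)),
      Subgroup.normalizer ((P : Subgroup (alternatingGroup (Fin 8))) : Set (alternatingGroup (Fin 8))) ≤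
        (P : Subgroup (alternatingGroup (Fin 8)))) :
    Subgroup.normalizer (S₀ : Set G) ≤ S₀ := by
  classical
  have : Fact (Nat.Prime 2) := ⟨Nat.prime_two⟩
  set C : Subgroup G := Subgroup.centralizer ({t} : Set G) with hCdef
  have memC : ∀ x : G, x ∈ C ↔ t * x = x * t := by
    intro x
    rw [hCdef, Subgroup.mem_centralizer_iff]
    constructor
    · intro h; exact h t rfl
    · intro h y hy
      rw [Set.mem_singleton_iff] at hy
      subst hy
      exact h
  have htC : t ∈ C := (memC t).2 rfl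
  set tC : ↥C := ⟨t, htC⟩ with htCdef
  have htCc : tC ∈ Subgroup.center ↥C := by
    rw [Subgroup.mem_center_iff]
    intro y
    apply Subtype.ext
    show (y : G) * t = t * (y : G)
    exact ((memC y.1).1 y.2).symm
  have htC1 : tC ≠ 1 := fun h => ht1 (congrArg Subtype.val h)
  -- the centre of `C` is `{1, tC}`
  have hcen : ∀ z ∈ Subgroup.center ↥C, z = 1 ∨ z = tC := by
    intro z hz
    by_cases hz1 : z = 1
    · exact Or.inl hz1
    right
    obtain ⟨w, -, hw⟩ := (Nat.card_eq_two_iff' (1 : Subgroup.center ↥C)).1 hcard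
    have e1 := hw ⟨z, hz⟩ (fun h => hz1 (congrArg Subtype.val h))
    have e2 := hw ⟨tC, htCc⟩ (fun h => htC1 (congrArg Subtype.val h))
    have := e1.trans e2.symm
    exact congrArg Subtype.val this
  have hSC : S₀ ≤ C := fun s hs => (memC s).2 (htc s hs)
  -- the projection
  let π : ↥C →* ↥(alternatingGroup (Fin 8)) :=
    φ.toMonoidHom.comp (QuotientGroup.mk' (Subgroup.center ↥C))
  have hker : ∀ x : ↥C, π x = 1 ↔ x ∈ Subgroup.center ↥C := by
    intro x
    show φ (QuotientGroup.mk' (Subgroup.center ↥C) x) = 1 ↔ _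
    rw [map_eq_one_iff φ φ.injective]
    exact QuotientGroup.eq_one_iff x
  set S' : Subgroup ↥C := S₀.subgroupOf C with hS'
  have htS' : tC ∈ S' := by rw [hS', Subgroup.mem_subgroupOf]; exact htS
  have hcS' : Nat.card S' = 128 := by
    rw [hS', Nat.card_congr (Subgroup.subgroupOfEquivOfLe hSC).toEquiv, hS]
  -- the image of `S'`
  set Sb : Subgroup ↥(alternatingGroup (Fin 8)) := S'.map π with hSb
  have hcSb : Nat.card Sb = 64 := by
    let f : ↥S' →* ↥(alternatingGroup (Fin 8)) := π.comp S'.subtype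
    have hr : f.range = Sb := by
      rw [hSb, MonoidHom.range_comp, Subgroup.range_subtype]
    have hk : Nat.card f.ker = 2 := by
      have hk1 : ∀ x : ↥S', x ∈ f.ker ↔ x = 1 ∨ x = ⟨tC, htS'⟩ := by
        intro x
        rw [MonoidHom.mem_ker]
        show π (x : ↥C) = 1 ↔ _
        rw [hker]
        constructor
        · intro h
          rcases hcen _ h with h | h
          · exact Or.inl (Subtype.ext h)
          · exact Or.inr (Subtype.ext h)
        · rintro (h | h)
          · rw [h]; exact Subgroup.one_mem _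
          · rw [h]; exact htCc
      rw [Nat.card_eq_two_iff]
      refine ⟨⟨1, Subgroup.one_mem _⟩, ⟨⟨tC, htS'⟩, (hk1 _).2 (Or.inr rfl)⟩, ?_, ?_⟩
      · intro h
        have := congrArg (fun z : f.ker => ((z : ↥S') : ↥C)) h
        exact htC1 this.symm
      · ext x
        simp only [Set.mem_insert_iff, Set.mem_singleton_iff, Set.mem_univ, iff_true]
        rcases (hk1 x.1).1 x.2 with h | h
        · exact Or.inl (Subtype.ext h)
        · exact Or.inr (Subtype.ext h)
    have h1 := Subgroup.card_eq_card_quotient_mul_card_subgroup f.ker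
    rw [Nat.card_congr (QuotientGroup.quotientKerEquivRange f).toEquiv, hr, hk, hcS'] at h1
    omega
  -- `Sb` is a Sylow `2`-subgroup of `A₈`
  have hpSb : IsPGroup 2 Sb := IsPGroup.of_card (n := 6) (by rw [hcSb]; norm_num)
  have hidx : ¬ 2 ∣ Sb.index := by
    have h1 := Sb.card_mul_index
    rw [hcSb, card_alt8] at h1
    have : Sb.index = 315 := by omega
    rw [this]
    norm_num
  let P : Sylow 2 (alternatingGroup (Fin 8)) := hpSb.toSylow hidx
  have hP : (P : Subgroup (alternatingGroup (Fin 8))) = Sb := rfl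
  -- the main argument
  intro h hh
  have hhn : ∀ x, x ∈ S₀ ↔ h * x * h⁻¹ ∈ S₀ := Subgroup.mem_normalizer_iff.1 hh
  -- `h` centralizes `t`
  have hht : h * t * h⁻¹ = t := by
    have hx : h * t * h⁻¹ ∈ S₀ := (hhn t).1 htS
    have hc : ∀ y ∈ S₀, (h * t * h⁻¹) * y = y * (h * t * h⁻¹) := by
      intro y hy
      have hy' : h⁻¹ * y * h ∈ S₀ := by
        rw [hhn]
        have : h * (h⁻¹ * y * h) * h⁻¹ = y := by group
        rw [this]; exact hy
      have e := htc _ hy'
      calc h * t * h⁻¹ * y = h * (t * (h⁻¹ * y * h)) * h⁻¹ := by group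
        _ = h * ((h⁻¹ * y * h) * t) * h⁻¹ := by rw [e]
        _ = y * (h * t * h⁻¹) := by group
    rcases hZ _ hx hc with e | e
    · exfalso
      apply ht1
      have : t = h⁻¹ * (h * t * h⁻¹) * h := by group
      rw [this, e]; group
    · exact e
  have hhC : h ∈ C := by
    rw [memC]
    have : t * h = (h * t * h⁻¹) * h := by rw [hht]
    rw [this]; group
  set h' : ↥C := ⟨h, hhC⟩ with hh'
  have hn' : h' ∈ Subgroup.normalizer (S' : Set ↥C) := by
    rw [Subgroup.mem_normalizer_iff]
    intro x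
    rw [hS', Subgroup.mem_subgroupOf, Subgroup.mem_subgroupOf]
    exact hhn x.1
  have hπn : π h' ∈ Subgroup.normalizer (Sb : Set ↥(alternatingGroup (Fin 8))) := by
    apply Subgroup.le_normalizer_map π
    exact ⟨h', hn', rfl⟩
  have hπS : π h' ∈ Sb := by
    have := hA8 P
    rw [hP] at this
    exact this hπn
  obtain ⟨s, hs, hsπ⟩ := hπS
  have hk : π (s⁻¹ * h') = 1 := by rw [map_mul, map_inv, hsπ, inv_mul_cancel]
  rw [hker] at hk
  have hmem : s⁻¹ * h' ∈ S' := by
    rcases hcen _ hk with e | e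
    · rw [e]; exact Subgroup.one_mem _
    · rw [e]; exact htS'
  have hh'S : h' ∈ S' := by
    have : h' = s * (s⁻¹ * h') := by group
    rw [this]
    exact S'.mul_mem hs hmem
  rw [hS', Subgroup.mem_subgroupOf] at hh'S
  exact hh'S

/-- **The criterion.** -/
theorem isSimple_of_mclType [Finite G]
    (hinv : ∀ x y : G, orderOf x = 2 → orderOf y = 2 → IsConj x y)
    (S₀ : Subgroup G) (t : G) (m : ℕ) (hm : ¬ 2 ∣ m) (hG : Nat.card G = 128 * m) (hS : Nat.card S₀ = 128)
    (htS : t ∈ S₀) (ht1 : t ≠ 1) (htt : t * t = 1) (htc : ∀ y ∈ S₀, t * y = y * t)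
    (hZ : ∀ x ∈ S₀, (∀ y ∈ S₀, x * y = y * x) → x = 1 ∨ x = t)
    (hgen : S₀ ≤ Subgroup.closure {y : G | y ∈ S₀ ∧ y * y = 1})
    (hcard : Nat.card (Subgroup.center ↥(Subgroup.centralizer ({t} : Set G))) = 2)
    (φ : ↥(Subgroup.centralizer ({t} : Set G)) ⧸ Subgroup.center ↥(Subgroup.centralizer ({t} : Set G)) ≃*
      ↥(alternatingGroup (Fin 8)))
    (hA8 : ∀ P : Sylow 2 (alternatingGroup (Fin 8)),
      Subgroup.normalizer ((P : Subgroup (alternatingGroup (Fin 8))) : Set (alternatingGroup (Fin 8))) ≤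
        (P : Subgroup (alternatingGroup (Fin 8))))
    (S : Sylow 2 G) : (Cfsg.groupFusionSystem (S : Subgroup G)).IsSimple 2 := by
  have : Fact (Nat.Prime 2) := ⟨Nat.prime_two⟩
  have hp2 : IsPGroup 2 S₀ := IsPGroup.of_card (n := 7) (by rw [hS]; norm_num)
  have hot : orderOf t = 2 := orderOf_eq_prime (by rw [pow_two]; exact htt) ht1
  obtain ⟨g, hg⟩ := Cfsg.Agent.Lib.H3.FusGen.sylow_conj S₀ m hm hS hG S
  apply Cfsg.Agent.Lib.H25.LieCrit.isSimple_of_gen_conj S S₀ g hg
  · intro h
    rw [h, Subgroup.card_bot] at hS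
    norm_num at hS
  · apply Cfsg.Agent.Lib.H3.FusGen.stronglyClosed_trivial S₀ hp2 t hZ _ hgen
    intro y hy hyy hy1
    have hoy : orderOf y = 2 := orderOf_eq_prime (by rw [pow_two]; exact hyy) hy1
    exact isConj_iff.1 (hinv t y hot hoy)
  · refine (normalizer_le_of_cover S₀ t hS htS ht1 htc hZ hcard φ hA8).trans ?_
    intro x hx
    exact Subgroup.subset_closure (Or.inl hx)

end Cfsg.Agent.Lib.H12.McLFus
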