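import Mathlib
import Cfsg.Prelude.Def_Sporadic_a
import Cfsg.Agent.Lib.H27.McLInvM22
import Cfsg.Agent.Lib.H12.McLSylData

/-!
# A Sylow `2`-subgroup of `M₂₂ ≤ M₂₄` by tables (engine + the concrete group)

`A = ⟨permT g : g ∈ sylGens⟩ ≤ Perm GolayPt` has order `128`, centre `{1, τ}`, is generated by involutions, lies in
`M₂₄` and fixes the points `0` and `1`.
-/

set_option autoImplicit false
set_option linter.unusedSectionVars false
set_option linter.unusedVariables false
set_option linter.unusedSimpArgs false
set_option linter.style.haveILetI false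
set_option maxRecDepth 1000000

namespace Cfsg.Agent.Lib.H12.McLSyl

open Cfsg MulAction Cfsg.Agent.Lib.H28 Cfsg.Agent.Lib.H27 Cfsg.Agent.Lib.H27.Eng Cfsg.Agent.Lib.H27.McLInv
open Cfsg.Agent.Lib.H27.McLInvData Cfsg.Agent.Lib.H27.McLInvData2

/-- the permutation `x` has the index table `t` -/
def Rep (x : Equiv.Perm GolayPt) (t : List ℕ) : Prop := ∀ p : GolayPt, gIdx (x p) = t.getD (gIdx p) 0

/-- composition of tables -/
def compT (a b : List ℕ) : List ℕ := (List.range 24).map (fun k => a.getD (b.getD k 0) 0)

/-- the identity table -/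
def idTab : List ℕ := List.range 24

theorem compT_length (a b : List ℕ) : (compT a b).length = 24 := by
  unfold compT
  simp

theorem compT_getD (a b : List ℕ) {k : ℕ} (hk : k < 24) : (compT a b).getD k 0 = a.getD (b.getD k 0) 0 := by
  unfold compT
  rw [List.getD_eq_getElem _ _ (by simpa using hk)]
  simp

theorem idTab_getD {k : ℕ} (hk : k < 24) : idTab.getD k 0 = k := by
  unfold idTab
  rw [List.getD_eq_getElem _ _ (by simpa using hk)]
  simp

theorem rep_one : Rep 1 idTab := by
  intro p
  rw [Equiv.Perm.one_apply, idTab_getD (gIdx_lt p)]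

theorem Rep.mul {x y : Equiv.Perm GolayPt} {a b : List ℕ} (hx : Rep x a) (hy : Rep y b) :
    Rep (x * y) (compT a b) := by
  intro p
  rw [Equiv.Perm.mul_apply, hx, hy, compT_getD a b (gIdx_lt p)]

theorem Rep.ext {x y : Equiv.Perm GolayPt} {a : List ℕ} (hx : Rep x a) (hy : Rep y a) : x = y := by
  apply Equiv.ext
  intro p
  apply gIdx_injective
  rw [hx, hy]

theorem Rep.tab_eq {x : Equiv.Perm GolayPt} {a b : List ℕ} (hx : Rep x a) (hy : Rep x b)
    (ha : a.length = 24) (hb : b.length = 24) : a = b := by
  apply list_eq_of_getD ha hb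
  intro k hk
  have h1 := hx (gPt k)
  have h2 := hy (gPt k)
  rw [gIdx_gPt hk] at h1 h2
  rw [← h1, ← h2]

theorem permT_eq {t : List ℕ} (h : invOK t = true) :
    permT t = permOfTab t t (tabInv_of_monoOK (invOK_spec h).1) := by
  unfold permT
  rw [dif_pos (tabInv_of_monoOK (invOK_spec h).1)]

theorem rep_permT {t : List ℕ} (h : invOK t = true) : Rep (permT t) t := by
  intro p
  rw [permT_eq h, gIdx_permOfTab]

theorem permT_mul_self {t : List ℕ} (h : invOK t = true) : permT t * permT t = 1 := by
  have h2 := (permT_props h).2.2.2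
  have := pow_orderOf_eq_one (permT t)
  rw [h2, pow_two] at this
  exact this

theorem permT_inv {t : List ℕ} (h : invOK t = true) : (permT t)⁻¹ = permT t :=
  inv_eq_of_mul_eq_one_left (permT_mul_self h)

/-! ### Words -/

/-- the table of a word in the generators -/
def tabOfWord (gens : List (List ℕ)) (w : List ℕ) : List ℕ :=
  w.foldl (fun acc i => compT acc (gens.getD i idTab)) idTab

/-- the permutation of a word in the generators -/
def permOfWord (gens : List (List ℕ)) (w : List ℕ) : Equiv.Perm GolayPt :=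
  w.foldl (fun acc i => acc * permT (gens.getD i idTab)) 1

/-- the subgroup generated by the involutions of the list -/
def genSub (gens : List (List ℕ)) : Subgroup (Equiv.Perm GolayPt) :=
  Subgroup.closure {x | ∃ t ∈ gens, x = permT t}

theorem getD_mem_of_lt (gens : List (List ℕ)) {i : ℕ} (hi : i < gens.length) : gens.getD i idTab ∈ gens := by
  rw [List.getD_eq_getElem _ _ hi]
  exact List.getElem_mem hi

theorem foldl_rep (gens : List (List ℕ)) (hg : ∀ t ∈ gens, invOK t = true) (w : List ℕ)
    (hw : ∀ i ∈ w, i < gens.length) (x : Equiv.Perm GolayPt) (a : List ℕ) (hx : Rep x a) :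
    Rep (w.foldl (fun acc i => acc * permT (gens.getD i idTab)) x)
      (w.foldl (fun acc i => compT acc (gens.getD i idTab)) a) := by
  induction w generalizing x a with
  | nil => exact hx
  | cons i w ih =>
    rw [List.foldl_cons, List.foldl_cons]
    apply ih (fun j hj => hw j (List.mem_cons_of_mem _ hj))
    exact hx.mul (rep_permT (hg _ (getD_mem_of_lt gens (hw i List.mem_cons_self))))

theorem rep_word (gens : List (List ℕ)) (hg : ∀ t ∈ gens, invOK t = true) (w : List ℕ)
    (hw : ∀ i ∈ w, i < gens.length) : Rep (permOfWord gens w) (tabOfWord gens w) :=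
  foldl_rep gens hg w hw 1 idTab rep_one

theorem foldl_mem (gens : List (List ℕ)) (w : List ℕ) (hw : ∀ i ∈ w, i < gens.length)
    (x : Equiv.Perm GolayPt) (hx : x ∈ genSub gens) :
    w.foldl (fun acc i => acc * permT (gens.getD i idTab)) x ∈ genSub gens := by
  induction w generalizing x with
  | nil => exact hx
  | cons i w ih =>
    rw [List.foldl_cons]
    apply ih (fun j hj => hw j (List.mem_cons_of_mem _ hj))
    exact Subgroup.mul_mem _ hx
      (Subgroup.subset_closure ⟨_, getD_mem_of_lt gens (hw i List.mem_cons_self), rfl⟩)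

theorem permOfWord_mem (gens : List (List ℕ)) (w : List ℕ) (hw : ∀ i ∈ w, i < gens.length) :
    permOfWord gens w ∈ genSub gens :=
  foldl_mem gens w hw 1 (Subgroup.one_mem _)

/-- **every element of the subgroup is listed** -/
theorem listed_cover (gens L : List (List ℕ)) (hg : ∀ t ∈ gens, invOK t = true)
    (h1 : idTab ∈ L)
    (hcl : L.all (fun t => gens.all (fun g => L.contains (compT t g))) = true) :
    ∀ x ∈ genSub gens, ∃ t ∈ L, Rep x t := by
  have hmul : ∀ g ∈ gens, ∀ x : Equiv.Perm GolayPt, (∃ t ∈ L, Rep x t) → ∃ t ∈ L, Rep (x * permT g) t := by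
    rintro g hgm x ⟨t, ht, hx⟩
    have h2 := List.all_eq_true.mp (List.all_eq_true.mp hcl t ht) g hgm
    rw [List.contains_iff_mem] at h2
    exact ⟨_, h2, hx.mul (rep_permT (hg g hgm))⟩
  intro x hx
  unfold genSub at hx
  refine Subgroup.closure_induction_right (p := fun x _ => ∃ t ∈ L, Rep x t) ?_ ?_ ?_ hx
  · exact ⟨idTab, h1, rep_one⟩
  · rintro x - y ⟨g, hgm, rfl⟩ hxX
    exact hmul g hgm x hxX
  · rintro x - y ⟨g, hgm, rfl⟩ hxX
    rw [permT_inv (hg g hgm)]
    exact hmul g hgm x hxX

theorem card_list_subtype {α : Type*} (l : List α) (h : l.Nodup) :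
    Nat.card {x // x ∈ l} = l.length := by
  classical
  rw [Nat.card_congr (Equiv.subtypeEquivRight (q := fun x => x ∈ l.toFinset) (by simp)),
    Nat.card_eq_fintype_card, Fintype.card_coe, List.toFinset_card_of_nodup h]

/-- **the order of a listed subgroup** -/
theorem listed_card (gens W L : List (List ℕ)) (hg : ∀ t ∈ gens, invOK t = true)
    (hW : ∀ w ∈ W, ∀ i ∈ w, i < gens.length)
    (hL : W.map (tabOfWord gens) = L)
    (h1 : idTab ∈ L)
    (hcl : L.all (fun t => gens.all (fun g => L.contains (compT t g))) = true)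
    (hnd : L.Nodup) (hlen : ∀ t ∈ L, t.length = 24) :
    Nat.card (genSub gens) = W.length := by
  have hWnd : W.Nodup := by
    rw [← hL] at hnd
    exact List.Nodup.of_map _ hnd
  rw [← card_list_subtype W hWnd]
  symm
  let f : {w // w ∈ W} → genSub gens := fun w => ⟨permOfWord gens w.1, permOfWord_mem gens w.1 (hW w.1 w.2)⟩
  apply Nat.card_congr (Equiv.ofBijective f ⟨?_, ?_⟩)
  · intro a b hab
    have e : permOfWord gens a.1 = permOfWord gens b.1 := congrArg Subtype.val hab
    have ha := rep_word gens hg a.1 (hW a.1 a.2)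
    have hb := rep_word gens hg b.1 (hW b.1 b.2)
    rw [e] at ha
    have hma : tabOfWord gens a.1 ∈ L := by rw [← hL]; exact List.mem_map_of_mem a.2
    have hmb : tabOfWord gens b.1 ∈ L := by rw [← hL]; exact List.mem_map_of_mem b.2
    have e2 := ha.tab_eq hb (hlen _ hma) (hlen _ hmb)
    rw [← hL] at hnd
    exact Subtype.ext (List.inj_on_of_nodup_map hnd a.2 b.2 e2)
  · intro x
    obtain ⟨t, ht, hx⟩ := listed_cover gens L hg h1 hcl x.1 x.2
    rw [← hL, List.mem_map] at ht
    obtain ⟨w, hw, rfl⟩ := ht
    refine ⟨⟨w, hw⟩, Subtype.ext ?_⟩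
    exact (rep_word gens hg w (hW w hw)).ext hx

/-- **the centre of a listed subgroup** -/
theorem listed_center (gens L : List (List ℕ)) (tau : List ℕ) (hg : ∀ t ∈ gens, invOK t = true)
    (htau : invOK tau = true)
    (h1 : idTab ∈ L)
    (hcl : L.all (fun t => gens.all (fun g => L.contains (compT t g))) = true)
    (hcen : L.all (fun t => t == idTab || t == tau || gens.any (fun g => compT t g != compT g t)) = true)
    (x : Equiv.Perm GolayPt) (hx : x ∈ genSub gens)
    (hc : ∀ y ∈ genSub gens, x * y = y * x) : x = 1 ∨ x = permT tau := by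
  obtain ⟨t, ht, hxt⟩ := listed_cover gens L hg h1 hcl x hx
  have h2 := List.all_eq_true.mp hcen t ht
  rw [Bool.or_eq_true, Bool.or_eq_true] at h2
  rcases h2 with (h2 | h2) | h2
  · left
    rw [beq_iff_eq] at h2
    rw [h2] at hxt
    exact hxt.ext rep_one
  · right
    rw [beq_iff_eq] at h2
    rw [h2] at hxt
    exact hxt.ext (rep_permT htau)
  · exfalso
    rw [List.any_eq_true] at h2
    obtain ⟨g, hgm, hne⟩ := h2
    rw [bne_iff_ne] at hne
    apply hne
    have hgr := rep_permT (hg g hgm)
    have e := hc (permT g) (Subgroup.subset_closure ⟨g, hgm, rfl⟩)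
    have r1 := hxt.mul hgr
    have r2 := hgr.mul hxt
    rw [e] at r1
    exact r1.tab_eq r2 (compT_length _ _) (compT_length _ _)

theorem listed_central (gens : List (List ℕ)) (tau : List ℕ) (hg : ∀ t ∈ gens, invOK t = true)
    (htau : invOK tau = true)
    (hcom : gens.all (fun g => compT tau g == compT g tau) = true)
    (y : Equiv.Perm GolayPt) (hy : y ∈ genSub gens) : permT tau * y = y * permT tau := by
  have hle : genSub gens ≤ Subgroup.centralizer ({permT tau} : Set (Equiv.Perm GolayPt)) := by
    unfold genSub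
    rw [Subgroup.closure_le]
    rintro x ⟨g, hgm, rfl⟩
    rw [SetLike.mem_coe, Subgroup.mem_centralizer_iff]
    rintro z rfl
    have h2 := List.all_eq_true.mp hcom g hgm
    rw [beq_iff_eq] at h2
    have r1 := (rep_permT htau).mul (rep_permT (hg g hgm))
    have r2 := (rep_permT (hg g hgm)).mul (rep_permT htau)
    rw [h2] at r1
    exact r1.ext r2
  have := Subgroup.mem_centralizer_iff.1 (hle hy) (permT tau) rfl
  exact this

end Cfsg.Agent.Lib.H12.McLSyl
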