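import Mathlib
import Cfsg.Prelude.Def_Sporadic_a
import Cfsg.Agent.Lib.H12.McLSylEng

/-!
# The concrete Sylow `2`-subgroup `sylA ≤ Perm GolayPt` of `M₂₂` (order `128`, centre `{1, τ}`)
-/

set_option autoImplicit false
set_option linter.unusedSectionVars false
set_option linter.unusedVariables false
set_option linter.unusedSimpArgs false
set_option linter.style.haveILetI false
set_option maxRecDepth 1000000

namespace Cfsg.Agent.Lib.H12.McLSyl

open Cfsg MulAction Cfsg.Agent.Lib.H28 Cfsg.Agent.Lib.H27 Cfsg.Agent.Lib.H27.Eng Cfsg.Agent.Lib.H27.McLInv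
open Cfsg.Agent.Lib.H27.McLInvData Cfsg.Agent.Lib.H27.McLInvData2

set_option maxHeartbeats 0 in
theorem sylGens_ok : sylGens.all invOK = true := by decide +kernel

theorem sylGens_ok' : ∀ t ∈ sylGens, invOK t = true := List.all_eq_true.mp sylGens_ok

set_option maxHeartbeats 0 in
theorem sylWords_ok : sylWords.all (fun w => w.all (fun i => decide (i < sylGens.length))) = true := by
  decide +kernel

theorem sylWords_ok' : ∀ w ∈ sylWords, ∀ i ∈ w, i < sylGens.length := by
  intro w hw i hi
  have := List.all_eq_true.mp (List.all_eq_true.mp sylWords_ok w hw) i hi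
  exact of_decide_eq_true this

set_option maxHeartbeats 0 in
theorem sylTabs_eq : sylWords.map (tabOfWord sylGens) = sylTabs := by decide +kernel

set_option maxHeartbeats 0 in
theorem sylTabs_one : idTab ∈ sylTabs := by decide +kernel

set_option maxHeartbeats 0 in
theorem sylTabs_closed :
    sylTabs.all (fun t => sylGens.all (fun g => sylTabs.contains (compT t g))) = true := by decide +kernel

set_option maxHeartbeats 0 in
theorem sylTabs_nodup : sylTabs.Nodup := by decide +kernel

set_option maxHeartbeats 0 in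
theorem sylTabs_len : sylTabs.all (fun t => t.length == 24) = true := by decide +kernel

theorem sylTabs_len' : ∀ t ∈ sylTabs, t.length = 24 := by
  intro t ht
  have := List.all_eq_true.mp sylTabs_len t ht
  exact beq_iff_eq.mp this

set_option maxHeartbeats 0 in
theorem sylTabs_center :
    sylTabs.all (fun t => t == idTab || t == tauTab || sylGens.any (fun g => compT t g != compT g t)) = true := by
  decide +kernel

set_option maxHeartbeats 0 in
theorem sylGens_comm : sylGens.all (fun g => compT tauTab g == compT g tauTab) = true := by decide +kernel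

set_option maxHeartbeats 0 in
theorem tauTab_mem : tauTab ∈ sylGens := by decide +kernel

theorem tauTab_invOK : invOK tauTab = true := sylGens_ok' _ tauTab_mem

/-- the Sylow `2`-subgroup -/
def sylA : Subgroup (Equiv.Perm GolayPt) := genSub sylGens

theorem card_sylA : Nat.card sylA = 128 :=
  listed_card sylGens sylWords sylTabs sylGens_ok' sylWords_ok' sylTabs_eq sylTabs_one sylTabs_closed
    sylTabs_nodup sylTabs_len'

theorem permT_tauTab : permT tauTab = τ := by
  rw [permT_eq tauTab_invOK]
  rfl

theorem τ_mem_sylA : τ ∈ sylA := by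
  rw [← permT_tauTab]
  exact Subgroup.subset_closure ⟨tauTab, tauTab_mem, rfl⟩

theorem sylA_center (x : Equiv.Perm GolayPt) (hx : x ∈ sylA) (hc : ∀ y ∈ sylA, x * y = y * x) :
    x = 1 ∨ x = τ := by
  rw [← permT_tauTab]
  exact listed_center sylGens sylTabs tauTab sylGens_ok' tauTab_invOK sylTabs_one sylTabs_closed
    sylTabs_center x hx hc

theorem sylA_central (y : Equiv.Perm GolayPt) (hy : y ∈ sylA) : τ * y = y * τ := by
  rw [← permT_tauTab]
  exact listed_central sylGens tauTab sylGens_ok' tauTab_invOK sylGens_comm y hy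

theorem sylA_le_M24 : sylA ≤ M24 := by
  unfold sylA genSub
  rw [Subgroup.closure_le]
  rintro x ⟨g, hg, rfl⟩
  exact (permT_props (sylGens_ok' g hg)).1

theorem sylA_fix0 (x : Equiv.Perm GolayPt) (hx : x ∈ sylA) : x (gPt 0) = gPt 0 := by
  have hle : sylA ≤ stabilizer (Equiv.Perm GolayPt) (gPt 0) := by
    unfold sylA genSub
    rw [Subgroup.closure_le]
    rintro x ⟨g, hg, rfl⟩
    exact (permT_props (sylGens_ok' g hg)).2.1
  exact hle hx

theorem sylA_fix1 (x : Equiv.Perm GolayPt) (hx : x ∈ sylA) : x (gPt 1) = gPt 1 := by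
  have hle : sylA ≤ stabilizer (Equiv.Perm GolayPt) (gPt 1) := by
    unfold sylA genSub
    rw [Subgroup.closure_le]
    rintro x ⟨g, hg, rfl⟩
    exact (permT_props (sylGens_ok' g hg)).2.2.1
  exact hle hx

/-- `sylA` is generated by involutions -/
theorem sylA_gen : sylA ≤ Subgroup.closure {y : Equiv.Perm GolayPt | y ∈ sylA ∧ y * y = 1} := by
  conv_lhs => unfold sylA genSub
  apply Subgroup.closure_mono
  rintro x ⟨g, hg, rfl⟩
  exact ⟨Subgroup.subset_closure ⟨g, hg, rfl⟩, permT_mul_self (sylGens_ok' g hg)⟩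

/-- the embedding of `sylA` into the two-point stabilizer `S2` of `M₂₄` -/
def sylHom : ↥sylA →* ↥S2 where
  toFun x := ⟨⟨x.1, sylA_le_M24 x.2⟩, (mem_S2_iff _).2 ⟨sylA_fix0 x.1 x.2, sylA_fix1 x.1 x.2⟩⟩
  map_one' := rfl
  map_mul' _ _ := rfl

theorem sylHom_injective : Function.Injective sylHom := by
  intro a b h
  have := congrArg (fun z : ↥S2 => ((z : ↥M24) : Equiv.Perm GolayPt)) h
  exact Subtype.ext this

theorem sylHom_τ : sylHom ⟨τ, τ_mem_sylA⟩ = τ2 := rfl

end Cfsg.Agent.Lib.H12.McLSyl
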