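import Mathlib
import Cfsg.Prelude.Def_Spor_Conway
import Cfsg.Prelude.Def_SporadicB
import Cfsg.Agent.Lib.H12.McLFusA
import Cfsg.Agent.Lib.H12.McLSyl
import Cfsg.Agent.Lib.H27.McLInvB
import Cfsg.Agent.Lib.H25.A8N

/-!
# The `2`-fusion system of a group isomorphic to the standard McLaughlin group `KM ≤ Co0` is simple
-/

set_option autoImplicit false
set_option linter.unusedSectionVars false
set_option linter.unusedVariables false
set_option linter.unusedSimpArgs false
set_option linter.style.haveILetI false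

namespace Cfsg.Agent.Lib.H12.McLFus

open Cfsg MulAction Cfsg.Agent.Lib.H28 Cfsg.Agent.Lib.H27 Cfsg.Agent.Lib.H27.Eng Cfsg.Agent.Lib.H27.McLInv
open Cfsg.Agent.Lib.H12.McLSyl
open Cfsg.Agent.Lib.H27.McLData Cfsg.Agent.Lib.H27.McL2025Data Cfsg.Agent.Lib.H27.SimpleDataMcL

/-- the centralizers of `t` and of `e t` -/
def centMapEquiv {G H : Type*} [Group G] [Group H] (e : G ≃* H) (t : G) :
    ↥(Subgroup.centralizer ({e t} : Set H)) ≃* ↥(Subgroup.centralizer ({t} : Set G)) where
  toFun x := ⟨e.symm x.1, Subgroup.mem_centralizer_iff.2 (by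
    rintro y rfl
    apply e.injective
    rw [map_mul, map_mul, e.apply_symm_apply]
    exact Subgroup.mem_centralizer_iff.1 x.2 (e y) rfl)⟩
  invFun y := ⟨e y.1, Subgroup.mem_centralizer_iff.2 (by
    rintro z rfl
    rw [← map_mul, ← map_mul]
    exact congrArg e (Subgroup.mem_centralizer_iff.1 y.2 t rfl))⟩
  left_inv x := Subtype.ext (e.apply_symm_apply x.1)
  right_inv y := Subtype.ext (e.symm_apply_apply y.1)
  map_mul' a b := Subtype.ext (map_mul e.symm a.1 b.1)

/-- the embedding of the Sylow `2`-subgroup of `M₂₂` into the standard McLaughlin group -/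
noncomputable def sylKM : ↥sylA →* ↥KM :=
  (Subgroup.inclusion (inf_le_left : KM3 ≤ KM)).comp (m22Hom.comp sylHom)

theorem sylKM_injective : Function.Injective sylKM := by
  intro a b h
  have h1 : m22Hom (sylHom a) = m22Hom (sylHom b) := Subgroup.inclusion_injective (inf_le_left : KM3 ≤ KM) h
  exact sylHom_injective (m22Hom_bijective.1 h1)

/-- the involution `T` as an element of `KM` -/
noncomputable def tKM : ↥KM := ⟨T, T_mem⟩

theorem sylKM_τ : sylKM ⟨τ, τ_mem_sylA⟩ = tKM := by
  apply Subtype.ext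
  show ((m22Hom (sylHom ⟨τ, τ_mem_sylA⟩) : ↥KM3) : Co0) = T
  rw [sylHom_τ]
  exact m22Equiv_τ2

theorem tKM_ne_one : tKM ≠ 1 := fun h => T_ne_one (congrArg Subtype.val h)

theorem tKM_mul_self : tKM * tKM = 1 := by
  apply Subtype.ext
  show T * T = 1
  rw [← pow_two]
  exact T_sq

theorem cover_tKM :
    Cfsg.IsNonsplitDoubleCover ↥(Subgroup.centralizer ({tKM} : Set ↥KM)) ↥(alternatingGroup (Fin 8)) :=
  nonsplitDoubleCover_congr (centEquiv KM T T_mem) cover_CT

/-- **The `2`-fusion system of a group isomorphic to `KM` is simple.** -/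
theorem fusion_of_equiv {G' : Type*} [Group G'] [Finite G'] (e : ↥KM ≃* G') (S : Sylow 2 G') :
    (Cfsg.groupFusionSystem (S : Subgroup G')).IsSimple 2 := by
  haveI : Finite ↥KM := Finite.of_equiv G' e.symm.toEquiv
  -- the data in `G'`
  let f : ↥sylA →* G' := e.toMonoidHom.comp sylKM
  have hf : Function.Injective f := e.injective.comp sylKM_injective
  set S₀ : Subgroup G' := f.range with hS₀
  set t : G' := e tKM with ht
  have hft : f ⟨τ, τ_mem_sylA⟩ = t := by
    show e (sylKM ⟨τ, τ_mem_sylA⟩) = e tKM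
    rw [sylKM_τ]
  have hinvG : InvStmt G' := invStmt_KM.congr e
  have hcov : Cfsg.IsNonsplitDoubleCover ↥(Subgroup.centralizer ({t} : Set G')) ↥(alternatingGroup (Fin 8)) :=
    nonsplitDoubleCover_congr (centMapEquiv e tKM) cover_tKM
  obtain ⟨hcard, ⟨φ⟩, -⟩ := hcov
  have hG : Nat.card G' = 128 * 7016625 := by
    rw [← Nat.card_congr e.toEquiv, card_KM]
  have hS : Nat.card S₀ = 128 := by
    rw [hS₀, Nat.card_congr (MonoidHom.ofInjective hf).symm.toEquiv, card_sylA]
  refine isSimple_of_mclType hinvG.1 S₀ t 7016625 (by norm_num) hG hS ?_ ?_ ?_ ?_ ?_ ?_ hcard φ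
    Cfsg.Agent.Lib.H25.A8N.normalizer_sylow_two_alt8 S
  · exact ⟨_, hft⟩
  · intro h
    apply tKM_ne_one
    apply e.injective
    rw [map_one]
    exact h
  · show e tKM * e tKM = 1
    rw [← map_mul, tKM_mul_self, map_one]
  · rintro _ ⟨y, rfl⟩
    rw [← hft, ← map_mul, ← map_mul]
    congr 1
    apply Subtype.ext
    exact sylA_central y.1 y.2
  · rintro _ ⟨x, rfl⟩ hc
    have hx : x.1 = 1 ∨ x.1 = τ := by
      apply sylA_center x.1 x.2
      intro y hy
      have := hc (f ⟨y, hy⟩) ⟨_, rfl⟩
      rw [← map_mul, ← map_mul] at this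
      exact congrArg Subtype.val (hf this)
    rcases hx with h | h
    · left
      have : x = 1 := Subtype.ext h
      rw [this, map_one]
    · right
      have : x = ⟨τ, τ_mem_sylA⟩ := Subtype.ext h
      rw [this, hft]
  · rintro _ ⟨x, rfl⟩
    have hx := sylA_gen x.2
    -- induction on the closure
    have key : ∀ z (hz : z ∈ sylA), z ∈ Subgroup.closure {y : Equiv.Perm GolayPt | y ∈ sylA ∧ y * y = 1} →
        f ⟨z, hz⟩ ∈ Subgroup.closure {y : G' | y ∈ S₀ ∧ y * y = 1} := by
      intro z hz hzc
      induction hzc using Subgroup.closure_induction with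
      | mem y hy =>
        apply Subgroup.subset_closure
        refine ⟨⟨⟨y, hy.1⟩, ?_⟩, ?_⟩
        · rfl
        · have : (⟨y, hz⟩ : ↥sylA) * ⟨y, hz⟩ = 1 := Subtype.ext hy.2
          rw [← map_mul, this, map_one]
      | one =>
        have : (⟨1, hz⟩ : ↥sylA) = 1 := rfl
        rw [this, map_one]
        exact Subgroup.one_mem _
      | mul a b ha hb iha ihb =>
        have ha' : a ∈ sylA := by
          have hle : Subgroup.closure {y : Equiv.Perm GolayPt | y ∈ sylA ∧ y * y = 1} ≤ sylA := by
            rw [Subgroup.closure_le]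
            intro y hy
            exact hy.1
          exact hle ha
        have hb' : b ∈ sylA := by
          have hle : Subgroup.closure {y : Equiv.Perm GolayPt | y ∈ sylA ∧ y * y = 1} ≤ sylA := by
            rw [Subgroup.closure_le]
            intro y hy
            exact hy.1
          exact hle hb
        have : (⟨a * b, hz⟩ : ↥sylA) = ⟨a, ha'⟩ * ⟨b, hb'⟩ := rfl
        rw [this, map_mul]
        exact Subgroup.mul_mem _ (iha ha') (ihb hb')
      | inv a ha iha =>
        have ha' : a ∈ sylA := by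
          have hle : Subgroup.closure {y : Equiv.Perm GolayPt | y ∈ sylA ∧ y * y = 1} ≤ sylA := by
            rw [Subgroup.closure_le]
            intro y hy
            exact hy.1
          exact hle ha
        have : (⟨a⁻¹, hz⟩ : ↥sylA) = (⟨a, ha'⟩ : ↥sylA)⁻¹ := rfl
        rw [this, map_inv]
        exact Subgroup.inv_mem _ (iha ha')
    exact key x.1 x.2 hx

end Cfsg.Agent.Lib.H12.McLFus
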