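import Mathlib

/-!
S4892 piece (NORM): `L = N·C_G(Q) ⊴ G` (Frattini) has `p`-power index, so every `J ⊇ N` with `p ∤ |J:N|`
lies in `N·C_G(Q)` elementwise.  PURE group theory.
-/

set_option autoImplicit false
set_option linter.unusedSectionVars false

namespace Cfsg.Agent.Lib.H12.NT

variable {G : Type*} [Group G] [Finite G] {p : ℕ}

/-- `N ⊔ C_G(Q)` is normal in `G` when `Q` is a Sylow `p`-subgroup of the normal subgroup `N` (Frattini). -/
theorem sup_centralizer_normal [hp : Fact p.Prime] (N : Subgroup G) [N.Normal] (P : Sylow p ↥N) :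
    (N ⊔ Subgroup.centralizer (((P : Subgroup ↥N).map N.subtype : Subgroup G) : Set G)).Normal := by
  set Q : Subgroup G := (P : Subgroup ↥N).map N.subtype with hQ
  set L : Subgroup G := N ⊔ Subgroup.centralizer (Q : Set G) with hL
  rw [← Subgroup.normalizer_eq_top_iff, eq_top_iff, ← Sylow.normalizer_sup_eq_top P]
  refine sup_le ?_ ((le_sup_left : N ≤ L).trans Subgroup.le_normalizer)
  intro x hx
  -- x normalizes Q, hence N and C_G(Q)
  have hx' : ∀ q, q ∈ Q ↔ x * q * x⁻¹ ∈ Q := Subgroup.mem_normalizer_iff.mp hx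
  have hxinv : ∀ q, q ∈ Q → x⁻¹ * q * x ∈ Q := by
    intro q hq
    have := (hx' (x⁻¹ * q * x)).mpr (by simpa [mul_assoc] using hq)
    exact this
  have key : ∀ y ∈ L, x * y * x⁻¹ ∈ L := by
    intro y hy
    rw [hL, Subgroup.mem_sup_of_normal_left] at hy
    obtain ⟨n, hn, z, hz, rfl⟩ := hy
    have h1 : x * n * x⁻¹ ∈ N := Subgroup.Normal.conj_mem inferInstance n hn x
    have h2 : x * z * x⁻¹ ∈ Subgroup.centralizer (Q : Set G) := by
      rw [Subgroup.mem_centralizer_iff]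
      intro q hq
      have hq' := hxinv q hq
      have hc := (Subgroup.mem_centralizer_iff.mp hz) _ hq'
      -- (x⁻¹ q x) z = z (x⁻¹ q x)
      calc q * (x * z * x⁻¹) = x * ((x⁻¹ * q * x) * z) * x⁻¹ := by group
        _ = x * (z * (x⁻¹ * q * x)) * x⁻¹ := by rw [hc]
        _ = x * z * x⁻¹ * q := by group
    have : x * (n * z) * x⁻¹ = (x * n * x⁻¹) * (x * z * x⁻¹) := by group
    rw [this]
    exact Subgroup.mul_mem_sup h1 h2
  rw [Subgroup.mem_normalizer_iff]
  intro y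
  constructor
  · exact key y
  · intro hy
    -- conjugate back with x⁻¹ ∈ normalizer Q
    have hxi : x⁻¹ ∈ Subgroup.normalizer (Q : Set G) := Subgroup.inv_mem _ hx
    have hxi' : ∀ q, q ∈ Q ↔ x⁻¹ * q * x⁻¹⁻¹ ∈ Q := Subgroup.mem_normalizer_iff.mp hxi
    have hxinv2 : ∀ q, q ∈ Q → x * q * x⁻¹ ∈ Q := fun q hq => (hx' q).mp hq
    have key2 : ∀ y ∈ L, x⁻¹ * y * x ∈ L := by
      intro y hy
      rw [hL, Subgroup.mem_sup_of_normal_left] at hy
      obtain ⟨n, hn, z, hz, rfl⟩ := hy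
      have h1 : x⁻¹ * n * x ∈ N := by
        have := Subgroup.Normal.conj_mem (inferInstance : N.Normal) n hn x⁻¹
        simpa using this
      have h2 : x⁻¹ * z * x ∈ Subgroup.centralizer (Q : Set G) := by
        rw [Subgroup.mem_centralizer_iff]
        intro q hq
        have hq' := hxinv2 q hq
        have hc := (Subgroup.mem_centralizer_iff.mp hz) _ hq'
        calc q * (x⁻¹ * z * x) = x⁻¹ * ((x * q * x⁻¹) * z) * x := by group
          _ = x⁻¹ * (z * (x * q * x⁻¹)) * x := by rw [hc]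
          _ = x⁻¹ * z * x * q := by group
      have : x⁻¹ * (n * z) * x = (x⁻¹ * n * x) * (x⁻¹ * z * x) := by group
      rw [this]
      exact Subgroup.mul_mem_sup h1 h2
    have := key2 _ hy
    simpa [mul_assoc] using this

/-- (NORM) `L = N·C_G(Q) ⊴ G` (Frattini) has `p`-power index, so every `J ⊇ N` with `p ∤ |J:N|` lies in `N·C_G(Q)` -/
theorem cov_of_index [hp : Fact p.Prime] (N : Subgroup G) [N.Normal] (P : Sylow p ↥N)
    (hidx : ∃ a : ℕ, (N ⊔ Subgroup.centralizer (((P : Subgroup ↥N).map N.subtype : Subgroup G) : Set G)).index = p ^ a) :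
    ∀ J : Subgroup G, N ≤ J → ¬ p ∣ N.relIndex J → ∀ g ∈ J,
      ∃ n ∈ N, ∃ z ∈ Subgroup.centralizer ((((P : Subgroup ↥N).map N.subtype : Subgroup G)) : Set G), g = n * z := by
  intro J hNJ hpJ g hg
  obtain ⟨a, ha⟩ := hidx
  have hLn := sup_centralizer_normal N P
  set L : Subgroup G := N ⊔ Subgroup.centralizer (((P : Subgroup ↥N).map N.subtype : Subgroup G) : Set G) with hL
  -- g ^ (p ^ a) ∈ L
  have h1 : g ^ (p ^ a) ∈ L := by
    rw [← ha]; exact Subgroup.pow_index_mem L g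
  -- g ^ |J : N| ∈ N ≤ L
  have h2 : g ^ (N.relIndex J) ∈ L := by
    have : (N.subgroupOf J).Normal := Subgroup.normal_subgroupOf
    have := Subgroup.pow_index_mem (N.subgroupOf J) (⟨g, hg⟩ : ↥J)
    rw [Subgroup.mem_subgroupOf] at this
    have h3 : g ^ (N.relIndex J) ∈ N := by simpa [Subgroup.relIndex] using this
    exact (le_sup_left : N ≤ L) h3
  have hcop : Nat.Coprime (p ^ a) (N.relIndex J) :=
    Nat.Coprime.pow_left a ((Nat.Prime.coprime_iff_not_dvd hp.out).mpr hpJ)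
  have hgL : g ∈ L := by
    have hb := Nat.Coprime.gcd_eq_one hcop
    have hbez := Nat.gcd_eq_gcd_ab (p ^ a) (N.relIndex J)
    rw [hb] at hbez
    have : g = (g ^ (p ^ a)) ^ (Nat.gcdA (p ^ a) (N.relIndex J)) *
        (g ^ (N.relIndex J)) ^ (Nat.gcdB (p ^ a) (N.relIndex J)) := by
      rw [← zpow_natCast g (p ^ a), ← zpow_natCast g (N.relIndex J), ← zpow_mul, ← zpow_mul,
        ← zpow_add, ← hbez]
      simp
    rw [this]
    exact L.mul_mem (L.zpow_mem h1 _) (L.zpow_mem h2 _)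
  rw [hL, Subgroup.mem_sup_of_normal_left] at hgL
  obtain ⟨n, hn, z, hz, rfl⟩ := hgL
  exact ⟨n, hn, z, hz, rfl⟩

end Cfsg.Agent.Lib.H12.NT
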