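import Mathlib
import Cfsg.Prelude
import Cfsg.Agent.Lib.H23.CharGalois

/-!
S4892 piece (PRAT): a character fixed by the power maps `k ≡ 1 (mod n)` (`k` prime to `|X|·n`) has its values
in `ℚ(ζ_n)` (Galois correspondence in `ℚ(ζ_{|X|·n}) / ℚ(ζ_n)`).
-/

set_option autoImplicit false

namespace Cfsg.Agent.Lib.H12.NT

open Cfsg Cfsg.Agent.Lib.H23

/-- (PRAT) converse of RATPOW -/
theorem rational_of_pow_fixed {X : Type*} [Group X] [Finite X] (φ : X → ℂ) (hφ : Cfsg.IsCharacter X φ) (n : ℕ)
    (hn : 0 < n)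
    (hfix : ∀ k : ℕ, k.Coprime (Nat.card X * n) → k ≡ 1 [MOD n] → ∀ x : X, φ (x ^ k) = φ x) :
    ∀ x : X, φ x ∈ IntermediateField.adjoin ℚ ({Complex.exp (2 * Real.pi * Complex.I / n)} : Set ℂ) := by
  intro x
  set N : ℕ := Nat.card X * n with hNdef
  have hN : 0 < N := Nat.mul_pos Nat.card_pos hn
  have hNZ : NeZero N := ⟨hN.ne'⟩
  obtain ⟨d, ρ, rfl⟩ := hφ
  have hxN : x ^ N = 1 := by rw [hNdef, pow_mul, pow_card_eq_one', one_pow]
  obtain ⟨w, hw⟩ := exists_cyc_char N ρ x hxN
  -- the root of unity ζ_n and its preimage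
  set ζ : ℂ := Complex.exp (2 * Real.pi * Complex.I / n) with hζdef
  have hζprim : IsPrimitiveRoot ζ n := Complex.isPrimitiveRoot_exp n hn.ne'
  have hζN : ζ ^ N = 1 := by
    rw [hNdef, mul_comm, pow_mul, hζprim.pow_eq_one, one_pow]
  obtain ⟨η, hηN, hηζ⟩ := exists_cyc_preimage N ζ hζN
  have hηprim : IsPrimitiveRoot η n := by
    have h0 : IsPrimitiveRoot (cycEmb N η) n := by rw [hηζ]; exact hζprim
    exact IsPrimitiveRoot.of_map_of_injective h0 (cycEmb_injective N)
  -- value at the identity automorphism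
  have hw1 : cycEmb N w = ρ.character x := by
    have h1 := hw 1
    rw [AlgEquiv.one_apply] at h1
    rw [h1]
    have hk : cycPow N (1 : Gal(CyclotomicField N ℚ/ℚ)) = 1 := by simp [cycPow]
    rw [hk, pow_val_one_eq N x hxN]
  -- w lies in ℚ(η)
  have hwmem : w ∈ IntermediateField.adjoin ℚ ({η} : Set (CyclotomicField N ℚ)) := by
    rw [← IsGalois.fixedField_fixingSubgroup (IntermediateField.adjoin ℚ ({η} : Set (CyclotomicField N ℚ))),
      IntermediateField.mem_fixedField_iff]
    intro σ hσ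
    have hση : σ η = η :=
      (IntermediateField.mem_fixingSubgroup_iff _ σ).mp hσ η
        (IntermediateField.subset_adjoin ℚ _ (Set.mem_singleton η))
    set k : ℕ := (cycPow N σ).val with hkdef
    have hpow : η ^ k = η ^ 1 := by
      rw [pow_one, hkdef, ← cycAut_pow N σ η hηN, hση]
    have hk1 : k ≡ 1 [MOD n] := by
      rw [pow_one] at hpow
      rcases Nat.eq_zero_or_pos k with hk0 | hkpos
      · rw [hk0, pow_zero] at hpow
        rw [← hpow] at hηprim
        have hn1 : n = 1 := Nat.dvd_one.mp (hηprim.dvd_of_pow_eq_one 1 (one_pow 1))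
        rw [hn1]
        exact Nat.modEq_one
      · have hη0 : η ≠ 0 := hηprim.ne_zero hn.ne'
        have h3 : η ^ (k - 1) = 1 := by
          have h4 : η ^ (k - 1) * η = 1 * η := by
            rw [← pow_succ, Nat.sub_add_cancel hkpos, one_mul]; exact hpow
          exact mul_right_cancel₀ hη0 h4
        have h5 : n ∣ k - 1 := hηprim.dvd_of_pow_eq_one _ h3
        exact ((Nat.modEq_iff_dvd' hkpos).mpr h5).symm
    have hkcop : k.Coprime N := by
      rw [hkdef]
      unfold cycPow
      exact ZMod.val_coe_unit_coprime _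
    have h2 := hfix k hkcop hk1 x
    apply cycEmb_injective N
    rw [hw σ, hw1]
    exact h2
  -- transport to ℂ
  have hmap : (IntermediateField.adjoin ℚ ({η} : Set (CyclotomicField N ℚ))).map (cycEmb N) =
      IntermediateField.adjoin ℚ ({ζ} : Set ℂ) := by
    rw [IntermediateField.adjoin_map, Set.image_singleton, hηζ]
  rw [← hw1, ← hmap]
  exact (IntermediateField.mem_map _).mpr ⟨w, hwmem, rfl⟩

end Cfsg.Agent.Lib.H12.NT
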