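import Mathlib
import Cfsg.Prelude
import Cfsg.Agent.Lib.H24.GlaubGalois
import Cfsg.Agent.Lib.H22.PRational

/-!
S4892 piece (RATPOW): a character with values in `ℚ(ζ_m)` is fixed by the power maps `k ≡ 1 (mod m)`.
-/

set_option autoImplicit false

namespace Cfsg.Agent.Lib.H12.NT

open Cfsg Cfsg.Agent.Lib.H24

/-- (RATPOW) a character with values in `ℚ(ζ_m)` is fixed by the power maps `k ≡ 1 (mod m)` -/
theorem pow_eq_of_rational {X : Type*} [Group X] [Finite X] (φ : X → ℂ) (hφ : Cfsg.IsCharacter X φ) (m : ℕ)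
    (hm : 0 < m)
    (hrat : ∀ x : X, φ x ∈ IntermediateField.adjoin ℚ ({Complex.exp (2 * Real.pi * Complex.I / m)} : Set ℂ))
    (k : ℕ) (hk : k.Coprime (Nat.card X * m)) (hk1 : k ≡ 1 [MOD m]) : ∀ x : X, φ (x ^ k) = φ x := by
  intro x
  have hN : 0 < Nat.card X * m := Nat.mul_pos Nat.card_pos hm
  have : NeZero (Nat.card X * m) := ⟨hN.ne'⟩
  obtain ⟨τ, hτ⟩ := Glaub.exists_aut_pow (Nat.card X * m) k hk
  obtain ⟨n, ρ, rfl⟩ := hφ
  -- τ (φ x) = φ (x ^ k)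
  have hg : ρ x ^ (Nat.card X * m) = 1 := by
    rw [← map_pow, pow_mul, pow_card_eq_one', one_pow, map_one]
  have h1 := Glaub.aut_trace_of_pow_eq_one τ (Nat.card X * m) k hN hτ (ρ x) hg
  have h2 : τ (ρ.character x) = ρ.character (x ^ k) := by
    unfold Representation.character
    rw [map_pow]
    exact h1
  -- τ fixes ζ_m
  set ζ : ℂ := Complex.exp (2 * Real.pi * Complex.I / m) with hζdef
  have hζm : ζ ^ m = 1 := by
    rw [hζdef, ← Complex.exp_nat_mul]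
    have hm' : (m : ℂ) ≠ 0 := by exact_mod_cast hm.ne'
    rw [mul_div_cancel₀ _ hm']
    exact Complex.exp_two_pi_mul_I
  have hζN : ζ ^ (Nat.card X * m) = 1 := by
    rw [mul_comm, pow_mul, hζm, one_pow]
  have hζk : ζ ^ k = ζ := by
    have e1 : ζ ^ k = ζ ^ (k % m) := pow_eq_pow_mod k hζm
    have e2 : ζ ^ 1 = ζ ^ (1 % m) := pow_eq_pow_mod 1 hζm
    have e3 : k % m = 1 % m := hk1
    rw [e1, e3, ← e2, pow_one]
  have hfix : τ ζ = ζ := by rw [hτ ζ hζN, hζk]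
  have h3 := Cfsg.Agent.Lib.H22.PRat.fix_of_mem_adjoin τ ζ hfix (hrat x)
  rw [← h2, h3]

end Cfsg.Agent.Lib.H12.NT
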