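import Mathlib

set_option autoImplicit false
set_option linter.unusedSectionVars false

open Matrix Module

namespace Cfsg.Agent.Lib.H12.NilCount

variable {F : Type*} [Field F]
variable {n : ℕ}

/-- iterates of a vector under `T` up to the first vanishing are independent -/
theorem iterate_indep (T : Matrix (Fin n) (Fin n) F) (v : Fin n → F) (m : ℕ)
    (hm : (T ^ m) *ᵥ v = 0) (hm' : ∀ j < m, (T ^ j) *ᵥ v ≠ 0) :
    LinearIndependent F (fun i : Fin m => (T ^ (i : ℕ)) *ᵥ v) := by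
  rw [Fintype.linearIndependent_iff]
  intro g hg
  have key : ∀ i : ℕ, ∀ hi : i < m, g ⟨i, hi⟩ = 0 := by
    intro i
    induction i using Nat.strong_induction_on with
    | _ i ih =>
      intro hi
      have h1 := congrArg (fun w => (T ^ (m - 1 - i)) *ᵥ w) hg
      simp only [Matrix.mulVec_sum, Matrix.mulVec_smul, Matrix.mulVec_mulVec, ← pow_add,
        mulVec_zero] at h1
      rw [Finset.sum_eq_single ⟨i, hi⟩] at h1
      · have h3 : m - 1 - i + i = m - 1 := by omega
        simp only [h3] at h1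
        have h2 := hm' (m - 1) (by omega)
        exact (smul_eq_zero.1 h1).resolve_right h2
      · intro j _ hj
        have hji : (j : ℕ) ≠ i := fun h => hj (Fin.ext h)
        rcases Nat.lt_or_gt_of_ne hji with h | h
        · have := ih j h j.2
          simp only [Fin.eta] at this
          rw [this, zero_smul]
        · have h4 : (T ^ (m - 1 - i + j)) *ᵥ v = 0 := by
            have h5 : m - 1 - i + j = (m - 1 - i + j - m) + m := by omega
            rw [h5, pow_add, ← Matrix.mulVec_mulVec, hm, mulVec_zero]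
          rw [h4, smul_zero]
      · intro h
        exact absurd (Finset.mem_univ _) h
  intro i
  exact key i i.2

/-- `T` shifts the family `s` -/
def Fits {k : ℕ} (T : Matrix (Fin n) (Fin n) F) (s : Fin k → Fin n → F) : Prop :=
  ∀ i : Fin k, T *ᵥ s i = if h : (i : ℕ) + 1 < k then s ⟨(i : ℕ) + 1, h⟩ else 0

theorem Fits.eq_pow {k : ℕ} {T : Matrix (Fin n) (Fin n) F} {s : Fin k → Fin n → F}
    (h : Fits T s) (hk : 0 < k) (i : Fin k) : s i = (T ^ (i : ℕ)) *ᵥ s ⟨0, hk⟩ := by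
  obtain ⟨i, hi⟩ := i
  induction i with
  | zero => simp
  | succ i ih =>
    have h1 := h ⟨i, by omega⟩
    rw [dif_pos (by simpa using hi)] at h1
    simp only at h1
    rw [← h1, ih (by omega), Matrix.mulVec_mulVec, ← pow_succ']

theorem Fits.pow_eq_zero {k : ℕ} {T : Matrix (Fin n) (Fin n) F} {s : Fin k → Fin n → F}
    (h : Fits T s) (hk : 0 < k) : (T ^ k) *ᵥ s ⟨0, hk⟩ = 0 := by
  have h1 := h ⟨k - 1, by omega⟩
  rw [dif_neg (by simp; omega)] at h1
  have h2 := h.eq_pow hk ⟨k - 1, by omega⟩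
  rw [h2, Matrix.mulVec_mulVec, ← pow_succ'] at h1
  have h3 : k - 1 + 1 = k := by omega
  simpa [h3] using h1

variable (F n) in
/-- pairs (nilpotent, nonzero vector) -/
abbrev XSet : Type _ :=
  {p : Matrix (Fin n) (Fin n) F × (Fin n → F) // IsNilpotent p.1 ∧ p.2 ≠ 0}

variable (F n) in
/-- pairs (nilpotent, independent family shifted by it) -/
abbrev ASet (k : ℕ) : Type _ :=
  {p : Matrix (Fin n) (Fin n) F × (Fin k → Fin n → F) //
    IsNilpotent p.1 ∧ LinearIndependent F p.2 ∧ Fits p.1 p.2}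

def toX : (Σ k : Fin n, ASet F n ((k : ℕ) + 1)) → XSet F n := fun x =>
  ⟨(x.2.1.1, x.2.1.2 0), x.2.2.1, x.2.2.2.1.ne_zero 0⟩

theorem toX_injective : Function.Injective (toX (F := F) (n := n)) := by
  rintro ⟨k, ⟨⟨T, s⟩, hT, hs, hf⟩⟩ ⟨k', ⟨⟨T', s'⟩, hT', hs', hf'⟩⟩ h
  simp only [toX, Subtype.mk.injEq, Prod.mk.injEq] at h
  obtain ⟨rfl, h0⟩ := h
  simp only at hT hs hf hT' hs' hf'
  -- key: lengths agree
  have aux : ∀ (a b : ℕ) (s : Fin (a + 1) → Fin n → F) (s' : Fin (b + 1) → Fin n → F),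
      Fits T s → Fits T s' → LinearIndependent F s' → s 0 = s' 0 → b ≤ a := by
    intro a b s s' hf hf' hs' h0
    by_contra hlt
    push Not at hlt
    have h1 := hf.pow_eq_zero (Nat.succ_pos a)
    have h2 := hf'.eq_pow (Nat.succ_pos b) ⟨a + 1, by omega⟩
    have h3 : s' ⟨a + 1, by omega⟩ = 0 := by
      rw [h2]
      have : (⟨0, Nat.succ_pos b⟩ : Fin (b + 1)) = 0 := rfl
      rw [this, ← h0]
      exact h1
    exact hs'.ne_zero _ h3
  have hkk : (k : ℕ) = k' := le_antisymm (aux k' k s' s hf' hf hs h0.symm) (aux k k' s s' hf hf' hs' h0)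
  have hkk' : k = k' := Fin.ext hkk
  subst hkk'
  have hss : s = s' := by
    funext i
    rw [hf.eq_pow (Nat.succ_pos _) i, hf'.eq_pow (Nat.succ_pos _) i]
    have : (⟨0, Nat.succ_pos k⟩ : Fin ((k : ℕ) + 1)) = 0 := rfl
    rw [this, h0]
  subst hss
  rfl

theorem toX_surjective : Function.Surjective (toX (F := F) (n := n)) := by
  rintro ⟨⟨T, v⟩, hT, hv⟩
  simp only at hT hv
  obtain ⟨N, hN⟩ := hT
  have hex : ∃ j, (T ^ j) *ᵥ v = 0 := ⟨N, by rw [hN, zero_mulVec]⟩
  classical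
  obtain ⟨m, hm, hmin⟩ : ∃ m, (T ^ m) *ᵥ v = 0 ∧ ∀ j < m, (T ^ j) *ᵥ v ≠ 0 :=
    ⟨Nat.find hex, Nat.find_spec hex, fun j hj => Nat.find_min hex hj⟩
  have hm0 : m ≠ 0 := by
    rintro rfl
    apply hv
    simpa using hm
  obtain ⟨m', rfl⟩ := Nat.exists_eq_succ_of_ne_zero hm0
  have hind := iterate_indep T v (m' + 1) hm hmin
  have hle : m' + 1 ≤ n := by
    have := hind.fintype_card_le_finrank
    simpa using this
  refine ⟨⟨⟨m', by omega⟩, ⟨(T, fun i : Fin (m' + 1) => (T ^ (i : ℕ)) *ᵥ v), ⟨N, hN⟩, hind, ?_⟩⟩, ?_⟩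
  · intro i
    simp only
    rw [Matrix.mulVec_mulVec, ← pow_succ']
    split_ifs with h
    · rfl
    · have : (i : ℕ) + 1 = m' + 1 := by
        have := i.2
        omega
      rw [this, hm]
  · apply Subtype.ext
    simp [toX]

theorem card_XSet_eq_sum [Fintype F] :
    Nat.card (XSet F n) = ∑ k : Fin n, Nat.card (ASet F n ((k : ℕ) + 1)) := by
  classical
  rw [← Nat.card_congr (Equiv.ofBijective _ ⟨toX_injective (F := F) (n := n), toX_surjective⟩),
    Nat.card_sigma]

end Cfsg.Agent.Lib.H12.NilCount
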