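import Mathlib

set_option autoImplicit false
set_option linter.unusedSectionVars false

open Matrix Module

namespace Cfsg.Agent.Lib.H12.NilCount

variable {F : Type*} [Field F]
variable {n : ℕ}

/-- the shift matrix -/
def J (F : Type*) [Field F] (k : ℕ) : Matrix (Fin k) (Fin k) F :=
  Matrix.of fun j i => if (i : ℕ) + 1 = (j : ℕ) then 1 else 0

theorem J_pow (k m : ℕ) :
    (J F k) ^ m = Matrix.of fun j i : Fin k => if (i : ℕ) + m = (j : ℕ) then (1 : F) else 0 := by
  induction m with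
  | zero =>
    ext j i
    simp [Matrix.one_apply, Fin.ext_iff, eq_comm]
  | succ m ih =>
    rw [pow_succ, ih]
    ext j i
    rw [Matrix.mul_apply]
    simp only [Matrix.of_apply]
    by_cases h : (i : ℕ) + (m + 1) = (j : ℕ)
    · rw [if_pos h, Finset.sum_eq_single ⟨(i : ℕ) + 1, by have := j.2; omega⟩]
      · simp only [J, Matrix.of_apply]
        rw [if_pos (by omega)]
        simp
      · intro l _ hl
        simp only [J, Matrix.of_apply]
        by_cases h2 : (i : ℕ) + 1 = (l : ℕ)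
        · exfalso
          apply hl
          exact Fin.ext h2.symm
        · rw [if_neg h2, mul_zero]
      · intro h'
        exact absurd (Finset.mem_univ _) h'
    · rw [if_neg h]
      apply Finset.sum_eq_zero
      intro l _
      simp only [J, Matrix.of_apply]
      by_cases h2 : (i : ℕ) + 1 = (l : ℕ)
      · rw [if_neg (by omega), zero_mul]
      · rw [if_neg h2, mul_zero]

theorem J_nilpotent (k : ℕ) : IsNilpotent (J F k) := by
  refine ⟨k, ?_⟩
  rw [J_pow]
  ext j i
  have := j.2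
  simp only [Matrix.zero_apply, Matrix.of_apply]
  rw [if_neg (by omega)]

theorem fromBlocks_pow {k c : ℕ} (A : Matrix (Fin k) (Fin k) F) (X : Matrix (Fin k) (Fin c) F)
    (Y : Matrix (Fin c) (Fin c) F) (m : ℕ) :
    ∃ Z : Matrix (Fin k) (Fin c) F, (fromBlocks A X 0 Y) ^ m = fromBlocks (A ^ m) Z 0 (Y ^ m) := by
  induction m with
  | zero => exact ⟨0, by simp [Matrix.fromBlocks_one]⟩
  | succ m ih =>
    obtain ⟨Z, hZ⟩ := ih
    refine ⟨A ^ m * X + Z * Y, ?_⟩
    rw [pow_succ, hZ, Matrix.fromBlocks_multiply]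
    simp [pow_succ]

theorem isNilpotent_fromBlocks_iff {k c : ℕ} (A : Matrix (Fin k) (Fin k) F)
    (X : Matrix (Fin k) (Fin c) F) (Y : Matrix (Fin c) (Fin c) F) (hA : IsNilpotent A) :
    IsNilpotent (fromBlocks A X 0 Y) ↔ IsNilpotent Y := by
  constructor
  · rintro ⟨m, hm⟩
    obtain ⟨Z, hZ⟩ := fromBlocks_pow A X Y m
    rw [hZ] at hm
    refine ⟨m, ?_⟩
    have := congrArg Matrix.toBlocks₂₂ hm
    rw [Matrix.toBlocks_fromBlocks₂₂] at this
    rw [this]
    rfl
  · rintro ⟨b, hb⟩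
    obtain ⟨a, ha⟩ := hA
    refine ⟨a + b, ?_⟩
    obtain ⟨Z, hZ⟩ := fromBlocks_pow A X Y a
    obtain ⟨Z', hZ'⟩ := fromBlocks_pow A X Y b
    rw [pow_add, hZ, hZ', ha, hb, Matrix.fromBlocks_multiply]
    simp

end Cfsg.Agent.Lib.H12.NilCount
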