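import Mathlib
import Cfsg.Agent.Lib.H12.NilCount1
import Cfsg.Agent.Lib.H12.NilCount2

set_option autoImplicit false
set_option linter.unusedSectionVars false

open Matrix Module

namespace Cfsg.Agent.Lib.H12.NilCount

variable {F : Type*} [Field F]
variable {n : ℕ}

/-- a basis adapted to an independent family -/
theorem exists_adapted_basis {k : ℕ} (s : Fin k → Fin n → F) (hs : LinearIndependent F s) :
    ∃ b : Basis (Fin k ⊕ Fin (n - k)) F (Fin n → F), ∀ i, b (Sum.inl i) = s i := by
  classical
  set Z := Submodule.span F (Set.range s) with hZ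
  obtain ⟨C, hC⟩ := Submodule.exists_isCompl Z
  have hfZ : finrank F Z = k := by
    rw [hZ, finrank_span_eq_card hs, Fintype.card_fin]
  have hfC : finrank F C = n - k := by
    have := Submodule.finrank_add_eq_of_isCompl hC
    rw [hfZ, Module.finrank_fintype_fun_eq_card, Fintype.card_fin] at this
    omega
  let bZ : Basis (Fin k) F Z := Basis.span hs
  let bC : Basis (Fin (n - k)) F C := Module.finBasisOfFinrankEq F C hfC
  refine ⟨(bZ.prod bC).map (Submodule.prodEquivOfIsCompl Z C hC), ?_⟩
  intro i
  rw [Basis.map_apply, Basis.prod_apply]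
  simp only [Sum.elim_inl, Function.comp_apply, LinearMap.coe_inl]
  rw [Submodule.coe_prodEquivOfIsCompl']
  simp only [Submodule.coe_zero, add_zero]
  exact congrArg Subtype.val (Basis.span_apply hs i)

variable [Fintype F]

theorem card_fiber {k : ℕ} (s : Fin k → Fin n → F) (hs : LinearIndependent F s) :
    Nat.card {T : Matrix (Fin n) (Fin n) F // IsNilpotent T ∧ Fits T s} =
      Fintype.card F ^ (k * (n - k)) *
        Nat.card {Y : Matrix (Fin (n - k)) (Fin (n - k)) F // IsNilpotent Y} := by
  classical
  obtain ⟨b, hb⟩ := exists_adapted_basis s hs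
  let Ψ : Matrix (Fin n) (Fin n) F ≃ₐ[F] Matrix (Fin k ⊕ Fin (n - k)) (Fin k ⊕ Fin (n - k)) F :=
    (Matrix.toLinAlgEquiv' : Matrix (Fin n) (Fin n) F ≃ₐ[F] _).trans (LinearMap.toMatrixAlgEquiv b)
  have hΨ : ∀ T i j, Ψ T j i = b.repr (T *ᵥ b i) j := by
    intro T i j
    simp [Ψ, LinearMap.toMatrixAlgEquiv_apply]
  -- step 1
  have e1 : {T : Matrix (Fin n) (Fin n) F // IsNilpotent T ∧ Fits T s} ≃
      {M : Matrix (Fin k ⊕ Fin (n - k)) (Fin k ⊕ Fin (n - k)) F //
        IsNilpotent M ∧ M.toBlocks₁₁ = J F k ∧ M.toBlocks₂₁ = 0} := by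
    refine Equiv.subtypeEquiv Ψ.toEquiv ?_
    intro T
    have hnil : IsNilpotent (Ψ.toEquiv T) ↔ IsNilpotent T :=
      IsNilpotent.map_iff (f := Ψ) Ψ.injective
    rw [hnil]
    apply and_congr Iff.rfl
    constructor
    · intro hf
      constructor
      · ext j i
        change Ψ T (Sum.inl j) (Sum.inl i) = _
        rw [hΨ, hb, hf i]
        simp only [J, Matrix.of_apply]
        split_ifs with h1 h2 h2
        · rw [← hb, Basis.repr_self, Finsupp.single_apply, if_pos]
          congr 1
          exact Fin.ext h2
        · rw [← hb, Basis.repr_self, Finsupp.single_apply, if_neg]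
          intro h3
          apply h2
          have := Sum.inl_injective h3
          rw [← this]
        · exfalso
          have := j.2
          omega
        · simp
      · ext j i
        change Ψ T (Sum.inr j) (Sum.inl i) = _
        rw [hΨ, hb, hf i]
        split_ifs with h1
        · rw [← hb, Basis.repr_self, Finsupp.single_apply, if_neg (by simp)]
          rfl
        · simp
    · rintro ⟨h11, h21⟩ i
      apply b.repr.injective
      ext j
      rcases j with j | j
      · have h1 := congrFun (congrFun h11 j) i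
        change Ψ T (Sum.inl j) (Sum.inl i) = _ at h1
        rw [hΨ, hb] at h1
        rw [h1]
        simp only [J, Matrix.of_apply]
        split_ifs with h2 h3 h3
        · rw [← hb, Basis.repr_self, Finsupp.single_apply, if_pos]
          congr 1
          exact Fin.ext h2
        · exfalso
          have := j.2
          omega
        · rw [← hb, Basis.repr_self, Finsupp.single_apply, if_neg]
          intro h4
          apply h2
          have := Sum.inl_injective h4
          rw [← this]
        · simp
      · have h1 := congrFun (congrFun h21 j) i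
        change Ψ T (Sum.inr j) (Sum.inl i) = _ at h1
        rw [hΨ, hb] at h1
        rw [h1]
        split_ifs with h2
        · rw [← hb, Basis.repr_self, Finsupp.single_apply, if_neg (by simp)]
          rfl
        · simp
  -- step 2
  have e2 : {M : Matrix (Fin k ⊕ Fin (n - k)) (Fin k ⊕ Fin (n - k)) F //
        IsNilpotent M ∧ M.toBlocks₁₁ = J F k ∧ M.toBlocks₂₁ = 0} ≃
      Matrix (Fin k) (Fin (n - k)) F × {Y : Matrix (Fin (n - k)) (Fin (n - k)) F // IsNilpotent Y} :=
    { toFun := fun M => (M.1.toBlocks₁₂, ⟨M.1.toBlocks₂₂, by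
        obtain ⟨M, hM, h11, h21⟩ := M
        have h := Matrix.fromBlocks_toBlocks M
        rw [h11, h21] at h
        rw [← h] at hM
        exact (isNilpotent_fromBlocks_iff _ _ _ (J_nilpotent k)).1 hM⟩)
      invFun := fun p => ⟨fromBlocks (J F k) p.1 0 p.2.1,
        (isNilpotent_fromBlocks_iff _ _ _ (J_nilpotent k)).2 p.2.2,
        Matrix.toBlocks_fromBlocks₁₁ _ _ _ _, Matrix.toBlocks_fromBlocks₂₁ _ _ _ _⟩
      left_inv := by
        rintro ⟨M, hM, h11, h21⟩
        apply Subtype.ext
        simp only
        rw [← h11, ← h21]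
        exact Matrix.fromBlocks_toBlocks M
      right_inv := by
        rintro ⟨X, Y, hY⟩
        simp }
  rw [Nat.card_congr (e1.trans e2), Nat.card_prod]
  congr 1
  change Nat.card (Fin k → Fin (n - k) → F) = _
  rw [Nat.card_fun, Nat.card_fun, Nat.card_eq_fintype_card, Nat.card_eq_fintype_card,
    Nat.card_eq_fintype_card, Fintype.card_fin, Fintype.card_fin, ← pow_mul, mul_comm]

end Cfsg.Agent.Lib.H12.NilCount
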