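import Mathlib
import Cfsg.Agent.Lib.H12.NilCount3

set_option autoImplicit false
set_option linter.unusedSectionVars false

open Matrix Module

namespace Cfsg.Agent.Lib.H12.NilCount

/-- product of the `q^n - q^i` -/
def PP (q n k : ℕ) : ℕ := ∏ i ∈ Finset.range k, (q ^ n - q ^ i)

/-- telescoping claim -/
theorem arith_aux (q : ℕ) (hq : 1 ≤ q) (n : ℕ) :
    ∀ m d : ℕ, n = m + d + 1 →
      ∑ k ∈ Finset.range m, PP q n (k + 1) * q ^ ((n - 1 - k) * (n - 1)) + PP q n (m + 1) * q ^ (d * n) =
        (q ^ n - 1) * q ^ (n * (n - 1)) := by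
  intro m
  induction m with
  | zero =>
    intro d hd
    subst hd
    simp only [Finset.range_zero, Finset.sum_empty, zero_add, PP, Finset.prod_range_one, pow_zero]
    congr 2
    have : d + 1 - 1 = d := by omega
    rw [this]
    ring
  | succ m ih =>
    intro d hd
    have h1 := ih (d + 1) (by omega)
    rw [Finset.sum_range_succ, ← h1, add_assoc]
    congr 1
    have hP : PP q n (m + 1 + 1) = PP q n (m + 1) * (q ^ n - q ^ (m + 1)) := by
      unfold PP
      rw [Finset.prod_range_succ]
    rw [hP, mul_assoc, ← mul_add]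
    congr 1
    subst hd
    have e1 : m + 1 + d + 1 - 1 - m = d + 1 := by omega
    have e2 : m + 1 + d + 1 - 1 = m + d + 1 := by omega
    rw [e1, e2]
    have hle : q ^ (m + 1) ≤ q ^ (m + 1 + d + 1) := Nat.pow_le_pow_right hq (by omega)
    have e3 : q ^ ((d + 1) * (m + d + 1)) = q ^ (m + 1) * q ^ (d * (m + 1 + d + 1)) := by
      rw [← pow_add]
      congr 1
      ring
    rw [e3, ← add_mul, Nat.add_sub_cancel' hle, ← pow_add]
    congr 1
    ring

theorem arith (q : ℕ) (hq : 1 ≤ q) (n : ℕ) (hn : 1 ≤ n) :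
    ∑ k ∈ Finset.range n, PP q n (k + 1) * q ^ ((n - 1 - k) * (n - 1)) =
      (q ^ n - 1) * q ^ (n * (n - 1)) := by
  obtain ⟨n', rfl⟩ : ∃ n', n = n' + 1 := ⟨n - 1, by omega⟩
  have h := arith_aux q hq (n' + 1) n' 0 (by omega)
  rw [Finset.sum_range_succ]
  rw [← h]
  congr 1
  have : n' + 1 - 1 - n' = 0 := by omega
  rw [this]
  simp

theorem exp_eq (k j : ℕ) : (k + 1) * j + j * (j - 1) = j * (k + j) := by
  rcases j with _ | j
  · simp
  · simp only [Nat.add_sub_cancel]
    ring

variable {F : Type*} [Field F] [Fintype F]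
variable {n : ℕ}

local notation "q" => Fintype.card F

/-- number of nilpotent matrices -/
noncomputable def Nn (F : Type*) [Field F] (n : ℕ) : ℕ :=
  Nat.card {Y : Matrix (Fin n) (Fin n) F // IsNilpotent Y}

theorem card_ASet {k : ℕ} (hk : k ≤ n) :
    Nat.card (ASet F n k) =
      (∏ i : Fin k, (q ^ n - q ^ (i : ℕ))) * (q ^ (k * (n - k)) * Nn F (n - k)) := by
  classical
  let e : ASet F n k ≃ Σ s : {s : Fin k → Fin n → F // LinearIndependent F s},
      {T : Matrix (Fin n) (Fin n) F // IsNilpotent T ∧ Fits T s.1} :=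
    { toFun := fun p => ⟨⟨p.1.2, p.2.2.1⟩, ⟨p.1.1, p.2.1, p.2.2.2⟩⟩
      invFun := fun x => ⟨(x.2.1, x.1.1), x.2.2.1, x.1.2, x.2.2.2⟩
      left_inv := fun p => rfl
      right_inv := fun x => rfl }
  rw [Nat.card_congr e, Nat.card_sigma]
  have h1 : ∀ s : {s : Fin k → Fin n → F // LinearIndependent F s},
      Nat.card {T : Matrix (Fin n) (Fin n) F // IsNilpotent T ∧ Fits T s.1} =
        q ^ (k * (n - k)) * Nn F (n - k) := fun s => card_fiber s.1 s.2
  rw [Finset.sum_congr rfl (fun s _ => h1 s), Finset.sum_const, Finset.card_univ, smul_eq_mul,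
    ← Nat.card_eq_fintype_card, card_linearIndependent (by simpa using hk)]
  simp

theorem card_XSet : Nat.card (XSet F n) = Nn F n * (q ^ n - 1) := by
  classical
  let e : XSet F n ≃ {Y : Matrix (Fin n) (Fin n) F // IsNilpotent Y} × {v : Fin n → F // v ≠ 0} :=
    { toFun := fun p => (⟨p.1.1, p.2.1⟩, ⟨p.1.2, p.2.2⟩)
      invFun := fun x => ⟨(x.1.1, x.2.1), x.1.2, x.2.2⟩
      left_inv := fun p => rfl
      right_inv := fun x => rfl }
  rw [Nat.card_congr e, Nat.card_prod]
  congr 1
  rw [Nat.card_eq_fintype_card]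
  have := Set.card_ne_eq (0 : Fin n → F)
  simp only [Set.coe_ofPred, Fintype.card_fun, Fintype.card_fin] at this
  convert this

theorem Nn_zero : Nn F 0 = 1 := by
  unfold Nn
  have : Unique {Y : Matrix (Fin 0) (Fin 0) F // IsNilpotent Y} :=
    { default := ⟨0, IsNilpotent.zero⟩
      uniq := fun Y => Subtype.ext (Subsingleton.elim _ _) }
  exact Nat.card_unique

/-- Fine–Herstein: the number of nilpotent `n × n` matrices over `F_q` is `q^(n(n-1))` -/
theorem card_nilpotent (n : ℕ) : Nn F n = q ^ (n * (n - 1)) := by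
  induction n using Nat.strong_induction_on with
  | _ n ih =>
    rcases Nat.eq_zero_or_pos n with rfl | hn
    · rw [Nn_zero]
      simp
    · have hq : 1 ≤ q := Fintype.card_pos
      have hq2 : 2 ≤ q := Fintype.one_lt_card
      have h1 := card_XSet (F := F) (n := n)
      rw [card_XSet_eq_sum] at h1
      have h2 : ∀ k : Fin n, Nat.card (ASet F n ((k : ℕ) + 1)) =
          PP q n ((k : ℕ) + 1) * q ^ ((n - 1 - (k : ℕ)) * (n - 1)) := by
        intro k
        have hk := k.2
        rw [card_ASet (by omega), ih (n - ((k : ℕ) + 1)) (by omega), ← pow_add, exp_eq]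
        unfold PP
        rw [Fin.prod_univ_eq_prod_range (fun i => q ^ n - q ^ i) ((k : ℕ) + 1)]
        congr 2
        have e1 : n - ((k : ℕ) + 1) = n - 1 - k := by omega
        have e2 : (k : ℕ) + (n - ((k : ℕ) + 1)) = n - 1 := by omega
        rw [e2, e1]
      rw [Finset.sum_congr rfl (fun k _ => h2 k),
        Fin.sum_univ_eq_sum_range (fun k => PP q n (k + 1) * q ^ ((n - 1 - k) * (n - 1))) n,
        arith q hq n hn, mul_comm] at h1
      have hpos : 0 < q ^ n - 1 := by
        have : 2 ^ 1 ≤ q ^ n := by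
          calc 2 ^ 1 ≤ q ^ 1 := Nat.pow_le_pow_left hq2 1
            _ ≤ q ^ n := Nat.pow_le_pow_right hq hn
        omega
      exact (Nat.eq_of_mul_eq_mul_right hpos h1).symm

/-- Steinberg's count for `GL_n`: the number of elements of `p`-power order is `q^(n(n-1))` -/
theorem card_unipotent (p : ℕ) [Fact p.Prime] [CharP F p] (n : ℕ) :
    Nat.card {g : Matrix.GeneralLinearGroup (Fin n) F // ∃ k : ℕ, orderOf g = p ^ k} =
      q ^ (n * (n - 1)) := by
  classical
  have hpp : p.Prime := Fact.out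
  rcases Nat.eq_zero_or_pos n with rfl | hn
  · have : Unique {g : Matrix.GeneralLinearGroup (Fin 0) F // ∃ k : ℕ, orderOf g = p ^ k} :=
      { default := ⟨1, 0, by simp⟩
        uniq := fun g => Subtype.ext (Subsingleton.elim _ _) }
    rw [Nat.card_unique]
    simp
  have : Nonempty (Fin n) := ⟨⟨0, hn⟩⟩
  rw [← card_nilpotent (F := F) n]
  unfold Nn
  have hcomm : ∀ M : Matrix (Fin n) (Fin n) F, Commute M 1 := fun M => Commute.one_right M
  let f : {g : Matrix.GeneralLinearGroup (Fin n) F // ∃ k : ℕ, orderOf g = p ^ k} →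
      {Y : Matrix (Fin n) (Fin n) F // IsNilpotent Y} := fun g =>
    ⟨(g.1 : Matrix (Fin n) (Fin n) F) - 1, by
      obtain ⟨k, hk⟩ := g.2
      refine ⟨p ^ k, ?_⟩
      rw [sub_pow_char_pow_of_commute p k (hcomm _), one_pow, ← Units.val_pow_eq_pow_val, ← hk,
        pow_orderOf_eq_one, Units.val_one, sub_self]⟩
  have hf : Function.Bijective f := by
    constructor
    · intro g g' h
      have h1 := congrArg Subtype.val h
      simp only [f] at h1
      apply Subtype.ext
      apply Units.ext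
      exact sub_left_injective h1
    · rintro ⟨Y, j, hj⟩
      have hj' : Y ^ (p ^ j) = 0 := by
        have h1 : j ≤ p ^ j := (Nat.lt_pow_self hpp.one_lt).le
        rw [← Nat.sub_add_cancel h1, pow_add, hj, mul_zero]
      have h2 : (1 + Y) ^ (p ^ j) = 1 := by
        rw [add_pow_char_pow_of_commute p j (Commute.one_left Y), one_pow, hj', add_zero]
      have hpos : 1 ≤ p ^ j := Nat.one_le_pow _ _ hpp.pos
      let g : Matrix.GeneralLinearGroup (Fin n) F := ⟨1 + Y, (1 + Y) ^ (p ^ j - 1), by
        rw [← pow_succ', Nat.sub_add_cancel hpos, h2], by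
        rw [← pow_succ, Nat.sub_add_cancel hpos, h2]⟩
      have hg : g ^ (p ^ j) = 1 := by
        apply Units.ext
        rw [Units.val_pow_eq_pow_val]
        exact h2
      have hord : ∃ k : ℕ, orderOf g = p ^ k := by
        obtain ⟨k, -, hk⟩ := (Nat.dvd_prime_pow hpp).1 (orderOf_dvd_of_pow_eq_one hg)
        exact ⟨k, hk⟩
      refine ⟨⟨g, hord⟩, ?_⟩
      apply Subtype.ext
      simp [f, g]
  exact Nat.card_congr (Equiv.ofBijective f hf)

end Cfsg.Agent.Lib.H12.NilCount
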