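import Mathlib
import Cfsg.Prelude.Def_Characters
import Cfsg.Agent.Lib.L0.CharOps
import Cfsg.Agent.Lib.H5.Ord.SylPrime2

/-!
S0977 piece (O4) `invol_values`: values of an irreducible character at an involution `t` inverting a
self-centralizing subgroup `K` of order 5 whose nonidentity elements are all conjugate.
We pull `χ` back along the homomorphism `DihedralGroup 5 →* G`, `r i ↦ x ^ i`, `sr i ↦ t * x ^ i`, and pair
it with the trivial and the sign character of the dihedral group.
-/
set_option autoImplicit false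

namespace Cfsg.Agent.Lib.H12.O4320
open Cfsg
open scoped BigOperators ComplexConjugate
universe u

section dih
variable {G : Type u} [Group G]

/-- `i ↦ x ^ i` on `ZMod 5`. -/
def zpw (x : G) (i : ZMod 5) : G := x ^ i.val

theorem zpw_zero (x : G) : zpw x 0 = 1 := by simp [zpw]

theorem zpw_add {x : G} (hx : orderOf x = 5) (i j : ZMod 5) : zpw x (i + j) = zpw x i * zpw x j := by
  unfold zpw
  rw [ZMod.val_add, ← pow_add]
  have h := pow_mod_orderOf x (i.val + j.val)
  rw [hx] at h
  exact h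

theorem zpw_neg {x : G} (hx : orderOf x = 5) (i : ZMod 5) : zpw x (-i) = (zpw x i)⁻¹ := by
  rw [eq_inv_iff_mul_eq_one, ← zpw_add hx, neg_add_cancel, zpw_zero]

theorem zpw_sub {x : G} (hx : orderOf x = 5) (i j : ZMod 5) :
    zpw x (j - i) = (zpw x i)⁻¹ * zpw x j := by
  rw [sub_eq_neg_add, zpw_add hx, zpw_neg hx]

theorem zpw_comm (x : G) (i j : ZMod 5) : zpw x i * zpw x j = zpw x j * zpw x i := by
  unfold zpw
  rw [← pow_add, ← pow_add, add_comm]

/-- The underlying function of the homomorphism `DihedralGroup 5 → G`. -/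
def dihFun (x t : G) : DihedralGroup 5 → G
  | DihedralGroup.r i => zpw x i
  | DihedralGroup.sr i => t * zpw x i

/-- The homomorphism `DihedralGroup 5 →* G` for `x` of order 5 inverted by the involution `t`. -/
def dihHom (x t : G) (hx : orderOf x = 5) (ht : t * t = 1)
    (hinv : ∀ i : ZMod 5, zpw x i * t = t * (zpw x i)⁻¹) : DihedralGroup 5 →* G :=
  MonoidHom.mk' (dihFun x t) (by
    intro a b
    cases a with
    | r i =>
      cases b with
      | r j =>
        show dihFun x t (DihedralGroup.r i * DihedralGroup.r j) = _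
        rw [DihedralGroup.r_mul_r]
        exact zpw_add hx i j
      | sr j =>
        show dihFun x t (DihedralGroup.r i * DihedralGroup.sr j) = _
        rw [DihedralGroup.r_mul_sr]
        show t * zpw x (j - i) = zpw x i * (t * zpw x j)
        rw [zpw_sub hx, ← mul_assoc (zpw x i), hinv i, mul_assoc]
    | sr i =>
      cases b with
      | r j =>
        show dihFun x t (DihedralGroup.sr i * DihedralGroup.r j) = _
        rw [DihedralGroup.sr_mul_r]
        show t * zpw x (i + j) = t * zpw x i * zpw x j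
        rw [zpw_add hx, mul_assoc]
      | sr j =>
        show dihFun x t (DihedralGroup.sr i * DihedralGroup.sr j) = _
        rw [DihedralGroup.sr_mul_sr]
        show zpw x (j - i) = t * zpw x i * (t * zpw x j)
        rw [zpw_sub hx, mul_assoc t, ← mul_assoc (zpw x i), hinv i, mul_assoc t, ← mul_assoc t t,
          ht, one_mul])

/-- The sign character of the dihedral group. -/
def dihSgn : DihedralGroup 5 →* ℂˣ :=
  MonoidHom.mk' (fun a => match a with
    | DihedralGroup.r _ => 1
    | DihedralGroup.sr _ => -1) (by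
    intro a b
    cases a <;> cases b <;> simp [DihedralGroup.r_mul_r, DihedralGroup.r_mul_sr,
      DihedralGroup.sr_mul_r, DihedralGroup.sr_mul_sr])

theorem three_mul_add (i : ZMod 5) : 3 * i + 3 * i = i := by
  revert i; decide

theorem card_filter_zero :
    (Finset.univ.filter (fun i : ZMod 5 => i = 0)).card = 1 := by decide

theorem card_filter_ne_zero :
    (Finset.univ.filter (fun i : ZMod 5 => ¬ i = 0)).card = 4 := by decide

theorem card_univ_five : (Finset.univ : Finset (ZMod 5)).card = 5 := by decide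

theorem sum_dih (f : DihedralGroup 5 → ℂ) :
    ∑ a : DihedralGroup 5, f a
      = ∑ i : ZMod 5, f (DihedralGroup.r i) + ∑ i : ZMod 5, f (DihedralGroup.sr i) := by
  rw [Fintype.sum_equiv DihedralGroup.equivSum f (fun s => f (DihedralGroup.equivSum.symm s))
    (fun a => by rw [Equiv.symm_apply_apply]), Fintype.sum_sum_type]
  rfl

end dih

theorem invol_values {G : Type u} [Group G] [Fintype G] (K : Subgroup G) (hK : Nat.card K = 5)
    (hC : Subgroup.centralizer (K : Set G) = K) {x : G} (hx : x ∈ K) (hx1 : x ≠ 1)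
    (hconj : ∀ k ∈ K, k ≠ 1 → IsConj x k) {t : G} (htN : t ∈ Subgroup.normalizer (K : Set G))
    (ht : orderOf t = 2) (χ : IrrCharacter G) (d : ℕ) (hd : (χ : G → ℂ) 1 = d) (m : ℤ)
    (hm : (χ : G → ℂ) x = m) :
    ∃ np nm : ℕ, (5 : ℤ) * ((np : ℤ) + nm) = d + 4 * m ∧ (χ : G → ℂ) t = (np : ℂ) - nm := by
  classical
  have : Fact (Nat.Prime 5) := ⟨by norm_num⟩
  have hχc : IsCharacter G (χ : G → ℂ) := Cfsg.Agent.Lib.L0.isCharacter_of_irr χ.2
  have hcf : IsClassFunction G (χ : G → ℂ) := Cfsg.Agent.Lib.L0.isClassFunction_of_isCharacter hχc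
  have hcf' : ∀ a b : G, IsConj a b → (χ : G → ℂ) a = (χ : G → ℂ) b := by
    intro a b hab
    obtain ⟨c, hc⟩ := isConj_iff.mp hab
    rw [← hc]
    exact (hcf a c).symm
  -- order of x
  have hox : orderOf x = 5 := by
    have h1 : orderOf x ∣ 5 := by
      have := orderOf_dvd_natCard (⟨x, hx⟩ : K)
      rwa [hK, Subgroup.orderOf_mk] at this
    rcases (Nat.dvd_prime (by norm_num : Nat.Prime 5)).mp h1 with h | h
    · exact absurd (orderOf_eq_one_iff.mp h) hx1
    · exact h
  -- t is not in K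
  have htt : t * t = 1 := by
    rw [← pow_two, ← ht]; exact pow_orderOf_eq_one t
  have htK : t ∉ K := by
    intro h
    have h1 : orderOf t ∣ 5 := by
      have := orderOf_dvd_natCard (⟨t, h⟩ : K)
      rwa [hK, Subgroup.orderOf_mk] at this
    rw [ht] at h1
    omega
  have hinvK : ∀ y ∈ K, t * y * t⁻¹ = y⁻¹ :=
    Cfsg.Agent.Lib.H5.SylPrime.conj_eq_inv_of_not_mem_centralizer K hK htN
      (by rw [htt]; exact one_mem _) (by rw [hC]; exact htK)
  have hzK : ∀ i : ZMod 5, zpw x i ∈ K := fun i => K.pow_mem hx _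
  have hinv : ∀ i : ZMod 5, zpw x i * t = t * (zpw x i)⁻¹ := by
    intro i
    have h := hinvK _ (K.inv_mem (hzK i))
    rw [inv_inv] at h
    calc zpw x i * t = (t * (zpw x i)⁻¹ * t⁻¹) * t := by rw [h]
      _ = t * (zpw x i)⁻¹ := by group
  set φ : DihedralGroup 5 →* G := dihHom x t hox htt hinv with hφ
  have hφr : ∀ i, φ (DihedralGroup.r i) = zpw x i := fun i => rfl
  have hφs : ∀ i, φ (DihedralGroup.sr i) = t * zpw x i := fun i => rfl
  -- values on rotations
  have hval_r : ∀ i : ZMod 5, (χ : G → ℂ) (zpw x i) = if i = 0 then (d : ℂ) else (m : ℂ) := by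
    intro i
    by_cases hi : i = 0
    · rw [if_pos hi, hi, zpw_zero, hd]
    · rw [if_neg hi, ← hm]
      symm
      apply hcf'
      apply hconj _ (hzK i)
      unfold zpw
      apply pow_ne_one_of_lt_orderOf
      · intro h0
        exact hi ((ZMod.val_eq_zero i).mp h0)
      · rw [hox]; exact ZMod.val_lt i
  -- values on reflections
  have hval_s : ∀ i : ZMod 5, (χ : G → ℂ) (t * zpw x i) = (χ : G → ℂ) t := by
    intro i
    apply hcf'
    rw [isConj_comm, isConj_iff]
    -- y = zpw x (3 * i), y * y = zpw x i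
    refine ⟨(zpw x (3 * i))⁻¹, ?_⟩
    have hy : zpw x (3 * i) * zpw x (3 * i) = zpw x i := by
      rw [← zpw_add hox]
      congr 1
      exact three_mul_add i
    have h := hinv (3 * i)
    rw [inv_inv, ← hy, ← mul_assoc]
    calc (zpw x (3 * i))⁻¹ * t * zpw x (3 * i)
        = (zpw x (3 * i))⁻¹ * (t * (zpw x (3 * i))⁻¹) * zpw x (3 * i) * zpw x (3 * i) := by group
      _ = (zpw x (3 * i))⁻¹ * (zpw x (3 * i) * t) * zpw x (3 * i) * zpw x (3 * i) := by rw [h]
      _ = t * zpw x (3 * i) * zpw x (3 * i) := by group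
  obtain ⟨np, hnp⟩ := Cfsg.Agent.Lib.L0.classInner_char_irr_nat
    (Cfsg.Agent.Lib.L0.isCharacter_comp φ hχc) (Cfsg.Agent.Lib.L0.isIrrCharacter_one)
  obtain ⟨nm, hnm⟩ := Cfsg.Agent.Lib.L0.classInner_char_irr_nat
    (Cfsg.Agent.Lib.L0.isCharacter_comp φ hχc) (Cfsg.Agent.Lib.L0.isIrrCharacter_of_hom dihSgn)
  have hcard : (Nat.card (DihedralGroup 5) : ℂ) = 10 := by
    rw [DihedralGroup.nat_card]; norm_num
  have hA : ∑ i : ZMod 5, (χ : G → ℂ) (zpw x i) = (d : ℂ) + 4 * (m : ℂ) := by
    simp_rw [hval_r]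
    rw [Finset.sum_ite, Finset.sum_const, Finset.sum_const]
    rw [card_filter_zero, card_filter_ne_zero]
    simp
  have hB : ∑ i : ZMod 5, (χ : G → ℂ) (t * zpw x i) = 5 * (χ : G → ℂ) t := by
    simp_rw [hval_s]
    rw [Finset.sum_const]
    rw [card_univ_five]
    simp
  have hP : (np : ℂ) = (10 : ℂ)⁻¹ * ((d : ℂ) + 4 * (m : ℂ) + 5 * (χ : G → ℂ) t) := by
    rw [← hnp, classInner, hcard, sum_dih]
    simp only [Function.comp_apply, hφr, hφs, Pi.one_apply, map_one, mul_one]
    rw [hA, hB]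
  have hM : (nm : ℂ) = (10 : ℂ)⁻¹ * ((d : ℂ) + 4 * (m : ℂ) - 5 * (χ : G → ℂ) t) := by
    rw [← hnm, classInner, hcard, sum_dih]
    have e1 : ∀ i : ZMod 5, ((dihSgn (DihedralGroup.r i) : ℂˣ) : ℂ) = 1 := fun i => rfl
    have e2 : ∀ i : ZMod 5, ((dihSgn (DihedralGroup.sr i) : ℂˣ) : ℂ) = -1 := fun i => by
      show (((-1 : ℂˣ) : ℂˣ) : ℂ) = -1
      simp
    simp only [Function.comp_apply, hφr, hφs, e1, e2, map_one, mul_one, map_neg, mul_neg,
      Finset.sum_neg_distrib]
    rw [hA, hB]
    ring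
  refine ⟨np, nm, ?_, ?_⟩
  · have h : ((5 : ℤ) * ((np : ℤ) + nm) : ℂ) = ((d + 4 * m : ℤ) : ℂ) := by
      push_cast
      rw [hP, hM]
      ring
    exact_mod_cast h
  · rw [hP, hM]
    ring

end Cfsg.Agent.Lib.H12.O4320
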