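import Mathlib

/-!
S0980 piece (E2) `real_values`: a sum of 5th roots of unity whose power sums satisfy `S_1 = S_4`, `S_2 = S_3`
is `A + m (ζ + ζ^4)`, and then `S_2 = A + m (ζ^2 + ζ^3)`, with integers `A`, `m`.  PURE Mathlib.
-/
set_option autoImplicit false

namespace Cfsg.Agent.Lib.H12.O5760
open scoped BigOperators

/-- power sums in terms of the multiplicities of the roots `ζ^i`. -/
theorem pow_sum_eq {n : ℕ} (ζ : ℂ) (hζ : IsPrimitiveRoot ζ 5) (a : Fin n → ℂ) (ha : ∀ k, a k ^ 5 = 1)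
    (j : ℕ) :
    ∑ k, a k ^ j = ∑ i ∈ Finset.range 5,
      ((Finset.univ.filter (fun k => a k = ζ ^ i)).card : ℂ) * (ζ ^ i) ^ j := by
  have h1 : ∀ k, a k ^ j = ∑ i ∈ Finset.range 5, if a k = ζ ^ i then (ζ ^ i) ^ j else 0 := by
    intro k
    obtain ⟨i0, hi0, h⟩ := hζ.eq_pow_of_pow_eq_one (ha k)
    rw [Finset.sum_eq_single i0]
    · rw [if_pos h.symm, h]
    · intro b hb hne
      rw [if_neg]
      intro hb'
      apply hne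
      exact hζ.pow_inj (Finset.mem_range.mp hb) hi0 (hb'.symm.trans h.symm)
    · intro h'
      exact absurd (Finset.mem_range.mpr hi0) h'
  simp_rw [h1]
  rw [Finset.sum_comm]
  refine Finset.sum_congr rfl fun i _ => ?_
  rw [← Finset.sum_filter, Finset.sum_const, nsmul_eq_mul]

theorem real_values {n : ℕ} (ζ : ℂ) (hζ : IsPrimitiveRoot ζ 5) (a : Fin n → ℂ) (ha : ∀ k, a k ^ 5 = 1)
    (h14 : ∑ k, a k ^ 1 = ∑ k, a k ^ 4) (h23 : ∑ k, a k ^ 2 = ∑ k, a k ^ 3) :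
    ∃ A m : ℤ, ∑ k, a k ^ 1 = (A : ℂ) + m * (ζ + ζ ^ 4) ∧ ∑ k, a k ^ 2 = (A : ℂ) + m * (ζ ^ 2 + ζ ^ 3) := by
  classical
  have h5 : ζ ^ 5 = 1 := hζ.pow_eq_one
  have hsum : 1 + ζ + ζ ^ 2 + ζ ^ 3 + ζ ^ 4 = 0 := by
    have := hζ.geom_sum_eq_zero (by norm_num : 1 < 5)
    simpa [Finset.sum_range_succ] using this
  set c : ℕ → ℕ := fun i => (Finset.univ.filter (fun k => a k = ζ ^ i)).card with hc
  have e1 : ∑ k, a k ^ 1 = (c 0 : ℂ) + c 1 * ζ + c 2 * ζ ^ 2 + c 3 * ζ ^ 3 + c 4 * ζ ^ 4 := by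
    rw [pow_sum_eq ζ hζ a ha 1]
    simp only [Finset.sum_range_succ, Finset.sum_range_zero, hc]
    ring
  have e2 : ∑ k, a k ^ 2 = (c 0 : ℂ) + c 1 * ζ ^ 2 + c 2 * ζ ^ 4 + c 3 * ζ + c 4 * ζ ^ 3 := by
    rw [pow_sum_eq ζ hζ a ha 2]
    simp only [Finset.sum_range_succ, Finset.sum_range_zero, hc]
    linear_combination ((c 3 : ℂ) * ζ + (c 4 : ℂ) * ζ ^ 3) * h5
  have e3 : ∑ k, a k ^ 3 = (c 0 : ℂ) + c 1 * ζ ^ 3 + c 2 * ζ + c 3 * ζ ^ 4 + c 4 * ζ ^ 2 := by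
    rw [pow_sum_eq ζ hζ a ha 3]
    simp only [Finset.sum_range_succ, Finset.sum_range_zero, hc]
    linear_combination ((c 2 : ℂ) * ζ + (c 3 : ℂ) * ζ ^ 4 + (c 4 : ℂ) * ζ ^ 2 * (ζ ^ 5 + 1)) * h5
  have e4 : ∑ k, a k ^ 4 = (c 0 : ℂ) + c 1 * ζ ^ 4 + c 2 * ζ ^ 3 + c 3 * ζ ^ 2 + c 4 * ζ := by
    rw [pow_sum_eq ζ hζ a ha 4]
    simp only [Finset.sum_range_succ, Finset.sum_range_zero, hc]
    linear_combination ((c 2 : ℂ) * ζ ^ 3 + (c 3 : ℂ) * ζ ^ 2 * (ζ ^ 5 + 1)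
      + (c 4 : ℂ) * ζ * (ζ ^ 10 + ζ ^ 5 + 1)) * h5
  -- the two linear relations
  have r1 : ((c 1 : ℂ) - c 4) * (ζ - ζ ^ 4) + ((c 2 : ℂ) - c 3) * (ζ ^ 2 - ζ ^ 3) = 0 := by
    have := h14
    rw [e1, e4] at this
    linear_combination this
  have r2 : ((c 1 : ℂ) - c 4) * (ζ ^ 2 - ζ ^ 3) - ((c 2 : ℂ) - c 3) * (ζ - ζ ^ 4) = 0 := by
    have := h23
    rw [e2, e3] at this
    linear_combination this
  have huv : (ζ - ζ ^ 4) ^ 2 + (ζ ^ 2 - ζ ^ 3) ^ 2 = -5 := by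
    linear_combination hsum + (-4 + ζ ^ 3 + ζ) * h5
  have hp : (c 1 : ℂ) - c 4 = 0 := by
    have h : ((c 1 : ℂ) - c 4) * (-5) = 0 := by
      rw [← huv]
      linear_combination (ζ - ζ ^ 4) * r1 + (ζ ^ 2 - ζ ^ 3) * r2
    rcases mul_eq_zero.mp h with h | h
    · exact h
    · norm_num at h
  have hq : (c 2 : ℂ) - c 3 = 0 := by
    have h : ((c 2 : ℂ) - c 3) * (-5) = 0 := by
      rw [← huv]
      linear_combination (ζ ^ 2 - ζ ^ 3) * r1 - (ζ - ζ ^ 4) * r2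
    rcases mul_eq_zero.mp h with h | h
    · exact h
    · norm_num at h
  have h41 : (c 4 : ℂ) = c 1 := by linear_combination -hp
  have h32 : (c 3 : ℂ) = c 2 := by linear_combination -hq
  refine ⟨(c 0 : ℤ) - c 2, (c 1 : ℤ) - c 2, ?_, ?_⟩
  · rw [e1, h41, h32]
    push_cast
    linear_combination (c 2 : ℂ) * hsum
  · rw [e2, h41, h32]
    push_cast
    linear_combination (c 2 : ℂ) * hsum

end Cfsg.Agent.Lib.H12.O5760
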