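import Mathlib

/-!
S0980 piece (E3) `arith_three`: PURE integer combinatorics.  `f(A,m) = 2A^2 - 2Am + 3m^2`, `N(A,m) = A^2 - Am - m^2`;
total `f = 10`, total `N = 0` and one index with `(A,m) = (1,0)` force the pattern `2 + 2 + 3 + 3`.
-/
set_option autoImplicit false

namespace Cfsg.Agent.Lib.H12.O5760
open scoped BigOperators
universe u

theorem ff_nonneg (a m : ℤ) : 0 ≤ 2 * a ^ 2 - 2 * a * m + 3 * m ^ 2 := by
  nlinarith [sq_nonneg (a - m), sq_nonneg a, sq_nonneg m]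

theorem ff_bounds (a m : ℤ) (h : 2 * a ^ 2 - 2 * a * m + 3 * m ^ 2 ≤ 8) :
    -2 ≤ a ∧ a ≤ 2 ∧ -2 ≤ m ∧ m ≤ 2 := by
  refine ⟨?_, ?_, ?_, ?_⟩ <;> nlinarith [sq_nonneg (a - m), sq_nonneg a, sq_nonneg m, sq_nonneg (a + m),
    sq_nonneg (a - 2 * m), sq_nonneg (2 * a - m)]

/-- `f ≤ 8` and `N < 0` force one of the four points with `f = 3`. -/
theorem cls8 (a m : ℤ) (h : 2 * a ^ 2 - 2 * a * m + 3 * m ^ 2 ≤ 8) (hN : a ^ 2 - a * m - m ^ 2 < 0) :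
    (a = 0 ∧ m = 1) ∨ (a = 0 ∧ m = -1) ∨ (a = 1 ∧ m = 1) ∨ (a = -1 ∧ m = -1) := by
  obtain ⟨h1, h2, h3, h4⟩ := ff_bounds a m h
  interval_cases a <;> interval_cases m <;> simp_all

/-- classification of the points with `0 < f ≤ 5`. -/
theorem cls5 (a m : ℤ) (h : 2 * a ^ 2 - 2 * a * m + 3 * m ^ 2 ≤ 5)
    (h0 : 2 * a ^ 2 - 2 * a * m + 3 * m ^ 2 ≠ 0) :
    (2 * a ^ 2 - 2 * a * m + 3 * m ^ 2 = 2 ∧ ((a = 1 ∧ m = 0) ∨ (a = -1 ∧ m = 0))) ∨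
    (2 * a ^ 2 - 2 * a * m + 3 * m ^ 2 = 3 ∧
      ((a = 0 ∧ m = 1) ∨ (a = 0 ∧ m = -1) ∨ (a = 1 ∧ m = 1) ∨ (a = -1 ∧ m = -1))) := by
  obtain ⟨h1, h2, h3, h4⟩ := ff_bounds a m (by omega)
  interval_cases a <;> interval_cases m <;> simp_all

theorem cls0 (a m : ℤ) (h : 2 * a ^ 2 - 2 * a * m + 3 * m ^ 2 = 0) : a = 0 ∧ m = 0 := by
  obtain ⟨h1, h2, h3, h4⟩ := ff_bounds a m (by omega)
  interval_cases a <;> interval_cases m <;> simp_all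

/-- the value of `f` at the four points with `f = 3`. -/
theorem ff_of_P3 (a m : ℤ)
    (h : (a = 0 ∧ m = 1) ∨ (a = 0 ∧ m = -1) ∨ (a = 1 ∧ m = 1) ∨ (a = -1 ∧ m = -1)) :
    2 * a ^ 2 - 2 * a * m + 3 * m ^ 2 = 3 := by
  rcases h with ⟨rfl, rfl⟩ | ⟨rfl, rfl⟩ | ⟨rfl, rfl⟩ | ⟨rfl, rfl⟩ <;> norm_num

/-- peel_sum_nonneg off one nonzero term of a sum of nonnegative integers. -/
theorem peel_sum_nonneg {ι : Type u} [DecidableEq ι] (S : Finset ι) (f : ι → ℤ) (hnn : ∀ i, 0 ≤ f i) (s : ℤ)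
    (hs : ∑ i ∈ S, f i = s) (hpos : 0 < s) :
    ∃ k ∈ S, f k ≠ 0 ∧ f k ≤ s ∧ ∑ i ∈ S.erase k, f i = s - f k := by
  have hne : ∑ i ∈ S, f i ≠ 0 := by rw [hs]; exact hpos.ne'
  obtain ⟨k, hk, hk0⟩ := Finset.exists_ne_zero_of_sum_ne_zero hne
  have hadd := Finset.add_sum_erase S f hk
  have hnn' : 0 ≤ ∑ i ∈ S.erase k, f i := Finset.sum_nonneg fun i _ => hnn i
  refine ⟨k, hk, hk0, by linarith, by linarith⟩

theorem arith_three {ι : Type u} [Fintype ι] [DecidableEq ι] (A m : ι → ℤ) (i₁ : ι) (hA1 : A i₁ = 1) (hm1 : m i₁ = 0)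
    (hf : ∑ i, (2 * A i ^ 2 - 2 * A i * m i + 3 * m i ^ 2) = 10)
    (hN : ∑ i, (A i ^ 2 - A i * m i - m i ^ 2) = 0) :
    ∃ i₀ j₁ j₂ : ι, i₀ ≠ i₁ ∧ j₁ ≠ i₁ ∧ j₂ ≠ i₁ ∧ i₀ ≠ j₁ ∧ i₀ ≠ j₂ ∧ j₁ ≠ j₂ ∧
      ((A i₀ = 1 ∧ m i₀ = 0) ∨ (A i₀ = -1 ∧ m i₀ = 0)) ∧
      ((A j₁ = 0 ∧ m j₁ = 1) ∨ (A j₁ = 0 ∧ m j₁ = -1) ∨ (A j₁ = 1 ∧ m j₁ = 1) ∨ (A j₁ = -1 ∧ m j₁ = -1)) ∧
      ((A j₂ = 0 ∧ m j₂ = 1) ∨ (A j₂ = 0 ∧ m j₂ = -1) ∨ (A j₂ = 1 ∧ m j₂ = 1) ∨ (A j₂ = -1 ∧ m j₂ = -1)) ∧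
      ∀ i, i ≠ i₁ → i ≠ i₀ → i ≠ j₁ → i ≠ j₂ → A i = 0 ∧ m i = 0 := by
  set F : ι → ℤ := fun i => 2 * A i ^ 2 - 2 * A i * m i + 3 * m i ^ 2 with hF
  set Nn : ι → ℤ := fun i => A i ^ 2 - A i * m i - m i ^ 2 with hNn
  have hFnn : ∀ i, 0 ≤ F i := fun i => ff_nonneg (A i) (m i)
  have hF1 : F i₁ = 2 := by simp only [hF, hA1, hm1]; norm_num
  have hN1 : Nn i₁ = 1 := by simp only [hNn, hA1, hm1]; norm_num
  -- remove i₁
  have hS1f : ∑ i ∈ Finset.univ.erase i₁, F i = 8 := by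
    have := Finset.add_sum_erase Finset.univ F (Finset.mem_univ i₁)
    rw [hF1] at this
    have hf' : ∑ i, F i = 10 := hf
    linarith
  have hS1N : ∑ i ∈ Finset.univ.erase i₁, Nn i = -1 := by
    have := Finset.add_sum_erase Finset.univ Nn (Finset.mem_univ i₁)
    rw [hN1] at this
    have hN' : ∑ i, Nn i = 0 := hN
    linarith
  -- some j₁ with N < 0
  have hex : ∃ j ∈ Finset.univ.erase i₁, Nn j < 0 := by
    by_contra hcon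
    push Not at hcon
    have : 0 ≤ ∑ i ∈ Finset.univ.erase i₁, Nn i := Finset.sum_nonneg hcon
    rw [hS1N] at this
    norm_num at this
  obtain ⟨j₁, hj₁S, hj₁N⟩ := hex
  have hj₁le : F j₁ ≤ 8 := by
    rw [← hS1f]
    exact Finset.single_le_sum (fun i _ => hFnn i) hj₁S
  have hj₁P := cls8 (A j₁) (m j₁) hj₁le hj₁N
  have hFj₁ : F j₁ = 3 := ff_of_P3 _ _ hj₁P
  have hj₁ne : j₁ ≠ i₁ := (Finset.mem_erase.mp hj₁S).1
  have hS2f : ∑ i ∈ (Finset.univ.erase i₁).erase j₁, F i = 5 := by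
    have := Finset.add_sum_erase (Finset.univ.erase i₁) F hj₁S
    rw [hFj₁, hS1f] at this
    linarith
  -- peel_sum_nonneg the next one
  obtain ⟨k, hkS, hk0, hkle, hS3f⟩ := peel_sum_nonneg _ F hFnn 5 hS2f (by norm_num)
  have hkne : k ≠ j₁ ∧ k ≠ i₁ := by
    have h1 := Finset.mem_erase.mp hkS
    exact ⟨h1.1, (Finset.mem_erase.mp h1.2).1⟩
  -- final zero clause helper
  have hrest : ∀ (l : ι) (hlS : l ∈ ((Finset.univ.erase i₁).erase j₁).erase k)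
      (hz : ∑ i ∈ (((Finset.univ.erase i₁).erase j₁).erase k).erase l, F i = 0),
      ∀ i, i ≠ i₁ → i ≠ j₁ → i ≠ k → i ≠ l → A i = 0 ∧ m i = 0 := by
    intro l hlS hz i h1 h2 h3 h4
    have hi : i ∈ (((Finset.univ.erase i₁).erase j₁).erase k).erase l := by
      simp [Finset.mem_erase, h1, h2, h3, h4]
    have := (Finset.sum_eq_zero_iff_of_nonneg (fun i _ => hFnn i)).mp hz i hi
    exact cls0 _ _ this
  rcases cls5 (A k) (m k) hkle hk0 with ⟨hk2, hkP⟩ | ⟨hk3, hkP⟩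
  · -- F k = 2 : k is i₀; next one must have F = 3
    have hS3 : ∑ i ∈ ((Finset.univ.erase i₁).erase j₁).erase k, F i = 3 := by
      rw [hS3f]; show (5 : ℤ) - F k = 3; simp only [hF]; rw [hk2]; norm_num
    obtain ⟨l, hlS, hl0, hlle, hS4f⟩ := peel_sum_nonneg _ F hFnn 3 hS3 (by norm_num)
    have hlne : l ≠ k ∧ l ≠ j₁ ∧ l ≠ i₁ := by
      have h1 := Finset.mem_erase.mp hlS
      have h2 := Finset.mem_erase.mp h1.2
      exact ⟨h1.1, h2.1, (Finset.mem_erase.mp h2.2).1⟩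
    rcases cls5 (A l) (m l) (by linarith) hl0 with ⟨hl2, hlP⟩ | ⟨hl3, hlP⟩
    · exfalso
      have hS4 : ∑ i ∈ (((Finset.univ.erase i₁).erase j₁).erase k).erase l, F i = 1 := by
        rw [hS4f]; show (3 : ℤ) - F l = 1; simp only [hF]; rw [hl2]; norm_num
      obtain ⟨r, hrS, hr0, hrle, _⟩ := peel_sum_nonneg _ F hFnn 1 hS4 (by norm_num)
      rcases cls5 (A r) (m r) (by linarith) hr0 with ⟨hr2, _⟩ | ⟨hr3, _⟩
      · have : F r = 2 := hr2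
        linarith
      · have : F r = 3 := hr3
        linarith
    · have hS4 : ∑ i ∈ (((Finset.univ.erase i₁).erase j₁).erase k).erase l, F i = 0 := by
        rw [hS4f]; show (3 : ℤ) - F l = 0; simp only [hF]; rw [hl3]; norm_num
      refine ⟨k, j₁, l, hkne.2, hj₁ne, hlne.2.2, hkne.1, hlne.1.symm, hlne.2.1.symm, hkP, hj₁P, hlP, ?_⟩
      intro i h1 h2 h3 h4
      exact hrest l hlS hS4 i h1 h3 h2 h4
  · -- F k = 3 : k is j₂; next one must have F = 2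
    have hS3 : ∑ i ∈ ((Finset.univ.erase i₁).erase j₁).erase k, F i = 2 := by
      rw [hS3f]; show (5 : ℤ) - F k = 2; simp only [hF]; rw [hk3]; norm_num
    obtain ⟨l, hlS, hl0, hlle, hS4f⟩ := peel_sum_nonneg _ F hFnn 2 hS3 (by norm_num)
    have hlne : l ≠ k ∧ l ≠ j₁ ∧ l ≠ i₁ := by
      have h1 := Finset.mem_erase.mp hlS
      have h2 := Finset.mem_erase.mp h1.2
      exact ⟨h1.1, h2.1, (Finset.mem_erase.mp h2.2).1⟩
    rcases cls5 (A l) (m l) (by linarith) hl0 with ⟨hl2, hlP⟩ | ⟨hl3, hlP⟩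
    · have hS4 : ∑ i ∈ (((Finset.univ.erase i₁).erase j₁).erase k).erase l, F i = 0 := by
        rw [hS4f]; show (2 : ℤ) - F l = 0; simp only [hF]; rw [hl2]; norm_num
      refine ⟨l, j₁, k, hlne.2.2, hj₁ne, hkne.2, hlne.2.1, hlne.1, hkne.1.symm, hlP, hj₁P, hkP, ?_⟩
      intro i h1 h2 h3 h4
      exact hrest l hlS hS4 i h1 h3 h4 h2
    · exfalso
      have : F l = 3 := hl3
      linarith

end Cfsg.Agent.Lib.H12.O5760
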