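import Mathlib
import Cfsg.Agent.Lib.H13.O7Defs
import Cfsg.Agent.Lib.H13.O7CD

/-!
# S2647 piece **UE** (helper12 for architect helper13)

`Esub F` is the unique elementary abelian subgroup of order `2 ^ 6` of `S0 F = 2 ^ 6 : D8`.
-/

set_option autoImplicit false

namespace Cfsg.Agent.Lib.H13.O7

open Matrix Equiv Cfsg

variable {F : Type*} [Field F]

/-- the sign vectors of `A ∩ E` -/
def ueK (A : Subgroup (O7 F)) : Subgroup (Fin 7 → ℤˣ) := A.comap dg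

theorem mem_ueK (A : Subgroup (O7 F)) (η : Fin 7 → ℤˣ) : η ∈ ueK A ↔ dg η ∈ A := Iff.rfl

/-- the permutation parts of the elements of `A` -/
def ueP (A : Subgroup (O7 F)) : Subgroup (Perm (Fin 7)) where
  carrier := {σ | ∃ ε, mono (F := F) ε σ ∈ A}
  mul_mem' := by
    rintro σ τ ⟨ε, h⟩ ⟨η, h'⟩
    exact ⟨ε * η ∘ ⇑σ⁻¹, by rw [← mono_mul]; exact A.mul_mem h h'⟩
  one_mem' := ⟨1, by rw [mono_one]; exact A.one_mem⟩
  inv_mem' := by
    rintro σ ⟨ε, h⟩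
    exact ⟨ε ∘ ⇑σ, by rw [← mono_inv]; exact A.inv_mem h⟩

theorem mem_ueP (A : Subgroup (O7 F)) (σ : Perm (Fin 7)) :
    σ ∈ ueP A ↔ ∃ ε, mono (F := F) ε σ ∈ A := Iff.rfl

theorem ue_mono_mul_inv (ε η : Fin 7 → ℤˣ) (σ : Perm (Fin 7)) :
    mono (F := F) ε σ * (mono η σ)⁻¹ = dg (ε * η) := by
  rw [mono_inv, mono_mul, mul_inv_cancel, dg_apply]
  congr 1
  funext i
  simp

/-- `|A| ≤ |A ∩ E| · |π(A)|` -/
theorem ue_card_le (A : Subgroup (O7 F)) (hA : A ≤ S0 F) :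
    Nat.card A ≤ Nat.card (ueK A) * Nat.card (ueP A) := by
  classical
  rw [← Nat.card_prod]
  have hrep : ∀ σ : ueP A, ∃ ε, mono (F := F) ε σ.1 ∈ A := fun σ => σ.2
  choose rep hrepA using hrep
  have hdec : ∀ a : A, ∃ ε σ, (a : O7 F) = mono ε σ := fun a => by
    obtain ⟨ε, σ, _, _, h⟩ := hA a.2
    exact ⟨ε, σ, h⟩
  choose se sp hsp using hdec
  have hspP : ∀ a : A, sp a ∈ ueP A := fun a => ⟨se a, by rw [← hsp a]; exact a.2⟩
  have hK : ∀ a : A, se a * rep ⟨sp a, hspP a⟩ ∈ ueK A := by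
    intro a
    rw [mem_ueK, ← ue_mono_mul_inv (se a) (rep ⟨sp a, hspP a⟩) (sp a)]
    refine A.mul_mem ?_ (A.inv_mem (hrepA ⟨sp a, hspP a⟩))
    rw [← hsp a]
    exact a.2
  refine Nat.card_le_card_of_injective
    (fun a : A => ((⟨se a * rep ⟨sp a, hspP a⟩, hK a⟩ : ueK A), (⟨sp a, hspP a⟩ : ueP A))) ?_
  intro a a' h
  have h1 : sp a = sp a' := congrArg (fun p => (p.2 : Perm (Fin 7))) h
  have h2' : se a * rep ⟨sp a, hspP a⟩ = se a' * rep ⟨sp a', hspP a'⟩ :=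
    congrArg (fun p => (p.1 : Fin 7 → ℤˣ)) h
  have h3 : rep ⟨sp a, hspP a⟩ = rep ⟨sp a', hspP a'⟩ := by
    congr 1
    exact Subtype.ext h1
  rw [h3] at h2'
  have h4 : se a = se a' := mul_right_cancel h2'
  apply Subtype.ext
  rw [hsp a, hsp a', h1, h4]

theorem ue_pr2_ne_one : pr2 ≠ 1 := by
  intro h
  have := congrArg (fun τ : Perm (Fin 7) => τ 0) h
  revert this
  decide

theorem ue_sq (h2 : (2 : F) ≠ 0) (A : Subgroup (O7 F)) (hexp : ∀ a ∈ A, a * a = 1)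
    {ε : Fin 7 → ℤˣ} {d : Perm (Fin 7)} (h : mono (F := F) ε d ∈ A) : d * d = 1 := by
  have h1 := hexp _ h
  rw [mono_mul, ← mono_one] at h1
  exact (mono_injective h2 h1).2

theorem ueP_le_D8 (h2 : (2 : F) ≠ 0) (A : Subgroup (O7 F)) (hA : A ≤ S0 F) : ueP A ≤ D8 := by
  rintro σ ⟨ε, h⟩
  exact ((mono_mem_MS h2 D8 ε σ).mp (hA h)).2

/-- the five involutions of `D8` -/
def ueInv : Fin 5 → Perm (Fin 7) := ![pr2, ps, psr, psr2, psr3]

theorem ue_inv_cases (h2 : (2 : F) ≠ 0) (A : Subgroup (O7 F)) (hA : A ≤ S0 F)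
    (hexp : ∀ a ∈ A, a * a = 1) {d : Perm (Fin 7)} (hd : d ∈ ueP A) (hd1 : d ≠ 1) :
    ∃ i, d = ueInv i := by
  obtain ⟨ε, h⟩ := hd
  have hsq := ue_sq h2 A hexp h
  rcases ueP_le_D8 h2 A hA ⟨ε, h⟩ with rfl | rfl | rfl | rfl | rfl | rfl | rfl | rfl
  · exact absurd rfl hd1
  · rw [mul_pr_pr] at hsq; exact absurd hsq ue_pr2_ne_one
  · exact ⟨0, rfl⟩
  · rw [mul_pr3_pr3] at hsq; exact absurd hsq ue_pr2_ne_one
  · exact ⟨1, rfl⟩
  · exact ⟨2, rfl⟩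
  · exact ⟨3, rfl⟩
  · exact ⟨4, rfl⟩

/-- `|π(A)| ≤ 4` -/
theorem ue_card_P_le (h2 : (2 : F) ≠ 0) (A : Subgroup (O7 F)) (hA : A ≤ S0 F)
    (hexp : ∀ a ∈ A, a * a = 1) : Nat.card (ueP A) ≤ 4 := by
  have hle := ueP_le_D8 h2 A hA
  have hdvd : Nat.card (ueP A) ∣ 8 := card_D8 ▸ Subgroup.card_dvd_of_le hle
  have hne : Nat.card (ueP A) ≠ 8 := by
    intro h8
    have heq : ueP A = D8 := Subgroup.eq_of_le_of_card_ge hle (by rw [h8, card_D8])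
    have hpr : pr ∈ ueP A := heq ▸ pr_mem
    obtain ⟨ε, h⟩ := hpr
    have := ue_sq h2 A hexp h
    rw [mul_pr_pr] at this
    exact ue_pr2_ne_one this
  have hle8 : Nat.card (ueP A) ≤ 8 := Nat.le_of_dvd (by norm_num) hdvd
  interval_cases hc : Nat.card (ueP A) <;> simp_all

theorem ue_comm (A : Subgroup (O7 F)) (hexp : ∀ a ∈ A, a * a = 1) :
    ∀ a ∈ A, ∀ b ∈ A, a * b = b * a := by
  have hinv : ∀ x ∈ A, x⁻¹ = x := fun x hx => inv_eq_of_mul_eq_one_left (hexp x hx)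
  intro a ha b hb
  calc a * b = (a * b)⁻¹ := (hinv _ (A.mul_mem ha hb)).symm
    _ = b⁻¹ * a⁻¹ := mul_inv_rev a b
    _ = b * a := by rw [hinv a ha, hinv b hb]

/-- the even sign vectors invariant under `d` -/
def ueW (d : Perm (Fin 7)) : Finset (Fin 7 → ℤˣ) :=
  Finset.univ.filter (fun η => ∏ i, η i = 1 ∧ ∀ i, η (d i) = η i)

/-- the even sign vectors invariant under `d` and `d'` -/
def ueW2 (d d' : Perm (Fin 7)) : Finset (Fin 7 → ℤˣ) :=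
  Finset.univ.filter (fun η => ∏ i, η i = 1 ∧ (∀ i, η (d i) = η i) ∧ ∀ i, η (d' i) = η i)

theorem ue_W16 : ∀ i : Fin 5, (ueW (ueInv i)).card ≤ 16 := by decide

theorem ue_W8 : ∀ i j : Fin 5, i ≠ j → (ueW2 (ueInv i) (ueInv j)).card ≤ 8 := by decide

theorem ue_K_prop (h2 : (2 : F) ≠ 0) (A : Subgroup (O7 F)) (hA : A ≤ S0 F)
    (hexp : ∀ a ∈ A, a * a = 1) {ε : Fin 7 → ℤˣ} {d : Perm (Fin 7)} (had : mono (F := F) ε d ∈ A)
    {η : Fin 7 → ℤˣ} (hη : η ∈ ueK A) : ∏ i, η i = 1 ∧ ∀ i, η (d i) = η i := by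
  rw [mem_ueK] at hη
  refine ⟨((mono_mem_MS h2 D8 η 1).mp (hA hη)).1, fun i => ?_⟩
  have hc := ue_comm A hexp _ had _ hη
  rw [dg_apply, mono_mul, mono_mul] at hc
  have h1 := congrFun (mono_injective h2 hc).1 (d i)
  simp only [Pi.mul_apply, Function.comp_apply, inv_one, Perm.coe_one, id_eq] at h1
  rw [show d⁻¹ (d i) = i by simp] at h1
  -- h1 : ε (d i) * η i = η (d i) * ε (d i)
  rw [mul_comm (η (d i))] at h1
  exact (mul_left_cancel h1).symm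

theorem ue_card_K_le (A : Subgroup (O7 F)) (W : Finset (Fin 7 → ℤˣ))
    (h : ∀ η ∈ ueK A, η ∈ W) : Nat.card (ueK A) ≤ W.card := by
  have : Nat.card (ueK A) ≤ Nat.card W :=
    Nat.card_le_card_of_injective (fun η : ueK A => (⟨η.1, h η.1 η.2⟩ : W))
      (fun η η' hh => Subtype.ext (congrArg (fun w : W => (w : Fin 7 → ℤˣ)) hh))
  simpa using this

/-- **UE**. -/
theorem eq_Esub_of_elementary (h2 : (2 : F) ≠ 0) (A : Subgroup (O7 F)) (hA : A ≤ S0 F)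
    (hcard : Nat.card A = 64) (hexp : ∀ a ∈ A, a * a = 1) : A = Esub F := by
  have hcardE : Nat.card (Esub F) = 64 := by
    rw [card_MS h2 ⊥]
    simp
  have hfinE : Finite (Esub F) := Nat.finite_of_card_ne_zero (by rw [hcardE]; norm_num)
  suffices hle : A ≤ Esub F from
    Subgroup.eq_of_le_of_card_ge hle (by rw [hcard, hcardE])
  by_contra hnle
  obtain ⟨a, haA, haE⟩ := SetLike.not_le_iff_exists.mp hnle
  obtain ⟨ε, d, hε, hd, rfl⟩ := hA haA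
  have hd1 : d ≠ 1 := by
    rintro rfl
    exact haE ⟨ε, 1, hε, Subgroup.mem_bot.mpr rfl, rfl⟩
  have hKP : 64 ≤ Nat.card (ueK A) * Nat.card (ueP A) := hcard ▸ ue_card_le A hA
  have hP4 : Nat.card (ueP A) ≤ 4 := ue_card_P_le h2 A hA hexp
  have hdP : d ∈ ueP A := ⟨ε, haA⟩
  obtain ⟨i, hi⟩ := ue_inv_cases h2 A hA hexp hdP hd1
  have hK16 : Nat.card (ueK A) ≤ 16 := by
    refine (ue_card_K_le A (ueW d) (fun η hη => ?_)).trans (hi ▸ ue_W16 i)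
    rw [ueW, Finset.mem_filter]
    exact ⟨Finset.mem_univ _, ue_K_prop h2 A hA hexp haA hη⟩
  have hP : 2 < Nat.card (ueP A) := by
    by_contra hlt
    have : Nat.card (ueK A) * Nat.card (ueP A) ≤ 16 * 2 := Nat.mul_le_mul hK16 (by omega)
    omega
  -- a second nonidentity element of `π(A)`
  have hfinP : Finite (ueP A) := inferInstance
  letI : Fintype (ueP A) := Fintype.ofFinite _
  rw [Nat.card_eq_fintype_card, Fintype.two_lt_card_iff] at hP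
  obtain ⟨x, y, z, hxy, hxz, hyz⟩ := hP
  have hex : ∃ w : ueP A, (w : Perm (Fin 7)) ≠ 1 ∧ (w : Perm (Fin 7)) ≠ d := by
    by_cases hx : (x : Perm (Fin 7)) ≠ 1 ∧ (x : Perm (Fin 7)) ≠ d
    · exact ⟨x, hx⟩
    by_cases hy : (y : Perm (Fin 7)) ≠ 1 ∧ (y : Perm (Fin 7)) ≠ d
    · exact ⟨y, hy⟩
    by_cases hz : (z : Perm (Fin 7)) ≠ 1 ∧ (z : Perm (Fin 7)) ≠ d
    · exact ⟨z, hz⟩
    exfalso
    have hx' : (x : Perm (Fin 7)) = 1 ∨ (x : Perm (Fin 7)) = d := by tauto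
    have hy' : (y : Perm (Fin 7)) = 1 ∨ (y : Perm (Fin 7)) = d := by tauto
    have hz' : (z : Perm (Fin 7)) = 1 ∨ (z : Perm (Fin 7)) = d := by tauto
    have hxy' : (x : Perm (Fin 7)) ≠ y := fun h => hxy (Subtype.ext h)
    have hxz' : (x : Perm (Fin 7)) ≠ z := fun h => hxz (Subtype.ext h)
    have hyz' : (y : Perm (Fin 7)) ≠ z := fun h => hyz (Subtype.ext h)
    rcases hx' with hx' | hx' <;> rcases hy' with hy' | hy' <;> rcases hz' with hz' | hz' <;>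
      simp_all
  obtain ⟨w, hw1, hwd⟩ := hex
  obtain ⟨η', hw⟩ := w.2
  obtain ⟨j, hj⟩ := ue_inv_cases h2 A hA hexp w.2 hw1
  have hij : i ≠ j := by
    rintro rfl
    exact hwd (hj.trans hi.symm)
  have hK8 : Nat.card (ueK A) ≤ 8 := by
    refine (ue_card_K_le A (ueW2 d w) (fun η hη => ?_)).trans ?_
    · rw [ueW2, Finset.mem_filter]
      have h1 := ue_K_prop h2 A hA hexp haA hη
      have h2' := ue_K_prop h2 A hA hexp hw hη
      exact ⟨Finset.mem_univ _, h1.1, h1.2, h2'.2⟩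
    · rw [hi, hj]
      exact ue_W8 i j hij
  have : Nat.card (ueK A) * Nat.card (ueP A) ≤ 8 * 4 := Nat.mul_le_mul hK8 hP4
  omega

end Cfsg.Agent.Lib.H13.O7
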