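import Mathlib
import Cfsg.Agent.S0992
import Cfsg.Agent.Lib.H5.SimpleTools

/-!
S0983 filler (helper12): a nonabelian simple group of even order not divisible by 8 has order divisible by 3
(`Cfsg.Agent.S0992.result`: the Sylow 2-subgroup `T` is a Klein four group with `|N(T) : C(T)| = 3`).
-/

set_option autoImplicit false

namespace Cfsg.Agent.Lib.H12.O983

theorem three_dvd_card_of_not_eight_dvd {G : Type*} [Group G] [Finite G] [IsSimpleGroup G]
    (hnp : ¬ (Nat.card G).Prime) (h2 : Even (Nat.card G)) (h8 : ¬ 8 ∣ Nat.card G) :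
    3 ∣ Nat.card G := by
  have hnc : ¬ IsMulCommutative G := Cfsg.Agent.Lib.H5.not_isMulCommutative_of_card_not_prime hnp
  have T : Sylow 2 G := default
  obtain ⟨-, hrel⟩ := Cfsg.Agent.S0992.result hnc h2 h8 T
  have h1 : (Subgroup.centralizer ((T : Subgroup G) : Set G)).relIndex
      (Subgroup.normalizer ((T : Subgroup G) : Set G)) ∣
      Nat.card (Subgroup.normalizer ((T : Subgroup G) : Set G)) := by
    rw [Subgroup.relIndex]
    exact Subgroup.index_dvd_card _
  rw [hrel] at h1
  exact h1.trans (Subgroup.card_subgroup_dvd_card _)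

end Cfsg.Agent.Lib.H12.O983
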