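import Mathlib
import Cfsg.Agent.Lib.H5.Ord.GenTests3
import Cfsg.Agent.Lib.H5.Ord.BigNorm

set_option autoImplicit false

/-! # No simple group of order 5600 (helper12, S0983 filler)

`n_5 ∈ {16, 56}` is not `≡ 1 (mod 25)`, so (S0985) two Sylow 5-subgroups `P ≠ R` meet in a subgroup
`D` of order 5 normalized by both.  `M = N(D)` has order `400` and `16` Sylow 5-subgroups, so
`N_M(P) = P` is abelian and Burnside's transfer gives a normal subgroup `Q` of `M` of order 16.
`N(Q)` contains `M` and a Sylow 2-subgroup (in which `Q` has index 2), so its index divides 7. -/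

namespace Cfsg.Agent.Lib.H12.O983

open Subgroup MulAction Cfsg.Agent.Lib.H5 Cfsg.Agent.Lib.H5.SylPrime Cfsg.Agent.Lib.H5.GenTests
  Cfsg.Agent.Lib.H5.BigNorm

/-- Structural form of `BigNorm.exists_numeric_of_not_modEq`: two distinct Sylow `p`-subgroups that
both normalize their intersection, whose normalizer is proper. -/
theorem exists_sylow_pair_normalizer {G : Type*} [Group G] [Finite G] [IsSimpleGroup G]
    {n p k m : ℕ} [Fact p.Prime] (hn : Nat.card G = n) (hnk : n = p ^ k * m) (hpm : ¬ p ∣ m)
    (hk : 2 ≤ k) (hmod : ¬ Nat.card (Sylow p G) ≡ 1 [MOD p ^ 2]) :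
    ∃ P R : Sylow p G, P ≠ R ∧
      (P : Subgroup G) ≤ normalizer (((P : Subgroup G) ⊓ (R : Subgroup G) : Subgroup G) : Set G) ∧
      (R : Subgroup G) ≤ normalizer (((P : Subgroup G) ⊓ (R : Subgroup G) : Subgroup G) : Set G) ∧
      normalizer (((P : Subgroup G) ⊓ (R : Subgroup G) : Subgroup G) : Set G) ≠ ⊤ := by
  have hp : p.Prime := Fact.out
  obtain ⟨P, R, hPR, hle⟩ := Cfsg.Agent.S0985.result p 2 hmod
  have hle' : (R : Subgroup G).relIndex (P : Subgroup G) ≤ p := by
    rw [Subgroup.relIndex]
    simpa using hle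
  obtain ⟨hPc, hPi⟩ := sylow_card_and_index P (k := k) (m := m) (by rw [hn, hnk]) hpm
  obtain ⟨hRc, -⟩ := sylow_card_and_index R (k := k) (m := m) (by rw [hn, hnk]) hpm
  set D := (P : Subgroup G) ⊓ (R : Subgroup G) with hD
  have hDP : D ≤ (P : Subgroup G) := inf_le_left
  have hDR : D ≤ (R : Subgroup G) := inf_le_right
  have e1 : D.relIndex (P : Subgroup G) = (R : Subgroup G).relIndex (P : Subgroup G) := by
    rw [hD, inf_comm]; exact inf_relIndex_right _ _
  have e2 : D.relIndex (R : Subgroup G) = (P : Subgroup G).relIndex (R : Subgroup G) := by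
    rw [hD]; exact inf_relIndex_right _ _
  have c1 := card_mul_relIndex_of_le hDP
  have c2 := card_mul_relIndex_of_le hDR
  rw [hPc] at c1
  rw [hRc] at c2
  have hDpos : 0 < Nat.card D := Nat.card_pos
  have e3 : D.relIndex (P : Subgroup G) = D.relIndex (R : Subgroup G) :=
    Nat.eq_of_mul_eq_mul_left hDpos (c1.trans c2.symm)
  have hne1 : (R : Subgroup G).relIndex (P : Subgroup G) ≠ 1 := by
    intro h1
    have hPR' : (P : Subgroup G) ≤ (R : Subgroup G) := relIndex_eq_one.mp h1
    exact hPR (Sylow.ext (P.3 R.2 hPR').symm)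
  have hidxP : (R : Subgroup G).relIndex (P : Subgroup G) = p := by
    have hdvd : (R : Subgroup G).relIndex (P : Subgroup G) ∣ p ^ k := by
      rw [← e1]; exact Dvd.intro_left _ c1
    obtain ⟨i, -, hi⟩ := (Nat.dvd_prime_pow hp).1 hdvd
    rw [hi] at hle' hne1 ⊢
    rcases Nat.lt_or_ge i 2 with h2 | h2
    · interval_cases i
      · exact absurd (pow_zero p) hne1
      · exact pow_one p
    · exfalso
      have : p ^ 2 ≤ p ^ i := Nat.pow_le_pow_right hp.pos h2
      have hp2 := hp.two_le
      nlinarith
  have hidxR : (P : Subgroup G).relIndex (R : Subgroup G) = p := by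
    rw [← e2, ← e3, e1, hidxP]
  have hPN := le_normalizer_inf_of_relIndex P R hidxP
  have hRN := le_normalizer_inf_of_relIndex R P hidxR
  rw [inf_comm] at hRN
  have hDcard : Nat.card D * p = p ^ k := by rw [e1, hidxP] at c1; exact c1
  have hDne_bot : D ≠ ⊥ := by
    intro hbot
    rw [hbot, Subgroup.card_bot, one_mul] at hDcard
    have : p ^ 2 ≤ p ^ k := Nat.pow_le_pow_right hp.pos hk
    have hp2 := hp.two_le
    nlinarith
  have hDne_top : D ≠ ⊤ := by
    intro htop
    have h1 : (P : Subgroup G) = ⊤ := top_le_iff.mp (htop ▸ hDP)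
    have h2 : (R : Subgroup G) = ⊤ := top_le_iff.mp (htop ▸ hDR)
    exact hPR (Sylow.ext (h1.trans h2.symm))
  refine ⟨P, R, hPR, hPN, hRN, ?_⟩
  intro htop
  have hnorm : D.Normal := normalizer_eq_top_iff.mp htop
  rcases hnorm.eq_bot_or_eq_top with h | h
  · exact hDne_bot h
  · exact hDne_top h

/-- The arithmetic of the normalizer `M` of `P ∩ R`. -/
theorem arith_5600_M {j i d : ℕ} (h1 : j * i = 224) (hd : d ∣ j) (hd5 : d % 5 = 1) (hd1 : d ≠ 1)
    (hfac : 11200 ∣ i.factorial) : j = 16 ∧ i = 14 ∧ d = 16 := by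
  have hi10 : 10 ≤ i := by
    by_contra hlt
    have hlt' : i < 10 := Nat.lt_of_not_le hlt
    interval_cases i <;> revert hfac <;> decide
  have hjle : j ≤ 22 := by nlinarith
  have hj0 : 0 < j := by
    rcases Nat.eq_zero_or_pos j with h | h
    · rw [h] at h1; omega
    · exact h
  have hdle : d ≤ j := Nat.le_of_dvd hj0 hd
  interval_cases j <;> first | omega | skip
  all_goals (interval_cases d <;> omega)

/-- The arithmetic of the normalizer of the normal `5`-complement of `M`. -/
theorem arith_5600_N {c i : ℕ} (h1 : c * i = 5600) (h400 : 400 ∣ c) (h32 : 32 ∣ c)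
    (hfac : i ≠ 1 → 11200 ∣ i.factorial) : i = 1 := by
  by_contra hi
  have hfac' := hfac hi
  have h800 : 800 ∣ c := by omega
  obtain ⟨a, rfl⟩ := h800
  have ha : a * i = 7 := by nlinarith
  have hile : i ≤ 7 := Nat.le_of_dvd (by norm_num) (Dvd.intro_left _ ha)
  interval_cases i <;> first | omega | (revert hfac'; decide)

theorem not_simple_5600 {G : Type*} [Group G] [Finite G] [IsSimpleGroup G] :
    Nat.card G ≠ 5600 := by
  intro hn
  have hnc : ¬ IsMulCommutative G :=
    not_isMulCommutative_of_card_not_prime (by rw [hn]; norm_num)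
  have : Fact (Nat.Prime 5) := ⟨by norm_num⟩
  have : Fact (Nat.Prime 2) := ⟨by norm_num⟩
  obtain ⟨h1, h2, h3, -, -⟩ := sylow_data hnc hn (p := 5) (k := 2) (m := 224) (by norm_num)
    (by norm_num) (by norm_num) (by norm_num) (default : Sylow 5 G)
  have hmod : ¬ Nat.card (Sylow 5 G) ≡ 1 [MOD 5 ^ 2] := by
    have hle : Nat.card (Sylow 5 G) ≤ 224 := Nat.le_of_dvd (by norm_num) h1
    generalize Nat.card (Sylow 5 G) = d at *
    intro hmod
    have hmod' : d % (5 ^ 2) = 1 := hmod
    clear hmod
    interval_cases d <;> omega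
  obtain ⟨P, R, hPR, hPN, hRN, hMtop⟩ :=
    exists_sylow_pair_normalizer hn (p := 5) (k := 2) (m := 224) (by norm_num) (by norm_num)
      (by norm_num) hmod
  set M := normalizer (((P : Subgroup G) ⊓ (R : Subgroup G) : Subgroup G) : Set G) with hM
  have hPc : Nat.card (P : Subgroup G) = 25 := by
    have := (sylow_card_and_index P (k := 2) (m := 224) (by rw [hn]; norm_num) (by norm_num)).1
    simpa using this
  -- Sylow 5-subgroups of `M`
  set P' : Sylow 5 M := P.subtype hPN with hP'
  have hP'c : Nat.card (P' : Subgroup M) = 25 := by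
    rw [hP', Sylow.coe_subtype, Nat.card_congr (Subgroup.subgroupOfEquivOfLe hPN).toEquiv, hPc]
  have hne' : P' ≠ R.subtype hRN := fun h => hPR (Sylow.subtype_injective h)
  have hMcard := (P' : Subgroup M).card_mul_index
  rw [hP'c] at hMcard
  have hMidx := M.card_mul_index
  rw [hn] at hMidx
  have hd'j : Nat.card (Sylow 5 M) ∣ (P' : Subgroup M).index := Sylow.card_dvd_index _
  have hd'5 : Nat.card (Sylow 5 M) % 5 = 1 := card_sylow_modEq_one 5 M
  have hd'1 : Nat.card (Sylow 5 M) ≠ 1 := by
    intro h1
    have : Subsingleton (Sylow 5 M) := (Nat.card_eq_one_iff_unique.mp h1).1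
    exact hne' (Subsingleton.elim _ _)
  have hfac := two_mul_card_dvd_factorial_index hnc M hMtop
  rw [hn] at hfac
  have hji : (P' : Subgroup M).index * M.index = 224 := by
    have : 25 * ((P' : Subgroup M).index * M.index) = 25 * 224 := by rw [← mul_assoc, hMcard, hMidx]
    omega
  obtain ⟨hj16, hi14, hd16⟩ := arith_5600_M hji hd'j hd'5 hd'1 (by simpa using hfac)
  have hMc : Nat.card M = 400 := by rw [← hMcard, hj16]
  -- `N_M(P') = P'`
  have hNP' : Nat.card (normalizer ((P' : Subgroup M) : Set M)) = 25 := by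
    have := card_normalizer_mul_card_sylow P'
    rw [hd16, hMc] at this
    omega
  have hNeq : normalizer ((P' : Subgroup M) : Set M) = (P' : Subgroup M) := by
    symm
    apply Subgroup.eq_of_le_of_card_ge le_normalizer
    rw [hNP', hP'c]
  have hNC : normalizer ((P' : Subgroup M) : Set M) ≤ centralizer ((P' : Subgroup M) : Set M) := by
    rw [hNeq]
    intro x hx
    rw [mem_centralizer_iff]
    intro y hy
    have hcm := IsPGroup.isMulCommutative_of_card_eq_prime_sq (p := 5) (G := (P' : Subgroup M))
      (by rw [hP'c]; norm_num)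
    have hcomm := hcm.is_comm.comm (⟨y, hy⟩ : (P' : Subgroup M)) ⟨x, hx⟩
    exact congrArg Subtype.val hcomm
  -- Burnside's normal complement
  have hcomp := MonoidHom.ker_transferSylow_isComplement' P' hNC
  set K : Subgroup M := (MonoidHom.transferSylow P' hNC).ker with hK
  have hKn : K.Normal := by rw [hK]; infer_instance
  have hKc : Nat.card K = 16 := by
    have := hcomp.card_mul_card
    rw [hP'c, hMc] at this
    omega
  set Q : Subgroup G := K.map M.subtype with hQ
  have hQc : Nat.card Q = 16 := by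
    rw [hQ, Subgroup.card_map_of_injective M.subtype_injective]
    exact hKc
  have hMN : M ≤ normalizer (Q : Set G) := by
    have h := le_normalizer_map (H := K) M.subtype
    rw [normalizer_eq_top_iff.mpr hKn] at h
    have htop : (⊤ : Subgroup M).map M.subtype = M := by
      rw [← MonoidHom.range_eq_map, Subgroup.range_subtype]
    rwa [htop] at h
  -- a Sylow 2-subgroup containing `Q`
  have hQp : IsPGroup 2 Q := IsPGroup.of_card (n := 4) (by rw [hQc]; norm_num)
  obtain ⟨S, hQS⟩ := hQp.exists_le_sylow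
  have hSc : Nat.card (S : Subgroup G) = 32 := by
    have := (sylow_card_and_index S (k := 5) (m := 175) (by rw [hn]; norm_num) (by norm_num)).1
    simpa using this
  have hrel : Q.relIndex (S : Subgroup G) = 2 := by
    have := card_mul_relIndex_of_le hQS
    rw [hQc, hSc] at this
    omega
  have hQSn : (Q.subgroupOf (S : Subgroup G)).Normal := normal_of_index_eq_two hrel
  have hSN : (S : Subgroup G) ≤ normalizer (Q : Set G) :=
    (normal_subgroupOf_iff_le_normalizer hQS).mp hQSn
  -- the normalizer of `Q` is everything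
  have h400 : 400 ∣ Nat.card (normalizer (Q : Set G)) := by
    have := card_dvd_of_le hMN
    rwa [hMc] at this
  have h32 : 32 ∣ Nat.card (normalizer (Q : Set G)) := by
    have := card_dvd_of_le hSN
    rwa [hSc] at this
  have hNidx := (normalizer (Q : Set G)).card_mul_index
  rw [hn] at hNidx
  have hidx1 : (normalizer (Q : Set G)).index = 1 := by
    apply arith_5600_N hNidx h400 h32
    intro hne1
    have := two_mul_card_dvd_factorial_index hnc (normalizer (Q : Set G))
      (fun h => hne1 (by rw [h, index_top]))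
    rw [hn] at this
    simpa using this
  have hQn : Q.Normal := normalizer_eq_top_iff.mp (index_eq_one.mp hidx1)
  rcases hQn.eq_bot_or_eq_top with h | h
  · rw [h, Subgroup.card_bot] at hQc; omega
  · rw [h, Subgroup.card_top, hn] at hQc; omega

end Cfsg.Agent.Lib.H12.O983
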