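import Cfsg.Agent.Lib.H12.O983Klein

/-!
S0983 filler (helper12): no simple group of order 5852 (`|G| ≡ 4 mod 8` and `3 ∤ |G|`, via `S0992`).
-/

set_option autoImplicit false

namespace Cfsg.Agent.Lib.H12.O983

theorem not_simple_5852 {G : Type*} [Group G] [Finite G] [IsSimpleGroup G] : Nat.card G ≠ 5852 := by
  intro hG
  have h3 := three_dvd_card_of_not_eight_dvd (G := G) (by rw [hG]; norm_num) (by rw [hG]; decide)
    (by rw [hG]; norm_num)
  rw [hG] at h3
  norm_num at h3

end Cfsg.Agent.Lib.H12.O983
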