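import Mathlib
import Cfsg.Agent.Lib.H4.RepChar

/-!
# Traces of elements normalising an abelian subgroup, in terms of its isotypic projections (helper12)

Abstract layer of S2332 (sharp minimal degree of `SL_n(q)`): `t : S → G` is an additive map from a finite
abelian group; `proj ρ t ψ` are the isotypic projections of helper4's `RepChar`.

* `trace_t` : `tr ρ(t X₀) = ∑ ψ, ψ X₀ * rank (proj ψ)`;
* `trace_eq_sum_fixed` : for `y` normalising `t S` through `a : S ≃+ S`,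
  `tr (ρ y * A) = ∑ over the characters fixed by y of tr (ρ y * proj ψ * A)` for every `A` commuting
  with all `proj ψ`;
* `commutator_mul_proj` : a commutator of two elements stabilising a rank-one `proj ψ` acts trivially
  on its range;
* `trace_mul_proj_one` : the TRACE IDENTITY of the blueprint.
-/

set_option autoImplicit false
set_option linter.unusedSectionVars false

namespace Cfsg.Agent.Lib.H12.SLMin

open scoped BigOperators
open Module Cfsg.Agent.Lib.H4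

variable {G : Type*} [Group G] {S : Type*} [AddCommGroup S] [Fintype S]
  {V : Type*} [AddCommGroup V] [Module ℂ V] [FiniteDimensional ℂ V]
  (ρ : G →* Module.End ℂ V) (t : S → G)

/-- the rank of the `ψ`-isotypic projection -/
noncomputable def rk (ψ : AddChar S ℂ) : ℕ := finrank ℂ (LinearMap.range (RepChar.proj ρ t ψ))

variable (ht : ∀ X X', t (X + X') = t X * t X')

include ht in
theorem trace_proj (ψ : AddChar S ℂ) :
    LinearMap.trace ℂ V (RepChar.proj ρ t ψ) = (rk ρ t ψ : ℂ) :=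
  RepChar.trace_proj_eq_finrank ρ t ht ψ

include ht in
/-- `tr ρ(t X₀) = ∑ ψ, ψ X₀ * rank (proj ψ)` -/
theorem trace_t (X₀ : S) :
    LinearMap.trace ℂ V (ρ (t X₀)) = ∑ ψ : AddChar S ℂ, ψ X₀ * (rk ρ t ψ : ℂ) := by
  have h1 : ρ (t X₀) = ∑ ψ : AddChar S ℂ, ψ X₀ • RepChar.proj ρ t ψ := by
    calc ρ (t X₀) = ρ (t X₀) * ∑ ψ : AddChar S ℂ, RepChar.proj ρ t ψ := by
          rw [RepChar.sum_proj ρ t ht, mul_one]
      _ = ∑ ψ : AddChar S ℂ, ψ X₀ • RepChar.proj ρ t ψ := by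
          rw [Finset.mul_sum]
          exact Finset.sum_congr rfl fun ψ _ => RepChar.map_mul_proj ρ t ht ψ X₀
  rw [h1, map_sum]
  refine Finset.sum_congr rfl fun ψ _ => ?_
  rw [map_smul, smul_eq_mul, trace_proj ρ t ht]

include ht in
/-- if all non-trivial characters have the same rank `d`, then `tr ρ(t X₀) = f₀ - d` for `X₀ ≠ 0` -/
theorem trace_t_of_rk (d : ℕ) (hd : ∀ ψ : AddChar S ℂ, ψ ≠ 1 → rk ρ t ψ = d) {X₀ : S} (hX₀ : X₀ ≠ 0) :
    LinearMap.trace ℂ V (ρ (t X₀)) = (rk ρ t 1 : ℂ) - d := by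
  classical
  rw [trace_t ρ t ht X₀]
  have h0 : ∑ ψ : AddChar S ℂ, ψ X₀ = 0 := AddChar.sum_apply_eq_zero_iff_ne_zero.2 hX₀
  have h1 : ∀ ψ : AddChar S ℂ, ψ X₀ * (rk ρ t ψ : ℂ) =
      ψ X₀ * (d : ℂ) + (if ψ = 1 then (rk ρ t 1 : ℂ) - d else 0) := by
    intro ψ
    by_cases hψ : ψ = 1
    · subst hψ
      rw [if_pos rfl, AddChar.one_apply]
      ring
    · rw [if_neg hψ, hd ψ hψ, add_zero]
  rw [Finset.sum_congr rfl fun ψ _ => h1 ψ, Finset.sum_add_distrib, ← Finset.sum_mul, h0, zero_mul,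
    zero_add, Finset.sum_ite_eq' Finset.univ (1 : AddChar S ℂ), if_pos (Finset.mem_univ _)]

/-- conjugate elements have the same trace -/
theorem trace_conj (w x : G) : LinearMap.trace ℂ V (ρ (w * x * w⁻¹)) = LinearMap.trace ℂ V (ρ x) := by
  rw [map_mul ρ, map_mul ρ, LinearMap.trace_mul_comm, ← mul_assoc, ← map_mul ρ, inv_mul_cancel,
    map_one, one_mul]

/-- `ρ y * proj ψ = proj (ψ ∘ a⁻¹) * ρ y` for `y` normalising `t S` through `a` -/
theorem map_mul_proj_normalizer (ψ : AddChar S ℂ) (y : G) (a : S ≃+ S)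
    (hy : ∀ X, y * t X * y⁻¹ = t (a X)) :
    ρ y * RepChar.proj ρ t ψ =
      RepChar.proj ρ t (ψ.compAddMonoidHom (a.symm : S →+ S)) * ρ y := by
  rw [← RepChar.conj_proj ρ t ψ y a hy, mul_assoc, ← map_mul, inv_mul_cancel, map_one, mul_one]

include ht in
/-- a character not fixed by `y` does not contribute to the trace of `ρ y * A` -/
theorem trace_mul_proj_of_not_fixed (ψ : AddChar S ℂ) (y : G) (a : S ≃+ S)
    (hy : ∀ X, y * t X * y⁻¹ = t (a X)) (hψ : ψ.compAddMonoidHom (a.symm : S →+ S) ≠ ψ)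
    (A : Module.End ℂ V) (hA : A * RepChar.proj ρ t ψ = RepChar.proj ρ t ψ * A) :
    LinearMap.trace ℂ V (ρ y * RepChar.proj ρ t ψ * A) = 0 := by
  have h1 : ρ y * RepChar.proj ρ t ψ * A =
      RepChar.proj ρ t (ψ.compAddMonoidHom (a.symm : S →+ S)) * (ρ y * A * RepChar.proj ρ t ψ) := by
    calc ρ y * RepChar.proj ρ t ψ * A
        = ρ y * (RepChar.proj ρ t ψ * RepChar.proj ρ t ψ) * A := by
          rw [RepChar.proj_mul_proj ρ t ht]
      _ = ρ y * RepChar.proj ρ t ψ * (RepChar.proj ρ t ψ * A) := by simp only [mul_assoc]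
      _ = ρ y * RepChar.proj ρ t ψ * (A * RepChar.proj ρ t ψ) := by rw [hA]
      _ = _ := by
          rw [map_mul_proj_normalizer ρ t ψ y a hy]
          simp only [mul_assoc]
  rw [h1, LinearMap.trace_mul_comm]
  have h2 : ρ y * A * RepChar.proj ρ t ψ *
      RepChar.proj ρ t (ψ.compAddMonoidHom (a.symm : S →+ S)) = 0 := by
    rw [mul_assoc, RepChar.proj_mul_proj_of_ne ρ t ht (Ne.symm hψ), mul_zero]
  rw [h2, map_zero]

include ht in
/-- `tr (ρ y * A)` only sees the characters fixed by `y` -/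
theorem trace_eq_sum_fixed [DecidableEq (AddChar S ℂ)] (y : G) (a : S ≃+ S)
    (hy : ∀ X, y * t X * y⁻¹ = t (a X)) (A : Module.End ℂ V)
    (hA : ∀ ψ : AddChar S ℂ, A * RepChar.proj ρ t ψ = RepChar.proj ρ t ψ * A) :
    LinearMap.trace ℂ V (ρ y * A) =
      ∑ ψ ∈ Finset.univ.filter (fun ψ : AddChar S ℂ => ψ.compAddMonoidHom (a.symm : S →+ S) = ψ),
        LinearMap.trace ℂ V (ρ y * RepChar.proj ρ t ψ * A) := by
  have h1 : ρ y * A = ∑ ψ : AddChar S ℂ, ρ y * RepChar.proj ρ t ψ * A := by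
    rw [← Finset.sum_mul, ← Finset.mul_sum, RepChar.sum_proj ρ t ht, mul_one]
  rw [h1, map_sum, Finset.sum_filter]
  refine Finset.sum_congr rfl fun ψ _ => ?_
  split_ifs with h
  · rfl
  · exact trace_mul_proj_of_not_fixed ρ t ht ψ y a hy h A (hA ψ)

/-- an operator commuting with a rank-one idempotent acts on its range by a scalar -/
theorem exists_scalar_of_rank_one (p A : Module.End ℂ V) (hp : p * p = p)
    (h1 : finrank ℂ (LinearMap.range p) = 1) (hA : A * p = p * A) :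
    ∃ c : ℂ, A * p = c • p := by
  obtain ⟨v, hv⟩ := finrank_eq_one_iff'.1 h1
  have hv1 : p (v : V) = v := by
    obtain ⟨u, hu⟩ := v.2
    rw [← hu, ← Module.End.mul_apply, hp]
  have hAv : A (v : V) ∈ LinearMap.range p := ⟨A v, by
    rw [← Module.End.mul_apply, ← hA, Module.End.mul_apply, hv1]⟩
  obtain ⟨c, hc⟩ := hv.2 ⟨A v, hAv⟩
  refine ⟨c, ?_⟩
  ext x
  obtain ⟨b, hb⟩ := hv.2 ⟨p x, ⟨x, rfl⟩⟩
  have hb' : p x = b • (v : V) := by
    have := congrArg Subtype.val hb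
    simpa using this.symm
  have hc' : A (v : V) = c • (v : V) := by
    have := congrArg Subtype.val hc
    simpa using this.symm
  rw [Module.End.mul_apply, LinearMap.smul_apply, hb', map_smul, hc', smul_comm]

/-- a commutator of two elements stabilising a rank-one `proj ψ` acts trivially on its range -/
theorem commutator_mul_proj (p : Module.End ℂ V) (hp : p * p = p)
    (h1 : finrank ℂ (LinearMap.range p) = 1) (g₁ g₂ : G)
    (hg₁ : ρ g₁ * p = p * ρ g₁) (hg₂ : ρ g₂ * p = p * ρ g₂) :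
    ρ (g₁ * g₂ * g₁⁻¹ * g₂⁻¹) * p = p := by
  obtain ⟨c₁, hc₁⟩ := exists_scalar_of_rank_one p (ρ g₁) hp h1 hg₁
  obtain ⟨c₂, hc₂⟩ := exists_scalar_of_rank_one p (ρ g₂) hp h1 hg₂
  have hinv : ∀ g : G, ∀ c : ℂ, ρ g * p = c • p → ρ g * p = p * ρ g → c • (ρ g⁻¹ * p) = p := by
    intro g c hc hcomm
    have : ρ g⁻¹ * (ρ g * p) = p := by rw [← mul_assoc, ← map_mul, inv_mul_cancel, map_one, one_mul]
    rw [hc, mul_smul_comm] at this
    exact this
  have hp0 : p ≠ 0 := by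
    intro h
    rw [h, LinearMap.range_zero, finrank_bot] at h1
    exact zero_ne_one h1
  have hne : ∀ g : G, ∀ c : ℂ, ρ g * p = c • p → c ≠ 0 := by
    intro g c hc h0
    rw [h0, zero_smul] at hc
    have : ρ g⁻¹ * (ρ g * p) = p := by rw [← mul_assoc, ← map_mul, inv_mul_cancel, map_one, one_mul]
    rw [hc, mul_zero] at this
    exact hp0 this.symm
  have hi₁ : ρ g₁⁻¹ * p = c₁⁻¹ • p := by
    have := hinv g₁ c₁ hc₁ hg₁
    calc ρ g₁⁻¹ * p = c₁⁻¹ • (c₁ • (ρ g₁⁻¹ * p)) := by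
          rw [smul_smul, inv_mul_cancel₀ (hne g₁ c₁ hc₁), one_smul]
      _ = c₁⁻¹ • p := by rw [this]
  have hi₂ : ρ g₂⁻¹ * p = c₂⁻¹ • p := by
    have := hinv g₂ c₂ hc₂ hg₂
    calc ρ g₂⁻¹ * p = c₂⁻¹ • (c₂ • (ρ g₂⁻¹ * p)) := by
          rw [smul_smul, inv_mul_cancel₀ (hne g₂ c₂ hc₂), one_smul]
      _ = c₂⁻¹ • p := by rw [this]
  have h1' := hne g₁ c₁ hc₁
  have h2' := hne g₂ c₂ hc₂
  have e1 : ρ g₁⁻¹ * (ρ g₂⁻¹ * p) = (c₂⁻¹ * c₁⁻¹) • p := by
    rw [hi₂, mul_smul_comm, hi₁, smul_smul]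
  have e2 : ρ g₂ * (ρ g₁⁻¹ * (ρ g₂⁻¹ * p)) = (c₂⁻¹ * c₁⁻¹ * c₂) • p := by
    rw [e1, mul_smul_comm, hc₂, smul_smul]
  have e3 : ρ g₁ * (ρ g₂ * (ρ g₁⁻¹ * (ρ g₂⁻¹ * p))) = (c₂⁻¹ * c₁⁻¹ * c₂ * c₁) • p := by
    rw [e2, mul_smul_comm, hc₁, smul_smul]
  have : c₂⁻¹ * c₁⁻¹ * c₂ * c₁ = 1 := by
    field_simp
  rw [map_mul, map_mul, map_mul, mul_assoc, mul_assoc, mul_assoc, e3, this, one_smul]

end Cfsg.Agent.Lib.H12.SLMin
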