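import Mathlib
import Cfsg.Agent.Lib.H12.SLMinA

/-!
# The trace identity and the passage to the next level (helper12)

Abstract layer of S2332, part 2.

* `trace_mul_proj_one` : THE TRACE IDENTITY.  If all non-trivial characters of `t S` have rank one in `ρ`,
  `y` is conjugate to `t X₀` (`X₀ ≠ 0`), normalises `t S` and acts trivially on the eigenlines of the
  non-trivial characters it fixes, then `tr (ρ y * proj 1) = rk 1 - 1 - #{fixed non-trivial characters}`.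
* `resRep` : the representation of `Γ` on the range of an idempotent commuting with `ρ (ι γ)`.
* `level` : the rank-one property passes to the next level.
-/

set_option autoImplicit false
set_option linter.unusedSectionVars false

namespace Cfsg.Agent.Lib.H12.SLMin

open scoped BigOperators
open Module Cfsg.Agent.Lib.H4

section TraceIdentity

variable {G : Type*} [Group G] {S : Type*} [AddCommGroup S] [Fintype S]
  {V : Type*} [AddCommGroup V] [Module ℂ V] [FiniteDimensional ℂ V]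
  (ρ : G →* Module.End ℂ V) (t : S → G) (ht : ∀ X X', t (X + X') = t X * t X')

include ht in
/-- THE TRACE IDENTITY -/
theorem trace_mul_proj_one [DecidableEq (AddChar S ℂ)]
    (hrk : ∀ ψ : AddChar S ℂ, ψ ≠ 1 → rk ρ t ψ = 1)
    {X₀ : S} (hX₀ : X₀ ≠ 0) (w y : G) (hy : y = w * t X₀ * w⁻¹)
    (a : S ≃+ S) (hya : ∀ X, y * t X * y⁻¹ = t (a X))
    (htriv : ∀ ψ : AddChar S ℂ, ψ ≠ 1 → ψ.compAddMonoidHom (a.symm : S →+ S) = ψ →
      ρ y * RepChar.proj ρ t ψ = RepChar.proj ρ t ψ) :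
    LinearMap.trace ℂ V (ρ y * RepChar.proj ρ t 1) =
      (rk ρ t 1 : ℂ) - 1 -
        ((Finset.univ.filter (fun ψ : AddChar S ℂ =>
          ψ ≠ 1 ∧ ψ.compAddMonoidHom (a.symm : S →+ S) = ψ)).card : ℂ) := by
  have h1 : LinearMap.trace ℂ V (ρ y) = (rk ρ t 1 : ℂ) - 1 := by
    rw [hy, trace_conj, trace_t_of_rk ρ t ht 1 hrk hX₀, Nat.cast_one]
  have h2 := trace_eq_sum_fixed ρ t ht y a hya 1 (fun ψ => by rw [one_mul, mul_one])
  rw [mul_one] at h2
  have hfix1 : (1 : AddChar S ℂ).compAddMonoidHom (a.symm : S →+ S) = 1 := by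
    ext X
    simp [AddChar.compAddMonoidHom_apply]
  have hsplit : Finset.univ.filter
      (fun ψ : AddChar S ℂ => ψ.compAddMonoidHom (a.symm : S →+ S) = ψ) =
      insert (1 : AddChar S ℂ) (Finset.univ.filter (fun ψ : AddChar S ℂ =>
          ψ ≠ 1 ∧ ψ.compAddMonoidHom (a.symm : S →+ S) = ψ)) := by
    ext ψ
    simp only [Finset.mem_filter, Finset.mem_univ, true_and, Finset.mem_insert]
    constructor
    · intro h
      by_cases h1 : ψ = 1
      · exact Or.inl h1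
      · exact Or.inr ⟨h1, h⟩
    · rintro (h | h)
      · rw [h]; exact hfix1
      · exact h.2
  have hnot : (1 : AddChar S ℂ) ∉ Finset.univ.filter (fun ψ : AddChar S ℂ =>
          ψ ≠ 1 ∧ ψ.compAddMonoidHom (a.symm : S →+ S) = ψ) := by
    simp
  rw [hsplit, Finset.sum_insert hnot] at h2
  have h3 : ∀ ψ ∈ Finset.univ.filter (fun ψ : AddChar S ℂ =>
          ψ ≠ 1 ∧ ψ.compAddMonoidHom (a.symm : S →+ S) = ψ),
      LinearMap.trace ℂ V (ρ y * RepChar.proj ρ t ψ * 1) = 1 := by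
    intro ψ hψ
    rw [Finset.mem_filter] at hψ
    rw [mul_one, htriv ψ hψ.2.1 hψ.2.2, trace_proj ρ t ht, hrk ψ hψ.2.1, Nat.cast_one]
  rw [Finset.sum_congr rfl h3, Finset.sum_const, nsmul_eq_mul, mul_one, mul_one] at h2
  rw [← h1, h2]
  ring

end TraceIdentity

section ResRep

variable {G : Type*} [Group G] {Γ : Type*} [Group Γ]
  {V : Type*} [AddCommGroup V] [Module ℂ V]
  (ρ : G →* Module.End ℂ V) (p : Module.End ℂ V) (ι : Γ →* G)

theorem map_range_of_commute (hι : ∀ γ, ρ (ι γ) * p = p * ρ (ι γ)) (γ : Γ) :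
    ∀ x ∈ LinearMap.range p, ρ (ι γ) x ∈ LinearMap.range p := by
  rintro x ⟨u, rfl⟩
  refine ⟨ρ (ι γ) u, ?_⟩
  rw [← Module.End.mul_apply, ← hι γ, Module.End.mul_apply]

/-- the representation of `Γ` on the range of `p` -/
noncomputable def resRep (hι : ∀ γ, ρ (ι γ) * p = p * ρ (ι γ)) :
    Γ →* Module.End ℂ (LinearMap.range p) where
  toFun γ := (ρ (ι γ)).restrict (map_range_of_commute ρ p ι hι γ)
  map_one' := by
    ext x
    simp
  map_mul' γ γ' := by
    ext x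
    simp [map_mul]

theorem resRep_apply (hι : ∀ γ, ρ (ι γ) * p = p * ρ (ι γ)) (γ : Γ) (x : LinearMap.range p) :
    ((resRep ρ p ι hι γ x : LinearMap.range p) : V) = ρ (ι γ) (x : V) := rfl

variable [FiniteDimensional ℂ V]

/-- the trace of an operator commuting with an idempotent, on the range of the idempotent -/
theorem trace_restrict_range (hp : p * p = p) (A : Module.End ℂ V) (hA : A * p = p * A)
    (hA' : ∀ x ∈ LinearMap.range p, A x ∈ LinearMap.range p) :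
    LinearMap.trace ℂ (LinearMap.range p) (A.restrict hA') = LinearMap.trace ℂ V (A * p) := by
  have hf : ∀ x, (A * p) x ∈ LinearMap.range p := by
    intro x
    rw [hA]
    exact ⟨A x, rfl⟩
  have h1 := LinearMap.trace_restrict_eq_of_forall_mem (LinearMap.range p) (A * p) hf
  rw [← h1]
  congr 1
  ext x
  obtain ⟨u, hu⟩ := x.2
  simp only [LinearMap.coe_restrict_apply, Module.End.mul_apply]
  rw [← hu, ← Module.End.mul_apply p p, hp]

theorem trace_resRep (hp : p * p = p) (hι : ∀ γ, ρ (ι γ) * p = p * ρ (ι γ)) (γ : Γ) :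
    LinearMap.trace ℂ (LinearMap.range p) (resRep ρ p ι hι γ) =
      LinearMap.trace ℂ V (ρ (ι γ) * p) :=
  trace_restrict_range p hp (ρ (ι γ)) (hι γ) (map_range_of_commute ρ p ι hι γ)

end ResRep


section Level

variable {G : Type*} [Group G] {S : Type*} [AddCommGroup S] [Fintype S]
  {V : Type*} [AddCommGroup V] [Module ℂ V] [FiniteDimensional ℂ V]
  (ρ : G →* Module.End ℂ V) (t : S → G) (ht : ∀ X X', t (X + X') = t X * t X')

/-- `ρ g` commutes with `proj 1` for `g` normalising `t S` -/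
theorem commute_proj_one (g : G) (a : S ≃+ S) (hg : ∀ X, g * t X * g⁻¹ = t (a X)) :
    ρ g * RepChar.proj ρ t 1 = RepChar.proj ρ t 1 * ρ g := by
  rw [map_mul_proj_normalizer ρ t 1 g a hg]
  congr 2

/-- `ρ g` commutes with `proj ψ` for `g` normalising `t S` and fixing `ψ` -/
theorem commute_proj_of_fixed (ψ : AddChar S ℂ) (g : G) (a : S ≃+ S)
    (hg : ∀ X, g * t X * g⁻¹ = t (a X)) (hψ : ψ.compAddMonoidHom (a.symm : S →+ S) = ψ) :
    ρ g * RepChar.proj ρ t ψ = RepChar.proj ρ t ψ * ρ g := by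
  rw [map_mul_proj_normalizer ρ t ψ g a hg, hψ]

include ht in
/-- the total dimension when all non-trivial characters have the same rank -/
theorem finrank_of_rk (d : ℕ) (hd : ∀ ψ : AddChar S ℂ, ψ ≠ 1 → rk ρ t ψ = d) :
    finrank ℂ V = rk ρ t 1 + d * (Fintype.card S - 1) := by
  classical
  rw [RepChar.finrank_eq_sum ρ t ht, ← Finset.add_sum_erase Finset.univ _ (Finset.mem_univ (1 : AddChar S ℂ))]
  congr 1
  have hd' : ∀ ψ ∈ Finset.univ.erase (1 : AddChar S ℂ),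
      finrank ℂ (LinearMap.range (RepChar.proj ρ t ψ)) = d :=
    fun ψ hψ => hd ψ (Finset.ne_of_mem_erase hψ)
  rw [Finset.sum_congr rfl hd', Finset.sum_const,
    Finset.card_erase_of_mem (Finset.mem_univ _), Finset.card_univ, smul_eq_mul, mul_comm,
    AddChar.card_eq]

variable {Γ : Type*} [Group Γ] (ι : Γ →* G)
  {S₂ : Type*} [AddCommGroup S₂] [Fintype S₂] (t₂ : S₂ → Γ)
  (ht₂ : ∀ Y Y', t₂ (Y + Y') = t₂ Y * t₂ Y')

include ht ht₂ in
/-- THE LEVEL LEMMA: the rank-one property passes to the next level, and the fixed space of `t S`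
has dimension `rk₀ 1 + (|S₂| - 1)`. -/
theorem level [DecidableEq (AddChar S ℂ)]
    (hι : ∀ γ, ρ (ι γ) * RepChar.proj ρ t 1 = RepChar.proj ρ t 1 * ρ (ι γ))
    (hrk : ∀ ψ : AddChar S ℂ, ψ ≠ 1 → rk ρ t ψ = 1)
    {X₀ : S} (hX₀ : X₀ ≠ 0) {Y₀ : S₂} (hY₀ : Y₀ ≠ 0) (w : G)
    (hy : ι (t₂ Y₀) = w * t X₀ * w⁻¹)
    (a : S ≃+ S) (hya : ∀ X, ι (t₂ Y₀) * t X * (ι (t₂ Y₀))⁻¹ = t (a X))
    (htriv : ∀ ψ : AddChar S ℂ, ψ ≠ 1 → ψ.compAddMonoidHom (a.symm : S →+ S) = ψ →
      ρ (ι (t₂ Y₀)) * RepChar.proj ρ t ψ = RepChar.proj ρ t ψ)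
    (hfix : (Finset.univ.filter (fun ψ : AddChar S ℂ =>
          ψ ≠ 1 ∧ ψ.compAddMonoidHom (a.symm : S →+ S) = ψ)).card + 1 = Fintype.card S₂)
    (c : ℕ) (hc : ∀ ψ₂ : AddChar S₂ ℂ, ψ₂ ≠ 1 →
      rk (resRep ρ (RepChar.proj ρ t 1) ι hι) t₂ ψ₂ = c) :
    c = 1 ∧ rk ρ t 1 = rk (resRep ρ (RepChar.proj ρ t 1) ι hι) t₂ 1 + (Fintype.card S₂ - 1) := by
  have hp := RepChar.proj_mul_proj ρ t ht (1 : AddChar S ℂ)
  have h1 := trace_mul_proj_one ρ t ht hrk hX₀ w (ι (t₂ Y₀)) hy a hya htriv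
  have h2 := trace_resRep ρ (RepChar.proj ρ t 1) ι hp hι (t₂ Y₀)
  have h3 := trace_t_of_rk (resRep ρ (RepChar.proj ρ t 1) ι hι) t₂ ht₂ c hc hY₀
  have h4 := finrank_of_rk (resRep ρ (RepChar.proj ρ t 1) ι hι) t₂ ht₂ c hc
  have h5 : finrank ℂ (LinearMap.range (RepChar.proj ρ t 1)) = rk ρ t 1 := rfl
  have hS₂ : 1 ≤ Fintype.card S₂ := Fintype.card_pos
  -- everything in `ℂ`
  have e1 : (rk ρ t 1 : ℂ) - 1 - ((Fintype.card S₂ : ℂ) - 1) =
      (rk (resRep ρ (RepChar.proj ρ t 1) ι hι) t₂ 1 : ℂ) - c := by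
    rw [← h3, h2, h1]
    congr 1
    have : ((Finset.univ.filter (fun ψ : AddChar S ℂ =>
          ψ ≠ 1 ∧ ψ.compAddMonoidHom (a.symm : S →+ S) = ψ)).card : ℂ) + 1 =
        (Fintype.card S₂ : ℂ) := by exact_mod_cast hfix
    rw [← this]
    ring
  have e2 : (rk ρ t 1 : ℂ) = (rk (resRep ρ (RepChar.proj ρ t 1) ι hι) t₂ 1 : ℂ) +
      c * ((Fintype.card S₂ : ℂ) - 1) := by
    rw [← h5, h4]
    push_cast [hS₂]
    ring
  have e3 : (c : ℂ) * (Fintype.card S₂ : ℂ) = (Fintype.card S₂ : ℂ) := by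
    rw [e2] at e1
    linear_combination e1
  have hS₂' : (Fintype.card S₂ : ℂ) ≠ 0 := by exact_mod_cast (by omega : Fintype.card S₂ ≠ 0)
  have hc1 : c = 1 := by
    have : (c : ℂ) = 1 := by
      have := mul_right_cancel₀ hS₂' (e3.trans (one_mul _).symm)
      exact this
    exact_mod_cast this
  refine ⟨hc1, ?_⟩
  rw [← h5, h4, hc1, one_mul]

end Level

end Cfsg.Agent.Lib.H12.SLMin
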