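import Mathlib
import Cfsg.Agent.Lib.H12.SLMinB

/-!
# S2345: the generalized trace identity (helper12)

`t : S → G` an abelian subgroup, all non-trivial characters of rank at most one in `ρ`; `y = w (t X₀) w⁻¹` normalises `t S` and acts
trivially on the fixed lines.  Then `tr (ρ y | C_V (t S)) = rk 1 + ∑_{ψ ∈ Φ} ψ X₀ - #{ψ ∈ Φ fixed by y}`, `Φ` the non-trivial characters
of rank one.
-/

set_option autoImplicit false

namespace Cfsg.Agent.Lib.H12.OPMin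

open scoped BigOperators
open Module Cfsg.Agent.Lib.H4 Cfsg.Agent.Lib.H12.SLMin

section TraceIdentity

variable {G : Type*} [Group G] {S : Type*} [AddCommGroup S] [Fintype S]
  {V : Type*} [AddCommGroup V] [Module ℂ V] [FiniteDimensional ℂ V]
  (ρ : G →* Module.End ℂ V) (t : S → G) (ht : ∀ X X', t (X + X') = t X * t X')

/-- rank zero means that the projection vanishes -/
theorem proj_eq_zero_of_rk (ψ : AddChar S ℂ) (h : rk ρ t ψ = 0) : RepChar.proj ρ t ψ = 0 := by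
  by_contra hne
  exact RepChar.finrank_range_ne_zero ρ t hne h

include ht in
/-- the trace of `t X₀` when the non-trivial characters have rank at most one -/
theorem trace_t_of_rk_le_one [DecidableEq (AddChar S ℂ)]
    (hrk : ∀ ψ : AddChar S ℂ, ψ ≠ 1 → rk ρ t ψ ≤ 1) (X₀ : S) :
    LinearMap.trace ℂ V (ρ (t X₀)) = (rk ρ t 1 : ℂ) +
      ∑ ψ ∈ Finset.univ.filter (fun ψ : AddChar S ℂ => ψ ≠ 1 ∧ rk ρ t ψ = 1), ψ X₀ := by
  rw [trace_t ρ t ht X₀, ← Finset.add_sum_erase Finset.univ _ (Finset.mem_univ (1 : AddChar S ℂ)),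
    AddChar.one_apply, one_mul]
  congr 1
  have hsub : Finset.univ.filter (fun ψ : AddChar S ℂ => ψ ≠ 1 ∧ rk ρ t ψ = 1) ⊆
      Finset.univ.erase (1 : AddChar S ℂ) := by
    intro ψ hψ
    rw [Finset.mem_filter] at hψ
    exact Finset.mem_erase.2 ⟨hψ.2.1, Finset.mem_univ _⟩
  rw [← Finset.sum_subset hsub]
  · refine Finset.sum_congr rfl fun ψ hψ => ?_
    rw [Finset.mem_filter] at hψ
    rw [hψ.2.2, Nat.cast_one, mul_one]
  · intro ψ hψ hψ'
    have h1 : ψ ≠ 1 := Finset.ne_of_mem_erase hψ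
    have h0 : rk ρ t ψ = 0 := by
      have hle := hrk ψ h1
      have hne : rk ρ t ψ ≠ 1 := fun h => hψ' (Finset.mem_filter.2 ⟨Finset.mem_univ _, h1, h⟩)
      omega
    rw [h0, Nat.cast_zero, mul_zero]

include ht in
/-- THE GENERALIZED TRACE IDENTITY -/
theorem trace_mul_proj_one_gen [DecidableEq (AddChar S ℂ)]
    (hrk : ∀ ψ : AddChar S ℂ, ψ ≠ 1 → rk ρ t ψ ≤ 1)
    (X₀ : S) (w y : G) (hy : y = w * t X₀ * w⁻¹)
    (a : S ≃+ S) (hya : ∀ X, y * t X * y⁻¹ = t (a X))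
    (htriv : ∀ ψ : AddChar S ℂ, ψ ≠ 1 → rk ρ t ψ = 1 → ψ.compAddMonoidHom (a.symm : S →+ S) = ψ →
      ρ y * RepChar.proj ρ t ψ = RepChar.proj ρ t ψ) :
    LinearMap.trace ℂ V (ρ y * RepChar.proj ρ t 1) =
      (rk ρ t 1 : ℂ) +
        ∑ ψ ∈ Finset.univ.filter (fun ψ : AddChar S ℂ => ψ ≠ 1 ∧ rk ρ t ψ = 1), ψ X₀ -
        ((Finset.univ.filter (fun ψ : AddChar S ℂ =>
          (ψ ≠ 1 ∧ rk ρ t ψ = 1) ∧ ψ.compAddMonoidHom (a.symm : S →+ S) = ψ)).card : ℂ) := by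
  have h1 : LinearMap.trace ℂ V (ρ y) = (rk ρ t 1 : ℂ) +
      ∑ ψ ∈ Finset.univ.filter (fun ψ : AddChar S ℂ => ψ ≠ 1 ∧ rk ρ t ψ = 1), ψ X₀ := by
    rw [hy, trace_conj, trace_t_of_rk_le_one ρ t ht hrk X₀]
  have h2 := trace_eq_sum_fixed ρ t ht y a hya 1 (fun ψ => by rw [one_mul, mul_one])
  rw [mul_one] at h2
  have hfix1 : (1 : AddChar S ℂ).compAddMonoidHom (a.symm : S →+ S) = 1 := by
    ext X
    simp [AddChar.compAddMonoidHom_apply]
  have hmem1 : (1 : AddChar S ℂ) ∈ Finset.univ.filter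
      (fun ψ : AddChar S ℂ => ψ.compAddMonoidHom (a.symm : S →+ S) = ψ) :=
    Finset.mem_filter.2 ⟨Finset.mem_univ _, hfix1⟩
  rw [← Finset.add_sum_erase _ _ hmem1, mul_one] at h2
  have hsub : Finset.univ.filter (fun ψ : AddChar S ℂ =>
        (ψ ≠ 1 ∧ rk ρ t ψ = 1) ∧ ψ.compAddMonoidHom (a.symm : S →+ S) = ψ) ⊆
      (Finset.univ.filter
        (fun ψ : AddChar S ℂ => ψ.compAddMonoidHom (a.symm : S →+ S) = ψ)).erase 1 := by
    intro ψ hψ
    rw [Finset.mem_filter] at hψ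
    exact Finset.mem_erase.2 ⟨hψ.2.1.1, Finset.mem_filter.2 ⟨Finset.mem_univ _, hψ.2.2⟩⟩
  have h3 : ∑ ψ ∈ (Finset.univ.filter
        (fun ψ : AddChar S ℂ => ψ.compAddMonoidHom (a.symm : S →+ S) = ψ)).erase 1,
        LinearMap.trace ℂ V (ρ y * RepChar.proj ρ t ψ * 1) =
      ((Finset.univ.filter (fun ψ : AddChar S ℂ =>
          (ψ ≠ 1 ∧ rk ρ t ψ = 1) ∧ ψ.compAddMonoidHom (a.symm : S →+ S) = ψ)).card : ℂ) := by
    rw [← Finset.sum_subset hsub]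
    · have h4 : ∀ ψ ∈ Finset.univ.filter (fun ψ : AddChar S ℂ =>
          (ψ ≠ 1 ∧ rk ρ t ψ = 1) ∧ ψ.compAddMonoidHom (a.symm : S →+ S) = ψ),
          LinearMap.trace ℂ V (ρ y * RepChar.proj ρ t ψ * 1) = 1 := by
        intro ψ hψ
        rw [Finset.mem_filter] at hψ
        rw [mul_one, htriv ψ hψ.2.1.1 hψ.2.1.2 hψ.2.2, trace_proj ρ t ht, hψ.2.1.2, Nat.cast_one]
      rw [Finset.sum_congr rfl h4, Finset.sum_const, nsmul_eq_mul, mul_one]
    · intro ψ hψ hψ'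
      rw [Finset.mem_erase, Finset.mem_filter] at hψ
      have h0 : rk ρ t ψ = 0 := by
        have hle := hrk ψ hψ.1
        have hne : rk ρ t ψ ≠ 1 := fun h =>
          hψ' (Finset.mem_filter.2 ⟨Finset.mem_univ _, ⟨hψ.1, h⟩, hψ.2.2⟩)
        omega
      rw [proj_eq_zero_of_rk ρ t ψ h0, mul_zero, zero_mul, map_zero]
  rw [h3] at h2
  rw [← h1, h2]
  ring

end TraceIdentity

end Cfsg.Agent.Lib.H12.OPMin
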