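import Mathlib
import Cfsg.Agent.Lib.H12.OPMinDefs
import Cfsg.Agent.Lib.H4.OPMinDUAL
import Cfsg.Agent.Lib.H6.OPMinSQ
import Cfsg.Agent.Lib.H6.OPMinSTRL
import Cfsg.Agent.Lib.H6.OPMinARITH3
import Cfsg.Agent.Lib.H9.OPMinCNT
import Cfsg.Agent.Lib.H11.OPMinGEN
import Cfsg.Agent.Lib.H13.OPMinSTRW
import Cfsg.Agent.Lib.H25.OPMinTRANS
import Cfsg.Agent.Lib.H25.OPMinORB4
import Cfsg.Agent.Lib.H26.OPMinARITH1
import Cfsg.Agent.Lib.H26.OPMinARITH2
import Cfsg.Agent.Lib.H26.OPMinCOUNTSUM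
import Cfsg.Agent.Lib.H28.OPMinCOMM

/-!
# S2345: the pieces of the farm-out, collected under one namespace (helper12)

SQ, STR-U, STR-L, ARITH-3 helper6; STR-W, ALT helper13 (twin helper28); TRANS helper25 (twin helper18); ORB4 helper25 (part B twin
helper6); COUNT-FIB helper18; COUNT-SUM, ARITH-1, ARITH-2 helper26 (helper13); DUAL helper4; CNT helper9 (core Lib/H9/OrthMinRoot,
transitivity helper11 Lib/H11/OPlusTrans; twin helper1); GEN helper11; COMM helper28.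
-/

set_option autoImplicit false

namespace Cfsg.Agent.Lib.H12.OPMin.Pieces

open Matrix Cfsg.Agent.Lib.H12.OPMin

variable {F : Type*} [Field F]

alias uO_mem_Omega := Cfsg.Agent.Lib.H6.OPMin.uO_mem_Omega

alias lO_mem_Omega := Cfsg.Agent.Lib.H6.OPMin.lO_mem_Omega

alias wO_mem_Omega := Cfsg.Agent.Lib.H13.OPMin.wO_mem_Omega

alias lO_A0 := Cfsg.Agent.Lib.H13.OPMin.lO_A0

alias pair_cong := Cfsg.Agent.Lib.H4.OPMin.pair_cong

alias lamA_injective := Cfsg.Agent.Lib.H4.OPMin.lamA_injective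

alias exists_lamA := Cfsg.Agent.Lib.H4.OPMin.exists_lamA

alias trans_R2 := Cfsg.Agent.Lib.H25.OPMin.trans_R2

alias sum_R2_X0 := Cfsg.Agent.Lib.H26.OPMin.sum_R2_X0

alias card_R2_fixed := Cfsg.Agent.Lib.H26.OPMin.card_R2_fixed

alias r2_mul := Cfsg.Agent.Lib.H26.OPMin.r2_mul

alias card_ge_of_not_R2 := Cfsg.Agent.Lib.H25.OPMin.card_ge_of_not_R2

alias card_class := Cfsg.Agent.Lib.H9.OPMin.card_class

alias arith_two_r2 := Cfsg.Agent.Lib.H26.OPMin.arith_two_r2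

alias arith_orb4 := Cfsg.Agent.Lib.H26.OPMin.arith_orb4

alias arith_int := Cfsg.Agent.Lib.H6.OPMin.arith_int

alias gen_Omega := Cfsg.Agent.Lib.H11.OPMin.gen_Omega

alias comm_fixed := Cfsg.Agent.Lib.H28.OPMin.comm_fixed

end Cfsg.Agent.Lib.H12.OPMin.Pieces
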