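import Mathlib
import Cfsg.Agent.Lib.H12.SLMinDefs
import Cfsg.Agent.Lib.H18.SLMinTRANSV

/-!
# S2332, piece CNT (backup by helper12): the number of transvections of `SL (Fin (m + 1)) F`
-/

set_option autoImplicit false
set_option linter.unusedSectionVars false

namespace Cfsg.Agent.Lib.H12.SLMin.CNT

open Matrix Cfsg.Agent.Lib.H12.SLMin

variable {F : Type*} [Field F]

section Basic

variable {n : ℕ}

theorem det_one_add_vecMulVec (v w : Fin n → F) : (1 + vecMulVec v w).det = 1 + w ⬝ᵥ v := by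
  rw [vecMulVec_eq Unit, det_one_add_replicateCol_mul_replicateRow]

/-- rank-one matrices: proportionality -/
theorem vecMulVec_eq_iff {v w v₀ w₀ : Fin n → F} (hv : v ≠ 0) (hw : w ≠ 0)
    (h : vecMulVec v w = vecMulVec v₀ w₀) :
    ∃ c : Fˣ, v = (c : F) • v₀ ∧ w = ((c⁻¹ : Fˣ) : F) • w₀ := by
  obtain ⟨j, hj⟩ : ∃ j, w j ≠ 0 := by
    by_contra hcon
    push Not at hcon
    exact hw (funext hcon)
  obtain ⟨i, hi⟩ : ∃ i, v i ≠ 0 := by
    by_contra hcon
    push Not at hcon
    exact hv (funext hcon)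
  have hij : ∀ i j, v i * w j = v₀ i * w₀ j := fun i j => by
    have := congrFun (congrFun h i) j
    simpa [vecMulVec_apply] using this
  have hc0 : w₀ j / w j ≠ 0 := by
    intro h0
    have h1 : w₀ j = 0 := by
      rcases div_eq_zero_iff.1 h0 with h1 | h1
      · exact h1
      · exact absurd h1 hj
    have := hij i j
    rw [h1, mul_zero] at this
    exact (mul_ne_zero hi hj) this
  refine ⟨Units.mk0 _ hc0, ?_, ?_⟩
  · funext i'
    have := hij i' j
    simp only [Units.val_mk0, Pi.smul_apply, smul_eq_mul]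
    field_simp
    linear_combination this
  · funext j'
    have h1 := hij i j'
    have h2 := hij i j
    have h3 : v₀ i ≠ 0 := by
      intro h0
      rw [h0, zero_mul] at h2
      exact (mul_ne_zero hi hj) h2
    have h4 : w₀ j ≠ 0 := by
      intro h0
      rw [h0, mul_zero] at h2
      exact (mul_ne_zero hi hj) h2
    simp only [Units.val_inv_eq_inv_val, Units.val_mk0, Pi.smul_apply, smul_eq_mul, inv_div]
    field_simp
    have e1 : v i * w j' * w₀ j = v₀ i * w₀ j' * w₀ j := by rw [h1]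
    have e2 : v i * w j * w₀ j' = v₀ i * w₀ j * w₀ j' := by rw [h2]
    have : v i * (w j' * w₀ j) = v i * (w j * w₀ j') := by
      rw [← mul_assoc, ← mul_assoc, e1, e2]
      ring
    exact mul_left_cancel₀ hi this

end Basic


section Count

variable [Fintype F] {n : ℕ}

/-- the linear form `w ↦ w ⬝ᵥ v` -/
def dotL (v : Fin n → F) : (Fin n → F) →ₗ[F] F where
  toFun w := w ⬝ᵥ v
  map_add' a b := add_dotProduct a b v
  map_smul' c a := smul_dotProduct c a v

theorem dotL_surjective {v : Fin n → F} (hv : v ≠ 0) : Function.Surjective (dotL v) := by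
  obtain ⟨i, hi⟩ : ∃ i, v i ≠ 0 := by
    by_contra hcon
    push Not at hcon
    exact hv (funext hcon)
  intro c
  refine ⟨Pi.single i (c / v i), ?_⟩
  show Pi.single i (c / v i) ⬝ᵥ v = c
  rw [single_dotProduct]
  field_simp

open Classical in
/-- the number of vectors orthogonal to a non-zero vector -/
theorem card_orth {v : Fin (n + 1) → F} (hv : v ≠ 0) :
    Fintype.card {w : Fin (n + 1) → F // w ⬝ᵥ v = 0} = Fintype.card F ^ n := by
  have h1 : Fintype.card {w : Fin (n + 1) → F // w ⬝ᵥ v = 0} =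
      Fintype.card (LinearMap.ker (dotL v)) := by
    refine Fintype.card_congr (Equiv.subtypeEquivRight fun w => ?_)
    rw [LinearMap.mem_ker]
    rfl
  rw [h1, Module.card_eq_pow_finrank (K := F) (V := LinearMap.ker (dotL v))]
  congr 1
  have h2 := LinearMap.finrank_range_add_finrank_ker (dotL v)
  rw [LinearMap.range_eq_top.2 (dotL_surjective hv), finrank_top, Module.finrank_self,
    Module.finrank_fin_fun] at h2
  omega

open Classical in
theorem card_orth_ne {v : Fin (n + 1) → F} (hv : v ≠ 0) :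
    Fintype.card {w : Fin (n + 1) → F // w ≠ 0 ∧ w ⬝ᵥ v = 0} = Fintype.card F ^ n - 1 := by
  have h1 : Fintype.card {w : Fin (n + 1) → F // w ≠ 0 ∧ w ⬝ᵥ v = 0} =
      Fintype.card {w : {w : Fin (n + 1) → F // w ⬝ᵥ v = 0} // w ≠ ⟨0, zero_dotProduct v⟩} := by
    refine Fintype.card_congr
      { toFun := fun w => ⟨⟨w.1, w.2.2⟩, fun h => w.2.1 (congrArg Subtype.val h)⟩
        invFun := fun w => ⟨w.1.1, fun h => w.2 (Subtype.ext h), w.1.2⟩
        left_inv := fun w => rfl
        right_inv := fun w => rfl }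
  rw [h1, Fintype.card_subtype_compl, card_orth hv, Fintype.card_subtype_eq]

open Classical in
/-- the number of pairs -/
theorem card_pairs :
    Fintype.card {p : (Fin (n + 1) → F) × (Fin (n + 1) → F) // p.1 ≠ 0 ∧ p.2 ≠ 0 ∧ p.2 ⬝ᵥ p.1 = 0} =
      (Fintype.card F ^ (n + 1) - 1) * (Fintype.card F ^ n - 1) := by
  have h1 : Fintype.card {p : (Fin (n + 1) → F) × (Fin (n + 1) → F) //
      p.1 ≠ 0 ∧ p.2 ≠ 0 ∧ p.2 ⬝ᵥ p.1 = 0} =
      Fintype.card (Σ v : {v : Fin (n + 1) → F // v ≠ 0},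
        {w : Fin (n + 1) → F // w ≠ 0 ∧ w ⬝ᵥ v.1 = 0}) := by
    refine Fintype.card_congr
      { toFun := fun p => ⟨⟨p.1.1, p.2.1⟩, ⟨p.1.2, p.2.2⟩⟩
        invFun := fun s => ⟨(s.1.1, s.2.1), s.1.2, s.2.2⟩
        left_inv := fun p => rfl
        right_inv := fun s => rfl }
  rw [h1, Fintype.card_sigma, Finset.sum_congr rfl (fun v _ => card_orth_ne v.2), Finset.sum_const,
    Finset.card_univ, smul_eq_mul, Fintype.card_subtype_compl, Fintype.card_subtype_eq,
    Fintype.card_fun, Fintype.card_fin]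

end Count


section Transv

variable {m : ℕ}

/-- the transvection `1 + v wᵀ` -/
def tv (v w : Fin (m + 1) → F) (h : w ⬝ᵥ v = 0) : Matrix.SpecialLinearGroup (Fin (m + 1)) F :=
  ⟨1 + vecMulVec v w, by rw [det_one_add_vecMulVec, h, add_zero]⟩

theorem tv_coe (v w : Fin (m + 1) → F) (h : w ⬝ᵥ v = 0) :
    (tv v w h : Matrix (Fin (m + 1)) (Fin (m + 1)) F) = 1 + vecMulVec v w := rfl

theorem uEl_coe_eq (a : Fin m → F) :
    (uEl a : Matrix (Fin (m + 1)) (Fin (m + 1)) F) =
      1 + vecMulVec (Pi.single 0 1) (Fin.cons 0 a : Fin (m + 1) → F) := by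
  rw [uEl_coe]
  apply bm_ext
  · simp [vecMulVec_apply]
  · intro j
    simp [vecMulVec_apply, (Fin.succ_ne_zero j).symm]
  · intro i
    simp [vecMulVec_apply, Fin.succ_ne_zero]
  · intro i j
    simp [vecMulVec_apply, Fin.succ_ne_zero, Matrix.one_apply]

theorem mulVec_single_zero (G : Matrix (Fin (m + 1)) (Fin (m + 1)) F) :
    G *ᵥ (Pi.single 0 1) = fun i => G i 0 := by
  funext i
  simp [mulVec, dotProduct, Pi.single_apply]

variable [Fintype F]

/-- `1 + v wᵀ` is a conjugate of some `uEl a` -/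
theorem tv_mem_transv (hm : 1 ≤ m) (v w : Fin (m + 1) → F) (hv : v ≠ 0) (hw : w ≠ 0) (h : w ⬝ᵥ v = 0) :
    tv v w h ∈ transv m F := by
  have he₀ : (Pi.single 0 1 : Fin (m + 1) → F) ≠ 0 := by
    intro h0
    have := congrFun h0 0
    simp at this
  obtain ⟨g₁, hdet, hg₁⟩ := Cfsg.Agent.Lib.H18.SLMin.trans_SL_vec (m := m + 1) (by omega) he₀ hv
  set G : Matrix (Fin (m + 1)) (Fin (m + 1)) F := (g₁ : Matrix (Fin (m + 1)) (Fin (m + 1)) F) with hG
  let g : Matrix.SpecialLinearGroup (Fin (m + 1)) F := ⟨G, hdet⟩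
  set b : Fin (m + 1) → F := w ᵥ* G with hb
  have hb0 : b 0 = 0 := by
    have h1 : b 0 = w ⬝ᵥ (G *ᵥ (Pi.single 0 1)) := by
      rw [mulVec_single_zero]
      rfl
    rw [h1, hg₁, h]
  have hbcons : b = Fin.cons 0 (fun j => b j.succ) := by
    funext i
    refine Fin.cases ?_ (fun j => ?_) i
    · rw [hb0]; rfl
    · rfl
  have hbne : b ≠ 0 := by
    intro h0
    apply hw
    have h1 : w ᵥ* G ᵥ* ((g₁⁻¹ : GL (Fin (m + 1)) F) : Matrix (Fin (m + 1)) (Fin (m + 1)) F) = w := by
      rw [Matrix.vecMul_vecMul, hG, ← Units.val_mul, mul_inv_cancel, Units.val_one, Matrix.vecMul_one]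
    rw [← h1, ← hb, h0, Matrix.zero_vecMul]
  have ha : (fun j => b j.succ : Fin m → F) ≠ 0 := by
    intro h0
    apply hbne
    rw [hbcons, h0]
    funext i
    refine Fin.cases ?_ (fun j => ?_) i <;> simp
  rw [mem_transv]
  refine ⟨g, fun j => b j.succ, ha, ?_⟩
  rw [eq_mul_inv_iff_mul_eq]
  apply Subtype.ext
  rw [Matrix.SpecialLinearGroup.coe_mul, Matrix.SpecialLinearGroup.coe_mul, tv_coe, uEl_coe_eq, ← hbcons]
  show (1 + vecMulVec v w) * G = G * (1 + vecMulVec (Pi.single 0 1) b)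
  rw [add_mul, mul_add, one_mul, mul_one, vecMulVec_mul, mul_vecMulVec, hg₁]

/-- every transvection is some `1 + v wᵀ` -/
theorem exists_tv_of_mem_transv {x : Matrix.SpecialLinearGroup (Fin (m + 1)) F} (hx : x ∈ transv m F) :
    ∃ (v w : Fin (m + 1) → F) (h : w ⬝ᵥ v = 0), v ≠ 0 ∧ w ≠ 0 ∧ x = tv v w h := by
  obtain ⟨g, a, ha, rfl⟩ := mem_transv.1 hx
  set G : Matrix (Fin (m + 1)) (Fin (m + 1)) F := (g : Matrix (Fin (m + 1)) (Fin (m + 1)) F) with hG
  set Gi : Matrix (Fin (m + 1)) (Fin (m + 1)) F := ((g⁻¹ : Matrix.SpecialLinearGroup (Fin (m + 1)) F) :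
    Matrix (Fin (m + 1)) (Fin (m + 1)) F) with hGi
  have h1 : G * Gi = 1 := by
    rw [hG, hGi, ← Matrix.SpecialLinearGroup.coe_mul, mul_inv_cancel, Matrix.SpecialLinearGroup.coe_one]
  have h2 : Gi * G = 1 := by
    rw [hG, hGi, ← Matrix.SpecialLinearGroup.coe_mul, inv_mul_cancel, Matrix.SpecialLinearGroup.coe_one]
  set b : Fin (m + 1) → F := Fin.cons 0 a with hb
  have he₀ : (Pi.single 0 1 : Fin (m + 1) → F) ≠ 0 := by
    intro h0
    have := congrFun h0 0
    simp at this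
  have hbne : b ≠ 0 := by
    intro h0
    apply ha
    funext j
    have := congrFun h0 j.succ
    simpa [hb] using this
  have horth : (b ᵥ* Gi) ⬝ᵥ (G *ᵥ (Pi.single 0 1)) = 0 := by
    rw [← Matrix.dotProduct_mulVec, Matrix.mulVec_mulVec, h2, Matrix.one_mulVec, dotProduct_single]
    simp [hb]
  refine ⟨G *ᵥ (Pi.single 0 1), b ᵥ* Gi, horth, ?_, ?_, ?_⟩
  · intro h0
    apply he₀
    have : Gi *ᵥ (G *ᵥ (Pi.single 0 1)) = (Pi.single 0 1 : Fin (m + 1) → F) := by
      rw [Matrix.mulVec_mulVec, h2, Matrix.one_mulVec]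
    rw [← this, h0, Matrix.mulVec_zero]
  · intro h0
    apply hbne
    have : (b ᵥ* Gi) ᵥ* G = b := by
      rw [Matrix.vecMul_vecMul, h2, Matrix.vecMul_one]
    rw [← this, h0, Matrix.zero_vecMul]
  · apply Subtype.ext
    rw [Matrix.SpecialLinearGroup.coe_mul, Matrix.SpecialLinearGroup.coe_mul, tv_coe, uEl_coe_eq]
    show G * (1 + vecMulVec (Pi.single 0 1) b) * Gi = 1 + vecMulVec (G *ᵥ (Pi.single 0 1)) (b ᵥ* Gi)
    rw [mul_add, mul_one, add_mul, h1, mul_vecMulVec, vecMulVec_mul]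

end Transv


section Main

variable [Fintype F] {m : ℕ}

open Classical in
/-- CNT: the number of transvections -/
theorem card_transv (hm : 1 ≤ m) :
    (transv m F).card * (Fintype.card F - 1) =
      (Fintype.card F ^ (m + 1) - 1) * (Fintype.card F ^ m - 1) := by
  let pred : (Fin (m + 1) → F) × (Fin (m + 1) → F) → Prop :=
    fun p => p.1 ≠ 0 ∧ p.2 ≠ 0 ∧ p.2 ⬝ᵥ p.1 = 0
  let P : Finset ((Fin (m + 1) → F) × (Fin (m + 1) → F)) := Finset.univ.filter pred
  let f : (Fin (m + 1) → F) × (Fin (m + 1) → F) → Matrix.SpecialLinearGroup (Fin (m + 1)) F :=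
    fun p => if h : p.2 ⬝ᵥ p.1 = 0 then tv p.1 p.2 h else 1
  have hf : ∀ p (h : p.2 ⬝ᵥ p.1 = 0), f p = tv p.1 p.2 h := fun p h => dif_pos h
  have hP : P.card = (Fintype.card F ^ (m + 1) - 1) * (Fintype.card F ^ m - 1) := by
    rw [← card_pairs (F := F) (n := m), Fintype.card_subtype]
  have hmaps : ∀ p ∈ P, f p ∈ transv m F := by
    intro p hp
    obtain ⟨h1, h2, h3⟩ := (Finset.mem_filter.1 hp).2
    rw [hf p h3]
    exact tv_mem_transv hm p.1 p.2 h1 h2 h3
  have hfib : ∀ x ∈ transv m F, (P.filter (fun p => f p = x)).card = Fintype.card F - 1 := by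
    intro x hx
    obtain ⟨v₀, w₀, h₀, hv₀, hw₀, rfl⟩ := exists_tv_of_mem_transv hx
    have himg : P.filter (fun p => f p = tv v₀ w₀ h₀) =
        Finset.univ.image (fun c : Fˣ => ((c : F) • v₀, ((c⁻¹ : Fˣ) : F) • w₀)) := by
      ext p
      simp only [Finset.mem_filter, Finset.mem_image, Finset.mem_univ, true_and]
      constructor
      · rintro ⟨hp, hfp⟩
        obtain ⟨h1, h2, h3⟩ := (Finset.mem_filter.1 hp).2
        rw [hf p h3] at hfp
        have hmat := congrArg Subtype.val hfp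
        rw [tv_coe, tv_coe] at hmat
        obtain ⟨c, hc1, hc2⟩ := vecMulVec_eq_iff h1 h2 (add_left_cancel hmat)
        exact ⟨c, Prod.ext hc1.symm hc2.symm⟩
      · rintro ⟨c, rfl⟩
        have h3 : (((c⁻¹ : Fˣ) : F) • w₀) ⬝ᵥ ((c : F) • v₀) = 0 := by
          rw [smul_dotProduct, dotProduct_smul, h₀, smul_zero, smul_zero]
        refine ⟨Finset.mem_filter.2 ⟨Finset.mem_univ _, ?_, ?_, h3⟩, ?_⟩
        · exact smul_ne_zero (Units.ne_zero c) hv₀
        · exact smul_ne_zero (Units.ne_zero _) hw₀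
        · rw [hf _ h3]
          apply Subtype.ext
          rw [tv_coe, tv_coe]
          congr 1
          ext i j
          simp only [vecMulVec_apply, Pi.smul_apply, smul_eq_mul]
          have : (c : F) * ((c⁻¹ : Fˣ) : F) = 1 := by rw [← Units.val_mul, mul_inv_cancel, Units.val_one]
          linear_combination (v₀ i * w₀ j) * this
    rw [himg, Finset.card_image_of_injective, Finset.card_univ, Fintype.card_units]
    intro c c' hcc
    have h1 : (c : F) • v₀ = (c' : F) • v₀ := congrArg Prod.fst hcc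
    obtain ⟨i, hi⟩ : ∃ i, v₀ i ≠ 0 := by
      by_contra hcon
      push Not at hcon
      exact hv₀ (funext hcon)
    have h2 := congrFun h1 i
    simp only [Pi.smul_apply, smul_eq_mul] at h2
    exact Units.ext (mul_right_cancel₀ hi h2)
  rw [← hP, Finset.card_eq_sum_card_fiberwise hmaps, Finset.sum_congr rfl hfib, Finset.sum_const,
    smul_eq_mul]

end Main

end Cfsg.Agent.Lib.H12.SLMin.CNT
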