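import Mathlib

set_option autoImplicit false

/-!
# Transitivity of `SL_n(K)` on nonzero vectors and on linearly independent pairs (`n ≥ 3`)
-/

namespace Cfsg.Agent.Lib.H12.SLTrans

open Matrix Module

variable {K : Type*} [Field K] {V : Type*} [AddCommGroup V] [Module K V]

/-- A linear automorphism carrying one linearly independent pair to another. -/
theorem exists_linearEquiv_pair [FiniteDimensional K V] {v w v' w' : V}
    (h : LinearIndependent K ![v, w]) (h' : LinearIndependent K ![v', w']) :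
    ∃ g : V ≃ₗ[K] V, g v = v' ∧ g w = w' := by
  have q0 : ∀ {a b : V} (hab : LinearIndependent K ![a, b]),
      ((hab.linearCombinationEquiv (Finsupp.single 0 1) : Submodule.span K (Set.range ![a, b])) : V)
        = a := by
    intro a b hab; simp
  have q1 : ∀ {a b : V} (hab : LinearIndependent K ![a, b]),
      ((hab.linearCombinationEquiv (Finsupp.single 1 1) : Submodule.span K (Set.range ![a, b])) : V)
        = b := by
    intro a b hab; simp
  let f := h.linearCombinationEquiv.symm ≪≫ₗ h'.linearCombinationEquiv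
  have : FiniteDimensional K (Submodule.span K (Set.range ![v, w])) :=
    FiniteDimensional.span_of_finite K (Set.finite_range _)
  obtain ⟨g, hg⟩ := Submodule.exists_linearEquiv_restrict_eq f
  refine ⟨g, ?_, ?_⟩
  · have := hg (h.linearCombinationEquiv (Finsupp.single 0 1))
    rw [q0 h] at this
    rw [← this]
    simp only [f, LinearEquiv.trans_apply, LinearEquiv.symm_apply_apply]
    exact q0 h'
  · have := hg (h.linearCombinationEquiv (Finsupp.single 1 1))
    rw [q1 h] at this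
    rw [← this]
    simp only [f, LinearEquiv.trans_apply, LinearEquiv.symm_apply_apply]
    exact q1 h'

variable {n : ℕ}

theorem exists_SL_std (hn : 3 ≤ n) {v w : Fin n → K} (h : LinearIndependent K ![v, w]) :
    ∃ A : Matrix.SpecialLinearGroup (Fin n) K,
      A.1 *ᵥ Pi.single (⟨0, by omega⟩ : Fin n) 1 = v ∧
      A.1 *ᵥ Pi.single (⟨1, by omega⟩ : Fin n) 1 = w := by
  set i0 : Fin n := ⟨0, by omega⟩ with hi0
  set i1 : Fin n := ⟨1, by omega⟩ with hi1
  set i2 : Fin n := ⟨2, by omega⟩ with hi2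
  have h01 : i0 ≠ i1 := by simp [hi0, hi1, Fin.ext_iff]
  have h02 : i0 ≠ i2 := by simp [hi0, hi2, Fin.ext_iff]
  have h12 : i1 ≠ i2 := by simp [hi1, hi2, Fin.ext_iff]
  have hstd : LinearIndependent K ![(Pi.single i0 1 : Fin n → K), Pi.single i1 1] := by
    rw [LinearIndependent.pair_iff' (Pi.single_ne_zero_iff.2 one_ne_zero)]
    intro a ha
    have := congrFun ha i1
    simp [Pi.single_apply, h01.symm] at this
  obtain ⟨g, hg0, hg1⟩ := exists_linearEquiv_pair hstd h
  let M : Matrix (Fin n) (Fin n) K := LinearMap.toMatrix' g.toLinearMap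
  have hM : ∀ x, M *ᵥ x = g x := fun x => LinearMap.toMatrix'_mulVec _ _
  have hdet : M.det ≠ 0 := by
    have : M.det = LinearMap.det g.toLinearMap := LinearMap.det_toMatrix' _
    rw [this]
    exact (LinearEquiv.isUnit_det' g).ne_zero
  let D : Matrix (Fin n) (Fin n) K := Matrix.diagonal (fun i => if i = i2 then M.det⁻¹ else 1)
  have hD : D.det = M.det⁻¹ := by
    rw [Matrix.det_diagonal, Finset.prod_ite_eq' ]
    simp
  refine ⟨⟨M * D, by rw [Matrix.det_mul, hD, mul_inv_cancel₀ hdet]⟩, ?_, ?_⟩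
  · show (M * D) *ᵥ _ = v
    rw [← Matrix.mulVec_mulVec, Matrix.diagonal_mulVec_single, if_neg h02, one_mul, hM, hg0]
  · show (M * D) *ᵥ _ = w
    rw [← Matrix.mulVec_mulVec, Matrix.diagonal_mulVec_single, if_neg h12, one_mul, hM, hg1]

theorem exists_SL_pair (hn : 3 ≤ n) {v w v' w' : Fin n → K}
    (h : LinearIndependent K ![v, w]) (h' : LinearIndependent K ![v', w']) :
    ∃ A : Matrix.SpecialLinearGroup (Fin n) K, A.1 *ᵥ v = v' ∧ A.1 *ᵥ w = w' := by
  obtain ⟨A, hA0, hA1⟩ := exists_SL_std hn h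
  obtain ⟨B, hB0, hB1⟩ := exists_SL_std hn h'
  have hinv : ∀ x : Fin n → K, (A⁻¹ : Matrix.SpecialLinearGroup (Fin n) K).1 *ᵥ (A.1 *ᵥ x) = x := by
    intro x
    rw [Matrix.mulVec_mulVec, ← Matrix.SpecialLinearGroup.coe_mul, inv_mul_cancel,
      Matrix.SpecialLinearGroup.coe_one, Matrix.one_mulVec]
  refine ⟨B * A⁻¹, ?_, ?_⟩
  · rw [← hA0, Matrix.SpecialLinearGroup.coe_mul, ← Matrix.mulVec_mulVec, hinv, hB0]
  · rw [← hA1, Matrix.SpecialLinearGroup.coe_mul, ← Matrix.mulVec_mulVec, hinv, hB1]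

theorem exists_indep (hn : 2 ≤ n) {v : Fin n → K} (hv : v ≠ 0) :
    ∃ w : Fin n → K, LinearIndependent K ![v, w] := by
  obtain ⟨i, hi⟩ := Function.ne_iff.mp hv
  obtain ⟨j, hj⟩ : ∃ j : Fin n, j ≠ i := by
    by_cases h0 : i = ⟨0, by omega⟩
    · exact ⟨⟨1, by omega⟩, by rw [h0]; simp [Fin.ext_iff]⟩
    · exact ⟨⟨0, by omega⟩, fun h => h0 h.symm⟩
  refine ⟨Pi.single j 1, ?_⟩
  rw [LinearIndependent.pair_iff' hv]
  intro a ha
  have h1 := congrFun ha i
  have h2 := congrFun ha j
  simp only [Pi.smul_apply, smul_eq_mul, Pi.single_apply, if_neg hj.symm, if_true, mul_eq_zero] at h1 h2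
  rcases h1 with h1 | h1
  · rw [h1, zero_mul] at h2
    exact zero_ne_one h2
  · exact hi h1

theorem exists_SL_single (hn : 3 ≤ n) {v v' : Fin n → K} (hv : v ≠ 0) (hv' : v' ≠ 0) :
    ∃ A : Matrix.SpecialLinearGroup (Fin n) K, A.1 *ᵥ v = v' := by
  obtain ⟨w, hw⟩ := exists_indep (by omega) hv
  obtain ⟨w', hw'⟩ := exists_indep (by omega) hv'
  obtain ⟨A, hA, -⟩ := exists_SL_pair hn hw hw'
  exact ⟨A, hA⟩

end Cfsg.Agent.Lib.H12.SLTrans
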