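import Mathlib
import Cfsg.Agent.Lib.H12.SLTrans
import Cfsg.Agent.Lib.H12.CharSumIrr
import Cfsg.Agent.Lib.L0.CharPerm

set_option autoImplicit false

namespace Cfsg.Agent.Lib.H12.SLPerm

open Matrix Cfsg Cfsg.Agent.Lib.L0 Cfsg.Agent.Lib.H12.SLTrans Cfsg.Agent.Lib.H12.CharSumIrr
open scoped ComplexConjugate

/-- Counting orbits with a complete invariant. -/
theorem card_orbits_of_classifier {G P T : Type*} [Group G] [MulAction G P] [Fintype T]
    (Φ : P → T) (hsurj : Function.Surjective Φ)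
    (hiff : ∀ p p' : P, Φ p = Φ p' ↔ ∃ g : G, g • p = p') :
    Nat.card (Quotient (MulAction.orbitRel G P)) = Fintype.card T := by
  rw [← Nat.card_eq_fintype_card]
  refine Nat.card_congr (Equiv.ofBijective
    (Quotient.lift Φ (fun a b (h : MulAction.orbitRel G P a b) => ?_)) ⟨?_, ?_⟩)
  · rw [MulAction.orbitRel_apply] at h
    obtain ⟨g, hg⟩ := h
    exact ((hiff b a).mpr ⟨g, hg⟩).symm
  · intro a b
    refine Quotient.inductionOn₂ a b fun x y h => ?_
    simp only [Quotient.lift_mk] at h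
    apply Quotient.sound
    show MulAction.orbitRel G P x y
    rw [MulAction.orbitRel_apply]
    obtain ⟨g, hg⟩ := (hiff y x).mp h.symm
    exact ⟨g, hg⟩
  · intro t
    obtain ⟨p, hp⟩ := hsurj t
    exact ⟨Quotient.mk _ p, hp⟩

/-- Fixed points on a product. -/
def fixedByProdEquiv {G A B : Type*} [Group G] [MulAction G A] [MulAction G B] (g : G) :
    MulAction.fixedBy (A × B) g ≃ MulAction.fixedBy A g × MulAction.fixedBy B g where
  toFun x := (⟨x.1.1, congrArg Prod.fst (MulAction.mem_fixedBy.mp x.2)⟩,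
    ⟨x.1.2, congrArg Prod.snd (MulAction.mem_fixedBy.mp x.2)⟩)
  invFun y := ⟨(y.1.1, y.2.1), by
    rw [MulAction.mem_fixedBy]
    exact Prod.ext y.1.2 y.2.2⟩
  left_inv x := rfl
  right_inv y := rfl


variable {F : Type*} [Field F] {n : ℕ}

local notation "SLn" => Matrix.SpecialLinearGroup (Fin n) F

/-- The nonzero vectors of `F^n`. -/
@[ext] structure NZ (n : ℕ) (F : Type*) [Field F] where
  /-- the underlying vector -/
  vec : Fin n → F
  ne : vec ≠ 0

/-- `NZ n F` as a subtype. -/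
def nzEquiv (n : ℕ) (F : Type*) [Field F] : NZ n F ≃ {v : Fin n → F // v ≠ 0} where
  toFun x := ⟨x.vec, x.ne⟩
  invFun v := ⟨v.1, v.2⟩
  left_inv _ := rfl
  right_inv _ := rfl

noncomputable instance [Fintype F] [DecidableEq F] : Fintype (NZ n F) :=
  Fintype.ofEquiv _ (nzEquiv n F).symm

theorem mulVec_ne_zero (g : SLn) {v : Fin n → F} (hv : v ≠ 0) : g.1 *ᵥ v ≠ 0 := by
  intro h
  apply hv
  have : (g⁻¹ : SLn).1 *ᵥ (g.1 *ᵥ v) = v := by
    rw [Matrix.mulVec_mulVec, ← Matrix.SpecialLinearGroup.coe_mul, inv_mul_cancel,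
      Matrix.SpecialLinearGroup.coe_one, Matrix.one_mulVec]
  rw [← this, h, Matrix.mulVec_zero]

/-- The action of `SL_n(F) × Fˣ` on the nonzero vectors: `(g, c) • v = c⁻¹ • g v`. -/
noncomputable instance gammaAction : MulAction (SLn × Fˣ) (NZ n F) where
  smul p v := ⟨((p.2⁻¹ : Fˣ) : F) • (p.1.1 *ᵥ v.vec),
    smul_ne_zero (Units.ne_zero _) (mulVec_ne_zero p.1 v.ne)⟩
  one_smul v := by
    apply NZ.ext
    show (((1 : SLn × Fˣ).2⁻¹ : Fˣ) : F) • ((1 : SLn × Fˣ).1.1 *ᵥ v.vec) = v.vec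
    simp
  mul_smul p p' v := by
    apply NZ.ext
    show ((((p * p').2)⁻¹ : Fˣ) : F) • ((p * p').1.1 *ᵥ v.vec) =
      ((p.2⁻¹ : Fˣ) : F) • (p.1.1 *ᵥ (((p'.2⁻¹ : Fˣ) : F) • (p'.1.1 *ᵥ v.vec)))
    rw [Matrix.mulVec_smul, smul_smul, Prod.snd_mul, Prod.fst_mul, _root_.mul_inv_rev,
      Units.val_mul, Matrix.SpecialLinearGroup.coe_mul, Matrix.mulVec_mulVec, mul_comm]

theorem gamma_smul_vec (p : SLn × Fˣ) (v : NZ n F) :
    (p • v).vec = ((p.2⁻¹ : Fˣ) : F) • (p.1.1 *ᵥ v.vec) := rfl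

/-- The action of `SL_n(F)` on the nonzero vectors. -/
noncomputable instance slAction : MulAction SLn (NZ n F) where
  smul g v := ⟨g.1 *ᵥ v.vec, mulVec_ne_zero g v.ne⟩
  one_smul v := by
    apply NZ.ext
    show (1 : SLn).1 *ᵥ v.vec = v.vec
    simp
  mul_smul g g' v := by
    apply NZ.ext
    show (g * g').1 *ᵥ v.vec = g.1 *ᵥ (g'.1 *ᵥ v.vec)
    rw [Matrix.SpecialLinearGroup.coe_mul, Matrix.mulVec_mulVec]

theorem sl_smul_vec (g : SLn) (v : NZ n F) : (g • v).vec = g.1 *ᵥ v.vec := rfl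

theorem sl_pretransitive (hn : 3 ≤ n) : MulAction.IsPretransitive SLn (NZ n F) := by
  constructor
  intro x y
  obtain ⟨A, hA⟩ := exists_SL_single hn x.ne y.ne
  exact ⟨A, NZ.ext hA⟩

theorem gamma_pretransitive (hn : 3 ≤ n) : MulAction.IsPretransitive (SLn × Fˣ) (NZ n F) := by
  constructor
  intro x y
  obtain ⟨A, hA⟩ := exists_SL_single hn x.ne y.ne
  refine ⟨(A, 1), NZ.ext ?_⟩
  rw [gamma_smul_vec]
  simp [hA]

/-- Fixed points of `(g, c)`: nonzero vectors with `g v = c v`. -/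
noncomputable def fixedByGammaEquiv (g : SLn) (c : Fˣ) :
    MulAction.fixedBy (NZ n F) ((g, c) : SLn × Fˣ) ≃
      {v : Fin n → F // v ≠ 0 ∧ g.1 *ᵥ v = (c : F) • v} where
  toFun x := ⟨x.1.vec, x.1.ne, by
    have h := congrArg NZ.vec (MulAction.mem_fixedBy.mp x.2)
    rw [gamma_smul_vec] at h
    simp only at h
    rw [← h, smul_smul, Units.mul_inv, one_smul, h]⟩
  invFun v := ⟨⟨v.1, v.2.1⟩, by
    rw [MulAction.mem_fixedBy]
    apply NZ.ext
    rw [gamma_smul_vec]
    simp only
    rw [v.2.2, smul_smul, Units.inv_mul, one_smul]⟩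
  left_inv x := rfl
  right_inv v := rfl

noncomputable def fixedBySLEquiv (g : SLn) :
    MulAction.fixedBy (NZ n F) g ≃ {v : Fin n → F // v ≠ 0 ∧ g.1 *ᵥ v = v} where
  toFun x := ⟨x.1.vec, x.1.ne, congrArg NZ.vec (MulAction.mem_fixedBy.mp x.2)⟩
  invFun v := ⟨⟨v.1, v.2.1⟩, by
    rw [MulAction.mem_fixedBy]
    exact NZ.ext v.2.2⟩
  left_inv x := rfl
  right_inv v := rfl


theorem sl_smul_injective (g : SLn) {x y : Fin n → F} (h : g.1 *ᵥ x = g.1 *ᵥ y) : x = y := by
  have hinv : ∀ z : Fin n → F, (g⁻¹ : SLn).1 *ᵥ (g.1 *ᵥ z) = z := by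
    intro z
    rw [Matrix.mulVec_mulVec, ← Matrix.SpecialLinearGroup.coe_mul, inv_mul_cancel,
      Matrix.SpecialLinearGroup.coe_one, Matrix.one_mulVec]
  rw [← hinv x, h, hinv]

/-- The relative position of a pair of nonzero vectors: `some c` if the second is `c` times the
first, `none` if they are linearly independent. -/
noncomputable def relPos (p : NZ n F × NZ n F) : Option Fˣ := by
  classical
  exact if h : ∃ c : Fˣ, p.2.vec = (c : F) • p.1.vec then some (Classical.choose h) else none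

theorem relPos_eq_some_iff (p : NZ n F × NZ n F) (c : Fˣ) :
    relPos p = some c ↔ p.2.vec = (c : F) • p.1.vec := by
  classical
  unfold relPos
  constructor
  · intro h
    split_ifs at h with h'
    have := Classical.choose_spec h'
    rw [Option.some.inj h] at this
    exact this
  · intro h
    have h' : ∃ c : Fˣ, p.2.vec = (c : F) • p.1.vec := ⟨c, h⟩
    rw [dif_pos h']
    congr 1
    have h1 := Classical.choose_spec h'
    have h2 : ((c : F) - (Classical.choose h' : Fˣ)) • p.1.vec = 0 := by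
      rw [sub_smul, ← h1, ← h, sub_self]
    rcases smul_eq_zero.mp h2 with h3 | h3
    · exact (Units.ext (sub_eq_zero.mp h3)).symm
    · exact absurd h3 p.1.ne

theorem relPos_eq_none_iff (p : NZ n F × NZ n F) :
    relPos p = none ↔ ¬ ∃ c : Fˣ, p.2.vec = (c : F) • p.1.vec := by
  classical
  unfold relPos
  constructor
  · intro h h'
    rw [dif_pos h'] at h
    exact Option.some_ne_none _ h
  · intro h
    rw [dif_neg h]

theorem relPos_smul (g : SLn) (p : NZ n F × NZ n F) : relPos (g • p) = relPos p := by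
  apply Option.ext
  intro c
  rw [relPos_eq_some_iff, relPos_eq_some_iff]
  show g.1 *ᵥ p.2.vec = (c : F) • (g.1 *ᵥ p.1.vec) ↔ _
  rw [← Matrix.mulVec_smul]
  exact ⟨fun h => sl_smul_injective g h, fun h => by rw [h]⟩

theorem linearIndependent_of_relPos_none {p : NZ n F × NZ n F} (h : relPos p = none) :
    LinearIndependent F ![p.1.vec, p.2.vec] := by
  rw [relPos_eq_none_iff] at h
  rw [LinearIndependent.pair_iff' p.1.ne]
  intro a ha
  have ha0 : a ≠ 0 := by
    rintro rfl
    rw [zero_smul] at ha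
    exact p.2.ne ha.symm
  exact h ⟨Units.mk0 a ha0, ha.symm⟩

theorem relPos_eq_iff (hn : 3 ≤ n) (p p' : NZ n F × NZ n F) :
    relPos p = relPos p' ↔ ∃ g : SLn, g • p = p' := by
  constructor
  · intro h
    rcases hp : relPos p with _ | c
    · have hp' : relPos p' = none := by rw [← h, hp]
      obtain ⟨A, hA1, hA2⟩ := exists_SL_pair hn (linearIndependent_of_relPos_none hp)
        (linearIndependent_of_relPos_none hp')
      exact ⟨A, Prod.ext (NZ.ext hA1) (NZ.ext hA2)⟩
    · have hp' : relPos p' = some c := by rw [← h, hp]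
      rw [relPos_eq_some_iff] at hp hp'
      obtain ⟨A, hA⟩ := exists_SL_single hn p.1.ne p'.1.ne
      refine ⟨A, Prod.ext (NZ.ext hA) (NZ.ext ?_)⟩
      show A.1 *ᵥ p.2.vec = p'.2.vec
      rw [hp, hp', Matrix.mulVec_smul, hA]
  · rintro ⟨g, rfl⟩
    exact (relPos_smul g p).symm

theorem relPos_surjective (hn : 3 ≤ n) : Function.Surjective (relPos (n := n) (F := F)) := by
  have h0 : (Pi.single (⟨0, by omega⟩ : Fin n) (1 : F) : Fin n → F) ≠ 0 :=
    Pi.single_ne_zero_iff.2 one_ne_zero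
  have h1 : (Pi.single (⟨1, by omega⟩ : Fin n) (1 : F) : Fin n → F) ≠ 0 :=
    Pi.single_ne_zero_iff.2 one_ne_zero
  intro t
  rcases t with _ | c
  · refine ⟨(⟨_, h0⟩, ⟨_, h1⟩), ?_⟩
    rw [relPos_eq_none_iff]
    rintro ⟨c, hc⟩
    have := congrFun hc ⟨1, by omega⟩
    simp [Fin.ext_iff] at this
  · refine ⟨(⟨_, h0⟩, ⟨(c : F) • _, smul_ne_zero (Units.ne_zero c) h0⟩), ?_⟩
    rw [relPos_eq_some_iff]



variable [Fintype F] [DecidableEq F]

/-- The permutation character of `SL_n(F) × Fˣ` on the nonzero vectors. -/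
noncomputable def bigPi (n : ℕ) (F : Type*) [Field F] [Fintype F] [DecidableEq F] :
    Matrix.SpecialLinearGroup (Fin n) F × Fˣ → ℂ :=
  fun p => (Nat.card (MulAction.fixedBy (NZ n F) p) : ℂ)

theorem bigPi_apply (g : SLn) (c : Fˣ) :
    bigPi n F (g, c) = (Nat.card {v : Fin n → F // v ≠ 0 ∧ g.1 *ᵥ v = (c : F) • v} : ℂ) := by
  unfold bigPi
  rw [Nat.card_congr (fixedByGammaEquiv g c)]

theorem isCharacter_bigPi (hn : 3 ≤ n) : IsCharacter (SLn × Fˣ) (bigPi n F) := by
  have := gamma_pretransitive (F := F) hn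
  have x0 : NZ n F := ⟨Pi.single ⟨0, by omega⟩ 1, Pi.single_ne_zero_iff.2 one_ne_zero⟩
  have h := fixedPoints_eq_indFun (G := SLn × Fˣ) (NZ n F) x0
  unfold bigPi
  rw [h]
  exact isCharacter_indFun _ (isCharacter_of_irr isIrrCharacter_one)

/-- The `γ`-component of the permutation character on nonzero vectors. -/
noncomputable def piG (n : ℕ) {F : Type*} [Field F] [Fintype F] [DecidableEq F] (γ : MulChar F ℂ) :
    Matrix.SpecialLinearGroup (Fin n) F → ℂ := fun g =>
  ((Fintype.card F : ℂ) - 1)⁻¹ * ∑ c : Fˣ, γ (c : F) * bigPi n F (g, c)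

theorem isClassFunction_piG (hn : 3 ≤ n) (γ : MulChar F ℂ) : IsClassFunction SLn (piG n γ) := by
  intro g k
  unfold piG
  congr 1
  refine Finset.sum_congr rfl fun c _ => ?_
  congr 1
  have h := isClassFunction_of_isCharacter (isCharacter_bigPi (F := F) hn) (g, c) (k, 1)
  rw [← h]
  congr 1
  ext <;> simp


omit [DecidableEq F] in
theorem card_units_cast : ((Nat.card Fˣ : ℕ) : ℂ) = (Fintype.card F : ℂ) - 1 := by
  rw [Nat.card_units, Nat.card_eq_fintype_card]
  have : 1 ≤ Fintype.card F := Fintype.card_pos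
  push_cast [this]
  ring

omit [DecidableEq F] in
theorem card_sub_one_ne_zero : ((Fintype.card F : ℂ) - 1) ≠ 0 := by
  rw [← card_units_cast]
  exact_mod_cast (Nat.card_pos (α := Fˣ)).ne'

theorem classInner_piG (γ : MulChar F ℂ) (χ : SLn → ℂ) :
    classInner (piG n γ) χ =
      classInner (bigPi n F) (fun p : SLn × Fˣ => χ p.1 * γ⁻¹ (p.2 : F)) := by
  unfold classInner piG
  rw [Fintype.sum_prod_type, Nat.card_prod]
  push_cast
  rw [card_units_cast, _root_.mul_inv_rev,
    mul_comm (((Fintype.card F : ℂ) - 1)⁻¹) ((Nat.card SLn : ℂ))⁻¹, mul_assoc]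
  congr 1
  rw [Finset.mul_sum]
  refine Finset.sum_congr rfl fun g _ => ?_
  rw [mul_assoc, Finset.sum_mul]
  congr 1
  refine Finset.sum_congr rfl fun c _ => ?_
  have hc : conj (γ⁻¹ (c : F)) = γ (c : F) := by
    have := MulChar.star_apply' γ⁻¹ (c : F)
    rw [inv_inv] at this
    exact this
  rw [map_mul, hc]
  ring

theorem isCharacter_piG (hn : 3 ≤ n) (γ : MulChar F ℂ) : IsCharacter SLn (piG n γ) := by
  refine isCharacter_of_classInner_nat (isClassFunction_piG hn γ) fun χ => ?_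
  rw [classInner_piG]
  refine classInner_char_char_nat (isCharacter_bigPi hn) ?_
  have h1 : IsCharacter (SLn × Fˣ) ((χ : SLn → ℂ) ∘ (MonoidHom.fst SLn Fˣ)) :=
    isCharacter_comp _ (isCharacter_of_irr χ.2)
  have h2 : IsCharacter (SLn × Fˣ)
      (fun p => (((γ⁻¹).toUnitHom.comp (MonoidHom.snd SLn Fˣ)) p : ℂ)) :=
    isCharacter_of_irr (isIrrCharacter_of_hom _)
  exact isCharacter_mul h1 h2



/-- The permutation character of `SL_n(F)` on the nonzero vectors. -/
noncomputable def piV (n : ℕ) (F : Type*) [Field F] :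
    Matrix.SpecialLinearGroup (Fin n) F → ℂ :=
  fun g => (Nat.card {v : Fin n → F // v ≠ 0 ∧ g.1 *ᵥ v = v} : ℂ)

omit [Fintype F] [DecidableEq F] in
theorem piV_eq_fixedBy (g : SLn) :
    piV n F g = (Nat.card (MulAction.fixedBy (NZ n F) g) : ℂ) := by
  unfold piV
  rw [Nat.card_congr (fixedBySLEquiv g)]

theorem bigPi_one_right (g : SLn) : bigPi n F (g, 1) = piV n F g := by
  rw [bigPi_apply]
  unfold piV
  simp only [Units.val_one, one_smul]

theorem card_orbits_pairs (hn : 3 ≤ n) :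
    Nat.card (Quotient (MulAction.orbitRel SLn (NZ n F × NZ n F))) = Fintype.card F := by
  rw [card_orbits_of_classifier (G := SLn) relPos (relPos_surjective hn) (relPos_eq_iff hn),
    Fintype.card_option, ← Nat.card_eq_fintype_card, Nat.card_units, Nat.card_eq_fintype_card]
  have : 1 ≤ Fintype.card F := Fintype.card_pos
  omega

theorem classInner_piV (hn : 3 ≤ n) :
    classInner (piV n F) (piV n F) = (Fintype.card F : ℂ) := by
  classical
  have : ∀ g : SLn, Fintype (MulAction.fixedBy (NZ n F × NZ n F) g) := fun g => Fintype.ofFinite _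
  have : Fintype (Quotient (MulAction.orbitRel SLn (NZ n F × NZ n F))) := Fintype.ofFinite _
  have hB := MulAction.sum_card_fixedBy_eq_card_orbits_mul_card_group SLn (NZ n F × NZ n F)
  rw [← Nat.card_eq_fintype_card (α := Quotient _), card_orbits_pairs hn] at hB
  have hg : ∀ g : SLn, Fintype.card (MulAction.fixedBy (NZ n F × NZ n F) g) =
      Nat.card (MulAction.fixedBy (NZ n F) g) * Nat.card (MulAction.fixedBy (NZ n F) g) := by
    intro g
    rw [← Nat.card_eq_fintype_card, Nat.card_congr (fixedByProdEquiv g), Nat.card_prod]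
  rw [Finset.sum_congr rfl fun g _ => hg g] at hB
  unfold classInner
  have h1 : ∀ g : SLn, piV n F g * conj (piV n F g) =
      ((Nat.card (MulAction.fixedBy (NZ n F) g) * Nat.card (MulAction.fixedBy (NZ n F) g) : ℕ) : ℂ) := by
    intro g
    rw [piV_eq_fixedBy, Complex.conj_natCast]
    push_cast
    ring
  rw [Finset.sum_congr rfl fun g _ => h1 g, ← Nat.cast_sum, hB, Nat.card_eq_fintype_card]
  have hG : (Fintype.card SLn : ℂ) ≠ 0 := by
    exact_mod_cast Fintype.card_ne_zero
  push_cast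
  field_simp


theorem sum_mulChar_units [Fintype (MulChar F ℂ)] (c : Fˣ) :
    ∑ γ : MulChar F ℂ, γ (c : F) = if c = 1 then (Fintype.card F : ℂ) - 1 else 0 := by
  split_ifs with h
  · subst h
    simp only [Units.val_one, map_one, Finset.sum_const, Finset.card_univ, nsmul_eq_mul, mul_one]
    rw [← Nat.card_eq_fintype_card, MulChar.card_eq_card_units_of_hasEnoughRootsOfUnity,
      card_units_cast]
  · obtain ⟨χ, hχ⟩ := MulChar.exists_apply_ne_one_of_hasEnoughRootsOfUnity F ℂ
      (a := (c : F)) (fun h' => h (Units.ext h'))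
    refine eq_zero_of_mul_eq_self_left hχ ?_
    simp only [Finset.mul_sum, ← MulChar.mul_apply]
    exact Fintype.sum_bijective _ (Group.mulLeft_bijective χ) _ _ fun χ' ↦ rfl

theorem sum_piG [Fintype (MulChar F ℂ)] (g : SLn) :
    ∑ γ : MulChar F ℂ, piG n γ g = piV n F g := by
  unfold piG
  rw [← Finset.mul_sum, Finset.sum_comm]
  simp_rw [← Finset.sum_mul, sum_mulChar_units]
  rw [Finset.sum_eq_single (1 : Fˣ)]
  · rw [if_pos rfl, bigPi_one_right, ← mul_assoc, inv_mul_cancel₀ card_sub_one_ne_zero, one_mul]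
  · intro c _ hc
    rw [if_neg hc, zero_mul]
  · intro h
    exact absurd (Finset.mem_univ _) h

theorem card_NZ : Fintype.card (NZ n F) = Fintype.card F ^ n - 1 := by
  rw [Fintype.card_congr (nzEquiv n F),
    Fintype.card_subtype_compl (fun v : Fin n → F => v = 0)]
  simp

theorem bigPi_one_left (c : Fˣ) :
    bigPi n F (1, c) = if c = 1 then (Fintype.card (NZ n F) : ℂ) else 0 := by
  split_ifs with h
  · subst h
    unfold bigPi
    rw [show ((1 : SLn), (1 : Fˣ)) = (1 : SLn × Fˣ) from rfl, MulAction.fixedBy_one_eq_univ,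
      Nat.card_congr (Equiv.Set.univ _), Nat.card_eq_fintype_card]
  · rw [bigPi_apply]
    have : IsEmpty {v : Fin n → F // v ≠ 0 ∧ (1 : SLn).1 *ᵥ v = (c : F) • v} := by
      constructor
      rintro ⟨v, hv, hv'⟩
      rw [Matrix.SpecialLinearGroup.coe_one, Matrix.one_mulVec] at hv'
      have h2 : ((1 : F) - (c : F)) • v = 0 := by
        rw [sub_smul, one_smul, ← hv', sub_self]
      rcases smul_eq_zero.mp h2 with h3 | h3
      · exact h (Units.ext (sub_eq_zero.mp h3).symm)
      · exact hv h3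
    rw [Nat.card_of_isEmpty, Nat.cast_zero]

theorem piG_one (γ : MulChar F ℂ) :
    piG n γ 1 = ((Fintype.card F : ℂ) - 1)⁻¹ * (Fintype.card (NZ n F) : ℂ) := by
  unfold piG
  congr 1
  rw [Finset.sum_eq_single (1 : Fˣ)]
  · rw [bigPi_one_left, if_pos rfl, Units.val_one, map_one, one_mul]
  · intro c _ hc
    rw [bigPi_one_left, if_neg hc, mul_zero]
  · intro h
    exact absurd (Finset.mem_univ _) h


theorem card_NZ_pos (hn : 3 ≤ n) : 0 < Fintype.card (NZ n F) := by
  have x0 : NZ n F := ⟨Pi.single ⟨0, by omega⟩ 1, Pi.single_ne_zero_iff.2 one_ne_zero⟩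
  exact Fintype.card_pos_iff.mpr ⟨x0⟩

theorem classInner_piG_one_ne_zero (hn : 3 ≤ n) :
    classInner (piG n (1 : MulChar F ℂ)) (1 : SLn → ℂ) ≠ 0 := by
  rw [classInner_piG]
  unfold classInner
  have h1 : ∀ p : SLn × Fˣ, bigPi n F p *
      conj ((1 : SLn → ℂ) p.1 * (1 : MulChar F ℂ)⁻¹ (p.2 : F)) =
        ((Nat.card (MulAction.fixedBy (NZ n F) p) : ℕ) : ℂ) := by
    intro p
    rw [inv_one, MulChar.one_apply_coe, Pi.one_apply, mul_one, map_one, mul_one]
    rfl
  rw [Finset.sum_congr rfl fun p _ => h1 p, ← Nat.cast_sum]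
  apply mul_ne_zero
  · apply inv_ne_zero
    exact_mod_cast (Nat.card_pos (α := SLn × Fˣ)).ne'
  · have h2 : Nat.card (MulAction.fixedBy (NZ n F) (1 : SLn × Fˣ)) ≤
        ∑ p : SLn × Fˣ, Nat.card (MulAction.fixedBy (NZ n F) p) :=
      Finset.single_le_sum (f := fun p : SLn × Fˣ => Nat.card (MulAction.fixedBy (NZ n F) p))
        (fun _ _ => Nat.zero_le _) (Finset.mem_univ _)
    have h3 : Nat.card (MulAction.fixedBy (NZ n F) (1 : SLn × Fˣ)) = Fintype.card (NZ n F) := by
      rw [MulAction.fixedBy_one_eq_univ, Nat.card_congr (Equiv.Set.univ _),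
        Nat.card_eq_fintype_card]
    have h4 := card_NZ_pos (F := F) hn
    have : 0 < ∑ p : SLn × Fˣ, Nat.card (MulAction.fixedBy (NZ n F) p) := by omega
    exact_mod_cast this.ne'

omit [DecidableEq F] in
theorem card_pow_ne (hn : 3 ≤ n) : Fintype.card F ^ n - 1 ≠ Fintype.card F - 1 := by
  have h2 : 2 ≤ Fintype.card F := Fintype.one_lt_card
  have h3 : Fintype.card F ^ 1 < Fintype.card F ^ n :=
    Nat.pow_lt_pow_right (by omega) (by omega)
  rw [pow_one] at h3
  omega

/-- The permutation character of `SL_n(F)` (`n ≥ 3`) on nonzero vectors is `1` plus `q - 1` pairwise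
distinct irreducible characters. -/
theorem main (hn : 3 ≤ n) :
    ∃ χ : Fin (Fintype.card F - 1) → (SLn → ℂ),
      (∀ i, IsIrrCharacter SLn (χ i)) ∧ Function.Injective χ ∧
      ∀ g : SLn, piV n F g = 1 + ∑ i, χ i g := by
  classical
  have : Fintype (MulChar F ℂ) := Fintype.ofFinite _
  have hcardM : Fintype.card (MulChar F ℂ) = Fintype.card F - 1 := by
    rw [← Nat.card_eq_fintype_card, MulChar.card_eq_card_units_of_hasEnoughRootsOfUnity,
      Nat.card_units, Nat.card_eq_fintype_card]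
  have hq : 1 ≤ Fintype.card F := Fintype.card_pos
  let ψ : MulChar F ℂ → (SLn → ℂ) := fun γ => piG n γ - (if γ = 1 then 1 else 0)
  let ψ' : Option (MulChar F ℂ) → (SLn → ℂ) := fun o => o.elim 1 ψ
  have hψ1 : ψ 1 = piG n 1 - 1 := by
    show piG n 1 - (if (1 : MulChar F ℂ) = 1 then 1 else 0) = _
    rw [if_pos rfl]
  have hψγ : ∀ γ : MulChar F ℂ, γ ≠ 1 → ψ γ = piG n γ := by
    intro γ hγ
    show piG n γ - (if γ = 1 then 1 else 0) = _
    rw [if_neg hγ, sub_zero]
  have hψchar : ∀ γ, IsCharacter SLn (ψ γ) := by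
    intro γ
    by_cases hγ : γ = 1
    · subst hγ
      rw [hψ1]
      exact isCharacter_sub_irr (isCharacter_piG hn 1) isIrrCharacter_one
        (classInner_piG_one_ne_zero hn)
    · rw [hψγ γ hγ]
      exact isCharacter_piG hn γ
  have hψ'char : ∀ o, IsCharacter SLn (ψ' o) := by
    intro o
    rcases o with _ | γ
    · exact isCharacter_of_irr isIrrCharacter_one
    · exact hψchar γ
  have hNZ : (Fintype.card (NZ n F) : ℂ) = (Fintype.card F : ℂ) ^ n - 1 := by
    rw [card_NZ]
    have : 1 ≤ Fintype.card F ^ n := Nat.one_le_pow _ _ (by omega)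
    push_cast [this]
    ring
  have hψne : ∀ γ, ψ γ 1 ≠ 0 := by
    intro γ
    by_cases hγ : γ = 1
    · subst hγ
      rw [hψ1, Pi.sub_apply, Pi.one_apply, piG_one]
      intro h
      have h1 : (Fintype.card (NZ n F) : ℂ) = (Fintype.card F : ℂ) - 1 := by
        have := sub_eq_zero.mp h
        field_simp [card_sub_one_ne_zero] at this
        exact this
      rw [card_NZ] at h1
      have h2 : ((Fintype.card F ^ n - 1 : ℕ) : ℂ) = ((Fintype.card F - 1 : ℕ) : ℂ) := by
        rw [h1]; push_cast [hq]; ring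
      exact card_pow_ne hn (by exact_mod_cast h2)
    · rw [hψγ γ hγ, piG_one]
      apply mul_ne_zero (inv_ne_zero card_sub_one_ne_zero)
      exact_mod_cast (card_NZ_pos (F := F) hn).ne'
  have hψ'ne : ∀ o, ψ' o 1 ≠ 0 := by
    intro o
    rcases o with _ | γ
    · simp [ψ']
    · exact hψne γ
  have hsumψ : ∀ g, ∑ γ, ψ γ g = piV n F g - 1 := by
    intro g
    simp only [ψ, Pi.sub_apply, Finset.sum_sub_distrib, sum_piG]
    congr 1
    rw [Finset.sum_eq_single (1 : MulChar F ℂ)]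
    · rw [if_pos rfl, Pi.one_apply]
    · intro γ _ hγ
      rw [if_neg hγ]; rfl
    · intro h
      exact absurd (Finset.mem_univ _) h
  have hsumψ' : ∑ o, ψ' o = piV n F := by
    funext g
    rw [Fintype.sum_option, Pi.add_apply, Finset.sum_apply]
    simp only [ψ', Option.elim_none, Option.elim_some, Pi.one_apply]
    rw [hsumψ g]
    ring
  have hnorm : classInner (∑ o, ψ' o) (∑ o, ψ' o) = (Fintype.card (Option (MulChar F ℂ)) : ℂ) := by
    rw [hsumψ', classInner_piV hn, Fintype.card_option, hcardM]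
    congr 1
    omega
  obtain ⟨hirr, horth⟩ := irr_of_sum_norm ψ' hψ'char hψ'ne hnorm
  let e : Fin (Fintype.card F - 1) ≃ MulChar F ℂ := (Fintype.equivFinOfCardEq hcardM).symm
  refine ⟨fun i => ψ (e i), fun i => hirr (some (e i)), ?_, ?_⟩
  · intro i j hij
    by_contra hne
    have h1 : (some (e i) : Option (MulChar F ℂ)) ≠ some (e j) := by
      intro h
      exact hne (e.injective (Option.some.inj h))
    have h2 := horth _ _ h1
    have h3 : classInner (ψ (e i)) (ψ (e j)) = 1 := by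
      rw [← show ψ (e i) = ψ (e j) from hij]
      exact irr_classInner_self (hirr (some (e i)))
    rw [show ψ' (some (e i)) = ψ (e i) from rfl, show ψ' (some (e j)) = ψ (e j) from rfl, h3] at h2
    exact one_ne_zero h2
  · intro g
    rw [Equiv.sum_comp e (fun γ => ψ γ g), hsumψ g]
    ring

end Cfsg.Agent.Lib.H12.SLPerm
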