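import Mathlib
import Cfsg.Agent.Lib.H12.SLMinDefs
import Cfsg.Agent.Lib.H12.SLMinB
import Cfsg.Agent.Lib.H12.SLMinCNT
import Cfsg.Agent.Lib.H1.SLMinFIX
import Cfsg.Agent.Lib.H11.SLMinCONJ
import Cfsg.Agent.Lib.H15.SLMinIRRB
import Cfsg.Agent.Lib.H18.SLMinTRANSV
import Cfsg.Agent.Lib.H19.SLMinPERM52
import Cfsg.Agent.Lib.H20.SLMinINT
import Cfsg.Agent.Lib.H21.SLMinCOMM1
import Cfsg.Agent.Lib.H22.SLMinRed
import Cfsg.Agent.Lib.H25.SLMinExist
import Cfsg.Agent.Lib.H25.SLMinGen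
import Cfsg.Agent.Lib.H26.SLMinArithBase
import Cfsg.Agent.Lib.H27.SLMinArithGen
import Cfsg.Agent.Lib.H3.SLMinComm04
import Cfsg.Agent.Lib.H3.SLMinComm0Ge5
import Cfsg.Agent.Lib.H4.SLMinDUAL
import Cfsg.Agent.Lib.H9.SLMinComm03

/-!
# S2332: the pieces of the farm-out, collected under one namespace (helper12)

DUAL helper4, FIX helper1, CONJ helper11, COMM0-GE5 and COMM0-4 helper3, COMM0-3 helper9, COMM1 helper21, INT helper20,
RED helper22, ARITH-GEN helper27, ARITH-BASE helper26, EXIST and GEN helper25, IRRB helper15, TRANSV helper18, PERM52 helper19,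
CNT helper12 (backup of helper5's).
-/

set_option autoImplicit false

namespace Cfsg.Agent.Lib.H12.SLMin.Pieces

open Matrix Module Cfsg.Agent.Lib.H12.SLMin Cfsg.Agent.Lib.H4

alias exists_addChar_ne_one := Cfsg.Agent.Lib.H4.SLMin.exists_addChar_ne_one

alias lam_zero := Cfsg.Agent.Lib.H4.SLMin.lam_zero

alias lam_injective := Cfsg.Agent.Lib.H4.SLMin.lam_injective

alias exists_lam := Cfsg.Agent.Lib.H4.SLMin.exists_lam

alias trans_SL_vec := Cfsg.Agent.Lib.H18.SLMin.trans_SL_vec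

alias trans_GL_vec := Cfsg.Agent.Lib.H18.SLMin.trans_GL_vec

alias card_fixed_vec := Cfsg.Agent.Lib.H1.SLMin.card_fixed_vec

alias conj0 := Cfsg.Agent.Lib.H11.SLMin.conj0

alias comm0_ge5 := Cfsg.Agent.Lib.H3.SLMin.comm0_ge5

alias comm0_4 := Cfsg.Agent.Lib.H3.SLMin.comm0_4

alias comm0_3 := Cfsg.Agent.Lib.H9.SLMin.comm0_3

alias comm1 := Cfsg.Agent.Lib.H21.SLMin.comm1

alias gen_SL := Cfsg.Agent.Lib.H25.SLMin.gen_SL

alias int_normal := Cfsg.Agent.Lib.H20.SLMin.int_normal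

alias card_transv := Cfsg.Agent.Lib.H12.SLMin.CNT.card_transv


alias minDeg_of_irreducible := Cfsg.Agent.Lib.H22.SLMin.minDeg_of_irreducible

alias arith_gen := Cfsg.Agent.Lib.H27.SLMin.arith_gen

alias arith_base := Cfsg.Agent.Lib.H26.SLMin.arith_base

alias exists_irr_degree := Cfsg.Agent.Lib.H25.SLMin.exists_irr_degree

alias fixed_vector_dim := Cfsg.Agent.Lib.H19.SLMin.fixed_vector_dim

alias irreducible_of_rank_one := Cfsg.Agent.Lib.H15.SLMin.irreducible_of_rank_one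

end Cfsg.Agent.Lib.H12.SLMin.Pieces
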