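import Mathlib
import Cfsg.Agent.Lib.H12.SLMinPieces

/-!
# S2332: from vectors to characters; the level-0 and level-1 packages (helper12)
-/

set_option autoImplicit false
set_option linter.unusedSectionVars false

namespace Cfsg.Agent.Lib.H12.SLMin

open scoped BigOperators
open Matrix Module Cfsg.Agent.Lib.H4 Cfsg.Agent.Lib.H12.SLMin.Pieces

variable {F : Type*} [Field F] [Fintype F]

/-! ## bridging -/

theorem lam_eq_one_iff {m : ℕ} {χ₀ : AddChar F ℂ} (hχ₀ : χ₀ ≠ 1) (v : Fin m → F) :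
    lam χ₀ v = 1 ↔ v = 0 := by
  constructor
  · intro h
    rw [← lam_zero χ₀] at h
    exact lam_injective hχ₀ h
  · rintro rfl
    exact lam_zero χ₀

/-- character form of the transitivity of `SL_m` -/
theorem trans_SL {m : ℕ} (hm : 2 ≤ m) (ψ ψ' : AddChar (Fin m → F) ℂ) (hψ : ψ ≠ 1) (hψ' : ψ' ≠ 1) :
    ∃ (g : Matrix.SpecialLinearGroup (Fin (m + 1)) F) (a : (Fin m → F) ≃+ (Fin m → F)),
      (∀ X, g * uEl X * g⁻¹ = uEl (a X)) ∧
      ψ' = ψ.compAddMonoidHom (a.symm : (Fin m → F) →+ (Fin m → F)) := by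
  obtain ⟨χ₀, hχ₀⟩ := exists_addChar_ne_one (F := F)
  obtain ⟨v, rfl⟩ := exists_lam hχ₀ ψ
  obtain ⟨v', rfl⟩ := exists_lam hχ₀ ψ'
  have hv : v ≠ 0 := fun h => hψ ((lam_eq_one_iff hχ₀ v).2 h)
  have hv' : v' ≠ 0 := fun h => hψ' ((lam_eq_one_iff hχ₀ v').2 h)
  obtain ⟨g₀, hdet, hg₀⟩ := trans_SL_vec hm hv hv'
  refine ⟨lev g₀, actS (Matrix.GeneralLinearGroup.det g₀)⁻¹ g₀, lev_conj g₀, ?_⟩
  rw [lam_comp_actS, inv_inv, hg₀]
  have : ((Matrix.GeneralLinearGroup.det g₀ : Fˣ) : F) = 1 := hdet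
  rw [this, one_smul]

/-- character form of the transitivity of `GL_k` -/
theorem trans_GL {k : ℕ} (ψ ψ' : AddChar (Fin k → F) ℂ) (hψ : ψ ≠ 1) (hψ' : ψ' ≠ 1) :
    ∃ (g : GL (Fin (k + 1)) F) (a : (Fin k → F) ≃+ (Fin k → F)),
      (∀ X, g * uG X * g⁻¹ = uG (a X)) ∧
      ψ' = ψ.compAddMonoidHom (a.symm : (Fin k → F) →+ (Fin k → F)) := by
  obtain ⟨χ₀, hχ₀⟩ := exists_addChar_ne_one (F := F)
  obtain ⟨v, rfl⟩ := exists_lam hχ₀ ψ
  obtain ⟨v', rfl⟩ := exists_lam hχ₀ ψ'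
  have hv : v ≠ 0 := fun h => hψ ((lam_eq_one_iff hχ₀ v).2 h)
  have hv' : v' ≠ 0 := fun h => hψ' ((lam_eq_one_iff hχ₀ v').2 h)
  obtain ⟨g₀, hg₀⟩ := trans_GL_vec hv hv'
  refine ⟨levG1 g₀, actS 1 g₀, levG1_conj g₀, ?_⟩
  rw [lam_comp_actS, inv_one, Units.val_one, one_smul, hg₀]

section Rep

variable {V : Type*} [AddCommGroup V] [Module ℂ V] [FiniteDimensional ℂ V]

theorem uEl_add' {m : ℕ} : ∀ X X' : Fin m → F, uEl (X + X') = uEl X * uEl X' := uEl_add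

theorem uG_add' {k : ℕ} : ∀ X X' : Fin k → F, uG (X + X') = uG X * uG X' := uG_add

/-- all non-trivial characters of the radical of `SL` have the same rank -/
theorem rk_eq_SL {m : ℕ} (hm : 2 ≤ m)
    (ρ : Matrix.SpecialLinearGroup (Fin (m + 1)) F →* Module.End ℂ V)
    (ψ ψ' : AddChar (Fin m → F) ℂ) (hψ : ψ ≠ 1) (hψ' : ψ' ≠ 1) :
    rk ρ uEl ψ' = rk ρ uEl ψ := by
  obtain ⟨g, a, hg, rfl⟩ := trans_SL hm ψ ψ' hψ hψ'
  exact RepChar.finrank_range_conj ρ uEl uEl_add' ψ g a hg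

/-- all non-trivial characters of the radical of `GL` have the same rank -/
theorem rk_eq_GL {k : ℕ} (σ : GL (Fin (k + 1)) F →* Module.End ℂ V)
    (ψ ψ' : AddChar (Fin k → F) ℂ) (hψ : ψ ≠ 1) (hψ' : ψ' ≠ 1) :
    rk σ uG ψ' = rk σ uG ψ := by
  obtain ⟨g, a, hg, rfl⟩ := trans_GL ψ ψ' hψ hψ'
  exact RepChar.finrank_range_conj σ uG uG_add' ψ g a hg

end Rep

/-- there is a non-trivial character of `Fin (k + 1) → F` -/
theorem exists_char_ne_one (k : ℕ) : ∃ ψ : AddChar (Fin (k + 1) → F) ℂ, ψ ≠ 1 := by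
  obtain ⟨χ₀, hχ₀⟩ := exists_addChar_ne_one (F := F)
  refine ⟨lam χ₀ (Pi.single 0 1), fun h => ?_⟩
  have := (lam_eq_one_iff hχ₀ _).1 h
  have h1 := congrFun this 0
  simp at h1

/-- the characters fixed by the transvection `uG (s e₀)` -/
theorem card_fixed_char {j : ℕ} {s : F} (hs : s ≠ 0) [DecidableEq (AddChar (Fin (j + 2) → F) ℂ)] :
    (Finset.univ.filter (fun ψ : AddChar (Fin (j + 2) → F) ℂ => ψ ≠ 1 ∧
      ψ.compAddMonoidHom ((actS 1 (uG (Pi.single (0 : Fin (j + 1)) s))).symm :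
        (Fin (j + 2) → F) →+ (Fin (j + 2) → F)) = ψ)).card + 1 =
      Fintype.card (Fin (j + 1) → F) := by
  classical
  obtain ⟨χ₀, hχ₀⟩ := exists_addChar_ne_one (F := F)
  rw [← card_fixed_vec (j := j) hs]
  congr 1
  rw [← Fintype.card_subtype]
  refine (Fintype.card_congr (Equiv.ofBijective
    (fun v : {v : Fin (j + 2) → F // v ≠ 0 ∧
      ((uG (Pi.single (0 : Fin (j + 1)) s) : GL (Fin (j + 2)) F) :
        Matrix (Fin (j + 2)) (Fin (j + 2)) F) *ᵥ v = v} =>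
      (⟨lam χ₀ v.1, ?_⟩ : {ψ : AddChar (Fin (j + 2) → F) ℂ // ψ ≠ 1 ∧
        ψ.compAddMonoidHom ((actS 1 (uG (Pi.single (0 : Fin (j + 1)) s))).symm :
          (Fin (j + 2) → F) →+ (Fin (j + 2) → F)) = ψ})) ⟨?_, ?_⟩)).symm
  · refine ⟨fun h => v.2.1 ((lam_eq_one_iff hχ₀ _).1 h), ?_⟩
    rw [lam_comp_actS, inv_one, Units.val_one, one_smul, v.2.2]
  · intro v v' h
    have := congrArg Subtype.val h
    exact Subtype.ext (lam_injective hχ₀ this)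
  · rintro ⟨ψ, hψ1, hψ2⟩
    obtain ⟨v, rfl⟩ := exists_lam hχ₀ ψ
    rw [lam_comp_actS, inv_one, Units.val_one, one_smul] at hψ2
    exact ⟨⟨v, fun h => hψ1 ((lam_eq_one_iff hχ₀ v).2 h), lam_injective hχ₀ hψ2⟩, rfl⟩


/-! ## the two packages -/

section Packages

variable {V : Type*} [AddCommGroup V] [Module ℂ V] [FiniteDimensional ℂ V]

/-- the condition under which the transvection of the Levi complement is a commutator in the stabilisers -/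
def TCond (j q : ℕ) : Prop := 2 ≤ j ∨ (j = 1 ∧ 4 ≤ q) ∨ (j = 0 ∧ q ≠ 2 ∧ q ≠ 4)

theorem comm0 {j : ℕ} (hcond : TCond j (Fintype.card F)) (s : F) (v : Fin (j + 2) → F)
    (hfix : ((uG (Pi.single (0 : Fin (j + 1)) s) : GL (Fin (j + 2)) F) :
      Matrix (Fin (j + 2)) (Fin (j + 2)) F) *ᵥ v = v) :
    ∃ h₁ h₂ : GL (Fin (j + 2)) F,
      (h₁ : Matrix (Fin (j + 2)) (Fin (j + 2)) F).det • ((h₁ : Matrix (Fin (j + 2)) (Fin (j + 2)) F) *ᵥ v) = v ∧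
      (h₂ : Matrix (Fin (j + 2)) (Fin (j + 2)) F).det • ((h₂ : Matrix (Fin (j + 2)) (Fin (j + 2)) F) *ᵥ v) = v ∧
      uG (Pi.single (0 : Fin (j + 1)) s) = h₁ * h₂ * h₁⁻¹ * h₂⁻¹ := by
  rcases hcond with h | ⟨rfl, h⟩ | ⟨rfl, h2, h4⟩
  · exact comm0_ge5 h s v hfix
  · exact comm0_4 h s v hfix
  · exact comm0_3 h2 h4 s v hfix

/-- `ρ (lev γ)` commutes with the projection onto the fixed space of the radical -/
theorem hι0 {m : ℕ} (ρ : Matrix.SpecialLinearGroup (Fin (m + 1)) F →* Module.End ℂ V) (γ : GL (Fin m) F) :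
    ρ (lev γ) * RepChar.proj ρ uEl 1 = RepChar.proj ρ uEl 1 * ρ (lev γ) :=
  commute_proj_one ρ uEl (lev γ) _ (lev_conj γ)

/-- `σ (levG1 γ)` commutes with the projection onto the fixed space of the radical -/
theorem hι1 {k : ℕ} (σ : GL (Fin (k + 1)) F →* Module.End ℂ V) (γ : GL (Fin k) F) :
    σ (levG1 γ) * RepChar.proj σ uG 1 = RepChar.proj σ uG 1 * σ (levG1 γ) :=
  commute_proj_one σ uG (levG1 γ) _ (levG1_conj γ)

/-- the representation of `GL_m` on the fixed space of the radical of `SL_{m+1}` -/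
noncomputable def rho0 {m : ℕ} (ρ : Matrix.SpecialLinearGroup (Fin (m + 1)) F →* Module.End ℂ V) :
    GL (Fin m) F →* Module.End ℂ (LinearMap.range (RepChar.proj ρ uEl 1)) :=
  resRep ρ (RepChar.proj ρ uEl 1) lev (hι0 ρ)

/-- the representation of `GL_k` on the fixed space of the radical of `GL_{k+1}` -/
noncomputable def sig0 {k : ℕ} (σ : GL (Fin (k + 1)) F →* Module.End ℂ V) :
    GL (Fin k) F →* Module.End ℂ (LinearMap.range (RepChar.proj σ uG 1)) :=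
  resRep σ (RepChar.proj σ uG 1) levG1 (hι1 σ)

theorem det_uG_unit {k : ℕ} (Y : Fin k → F) : Matrix.GeneralLinearGroup.det (uG Y) = 1 := by
  apply Units.ext
  exact det_uG Y

/-- the transvection of the Levi complement acts trivially on the eigenlines it fixes (level 0) -/
theorem htriv0 {j : ℕ} (hcond : TCond j (Fintype.card F))
    (ρ : Matrix.SpecialLinearGroup (Fin (j + 3)) F →* Module.End ℂ V)
    (hrk : ∀ ψ : AddChar (Fin (j + 2) → F) ℂ, ψ ≠ 1 → rk ρ uEl ψ = 1) (s : F)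
    (ψ : AddChar (Fin (j + 2) → F) ℂ) (hψ : ψ ≠ 1)
    (hfix : ψ.compAddMonoidHom ((actS 1 (uG (Pi.single (0 : Fin (j + 1)) s))).symm :
        (Fin (j + 2) → F) →+ (Fin (j + 2) → F)) = ψ) :
    ρ (lev (uG (Pi.single (0 : Fin (j + 1)) s))) * RepChar.proj ρ uEl ψ = RepChar.proj ρ uEl ψ := by
  obtain ⟨χ₀, hχ₀⟩ := exists_addChar_ne_one (F := F)
  obtain ⟨v, rfl⟩ := exists_lam hχ₀ ψ
  rw [lam_comp_actS, inv_one, Units.val_one, one_smul] at hfix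
  obtain ⟨h₁, h₂, hh₁, hh₂, hcomm⟩ := comm0 hcond s v (lam_injective hχ₀ hfix)
  have hfixed : ∀ h : GL (Fin (j + 2)) F,
      (h : Matrix (Fin (j + 2)) (Fin (j + 2)) F).det • ((h : Matrix (Fin (j + 2)) (Fin (j + 2)) F) *ᵥ v) = v →
      ρ (lev h) * RepChar.proj ρ uEl (lam χ₀ v) = RepChar.proj ρ uEl (lam χ₀ v) * ρ (lev h) := by
    intro h hh
    refine commute_proj_of_fixed ρ uEl (lam χ₀ v) (lev h) _ (lev_conj h) ?_
    rw [lam_comp_actS, inv_inv]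
    congr 1
  have := commutator_mul_proj ρ (RepChar.proj ρ uEl (lam χ₀ v))
    (RepChar.proj_mul_proj ρ uEl uEl_add' _) (hrk _ hψ) (lev h₁) (lev h₂) (hfixed h₁ hh₁) (hfixed h₂ hh₂)
  have hlev : lev (h₁ * h₂ * h₁⁻¹ * h₂⁻¹) = lev h₁ * lev h₂ * (lev h₁)⁻¹ * (lev h₂)⁻¹ := by
    simp only [map_mul, map_inv]
  rw [hcomm, hlev]
  exact this

/-- the transvection of the Levi complement acts trivially on the eigenlines it fixes (level 1) -/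
theorem htriv1 {j : ℕ} (hq : 3 ≤ Fintype.card F)
    (σ : GL (Fin (j + 3)) F →* Module.End ℂ V)
    (hrk : ∀ ψ : AddChar (Fin (j + 2) → F) ℂ, ψ ≠ 1 → rk σ uG ψ = 1) (s : F)
    (ψ : AddChar (Fin (j + 2) → F) ℂ) (hψ : ψ ≠ 1)
    (hfix : ψ.compAddMonoidHom ((actS 1 (uG (Pi.single (0 : Fin (j + 1)) s))).symm :
        (Fin (j + 2) → F) →+ (Fin (j + 2) → F)) = ψ) :
    σ (levG1 (uG (Pi.single (0 : Fin (j + 1)) s))) * RepChar.proj σ uG ψ = RepChar.proj σ uG ψ := by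
  obtain ⟨χ₀, hχ₀⟩ := exists_addChar_ne_one (F := F)
  obtain ⟨v, rfl⟩ := exists_lam hχ₀ ψ
  rw [lam_comp_actS, inv_one, Units.val_one, one_smul] at hfix
  obtain ⟨g₁, g₂, hg₁, hg₂, hcomm⟩ := comm1 hq s v (lam_injective hχ₀ hfix)
  have hfixed : ∀ g : GL (Fin (j + 2)) F,
      (g : Matrix (Fin (j + 2)) (Fin (j + 2)) F) *ᵥ v = v →
      σ (levG1 g) * RepChar.proj σ uG (lam χ₀ v) = RepChar.proj σ uG (lam χ₀ v) * σ (levG1 g) := by
    intro g hg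
    refine commute_proj_of_fixed σ uG (lam χ₀ v) (levG1 g) _ (levG1_conj g) ?_
    rw [lam_comp_actS, inv_one, Units.val_one, one_smul, hg]
  have := commutator_mul_proj σ (RepChar.proj σ uG (lam χ₀ v))
    (RepChar.proj_mul_proj σ uG uG_add' _) (hrk _ hψ) (levG1 g₁) (levG1 g₂) (hfixed g₁ hg₁) (hfixed g₂ hg₂)
  have hlev : levG1 (g₁ * g₂ * g₁⁻¹ * g₂⁻¹) = levG1 g₁ * levG1 g₂ * (levG1 g₁)⁻¹ * (levG1 g₂)⁻¹ := by
    simp only [map_mul, map_inv]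
  rw [hcomm, hlev]
  exact this

theorem toGL_lev_uG {k : ℕ} (Y : Fin k → F) :
    Matrix.SpecialLinearGroup.toGL (lev (uG Y)) = levG1 (uG Y) := by
  apply Units.ext
  show (lev (uG Y) : Matrix (Fin (k + 1 + 1)) (Fin (k + 1 + 1)) F) = bm 1 0 0 (uG Y : Matrix _ _ F)
  rw [lev_coe, det_uG, inv_one]

theorem conj1 {j : ℕ} (s : F) :
    ∃ w : GL (Fin (j + 3)) F,
      levG1 (uG (Pi.single (0 : Fin (j + 1)) s)) = w * uG (Pi.single (0 : Fin (j + 2)) s) * w⁻¹ := by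
  obtain ⟨w, hw⟩ := conj0 (F := F) (j := j) s
  refine ⟨Matrix.SpecialLinearGroup.toGL w, ?_⟩
  rw [← toGL_lev_uG, hw, map_mul, map_mul, map_inv]
  rfl

theorem card_vec (k : ℕ) : Fintype.card (Fin k → F) = Fintype.card F ^ k := by
  rw [Fintype.card_fun, Fintype.card_fin]

theorem exists_ne_zero_F : ∃ s : F, s ≠ 0 := ⟨1, one_ne_zero⟩

/-- LEVEL 0 -/
theorem level0 {j : ℕ} (hcond : TCond j (Fintype.card F))
    (ρ : Matrix.SpecialLinearGroup (Fin (j + 3)) F →* Module.End ℂ V)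
    (hrk : ∀ ψ : AddChar (Fin (j + 2) → F) ℂ, ψ ≠ 1 → rk ρ uEl ψ = 1) :
    (∀ ψ₂ : AddChar (Fin (j + 1) → F) ℂ, ψ₂ ≠ 1 → rk (rho0 ρ) uG ψ₂ = 1) ∧
      rk ρ uEl 1 = rk (rho0 ρ) uG 1 + (Fintype.card F ^ (j + 1) - 1) := by
  classical
  obtain ⟨ψ₀, hψ₀⟩ := exists_char_ne_one (F := F) j
  obtain ⟨w, hw⟩ := conj0 (F := F) (j := j) 1
  have hX₀ : (Pi.single (0 : Fin (j + 2)) (1 : F) : Fin (j + 2) → F) ≠ 0 := by
    intro h
    have := congrFun h 0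
    simp at this
  have hY₀ : (Pi.single (0 : Fin (j + 1)) (1 : F) : Fin (j + 1) → F) ≠ 0 := by
    intro h
    have := congrFun h 0
    simp at this
  have hya : ∀ X, lev (uG (Pi.single (0 : Fin (j + 1)) (1 : F))) * uEl X *
      (lev (uG (Pi.single (0 : Fin (j + 1)) (1 : F))))⁻¹ =
      uEl (actS 1 (uG (Pi.single (0 : Fin (j + 1)) (1 : F))) X) := by
    intro X
    rw [lev_conj, det_uG_unit, inv_one]
  have key := level ρ uEl uEl_add' lev uG uG_add' (hι0 ρ) hrk hX₀ hY₀ w hw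
    (actS 1 (uG (Pi.single (0 : Fin (j + 1)) (1 : F)))) hya
    (htriv0 hcond ρ hrk 1) (card_fixed_char one_ne_zero) (rk (rho0 ρ) uG ψ₀)
    (fun ψ₂ hψ₂ => rk_eq_GL (rho0 ρ) ψ₀ ψ₂ hψ₀ hψ₂)
  rw [card_vec] at key
  refine ⟨fun ψ₂ hψ₂ => ?_, key.2⟩
  rw [rk_eq_GL (rho0 ρ) ψ₀ ψ₂ hψ₀ hψ₂]
  exact key.1

/-- LEVEL 1 -/
theorem level1 {j : ℕ} (hq : 3 ≤ Fintype.card F)
    (σ : GL (Fin (j + 3)) F →* Module.End ℂ V)
    (hrk : ∀ ψ : AddChar (Fin (j + 2) → F) ℂ, ψ ≠ 1 → rk σ uG ψ = 1) :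
    (∀ ψ₂ : AddChar (Fin (j + 1) → F) ℂ, ψ₂ ≠ 1 → rk (sig0 σ) uG ψ₂ = 1) ∧
      rk σ uG 1 = rk (sig0 σ) uG 1 + (Fintype.card F ^ (j + 1) - 1) := by
  classical
  obtain ⟨ψ₀, hψ₀⟩ := exists_char_ne_one (F := F) j
  obtain ⟨w, hw⟩ := conj1 (F := F) (j := j) 1
  have hX₀ : (Pi.single (0 : Fin (j + 2)) (1 : F) : Fin (j + 2) → F) ≠ 0 := by
    intro h
    have := congrFun h 0
    simp at this
  have hY₀ : (Pi.single (0 : Fin (j + 1)) (1 : F) : Fin (j + 1) → F) ≠ 0 := by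
    intro h
    have := congrFun h 0
    simp at this
  have key := level σ uG uG_add' levG1 uG uG_add' (hι1 σ) hrk hX₀ hY₀ w hw
    (actS 1 (uG (Pi.single (0 : Fin (j + 1)) (1 : F)))) (levG1_conj _)
    (htriv1 hq σ hrk 1) (card_fixed_char one_ne_zero) (rk (sig0 σ) uG ψ₀)
    (fun ψ₂ hψ₂ => rk_eq_GL (sig0 σ) ψ₀ ψ₂ hψ₀ hψ₂)
  rw [card_vec] at key
  refine ⟨fun ψ₂ hψ₂ => ?_, key.2⟩
  rw [rk_eq_GL (sig0 σ) ψ₀ ψ₂ hψ₀ hψ₂]
  exact key.1

end Packages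

end Cfsg.Agent.Lib.H12.SLMin
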