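import Mathlib
import Cfsg.Agent.Lib.H12.SLMinC

/-!
# S2332: the inductive step (helper12)
-/

set_option autoImplicit false
set_option linter.unusedSectionVars false

namespace Cfsg.Agent.Lib.H12.SLMin

open scoped BigOperators
open Matrix Module Cfsg.Agent.Lib.H4 Cfsg.Agent.Lib.H12.SLMin.Pieces

universe u

section Abstract

variable {G : Type*} [Group G] {S : Type*} [AddCommGroup S] [Fintype S]
  {V : Type*} [AddCommGroup V] [Module ℂ V] [FiniteDimensional ℂ V]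
  (ρ : G →* Module.End ℂ V) (t : S → G) (ht : ∀ X X', t (X + X') = t X * t X')

include ht in
/-- a non-trivial character of positive rank: `t S` acts non-trivially -/
theorem exists_map_ne_one_of_rk (ψ : AddChar S ℂ) (hψ : ψ ≠ 1) (h : rk ρ t ψ ≠ 0) :
    ∃ X, ρ (t X) ≠ 1 := by
  by_contra hcon
  push Not at hcon
  obtain ⟨X, hX⟩ := AddChar.ne_one_iff.1 hψ
  have h1 := RepChar.map_mul_proj ρ t ht ψ X
  rw [hcon X, one_mul] at h1
  have h2 : (1 - ψ X) • RepChar.proj ρ t ψ = 0 := by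
    rw [sub_smul, one_smul, ← h1, sub_self]
  have h3 : RepChar.proj ρ t ψ = 0 := by
    rcases smul_eq_zero.1 h2 with h3 | h3
    · exact absurd (sub_eq_zero.1 h3).symm hX
    · exact h3
  apply h
  unfold rk
  rw [h3, LinearMap.range_zero, finrank_bot]

include ht in
/-- all non-trivial characters of rank zero: `t S` acts trivially -/
theorem map_eq_one_of_rk_zero (h : ∀ ψ : AddChar S ℂ, ψ ≠ 1 → rk ρ t ψ = 0) (X : S) : ρ (t X) = 1 := by
  by_contra hcon
  obtain ⟨ψ, hψ, hne⟩ := RepChar.exists_ne_one ρ t ht ⟨X, hcon⟩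
  exact RepChar.finrank_range_ne_zero ρ t hne (h ψ hψ)

include ht in
/-- the fixed space of `t S` is fixed by `t S` -/
theorem map_apply_range_proj_one (X : S) (v : V) (hv : v ∈ LinearMap.range (RepChar.proj ρ t 1)) :
    ρ (t X) v = v := by
  obtain ⟨u, rfl⟩ := hv
  rw [← Module.End.mul_apply, RepChar.map_mul_proj ρ t ht, AddChar.one_apply, one_smul]

end Abstract

variable {F : Type*} [Field F] [Fintype F]

section Step

variable {V : Type u} [AddCommGroup V] [Module ℂ V] [FiniteDimensional ℂ V]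

/-- the trace of a transvection when all non-trivial characters have rank one -/
theorem trace_transv {m : ℕ} (ρ : Matrix.SpecialLinearGroup (Fin (m + 1)) F →* Module.End ℂ V)
    (hrk : ∀ ψ : AddChar (Fin m → F) ℂ, ψ ≠ 1 → rk ρ uEl ψ = 1)
    (x : Matrix.SpecialLinearGroup (Fin (m + 1)) F) (hx : x ∈ transv m F) :
    LinearMap.trace ℂ V (ρ x) = (((rk ρ uEl 1 : ℤ) - 1 : ℤ) : ℂ) := by
  obtain ⟨g, a, ha, rfl⟩ := mem_transv.1 hx
  rw [trace_conj, trace_t_of_rk ρ uEl uEl_add' 1 hrk ha]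
  push_cast
  ring

/-- the alternative: rank at least two, or rank one with its consequences -/
theorem step_data {j : ℕ} (ρ : Representation ℂ (Matrix.SpecialLinearGroup (Fin (j + 3)) F) V)
    [ρ.IsIrreducible] (hne : ∃ g, ρ g ≠ 1) :
    2 * (Fintype.card F ^ (j + 2) - 1) ≤ finrank ℂ V ∨
    ((∀ ψ : AddChar (Fin (j + 2) → F) ℂ, ψ ≠ 1 → rk ρ uEl ψ = 1) ∧
      finrank ℂ V = rk ρ uEl 1 + (Fintype.card F ^ (j + 2) - 1) ∧
      ((finrank ℂ V : ℤ) ∣ ((transv (j + 2) F).card : ℤ) * ((rk ρ uEl 1 : ℤ) - 1))) := by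
  obtain ⟨ψ₀, hψ₀⟩ := exists_char_ne_one (F := F) (j + 1)
  have hd : ∀ ψ : AddChar (Fin (j + 2) → F) ℂ, ψ ≠ 1 → rk ρ uEl ψ = rk ρ uEl ψ₀ :=
    fun ψ hψ => rk_eq_SL (by omega) ρ ψ₀ ψ hψ₀ hψ
  have hfr := finrank_of_rk ρ uEl uEl_add' (rk ρ uEl ψ₀) hd
  rw [card_vec] at hfr
  rcases Nat.lt_or_ge (rk ρ uEl ψ₀) 2 with hlt | hge
  · have h01 : rk ρ uEl ψ₀ = 0 ∨ rk ρ uEl ψ₀ = 1 := by omega
    rcases h01 with h0 | h1
    · exfalso
      obtain ⟨g, hg⟩ := hne
      apply hg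
      have hker : (MonoidHom.ker ρ) = ⊤ := by
        refine gen_SL (F := F) (m := j + 2) (by omega) (MonoidHom.ker ρ) (fun a => ?_)
        rw [MonoidHom.mem_ker]
        exact map_eq_one_of_rk_zero ρ uEl uEl_add' (fun ψ hψ => (hd ψ hψ).trans h0) a
      have : g ∈ MonoidHom.ker ρ := by rw [hker]; exact Subgroup.mem_top g
      exact MonoidHom.mem_ker.1 this
    · right
      have hrk : ∀ ψ : AddChar (Fin (j + 2) → F) ℂ, ψ ≠ 1 → rk ρ uEl ψ = 1 :=
        fun ψ hψ => (hd ψ hψ).trans h1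
      refine ⟨hrk, ?_, ?_⟩
      · rw [hfr, h1, one_mul]
      · exact int_normal ρ (transv (j + 2) F) (fun g x hx => transv_conj g x hx) _
          (fun x hx => trace_transv ρ hrk x hx)
  · left
    rw [hfr]
    calc 2 * (Fintype.card F ^ (j + 2) - 1) ≤ rk ρ uEl ψ₀ * (Fintype.card F ^ (j + 2) - 1) :=
          Nat.mul_le_mul_right _ hge
      _ ≤ _ := Nat.le_add_left _ _

end Step


section Generic

variable {V : Type u} [AddCommGroup V] [Module ℂ V] [FiniteDimensional ℂ V]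

/-- the restriction of `rho0 ρ` to `SL_m` -/
noncomputable def rho0SL {m : ℕ} (ρ : Matrix.SpecialLinearGroup (Fin (m + 1)) F →* Module.End ℂ V) :
    Matrix.SpecialLinearGroup (Fin m) F →* Module.End ℂ (LinearMap.range (RepChar.proj ρ uEl 1)) :=
  (rho0 ρ).comp Matrix.SpecialLinearGroup.toGL

theorem rho0SL_uEl {k : ℕ} (ρ : Matrix.SpecialLinearGroup (Fin (k + 1 + 1)) F →* Module.End ℂ V)
    (Y : Fin k → F) : rho0SL ρ (uEl Y) = rho0 ρ (uG Y) := rfl

theorem rk_rho0SL {k : ℕ} (ρ : Matrix.SpecialLinearGroup (Fin (k + 1 + 1)) F →* Module.End ℂ V)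
    (ψ : AddChar (Fin k → F) ℂ) : rk (rho0SL ρ) uEl ψ = rk (rho0 ρ) uG ψ := rfl

/-- the restriction of `sig0 σ` to `SL_k` -/
noncomputable def sig0SL {k : ℕ} (σ : GL (Fin (k + 1)) F →* Module.End ℂ V) :
    Matrix.SpecialLinearGroup (Fin k) F →* Module.End ℂ (LinearMap.range (RepChar.proj σ uG 1)) :=
  (sig0 σ).comp Matrix.SpecialLinearGroup.toGL

theorem rk_sig0SL {k : ℕ} (σ : GL (Fin (k + 1 + 1)) F →* Module.End ℂ V)
    (ψ : AddChar (Fin k → F) ℂ) : rk (sig0SL σ) uEl ψ = rk (sig0 σ) uG ψ := rfl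

theorem two_mul_ge (q m : ℕ) (hq : 2 ≤ q) : (q ^ (m + 1) - q) / (q - 1) ≤ 2 * (q ^ m - 1) := by
  obtain ⟨r, rfl⟩ : ∃ r, q = r + 2 := ⟨q - 2, by omega⟩
  have ha : 1 ≤ (r + 2) ^ m := Nat.one_le_pow _ _ (by omega)
  obtain ⟨b, hb⟩ : ∃ b, (r + 2) ^ m = b + 1 := ⟨(r + 2) ^ m - 1, by omega⟩
  apply Nat.div_le_of_le_mul
  rw [pow_succ, hb]
  have h1 : (b + 1) * (r + 2) - (r + 2) = b * (r + 2) := by
    rw [add_mul, one_mul, Nat.add_sub_cancel]
  rw [h1]
  have h2 : r + 2 - 1 = r + 1 := by omega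
  have h3 : b + 1 - 1 = b := by omega
  rw [h2, h3]
  nlinarith

/-- THE GENERIC STEP -/
theorem step_generic {j : ℕ} (hcond : TCond j (Fintype.card F))
    (hind : MinDeg.{u} (Matrix.SpecialLinearGroup (Fin (j + 2)) F)
      ((Fintype.card F ^ (j + 2) - Fintype.card F) / (Fintype.card F - 1))) :
    MinDeg.{u} (Matrix.SpecialLinearGroup (Fin (j + 3)) F)
      ((Fintype.card F ^ (j + 3) - Fintype.card F) / (Fintype.card F - 1)) := by
  have hq : 2 ≤ Fintype.card F := Fintype.one_lt_card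
  refine minDeg_of_irreducible _ ?_
  intro V _ _ _ ρ hirr hne
  have := hirr
  rcases step_data ρ hne with h | ⟨hrk, hfr, hdiv⟩
  · exact (two_mul_ge _ (j + 2) hq).trans h
  · obtain ⟨hrk₂, hf₀⟩ := level0 hcond ρ hrk
    obtain ⟨ψ₂, hψ₂⟩ := exists_char_ne_one (F := F) j
    have hne₀ : ∃ g, rho0SL ρ g ≠ 1 := by
      obtain ⟨Y, hY⟩ := exists_map_ne_one_of_rk (rho0 ρ) uG uG_add' ψ₂ hψ₂
        (by rw [hrk₂ ψ₂ hψ₂]; exact one_ne_zero)
      exact ⟨uEl Y, hY⟩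
    have hf₀' := hind _ (rho0SL ρ) hne₀
    have hpow : 1 ≤ Fintype.card F ^ (j + 2) := Nat.one_le_pow _ _ (by omega)
    refine arith_gen (Fintype.card F) (j + 2) (finrank ℂ V) (rk ρ uEl 1) (transv (j + 2) F).card hq
      (by omega) ?_ hf₀' (card_transv (by omega)) ?_
    · rw [hfr]
      omega
    · have e : ((rk ρ uEl 1 : ℤ) - 1) = (finrank ℂ V : ℤ) - (Fintype.card F : ℤ) ^ (j + 2) := by
        rw [hfr]
        push_cast [hpow]
        ring
      rw [← e]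
      exact hdiv

end Generic

end Cfsg.Agent.Lib.H12.SLMin
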