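import Mathlib
import Cfsg.Agent.Lib.H12.SLMinD

/-!
# S2332: the base of the induction and the special cases `(4,4)`, `(5,3)`, `(5,2)` (helper12)
-/

set_option autoImplicit false
set_option linter.unusedSectionVars false

namespace Cfsg.Agent.Lib.H12.SLMin

open scoped BigOperators
open Matrix Module Cfsg.Agent.Lib.H4 Cfsg.Agent.Lib.H12.SLMin.Pieces

universe u

variable {F : Type*} [Field F] [Fintype F]

/-- THE BASE `n = 3`, `q ∉ {2, 4}` -/
theorem step_base (h2 : Fintype.card F ≠ 2) (h4 : Fintype.card F ≠ 4) :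
    MinDeg.{u} (Matrix.SpecialLinearGroup (Fin 3) F)
      ((Fintype.card F ^ 3 - Fintype.card F) / (Fintype.card F - 1)) := by
  have hq : 2 ≤ Fintype.card F := Fintype.one_lt_card
  refine minDeg_of_irreducible _ ?_
  intro V _ _ _ ρ hirr hne
  have := hirr
  rcases step_data (j := 0) ρ hne with h | ⟨hrk, hfr, hdiv⟩
  · exact (two_mul_ge _ 2 hq).trans h
  · obtain ⟨hrk₂, hf₀⟩ := level0 (j := 0) (Or.inr (Or.inr ⟨rfl, h2, h4⟩)) ρ hrk
    have hpow : 1 ≤ Fintype.card F ^ 2 := Nat.one_le_pow _ _ (by omega)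
    have hfr' : finrank ℂ V = rk ρ uEl 1 + (Fintype.card F ^ 2 - 1) := hfr
    have hp1 : Fintype.card F ^ (0 + 1) = Fintype.card F := by norm_num
    have hf₀' : rk ρ uEl 1 = rk (rho0 ρ) uG 1 + (Fintype.card F - 1) := by
      rw [hf₀, hp1]
    refine arith_base (Fintype.card F) (finrank ℂ V) (rk (rho0 ρ) uG 1) (transv 2 F).card
      (FiniteField.isPrimePow_card F) h2 h4 ?_ (card_transv (m := 2) (by omega)) ?_
    · rw [hfr', hf₀']
      omega
    · have e : ((rk ρ uEl 1 : ℤ) - 1) = (finrank ℂ V : ℤ) - (Fintype.card F : ℤ) ^ 2 := by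
        rw [hfr']
        push_cast [hpow]
        ring
      rw [← e]
      exact hdiv

theorem arith_44 (D c f₀ T : ℕ) (hD : f₀ = c + 18) (hf : D = f₀ + 63) (hT : T * 3 = 255 * 63)
    (hdiv : (D : ℤ) ∣ (T : ℤ) * ((f₀ : ℤ) - 1)) : 84 ≤ D := by
  have hT' : T = 5355 := by omega
  subst hT'
  by_contra hcon
  have h1 : 81 ≤ D := by omega
  have h2 : D ≤ 83 := by omega
  have h3 : (f₀ : ℤ) = (D : ℤ) - 63 := by omega
  rw [h3] at hdiv
  interval_cases D <;> omega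

theorem arith_53 (D c f₀ T : ℕ) (hc : 12 ≤ c) (hD : f₀ = c + 26) (hf : D = f₀ + 80)
    (hT : T * 2 = 242 * 80) (hdiv : (D : ℤ) ∣ (T : ℤ) * ((f₀ : ℤ) - 1)) : 120 ≤ D := by
  have hT' : T = 9680 := by omega
  subst hT'
  by_contra hcon
  have h1 : 118 ≤ D := by omega
  have h2 : D ≤ 119 := by omega
  have h3 : (f₀ : ℤ) = (D : ℤ) - 80 := by omega
  rw [h3] at hdiv
  interval_cases D <;> omega

theorem arith_52 (D c f₀ T : ℕ) (hD : f₀ = c + 7) (hf : D = f₀ + 15)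
    (hT : T * 1 = 31 * 15) (hdiv : (D : ℤ) ∣ (T : ℤ) * ((f₀ : ℤ) - 1)) : 30 ≤ D ∨ (c = 2 ∧ f₀ = 9) := by
  have hT' : T = 465 := by omega
  subst hT'
  by_contra hcon
  push Not at hcon
  have h1 : 22 ≤ D := by omega
  have h2 : D ≤ 29 := by omega
  have h3 : (f₀ : ℤ) = (D : ℤ) - 15 := by omega
  rw [h3] at hdiv
  have h4 : D ≠ 24 := by
    intro h
    apply hcon.2 <;> omega
  interval_cases D <;> omega

/-- THE CASE `(4, 4)` -/
theorem step_44 (hq : Fintype.card F = 4) :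
    MinDeg.{u} (Matrix.SpecialLinearGroup (Fin 4) F)
      ((Fintype.card F ^ 4 - Fintype.card F) / (Fintype.card F - 1)) := by
  refine minDeg_of_irreducible _ ?_
  intro V _ _ _ ρ hirr hne
  have := hirr
  have hN : (Fintype.card F ^ 4 - Fintype.card F) / (Fintype.card F - 1) = 84 := by
    rw [hq]
    norm_num
  rw [hN]
  rcases step_data (j := 1) ρ hne with h | ⟨hrk, hfr, hdiv⟩
  · rw [hq] at h
    norm_num at h
    omega
  · obtain ⟨hrk₂, hf₀⟩ := level0 (j := 1) (Or.inr (Or.inl ⟨rfl, by omega⟩)) ρ hrk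
    obtain ⟨-, hc₀⟩ := level1 (j := 0) (by omega) (rho0 ρ) hrk₂
    have hT := card_transv (F := F) (m := 3) (by omega)
    rw [hq] at hfr hf₀ hc₀ hT
    norm_num at hfr hf₀ hc₀ hT
    exact arith_44 (finrank ℂ V) (rk (sig0 (rho0 ρ)) uG 1) (rk ρ uEl 1) (transv 3 F).card
      (by rw [hf₀, hc₀]) hfr (by omega) hdiv

/-- THE CASE `(5, 3)` -/
theorem step_53 (hq : Fintype.card F = 3) :
    MinDeg.{u} (Matrix.SpecialLinearGroup (Fin 5) F)
      ((Fintype.card F ^ 5 - Fintype.card F) / (Fintype.card F - 1)) := by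
  have hbase := step_base.{u} (F := F) (by omega) (by omega)
  refine minDeg_of_irreducible _ ?_
  intro V _ _ _ ρ hirr hne
  have := hirr
  have hN : (Fintype.card F ^ 5 - Fintype.card F) / (Fintype.card F - 1) = 120 := by
    rw [hq]
    norm_num
  have hN3 : (Fintype.card F ^ 3 - Fintype.card F) / (Fintype.card F - 1) = 12 := by
    rw [hq]
    norm_num
  rw [hN3] at hbase
  rw [hN]
  rcases step_data (j := 2) ρ hne with h | ⟨hrk, hfr, hdiv⟩
  · rw [hq] at h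
    norm_num at h
    omega
  · obtain ⟨hrk₂, hf₀⟩ := level0 (j := 2) (Or.inl le_rfl) ρ hrk
    obtain ⟨hrk₃, hc₀⟩ := level1 (j := 1) (by omega) (rho0 ρ) hrk₂
    obtain ⟨ψ₃, hψ₃⟩ := exists_char_ne_one (F := F) 1
    have hne₀ : ∃ g, sig0SL (rho0 ρ) g ≠ 1 := by
      obtain ⟨Y, hY⟩ := exists_map_ne_one_of_rk (sig0 (rho0 ρ)) uG uG_add' ψ₃ hψ₃
        (by rw [hrk₃ ψ₃ hψ₃]; exact one_ne_zero)
      exact ⟨uEl Y, hY⟩
    have h12 : 12 ≤ rk (rho0 ρ) uG 1 := hbase _ (sig0SL (rho0 ρ)) hne₀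
    have hT := card_transv (F := F) (m := 4) (by omega)
    rw [hq] at hfr hf₀ hT
    norm_num at hfr hf₀ hT
    exact arith_53 (finrank ℂ V) (rk (rho0 ρ) uG 1) (rk ρ uEl 1) (transv 4 F).card
      h12 hf₀ hfr (by omega) hdiv

end Cfsg.Agent.Lib.H12.SLMin
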