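import Mathlib
import Cfsg.Agent.Lib.H12.SLMinE

/-!
# S2332: the case `(5, 2)` and the induction (helper12)
-/

set_option autoImplicit false
set_option linter.unusedSectionVars false

namespace Cfsg.Agent.Lib.H12.SLMin

open scoped BigOperators
open Matrix Module Cfsg.Agent.Lib.H4 Cfsg.Agent.Lib.H12.SLMin.Pieces

universe u

variable {F : Type*} [Field F] [Fintype F]

theorem eq_zero_or_one_of_card_two (hq : Fintype.card F = 2) (x : F) : x = 0 ∨ x = 1 := by
  classical
  by_contra hcon
  push Not at hcon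
  have h1 : ({0, 1, x} : Finset F).card = 3 := by
    rw [Finset.card_insert_of_notMem, Finset.card_insert_of_notMem, Finset.card_singleton]
    · simp only [Finset.mem_singleton]
      exact fun h => hcon.2 h.symm
    · simp only [Finset.mem_insert, Finset.mem_singleton, not_or]
      exact ⟨zero_ne_one, fun h => hcon.1 h.symm⟩
  have h2 := Finset.card_le_univ ({0, 1, x} : Finset F)
  omega

/-- over the field with two elements `GL = SL` -/
theorem exists_toGL_eq (hq : Fintype.card F = 2) {m : ℕ} (h : GL (Fin m) F) :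
    ∃ h' : Matrix.SpecialLinearGroup (Fin m) F, Matrix.SpecialLinearGroup.toGL h' = h := by
  have hdet : (h : Matrix (Fin m) (Fin m) F).det = 1 := by
    rcases eq_zero_or_one_of_card_two hq (h : Matrix (Fin m) (Fin m) F).det with h0 | h1
    · exact absurd h0 ((Matrix.isUnit_iff_isUnit_det _).1 h.isUnit).ne_zero
    · exact h1
  exact ⟨⟨h, hdet⟩, Units.ext rfl⟩

section Case52

variable {V : Type u} [AddCommGroup V] [Module ℂ V] [FiniteDimensional ℂ V]

/-- THE CASE `(5, 2)` -/
theorem step_52 (hq : Fintype.card F = 2) :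
    MinDeg.{u} (Matrix.SpecialLinearGroup (Fin 5) F)
      ((Fintype.card F ^ 5 - Fintype.card F) / (Fintype.card F - 1)) := by
  classical
  refine minDeg_of_irreducible _ ?_
  intro V _ _ _ ρ hirr hne
  have := hirr
  have hN : (Fintype.card F ^ 5 - Fintype.card F) / (Fintype.card F - 1) = 30 := by
    rw [hq]
    norm_num
  rw [hN]
  rcases step_data (j := 2) ρ hne with h | ⟨hrk, hfr, hdiv⟩
  · rw [hq] at h
    norm_num at h
    omega
  · obtain ⟨hrk₂, hf₀⟩ := level0 (j := 2) (Or.inl le_rfl) ρ hrk
    have hT := card_transv (F := F) (m := 4) (by omega)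
    rw [hq] at hfr hf₀ hT
    norm_num at hfr hf₀ hT
    rcases arith_52 (finrank ℂ V) (rk (rho0 ρ) uG 1) (rk ρ uEl 1) (transv 4 F).card
      hf₀ hfr (by omega) hdiv with h30 | ⟨hc2, hf9⟩
    · exact h30
    · exfalso
      -- the representation of `SL_4(2)` on the fixed space of the radical
      have hrkσ : ∀ ψ : AddChar (Fin 3 → F) ℂ, ψ ≠ 1 → rk (rho0SL ρ) uEl ψ = 1 := hrk₂
      have hnofix : ∀ v : LinearMap.range (RepChar.proj ρ uEl 1),
          (∀ γ, rho0SL ρ γ v = v) → v = 0 := by
        intro v hv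
        by_contra hv0
        have hv0' : (v : V) ≠ 0 := fun h => hv0 (Subtype.ext h)
        have hU : ∀ a : Fin 4 → F, ρ (uEl a) (v : V) = v :=
          fun a => map_apply_range_proj_one ρ uEl uEl_add' a v v.2
        have hL : ∀ h : GL (Fin 4) F, ρ (lev h) (v : V) = v := by
          intro h
          obtain ⟨h', rfl⟩ := exists_toGL_eq hq h
          exact congrArg Subtype.val (hv h')
        rcases fixed_vector_dim hq (m := 4) (by omega) ρ (v : V) hv0' hU hL with h1 | h1
        · omega
        · norm_num at h1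
          omega
      have : Representation.IsIrreducible (rho0SL ρ) :=
        irreducible_of_rank_one (rho0SL ρ) uEl uEl_add' hrkσ (exists_char_ne_one (F := F) 2)
          (fun ψ ψ' hψ hψ' => trans_SL (by omega) ψ ψ' hψ hψ')
          (fun N hN h => @gen_SL F _ 3 (by omega) N hN h) hnofix
      have hdiv' := int_normal (rho0SL ρ) (transv 3 F) (fun g x hx => transv_conj g x hx) _
        (fun x hx => trace_transv (rho0SL ρ) hrkσ x hx)
      have hT' := card_transv (F := F) (m := 3) (by omega)
      rw [hq] at hT'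
      norm_num at hT'
      have e1 : rk (rho0SL ρ) uEl 1 = 2 := hc2
      have e2 : finrank ℂ (LinearMap.range (RepChar.proj ρ uEl 1)) = 9 := hf9
      rw [e1, e2, hT'] at hdiv'
      norm_num at hdiv'

end Case52

/-! ## the induction -/

theorem minDeg_4 (hq : 4 ≤ Fintype.card F) :
    MinDeg.{u} (Matrix.SpecialLinearGroup (Fin 4) F)
      ((Fintype.card F ^ 4 - Fintype.card F) / (Fintype.card F - 1)) := by
  by_cases h4 : Fintype.card F = 4
  · exact step_44 h4
  · exact step_generic (j := 1) (Or.inr (Or.inl ⟨rfl, hq⟩)) (step_base (by omega) h4)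

theorem minDeg_5 :
    MinDeg.{u} (Matrix.SpecialLinearGroup (Fin 5) F)
      ((Fintype.card F ^ 5 - Fintype.card F) / (Fintype.card F - 1)) := by
  have hq : 2 ≤ Fintype.card F := Fintype.one_lt_card
  by_cases h2 : Fintype.card F = 2
  · exact step_52 h2
  by_cases h3 : Fintype.card F = 3
  · exact step_53 h3
  exact step_generic (j := 2) (Or.inl le_rfl) (minDeg_4 (by omega))

theorem minDeg_ge5 (j : ℕ) :
    MinDeg.{u} (Matrix.SpecialLinearGroup (Fin (j + 5)) F)
      ((Fintype.card F ^ (j + 5) - Fintype.card F) / (Fintype.card F - 1)) := by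
  induction j with
  | zero => exact minDeg_5
  | succ j ih => exact step_generic (j := j + 3) (Or.inl (by omega)) ih

/-- THE LOWER BOUND -/
theorem minDeg_SL (n : ℕ) (hn : 3 ≤ n)
    (hex : (n, Fintype.card F) ≠ (3, 2) ∧ (n, Fintype.card F) ≠ (3, 4) ∧
      (n, Fintype.card F) ≠ (4, 2) ∧ (n, Fintype.card F) ≠ (4, 3)) :
    MinDeg.{u} (Matrix.SpecialLinearGroup (Fin n) F)
      ((Fintype.card F ^ n - Fintype.card F) / (Fintype.card F - 1)) := by
  have hq : 2 ≤ Fintype.card F := Fintype.one_lt_card
  obtain ⟨h32, h34, h42, h43⟩ := hex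
  rcases (by omega : n = 3 ∨ n = 4 ∨ 5 ≤ n) with rfl | rfl | h5
  · exact step_base (fun h => h32 (by rw [h])) (fun h => h34 (by rw [h]))
  · refine minDeg_4 ?_
    have h2 : Fintype.card F ≠ 2 := fun h => h42 (by rw [h])
    have h3 : Fintype.card F ≠ 3 := fun h => h43 (by rw [h])
    omega
  · obtain ⟨j, rfl⟩ : ∃ j, n = j + 5 := ⟨n - 5, by omega⟩
    exact minDeg_ge5 j


/-- an irreducible representation of degree at least two is non-trivial -/
theorem exists_ne_one_of_irreducible {G : Type*} [Group G] {k : ℕ} (hk : 2 ≤ k)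
    (ρ : Representation ℂ G (Fin k → ℂ)) (hirr : ρ.IsIrreducible) : ∃ g, ρ g ≠ 1 := by
  by_contra hcon
  push Not at hcon
  let e₀ : Fin k → ℂ := Pi.single ⟨0, by omega⟩ 1
  have he₀ : e₀ ≠ 0 := by
    intro h
    have := congrFun h ⟨0, by omega⟩
    simp [e₀] at this
  let W : Subrepresentation ρ := ⟨Submodule.span ℂ {e₀}, fun g v hv => by
    rw [hcon g]
    exact hv⟩
  rcases hirr.eq_bot_or_eq_top W with h | h
  · have h1 : Submodule.span ℂ {e₀} = ⊥ := congrArg Subrepresentation.toSubmodule h
    rw [Submodule.span_singleton_eq_bot] at h1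
    exact he₀ h1
  · have h1 : Submodule.span ℂ {e₀} = ⊤ := congrArg Subrepresentation.toSubmodule h
    have h2 : finrank ℂ (Submodule.span ℂ {e₀}) = 1 := finrank_span_singleton he₀
    rw [h1, finrank_top, Module.finrank_fin_fun] at h2
    omega

end Cfsg.Agent.Lib.H12.SLMin
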