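import Mathlib
import Cfsg.Agent.Lib.H12.OPMinDefs
import Cfsg.Agent.Lib.H12.OPMinA
import Cfsg.Agent.Lib.H12.OPMinPieces
import Cfsg.Agent.Lib.H12.SLMinF

/-!
# S2345: the radical and the Levi factor inside `Ω`, the characters of the radical (helper12)
-/

set_option autoImplicit false

namespace Cfsg.Agent.Lib.H12.OPMin

open scoped BigOperators
open Matrix Module Cfsg.Agent.Lib.H4 Cfsg.Agent.Lib.H12.SLMin Cfsg.Agent.Lib.H12.OPMin.Pieces

variable {F : Type*} [Field F]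

/-! ## small facts -/

theorem lamA_zero {n : ℕ} (χ₀ : AddChar F ℂ) : lamA χ₀ (0 : Matrix (Fin n) (Fin n) F) = 1 := by
  ext S
  rw [lamA_apply, AddChar.one_apply]
  have : pair (0 : Matrix (Fin n) (Fin n) F) S.1 = 0 := by
    unfold pair
    simp
  rw [this, AddChar.map_zero_eq_one]

theorem isR2_X0 (m : ℕ) : IsR2 (X0 m F).1 := by
  refine ⟨?_, Pi.single 0 1, Pi.single 1 1, ?_⟩
  · intro h
    have h1 := congrFun (congrFun h 0) 1
    simp [X0, Matrix.single] at h1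
  · show Matrix.single 0 1 1 - (Matrix.single 0 1 (1 : F))ᵀ = _
    rw [Matrix.transpose_single]
    ext i j
    simp only [Matrix.single, vecMulVec, Pi.single_apply, Matrix.sub_apply, Matrix.of_apply, mul_ite, mul_one,
      mul_zero]
    congr 1 <;> split_ifs <;> simp_all

theorem det_A0 (m : ℕ) : (A0 m F).1.det = 1 := by
  show (1 + Matrix.single (0 : Fin (m + 3)) 1 (1 : F)).det = 1
  have := Matrix.det_transvection_of_ne (0 : Fin (m + 3)) 1 (by simp) (1 : F)
  simpa [Matrix.transvection] using this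

theorem mem_sqGL_of_det_one {n : ℕ} {A : GL (Fin n) F} (h : A.1.det = 1) : A ∈ sqGL n F := by
  rw [mem_sqGL]
  refine ⟨1, ?_⟩
  apply Units.ext
  rw [Matrix.GeneralLinearGroup.val_det_apply, h]
  simp

theorem A0_mem (m : ℕ) : A0 m F ∈ sqGL (m + 3) F := mem_sqGL_of_det_one (det_A0 m)

/-- `(A⁻¹)ᵀ T A⁻¹ = T` iff `Aᵀ T A = T` -/
theorem congE_trGL_inv_eq_iff {n : ℕ} (A : GL (Fin n) F) (T : Alt n F) :
    congE (trGL A⁻¹) T = T ↔ A.1ᵀ * T.1 * A.1 = T.1 := by
  have key : congE (trGL A) (congE (trGL A⁻¹) T) = T := by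
    rw [← congE_mul]
    have : trGL A * trGL A⁻¹ = 1 := by rw [← trGL_inv, mul_inv_cancel]
    rw [this]
    apply Subtype.ext
    simp
  constructor
  · intro h
    have h2 := congrArg (fun X : Alt n F => (X : Matrix (Fin n) (Fin n) F)) key
    rw [h] at h2
    simpa using h2
  · intro h
    have h2 : congE (trGL A) T = T := by
      apply Subtype.ext
      simpa using h
    calc congE (trGL A⁻¹) T = congE (trGL A⁻¹) (congE (trGL A) T) := by rw [h2]
      _ = T := by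
        rw [← congE_mul]
        have : trGL A⁻¹ * trGL A = 1 := by rw [← trGL_inv, inv_mul_cancel]
        rw [this]
        apply Subtype.ext
        simp

/-! ## inside `Ω` -/

section Omega

variable [Fintype F]

variable (hq : 4 ≤ Fintype.card F) {n : ℕ}

/-- the radical inside `Ω` -/
def tΩ (S : Alt n F) : OmG n F := ⟨uO S, uO_mem_Omega hq S⟩

theorem tΩ_add (S S' : Alt n F) : tΩ hq (S + S') = tΩ hq S * tΩ hq S' :=
  Subtype.ext (uO_add S S')

/-- the Levi factor inside `Ω` -/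
def lΩ (hn : 3 ≤ n) : ↥(sqGL n F) →* OmG n F where
  toFun A := ⟨lO A.1, lO_mem_Omega hn A.1 A.2⟩
  map_one' := Subtype.ext (map_one lO)
  map_mul' A B := Subtype.ext (map_mul lO A.1 B.1)

theorem lΩ_conj (hn : 3 ≤ n) (A : ↥(sqGL n F)) (S : Alt n F) :
    lΩ hn A * tΩ hq S * (lΩ hn A)⁻¹ = tΩ hq (congE A.1 S) :=
  Subtype.ext (lO_conj A.1 S)

variable {V : Type*} [AddCommGroup V] [Module ℂ V] [FiniteDimensional ℂ V]

/-- the rank is constant on the congruence orbits of `sqGL` -/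
theorem rk_congE (hn : 3 ≤ n) (ρ : OmG n F →* Module.End ℂ V) (χ₀ : AddChar F ℂ)
    (B : GL (Fin n) F) (hB : B ∈ sqGL n F) (T : Alt n F) :
    rk ρ (tΩ hq) (lamA χ₀ (congE B T).1) = rk ρ (tΩ hq) (lamA χ₀ T.1) := by
  have hA : (trGL B)⁻¹ ∈ sqGL n F := inv_mem (trGL_mem_sqGL hB)
  have h := RepChar.finrank_range_conj ρ (tΩ hq) (tΩ_add hq) (lamA χ₀ T.1)
    (lΩ hn ⟨(trGL B)⁻¹, hA⟩) (congE (trGL B)⁻¹) (lΩ_conj hq hn ⟨(trGL B)⁻¹, hA⟩)
  rw [lamA_comp_congE pair_cong χ₀ T (trGL B)⁻¹, inv_inv, trGL_trGL] at h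
  exact h

end Omega

end Cfsg.Agent.Lib.H12.OPMin
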