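import Mathlib
import Cfsg.Agent.Lib.H12.OPMinB

/-!
# S2345: the decomposition under the Siegel radical (helper12)
-/

set_option autoImplicit false

namespace Cfsg.Agent.Lib.H12.OPMin

open scoped BigOperators
open Matrix Module Cfsg.Agent.Lib.H4 Cfsg.Agent.Lib.H12.SLMin Cfsg.Agent.Lib.H12.OPMin.Pieces

universe u

variable {F : Type*} [Field F] [Fintype F]

/-- the characters of `Alt n F` are parametrised by `Alt n F` -/
noncomputable def eChar {n : ℕ} {χ₀ : AddChar F ℂ} (hχ₀ : χ₀ ≠ 1) : Alt n F ≃ AddChar (Alt n F) ℂ :=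
  Equiv.ofBijective (fun T => lamA χ₀ T.1)
    ⟨fun T T' h => lamA_injective hχ₀ T T' h, fun ψ => by
      obtain ⟨T, hT⟩ := exists_lamA hχ₀ ψ
      exact ⟨T, hT.symm⟩⟩

@[simp] theorem eChar_apply {n : ℕ} {χ₀ : AddChar F ℂ} (hχ₀ : χ₀ ≠ 1) (T : Alt n F) :
    eChar hχ₀ T = lamA χ₀ T.1 := rfl

theorem lamA_eq_one_iff {n : ℕ} {χ₀ : AddChar F ℂ} (hχ₀ : χ₀ ≠ 1) (T : Alt n F) :
    lamA χ₀ T.1 = 1 ↔ T = 0 := by
  constructor
  · intro h
    apply lamA_injective hχ₀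
    rw [h]
    exact (lamA_zero χ₀).symm
  · rintro rfl
    exact lamA_zero χ₀

section Main

variable (hq : 4 ≤ Fintype.card F) {n : ℕ} (hn : 3 ≤ n)
  {V : Type u} [AddCommGroup V] [Module ℂ V] [FiniteDimensional ℂ V]
  (ρ : OmG n F →* Module.End ℂ V) {χ₀ : AddChar F ℂ} (hχ₀ : χ₀ ≠ 1)

/-- the multiplicity of the character `ψ_T` -/
noncomputable def mult (T : Alt n F) : ℕ := rk ρ (tΩ hq) (lamA χ₀ T.1)

include hχ₀ in
theorem finrank_eq_sum_mult :
    finrank ℂ V = ∑ T : Alt n F, mult hq ρ (χ₀ := χ₀) T := by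
  rw [RepChar.finrank_eq_sum ρ (tΩ hq) (tΩ_add hq), ← Equiv.sum_comp (eChar hχ₀)]
  rfl

include hn in
theorem mult_congE (B : GL (Fin n) F) (hB : B ∈ sqGL n F) (T : Alt n F) :
    mult hq ρ (χ₀ := χ₀) (congE B T) = mult hq ρ (χ₀ := χ₀) T :=
  rk_congE hq hn ρ χ₀ B hB T

include hn hχ₀ in
/-- CASE 1: a character which is neither trivial nor of rank two occurs -/
theorem finrank_ge_of_not_R2 (hn4 : 4 ≤ n) (T : Alt n F) (hT0 : T ≠ 0) (hR2 : ¬ IsR2 T.1)
    (hT : mult hq ρ (χ₀ := χ₀) T ≠ 0) :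
    2 * (Fintype.card F ^ (n - 1) - 1) * Fintype.card F ^ (n - 2) ≤ finrank ℂ V := by
  classical
  set Occ : Finset (Alt n F) := Finset.univ.filter (fun T => mult hq ρ (χ₀ := χ₀) T ≠ 0) with hOcc
  have hinv : ∀ A : GL (Fin n) F, A ∈ sqGL n F → ∀ T ∈ Occ, congE A T ∈ Occ := by
    intro A hA T hT
    rw [hOcc, Finset.mem_filter] at hT ⊢
    exact ⟨Finset.mem_univ _, by rw [mult_congE hq hn ρ A hA T]; exact hT.2⟩
  have h1 := card_ge_of_not_R2 hq hn4 Occ hinv T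
    (Finset.mem_filter.2 ⟨Finset.mem_univ _, hT⟩) hT0 hR2
  refine h1.trans ?_
  rw [finrank_eq_sum_mult hq ρ hχ₀]
  calc Occ.card = ∑ _T ∈ Occ, 1 := by rw [Finset.sum_const, smul_eq_mul, mul_one]
    _ ≤ ∑ T ∈ Occ, mult hq ρ (χ₀ := χ₀) T := by
        refine Finset.sum_le_sum fun T hT => ?_
        rw [hOcc, Finset.mem_filter] at hT
        exact Nat.one_le_iff_ne_zero.2 hT.2
    _ ≤ ∑ T : Alt n F, mult hq ρ (χ₀ := χ₀) T :=
        Finset.sum_le_sum_of_subset (Finset.subset_univ _)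

include hn in
/-- all characters of rank two have the same multiplicity -/
theorem mult_eq_of_R2 (T T' : Alt n F) (hT : IsR2 T.1) (hT' : IsR2 T'.1) :
    mult hq ρ (χ₀ := χ₀) T' = mult hq ρ (χ₀ := χ₀) T := by
  obtain ⟨A, hA, hTT'⟩ := trans_R2 hn T.1 T'.1 hT hT'
  have h : T' = congE A T := Subtype.ext (by rw [hTT']; rfl)
  rw [h]
  exact mult_congE hq hn ρ A (mem_sqGL_of_det_one hA) T

include hn hχ₀ in
/-- CASE 2: only the trivial character and the characters of rank two occur -/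
theorem finrank_eq_of_small (hsmall : ∀ T : Alt n F, T ≠ 0 → ¬ IsR2 T.1 → mult hq ρ (χ₀ := χ₀) T = 0)
    (T₁ : Alt n F) (hT₁ : IsR2 T₁.1) :
    finrank ℂ V = rk ρ (tΩ hq) 1 + mult hq ρ (χ₀ := χ₀) T₁ * r2 n F := by
  classical
  rw [finrank_eq_sum_mult hq ρ hχ₀,
    ← Finset.add_sum_erase Finset.univ _ (Finset.mem_univ (0 : Alt n F))]
  congr 1
  · show rk ρ (tΩ hq) (lamA χ₀ (0 : Alt n F).1) = _
    rw [show ((0 : Alt n F) : Matrix (Fin n) (Fin n) F) = 0 from rfl, lamA_zero]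
  · have hsub : R2set n F ⊆ Finset.univ.erase (0 : Alt n F) := by
      intro T hT
      rw [mem_R2set] at hT
      refine Finset.mem_erase.2 ⟨?_, Finset.mem_univ _⟩
      rintro rfl
      exact hT.1 rfl
    rw [← Finset.sum_subset hsub]
    · rw [Finset.sum_congr rfl (fun T hT => mult_eq_of_R2 hq hn ρ T₁ T hT₁ (mem_R2set.1 hT)),
        Finset.sum_const, smul_eq_mul, r2, mul_comm]
    · intro T hT hT'
      exact hsmall T (Finset.ne_of_mem_erase hT) (fun h => hT' (mem_R2set.2 h))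

end Main

end Cfsg.Agent.Lib.H12.OPMin
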