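import Mathlib
import Cfsg.Agent.Lib.H12.OPMinC

/-!
# S2345: the rank one case (trace trick, the `SL_n`-module `C_V(U)`, integrality) and the main theorem (helper12)
-/

set_option autoImplicit false

namespace Cfsg.Agent.Lib.H12.OPMin

open scoped BigOperators
open Matrix Module Cfsg.Agent.Lib.H4 Cfsg.Agent.Lib.H12.SLMin Cfsg.Agent.Lib.H12.OPMin.Pieces

universe u

variable {F : Type*} [Field F] [Fintype F]

/-- `SL_n → sqGL` -/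
def slToSq (n : ℕ) : Matrix.SpecialLinearGroup (Fin n) F →* ↥(sqGL n F) :=
  MonoidHom.codRestrict Matrix.SpecialLinearGroup.toGL (sqGL n F)
    (fun γ => mem_sqGL_of_det_one (by rw [Matrix.SpecialLinearGroup.coe_GL_coe_matrix]; exact γ.2))

section RankOne

variable (hq : 4 ≤ Fintype.card F) (m : ℕ)
  {V : Type u} [AddCommGroup V] [Module ℂ V] [FiniteDimensional ℂ V]
  (ρ : OmG (m + 3) F →* Module.End ℂ V) {χ₀ : AddChar F ℂ} (hχ₀ : χ₀ ≠ 1)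
  (hsmall : ∀ T : Alt (m + 3) F, T ≠ 0 → ¬ IsR2 T.1 → mult hq ρ (χ₀ := χ₀) T = 0)
  (hone : ∀ T : Alt (m + 3) F, IsR2 T.1 → mult hq ρ (χ₀ := χ₀) T = 1)

/-- the transvection `y = l(A₀)` inside `Ω` -/
def yΩ : OmG (m + 3) F := lΩ (by omega) ⟨A0 m F, A0_mem m⟩

/-- the Weyl element `w = s₁ s₂` inside `Ω` -/
def wΩ : OmG (m + 3) F := ⟨wO m F, wO_mem_Omega m⟩

theorem yΩ_eq : yΩ m = wΩ m * tΩ hq (X0 m F) * (wΩ m)⁻¹ :=
  Subtype.ext (lO_A0 m)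

theorem yΩ_conj (X : Alt (m + 3) F) :
    yΩ m * tΩ hq X * (yΩ m)⁻¹ = tΩ hq (congE (A0 m F) X) :=
  lΩ_conj hq (by omega) ⟨A0 m F, A0_mem m⟩ X

omit [FiniteDimensional ℂ V] in
include hχ₀ hsmall hone in
theorem rk_le_one (ψ : AddChar (Alt (m + 3) F) ℂ) (hψ : ψ ≠ 1) : rk ρ (tΩ hq) ψ ≤ 1 := by
  obtain ⟨T, rfl⟩ := exists_lamA hχ₀ ψ
  by_cases hR : IsR2 T.1
  · exact (hone T hR).le
  · have hT0 : T ≠ 0 := fun h => hψ ((lamA_eq_one_iff hχ₀ T).2 h)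
    have := hsmall T hT0 hR
    unfold mult at this
    omega

omit [FiniteDimensional ℂ V] in
include hsmall hone in
/-- the non-trivial characters of rank one are the `ψ_T`, `T` of rank two -/
theorem filter_eq_map [DecidableEq (AddChar (Alt (m + 3) F) ℂ)] :
    Finset.univ.filter (fun ψ : AddChar (Alt (m + 3) F) ℂ => ψ ≠ 1 ∧ rk ρ (tΩ hq) ψ = 1) =
      (R2set (m + 3) F).map (eChar hχ₀).toEmbedding := by
  ext ψ
  rw [Finset.mem_filter, Finset.mem_map]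
  constructor
  · rintro ⟨-, hψ1, hψ⟩
    obtain ⟨T, rfl⟩ := exists_lamA hχ₀ ψ
    have hT0 : T ≠ 0 := fun h => hψ1 ((lamA_eq_one_iff hχ₀ T).2 h)
    have hR : IsR2 T.1 := by
      by_contra hR
      have := hsmall T hT0 hR
      unfold mult at this
      omega
    exact ⟨T, mem_R2set.2 hR, rfl⟩
  · rintro ⟨T, hT, rfl⟩
    rw [mem_R2set] at hT
    refine ⟨Finset.mem_univ _, ?_, hone T hT⟩
    intro h
    have h0 : T = 0 := (lamA_eq_one_iff hχ₀ T).1 h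
    exact hT.1 (by rw [h0]; rfl)

omit [FiniteDimensional ℂ V] in
include hsmall hone in
/-- the fixed ones -/
theorem filter_fix_eq_map [DecidableEq (AddChar (Alt (m + 3) F) ℂ)]
    [DecidablePred (fun T : Alt (m + 3) F => (A0 m F).1ᵀ * T.1 * (A0 m F).1 = T.1)] :
    Finset.univ.filter (fun ψ : AddChar (Alt (m + 3) F) ℂ => (ψ ≠ 1 ∧ rk ρ (tΩ hq) ψ = 1) ∧
        ψ.compAddMonoidHom ((congE (A0 m F)).symm : Alt (m + 3) F →+ Alt (m + 3) F) = ψ) =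
      ((R2set (m + 3) F).filter
        (fun T : Alt (m + 3) F => (A0 m F).1ᵀ * T.1 * (A0 m F).1 = T.1)).map
          (eChar hχ₀).toEmbedding := by
  rw [← Finset.filter_filter, filter_eq_map hq m ρ hχ₀ hsmall hone]
  ext ψ
  rw [Finset.mem_filter, Finset.mem_map, Finset.mem_map]
  constructor
  · rintro ⟨⟨T, hT, rfl⟩, hfix⟩
    refine ⟨T, Finset.mem_filter.2 ⟨hT, ?_⟩, rfl⟩
    change (lamA χ₀ T.1).compAddMonoidHom _ = lamA χ₀ T.1 at hfix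
    rw [lamA_comp_congE pair_cong χ₀ T (A0 m F)] at hfix
    exact (congE_trGL_inv_eq_iff (A0 m F) T).1 (lamA_injective hχ₀ _ _ hfix)
  · rintro ⟨T, hT, rfl⟩
    rw [Finset.mem_filter] at hT
    refine ⟨⟨T, hT.1, rfl⟩, ?_⟩
    change (lamA χ₀ T.1).compAddMonoidHom _ = lamA χ₀ T.1
    rw [lamA_comp_congE pair_cong χ₀ T (A0 m F), (congE_trGL_inv_eq_iff (A0 m F) T).2 hT.2]

include hχ₀ hsmall in
/-- the transvection acts trivially on the fixed lines -/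
theorem yΩ_mul_proj (ψ : AddChar (Alt (m + 3) F) ℂ) (hψ1 : ψ ≠ 1) (hψ : rk ρ (tΩ hq) ψ = 1)
    (hfix : ψ.compAddMonoidHom ((congE (A0 m F)).symm : Alt (m + 3) F →+ Alt (m + 3) F) = ψ) :
    ρ (yΩ m) * RepChar.proj ρ (tΩ hq) ψ = RepChar.proj ρ (tΩ hq) ψ := by
  obtain ⟨T, rfl⟩ := exists_lamA hχ₀ ψ
  have hT0 : T ≠ 0 := fun h => hψ1 ((lamA_eq_one_iff hχ₀ T).2 h)
  have hR : IsR2 T.1 := by
    by_contra hR
    have := hsmall T hT0 hR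
    unfold mult at this
    omega
  rw [lamA_comp_congE pair_cong χ₀ T (A0 m F)] at hfix
  have hfixT := (congE_trGL_inv_eq_iff (A0 m F) T).1 (lamA_injective hχ₀ _ _ hfix)
  obtain ⟨A₁, A₂, hA₁, hA₂, hf₁, hf₂, hcomm⟩ := comm_fixed hq m T hR hfixT
  have hn : 3 ≤ m + 3 := by omega
  have hg : ∀ (A : GL (Fin (m + 3)) F) (hA : A ∈ sqGL (m + 3) F), A.1ᵀ * T.1 * A.1 = T.1 →
      ρ (lΩ hn ⟨A, hA⟩) * RepChar.proj ρ (tΩ hq) (lamA χ₀ T.1) =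
        RepChar.proj ρ (tΩ hq) (lamA χ₀ T.1) * ρ (lΩ hn ⟨A, hA⟩) := by
    intro A hA hf
    refine commute_proj_of_fixed ρ (tΩ hq) (lamA χ₀ T.1) (lΩ hn ⟨A, hA⟩) (congE A)
      (lΩ_conj hq hn ⟨A, hA⟩) ?_
    rw [lamA_comp_congE pair_cong χ₀ T A, (congE_trGL_inv_eq_iff A T).2 hf]
  have h := commutator_mul_proj ρ (RepChar.proj ρ (tΩ hq) (lamA χ₀ T.1))
    (RepChar.proj_mul_proj ρ (tΩ hq) (tΩ_add hq) _) hψ (lΩ hn ⟨A₁, hA₁⟩) (lΩ hn ⟨A₂, hA₂⟩)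
    (hg A₁ hA₁ hf₁) (hg A₂ hA₂ hf₂)
  have hy : yΩ m = lΩ hn ⟨A₁, hA₁⟩ * lΩ hn ⟨A₂, hA₂⟩ * (lΩ hn ⟨A₁, hA₁⟩)⁻¹ * (lΩ hn ⟨A₂, hA₂⟩)⁻¹ := by
    rw [← map_inv, ← map_inv, ← map_mul, ← map_mul, ← map_mul]
    unfold yΩ
    congr 1
    exact Subtype.ext hcomm
  rw [hy]
  exact h

include hχ₀ hsmall hone in
/-- THE TRACE TRICK: `tr (y | C_V(U)) = f₀ - q^(n-1)` -/
theorem trace_yΩ :
    LinearMap.trace ℂ V (ρ (yΩ m) * RepChar.proj ρ (tΩ hq) 1) =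
      (rk ρ (tΩ hq) 1 : ℂ) - (Fintype.card F : ℂ) ^ (m + 2) := by
  classical
  have h := trace_mul_proj_one_gen ρ (tΩ hq) (tΩ_add hq) (rk_le_one hq m ρ hχ₀ hsmall hone)
    (X0 m F) (wΩ m) (yΩ m) (yΩ_eq hq m) (congE (A0 m F)) (yΩ_conj hq m)
    (yΩ_mul_proj hq m ρ hχ₀ hsmall)
  rw [filter_eq_map hq m ρ hχ₀ hsmall hone, filter_fix_eq_map hq m ρ hχ₀ hsmall hone,
    Finset.sum_map, Finset.card_map] at h
  have h1 := sum_R2_X0 (F := F) m hχ₀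
  have h2 := card_R2_fixed (F := F) m
  have h3 : Nat.card {T : Alt (m + 3) F // IsR2 T.1 ∧ (A0 m F).1ᵀ * T.1 * (A0 m F).1 = T.1} =
      ((R2set (m + 3) F).filter
        (fun T : Alt (m + 3) F => (A0 m F).1ᵀ * T.1 * (A0 m F).1 = T.1)).card := by
    rw [Nat.card_eq_fintype_card, Fintype.card_subtype]
    congr 1
    ext T
    simp [mem_R2set]
  rw [h3] at h2
  have h2' : (((R2set (m + 3) F).filter
        (fun T : Alt (m + 3) F => (A0 m F).1ᵀ * T.1 * (A0 m F).1 = T.1)).card : ℂ) +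
      (Fintype.card F : ℂ) ^ (2 * m + 3) = (r2 (m + 3) F : ℂ) + (Fintype.card F : ℂ) ^ (m + 2) := by
    exact_mod_cast h2
  have h1' : ∑ T ∈ R2set (m + 3) F, (eChar hχ₀).toEmbedding T (X0 m F) =
      (r2 (m + 3) F : ℂ) - (Fintype.card F : ℂ) ^ (2 * m + 3) := by
    rw [← h1]
    simp
  rw [h, h1']
  linear_combination (-1 : ℂ) * h2'

end RankOne

end Cfsg.Agent.Lib.H12.OPMin
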