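import Mathlib
import Cfsg.Agent.Lib.H12.OPMinD

/-!
# S2345: `C_V(U)` as an `SL_n`-module, integrality, and the main theorem (helper12)
-/

set_option autoImplicit false

namespace Cfsg.Agent.Lib.H12.OPMin

open scoped BigOperators
open Matrix Module Cfsg.Agent.Lib.H4 Cfsg.Agent.Lib.H12.SLMin Cfsg.Agent.Lib.H12.OPMin.Pieces

universe u

variable {F : Type*} [Field F] [Fintype F]

section RankOne

variable (hq : 4 ≤ Fintype.card F) (m : ℕ)
  {V : Type u} [AddCommGroup V] [Module ℂ V] [FiniteDimensional ℂ V]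
  (ρ : OmG (m + 3) F →* Module.End ℂ V) {χ₀ : AddChar F ℂ} (hχ₀ : χ₀ ≠ 1)
  (hsmall : ∀ T : Alt (m + 3) F, T ≠ 0 → ¬ IsR2 T.1 → mult hq ρ (χ₀ := χ₀) T = 0)
  (hone : ∀ T : Alt (m + 3) F, IsR2 T.1 → mult hq ρ (χ₀ := χ₀) T = 1)

/-- `SL_n → Ω` -/
def slΩ : Matrix.SpecialLinearGroup (Fin (m + 3)) F →* OmG (m + 3) F :=
  (lΩ (by omega)).comp (slToSq (m + 3))

theorem slΩ_conj (γ : Matrix.SpecialLinearGroup (Fin (m + 3)) F) (X : Alt (m + 3) F) :
    slΩ m γ * tΩ hq X * (slΩ m γ)⁻¹ = tΩ hq (congE (Matrix.SpecialLinearGroup.toGL γ) X) :=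
  lΩ_conj hq (by omega) (slToSq (m + 3) γ) X

/-- the transvection in `SL_n` -/
def γ0 : Matrix.SpecialLinearGroup (Fin (m + 3)) F := ⟨(A0 m F).1, det_A0 m⟩

theorem slΩ_γ0 : slΩ m (γ0 m : Matrix.SpecialLinearGroup (Fin (m + 3)) F) = yΩ m := by
  unfold slΩ yΩ
  rw [MonoidHom.comp_apply]
  congr 1
  apply Subtype.ext
  apply Units.ext
  rfl

include hχ₀ hsmall hone in
/-- `C_V(U)` is a non-trivial `SL_n`-module, hence of dimension at least `(q^n - q)/(q - 1)` -/
theorem rk_one_ge (hm : 1 ≤ m) :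
    (Fintype.card F ^ (m + 3) - Fintype.card F) / (Fintype.card F - 1) ≤ rk ρ (tΩ hq) 1 := by
  have hp := RepChar.proj_mul_proj ρ (tΩ hq) (tΩ_add hq) 1
  have hι : ∀ γ : Matrix.SpecialLinearGroup (Fin (m + 3)) F,
      ρ (slΩ m γ) * RepChar.proj ρ (tΩ hq) 1 = RepChar.proj ρ (tΩ hq) 1 * ρ (slΩ m γ) :=
    fun γ => commute_proj_one ρ (tΩ hq) (slΩ m γ) _ (slΩ_conj hq m γ)
  have htr := trace_resRep ρ (RepChar.proj ρ (tΩ hq) 1) (slΩ m) hp hι (γ0 m)
  rw [slΩ_γ0, trace_yΩ hq m ρ hχ₀ hsmall hone] at htr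
  have hne : ∃ g, resRep ρ (RepChar.proj ρ (tΩ hq) 1) (slΩ m) hι g ≠ 1 := by
    refine ⟨γ0 m, fun h1 => ?_⟩
    rw [h1, LinearMap.trace_one] at htr
    have h2 : ((finrank ℂ (LinearMap.range (RepChar.proj ρ (tΩ hq) 1)) : ℕ) : ℂ) =
        (rk ρ (tΩ hq) 1 : ℂ) := rfl
    rw [h2] at htr
    have h3 : (Fintype.card F : ℂ) ^ (m + 2) = 0 := by linear_combination htr
    have h4 : (Fintype.card F : ℂ) ≠ 0 := Nat.cast_ne_zero.2 Fintype.card_ne_zero
    exact absurd h3 (pow_ne_zero _ h4)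
  have hex : (m + 3, Fintype.card F) ≠ (3, 2) ∧ (m + 3, Fintype.card F) ≠ (3, 4) ∧
      (m + 3, Fintype.card F) ≠ (4, 2) ∧ (m + 3, Fintype.card F) ≠ (4, 3) := by
    refine ⟨fun h => ?_, fun h => ?_, fun h => ?_, fun h => ?_⟩ <;>
    · rw [Prod.ext_iff] at h
      simp only at h
      omega
  exact minDeg_SL.{u} (F := F) (m + 3) (by omega) hex _
    (resRep ρ (RepChar.proj ρ (tΩ hq) 1) (slΩ m) hι) hne

end RankOne

section Final

variable (hq : 4 ≤ Fintype.card F) (m : ℕ)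
  {V : Type u} [AddCommGroup V] [Module ℂ V] [FiniteDimensional ℂ V]

include hq in
/-- THE MAIN THEOREM -/
theorem main (hm : 1 ≤ m) (ρ : Representation ℂ (OmG (m + 3) F) V) [ρ.IsIrreducible]
    (hne : ∃ g, ρ g ≠ 1) :
    (Fintype.card F ^ (m + 3) - 1) * (Fintype.card F ^ (m + 2) + Fintype.card F) /
      (Fintype.card F ^ 2 - 1) ≤ finrank ℂ V := by
  classical
  obtain ⟨χ₀, hχ₀⟩ := Cfsg.Agent.Lib.H12.SLMin.Pieces.exists_addChar_ne_one (F := F)
  have hn : 3 ≤ m + 3 := by omega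
  have hq2 : 2 ≤ Fintype.card F := by omega
  have e1 : m + 3 - 1 = m + 2 := by omega
  have e2 : m + 3 - 2 = m + 1 := by omega
  by_cases hbig : ∃ T : Alt (m + 3) F, T ≠ 0 ∧ ¬ IsR2 T.1 ∧ mult hq ρ (χ₀ := χ₀) T ≠ 0
  · -- CASE 1
    obtain ⟨T, hT0, hR2, hT⟩ := hbig
    have h1 := finrank_ge_of_not_R2 hq hn ρ hχ₀ (by omega) T hT0 hR2 hT
    have h2 := arith_orb4 (Fintype.card F) (m + 3) hq (by omega)
    rw [e1, e2] at h2
    rw [e1, e2] at h1
    exact h2.trans h1
  · -- CASE 2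
    have hsmall : ∀ T : Alt (m + 3) F, T ≠ 0 → ¬ IsR2 T.1 → mult hq ρ (χ₀ := χ₀) T = 0 := by
      intro T hT0 hR2
      by_contra h
      exact hbig ⟨T, hT0, hR2, h⟩
    have hfr := finrank_eq_of_small hq hn ρ hχ₀ hsmall (X0 m F) (isR2_X0 m)
    have hr2 := r2_mul (F := F) (m + 3)
    rw [e1] at hr2
    set d := mult hq ρ (χ₀ := χ₀) (X0 m F) with hd
    have hd' : ∀ T : Alt (m + 3) F, IsR2 T.1 → mult hq ρ (χ₀ := χ₀) T = d :=
      fun T hT => mult_eq_of_R2 hq hn ρ (X0 m F) T (isR2_X0 m) hT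
    rcases Nat.lt_or_ge d 2 with hlt | hge
    · have h01 : d = 0 ∨ d = 1 := by omega
      rcases h01 with h0 | h1
      · -- the radical acts trivially
        exfalso
        obtain ⟨g, hg⟩ := hne
        apply hg
        have hzero : ∀ ψ : AddChar (Alt (m + 3) F) ℂ, ψ ≠ 1 → rk ρ (tΩ hq) ψ = 0 := by
          intro ψ hψ
          obtain ⟨T, rfl⟩ := exists_lamA hχ₀ ψ
          have hT0 : T ≠ 0 := fun h => hψ ((lamA_eq_one_iff hχ₀ T).2 h)
          by_cases hR : IsR2 T.1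
          · exact (hd' T hR).trans h0
          · exact hsmall T hT0 hR
        have hU := map_eq_one_of_rk_zero ρ (tΩ hq) (tΩ_add hq) hzero
        have hker : MonoidHom.ker ρ = ⊤ := by
          refine gen_Omega (F := F) (n := m + 3) (by omega) (MonoidHom.ker ρ) (fun S hS => ?_)
          rw [MonoidHom.mem_ker]
          exact hU S
        have : g ∈ MonoidHom.ker ρ := by rw [hker]; exact Subgroup.mem_top g
        exact MonoidHom.mem_ker.1 this
      · -- rank one
        have hone : ∀ T : Alt (m + 3) F, IsR2 T.1 → mult hq ρ (χ₀ := χ₀) T = 1 :=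
          fun T hT => (hd' T hT).trans h1
        rw [h1, one_mul] at hfr
        have hf₀ := rk_one_ge hq m ρ hχ₀ hsmall hone hm
        -- integrality
        let _inst : Fintype (OmG (m + 3) F) := Fintype.ofFinite _
        set K : Finset (OmG (m + 3) F) :=
          Finset.univ.image (fun g : OmG (m + 3) F => g * tΩ hq (X0 m F) * g⁻¹) with hK
        have hKmem : ∀ x : OmG (m + 3) F, x ∈ K ↔
            ∃ g : OmG (m + 3) F, x = g * tΩ hq (X0 m F) * g⁻¹ := by
          intro x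
          rw [hK, Finset.mem_image]
          constructor
          · rintro ⟨g, -, rfl⟩
            exact ⟨g, rfl⟩
          · rintro ⟨g, rfl⟩
            exact ⟨g, Finset.mem_univ _, rfl⟩
        have hKconj : ∀ g x : OmG (m + 3) F, x ∈ K → g * x * g⁻¹ ∈ K := by
          intro g x hx
          obtain ⟨h, rfl⟩ := (hKmem x).1 hx
          refine (hKmem _).2 ⟨g * h, ?_⟩
          rw [_root_.mul_inv_rev]
          simp only [mul_assoc]
        have hcard := card_class (F := F) m hm (uO_mem_Omega hq (X0 m F)) K hKmem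
        have htrx : LinearMap.trace ℂ V (ρ (tΩ hq (X0 m F))) =
            (((finrank ℂ V : ℤ) - (Fintype.card F : ℤ) ^ (2 * m + 3) : ℤ) : ℂ) := by
          rw [trace_t_of_rk_le_one ρ (tΩ hq) (tΩ_add hq) (rk_le_one hq m ρ hχ₀ hsmall hone),
            filter_eq_map hq m ρ hχ₀ hsmall hone, Finset.sum_map]
          have h1' := sum_R2_X0 (F := F) m hχ₀
          have h1'' : ∑ T ∈ R2set (m + 3) F, (eChar hχ₀).toEmbedding T (X0 m F) =
              (r2 (m + 3) F : ℂ) - (Fintype.card F : ℂ) ^ (2 * m + 3) := by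
            rw [← h1']
            simp
          rw [h1'', hfr]
          push_cast
          ring
        have hdiv := Cfsg.Agent.Lib.H12.SLMin.Pieces.int_normal ρ K hKconj
          ((finrank ℂ V : ℤ) - (Fintype.card F : ℤ) ^ (2 * m + 3))
          (fun x hx => by
            obtain ⟨g, rfl⟩ := (hKmem x).1 hx
            rw [Cfsg.Agent.Lib.H12.SLMin.trace_conj]
            exact htrx)
        have hfin := arith_int (Fintype.card F) (m + 3) (finrank ℂ V) (rk ρ (tΩ hq) 1) (r2 (m + 3) F)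
          K.card hq2 (by omega) hfr (by rw [e1] at *; exact hf₀) (by rw [e1]; exact hr2)
          (by rw [e1, e2]; exact hcard)
          (by
            have e3 : 2 * (m + 3) - 3 = 2 * m + 3 := by omega
            rw [e3]
            exact hdiv)
        rw [e1] at hfin
        exact hfin
    · -- rank at least two
      have h2 := arith_two_r2 (Fintype.card F) (m + 3) (r2 (m + 3) F) hq2 (by omega)
        (by rw [e1]; exact hr2)
      rw [e1] at h2
      refine h2.trans ?_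
      rw [hfr]
      calc 2 * r2 (m + 3) F ≤ d * r2 (m + 3) F := Nat.mul_le_mul_right _ hge
        _ ≤ _ := Nat.le_add_left _ _

end Final

end Cfsg.Agent.Lib.H12.OPMin
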