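import Mathlib
import Cfsg.Prelude.Def_ChevStructure
import Cfsg.Agent.Lib.H29.D4SingA

/-!
# Involutions of `N` in odd characteristic: the rank one descent and twist (generic)

Let `m` be an involution with `m x_r(t) m⁻¹ = x_{-r}(c t)`.  Then `m` acts on the rank one group `⟨X_r, X_{-r}⟩`
(the image of `SL₂`) as the conjugation by the antidiagonal matrix `[[0, 1], [c, 0]]`.  If `c` is a square, `m` is
conjugate to `w_r(e⁻¹) m` (which induces on the roots the permutation of `m` followed by the reflection in `r`);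
in general `m` is conjugate to `h_r(-1) m` over a finite field of odd order.
-/

set_option autoImplicit false
set_option linter.unusedSectionVars false
set_option linter.unusedSimpArgs false
set_option linter.unusedVariables false

namespace Cfsg.Agent.Lib.H12.OddInv

open Cfsg.Lie Matrix Cfsg.Agent.Lib.H12 Cfsg.Agent.Lib.H29.Chev Cfsg.Agent.Lib.H29.G2Inv

variable {D : ChevalleyDatum} {fd : FD} {fx : FX} {fc : FC} {fz : FZ} {F : Type*} [Field F]

local notation "SL2" => Matrix.SpecialLinearGroup (Fin 2) F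

/-- conjugation by the antidiagonal matrix `[[0, 1], [c, 0]]` on `SL₂` -/
def acj (c : Fˣ) : SL2 →* SL2 where
  toFun X := mk2 (X.1 1 1) ((c : F)⁻¹ * X.1 1 0) ((c : F) * X.1 0 1) (X.1 0 0) (by
    have := sl2_det X
    have hc : (c : F) ≠ 0 := c.ne_zero
    field_simp
    linear_combination this)
  map_one' := by
    apply StPresG.sl2_ext <;> simp
  map_mul' X Y := by
    have hc : (c : F) ≠ 0 := c.ne_zero
    apply StPresG.sl2_ext <;>
      simp [Matrix.SpecialLinearGroup.coe_mul, Matrix.mul_apply, Fin.sum_univ_two] <;> field_simp <;> ring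

@[simp] theorem acj_val (c : Fˣ) (X : SL2) :
    ((acj c X : SL2) : Matrix (Fin 2) (Fin 2) F) =
      !![X.1 1 1, (c : F)⁻¹ * X.1 1 0; (c : F) * X.1 0 1, X.1 0 0] := rfl

theorem acj_upM (c : Fˣ) (t : F) : acj c (StPresG.upM t) = StPresG.loM ((c : F) * t) := by
  apply StPresG.sl2_ext <;> simp

theorem acj_loM (c : Fˣ) (t : F) : acj c (StPresG.loM t) = StPresG.upM ((c : F)⁻¹ * t) := by
  apply StPresG.sl2_ext <;> simp



variable (C : Cert12 D fd fx fc fz)
include C

/-- an element inverting the root `r` acts on `⟨X_r, X_{-r}⟩` as the conjugation by an antidiagonal matrix -/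
theorem conj_phiR (m : GL D.Idx F) (r : ℕ) (hr : r < fd.n) (c : Fˣ)
    (h1 : ∀ t, m * C.c6.c2.xA r t * m⁻¹ = C.c6.c2.xA (fd.n - 1 - r) ((c : F) * t))
    (h2 : ∀ t, m * C.c6.c2.xA (fd.n - 1 - r) t * m⁻¹ = C.c6.c2.xA r ((c : F)⁻¹ * t)) (X : SL2) :
    m * C.phiR F r X * m⁻¹ = C.phiR F r (acj c X) := by
  have key : (MulAut.conj m).toMonoidHom.comp (C.phiR F r) = (C.phiR F r).comp (acj c) := by
    apply sl2_hom_ext
    · intro t
      simp only [MonoidHom.comp_apply, MulEquiv.coe_toMonoidHom, MulAut.conj_apply]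
      rw [acj_upM, C.phiR_up r hr, C.phiR_lo r hr, h1]
    · intro t
      simp only [MonoidHom.comp_apply, MulEquiv.coe_toMonoidHom, MulAut.conj_apply]
      rw [acj_loM, C.phiR_lo r hr, C.phiR_up r hr, h2]
  have := congrArg (fun f => f X) key
  simpa using this

/-- for an involution, the action on `X_{-r}` is determined by the action on `X_r` -/
theorem swap_of_sq (m : GL D.Idx F) (hm2 : m * m = 1) (r : ℕ) (c : Fˣ)
    (h1 : ∀ t, m * C.c6.c2.xA r t * m⁻¹ = C.c6.c2.xA (fd.n - 1 - r) ((c : F) * t)) (t : F) :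
    m * C.c6.c2.xA (fd.n - 1 - r) t * m⁻¹ = C.c6.c2.xA r ((c : F)⁻¹ * t) := by
  have hc : (c : F) ≠ 0 := c.ne_zero
  have e := h1 ((c : F)⁻¹ * t)
  rw [← mul_assoc, mul_inv_cancel₀ hc, one_mul] at e
  rw [← e]
  have hinv : m⁻¹ = m := inv_eq_of_mul_eq_one_right hm2
  rw [hinv]
  calc m * (m * C.c6.c2.xA r ((c : F)⁻¹ * t) * m) * m
      = (m * m) * C.c6.c2.xA r ((c : F)⁻¹ * t) * (m * m) := by group
    _ = C.c6.c2.xA r ((c : F)⁻¹ * t) := by rw [hm2, one_mul, mul_one]

/-- conjugating `m` by an element of the rank one group -/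
theorem conj_by_phiR (m : GL D.Idx F) (hm2 : m * m = 1) (r : ℕ) (hr : r < fd.n) (c : Fˣ)
    (h1 : ∀ t, m * C.c6.c2.xA r t * m⁻¹ = C.c6.c2.xA (fd.n - 1 - r) ((c : F) * t)) (X Z : SL2)
    (hXZ : X = Z * acj c X) :
    C.phiR F r X * m * (C.phiR F r X)⁻¹ = C.phiR F r Z * m := by
  have h2 := swap_of_sq C m hm2 r c h1
  have e1 : m * (C.phiR F r X)⁻¹ * m⁻¹ = (C.phiR F r (acj c X))⁻¹ := by
    rw [← conj_phiR C m r hr c h1 h2 X]
    group
  have e2 : C.phiR F r X * m * (C.phiR F r X)⁻¹ = C.phiR F r X * (m * (C.phiR F r X)⁻¹ * m⁻¹) * m := by group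
  have e3 : C.phiR F r X = C.phiR F r Z * C.phiR F r (acj c X) := by rw [← map_mul, ← hXZ]
  rw [e2, e1, e3]
  group

/-- **descent**: if `c = e²` then `m` is conjugate to `w_r(e⁻¹) m` -/
theorem descent (h2 : (2 : F) ≠ 0) (m : GL D.Idx F) (hm2 : m * m = 1) (r : ℕ) (hr : r < fd.n) (e : Fˣ)
    (h1 : ∀ t, m * C.c6.c2.xA r t * m⁻¹ = C.c6.c2.xA (fd.n - 1 - r) ((e : F) * (e : F) * t)) :
    ConjG D F m (C.phiR F r (StPresG.wM ((e : F)⁻¹) (inv_ne_zero e.ne_zero)) * m) := by
  have he : (e : F) ≠ 0 := e.ne_zero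
  let X : SL2 := mk2 1 (e : F)⁻¹ (-(e : F) / 2) (1 / 2) (by field_simp; ring)
  refine ⟨C.phiR F r X, C.phiR_mem_group r hr X, ?_⟩
  apply conj_by_phiR C m hm2 r hr (e * e) (by simpa using h1)
  apply StPresG.sl2_ext <;>
    simp [X, Matrix.SpecialLinearGroup.coe_mul, Matrix.mul_apply, Fin.sum_univ_two, he] <;> field_simp

/-- **twist**: over a finite field of odd order, `m` is conjugate to `h_r(-1) m` -/
theorem twist [Fintype F] (hodd : Fintype.card F % 2 = 1) (m : GL D.Idx F) (hm2 : m * m = 1) (r : ℕ)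
    (hr : r < fd.n) (c : Fˣ)
    (h1 : ∀ t, m * C.c6.c2.xA r t * m⁻¹ = C.c6.c2.xA (fd.n - 1 - r) ((c : F) * t)) :
    ConjG D F m (C.phiR F r (StPresG.dgM (-1 : F) (neg_ne_zero.mpr one_ne_zero)) * m) := by
  classical
  have hc : (c : F) ≠ 0 := c.ne_zero
  have hnc : -(c : F) ≠ 0 := neg_ne_zero.mpr hc
  -- a solution of `p² - c q² = -1`
  obtain ⟨p, q, hpq⟩ := FiniteField.exists_root_sum_quadratic (R := F)
    (f := Polynomial.X ^ 2)
    (g := Polynomial.C (-(c : F)) * Polynomial.X ^ 2 + Polynomial.C 0 * Polynomial.X + Polynomial.C 1)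
    (Polynomial.degree_X_pow 2) (Polynomial.degree_quadratic hnc) hodd
  simp only [Polynomial.eval_pow, Polynomial.eval_X, Polynomial.eval_add, Polynomial.eval_mul, Polynomial.eval_C,
    zero_mul, add_zero] at hpq
  let Y : SL2 := mk2 p q (-(c : F) * q) (-p) (by linear_combination -hpq)
  refine ⟨C.phiR F r Y, C.phiR_mem_group r hr Y, ?_⟩
  apply conj_by_phiR C m hm2 r hr c h1
  apply StPresG.sl2_ext <;>
    simp [Y, Matrix.SpecialLinearGroup.coe_mul, Matrix.mul_apply, Fin.sum_univ_two, hc]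



/-- the element `h_r(-1)` of `H` -/
noncomputable def hneg (C : Cert12 D fd fx fc fz) (F : Type*) [Field F] (r : ℕ) : GL D.Idx F :=
  C.phiR F r (StPresG.dgM (-1 : F) (neg_ne_zero.mpr one_ne_zero))

theorem hneg_mem_diag (r : ℕ) (hr : r < fd.n) : hneg C F r ∈ D.diagonalSubgroup F :=
  C.phiR_dgM_mem r hr _ _

theorem hneg_mem_group (r : ℕ) (hr : r < fd.n) : hneg C F r ∈ D.group F :=
  C.phiR_mem_group r hr _

theorem dE_hneg (r s : ℕ) (hr : r < fd.n) (hs : s < fd.n) : dE D (hneg C F r) s = (-1 : F) ^ (fd.pr s r) :=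
  C.dE_phiR_dgM r s hr hs _ _

theorem hneg_mul_self (r : ℕ) : hneg C F r * hneg C F r = 1 := by
  unfold hneg
  rw [← map_mul]
  have : StPresG.dgM (-1 : F) (neg_ne_zero.mpr one_ne_zero) * StPresG.dgM (-1 : F) (neg_ne_zero.mpr one_ne_zero) = 1 := by
    apply StPresG.sl2_ext <;>
      simp [Matrix.SpecialLinearGroup.coe_mul, Matrix.mul_apply, Fin.sum_univ_two]
  rw [this, map_one]

/-- **twist**, restated -/
theorem twist' [Fintype F] (hodd : Fintype.card F % 2 = 1) (m : GL D.Idx F) (hm2 : m * m = 1) (r : ℕ)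
    (hr : r < fd.n) (c : Fˣ)
    (h1 : ∀ t, m * C.c6.c2.xA r t * m⁻¹ = C.c6.c2.xA (fd.n - 1 - r) ((c : F) * t)) :
    ConjG D F m (hneg C F r * m) := twist C hodd m hm2 r hr c h1

end Cfsg.Agent.Lib.H12.OddInv
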