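import Mathlib
import Cfsg.Prelude.Def_ChevStructure
import Cfsg.Agent.Lib.H12.OddInvA
import Cfsg.Agent.Lib.H12.InvCell5
import Cfsg.Agent.Lib.H29.D4SingB
import Cfsg.Agent.Lib.H29.ChevF4s

/-!
# Involutions of `N` in odd characteristic: words, signs and the coefficients (generic)

For a word `w` in the fundamental reflections, `n_w x_s(t) n_w⁻¹ = x_{w s}(ε_w(s) t)` with an explicit sign
`ε_w(s) = wordS w s`.  An element `m ∈ N` inducing the permutation of `w` is `h n_w` with `h ∈ H`, so that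
`m x_s(t) m⁻¹ = x_{w s}(χ_{w s}(h) ε_w(s) t)`.
-/

set_option autoImplicit false
set_option linter.unusedSectionVars false
set_option linter.unusedSimpArgs false
set_option linter.unusedVariables false

namespace Cfsg.Agent.Lib.H12.OddInv

open Cfsg.Lie Matrix Cfsg.Agent.Lib.H12 Cfsg.Agent.Lib.H29.Chev Cfsg.Agent.Lib.H12.InvCell

variable {D : ChevalleyDatum} {fd : FD} {fx : FX} {fc : FC} {fz : FZ} {F : Type*} [Field F]

/-- the sign of the action of `n_w` on the root element `x_s` -/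
def wordS (fd : FD) (fx : FX) : List ℕ → ℕ → ℤ
  | [], _ => 1
  | i :: w, s => fd.neta fx (fd.simples.getD i 0) (fd.wordP fx w s) * wordS fd fx w s

theorem wordS_cases (w : List ℕ) (s : ℕ) : wordS fd fx w s = 1 ∨ wordS fd fx w s = -1 := by
  induction w with
  | nil => left; rfl
  | cons i w ih =>
    simp only [wordS]
    rcases fd.neta_cases (fx := fx) (fd.simples.getD i 0) (fd.wordP fx w s) with h | h <;>
      rcases ih with h' | h' <;> rw [h, h'] <;> simp

theorem wordS_sq (w : List ℕ) (s : ℕ) : wordS fd fx w s * wordS fd fx w s = 1 := by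
  rcases wordS_cases (fd := fd) (fx := fx) w s with h | h <;> rw [h] <;> norm_num

theorem wordS_sq_cast (w : List ℕ) (s : ℕ) :
    ((wordS fd fx w s : ℤ) : F) * ((wordS fd fx w s : ℤ) : F) = 1 := by
  rw [← Int.cast_mul, wordS_sq, Int.cast_one]

variable (C : Cert12 D fd fx fc fz)
include C

/-- the action of `n_w` on the root elements -/
theorem wordN_conj_x (w : List ℕ) (hw : IsWd fd.l w) (s : ℕ) (hs : s < fd.n) (t : F) :
    C.wordN F w * C.c6.c2.xA s t * (C.wordN F w)⁻¹ =
      C.c6.c2.xA (fd.wordP fx w s) (((wordS fd fx w s : ℤ) : F) * t) := by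
  induction w with
  | nil => simp [Cert12.wordN, FD.wordP, wordS]
  | cons i w ih =>
    obtain ⟨hi, hw'⟩ := hw.of_cons
    simp only [Cert12.wordN, dif_pos hi, FD.wordP, wordS]
    have hs' := C.wordP_lt w hw' s hs
    have e : C.c6.c2.nG (fd.simples.getD i 0) (C.c6.c2.simple_lt i hi) * C.wordN F w * C.c6.c2.xA s t *
        (C.c6.c2.nG (fd.simples.getD i 0) (C.c6.c2.simple_lt i hi) * C.wordN F w)⁻¹ =
        C.c6.c2.nG (fd.simples.getD i 0) (C.c6.c2.simple_lt i hi) *
          (C.wordN F w * C.c6.c2.xA s t * (C.wordN F w)⁻¹) *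
          (C.c6.c2.nG (fd.simples.getD i 0) (C.c6.c2.simple_lt i hi))⁻¹ := by group
    rw [e, ih hw', C.c6.c2.nG_conj_x _ _ (C.c6.c2.simple_lt i hi) hs' (fd.conj_spec C.c6.c5.c3.conj i _ hi hs')]
    congr 1
    push_cast
    ring

/-- the signs at a root and at its negative agree -/
theorem wordS_neg (w : List ℕ) (hw : IsWd fd.l w) (s : ℕ) (hs : s < fd.n) :
    wordS fd fx w (fd.n - 1 - s) = wordS fd fx w s := by
  induction w with
  | nil => rfl
  | cons i w ih =>
    obtain ⟨hi, hw'⟩ := hw.of_cons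
    simp only [wordS]
    rw [ih hw', C.wordP_neg w hw' s hs]
    congr 1
    have hs' := C.wordP_lt w hw' s hs
    obtain ⟨_, _, _, _, h5, _⟩ := fd.sim_spec C.c6.c2.sim i (fd.wordP fx w s) hi hs'
    rcases fd.neta_cases (fx := fx) (fd.simples.getD i 0) (fd.wordP fx w s) with h | h <;>
      rcases fd.neta_cases (fx := fx) (fd.simples.getD i 0) (fd.n - 1 - fd.wordP fx w s) with h' | h' <;>
      rw [h, h'] at h5 ⊢ <;> norm_num at h5

/-- an involution of `N` induces an involution on the roots -/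
theorem perm_invol (m : GL D.Idx F) (hm2 : m * m = 1) (π : ℕ → ℕ) (hπ : C.c6.c2.Perm m π) :
    ∀ s < fd.n, π (π s) = s := by
  have h1 := C.c6.perm_mul hπ hπ
  rw [hm2] at h1
  exact C.perm_unique 1 _ _ h1 C.c6.perm_one

/-- the coefficients of an element of `N` inducing the permutation of the word `w` -/
theorem coef (m : GL D.Idx F) (hm : m ∈ D.monomialSubgroup F) (w : List ℕ) (hw : IsWd fd.l w)
    (hπ : C.c6.c2.Perm m (fd.wordP fx w)) :
    m * (C.wordN F w)⁻¹ ∈ D.diagonalSubgroup F ∧ ∀ s < fd.n, ∀ t : F, m * C.c6.c2.xA s t * m⁻¹ =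
      C.c6.c2.xA (fd.wordP fx w s)
        (dE D (m * (C.wordN F w)⁻¹) (fd.wordP fx w s) * ((wordS fd fx w s : ℤ) : F) * t) := by
  have hd : m * (C.wordN F w)⁻¹ ∈ D.diagonalSubgroup F :=
    C.mul_inv_mem_diag' m (C.wordN F w) hm (C.wordN_mem w) _ _ hπ (C.perm_wordN w hw) (fun _ _ => rfl)
  refine ⟨hd, fun s hs t => ?_⟩
  set h := m * (C.wordN F w)⁻¹ with hh
  have e : m * C.c6.c2.xA s t * m⁻¹ = h * (C.wordN F w * C.c6.c2.xA s t * (C.wordN F w)⁻¹) * h⁻¹ := by
    rw [hh]; group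
  rw [e, wordN_conj_x C w hw s hs, C.diag_conj_xA h hd _ (C.wordP_lt w hw s hs), mul_assoc]

/-- multiplicativity of the characters along sums of roots -/
theorem dE_add (h : GL D.Idx F) (hh : h ∈ D.diagonalSubgroup F) (a b c : ℕ) (ha : a < fd.n) (hb : b < fd.n)
    (hc : c < fd.n) (hadd : ∀ j < fd.l, fd.rcZ fx c j = fd.rcZ fx a j + fd.rcZ fx b j) :
    dE D h c = dE D h a * dE D h b := by
  let u : Fin fd.l → Fˣ := fun j =>
    Units.mk0 (dE D h (fd.simples.getD j.val 0)) (C.dE_ne_zero h hh _ (C.c6.c2.simple_lt j.val j.isLt))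
  have hu : ∀ j : Fin fd.l, ((u j : Fˣ) : F) = dE D h (fd.simples.getD j.val 0) := fun j => rfl
  rw [C.dE_rc h hh u hu a ha, C.dE_rc h hh u hu b hb, C.dE_rc h hh u hu c hc, ← Units.val_mul,
    ← Finset.prod_mul_distrib]
  congr 1
  apply Finset.prod_congr rfl
  intro j _
  rw [hadd j.val j.isLt, _root_.zpow_add]

end Cfsg.Agent.Lib.H12.OddInv
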