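import Mathlib
import Cfsg.Prelude.Def_ChevStructure
import Cfsg.Agent.Lib.H12.OddInvB

/-!
# Involutions of `N` in odd characteristic: the steps of the descent to `H` (generic)

`Good w`: every involution of `N` inducing on the roots the permutation of the word `w` is conjugate in `G` to an
element of `H`.  The steps: the identity (`good_of_pos`), conjugation by `N` (`good_of_conj`), the descent at a
root `β` inverted by `w` whose coefficient is a square because of a pair `δ, δ + β` swapped by `w` (`stepB`), and the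
choice among three roots `r, r', r + r'` inverted by `w`, after a twist if necessary (`stepA`).
-/

set_option autoImplicit false
set_option linter.unusedSectionVars false
set_option linter.unusedSimpArgs false
set_option linter.unusedVariables false

namespace Cfsg.Agent.Lib.H12.OddInv

open Cfsg.Lie Matrix Cfsg.Agent.Lib.H12 Cfsg.Agent.Lib.H29.Chev Cfsg.Agent.Lib.H12.InvCell

variable {D : ChevalleyDatum} {fd : FD} {fx : FX} {fc : FC} {fz : FZ} {F : Type*} [Field F]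

/-- every involution of `N` inducing the permutation of `w` is conjugate to an element of `H` -/
def Good (C : Cert12 D fd fx fc fz) (F : Type*) [Field F] (w : List ℕ) : Prop :=
  ∀ m ∈ D.monomialSubgroup F, m * m = 1 → C.c6.c2.Perm m (fd.wordP fx w) →
    ∃ g ∈ D.group F, g * m * g⁻¹ ∈ D.diagonalSubgroup F

instance decIsWdOdd (k : ℕ) (w : List ℕ) : Decidable (IsWd k w) := by
  unfold IsWd
  infer_instance

theorem isSquare_mul_of_not' [Fintype F] {a b : F} (ha : ¬ IsSquare a) (hb : ¬ IsSquare b) : IsSquare (a * b) := by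
  classical
  have ha0 : a ≠ 0 := by rintro rfl; exact ha (IsSquare.zero)
  have hb0 : b ≠ 0 := by rintro rfl; exact hb (IsSquare.zero)
  rw [← quadraticChar_one_iff_isSquare (mul_ne_zero ha0 hb0), map_mul,
    quadraticChar_neg_one_iff_not_isSquare.mpr ha, quadraticChar_neg_one_iff_not_isSquare.mpr hb]
  norm_num

variable (C : Cert12 D fd fx fc fz)
include C

theorem good_of_pos (w : List ℕ) (hpos : ∀ i < fd.l, fd.n / 2 ≤ fd.wordP fx w (fd.simples.getD i 0)) :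
    Good C F w := by
  intro m hm _ hπ
  exact ⟨1, one_mem _, by simpa using C.mem_diag_of_pos m hm _ hπ hpos⟩

/-- conjugation of an involution of `N` by `n_v` -/
theorem conj_wordN (m : GL D.Idx F) (hm : m ∈ D.monomialSubgroup F) (hm2 : m * m = 1) (w v : List ℕ)
    (hv : IsWd fd.l v) (hπ : C.c6.c2.Perm m (fd.wordP fx w)) :
    C.wordN F v * m * (C.wordN F v)⁻¹ ∈ D.monomialSubgroup F ∧
    (C.wordN F v * m * (C.wordN F v)⁻¹) * (C.wordN F v * m * (C.wordN F v)⁻¹) = 1 ∧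
    C.c6.c2.Perm (C.wordN F v * m * (C.wordN F v)⁻¹) (fd.wordP fx (v ++ w ++ v.reverse)) := by
  have hn : C.wordN F v ∈ D.monomialSubgroup F := C.wordN_mem v
  refine ⟨mul_mem (mul_mem hn hm) (inv_mem hn), ?_, ?_⟩
  · have : (C.wordN F v * m * (C.wordN F v)⁻¹) * (C.wordN F v * m * (C.wordN F v)⁻¹) =
        C.wordN F v * (m * m) * (C.wordN F v)⁻¹ := by group
    rw [this, hm2]; group
  · have h1 := C.c6.perm_mul (C.c6.perm_mul (C.perm_wordN (F := F) v hv) hπ) (perm_wordN_inv C (F := F) v hv)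
    apply C.perm_congr _ _ _ h1
    intro s hs
    rw [fd.wordP_append, fd.wordP_append]
    rfl

theorem good_of_conj (w w₀ v : List ℕ) (hv : IsWd fd.l v)
    (he : ∀ s < fd.n, fd.wordP fx (v ++ w ++ v.reverse) s = fd.wordP fx w₀ s) (h0 : Good C F w₀) :
    Good C F w := by
  intro m hm hm2 hπ
  obtain ⟨hm', hm'2, hπ'⟩ := conj_wordN C m hm hm2 w v hv hπ
  obtain ⟨g, hg, hgm⟩ := h0 _ hm' hm'2 (C.perm_congr _ _ _ hπ' he)
  refine ⟨g * C.wordN F v, mul_mem hg (C.c6.c2.monomial_le_group (C.wordN_mem v)), ?_⟩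
  have : g * C.wordN F v * m * (g * C.wordN F v)⁻¹ = g * (C.wordN F v * m * (C.wordN F v)⁻¹) * g⁻¹ := by group
  rw [this]; exact hgm

/-- the descent at a root `y` inverted by `m` with a square coefficient, after moving `y` to a fundamental root -/
theorem desc_at (h2 : (2 : F) ≠ 0) (m : GL D.Idx F) (hm : m ∈ D.monomialSubgroup F) (hm2 : m * m = 1)
    (w : List ℕ) (hπ : C.c6.c2.Perm m (fd.wordP fx w)) (y : ℕ) (hy : y < fd.n) (e : Fˣ)
    (he : ∀ t, m * C.c6.c2.xA y t * m⁻¹ = C.c6.c2.xA (fd.n - 1 - y) ((e : F) * (e : F) * t))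
    (v : List ℕ) (hv : IsWd fd.l v) (i : ℕ) (hi : i < fd.l) (h6 : fd.wordP fx v y = fd.simples.getD i 0)
    (hG : Good C F (i :: (v ++ w ++ v.reverse))) :
    ∃ g ∈ D.group F, g * m * g⁻¹ ∈ D.diagonalSubgroup F := by
  obtain ⟨hm', hm'2, hπ'⟩ := conj_wordN C m hm hm2 w v hv hπ
  set n := C.wordN F v with hn
  set α := fd.simples.getD i 0 with hα
  have hαn : α < fd.n := C.c6.c2.simple_lt i hi
  have hS := wordS_sq_cast (fd := fd) (fx := fx) (F := F) v y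
  have key : ∀ t, (n * m * n⁻¹) * C.c6.c2.xA α t * (n * m * n⁻¹)⁻¹ =
      C.c6.c2.xA (fd.n - 1 - α) ((e : F) * (e : F) * t) := by
    intro t
    have c1 := wordN_conj_x C v hv y hy (((wordS fd fx v y : ℤ) : F) * t)
    rw [h6, ← mul_assoc, hS, one_mul] at c1
    have c2 := wordN_conj_x C v hv (fd.n - 1 - y) (by omega) ((e : F) * (e : F) * (((wordS fd fx v y : ℤ) : F) * t))
    rw [C.wordP_neg v hv y hy, h6, wordS_neg C v hv y hy] at c2
    have e1 : ((wordS fd fx v y : ℤ) : F) * ((e : F) * (e : F) * (((wordS fd fx v y : ℤ) : F) * t)) =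
        (e : F) * (e : F) * t := by
      calc ((wordS fd fx v y : ℤ) : F) * ((e : F) * (e : F) * (((wordS fd fx v y : ℤ) : F) * t))
          = (((wordS fd fx v y : ℤ) : F) * ((wordS fd fx v y : ℤ) : F)) * ((e : F) * (e : F) * t) := by ring
        _ = (e : F) * (e : F) * t := by rw [hS, one_mul]
    rw [e1] at c2
    rw [← hn] at c1 c2
    rw [← c1, ← c2, ← he]
    group
  obtain ⟨x, hx, hxm⟩ := descent C h2 _ hm'2 α hαn e key
  set m₂ := C.phiR F α (StPresG.wM ((e : F)⁻¹) (inv_ne_zero e.ne_zero)) * (n * m * n⁻¹) with hm₂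
  have hm₂N : m₂ ∈ D.monomialSubgroup F := mul_mem (C.phiR_wM_mem_monomial i hi _ _) hm'
  have hm₂2 : m₂ * m₂ = 1 := by
    rw [← hxm]
    have : x * (n * m * n⁻¹) * x⁻¹ * (x * (n * m * n⁻¹) * x⁻¹) =
        x * ((n * m * n⁻¹) * (n * m * n⁻¹)) * x⁻¹ := by group
    rw [this, hm'2]; group
  have hπ₂ : C.c6.c2.Perm m₂ (fd.wordP fx (i :: (v ++ w ++ v.reverse))) := by
    have := C.c6.perm_mul (C.perm_phiR_wM i hi ((e : F)⁻¹) (inv_ne_zero e.ne_zero)) hπ'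
    exact C.perm_congr _ _ _ this (fun s hs => rfl)
  obtain ⟨g, hg, hgm⟩ := hG m₂ hm₂N hm₂2 hπ₂
  refine ⟨g * x * n, mul_mem (mul_mem hg hx) (C.c6.c2.monomial_le_group (C.wordN_mem v)), ?_⟩
  have : g * x * n * m * (g * x * n)⁻¹ = g * (x * (n * m * n⁻¹) * x⁻¹) * g⁻¹ := by group
  rw [this, hxm]
  exact hgm

/-- a root `β` inverted by `w` has a square coefficient if `w` swaps `δ` and `δ + β` (and the signs agree) -/
theorem sq_of_pair (m : GL D.Idx F) (hm : m ∈ D.monomialSubgroup F) (hm2 : m * m = 1) (w : List ℕ)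
    (hw : IsWd fd.l w) (hπ : C.c6.c2.Perm m (fd.wordP fx w)) (β δ δ' : ℕ) (hβ : β < fd.n) (hδ : δ < fd.n)
    (hδ' : δ' < fd.n) (h1 : fd.wordP fx w β = fd.n - 1 - β) (h3 : fd.wordP fx w δ = δ')
    (h4 : fd.wordP fx w δ' = δ) (hadd : ∀ j < fd.l, fd.rcZ fx δ' j = fd.rcZ fx δ j + fd.rcZ fx β j)
    (h5 : wordS fd fx w β * wordS fd fx w δ * wordS fd fx w δ' = 1) :
    ∃ e : Fˣ, ∀ t, m * C.c6.c2.xA β t * m⁻¹ = C.c6.c2.xA (fd.n - 1 - β) ((e : F) * (e : F) * t) := by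
  obtain ⟨hd, hc⟩ := coef C m hm w hw hπ
  set h := m * (C.wordN F w)⁻¹ with hh
  have hA : dE D h δ ≠ 0 := C.dE_ne_zero h hd δ hδ
  have hB : dE D h β ≠ 0 := C.dE_ne_zero h hd β hβ
  have cδ := hc δ hδ 1
  have cδ' := hc δ' hδ' (dE D h δ' * ((wordS fd fx w δ : ℤ) : F) * 1)
  rw [h3] at cδ
  rw [h4] at cδ'
  have hinv : m⁻¹ = m := inv_eq_of_mul_eq_one_right hm2
  have e1 : m * C.c6.c2.xA δ' (dE D h δ' * ((wordS fd fx w δ : ℤ) : F) * 1) * m⁻¹ = C.c6.c2.xA δ 1 := by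
    rw [← cδ, hinv]
    calc m * (m * C.c6.c2.xA δ 1 * m) * m = (m * m) * C.c6.c2.xA δ 1 * (m * m) := by group
      _ = C.c6.c2.xA δ 1 := by rw [hm2, one_mul, mul_one]
  rw [e1] at cδ'
  have K := C.xA_param_inj' δ hδ _ _ cδ'
  rw [dE_add C h hd δ β δ' hδ hβ hδ' hadd] at K
  have H : ((wordS fd fx w β : ℤ) : F) * ((wordS fd fx w δ : ℤ) : F) * ((wordS fd fx w δ' : ℤ) : F) = 1 := by
    rw [← Int.cast_mul, ← Int.cast_mul, h5, Int.cast_one]
  have key : ((wordS fd fx w β : ℤ) : F) = dE D h δ * dE D h δ * dE D h β := by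
    linear_combination (((wordS fd fx w β : ℤ) : F)) * K + (dE D h δ * dE D h δ * dE D h β) * H
  refine ⟨Units.mk0 _ hA, fun t => ?_⟩
  rw [hc β hβ t, h1, C.dE_neg h hd β hβ, key]
  congr 1
  simp only [Units.val_mk0]
  field_simp

/-- **step B** -/
theorem stepB (h2 : (2 : F) ≠ 0) (w v : List ℕ) (i β δ δ' : ℕ) (hw : IsWd fd.l w) (hv : IsWd fd.l v)
    (hi : i < fd.l) (hβ : β < fd.n) (hδ : δ < fd.n) (hδ' : δ' < fd.n)
    (h1 : fd.wordP fx w β = fd.n - 1 - β) (h3 : fd.wordP fx w δ = δ') (h4 : fd.wordP fx w δ' = δ)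
    (hadd : ∀ j < fd.l, fd.rcZ fx δ' j = fd.rcZ fx δ j + fd.rcZ fx β j)
    (h5 : wordS fd fx w β * wordS fd fx w δ * wordS fd fx w δ' = 1)
    (h6 : fd.wordP fx v β = fd.simples.getD i 0)
    (hG : Good C F (i :: (v ++ w ++ v.reverse))) : Good C F w := by
  intro m hm hm2 hπ
  obtain ⟨e, he⟩ := sq_of_pair C m hm hm2 w hw hπ β δ δ' hβ hδ hδ' h1 h3 h4 hadd h5
  exact desc_at C h2 m hm hm2 w hπ β hβ e he v hv i hi h6 hG

/-- among three roots `r, r', r + r'` inverted by `w`, one has a square coefficient, after replacing `m` by the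
conjugate `h_γ(-1) m` if necessary -/
theorem sq_of_triple [Fintype F] (hodd : Fintype.card F % 2 = 1) (m : GL D.Idx F) (hm : m ∈ D.monomialSubgroup F)
    (hm2 : m * m = 1) (w : List ℕ) (hw : IsWd fd.l w) (hπ : C.c6.c2.Perm m (fd.wordP fx w))
    (r r' r'' x γ : ℕ) (hr : r < fd.n) (hr' : r' < fd.n) (hr'' : r'' < fd.n) (hγ : γ < fd.n)
    (p1 : fd.wordP fx w r = fd.n - 1 - r) (p2 : fd.wordP fx w r' = fd.n - 1 - r')
    (p3 : fd.wordP fx w r'' = fd.n - 1 - r'') (pγ : fd.wordP fx w γ = fd.n - 1 - γ)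
    (hadd : ∀ j < fd.l, fd.rcZ fx r'' j = fd.rcZ fx r j + fd.rcZ fx r' j)
    (hx : x = r ∨ x = r' ∨ x = r'') (hpar : fd.pr (fd.n - 1 - x) γ % 2 = 1) :
    ∃ m' : GL D.Idx F, ConjG D F m m' ∧ m' ∈ D.monomialSubgroup F ∧ m' * m' = 1 ∧
      C.c6.c2.Perm m' (fd.wordP fx w) ∧
      ∃ y, (y = r ∨ y = r' ∨ y = r'') ∧ ∃ e : Fˣ, ∀ t, m' * C.c6.c2.xA y t * m'⁻¹ =
        C.c6.c2.xA (fd.n - 1 - y) ((e : F) * (e : F) * t) := by
  classical
  obtain ⟨hd, hc⟩ := coef C m hm w hw hπ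
  set h := m * (C.wordN F w)⁻¹ with hh
  have hS0 : ∀ s, ((wordS fd fx w s : ℤ) : F) ≠ 0 := by
    intro s h0
    have := wordS_sq_cast (fd := fd) (fx := fx) (F := F) w s
    rw [h0, mul_zero] at this
    exact zero_ne_one this
  have hcy : ∀ y < fd.n, fd.wordP fx w y = fd.n - 1 - y → ∀ t, m * C.c6.c2.xA y t * m⁻¹ =
      C.c6.c2.xA (fd.n - 1 - y) ((dE D h y)⁻¹ * ((wordS fd fx w y : ℤ) : F) * t) := by
    intro y hy py t
    rw [hc y hy t, py, C.dE_neg h hd y hy]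
  have hc0 : ∀ y < fd.n, (dE D h y)⁻¹ * ((wordS fd fx w y : ℤ) : F) ≠ 0 := fun y hy =>
    mul_ne_zero (inv_ne_zero (C.dE_ne_zero h hd y hy)) (hS0 y)
  have fin : ∀ (m' : GL D.Idx F) (y : ℕ) (c : F), c ≠ 0 → IsSquare c →
      (∀ t, m' * C.c6.c2.xA y t * m'⁻¹ = C.c6.c2.xA (fd.n - 1 - y) (c * t)) →
      ∃ e : Fˣ, ∀ t, m' * C.c6.c2.xA y t * m'⁻¹ = C.c6.c2.xA (fd.n - 1 - y) ((e : F) * (e : F) * t) := by
    rintro m' y c hc0 ⟨e0, he0⟩ hcm
    have : e0 ≠ 0 := by rintro rfl; exact hc0 (by rw [he0, mul_zero])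
    exact ⟨Units.mk0 e0 this, fun t => by rw [hcm t, he0]; rfl⟩
  by_cases s1 : IsSquare ((dE D h r)⁻¹ * ((wordS fd fx w r : ℤ) : F))
  · exact ⟨m, ConjG.refl D F m, hm, hm2, hπ, r, Or.inl rfl, fin m r _ (hc0 r hr) s1 (hcy r hr p1)⟩
  by_cases s2 : IsSquare ((dE D h r')⁻¹ * ((wordS fd fx w r' : ℤ) : F))
  · exact ⟨m, ConjG.refl D F m, hm, hm2, hπ, r', Or.inr (Or.inl rfl), fin m r' _ (hc0 r' hr') s2 (hcy r' hr' p2)⟩
  by_cases s3 : IsSquare ((dE D h r'')⁻¹ * ((wordS fd fx w r'' : ℤ) : F))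
  · exact ⟨m, ConjG.refl D F m, hm, hm2, hπ, r'', Or.inr (Or.inr rfl), fin m r'' _ (hc0 r'' hr'') s3 (hcy r'' hr'' p3)⟩
  -- all three are non-squares: then `-1` is a non-square
  have q1 := wordS_sq_cast (fd := fd) (fx := fx) (F := F) w r
  have q2 := wordS_sq_cast (fd := fd) (fx := fx) (F := F) w r'
  have rel : (dE D h r'')⁻¹ * ((wordS fd fx w r'' : ℤ) : F) =
      ((dE D h r)⁻¹ * ((wordS fd fx w r : ℤ) : F)) * ((dE D h r')⁻¹ * ((wordS fd fx w r' : ℤ) : F)) *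
        (((wordS fd fx w r : ℤ) : F) * ((wordS fd fx w r' : ℤ) : F) * ((wordS fd fx w r'' : ℤ) : F)) := by
    rw [dE_add C h hd r r' r'' hr hr' hr'' hadd, mul_inv]
    linear_combination (-((dE D h r)⁻¹ * (dE D h r')⁻¹ * ((wordS fd fx w r'' : ℤ) : F) *
      ((wordS fd fx w r' : ℤ) : F) * ((wordS fd fx w r' : ℤ) : F))) * q1 -
      ((dE D h r)⁻¹ * (dE D h r')⁻¹ * ((wordS fd fx w r'' : ℤ) : F)) * q2
  have hε : ((wordS fd fx w r : ℤ) : F) * ((wordS fd fx w r' : ℤ) : F) * ((wordS fd fx w r'' : ℤ) : F) = 1 ∨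
      ((wordS fd fx w r : ℤ) : F) * ((wordS fd fx w r' : ℤ) : F) * ((wordS fd fx w r'' : ℤ) : F) = -1 := by
    rcases wordS_cases (fd := fd) (fx := fx) w r with a | a <;>
      rcases wordS_cases (fd := fd) (fx := fx) w r' with b | b <;>
      rcases wordS_cases (fd := fd) (fx := fx) w r'' with c | c <;> rw [a, b, c] <;> simp
  have hsq12 := isSquare_mul_of_not' s1 s2
  have hm1 : ¬ IsSquare (-1 : F) := by
    intro hsq
    apply s3
    rcases hε with e1 | e1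
    · rw [rel, e1, mul_one]; exact hsq12
    · rw [rel, e1]; exact hsq12.mul hsq
  -- the twist
  obtain ⟨g, hg, hgm⟩ := twist' C hodd m hm2 γ hγ (Units.mk0 _ (hc0 γ hγ)) (hcy γ hγ pγ)
  have hkd := hneg_mem_diag (F := F) C γ hγ
  set k := hneg C F γ with hk
  have hHN : D.diagonalSubgroup F ≤ D.monomialSubgroup F := le_sup_left
  have hm'2 : (k * m) * (k * m) = 1 := by
    rw [← hgm]
    have : g * m * g⁻¹ * (g * m * g⁻¹) = g * (m * m) * g⁻¹ := by group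
    rw [this, hm2]; group
  have hπ' : C.c6.c2.Perm (k * m) (fd.wordP fx w) :=
    C.perm_congr _ _ _ (C.c6.perm_mul (C.c6.perm_diag _ hkd) hπ) (fun s hs => rfl)
  have tw : ∀ y < fd.n, fd.wordP fx w y = fd.n - 1 - y →
      ¬ IsSquare ((dE D h y)⁻¹ * ((wordS fd fx w y : ℤ) : F)) → fd.pr (fd.n - 1 - y) γ % 2 = 1 →
      ∃ e : Fˣ, ∀ t, (k * m) * C.c6.c2.xA y t * (k * m)⁻¹ =
        C.c6.c2.xA (fd.n - 1 - y) ((e : F) * (e : F) * t) := by
    intro y hy py sy hp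
    have hodd' : Odd (fd.pr (fd.n - 1 - y) γ) := Int.odd_iff.mpr hp
    apply fin (k * m) y (-1 * ((dE D h y)⁻¹ * ((wordS fd fx w y : ℤ) : F)))
      (mul_ne_zero (neg_ne_zero.mpr one_ne_zero) (hc0 y hy)) (isSquare_mul_of_not' hm1 sy)
    intro t
    have e1 : (k * m) * C.c6.c2.xA y t * (k * m)⁻¹ = k * (m * C.c6.c2.xA y t * m⁻¹) * k⁻¹ := by group
    rw [e1, hcy y hy py t, C.diag_conj_xA k hkd _ (by omega), hk, dE_hneg C γ _ hγ (by omega),
      hodd'.neg_one_zpow]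
    congr 1
    ring
  refine ⟨k * m, ⟨g, hg, hgm⟩, mul_mem (hHN hkd) hm, hm'2, hπ', x, hx, ?_⟩
  rcases hx with rfl | rfl | rfl
  · exact tw _ hr p1 s1 hpar
  · exact tw _ hr' p2 s2 hpar
  · exact tw _ hr'' p3 s3 hpar

/-- **step A** -/
theorem stepA [Fintype F] (hodd : Fintype.card F % 2 = 1) (h2 : (2 : F) ≠ 0) (w : List ℕ) (hw : IsWd fd.l w)
    (r r' r'' x γ : ℕ) (hr : r < fd.n) (hr' : r' < fd.n) (hr'' : r'' < fd.n) (hγ : γ < fd.n)
    (p1 : fd.wordP fx w r = fd.n - 1 - r) (p2 : fd.wordP fx w r' = fd.n - 1 - r')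
    (p3 : fd.wordP fx w r'' = fd.n - 1 - r'') (pγ : fd.wordP fx w γ = fd.n - 1 - γ)
    (hadd : ∀ j < fd.l, fd.rcZ fx r'' j = fd.rcZ fx r j + fd.rcZ fx r' j)
    (hx : x = r ∨ x = r' ∨ x = r'') (hpar : fd.pr (fd.n - 1 - x) γ % 2 = 1)
    (v1 v2 v3 : List ℕ) (i1 i2 i3 : ℕ) (hv1 : IsWd fd.l v1) (hv2 : IsWd fd.l v2) (hv3 : IsWd fd.l v3)
    (hi1 : i1 < fd.l) (hi2 : i2 < fd.l) (hi3 : i3 < fd.l)
    (k1 : fd.wordP fx v1 r = fd.simples.getD i1 0) (k2 : fd.wordP fx v2 r' = fd.simples.getD i2 0)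
    (k3 : fd.wordP fx v3 r'' = fd.simples.getD i3 0)
    (G1 : Good C F (i1 :: (v1 ++ w ++ v1.reverse))) (G2 : Good C F (i2 :: (v2 ++ w ++ v2.reverse)))
    (G3 : Good C F (i3 :: (v3 ++ w ++ v3.reverse))) : Good C F w := by
  intro m hm hm2 hπ
  obtain ⟨m', ⟨g, hg, hgm⟩, hm', hm'2, hπ', y, hy, e, he⟩ :=
    sq_of_triple C hodd m hm hm2 w hw hπ r r' r'' x γ hr hr' hr'' hγ p1 p2 p3 pγ hadd hx hpar
  have fin : (∃ g' ∈ D.group F, g' * m' * g'⁻¹ ∈ D.diagonalSubgroup F) →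
      ∃ g ∈ D.group F, g * m * g⁻¹ ∈ D.diagonalSubgroup F := by
    rintro ⟨g', hg', hgm'⟩
    refine ⟨g' * g, mul_mem hg' hg, ?_⟩
    have : g' * g * m * (g' * g)⁻¹ = g' * (g * m * g⁻¹) * g'⁻¹ := by group
    rw [this, hgm]; exact hgm'
  apply fin
  rcases hy with rfl | rfl | rfl
  · exact desc_at C h2 m' hm' hm'2 w hπ' _ hr e he v1 hv1 i1 hi1 k1 G1
  · exact desc_at C h2 m' hm' hm'2 w hπ' _ hr' e he v2 hv2 i2 hi2 k2 G2
  · exact desc_at C h2 m' hm' hm'2 w hπ' _ hr'' e he v3 hv3 i3 hi3 k3 G3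

end Cfsg.Agent.Lib.H12.OddInv
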