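import Mathlib
import Cfsg.Prelude.Def_ChevStructure
import Cfsg.Agent.Lib.H12.OddInvC
import Cfsg.Agent.Lib.H6.InvTab

/-!
# Involutions in odd characteristic: the table-driven front end (generic, characteristic free)

From helper6's table of the subsets of the fundamental roots (`H6.Inv.chkEnt`): every involution of the group is
conjugate to an involution of `N` inducing the permutation of the word of an admissible entry of the table.  If all these
words are `Good` (every involution of `N` over them is conjugate into `H`), every involution is conjugate into `H`.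
A Boolean certificate reduces the words of the table to a list of representatives by conjugation in `W`.
-/

set_option autoImplicit false
set_option linter.unusedSectionVars false
set_option linter.unusedSimpArgs false
set_option linter.unusedVariables false

namespace Cfsg.Agent.Lib.H12.OddInv

open Cfsg Cfsg.Lie Matrix Cfsg.Agent.Lib.H12 Cfsg.Agent.Lib.H29.Chev Cfsg.Agent.Lib.H12.InvCell
  Cfsg.Agent.Lib.H6.Inv

variable {D : ChevalleyDatum} {fd : FD} {fx : FX} {fc : FC} {fz : FZ} {F : Type*} [Field F]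

variable (C : Cert12 D fd fx fc fz)
include C

/-- every involution is conjugate to an involution of `N` inducing the permutation of an admissible entry -/
theorem exists_conj_word [Finite F] (hlow : LowStmt fd fx) (tab : ℕ → Ent)
    (htab : ∀ k < 2 ^ fd.l, chkEnt fd fx k (tab k) = true)
    (g : GL D.Idx F) (hg : g ∈ D.group F) (hg2 : g * g = 1) :
    ∃ k < 2 ^ fd.l, ∃ Ws, tab k = .inr Ws ∧ IsWd fd.l (entW (.inr Ws)) ∧
      ∃ z ∈ D.group F, ∃ m ∈ D.monomialSubgroup F, z * g * z⁻¹ = m ∧ m * m = 1 ∧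
        C.c6.c2.Perm m (fd.wordP fx (entW (.inr Ws))) := by
  classical
  have hCS : CombStmt fd fx := fun π hlin hlt hinv hJ r hr hpos hπr =>
    Cfsg.Agent.Lib.H10.IC.comb C π hlin hlt hinv hJ r hr hpos hπr
  obtain ⟨z, hz, m, hm, hzm, π, hπ, hlin, hinv, hJ, hcomb⟩ :=
    exists_conj_monomial C (suppStmt C) hCS hlow g hg hg2
  set f : Fin fd.l → Bool := fun i => decide (π (fd.simples.getD i.val 0) = fd.simples.getD i.val 0) with hf
  set k := Nat.ofBits f with hk
  have hklt : k < 2 ^ fd.l := Nat.ofBits_lt_two_pow f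
  have hbit : ∀ i (hi : i < fd.l), k.testBit i = decide (π (fd.simples.getD i 0) = fd.simples.getD i 0) := by
    intro i hi
    rw [hk, Nat.testBit_ofBits_lt f i hi]
  have hJ' : ∀ i < fd.l, (k.testBit i = true → π (fd.simples.getD i 0) = fd.simples.getD i 0) ∧
      (k.testBit i = false → π (fd.simples.getD i 0) < fd.n / 2) := by
    intro i hi
    rw [hbit i hi]
    constructor
    · intro h; exact of_decide_eq_true h
    · intro h
      have hne : π (fd.simples.getD i 0) ≠ fd.simples.getD i 0 := of_decide_eq_false h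
      rcases hJ i hi with h1 | h1
      · exact h1
      · exact absurd h1 hne
  have hcomb' : ∀ r, r < fd.n → fd.n / 2 ≤ r → fd.n / 2 ≤ π r →
      ∀ j < fd.l, π (fd.simples.getD j 0) < fd.n / 2 → fd.rcZ fx r j = 0 :=
    fun r hr hpos hπr => (hcomb r hr hpos hπr).2
  have hmm : m * m = 1 := by
    rw [← hzm]
    calc z * g * z⁻¹ * (z * g * z⁻¹) = z * (g * g) * z⁻¹ := by group
      _ = 1 := by rw [hg2]; group
  have hchk := htab k hklt
  refine ⟨k, hklt, ?_⟩
  cases hE : tab k with
  | inl w =>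
    exfalso
    rw [hE] at hchk
    simp only [chkEnt, Bool.and_eq_true, List.any_eq_true, List.mem_range, Bool.not_eq_true'] at hchk
    obtain ⟨⟨hw, ht⟩, i, hi, hki, hne⟩ := hchk
    have hwd := isWdB_spec hw
    obtain ⟨_, hπw⟩ := mem_diag_of_table C m hm π hπ hcomb' w hwd (fun j => k.testBit j) hJ' (htabB_spec ht)
    have h1 := hπw _ (C.c6.c2.simple_lt i hi)
    have h2 := (hJ' i hi).1 hki
    rw [h2] at h1
    have : Nat.beq (fd.wordP fx w (fd.simples.getD i 0)) (fd.simples.getD i 0) = true :=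
      (natBeq_iff _ _).mpr h1.symm
    rw [this] at hne
    exact Bool.noConfusion hne
  | inr Ws =>
    rw [hE] at hchk
    simp only [chkEnt, Bool.and_eq_true, List.all_eq_true, natBlt_iff] at hchk
    obtain ⟨⟨hWs, ht⟩, hpw⟩ := hchk
    have hW : ∀ p ∈ Ws, IsWd fd.l p.1 ∧ p.2 < fd.l := fun p hp => ⟨isWdB_spec (hWs p hp).1, (hWs p hp).2⟩
    have hwd : IsWd fd.l (entW (.inr Ws)) := by
      intro i hi
      simp only [entW, List.mem_flatMap] at hi
      obtain ⟨p, hp, hip⟩ := hi
      exact reflWord_isWd p.1 p.2 (hW p hp).1 (hW p hp).2 i hip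
    obtain ⟨_, hπw⟩ := mem_diag_of_table C m hm π hπ hcomb' (entW (.inr Ws)) hwd (fun j => k.testBit j) hJ'
      (htabB_spec ht)
    exact ⟨Ws, rfl, hwd, z, hz, m, hm, hzm, hmm, C.perm_congr _ _ _ hπ hπw⟩

/-- if the words of all admissible entries are good, every involution is conjugate into `H` -/
theorem conj_diag_of_table [Finite F] (hlow : LowStmt fd fx) (tab : ℕ → Ent)
    (htab : ∀ k < 2 ^ fd.l, chkEnt fd fx k (tab k) = true)
    (hgood : ∀ k < 2 ^ fd.l, ∀ Ws, tab k = .inr Ws → Good C F (entW (.inr Ws)))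
    (g : GL D.Idx F) (hg : g ∈ D.group F) (hg2 : g * g = 1) :
    ∃ x ∈ D.group F, x * g * x⁻¹ ∈ D.diagonalSubgroup F := by
  obtain ⟨k, hk, Ws, hE, _, z, hz, m, hm, hzm, hmm, hπ⟩ := exists_conj_word C hlow tab htab g hg hg2
  obtain ⟨y, hy, hym⟩ := hgood k hk Ws hE m hm hmm hπ
  refine ⟨y * z, mul_mem hy hz, ?_⟩
  have : y * z * g * (y * z)⁻¹ = y * (z * g * z⁻¹) * y⁻¹ := by group
  rw [this, hzm]
  exact hym

/-- two words agree on the roots if the quotient makes no fundamental root negative -/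
theorem wordP_eq_of_pos (F : Type*) [Field F] (w1 w2 : List ℕ) (hw1 : IsWd fd.l w1) (hw2 : IsWd fd.l w2)
    (hpos : ∀ i < fd.l, fd.n / 2 ≤ fd.wordP fx (w2.reverse ++ w1) (fd.simples.getD i 0)) :
    ∀ s < fd.n, fd.wordP fx w1 s = fd.wordP fx w2 s := by
  intro s hs
  have h1 := C.word_id F (w2.reverse ++ w1) (hw2.reverse.append hw1) hpos s hs
  rw [fd.wordP_append] at h1
  have h2 := C.wordP_rev' w2 hw2 (fd.wordP fx w1 s) (C.wordP_lt w1 hw1 s hs)
  rw [h1] at h2
  exact h2.symm

/-- `good_of_conj` with the comparison on the fundamental roots only -/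
theorem good_of_conj' (w w₀ v : List ℕ) (hw : IsWd fd.l w) (hw₀ : IsWd fd.l w₀) (hv : IsWd fd.l v)
    (hpos : ∀ i < fd.l, fd.n / 2 ≤ fd.wordP fx (w₀.reverse ++ (v ++ w ++ v.reverse)) (fd.simples.getD i 0))
    (h0 : Good C F w₀) : Good C F w :=
  good_of_conj C w w₀ v hv
    (wordP_eq_of_pos C F _ _ ((hv.append hw).append hv.reverse) hw₀ hpos) h0

/-- the Boolean certificate: the word of the entry `k` is conjugate by `(cj k).1` to the representative `(cj k).2` -/
def chkCj (fd : FD) (fx : FX) (tab : ℕ → Ent) (cj : ℕ → List ℕ × ℕ) (rep : ℕ → List ℕ) (k : ℕ) : Bool :=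
  match tab k with
  | .inl _ => true
  | .inr Ws => isWdB fd.l (cj k).1 && isWdB fd.l (rep (cj k).2) && isWdB fd.l (entW (.inr Ws)) &&
      (List.range fd.l).all fun i =>
        Nat.ble (fd.n / 2) (fd.wordP fx ((rep (cj k).2).reverse ++ ((cj k).1 ++ entW (.inr Ws) ++ (cj k).1.reverse))
          (fd.simples.getD i 0))

theorem good_of_chkCj (tab : ℕ → Ent) (cj : ℕ → List ℕ × ℕ) (rep : ℕ → List ℕ) (k : ℕ)
    (h : chkCj fd fx tab cj rep k = true) (hrep : ∀ c, Good C F (rep c)) :
    ∀ Ws, tab k = .inr Ws → Good C F (entW (.inr Ws)) := by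
  intro Ws hE
  unfold chkCj at h
  rw [hE] at h
  simp only [Bool.and_eq_true, List.all_eq_true, List.mem_range] at h
  obtain ⟨⟨⟨h1, h2⟩, h3⟩, h4⟩ := h
  exact good_of_conj' C _ _ _ (isWdB_spec h3) (isWdB_spec h2) (isWdB_spec h1)
    (fun i hi => Nat.le_of_ble_eq_true (h4 i hi)) (hrep _)

end Cfsg.Agent.Lib.H12.OddInv
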