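import Mathlib
import Cfsg.Prelude.Def_LieExceptional
import Cfsg.Agent.Lib.H12.OddInvD
import Cfsg.Agent.Lib.H2.E8Main

/-!
# `E₈(F)`, `F` finite of odd order: every involution is conjugate to an element of `H` (generated tables)

The ten classes of involutions of `W(E₈)` (with `0, 1, 2, 3, 4, 12, 13, 30, 63, 120` inverted positive roots), a
representative `w₀(J)` of each, the descent steps between them, and the certificate conjugating the words of the `64`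
admissible entries of the table of the subsets of the fundamental roots to the representatives.
-/

set_option autoImplicit false
set_option linter.unusedSectionVars false
set_option linter.unusedVariables false
set_option linter.unusedSimpArgs false
set_option maxRecDepth 1000000

namespace Cfsg.Agent.Lib.H12.OddInv

open Cfsg Cfsg.Lie Matrix Cfsg.Agent.Lib.H29.Chev Cfsg.Agent.Lib.H12.InvCell Cfsg.Agent.Lib.H6.Inv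
  Cfsg.Agent.Lib.H2.E8I

/-- the representatives of the classes of involutions of `W(E₈)` -/
def repE8L : List (List ℕ) := [
  [],
  [0],
  [0, 1],
  [1, 2, 4],
  [1, 2, 4, 6],
  [1, 2, 3, 1, 2, 3, 4, 3, 1, 2, 3, 4],
  [1, 2, 3, 1, 2, 3, 4, 3, 1, 2, 3, 4, 6],
  [1, 2, 3, 1, 2, 3, 4, 3, 1, 2, 3, 4, 5, 4, 3, 1, 2, 3, 4, 5, 6, 5, 4, 3, 1, 2, 3, 4, 5, 6],
  [0, 1, 2, 0, 3, 1, 2, 0, 3, 2, 4, 3, 1, 2, 0, 3, 2, 4, 3, 1, 5, 4, 3, 1, 2, 0, 3, 2, 4, 3, 1, 5, 4, 3, 2, 0, 6, 5, 4, 3, 1, 2, 0, 3, 2, 4, 3, 1, 5, 4, 3, 2, 0, 6, 5, 4, 3, 1, 2, 3, 4, 5, 6],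
  [0, 1, 2, 0, 3, 1, 2, 0, 3, 2, 4, 3, 1, 2, 0, 3, 2, 4, 3, 1, 5, 4, 3, 1, 2, 0, 3, 2, 4, 3, 1, 5, 4, 3, 2, 0, 6, 5, 4, 3, 1, 2, 0, 3, 2, 4, 3, 1, 5, 4, 3, 2, 0, 6, 5, 4, 3, 1, 2, 3, 4, 5, 6, 7, 6, 5, 4, 3, 1, 2, 0, 3, 2, 4, 3, 1, 5, 4, 3, 2, 0, 6, 5, 4, 3, 1, 2, 3, 4, 5, 6, 7, 6, 5, 4, 3, 1, 2, 0, 3, 2, 4, 3, 1, 5, 4, 3, 2, 0, 6, 5, 4, 3, 1, 2, 3, 4, 5, 6, 7]]

def repE8 (c : ℕ) : List ℕ := repE8L.getD c []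

/-- the conjugating words and the classes of the entries of the table -/
def cjE8L : List (List ℕ × ℕ) := [
  ([], 9),
  ([7, 6, 5, 4, 3, 1, 2, 0, 3, 2, 4, 3, 1, 5, 4, 3, 2, 6, 5, 4, 3, 1, 7, 6, 5, 4, 3, 2], 8),
  ([7, 6, 5, 4, 3, 1, 2, 0, 3, 2, 4, 3, 1, 5, 4, 3, 2, 0, 6, 5, 4, 3, 2, 7, 6, 5, 4, 3], 8),
  ([0, 2, 3, 1, 4, 3, 2, 0, 5, 4, 3, 1, 2, 3, 4, 5, 7, 6, 5, 4, 3, 1, 2, 0, 3, 2, 4, 3, 1, 5, 4, 3, 2, 6, 5, 4, 3, 1, 7, 6, 5, 4, 3, 2], 7),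
  ([7, 6, 5, 4, 3, 1, 2, 0, 3, 2, 4, 3, 1, 5, 4, 3, 2, 0, 6, 5, 4, 3, 1, 7, 6, 5, 4, 3], 8),
  ([], 0),
  ([0, 2, 3, 1, 4, 3, 2, 0, 5, 4, 3, 1, 2, 3, 4, 5, 7, 6, 5, 4, 3, 1, 2, 0, 3, 2, 4, 3, 1, 5, 4, 3, 2, 0, 6, 5, 4, 3, 1, 7, 6, 5, 4, 3], 7),
  ([], 0),
  ([7, 6, 5, 4, 3, 1, 2, 0, 3, 2, 4, 3, 1, 5, 4, 3, 2, 0, 6, 5, 4, 3, 1, 2, 7, 6, 5, 4], 8),
  ([0, 2, 3, 1, 4, 3, 2, 0, 5, 4, 3, 1, 2, 3, 4, 6, 7, 6, 5, 4, 3, 1, 2, 0, 3, 2, 4, 3, 1, 5, 4, 3, 2, 0, 6, 5, 4, 3, 1, 2, 7, 6, 5, 4], 7),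
  ([], 0),
  ([], 0),
  ([], 0),
  ([], 0),
  ([], 0),
  ([], 0),
  ([7, 6, 5, 4, 3, 1, 2, 0, 3, 2, 4, 3, 1, 5, 4, 3, 2, 0, 6, 5, 4, 3, 1, 2, 3, 7, 6, 5], 8),
  ([0, 2, 3, 1, 4, 3, 2, 0, 5, 4, 3, 1, 2, 3, 4, 6, 7, 6, 5, 4, 3, 1, 2, 0, 3, 2, 4, 3, 1, 5, 4, 3, 2, 0, 6, 5, 4, 3, 1, 2, 3, 7, 6, 5], 7),
  ([0, 2, 3, 1, 4, 3, 2, 0, 5, 4, 3, 2, 6, 5, 4, 3, 7, 6, 5, 4, 3, 1, 2, 0, 3, 2, 4, 3, 1, 5, 4, 3, 2, 0, 6, 5, 4, 3, 1, 2, 3, 7, 6, 5], 7),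
  ([0, 2, 3, 1, 5, 4, 3, 1, 2, 0, 3, 2, 6, 5, 4, 3, 1, 2, 0, 3, 2, 4, 3, 5, 7, 6, 5, 4, 3, 1, 2, 0, 3, 2, 4, 3, 1, 5, 4, 3, 2, 6, 5, 4, 3, 1, 7, 6, 5, 4, 3, 2], 6),
  ([0, 2, 3, 1, 4, 3, 2, 0, 5, 4, 3, 1, 2, 3, 6, 5, 7, 6, 5, 4, 3, 1, 2, 0, 3, 2, 4, 3, 1, 5, 4, 3, 2, 0, 6, 5, 4, 3, 1, 2, 3, 7, 6, 5], 7),
  ([], 0),
  ([0, 2, 3, 1, 5, 4, 3, 1, 2, 0, 3, 2, 6, 5, 4, 3, 1, 2, 0, 3, 2, 4, 3, 5, 7, 6, 5, 4, 3, 1, 2, 0, 3, 2, 4, 3, 1, 5, 4, 3, 2, 0, 6, 5, 4, 3, 1, 7, 6, 5, 4, 3], 6),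
  ([], 0),
  ([], 0),
  ([], 0),
  ([], 0),
  ([], 0),
  ([], 0),
  ([], 0),
  ([0, 2, 3, 1, 5, 4, 3, 1, 2, 0, 3, 2, 6, 5, 4, 3, 1, 2, 0, 3, 2, 4, 3, 5, 7, 6, 5, 4, 3, 1, 2, 0, 3, 2, 4, 3, 1, 5, 4, 3, 2, 0, 6, 5, 4, 7, 6, 5], 5),
  ([], 0),
  ([7, 6, 5, 4, 3, 1, 2, 0, 3, 2, 4, 3, 1, 5, 4, 3, 2, 0, 6, 5, 4, 3, 1, 2, 3, 4, 7, 6], 8),
  ([0, 2, 3, 1, 4, 3, 2, 0, 5, 4, 3, 1, 2, 3, 4, 6, 7, 6, 5, 4, 3, 1, 2, 0, 3, 2, 4, 3, 1, 5, 4, 3, 2, 0, 6, 5, 4, 3, 1, 2, 3, 4, 7, 6], 7),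
  ([0, 2, 3, 1, 4, 3, 2, 0, 5, 4, 3, 1, 2, 6, 5, 4, 7, 6, 5, 4, 3, 1, 2, 0, 3, 2, 4, 3, 1, 5, 4, 3, 2, 0, 6, 5, 4, 3, 2, 7, 6, 5, 4, 3], 7),
  ([0, 2, 3, 1, 5, 4, 3, 1, 2, 0, 3, 2, 4, 5, 6, 5, 4, 3, 1, 2, 0, 3, 2, 4, 7, 6, 5, 4, 3, 1, 2, 0, 3, 2, 4, 3, 1, 5, 4, 3, 2, 0, 6, 5, 4, 3, 2, 7, 6, 5, 4, 3], 6),
  ([0, 2, 3, 1, 4, 3, 2, 0, 5, 4, 3, 1, 2, 3, 6, 5, 7, 6, 5, 4, 3, 1, 2, 0, 3, 2, 4, 3, 1, 5, 4, 3, 2, 0, 6, 5, 4, 3, 1, 2, 3, 4, 7, 6], 7),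
  ([], 0),
  ([0, 2, 3, 1, 5, 4, 3, 1, 2, 0, 3, 2, 4, 6, 5, 4, 3, 1, 2, 0, 3, 2, 4, 5, 7, 6, 5, 4, 3, 1, 2, 0, 3, 2, 4, 3, 1, 5, 4, 3, 2, 0, 6, 5, 4, 3, 1, 7, 6, 5, 4, 3], 6),
  ([], 0),
  ([0, 2, 3, 1, 4, 3, 2, 0, 5, 4, 3, 1, 2, 6, 5, 4, 7, 6, 5, 4, 3, 1, 2, 0, 3, 2, 4, 3, 1, 5, 4, 3, 2, 0, 6, 5, 4, 3, 1, 2, 3, 4, 7, 6], 7),
  ([0, 2, 3, 1, 5, 4, 3, 1, 2, 0, 3, 2, 4, 5, 6, 5, 4, 3, 1, 2, 0, 3, 2, 4, 7, 6, 5, 4, 3, 1, 2, 0, 3, 2, 4, 3, 1, 5, 4, 3, 2, 0, 6, 5, 4, 3, 1, 2, 3, 4, 7, 6], 6),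
  ([], 0),
  ([], 0),
  ([], 0),
  ([], 0),
  ([], 0),
  ([], 0),
  ([], 0),
  ([], 0),
  ([], 0),
  ([], 0),
  ([], 0),
  ([], 0),
  ([], 0),
  ([], 0),
  ([], 0),
  ([], 0),
  ([], 0),
  ([], 0),
  ([], 0),
  ([], 0),
  ([], 0),
  ([], 0),
  ([7, 6, 5, 4, 3, 1, 2, 0, 3, 2, 4, 3, 1, 5, 4, 3, 2, 0, 6, 5, 4, 3, 1, 2, 3, 4, 5, 7], 8),
  ([0, 2, 3, 1, 4, 3, 2, 0, 5, 4, 3, 1, 2, 3, 4, 6, 7, 6, 5, 4, 3, 1, 2, 0, 3, 2, 4, 3, 1, 5, 4, 3, 2, 0, 6, 5, 4, 3, 1, 2, 3, 4, 5, 7], 7),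
  ([0, 2, 3, 1, 4, 3, 2, 0, 5, 4, 3, 1, 6, 5, 4, 3, 7, 6, 5, 4, 3, 1, 2, 0, 3, 2, 4, 3, 1, 5, 4, 3, 2, 0, 6, 5, 4, 3, 2, 7, 6, 5, 4, 3], 7),
  ([0, 2, 3, 1, 5, 4, 3, 1, 2, 0, 3, 2, 4, 3, 5, 6, 5, 4, 3, 1, 2, 0, 3, 4, 7, 6, 5, 4, 3, 1, 2, 0, 3, 2, 4, 3, 1, 5, 4, 3, 2, 0, 6, 5, 4, 3, 2, 7, 6, 5, 4, 3], 6),
  ([0, 2, 3, 1, 4, 3, 2, 0, 5, 4, 3, 1, 2, 3, 6, 5, 7, 6, 5, 4, 3, 1, 2, 0, 3, 2, 4, 3, 1, 5, 4, 3, 2, 0, 6, 5, 4, 3, 1, 2, 3, 4, 5, 7], 7),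
  ([], 0),
  ([0, 2, 3, 1, 5, 4, 3, 1, 2, 0, 3, 2, 4, 3, 6, 5, 4, 3, 1, 2, 0, 3, 4, 5, 7, 6, 5, 4, 3, 1, 2, 0, 3, 2, 4, 3, 1, 5, 4, 3, 2, 0, 6, 5, 4, 3, 1, 7, 6, 5, 4, 3], 6),
  ([], 0),
  ([0, 2, 3, 1, 4, 3, 2, 0, 5, 4, 3, 1, 2, 6, 5, 4, 7, 6, 5, 4, 3, 1, 2, 0, 3, 2, 4, 3, 1, 5, 4, 3, 2, 0, 6, 5, 4, 3, 1, 2, 3, 4, 5, 7], 7),
  ([0, 2, 3, 1, 5, 4, 3, 1, 2, 0, 3, 2, 4, 3, 5, 6, 5, 4, 3, 1, 2, 0, 3, 4, 7, 6, 5, 4, 3, 1, 2, 0, 3, 2, 4, 3, 1, 5, 4, 3, 2, 0, 6, 5, 4, 3, 1, 2, 7, 6, 5, 4], 6),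
  ([], 0),
  ([], 0),
  ([], 0),
  ([], 0),
  ([], 0),
  ([], 0),
  ([0, 2, 3, 1, 4, 3, 2, 0, 5, 4, 3, 1, 6, 5, 4, 3, 7, 6, 5, 4, 3, 1, 2, 0, 3, 2, 4, 3, 1, 5, 4, 3, 2, 0, 6, 5, 4, 3, 1, 2, 3, 4, 5, 7], 7),
  ([0, 2, 3, 1, 5, 4, 3, 1, 2, 0, 3, 2, 4, 3, 5, 4, 6, 5, 4, 3, 1, 2, 0, 3, 7, 6, 5, 4, 3, 1, 2, 0, 3, 2, 4, 3, 1, 5, 4, 3, 2, 6, 5, 4, 3, 1, 7, 6, 5, 4, 3, 2], 6),
  ([0, 2, 3, 1, 5, 4, 3, 1, 2, 0, 3, 2, 4, 3, 1, 5, 4, 3, 2, 0, 6, 5, 4, 3, 7, 6, 5, 4, 3, 1, 2, 0, 3, 2, 4, 3, 1, 5, 4, 3, 2, 0, 6, 5, 4, 3, 1, 2, 3, 4, 5, 7], 6),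
  ([0, 3, 1, 2, 0, 3, 2, 4, 5, 4, 3, 1, 2, 0, 3, 2, 4, 3, 5, 6, 5, 4, 3, 1, 2, 0, 3, 4, 7, 6, 5, 4, 3, 1, 2, 0, 3, 2, 4, 3, 1, 5, 4, 3, 2, 0, 6, 5, 4, 3, 1, 2, 3, 4, 5, 7], 4),
  ([0, 2, 3, 1, 5, 4, 3, 1, 2, 0, 3, 2, 4, 3, 5, 4, 6, 5, 4, 3, 1, 2, 0, 3, 7, 6, 5, 4, 3, 1, 2, 0, 3, 2, 4, 3, 1, 5, 4, 3, 2, 0, 6, 5, 4, 3, 1, 2, 3, 4, 5, 7], 6),
  ([], 0),
  ([0, 3, 1, 2, 0, 3, 2, 4, 5, 4, 3, 1, 2, 0, 3, 2, 4, 3, 1, 5, 4, 3, 2, 0, 6, 5, 4, 3, 7, 6, 5, 4, 3, 1, 2, 0, 3, 2, 4, 3, 1, 5, 4, 3, 2, 0, 6, 5, 4, 3, 1, 2, 3, 4, 5, 7], 4),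
  ([], 0),
  ([], 0),
  ([], 0),
  ([], 0),
  ([], 0),
  ([], 0),
  ([], 0),
  ([0, 3, 1, 2, 0, 3, 2, 4, 5, 4, 3, 1, 2, 0, 3, 4, 6, 5, 4, 3, 1, 2, 0, 3, 2, 4, 3, 5, 7, 6, 5, 4, 3, 1, 2, 0, 3, 2, 4, 3, 1, 5, 4, 3, 2, 0, 6, 5, 4, 7, 6, 5], 3),
  ([], 0),
  ([], 0),
  ([], 0),
  ([], 0),
  ([], 0),
  ([], 0),
  ([], 0),
  ([], 0),
  ([], 0),
  ([], 0),
  ([], 0),
  ([], 0),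
  ([], 0),
  ([], 0),
  ([], 0),
  ([], 0),
  ([], 0),
  ([], 0),
  ([], 0),
  ([], 0),
  ([], 0),
  ([], 0),
  ([], 0),
  ([], 0),
  ([], 0),
  ([], 0),
  ([], 0),
  ([], 0),
  ([], 0),
  ([], 0),
  ([], 0),
  ([2, 3, 1, 2, 4, 3, 1, 2, 5, 4, 3, 1, 2, 0, 6, 5, 4, 3, 1, 2, 0, 3, 4, 5, 7, 6, 5, 4, 3, 1, 2, 0, 3, 2, 4, 3, 1, 5, 4, 3, 2, 0, 6, 7], 2),
  ([2, 3, 1, 4, 3, 2, 5, 4, 3, 1, 6, 5, 4, 3, 2, 0, 7, 6, 5, 4, 3, 1, 2, 3, 4, 5, 6, 7], 1),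
  ([7, 6, 5, 4, 3, 1, 2, 0, 3, 2, 4, 3, 1, 5, 4, 3, 2, 0, 6, 5, 4, 3, 1, 2, 3, 4, 5, 6], 8),
  ([0, 2, 3, 1, 4, 3, 2, 0, 5, 4, 3, 1, 2, 3, 4, 6, 7, 6, 5, 4, 3, 1, 2, 0, 3, 2, 4, 3, 1, 5, 4, 3, 2, 0, 6, 5, 4, 3, 1, 2, 3, 4, 5, 6], 7),
  ([0, 2, 3, 1, 4, 3, 2, 0, 5, 4, 3, 2, 6, 5, 4, 3, 7, 6, 5, 4, 3, 1, 2, 0, 3, 2, 4, 3, 1, 5, 4, 3, 2, 0, 6, 5, 4, 3, 1, 2, 3, 4, 5, 6], 7),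
  ([0, 2, 3, 1, 5, 4, 3, 1, 2, 0, 3, 2, 4, 3, 1, 5, 6, 5, 4, 3, 1, 2, 3, 4, 7, 6, 5, 4, 3, 1, 2, 0, 3, 2, 4, 3, 1, 5, 4, 3, 2, 0, 6, 5, 4, 3, 2, 7, 6, 5, 4, 3], 6),
  ([0, 2, 3, 1, 4, 3, 2, 0, 5, 4, 3, 1, 2, 3, 6, 5, 7, 6, 5, 4, 3, 1, 2, 0, 3, 2, 4, 3, 1, 5, 4, 3, 2, 0, 6, 5, 4, 3, 1, 2, 3, 4, 5, 6], 7),
  ([], 0),
  ([0, 2, 3, 1, 5, 4, 3, 1, 2, 0, 3, 2, 4, 3, 1, 6, 5, 4, 3, 1, 2, 3, 4, 5, 7, 6, 5, 4, 3, 1, 2, 0, 3, 2, 4, 3, 1, 5, 4, 3, 2, 0, 6, 5, 4, 3, 1, 7, 6, 5, 4, 3], 6),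
  ([], 0),
  ([0, 2, 3, 1, 4, 3, 2, 0, 5, 4, 3, 1, 2, 6, 5, 4, 7, 6, 5, 4, 3, 1, 2, 0, 3, 2, 4, 3, 1, 5, 4, 3, 2, 0, 6, 5, 4, 3, 1, 2, 3, 4, 5, 6], 7),
  ([0, 2, 3, 1, 5, 4, 3, 1, 2, 0, 3, 2, 4, 3, 1, 5, 6, 5, 4, 3, 1, 2, 3, 4, 7, 6, 5, 4, 3, 1, 2, 0, 3, 2, 4, 3, 1, 5, 4, 3, 2, 0, 6, 5, 4, 3, 1, 2, 7, 6, 5, 4], 6),
  ([], 0),
  ([], 0),
  ([], 0),
  ([], 0),
  ([], 0),
  ([], 0),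
  ([0, 2, 3, 1, 4, 3, 2, 0, 5, 4, 3, 1, 6, 5, 4, 3, 7, 6, 5, 4, 3, 1, 2, 0, 3, 2, 4, 3, 1, 5, 4, 3, 2, 0, 6, 5, 4, 3, 1, 2, 3, 4, 5, 6], 7),
  ([0, 2, 3, 1, 5, 4, 3, 1, 2, 0, 3, 2, 4, 3, 1, 5, 4, 6, 5, 4, 3, 1, 2, 3, 7, 6, 5, 4, 3, 1, 2, 0, 3, 2, 4, 3, 1, 5, 4, 3, 2, 6, 5, 4, 3, 1, 7, 6, 5, 4, 3, 2], 6),
  ([0, 2, 3, 1, 5, 4, 3, 1, 2, 0, 3, 2, 4, 3, 1, 5, 4, 3, 2, 0, 6, 5, 4, 3, 7, 6, 5, 4, 3, 1, 2, 0, 3, 2, 4, 3, 1, 5, 4, 3, 2, 0, 6, 5, 4, 3, 1, 2, 3, 4, 5, 6], 6),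
  ([0, 3, 1, 2, 0, 3, 2, 4, 5, 4, 3, 1, 2, 0, 3, 2, 4, 3, 1, 5, 6, 5, 4, 3, 1, 2, 3, 4, 7, 6, 5, 4, 3, 1, 2, 0, 3, 2, 4, 3, 1, 5, 4, 3, 2, 0, 6, 5, 4, 3, 1, 2, 3, 7, 6, 5], 4),
  ([0, 2, 3, 1, 5, 4, 3, 1, 2, 0, 3, 2, 4, 3, 1, 5, 4, 6, 5, 4, 3, 1, 2, 3, 7, 6, 5, 4, 3, 1, 2, 0, 3, 2, 4, 3, 1, 5, 4, 3, 2, 0, 6, 5, 4, 3, 1, 2, 3, 7, 6, 5], 6),
  ([], 0),
  ([0, 3, 1, 2, 0, 3, 2, 4, 5, 4, 3, 1, 2, 0, 3, 2, 4, 3, 1, 5, 4, 3, 2, 0, 6, 5, 4, 3, 7, 6, 5, 4, 3, 1, 2, 0, 3, 2, 4, 3, 1, 5, 4, 3, 2, 0, 6, 5, 4, 3, 1, 2, 3, 4, 5, 6], 4),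
  ([], 0),
  ([], 0),
  ([], 0),
  ([], 0),
  ([], 0),
  ([], 0),
  ([], 0),
  ([0, 3, 1, 2, 0, 3, 4, 3, 5, 4, 3, 1, 2, 0, 3, 2, 6, 5, 4, 3, 1, 2, 0, 3, 2, 4, 3, 5, 7, 6, 5, 4, 3, 1, 2, 0, 3, 2, 4, 3, 1, 5, 4, 3, 2, 0, 6, 5, 4, 7, 6, 5], 3),
  ([], 0),
  ([0, 2, 3, 1, 4, 3, 2, 5, 4, 3, 1, 6, 5, 4, 3, 2, 7, 6, 5, 4, 3, 1, 2, 0, 3, 2, 4, 3, 1, 5, 4, 3, 2, 0, 6, 5, 4, 3, 1, 2, 3, 4, 5, 6], 7),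
  ([0, 2, 3, 1, 5, 4, 3, 1, 2, 0, 3, 2, 4, 3, 1, 5, 4, 3, 6, 5, 4, 3, 1, 2, 7, 6, 5, 4, 3, 1, 2, 0, 3, 2, 4, 3, 1, 5, 4, 3, 2, 6, 5, 4, 3, 1, 7, 6, 5, 4, 3, 2], 6),
  ([0, 2, 3, 1, 5, 4, 3, 1, 2, 0, 3, 2, 4, 3, 1, 5, 4, 3, 2, 6, 5, 4, 3, 2, 7, 6, 5, 4, 3, 1, 2, 0, 3, 2, 4, 3, 1, 5, 4, 3, 2, 0, 6, 5, 4, 3, 1, 2, 3, 4, 5, 6], 6),
  ([0, 3, 1, 2, 0, 3, 2, 4, 5, 4, 3, 1, 2, 0, 3, 2, 4, 3, 1, 5, 6, 5, 4, 3, 1, 2, 3, 4, 7, 6, 5, 4, 3, 1, 2, 0, 3, 2, 4, 3, 1, 5, 4, 3, 2, 0, 6, 5, 4, 3, 1, 2, 3, 4, 5, 6], 4),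
  ([0, 2, 3, 1, 5, 4, 3, 1, 2, 0, 3, 2, 4, 3, 1, 5, 4, 3, 6, 5, 4, 3, 1, 2, 7, 6, 5, 4, 3, 1, 2, 0, 3, 2, 4, 3, 1, 5, 4, 3, 2, 0, 6, 5, 4, 3, 1, 7, 6, 5, 4, 3], 6),
  ([], 0),
  ([0, 3, 1, 2, 0, 3, 2, 4, 5, 4, 3, 1, 2, 0, 3, 2, 4, 3, 1, 5, 4, 3, 2, 6, 5, 4, 3, 2, 7, 6, 5, 4, 3, 1, 2, 0, 3, 2, 4, 3, 1, 5, 4, 3, 2, 0, 6, 5, 4, 3, 1, 2, 3, 4, 5, 6], 4),
  ([], 0),
  ([0, 2, 3, 1, 5, 4, 3, 1, 2, 0, 3, 2, 4, 3, 1, 5, 4, 3, 6, 5, 4, 3, 1, 2, 7, 6, 5, 4, 3, 1, 2, 0, 3, 2, 4, 3, 1, 5, 4, 3, 2, 0, 6, 5, 4, 3, 1, 2, 3, 4, 5, 6], 6),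
  ([0, 3, 1, 2, 0, 3, 4, 3, 5, 4, 3, 1, 2, 0, 3, 2, 4, 3, 1, 5, 4, 3, 6, 5, 4, 3, 1, 2, 7, 6, 5, 4, 3, 1, 2, 0, 3, 2, 4, 3, 1, 5, 4, 3, 2, 0, 6, 5, 4, 3, 1, 2, 3, 4, 5, 6], 4),
  ([], 0),
  ([], 0),
  ([], 0),
  ([], 0),
  ([], 0),
  ([], 0),
  ([], 0),
  ([], 0),
  ([], 0),
  ([], 0),
  ([], 0),
  ([], 0),
  ([], 0),
  ([], 0),
  ([], 0),
  ([], 0),
  ([], 0),
  ([], 0),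
  ([], 0),
  ([], 0),
  ([], 0),
  ([], 0),
  ([], 0),
  ([], 0),
  ([], 0),
  ([], 0),
  ([], 0),
  ([], 0),
  ([], 0),
  ([], 0),
  ([], 0),
  ([], 0),
  ([], 0),
  ([], 0),
  ([], 0),
  ([], 0),
  ([], 0),
  ([], 0),
  ([], 0),
  ([], 0),
  ([], 0),
  ([], 0),
  ([], 0),
  ([], 0),
  ([], 0),
  ([], 0),
  ([], 0),
  ([], 0),
  ([], 0),
  ([], 0),
  ([], 0),
  ([], 0),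
  ([], 0),
  ([], 0),
  ([], 0),
  ([], 0),
  ([], 0),
  ([], 0),
  ([], 0),
  ([], 0),
  ([], 0),
  ([], 0),
  ([], 0),
  ([], 0),
  ([], 0),
  ([], 0),
  ([], 0),
  ([], 0),
  ([], 0),
  ([], 0),
  ([], 0),
  ([], 0),
  ([], 0),
  ([], 0),
  ([], 0),
  ([], 0),
  ([], 0),
  ([], 0),
  ([], 0),
  ([], 0),
  ([], 0),
  ([], 0),
  ([], 0),
  ([], 0),
  ([], 0),
  ([], 0)]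

def cjE8 (k : ℕ) : List ℕ × ℕ := cjE8L.getD k ([], 0)

set_option maxHeartbeats 0 in
theorem cjE8_chk : ∀ k < 2 ^ fdE8.l, chkCj fdE8 fxE8 tabE8 cjE8 repE8 k = true := by
  decide +kernel

variable {F : Type*} [Field F] [Fintype F]

theorem e8_good_0 (hodd : Fintype.card F % 2 = 1) (h2 : (2 : F) ≠ 0) : Good cert12_E8 F [] :=
  good_of_pos cert12_E8 [] (by decide +kernel)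

theorem e8_good_1 (hodd : Fintype.card F % 2 = 1) (h2 : (2 : F) ≠ 0) : Good cert12_E8 F [0] :=
  stepB cert12_E8 h2 [0] [] 0 162 6 14 (by decide +kernel) (by decide +kernel) (by decide +kernel) (by decide +kernel) (by decide +kernel) (by decide +kernel)
    (by decide +kernel) (by decide +kernel) (by decide +kernel) (by decide +kernel) (by decide +kernel) (by decide +kernel)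
    (good_of_conj' cert12_E8 [0, 0] [] [] (by decide +kernel) (by decide +kernel) (by decide +kernel) (by decide +kernel)
      (e8_good_0 hodd h2))

theorem e8_good_2 (hodd : Fintype.card F % 2 = 1) (h2 : (2 : F) ≠ 0) : Good cert12_E8 F [0, 1] :=
  stepB cert12_E8 h2 [0, 1] [] 1 141 5 7 (by decide +kernel) (by decide +kernel) (by decide +kernel) (by decide +kernel) (by decide +kernel) (by decide +kernel)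
    (by decide +kernel) (by decide +kernel) (by decide +kernel) (by decide +kernel) (by decide +kernel) (by decide +kernel)
    (good_of_conj' cert12_E8 [1, 0, 1] [0] [] (by decide +kernel) (by decide +kernel) (by decide +kernel) (by decide +kernel)
      (e8_good_1 hodd h2))

theorem e8_good_3 (hodd : Fintype.card F % 2 = 1) (h2 : (2 : F) ≠ 0) : Good cert12_E8 F [1, 2, 4] :=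
  stepB cert12_E8 h2 [1, 2, 4] [] 4 126 3 4 (by decide +kernel) (by decide +kernel) (by decide +kernel) (by decide +kernel) (by decide +kernel) (by decide +kernel)
    (by decide +kernel) (by decide +kernel) (by decide +kernel) (by decide +kernel) (by decide +kernel) (by decide +kernel)
    (good_of_conj' cert12_E8 [4, 1, 2, 4] [0, 1] [2, 0] (by decide +kernel) (by decide +kernel) (by decide +kernel) (by decide +kernel)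
      (e8_good_2 hodd h2))

theorem e8_good_4 (hodd : Fintype.card F % 2 = 1) (h2 : (2 : F) ≠ 0) : Good cert12_E8 F [1, 2, 4, 6] :=
  stepB cert12_E8 h2 [1, 2, 4, 6] [] 6 121 1 2 (by decide +kernel) (by decide +kernel) (by decide +kernel) (by decide +kernel) (by decide +kernel) (by decide +kernel)
    (by decide +kernel) (by decide +kernel) (by decide +kernel) (by decide +kernel) (by decide +kernel) (by decide +kernel)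
    (good_of_conj' cert12_E8 [6, 1, 2, 4, 6] [1, 2, 4] [] (by decide +kernel) (by decide +kernel) (by decide +kernel) (by decide +kernel)
      (e8_good_3 hodd h2))

theorem e8_good_5 (hodd : Fintype.card F % 2 = 1) (h2 : (2 : F) ≠ 0) : Good cert12_E8 F [1, 2, 3, 1, 2, 3, 4, 3, 1, 2, 3, 4] :=
  stepA cert12_E8 hodd h2 [1, 2, 3, 1, 2, 3, 4, 3, 1, 2, 3, 4] (by decide +kernel) 126 130 131 126 91 (by decide +kernel) (by decide +kernel) (by decide +kernel) (by decide +kernel)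
    (by decide +kernel) (by decide +kernel) (by decide +kernel) (by decide +kernel) (by decide +kernel) (Or.inl rfl) (by decide +kernel)
    [] [] [4] 4 3 3 (by decide +kernel) (by decide +kernel) (by decide +kernel) (by decide +kernel) (by decide +kernel) (by decide +kernel)
    (by decide +kernel) (by decide +kernel) (by decide +kernel)
    (good_of_conj' cert12_E8 [4, 1, 2, 3, 1, 2, 3, 4, 3, 1, 2, 3, 4] [1, 2, 4] [3, 1, 2, 3] (by decide +kernel) (by decide +kernel) (by decide +kernel) (by decide +kernel)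
      (e8_good_3 hodd h2))
    (good_of_conj' cert12_E8 [3, 1, 2, 3, 1, 2, 3, 4, 3, 1, 2, 3, 4] [1, 2, 4] [3, 1, 2, 4] (by decide +kernel) (by decide +kernel) (by decide +kernel) (by decide +kernel)
      (e8_good_3 hodd h2))
    (good_of_conj' cert12_E8 [3, 4, 1, 2, 3, 1, 2, 3, 4, 3, 1, 2, 3, 4, 4] [1, 2, 4] [3, 1, 2, 4] (by decide +kernel) (by decide +kernel) (by decide +kernel) (by decide +kernel)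
      (e8_good_3 hodd h2))

theorem e8_good_6 (hodd : Fintype.card F % 2 = 1) (h2 : (2 : F) ≠ 0) : Good cert12_E8 F [1, 2, 3, 1, 2, 3, 4, 3, 1, 2, 3, 4, 6] :=
  stepB cert12_E8 h2 [1, 2, 3, 1, 2, 3, 4, 3, 1, 2, 3, 4, 6] [] 6 121 1 2 (by decide +kernel) (by decide +kernel) (by decide +kernel) (by decide +kernel) (by decide +kernel) (by decide +kernel)
    (by decide +kernel) (by decide +kernel) (by decide +kernel) (by decide +kernel) (by decide +kernel) (by decide +kernel)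
    (good_of_conj' cert12_E8 [6, 1, 2, 3, 1, 2, 3, 4, 3, 1, 2, 3, 4, 6] [1, 2, 3, 1, 2, 3, 4, 3, 1, 2, 3, 4] [] (by decide +kernel) (by decide +kernel) (by decide +kernel) (by decide +kernel)
      (e8_good_5 hodd h2))

theorem e8_good_7 (hodd : Fintype.card F % 2 = 1) (h2 : (2 : F) ≠ 0) : Good cert12_E8 F [1, 2, 3, 1, 2, 3, 4, 3, 1, 2, 3, 4, 5, 4, 3, 1, 2, 3, 4, 5, 6, 5, 4, 3, 1, 2, 3, 4, 5, 6] :=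
  stepA cert12_E8 hodd h2 [1, 2, 3, 1, 2, 3, 4, 3, 1, 2, 3, 4, 5, 4, 3, 1, 2, 3, 4, 5, 6, 5, 4, 3, 1, 2, 3, 4, 5, 6] (by decide +kernel) 121 123 124 121 82 (by decide +kernel) (by decide +kernel) (by decide +kernel) (by decide +kernel)
    (by decide +kernel) (by decide +kernel) (by decide +kernel) (by decide +kernel) (by decide +kernel) (Or.inl rfl) (by decide +kernel)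
    [] [] [6] 6 5 5 (by decide +kernel) (by decide +kernel) (by decide +kernel) (by decide +kernel) (by decide +kernel) (by decide +kernel)
    (by decide +kernel) (by decide +kernel) (by decide +kernel)
    (good_of_conj' cert12_E8 [6, 1, 2, 3, 1, 2, 3, 4, 3, 1, 2, 3, 4, 5, 4, 3, 1, 2, 3, 4, 5, 6, 5, 4, 3, 1, 2, 3, 4, 5, 6] [1, 2, 3, 1, 2, 3, 4, 3, 1, 2, 3, 4, 6] [5, 4, 3, 1, 2, 3, 4, 5] (by decide +kernel) (by decide +kernel) (by decide +kernel) (by decide +kernel)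
      (e8_good_6 hodd h2))
    (good_of_conj' cert12_E8 [5, 1, 2, 3, 1, 2, 3, 4, 3, 1, 2, 3, 4, 5, 4, 3, 1, 2, 3, 4, 5, 6, 5, 4, 3, 1, 2, 3, 4, 5, 6] [1, 2, 3, 1, 2, 3, 4, 3, 1, 2, 3, 4, 6] [5, 4, 3, 1, 2, 3, 4, 6] (by decide +kernel) (by decide +kernel) (by decide +kernel) (by decide +kernel)
      (e8_good_6 hodd h2))
    (good_of_conj' cert12_E8 [5, 6, 1, 2, 3, 1, 2, 3, 4, 3, 1, 2, 3, 4, 5, 4, 3, 1, 2, 3, 4, 5, 6, 5, 4, 3, 1, 2, 3, 4, 5, 6, 6] [1, 2, 3, 1, 2, 3, 4, 3, 1, 2, 3, 4, 6] [5, 4, 3, 1, 2, 3, 4, 6] (by decide +kernel) (by decide +kernel) (by decide +kernel) (by decide +kernel)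
      (e8_good_6 hodd h2))

theorem e8_good_8 (hodd : Fintype.card F % 2 = 1) (h2 : (2 : F) ≠ 0) : Good cert12_E8 F [0, 1, 2, 0, 3, 1, 2, 0, 3, 2, 4, 3, 1, 2, 0, 3, 2, 4, 3, 1, 5, 4, 3, 1, 2, 0, 3, 2, 4, 3, 1, 5, 4, 3, 2, 0, 6, 5, 4, 3, 1, 2, 0, 3, 2, 4, 3, 1, 5, 4, 3, 2, 0, 6, 5, 4, 3, 1, 2, 3, 4, 5, 6] :=
  stepA cert12_E8 hodd h2 [0, 1, 2, 0, 3, 1, 2, 0, 3, 2, 4, 3, 1, 2, 0, 3, 2, 4, 3, 1, 5, 4, 3, 1, 2, 0, 3, 2, 4, 3, 1, 5, 4, 3, 2, 0, 6, 5, 4, 3, 1, 2, 0, 3, 2, 4, 3, 1, 5, 4, 3, 2, 0, 6, 5, 4, 3, 1, 2, 3, 4, 5, 6] (by decide +kernel) 121 123 124 121 34 (by decide +kernel) (by decide +kernel) (by decide +kernel) (by decide +kernel)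
    (by decide +kernel) (by decide +kernel) (by decide +kernel) (by decide +kernel) (by decide +kernel) (Or.inl rfl) (by decide +kernel)
    [] [] [6] 6 5 5 (by decide +kernel) (by decide +kernel) (by decide +kernel) (by decide +kernel) (by decide +kernel) (by decide +kernel)
    (by decide +kernel) (by decide +kernel) (by decide +kernel)
    (good_of_conj' cert12_E8 [6, 0, 1, 2, 0, 3, 1, 2, 0, 3, 2, 4, 3, 1, 2, 0, 3, 2, 4, 3, 1, 5, 4, 3, 1, 2, 0, 3, 2, 4, 3, 1, 5, 4, 3, 2, 0, 6, 5, 4, 3, 1, 2, 0, 3, 2, 4, 3, 1, 5, 4, 3, 2, 0, 6, 5, 4, 3, 1, 2, 3, 4, 5, 6] [1, 2, 3, 1, 2, 3, 4, 3, 1, 2, 3, 4, 5, 4, 3, 1, 2, 3, 4, 5, 6, 5, 4, 3, 1, 2, 3, 4, 5, 6] [0, 2, 3, 1, 4, 3, 2, 0, 5, 4, 3, 1, 2, 3, 4, 5] (by decide +kernel) (by decide +kernel) (by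 decide +kernel) (by decide +kernel)
      (e8_good_7 hodd h2))
    (good_of_conj' cert12_E8 [5, 0, 1, 2, 0, 3, 1, 2, 0, 3, 2, 4, 3, 1, 2, 0, 3, 2, 4, 3, 1, 5, 4, 3, 1, 2, 0, 3, 2, 4, 3, 1, 5, 4, 3, 2, 0, 6, 5, 4, 3, 1, 2, 0, 3, 2, 4, 3, 1, 5, 4, 3, 2, 0, 6, 5, 4, 3, 1, 2, 3, 4, 5, 6] [1, 2, 3, 1, 2, 3, 4, 3, 1, 2, 3, 4, 5, 4, 3, 1, 2, 3, 4, 5, 6, 5, 4, 3, 1, 2, 3, 4, 5, 6] [0, 2, 3, 1, 4, 3, 2, 0, 5, 4, 3, 1, 2, 3, 4, 6] (by decide +kernel) (by decide +kernel) (by decide +kernel) (by decide +kernel)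
      (e8_good_7 hodd h2))
    (good_of_conj' cert12_E8 [5, 6, 0, 1, 2, 0, 3, 1, 2, 0, 3, 2, 4, 3, 1, 2, 0, 3, 2, 4, 3, 1, 5, 4, 3, 1, 2, 0, 3, 2, 4, 3, 1, 5, 4, 3, 2, 0, 6, 5, 4, 3, 1, 2, 0, 3, 2, 4, 3, 1, 5, 4, 3, 2, 0, 6, 5, 4, 3, 1, 2, 3, 4, 5, 6, 6] [1, 2, 3, 1, 2, 3, 4, 3, 1, 2, 3, 4, 5, 4, 3, 1, 2, 3, 4, 5, 6, 5, 4, 3, 1, 2, 3, 4, 5, 6] [0, 2, 3, 1, 4, 3, 2, 0, 5, 4, 3, 1, 2, 3, 4, 6] (by decide +kernel) (by decide +kernel) (by decide +kernel) (by decide +kernel)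
      (e8_good_7 hodd h2))

theorem e8_good_9 (hodd : Fintype.card F % 2 = 1) (h2 : (2 : F) ≠ 0) : Good cert12_E8 F [0, 1, 2, 0, 3, 1, 2, 0, 3, 2, 4, 3, 1, 2, 0, 3, 2, 4, 3, 1, 5, 4, 3, 1, 2, 0, 3, 2, 4, 3, 1, 5, 4, 3, 2, 0, 6, 5, 4, 3, 1, 2, 0, 3, 2, 4, 3, 1, 5, 4, 3, 2, 0, 6, 5, 4, 3, 1, 2, 3, 4, 5, 6, 7, 6, 5, 4, 3, 1, 2, 0, 3, 2, 4, 3, 1, 5, 4, 3, 2, 0, 6, 5, 4, 3, 1, 2, 3, 4, 5, 6, 7, 6, 5, 4, 3, 1, 2, 0, 3, 2, 4, 3, 1, 5, 4, 3, 2, 0, 6, 5, 4, 3, 1, 2, 3, 4, 5, 6, 7] :=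
  stepA cert12_E8 hodd h2 [0, 1, 2, 0, 3, 1, 2, 0, 3, 2, 4, 3, 1, 2, 0, 3, 2, 4, 3, 1, 5, 4, 3, 1, 2, 0, 3, 2, 4, 3, 1, 5, 4, 3, 2, 0, 6, 5, 4, 3, 1, 2, 0, 3, 2, 4, 3, 1, 5, 4, 3, 2, 0, 6, 5, 4, 3, 1, 2, 3, 4, 5, 6, 7, 6, 5, 4, 3, 1, 2, 0, 3, 2, 4, 3, 1, 5, 4, 3, 2, 0, 6, 5, 4, 3, 1, 2, 3, 4, 5, 6, 7, 6, 5, 4, 3, 1, 2, 0, 3, 2, 4, 3, 1, 5, 4, 3, 2, 0, 6, 5, 4, 3, 1, 2, 3, 4, 5, 6, 7] (by decide +kernel) 120 121 122 120 0 (by decide +kernel) (by decide +kernel) (by decide +kernel) (by decide +kernel)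
    (by decide +kernel) (by decide +kernel) (by decide +kernel) (by decide +kernel) (by decide +kernel) (Or.inl rfl) (by decide +kernel)
    [] [] [7] 7 6 6 (by decide +kernel) (by decide +kernel) (by decide +kernel) (by decide +kernel) (by decide +kernel) (by decide +kernel)
    (by decide +kernel) (by decide +kernel) (by decide +kernel)
    (good_of_conj' cert12_E8 [7, 0, 1, 2, 0, 3, 1, 2, 0, 3, 2, 4, 3, 1, 2, 0, 3, 2, 4, 3, 1, 5, 4, 3, 1, 2, 0, 3, 2, 4, 3, 1, 5, 4, 3, 2, 0, 6, 5, 4, 3, 1, 2, 0, 3, 2, 4, 3, 1, 5, 4, 3, 2, 0, 6, 5, 4, 3, 1, 2, 3, 4, 5, 6, 7, 6, 5, 4, 3, 1, 2, 0, 3, 2, 4, 3, 1, 5, 4, 3, 2, 0, 6, 5, 4, 3, 1, 2, 3, 4, 5, 6, 7, 6, 5, 4, 3, 1, 2, 0, 3, 2, 4, 3, 1, 5, 4, 3, 2, 0, 6, 5, 4, 3, 1, 2, 3, 4, 5, 6, 7] [0, 1, 2, 0,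 3, 1, 2, 0, 3, 2, 4, 3, 1, 2, 0, 3, 2, 4, 3, 1, 5, 4, 3, 1, 2, 0, 3, 2, 4, 3, 1, 5, 4, 3, 2, 0, 6, 5, 4, 3, 1, 2, 0, 3, 2, 4, 3, 1, 5, 4, 3, 2, 0, 6, 5, 4, 3, 1, 2, 3, 4, 5, 6] [7, 6, 5, 4, 3, 1, 2, 0, 3, 2, 4, 3, 1, 5, 4, 3, 2, 0, 6, 5, 4, 3, 1, 2, 3, 4, 5, 6] (by decide +kernel) (by decide +kernel) (by decide +kernel) (by decide +kernel)
      (e8_good_8 hodd h2))
    (good_of_conj' cert12_E8 [6, 0, 1, 2, 0, 3, 1, 2, 0, 3, 2, 4, 3, 1, 2, 0, 3, 2, 4, 3, 1, 5, 4, 3, 1, 2, 0, 3, 2, 4, 3, 1, 5, 4, 3, 2, 0, 6, 5, 4, 3, 1, 2, 0, 3, 2, 4, 3, 1, 5, 4, 3, 2, 0, 6, 5, 4, 3, 1, 2, 3, 4, 5, 6, 7, 6, 5, 4, 3, 1, 2, 0, 3, 2, 4, 3, 1, 5, 4, 3, 2, 0, 6, 5, 4, 3, 1, 2, 3, 4, 5, 6, 7, 6, 5, 4, 3, 1, 2, 0, 3, 2, 4, 3, 1, 5, 4, 3, 2, 0, 6, 5, 4, 3, 1, 2,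 3, 4, 5, 6, 7] [0, 1, 2, 0, 3, 1, 2, 0, 3, 2, 4, 3, 1, 2, 0, 3, 2, 4, 3, 1, 5, 4, 3, 1, 2, 0, 3, 2, 4, 3, 1, 5, 4, 3, 2, 0, 6, 5, 4, 3, 1, 2, 0, 3, 2, 4, 3, 1, 5, 4, 3, 2, 0, 6, 5, 4, 3, 1, 2, 3, 4, 5, 6] [7, 6, 5, 4, 3, 1, 2, 0, 3, 2, 4, 3, 1, 5, 4, 3, 2, 0, 6, 5, 4, 3, 1, 2, 3, 4, 5, 7] (by decide +kernel) (by decide +kernel) (by decide +kernel) (by decide +kernel)
      (e8_good_8 hodd h2))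
    (good_of_conj' cert12_E8 [6, 7, 0, 1, 2, 0, 3, 1, 2, 0, 3, 2, 4, 3, 1, 2, 0, 3, 2, 4, 3, 1, 5, 4, 3, 1, 2, 0, 3, 2, 4, 3, 1, 5, 4, 3, 2, 0, 6, 5, 4, 3, 1, 2, 0, 3, 2, 4, 3, 1, 5, 4, 3, 2, 0, 6, 5, 4, 3, 1, 2, 3, 4, 5, 6, 7, 6, 5, 4, 3, 1, 2, 0, 3, 2, 4, 3, 1, 5, 4, 3, 2, 0, 6, 5, 4, 3, 1, 2, 3, 4, 5, 6, 7, 6, 5, 4, 3, 1, 2, 0, 3, 2, 4, 3, 1, 5, 4, 3, 2, 0, 6, 5, 4, 3, 1, 2, 3, 4, 5, 6, 7, 7] [0, 1, 2, 0, 3, 1, 2, 0, 3, 2, 4, 3, 1, 2, 0, 3, 2, 4, 3, 1, 5, 4, 3, 1, 2, 0, 3, 2, 4, 3, 1, 5, 4, 3, 2, 0, 6, 5, 4, 3, 1, 2, 0, 3, 2, 4, 3, 1, 5, 4, 3, 2, 0, 6, 5, 4, 3, 1, 2, 3, 4, 5, 6] [7, 6, 5, 4, 3, 1, 2, 0, 3, 2, 4, 3, 1, 5, 4, 3, 2, 0, 6, 5, 4, 3, 1, 2, 3, 4, 5, 7] (by decide +kernel) (by decide +kernel) (by decide +kernel) (by decide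 +kernel)
      (e8_good_8 hodd h2))

theorem e8_good_rep (hodd : Fintype.card F % 2 = 1) (h2 : (2 : F) ≠ 0) : ∀ c, Good cert12_E8 F (repE8 c) := by
  intro c
  rcases Nat.lt_or_ge c 10 with h | h
  · interval_cases c
    · exact e8_good_0 hodd h2
    · exact e8_good_1 hodd h2
    · exact e8_good_2 hodd h2
    · exact e8_good_3 hodd h2
    · exact e8_good_4 hodd h2
    · exact e8_good_5 hodd h2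
    · exact e8_good_6 hodd h2
    · exact e8_good_7 hodd h2
    · exact e8_good_8 hodd h2
    · exact e8_good_9 hodd h2
  · have e : repE8 c = [] := by
      unfold repE8
      apply List.getD_eq_default
      simpa [repE8L] using h
    rw [e]
    exact e8_good_0 hodd h2

/-- every involution of `E₈(F)`, `F` finite of odd order, is conjugate to an element of `H` -/
theorem e8_inv_conj_diag (hodd : Fintype.card F % 2 = 1) (h2 : (2 : F) ≠ 0) (g : GL chevE8.Idx F)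
    (hg : g ∈ chevE8.group F) (hg2 : g * g = 1) :
    ∃ x ∈ chevE8.group F, x * g * x⁻¹ ∈ chevE8.diagonalSubgroup F :=
  conj_diag_of_table cert12_E8 lowStmt_E8 tabE8 tabE8_chk
    (fun k hk => good_of_chkCj cert12_E8 tabE8 cjE8 repE8 k (cjE8_chk k hk) (e8_good_rep hodd h2)) g hg hg2

end Cfsg.Agent.Lib.H12.OddInv
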