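import Mathlib
import Cfsg.Prelude.Def_LieExceptional
import Cfsg.Agent.Lib.H12.OddInvC
import Cfsg.Agent.Lib.H12.F4Cls4

/-!
# `F₄(F)`, `F` finite of odd order: every involution is conjugate to an element of `H` (generated tables)
-/

set_option autoImplicit false
set_option linter.unusedSectionVars false
set_option linter.unusedVariables false
set_option linter.unusedSimpArgs false
set_option maxRecDepth 100000

namespace Cfsg.Agent.Lib.H12.OddInv

open Cfsg Cfsg.Lie Matrix Cfsg.Agent.Lib.H29.Chev Cfsg.Agent.Lib.H12.F4V Cfsg.Agent.Lib.H21.IC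
  Cfsg.Agent.Lib.H12.InvCell Cfsg.Agent.Lib.H12.F4Cls

variable {F : Type*} [Field F] [Fintype F]

theorem f4_good_e (hodd : Fintype.card F % 2 = 1) (h2 : (2 : F) ≠ 0) : Good cert12_F4 F [] :=
  good_of_pos cert12_F4 [] (by decide +kernel)

theorem f4_good_0 (hodd : Fintype.card F % 2 = 1) (h2 : (2 : F) ≠ 0) : Good cert12_F4 F [0] :=
  stepB cert12_F4 h2 [0] [] 0 33 3 7 (by decide +kernel) (by decide +kernel) (by decide +kernel) (by decide +kernel) (by decide +kernel) (by decide +kernel)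
    (by decide +kernel) (by decide +kernel) (by decide +kernel) (by decide +kernel) (by decide +kernel) (by decide +kernel)
    (good_of_conj cert12_F4 [0, 0] [] [] (by decide +kernel) (by decide +kernel) (f4_good_e hodd h2))

theorem f4_good_2 (hodd : Fintype.card F % 2 = 1) (h2 : (2 : F) ≠ 0) : Good cert12_F4 F [2] :=
  stepB cert12_F4 h2 [2] [] 2 25 1 2 (by decide +kernel) (by decide +kernel) (by decide +kernel) (by decide +kernel) (by decide +kernel) (by decide +kernel)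
    (by decide +kernel) (by decide +kernel) (by decide +kernel) (by decide +kernel) (by decide +kernel) (by decide +kernel)
    (good_of_conj cert12_F4 [2, 2] [] [] (by decide +kernel) (by decide +kernel) (f4_good_e hodd h2))

theorem f4_good_20 (hodd : Fintype.card F % 2 = 1) (h2 : (2 : F) ≠ 0) : Good cert12_F4 F [2, 0] :=
  stepB cert12_F4 h2 [2, 0] [] 2 25 1 2 (by decide +kernel) (by decide +kernel) (by decide +kernel) (by decide +kernel) (by decide +kernel) (by decide +kernel)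
    (by decide +kernel) (by decide +kernel) (by decide +kernel) (by decide +kernel) (by decide +kernel) (by decide +kernel)
    (good_of_conj cert12_F4 [2, 2, 0] [0] [] (by decide +kernel) (by decide +kernel) (f4_good_0 hodd h2))

theorem f4_good_2121 (hodd : Fintype.card F % 2 = 1) (h2 : (2 : F) ≠ 0) : Good cert12_F4 F [2, 1, 2, 1] :=
  stepB cert12_F4 h2 [2, 1, 2, 1] [] 2 25 8 9 (by decide +kernel) (by decide +kernel) (by decide +kernel) (by decide +kernel) (by decide +kernel) (by decide +kernel)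
    (by decide +kernel) (by decide +kernel) (by decide +kernel) (by decide +kernel) (by decide +kernel) (by decide +kernel)
    (good_of_conj cert12_F4 [2, 2, 1, 2, 1] [2] [1] (by decide +kernel) (by decide +kernel) (f4_good_2 hodd h2))

theorem f4_good_212012010 (hodd : Fintype.card F % 2 = 1) (h2 : (2 : F) ≠ 0) : Good cert12_F4 F [2, 1, 2, 0, 1, 2, 0, 1, 0] :=
  stepB cert12_F4 h2 [2, 1, 2, 0, 1, 2, 0, 1, 0] [] 2 25 8 9 (by decide +kernel) (by decide +kernel) (by decide +kernel) (by decide +kernel) (by decide +kernel) (by decide +kernel)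
    (by decide +kernel) (by decide +kernel) (by decide +kernel) (by decide +kernel) (by decide +kernel) (by decide +kernel)
    (good_of_conj cert12_F4 [2, 2, 1, 2, 0, 1, 2, 0, 1, 0] [2, 1, 2, 1] [0, 1] (by decide +kernel) (by decide +kernel) (f4_good_2121 hodd h2))

theorem f4_good_321232121 (hodd : Fintype.card F % 2 = 1) (h2 : (2 : F) ≠ 0) : Good cert12_F4 F [3, 2, 1, 2, 3, 2, 1, 2, 1] :=
  stepA cert12_F4 hodd h2 [3, 2, 1, 2, 3, 2, 1, 2, 1] (by decide +kernel) 24 25 26 24 16 (by decide +kernel) (by decide +kernel) (by decide +kernel) (by decide +kernel)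
    (by decide +kernel) (by decide +kernel) (by decide +kernel) (by decide +kernel) (by decide +kernel) (Or.inl rfl) (by decide +kernel)
    [] [] [2] 3 2 3 (by decide +kernel) (by decide +kernel) (by decide +kernel) (by decide +kernel) (by decide +kernel) (by decide +kernel)
    (by decide +kernel) (by decide +kernel) (by decide +kernel)
    (good_of_conj cert12_F4 [3, 3, 2, 1, 2, 3, 2, 1, 2, 1] [2, 0] [3, 2, 1, 2, 0, 1, 2] (by decide +kernel) (by decide +kernel) (f4_good_20 hodd h2))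
    (good_of_conj cert12_F4 [2, 3, 2, 1, 2, 3, 2, 1, 2, 1] [2, 0] [3, 2, 1, 2, 3, 0, 1] (by decide +kernel) (by decide +kernel) (f4_good_20 hodd h2))
    (good_of_conj cert12_F4 [3, 2, 3, 2, 1, 2, 3, 2, 1, 2, 1, 2] [2, 0] [3, 2, 1, 2, 0, 1, 2] (by decide +kernel) (by decide +kernel) (f4_good_20 hodd h2))

theorem f4_good_321201232120123212012010 (hodd : Fintype.card F % 2 = 1) (h2 : (2 : F) ≠ 0) : Good cert12_F4 F [3, 2, 1, 2, 0, 1, 2, 3, 2, 1, 2, 0, 1, 2, 3, 2, 1, 2, 0, 1, 2, 0, 1, 0] :=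
  stepA cert12_F4 hodd h2 [3, 2, 1, 2, 0, 1, 2, 3, 2, 1, 2, 0, 1, 2, 3, 2, 1, 2, 0, 1, 2, 0, 1, 0] (by decide +kernel) 24 25 26 24 0 (by decide +kernel) (by decide +kernel) (by decide +kernel) (by decide +kernel)
    (by decide +kernel) (by decide +kernel) (by decide +kernel) (by decide +kernel) (by decide +kernel) (Or.inl rfl) (by decide +kernel)
    [] [] [2] 3 2 3 (by decide +kernel) (by decide +kernel) (by decide +kernel) (by decide +kernel) (by decide +kernel) (by decide +kernel)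
    (by decide +kernel) (by decide +kernel) (by decide +kernel)
    (good_of_conj cert12_F4 [3, 3, 2, 1, 2, 0, 1, 2, 3, 2, 1, 2, 0, 1, 2, 3, 2, 1, 2, 0, 1, 2, 0, 1, 0] [2, 1, 2, 0, 1, 2, 0, 1, 0] [3, 2, 1, 2, 0, 1, 2] (by decide +kernel) (by decide +kernel) (f4_good_212012010 hodd h2))
    (good_of_conj cert12_F4 [2, 3, 2, 1, 2, 0, 1, 2, 3, 2, 1, 2, 0, 1, 2, 3, 2, 1, 2, 0, 1, 2, 0, 1, 0] [2, 1, 2, 0, 1, 2, 0, 1, 0] [3, 2, 1, 2, 3, 0, 1] (by decide +kernel) (by decide +kernel) (f4_good_212012010 hodd h2))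
    (good_of_conj cert12_F4 [3, 2, 3, 2, 1, 2, 0, 1, 2, 3, 2, 1, 2, 0, 1, 2, 3, 2, 1, 2, 0, 1, 2, 0, 1, 0, 2] [2, 1, 2, 0, 1, 2, 0, 1, 0] [3, 2, 1, 2, 0, 1, 2] (by decide +kernel) (by decide +kernel) (f4_good_212012010 hodd h2))

/-- the involutions of `N` identified by the table of a set `J` of fundamental roots -/
theorem case_perm (m : GL chevF4.Idx F) (hm : m ∈ chevF4.monomialSubgroup F)
    (π : ℕ → ℕ) (hπ : cert12_F4.c6.c2.Perm m π)
    (hcomb : ∀ r, r < fdF4.n → fdF4.n / 2 ≤ r → fdF4.n / 2 ≤ π r →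
      ∀ j < fdF4.l, π (fdF4.simples.getD j 0) < fdF4.n / 2 → fdF4.rcZ fxF4 r j = 0)
    (Ws : List (List ℕ × ℕ)) (Jb : ℕ → Bool)
    (hJ : ∀ k < fdF4.l, (Jb k = true → π (fdF4.simples.getD k 0) = fdF4.simples.getD k 0) ∧
      (Jb k = false → π (fdF4.simples.getD k 0) < fdF4.n / 2))
    (hw : IsWd fdF4.l (wordOf Ws))
    (htab : ∀ i < fdF4.l,
      (∃ k < fdF4.l, Jb k = true ∧ fdF4.wordP fxF4 (wordOf Ws).reverse (fdF4.simples.getD i 0) = fdF4.simples.getD k 0) ∨
      (fdF4.wordP fxF4 (wordOf Ws).reverse (fdF4.simples.getD i 0) < fdF4.n / 2 ∧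
        ∃ j < fdF4.l, Jb j = false ∧
          fdF4.rcZ fxF4 (fdF4.n - 1 - fdF4.wordP fxF4 (wordOf Ws).reverse (fdF4.simples.getD i 0)) j ≠ 0)) :
    ∀ s < fdF4.n, π s = fdF4.wordP fxF4 (wordOf Ws) s :=
  (mem_diag_of_table cert12_F4 m hm π hπ hcomb (wordOf Ws) hw Jb hJ htab).2

theorem case_good (m : GL chevF4.Idx F) (hm : m ∈ chevF4.monomialSubgroup F) (hm2 : m * m = 1)
    (π : ℕ → ℕ) (hπ : cert12_F4.c6.c2.Perm m π)
    (hcomb : ∀ r, r < fdF4.n → fdF4.n / 2 ≤ r → fdF4.n / 2 ≤ π r →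
      ∀ j < fdF4.l, π (fdF4.simples.getD j 0) < fdF4.n / 2 → fdF4.rcZ fxF4 r j = 0)
    (Ws : List (List ℕ × ℕ)) (Jb : ℕ → Bool)
    (hJ : ∀ k < fdF4.l, (Jb k = true → π (fdF4.simples.getD k 0) = fdF4.simples.getD k 0) ∧
      (Jb k = false → π (fdF4.simples.getD k 0) < fdF4.n / 2))
    (hw : IsWd fdF4.l (wordOf Ws))
    (htab : ∀ i < fdF4.l,
      (∃ k < fdF4.l, Jb k = true ∧ fdF4.wordP fxF4 (wordOf Ws).reverse (fdF4.simples.getD i 0) = fdF4.simples.getD k 0) ∨
      (fdF4.wordP fxF4 (wordOf Ws).reverse (fdF4.simples.getD i 0) < fdF4.n / 2 ∧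
        ∃ j < fdF4.l, Jb j = false ∧
          fdF4.rcZ fxF4 (fdF4.n - 1 - fdF4.wordP fxF4 (wordOf Ws).reverse (fdF4.simples.getD i 0)) j ≠ 0))
    (w : List ℕ) (hww : wordOf Ws = w) (hG : Good cert12_F4 F w) :
    ∃ g ∈ chevF4.group F, g * m * g⁻¹ ∈ chevF4.diagonalSubgroup F := by
  subst hww
  exact hG m hm hm2 (cert12_F4.perm_congr _ _ _ hπ (case_perm m hm π hπ hcomb Ws Jb hJ hw htab))

/-- the involutions of `N` satisfying the condition on the fundamental roots are conjugate into `H` -/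
theorem conj_diag_of_monomial (hodd : Fintype.card F % 2 = 1) (h2 : (2 : F) ≠ 0)
    (m : GL chevF4.Idx F) (hm : m ∈ chevF4.monomialSubgroup F) (hm2 : m * m = 1)
    (π : ℕ → ℕ) (hπ : cert12_F4.c6.c2.Perm m π)
    (hJc : ∀ i < fdF4.l, π (fdF4.simples.getD i 0) < fdF4.n / 2 ∨ π (fdF4.simples.getD i 0) = fdF4.simples.getD i 0)
    (hcomb : ∀ r, r < fdF4.n → fdF4.n / 2 ≤ r → fdF4.n / 2 ≤ π r →
      ∀ j < fdF4.l, π (fdF4.simples.getD j 0) < fdF4.n / 2 → fdF4.rcZ fxF4 r j = 0) :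
    ∃ g ∈ chevF4.group F, g * m * g⁻¹ ∈ chevF4.diagonalSubgroup F := by
  have hk4 : ∀ k < fdF4.l, k = 0 ∨ k = 1 ∨ k = 2 ∨ k = 3 := by
    intro k hk
    rw [f4_l] at hk
    omega
  rcases hJc 0 (by decide) with h0 | h0 <;> rcases hJc 1 (by decide) with h1 | h1 <;>
    rcases hJc 2 (by decide) with h2' | h2' <;> rcases hJc 3 (by decide) with h3 | h3

  · -- J = (), S = [33, 37, 38, 39]
    exact case_good m hm hm2 π hπ hcomb [([], 0), ([1, 2, 1], 0), ([3, 1, 2, 1], 0), ([2, 3, 1, 2, 1], 0)] (fun k => [false, false, false, false].getD k false)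
      (by intro k hk; rcases hk4 k hk with rfl | rfl | rfl | rfl <;> simp <;> assumption)
      (by decide +kernel) (by decide +kernel) [0, 1, 2, 1, 0, 1, 2, 1, 3, 1, 2, 1, 0, 1, 2, 1, 3, 2, 3, 1, 2, 1, 0, 1, 2, 1, 3, 2] (by decide +kernel)
      (good_of_conj cert12_F4 [0, 1, 2, 1, 0, 1, 2, 1, 3, 1, 2, 1, 0, 1, 2, 1, 3, 2, 3, 1, 2, 1, 0, 1, 2, 1, 3, 2] [3, 2, 1, 2, 0, 1, 2, 3, 2, 1, 2, 0, 1, 2, 3, 2, 1, 2, 0, 1, 2, 0, 1, 0] [] (by decide +kernel) (by decide +kernel) (f4_good_321201232120123212012010 hodd h2))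

  · -- J = (3,), S = [32, 43, 45]
    exact case_good m hm hm2 π hπ hcomb [([2, 3, 1], 2), ([2, 3, 0, 1], 2), ([1, 2, 3, 0, 1], 2)] (fun k => [false, false, false, true].getD k false)
      (by intro k hk; rcases hk4 k hk with rfl | rfl | rfl | rfl <;> simp <;> assumption)
      (by decide +kernel) (by decide +kernel) [2, 3, 1, 2, 1, 3, 2, 2, 3, 0, 1, 2, 1, 0, 3, 2, 1, 2, 3, 0, 1, 2, 1, 0, 3, 2, 1] (by decide +kernel)
      (good_of_conj cert12_F4 [2, 3, 1, 2, 1, 3, 2, 2, 3, 0, 1, 2, 1, 0, 3, 2, 1, 2, 3, 0, 1, 2, 1, 0, 3, 2, 1] [2, 1, 2, 0, 1, 2, 0, 1, 0] [3, 2, 1, 2, 0, 1, 2] (by decide +kernel) (by decide +kernel) (f4_good_212012010 hodd h2))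

  · -- J = (2,), S = [30, 41, 47]
    exact case_good m hm hm2 π hπ hcomb [([1], 2), ([0, 1], 2), ([3, 2, 1, 2, 3, 0, 1], 2)] (fun k => [false, false, true, false].getD k false)
      (by intro k hk; rcases hk4 k hk with rfl | rfl | rfl | rfl <;> simp <;> assumption)
      (by decide +kernel) (by decide +kernel) [1, 2, 1, 0, 1, 2, 1, 0, 3, 2, 1, 2, 3, 0, 1, 2, 1, 0, 3, 2, 1, 2, 3] (by decide +kernel)
      (good_of_conj cert12_F4 [1, 2, 1, 0, 1, 2, 1, 0, 3, 2, 1, 2, 3, 0, 1, 2, 1, 0, 3, 2, 1, 2, 3] [2, 1, 2, 0, 1, 2, 0, 1, 0] [3, 2, 1, 2, 3, 0, 1] (by decide +kernel) (by decide +kernel) (f4_good_212012010 hodd h2))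

  · -- J = (2, 3), S = [28, 31, 44]
    exfalso
    have := case_perm m hm π hπ hcomb [([2], 1), ([3, 1], 2), ([0, 1, 2, 3, 1, 2, 1], 0)] (fun k => [false, false, true, true].getD k false)
      (by intro k hk; rcases hk4 k hk with rfl | rfl | rfl | rfl <;> simp <;> assumption)
      (by decide +kernel) (by decide +kernel) (fdF4.simples.getD 2 0) (by decide)
    rw [h2'] at this
    revert this
    decide

  · -- J = (1,), S = [28, 29, 44]
    exact case_good m hm hm2 π hπ hcomb [([2], 1), ([3, 2], 1), ([0, 1, 2, 3, 1, 2, 1], 0)] (fun k => [false, true, false, false].getD k false)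
      (by intro k hk; rcases hk4 k hk with rfl | rfl | rfl | rfl <;> simp <;> assumption)
      (by decide +kernel) (by decide +kernel) [2, 1, 2, 3, 2, 1, 2, 3, 0, 1, 2, 3, 1, 2, 1, 0, 1, 2, 1, 3, 2, 1, 0] (by decide +kernel)
      (good_of_conj cert12_F4 [2, 1, 2, 3, 2, 1, 2, 3, 0, 1, 2, 3, 1, 2, 1, 0, 1, 2, 1, 3, 2, 1, 0] [3, 2, 1, 2, 3, 2, 1, 2, 1] [0, 1, 2, 3, 1, 2, 0] (by decide +kernel) (by decide +kernel) (f4_good_321232121 hodd h2))

  · -- J = (1, 3), S = [44, 32]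
    exact case_good m hm hm2 π hπ hcomb [([0, 1, 2, 3, 1, 2, 1], 0), ([2, 3, 1], 2)] (fun k => [false, true, false, true].getD k false)
      (by intro k hk; rcases hk4 k hk with rfl | rfl | rfl | rfl <;> simp <;> assumption)
      (by decide +kernel) (by decide +kernel) [0, 1, 2, 3, 1, 2, 1, 0, 1, 2, 1, 3, 2, 1, 0, 2, 3, 1, 2, 1, 3, 2] (by decide +kernel)
      (good_of_conj cert12_F4 [0, 1, 2, 3, 1, 2, 1, 0, 1, 2, 1, 3, 2, 1, 0, 2, 3, 1, 2, 1, 3, 2] [2, 0] [1, 2, 3, 2, 1, 2, 0, 1, 2, 0] (by decide +kernel) (by decide +kernel) (f4_good_20 hodd h2))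

  · -- J = (1, 2), S = [41, 47]
    exact case_good m hm hm2 π hπ hcomb [([0, 1], 2), ([3, 2, 1, 2, 3, 0, 1], 2)] (fun k => [false, true, true, false].getD k false)
      (by intro k hk; rcases hk4 k hk with rfl | rfl | rfl | rfl <;> simp <;> assumption)
      (by decide +kernel) (by decide +kernel) [0, 1, 2, 1, 0, 3, 2, 1, 2, 3, 0, 1, 2, 1, 0, 3, 2, 1, 2, 3] (by decide +kernel)
      (good_of_conj cert12_F4 [0, 1, 2, 1, 0, 3, 2, 1, 2, 3, 0, 1, 2, 1, 0, 3, 2, 1, 2, 3] [2, 1, 2, 1] [3, 2, 0, 1, 2, 3, 1, 0] (by decide +kernel) (by decide +kernel) (f4_good_2121 hodd h2))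

  · -- J = (1, 2, 3), S = [44]
    exact case_good m hm hm2 π hπ hcomb [([0, 1, 2, 3, 1, 2, 1], 0)] (fun k => [false, true, true, true].getD k false)
      (by intro k hk; rcases hk4 k hk with rfl | rfl | rfl | rfl <;> simp <;> assumption)
      (by decide +kernel) (by decide +kernel) [0, 1, 2, 3, 1, 2, 1, 0, 1, 2, 1, 3, 2, 1, 0] (by decide +kernel)
      (good_of_conj cert12_F4 [0, 1, 2, 3, 1, 2, 1, 0, 1, 2, 1, 3, 2, 1, 0] [0] [1, 2, 3, 1, 2, 1, 0] (by decide +kernel) (by decide +kernel) (f4_good_0 hodd h2))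

  · -- J = (0,), S = [37, 38, 39]
    exact case_good m hm hm2 π hπ hcomb [([1, 2, 1], 0), ([3, 1, 2, 1], 0), ([2, 3, 1, 2, 1], 0)] (fun k => [true, false, false, false].getD k false)
      (by intro k hk; rcases hk4 k hk with rfl | rfl | rfl | rfl <;> simp <;> assumption)
      (by decide +kernel) (by decide +kernel) [1, 2, 1, 0, 1, 2, 1, 3, 1, 2, 1, 0, 1, 2, 1, 3, 2, 3, 1, 2, 1, 0, 1, 2, 1, 3, 2] (by decide +kernel)
      (good_of_conj cert12_F4 [1, 2, 1, 0, 1, 2, 1, 3, 1, 2, 1, 0, 1, 2, 1, 3, 2, 3, 1, 2, 1, 0, 1, 2, 1, 3, 2] [3, 2, 1, 2, 3, 2, 1, 2, 1] [0, 1, 2, 3, 1, 2, 1] (by decide +kernel) (by decide +kernel) (f4_good_321232121 hodd h2))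

  · -- J = (0, 3), S = [39, 45]
    exact case_good m hm hm2 π hπ hcomb [([2, 3, 1, 2, 1], 0), ([1, 2, 3, 0, 1], 2)] (fun k => [true, false, false, true].getD k false)
      (by intro k hk; rcases hk4 k hk with rfl | rfl | rfl | rfl <;> simp <;> assumption)
      (by decide +kernel) (by decide +kernel) [2, 3, 1, 2, 1, 0, 1, 2, 1, 3, 2, 1, 2, 3, 0, 1, 2, 1, 0, 3, 2, 1] (by decide +kernel)
      (good_of_conj cert12_F4 [2, 3, 1, 2, 1, 0, 1, 2, 1, 3, 2, 1, 2, 3, 0, 1, 2, 1, 0, 3, 2, 1] [2, 0] [1, 2, 3, 2, 1, 2, 0, 1, 2, 1] (by decide +kernel) (by decide +kernel) (f4_good_20 hodd h2))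

  · -- J = (0, 2), S = [37, 47]
    exact case_good m hm hm2 π hπ hcomb [([1, 2, 1], 0), ([3, 2, 1, 2, 3, 0, 1], 2)] (fun k => [true, false, true, false].getD k false)
      (by intro k hk; rcases hk4 k hk with rfl | rfl | rfl | rfl <;> simp <;> assumption)
      (by decide +kernel) (by decide +kernel) [1, 2, 1, 0, 1, 2, 1, 3, 2, 1, 2, 3, 0, 1, 2, 1, 0, 3, 2, 1, 2, 3] (by decide +kernel)
      (good_of_conj cert12_F4 [1, 2, 1, 0, 1, 2, 1, 3, 2, 1, 2, 3, 0, 1, 2, 1, 0, 3, 2, 1, 2, 3] [2, 0] [3, 1, 2, 0, 1, 2, 3, 2, 0, 1] (by decide +kernel) (by decide +kernel) (f4_good_20 hodd h2))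

  · -- J = (0, 2, 3), S = [38, 46]
    exfalso
    have := case_perm m hm π hπ hcomb [([3, 1, 2, 1], 0), ([2, 1, 2, 3, 0, 1], 2)] (fun k => [true, false, true, true].getD k false)
      (by intro k hk; rcases hk4 k hk with rfl | rfl | rfl | rfl <;> simp <;> assumption)
      (by decide +kernel) (by decide +kernel) (fdF4.simples.getD 2 0) (by decide)
    rw [h2'] at this
    revert this
    decide

  · -- J = (0, 1), S = [24, 40, 43]
    exfalso
    have := case_perm m hm π hπ hcomb [([], 3), ([1, 2, 3, 1, 2, 1], 0), ([2, 3, 0, 1], 2)] (fun k => [true, true, false, false].getD k false)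
      (by intro k hk; rcases hk4 k hk with rfl | rfl | rfl | rfl <;> simp <;> assumption)
      (by decide +kernel) (by decide +kernel) (fdF4.simples.getD 0 0) (by decide)
    rw [h0] at this
    revert this
    decide

  · -- J = (0, 1, 3), S = [40, 43]
    exfalso
    have := case_perm m hm π hπ hcomb [([1, 2, 3, 1, 2, 1], 0), ([2, 3, 0, 1], 2)] (fun k => [true, true, false, true].getD k false)
      (by intro k hk; rcases hk4 k hk with rfl | rfl | rfl | rfl <;> simp <;> assumption)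
      (by decide +kernel) (by decide +kernel) (fdF4.simples.getD 0 0) (by decide)
    rw [h0] at this
    revert this
    decide

  · -- J = (0, 1, 2), S = [47]
    exact case_good m hm hm2 π hπ hcomb [([3, 2, 1, 2, 3, 0, 1], 2)] (fun k => [true, true, true, false].getD k false)
      (by intro k hk; rcases hk4 k hk with rfl | rfl | rfl | rfl <;> simp <;> assumption)
      (by decide +kernel) (by decide +kernel) [3, 2, 1, 2, 3, 0, 1, 2, 1, 0, 3, 2, 1, 2, 3] (by decide +kernel)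
      (good_of_conj cert12_F4 [3, 2, 1, 2, 3, 0, 1, 2, 1, 0, 3, 2, 1, 2, 3] [2] [3, 1, 2, 0, 1, 2, 3] (by decide +kernel) (by decide +kernel) (f4_good_2 hodd h2))

  · -- J = (0, 1, 2, 3), S = []
    exact case_good m hm hm2 π hπ hcomb [] (fun k => [true, true, true, true].getD k false)
      (by intro k hk; rcases hk4 k hk with rfl | rfl | rfl | rfl <;> simp <;> assumption)
      (by decide +kernel) (by decide +kernel) [] (by decide +kernel)
      (good_of_conj cert12_F4 [] [] [] (by decide +kernel) (by decide +kernel) (f4_good_e hodd h2))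


/-- every involution of `F₄(F)`, `F` finite of odd order, is conjugate to an element of `H` -/
theorem f4_inv_conj_diag (hodd : Fintype.card F % 2 = 1) (h2 : (2 : F) ≠ 0) (g : GL chevF4.Idx F)
    (hg : g ∈ chevF4.group F) (hg2 : g * g = 1) :
    ∃ x ∈ chevF4.group F, x * g * x⁻¹ ∈ chevF4.diagonalSubgroup F := by
  obtain ⟨z, hz, m, hm, e, π, hπ, _, _, hJc, hcomb⟩ :=
    exists_conj_monomial cert12_F4 (suppStmt cert12_F4) (combStmt cert12_F4) lowStmt_F4 g hg hg2
  have hm2 : m * m = 1 := by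
    rw [← e]
    have : z * g * z⁻¹ * (z * g * z⁻¹) = z * (g * g) * z⁻¹ := by group
    rw [this, hg2]; group
  obtain ⟨y, hy, hym⟩ := conj_diag_of_monomial hodd h2 m hm hm2 π hπ hJc
    (fun r hr hpos hπr => (hcomb r hr hpos hπr).2)
  refine ⟨y * z, mul_mem hy hz, ?_⟩
  have : y * z * g * (y * z)⁻¹ = y * (z * g * z⁻¹) * y⁻¹ := by group
  rw [this, e]
  exact hym

end Cfsg.Agent.Lib.H12.OddInv
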