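import Mathlib
import Cfsg.Prelude.Def_LieExceptional
import Cfsg.Agent.Lib.H12.OddInvA
import Cfsg.Agent.Lib.H29.ChevCert13

/-!
# `F₄(F)`, odd characteristic: the two involutions `s = h_{α₁}(-1)` and `t = h_{α₄}(-1)` of the torus

`α₁ = 33` is a short fundamental root and `α₄ = 24` a long one.  `s` centralises `16` positive root subgroups
(centraliser of type `B₄`), `t` centralises `10` (type `C₃ A₁`).
-/

set_option autoImplicit false
set_option linter.unusedSectionVars false
set_option linter.unusedSimpArgs false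
set_option linter.unusedVariables false

namespace Cfsg.Agent.Lib.H12.OddInv

open Cfsg.Lie Matrix Cfsg.Agent.Lib.H12 Cfsg.Agent.Lib.H29.Chev

/-- the involution `h_{33}(-1)` of `F₄(F)` (centraliser of type `B₄`) -/
noncomputable def sF4 (F : Type*) [Field F] : GL chevF4.Idx F := hneg cert12_F4 F 33

/-- the involution `h_{24}(-1)` of `F₄(F)` (centraliser of type `C₃ A₁`) -/
noncomputable def tF4 (F : Type*) [Field F] : GL chevF4.Idx F := hneg cert12_F4 F 24

variable {F : Type*} [Field F]

theorem f4n : fdF4.n = 48 := rfl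

theorem sF4_mem_diag : sF4 F ∈ chevF4.diagonalSubgroup F := hneg_mem_diag cert12_F4 33 (by rw [f4n]; norm_num)

theorem tF4_mem_diag : tF4 F ∈ chevF4.diagonalSubgroup F := hneg_mem_diag cert12_F4 24 (by rw [f4n]; norm_num)

theorem sF4_mem_group : sF4 F ∈ chevF4.group F := hneg_mem_group cert12_F4 33 (by rw [f4n]; norm_num)

theorem tF4_mem_group : tF4 F ∈ chevF4.group F := hneg_mem_group cert12_F4 24 (by rw [f4n]; norm_num)

theorem sF4_mul_self : sF4 F * sF4 F = 1 := hneg_mul_self cert12_F4 33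

theorem tF4_mul_self : tF4 F * tF4 F = 1 := hneg_mul_self cert12_F4 24

theorem dE_sF4 (r : ℕ) (hr : r < 48) : dE chevF4 (sF4 F) r = (-1 : F) ^ (fdF4.pr r 33) :=
  dE_hneg cert12_F4 33 r (by rw [f4n]; norm_num) hr

theorem dE_tF4 (r : ℕ) (hr : r < 48) : dE chevF4 (tF4 F) r = (-1 : F) ^ (fdF4.pr r 24) :=
  dE_hneg cert12_F4 24 r (by rw [f4n]; norm_num) hr

end Cfsg.Agent.Lib.H12.OddInv
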