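import Mathlib
import Cfsg.Prelude.Def_LieExceptional
import Cfsg.Agent.Lib.H12.OddF4Tab
import Cfsg.Agent.Lib.H21.OddCentC

/-!
# `F₄(F)`, `F` finite of odd order: the two classes of involutions (assembly, given the two centraliser orders)
-/

set_option autoImplicit false
set_option linter.unusedSectionVars false
set_option linter.unusedVariables false
set_option linter.unusedSimpArgs false
set_option maxRecDepth 100000

namespace Cfsg.Agent.Lib.H12.OddInv

open Cfsg Cfsg.Lie Matrix Cfsg.Agent.Lib.H29.Chev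

variable {F : Type*} [Field F] [Fintype F]

theorem two_ne_zero_of_odd' (hF : Odd (Fintype.card F)) : (2 : F) ≠ 0 := by
  intro h
  have : CharP F 2 := CharTwo.of_one_ne_zero_of_two_eq_zero one_ne_zero h
  have h2 : ringChar F = 2 := ringChar.eq F 2
  have := FiniteField.even_card_iff_char_two.mp h2
  rcases hF with ⟨k, hk⟩
  omega

/-- every involution of `F₄(F)` is conjugate to `s` or to `t` -/
theorem f4_inv_conj_st (hF : Odd (Fintype.card F)) (g : GL chevF4.Idx F) (hg : g ∈ chevF4.group F)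
    (hg2 : g * g = 1) (hg1 : g ≠ 1) : ConjG chevF4 F g (sF4 F) ∨ ConjG chevF4 F g (tF4 F) := by
  have h2 := two_ne_zero_of_odd' hF
  have hodd : Fintype.card F % 2 = 1 := Nat.odd_iff.mp hF
  obtain ⟨x, hx, hxd⟩ := f4_inv_conj_diag hodd h2 g hg hg2
  have hh2 : (x * g * x⁻¹) * (x * g * x⁻¹) = 1 := by
    have : (x * g * x⁻¹) * (x * g * x⁻¹) = x * (g * g) * x⁻¹ := by group
    rw [this, hg2]; group
  have hh1 : x * g * x⁻¹ ≠ 1 := by
    intro h
    apply hg1
    have : g = x⁻¹ * (x * g * x⁻¹) * x := by group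
    rw [this, h]; group
  rcases Cfsg.Agent.Lib.H21.OddCent.f4_diag_inv_conj _ hxd hh2 hh1 with h | h
  · exact Or.inl (ConjG.trans ⟨x, hx, rfl⟩ h)
  · exact Or.inr (ConjG.trans ⟨x, hx, rfl⟩ h)

theorem sF4_ne_one (h2 : (2 : F) ≠ 0) : sF4 F ≠ 1 := by
  intro h
  have h1 := dE_sF4 (F := F) 27 (by norm_num)
  rw [h, cert12_F4.dE_one, show fdF4.pr 27 33 = -1 from by decide +kernel] at h1
  have : (1 : F) = -1 := by simpa using h1
  apply h2
  linear_combination this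

theorem tF4_ne_one (h2 : (2 : F) ≠ 0) : tF4 F ≠ 1 := by
  intro h
  have h1 := dE_tF4 (F := F) 25 (by norm_num)
  rw [h, cert12_F4.dE_one, show fdF4.pr 25 24 = -1 from by decide +kernel] at h1
  have : (1 : F) = -1 := by simpa using h1
  apply h2
  linear_combination this

theorem card_centralizer_conj' {G : Type*} [Group G] (g s : G) :
    Nat.card (Subgroup.centralizer ({g * s * g⁻¹} : Set G)) = Nat.card (Subgroup.centralizer ({s} : Set G)) := by
  apply Nat.card_congr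
  refine
    { toFun := fun x => ⟨g⁻¹ * x.1 * g, ?_⟩
      invFun := fun y => ⟨g * y.1 * g⁻¹, ?_⟩
      left_inv := fun x => Subtype.ext (by simp [mul_assoc])
      right_inv := fun y => Subtype.ext (by simp [mul_assoc]) }
  · have hx := x.2
    rw [Subgroup.mem_centralizer_iff] at hx ⊢
    intro h hh
    rw [Set.mem_singleton_iff] at hh
    subst hh
    have := hx (g * h * g⁻¹) rfl
    calc h * (g⁻¹ * x.1 * g) = g⁻¹ * ((g * h * g⁻¹) * x.1) * g := by group
      _ = g⁻¹ * (x.1 * (g * h * g⁻¹)) * g := by rw [this]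
      _ = g⁻¹ * x.1 * g * h := by group
  · have hy := y.2
    rw [Subgroup.mem_centralizer_iff] at hy ⊢
    intro h hh
    rw [Set.mem_singleton_iff] at hh
    subst hh
    have := hy s rfl
    calc g * s * g⁻¹ * (g * y.1 * g⁻¹) = g * (s * y.1) * g⁻¹ := by group
      _ = g * (y.1 * s) * g⁻¹ := by rw [this]
      _ = g * y.1 * g⁻¹ * (g * s * g⁻¹) := by group

theorem orders_ne (q : ℕ) (hq : 2 ≤ q) :
    q ^ 16 * (q ^ 2 - 1) * (q ^ 4 - 1) * (q ^ 6 - 1) * (q ^ 8 - 1) ≠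
      q ^ 10 * (q ^ 2 - 1) ^ 2 * (q ^ 4 - 1) * (q ^ 6 - 1) := by
  have h2 : 4 ≤ q ^ 2 := by nlinarith
  have h4 : q ^ 2 ≤ q ^ 4 := Nat.pow_le_pow_right (by omega) (by norm_num)
  have h6 : q ^ 2 ≤ q ^ 6 := Nat.pow_le_pow_right (by omega) (by norm_num)
  have h8 : q ^ 2 < q ^ 8 := Nat.pow_lt_pow_right (by omega) (by norm_num)
  have h10 : q ^ 10 ≤ q ^ 16 := Nat.pow_le_pow_right (by omega) (by norm_num)
  have hq10 : 0 < q ^ 10 := Nat.pow_pos (by omega)
  have a0 : 0 < q ^ 2 - 1 := by omega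
  have b0 : 0 < q ^ 4 - 1 := by omega
  have c0 : 0 < q ^ 6 - 1 := by omega
  have ad : q ^ 2 - 1 < q ^ 8 - 1 := by omega
  apply Nat.ne_of_gt
  have e1 : q ^ 10 * (q ^ 2 - 1) ^ 2 * (q ^ 4 - 1) * (q ^ 6 - 1) =
      (q ^ 10 * (q ^ 2 - 1) * (q ^ 4 - 1) * (q ^ 6 - 1)) * (q ^ 2 - 1) := by ring
  rw [e1]
  have e2 : q ^ 10 * (q ^ 2 - 1) * (q ^ 4 - 1) * (q ^ 6 - 1) ≤ q ^ 16 * (q ^ 2 - 1) * (q ^ 4 - 1) * (q ^ 6 - 1) :=
    Nat.mul_le_mul_right _ (Nat.mul_le_mul_right _ (Nat.mul_le_mul_right _ h10))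
  have pos : 0 < q ^ 10 * (q ^ 2 - 1) * (q ^ 4 - 1) * (q ^ 6 - 1) :=
    Nat.mul_pos (Nat.mul_pos (Nat.mul_pos hq10 a0) b0) c0
  calc q ^ 10 * (q ^ 2 - 1) * (q ^ 4 - 1) * (q ^ 6 - 1) * (q ^ 2 - 1)
      < q ^ 10 * (q ^ 2 - 1) * (q ^ 4 - 1) * (q ^ 6 - 1) * (q ^ 8 - 1) := Nat.mul_lt_mul_of_pos_left ad pos
    _ ≤ q ^ 16 * (q ^ 2 - 1) * (q ^ 4 - 1) * (q ^ 6 - 1) * (q ^ 8 - 1) := Nat.mul_le_mul_right _ e2

/-- the main theorem, given the two centraliser orders -/
theorem f4_odd_main (hF : Odd (Fintype.card F))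
    (cs : Nat.card (Subgroup.centralizer ({⟨sF4 F, sF4_mem_group⟩} : Set ↥(chevF4.group F))) =
      Fintype.card F ^ 16 * (Fintype.card F ^ 2 - 1) * (Fintype.card F ^ 4 - 1) * (Fintype.card F ^ 6 - 1) *
        (Fintype.card F ^ 8 - 1))
    (ct : Nat.card (Subgroup.centralizer ({⟨tF4 F, tF4_mem_group⟩} : Set ↥(chevF4.group F))) =
      Fintype.card F ^ 10 * (Fintype.card F ^ 2 - 1) ^ 2 * (Fintype.card F ^ 4 - 1) * (Fintype.card F ^ 6 - 1)) :
    ∃ s t : ↥(chevF4.group F), orderOf s = 2 ∧ orderOf t = 2 ∧ ¬ IsConj s t ∧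
      (∀ u : ↥(chevF4.group F), orderOf u = 2 → IsConj u s ∨ IsConj u t) ∧
      Nat.card (Subgroup.centralizer ({s} : Set ↥(chevF4.group F))) =
        Fintype.card F ^ 16 * (Fintype.card F ^ 2 - 1) * (Fintype.card F ^ 4 - 1) * (Fintype.card F ^ 6 - 1) *
          (Fintype.card F ^ 8 - 1) ∧
      Nat.card (Subgroup.centralizer ({t} : Set ↥(chevF4.group F))) =
        Fintype.card F ^ 10 * (Fintype.card F ^ 2 - 1) ^ 2 * (Fintype.card F ^ 4 - 1) * (Fintype.card F ^ 6 - 1) := by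
  have h2 := two_ne_zero_of_odd' hF
  have hq : 2 ≤ Fintype.card F := Fintype.one_lt_card
  set s : ↥(chevF4.group F) := ⟨sF4 F, sF4_mem_group⟩ with hs
  set t : ↥(chevF4.group F) := ⟨tF4 F, tF4_mem_group⟩ with ht
  have hp2 : Fact (Nat.Prime 2) := ⟨Nat.prime_two⟩
  have os : orderOf s = 2 := by
    apply orderOf_eq_prime
    · apply Subtype.ext
      rw [pow_two]
      exact sF4_mul_self
    · intro h
      exact sF4_ne_one h2 (congrArg Subtype.val h)
  have ot : orderOf t = 2 := by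
    apply orderOf_eq_prime
    · apply Subtype.ext
      rw [pow_two]
      exact tF4_mul_self
    · intro h
      exact tF4_ne_one h2 (congrArg Subtype.val h)
  refine ⟨s, t, os, ot, ?_, ?_, cs, ct⟩
  · intro hc
    rw [isConj_iff] at hc
    obtain ⟨c, hc⟩ := hc
    have := card_centralizer_conj' c s
    rw [hc, cs, ct] at this
    exact orders_ne _ hq this.symm
  · intro u hu
    have hu2 : (u : GL chevF4.Idx F) * (u : GL chevF4.Idx F) = 1 := by
      have h1 : u ^ 2 = 1 := by rw [← hu]; exact pow_orderOf_eq_one u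
      have := congrArg Subtype.val h1
      simpa [pow_two] using this
    have hu1 : (u : GL chevF4.Idx F) ≠ 1 := by
      intro h
      have : u = 1 := Subtype.ext h
      rw [this, orderOf_one] at hu
      omega
    rcases f4_inv_conj_st hF u.1 u.2 hu2 hu1 with ⟨x, hx, hxe⟩ | ⟨x, hx, hxe⟩
    · left
      rw [isConj_iff]
      exact ⟨⟨x, hx⟩, Subtype.ext hxe⟩
    · right
      rw [isConj_iff]
      exact ⟨⟨x, hx⟩, Subtype.ext hxe⟩

end Cfsg.Agent.Lib.H12.OddInv
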