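import Mathlib
import Cfsg.Prelude.Def_LieExceptional
import Cfsg.Agent.Lib.H12.OddE8Tab
import Cfsg.Agent.Lib.H12.OddF4Fin
import Cfsg.Agent.Lib.H21.E8OddH2ORB
import Cfsg.Agent.Lib.H13.E8OddCent

/-!
# `E₈(F)`, `F` finite of odd order: the two classes of involutions (assembly)

Pieces: (B) `e8_inv_conj_diag` (every involution is conjugate into the torus `H`; `Lib/H12/OddE8Tab`),
(C) `Cfsg.Agent.Lib.H21.E8Odd.H2_conj` (an involution of `H` is `N`-conjugate to `zS` or `zT`; helper21),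
(D) `Cfsg.Agent.Lib.H13.E8Odd.card_cent_zS / card_cent_zT` (the two centraliser orders; helper13 on helper29's
generic `CentDiag`).
-/

set_option autoImplicit false
set_option linter.unusedSectionVars false
set_option linter.unusedVariables false
set_option linter.unusedSimpArgs false
set_option maxRecDepth 100000

namespace Cfsg.Agent.Lib.H12.OddInv

open Cfsg Cfsg.Lie Matrix Cfsg.Agent.Lib.H29.Chev Cfsg.Agent.Lib.H13.E8Odd

variable {F : Type*} [Field F]

theorem e8_neg_one_zpow_mul_self (k : ℤ) : ((-1 : F) ^ k) * ((-1 : F) ^ k) = 1 := by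
  rw [← mul_zpow]
  simp

theorem zT_mul_self : zT F * zT F = 1 := by
  apply cert12_E8.diag_ext _ _ (mul_mem (zT_mem F) (zT_mem F)) (one_mem _)
  intro i hi
  have hs := cert12_E8.c6.c2.simple_lt i hi
  rw [cert12_E8.dE_mul _ _ (zT_mem F) (zT_mem F) _ hs, dE_zT F _ hs, cert12_E8.dE_one,
    e8_neg_one_zpow_mul_self]

theorem zS_mul_self : zS F * zS F = 1 := by
  apply cert12_E8.diag_ext _ _ (mul_mem (zS_mem F) (zS_mem F)) (one_mem _)
  intro i hi
  have hs := cert12_E8.c6.c2.simple_lt i hi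
  rw [cert12_E8.dE_mul _ _ (zS_mem F) (zS_mem F) _ hs, dE_zS F _ hs, cert12_E8.dE_one,
    e8_neg_one_zpow_mul_self]

theorem zT_ne_one (h2 : (2 : F) ≠ 0) : zT F ≠ 1 := by
  intro h
  have h1 := dE_hm F 120 121 (by norm_num)
  rw [show hm F 120 = zT F from rfl, h, cert12_E8.dE_one, show fdE8.pr 121 120 = -1 from by decide +kernel] at h1
  have : (1 : F) = -1 := by simpa using h1
  apply h2
  linear_combination this

theorem zS_ne_one (h2 : (2 : F) ≠ 0) : zS F ≠ 1 := by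
  intro h
  have h1 := cert12_E8.dE_mul (hm F 123) (hm F 120) (hm_mem F 123 (by norm_num)) (hm_mem F 120 (by norm_num)) 126
    (by decide)
  rw [show hm F 123 * hm F 120 = zS F from rfl, h, cert12_E8.dE_one, dE_hm F 123 126 (by norm_num),
    dE_hm F 120 126 (by norm_num), show fdE8.pr 126 123 = -1 from by decide +kernel,
    show fdE8.pr 126 120 = 0 from by decide +kernel] at h1
  have : (1 : F) = -1 := by simpa using h1
  apply h2
  linear_combination this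

theorem zS_mem_group : zS F ∈ chevE8.group F := cert12_E8.c6.c2.diag_le_group (zS_mem F)

theorem zT_mem_group : zT F ∈ chevE8.group F := cert12_E8.c6.c2.diag_le_group (zT_mem F)

/-- every involution of `E₈(F)` is conjugate to `zS` or to `zT` -/
theorem e8_inv_conj_st [Fintype F] (hF : Odd (Fintype.card F)) (g : GL chevE8.Idx F) (hg : g ∈ chevE8.group F)
    (hg2 : g * g = 1) (hg1 : g ≠ 1) : ConjG chevE8 F g (zS F) ∨ ConjG chevE8 F g (zT F) := by
  have h2 := two_ne_zero_of_odd' hF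
  have hodd : Fintype.card F % 2 = 1 := Nat.odd_iff.mp hF
  obtain ⟨x, hx, hxd⟩ := e8_inv_conj_diag hodd h2 g hg hg2
  have hh2 : (x * g * x⁻¹) * (x * g * x⁻¹) = 1 := by
    have : (x * g * x⁻¹) * (x * g * x⁻¹) = x * (g * g) * x⁻¹ := by group
    rw [this, hg2]; group
  have hh1 : x * g * x⁻¹ ≠ 1 := by
    intro h
    apply hg1
    have : g = x⁻¹ * (x * g * x⁻¹) * x := by group
    rw [this, h]; group
  obtain ⟨n, hn, h | h⟩ := Cfsg.Agent.Lib.H21.E8Odd.H2_conj F _ hxd hh2 hh1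
  · exact Or.inl (ConjG.trans ⟨x, hx, rfl⟩ ⟨n, cert12_E8.c6.c2.monomial_le_group hn, h⟩)
  · exact Or.inr (ConjG.trans ⟨x, hx, rfl⟩ ⟨n, cert12_E8.c6.c2.monomial_le_group hn, h⟩)

theorem e8_orders_ne (q : ℕ) (hq : 2 ≤ q) :
    q ^ 56 * (q ^ 8 - 1) * ∏ i ∈ Finset.Icc 1 7, (q ^ (2 * i) - 1) ≠
      q ^ 64 * (q ^ 2 - 1) ^ 2 * (q ^ 6 - 1) * (q ^ 8 - 1) * (q ^ 10 - 1) * (q ^ 12 - 1) * (q ^ 14 - 1) *
        (q ^ 18 - 1) := by
  have hp : ∀ k, 1 ≤ k → 2 ≤ q ^ k := fun k hk =>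
    le_trans hq (by calc q = q ^ 1 := (pow_one q).symm
      _ ≤ q ^ k := Nat.pow_le_pow_right (by omega) hk)
  have e0 : ∏ i ∈ Finset.Icc 1 7, (q ^ (2 * i) - 1) =
      (q ^ 2 - 1) * (q ^ 4 - 1) * (q ^ 6 - 1) * (q ^ 8 - 1) * (q ^ 10 - 1) * (q ^ 12 - 1) * (q ^ 14 - 1) := by
    rw [show Finset.Icc 1 7 = ({1, 2, 3, 4, 5, 6, 7} : Finset ℕ) from by decide]
    simp [Finset.prod_insert]
    ring
  rw [e0]
  have a2 := hp 2 (by norm_num)
  have a4 := hp 4 (by norm_num)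
  have a6 := hp 6 (by norm_num)
  have a8 := hp 8 (by norm_num)
  have a10 := hp 10 (by norm_num)
  have a12 := hp 12 (by norm_num)
  have a14 := hp 14 (by norm_num)
  have a18 := hp 18 (by norm_num)
  have h418 : q ^ 4 ≤ q ^ 18 := Nat.pow_le_pow_right (by omega) (by norm_num)
  have K0 : 0 < (q ^ 2 - 1) * (q ^ 6 - 1) * (q ^ 8 - 1) * (q ^ 10 - 1) * (q ^ 12 - 1) * (q ^ 14 - 1) := by
    have b2 : 0 < q ^ 2 - 1 := by omega
    have b6 : 0 < q ^ 6 - 1 := by omega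
    have b8 : 0 < q ^ 8 - 1 := by omega
    have b10 : 0 < q ^ 10 - 1 := by omega
    have b12 : 0 < q ^ 12 - 1 := by omega
    have b14 : 0 < q ^ 14 - 1 := by omega
    positivity
  have e1 : q ^ 56 * (q ^ 8 - 1) *
      ((q ^ 2 - 1) * (q ^ 4 - 1) * (q ^ 6 - 1) * (q ^ 8 - 1) * (q ^ 10 - 1) * (q ^ 12 - 1) * (q ^ 14 - 1)) =
      ((q ^ 2 - 1) * (q ^ 6 - 1) * (q ^ 8 - 1) * (q ^ 10 - 1) * (q ^ 12 - 1) * (q ^ 14 - 1)) *
        ((q ^ 56 * (q ^ 8 - 1)) * (q ^ 4 - 1)) := by ring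
  have e2 : q ^ 64 * (q ^ 2 - 1) ^ 2 * (q ^ 6 - 1) * (q ^ 8 - 1) * (q ^ 10 - 1) * (q ^ 12 - 1) * (q ^ 14 - 1) *
        (q ^ 18 - 1) =
      ((q ^ 2 - 1) * (q ^ 6 - 1) * (q ^ 8 - 1) * (q ^ 10 - 1) * (q ^ 12 - 1) * (q ^ 14 - 1)) *
        (q ^ 64 * ((q ^ 2 - 1) * (q ^ 18 - 1))) := by ring
  rw [e1, e2]
  apply Nat.ne_of_lt
  apply Nat.mul_lt_mul_of_pos_left _ K0
  have l1 : q ^ 56 * (q ^ 8 - 1) < q ^ 64 := by
    have : q ^ 64 = q ^ 56 * q ^ 8 := by ring
    rw [this]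
    exact Nat.mul_lt_mul_of_pos_left (by omega) (Nat.pow_pos (by omega))
  have l2 : q ^ 4 - 1 ≤ (q ^ 2 - 1) * (q ^ 18 - 1) := by
    calc q ^ 4 - 1 ≤ q ^ 18 - 1 := by omega
      _ = 1 * (q ^ 18 - 1) := (one_mul _).symm
      _ ≤ (q ^ 2 - 1) * (q ^ 18 - 1) := Nat.mul_le_mul_right _ (by omega)
  have l3 : 0 < q ^ 4 - 1 := by omega
  exact Nat.mul_lt_mul_of_lt_of_le l1 l2 (lt_of_lt_of_le l3 l2)

/-- the main theorem for `E₈(F)`, `F` of odd order -/
theorem e8_odd_main [Fintype F] (hF : Odd (Fintype.card F)) :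
    ∃ s t : ↥(chevE8.group F), orderOf s = 2 ∧ orderOf t = 2 ∧ ¬ IsConj s t ∧
      (∀ u : ↥(chevE8.group F), orderOf u = 2 → IsConj u s ∨ IsConj u t) ∧
      Nat.card (Subgroup.centralizer ({s} : Set ↥(chevE8.group F))) =
        Fintype.card F ^ 56 * (Fintype.card F ^ 8 - 1) * ∏ i ∈ Finset.Icc 1 7, (Fintype.card F ^ (2 * i) - 1) ∧
      Nat.card (Subgroup.centralizer ({t} : Set ↥(chevE8.group F))) =
        Fintype.card F ^ 64 * (Fintype.card F ^ 2 - 1) ^ 2 * (Fintype.card F ^ 6 - 1) * (Fintype.card F ^ 8 - 1) *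
          (Fintype.card F ^ 10 - 1) * (Fintype.card F ^ 12 - 1) * (Fintype.card F ^ 14 - 1) *
            (Fintype.card F ^ 18 - 1) := by
  have h2 := two_ne_zero_of_odd' hF
  have h2' : (-1 : F) ≠ 1 := by
    intro h
    apply h2
    linear_combination -h
  have hq : 2 ≤ Fintype.card F := Fintype.one_lt_card
  set s : ↥(chevE8.group F) := ⟨zS F, cert12_E8.c6.c2.diag_le_group (zS_mem F)⟩ with hs
  set t : ↥(chevE8.group F) := ⟨zT F, cert12_E8.c6.c2.diag_le_group (zT_mem F)⟩ with ht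
  have cs : Nat.card (Subgroup.centralizer ({s} : Set ↥(chevE8.group F))) =
      Fintype.card F ^ 56 * (Fintype.card F ^ 8 - 1) * ∏ i ∈ Finset.Icc 1 7, (Fintype.card F ^ (2 * i) - 1) := by
    rw [hs, card_cent_zS F h2', Nat.card_eq_fintype_card,
      show Finset.Icc 1 7 = ({1, 2, 3, 4, 5, 6, 7} : Finset ℕ) from by decide]
    simp [Finset.prod_insert]
    ring
  have ct : Nat.card (Subgroup.centralizer ({t} : Set ↥(chevE8.group F))) =
      Fintype.card F ^ 64 * (Fintype.card F ^ 2 - 1) ^ 2 * (Fintype.card F ^ 6 - 1) * (Fintype.card F ^ 8 - 1) *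
          (Fintype.card F ^ 10 - 1) * (Fintype.card F ^ 12 - 1) * (Fintype.card F ^ 14 - 1) *
            (Fintype.card F ^ 18 - 1) := by
    rw [ht, card_cent_zT F h2', Nat.card_eq_fintype_card]
    simp
    ring
  have hp2 : Fact (Nat.Prime 2) := ⟨Nat.prime_two⟩
  have os : orderOf s = 2 := by
    apply orderOf_eq_prime
    · apply Subtype.ext
      rw [pow_two]
      exact zS_mul_self
    · intro h
      exact zS_ne_one h2 (congrArg Subtype.val h)
  have ot : orderOf t = 2 := by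
    apply orderOf_eq_prime
    · apply Subtype.ext
      rw [pow_two]
      exact zT_mul_self
    · intro h
      exact zT_ne_one h2 (congrArg Subtype.val h)
  refine ⟨s, t, os, ot, ?_, ?_, cs, ct⟩
  · intro hc
    rw [isConj_iff] at hc
    obtain ⟨c, hc⟩ := hc
    have := card_centralizer_conj' c s
    rw [hc, cs, ct] at this
    exact e8_orders_ne _ hq this.symm
  · intro u hu
    have hu2 : (u : GL chevE8.Idx F) * (u : GL chevE8.Idx F) = 1 := by
      have h1 : u ^ 2 = 1 := by rw [← hu]; exact pow_orderOf_eq_one u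
      have := congrArg Subtype.val h1
      simpa [pow_two] using this
    have hu1 : (u : GL chevE8.Idx F) ≠ 1 := by
      intro h
      have : u = 1 := Subtype.ext h
      rw [this, orderOf_one] at hu
      omega
    rcases e8_inv_conj_st hF u.1 u.2 hu2 hu1 with ⟨x, hx, hxe⟩ | ⟨x, hx, hxe⟩
    · left
      rw [isConj_iff]
      exact ⟨⟨x, hx⟩, Subtype.ext hxe⟩
    · right
      rw [isConj_iff]
      exact ⟨⟨x, hx⟩, Subtype.ext hxe⟩

end Cfsg.Agent.Lib.H12.OddInv
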