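import Mathlib
import Cfsg.Prelude.Def_Classical
import Cfsg.Agent.Lib.H12.OrdOA

/-!
# Fixed-point-free elements of prime order: divisibility of invariant sets (helper12)
-/

set_option autoImplicit false

namespace Cfsg.Agent.Lib.H12.OrdO

open Finset Matrix

variable {F : Type*} [Field F] [Fintype F] {ι : Type} [Fintype ι] [DecidableEq ι]

omit [Fintype F] in
theorem pow_mulVec_mem (g : GL ι F) (S : Set (ι → F)) (hS : ∀ v ∈ S, g.1 *ᵥ v ∈ S) (k : ℕ)
    (v : ι → F) (hv : v ∈ S) : (g ^ k).1 *ᵥ v ∈ S := by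
  induction k with
  | zero => simpa using hv
  | succ k ih =>
    rw [pow_succ', Units.val_mul, ← Matrix.mulVec_mulVec]
    exact hS _ ih

/-- an element of prime order `r` without nonzero fixed vectors: every invariant set of nonzero
vectors has cardinality divisible by `r` -/
theorem dvd_card_of_fpf (g : GL ι F) (r : ℕ) [Fact r.Prime] (hg : g ^ r = 1)
    (hfix : ∀ v : ι → F, g.1 *ᵥ v = v → v = 0) (S : Set (ι → F)) (hS0 : (0 : ι → F) ∉ S)
    (hS : ∀ v ∈ S, g.1 *ᵥ v ∈ S) : r ∣ Nat.card S := by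
  classical
  let σ : Function.End S := fun v => (⟨g.1 *ᵥ v.1, hS v.1 v.2⟩ : S)
  have hσ : ∀ (k : ℕ) (v : S), ((σ ^ k) v : ι → F) = (g ^ k).1 *ᵥ v.1 := by
    intro k
    induction k with
    | zero => intro v; simp; rfl
    | succ k ih =>
      intro v
      rw [pow_succ', pow_succ', Units.val_mul, ← Matrix.mulVec_mulVec, ← ih]
      rfl
  have hσr : σ ^ r ^ 1 = 1 := by
    rw [pow_one]
    funext v
    apply Subtype.ext
    rw [hσ, hg]
    simp
    rfl
  have h1 := Equiv.Perm.card_fixedPoints_modEq (f := σ) (p := r) (n := 1) hσr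
  have h2 : Fintype.card (Function.fixedPoints σ) = 0 := by
    rw [Fintype.card_eq_zero_iff]
    constructor
    rintro ⟨v, hv⟩
    have h3 : g.1 *ᵥ v.1 = v.1 := congrArg Subtype.val hv
    have h4 := hfix v.1 h3
    exact hS0 (h4 ▸ v.2)
  rw [h2] at h1
  rw [Nat.card_eq_fintype_card]
  exact (Nat.modEq_zero_iff_dvd).mp h1

omit [Fintype F] in
theorem fpf_of_eval_one_ne_zero (g : GL ι F) (h : g.1.charpoly.eval 1 ≠ 0) (v : ι → F)
    (hv : g.1 *ᵥ v = v) : v = 0 := by
  rw [Matrix.eval_charpoly] at h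
  apply Matrix.eq_zero_of_mulVec_eq_zero h
  rw [Matrix.sub_mulVec, hv]
  simp

/-- level sets of a function invariant under a fixed-point-free element of prime order -/
theorem dvd_lvl_of_fpf (Q : (ι → F) → F) (hQ0 : Q 0 = 0) (g : GL ι F)
    (hgQ : ∀ v, Q (g.1 *ᵥ v) = Q v) (r : ℕ) [Fact r.Prime] (hg : g ^ r = 1)
    (hfix : ∀ v : ι → F, g.1 *ᵥ v = v → v = 0) :
    (r ∣ lvl Q 0 - 1) ∧ ∀ c : F, c ≠ 0 → r ∣ lvl Q c := by
  classical
  constructor
  · have h1 := dvd_card_of_fpf g r hg hfix {v | v ≠ 0 ∧ Q v = 0} (by simp)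
      (fun v hv => ⟨fun h0 => hv.1 (by
        have := congrArg (fun x => (g⁻¹).1 *ᵥ x) h0
        simpa [Matrix.mulVec_mulVec, ← Units.val_mul] using this), by rw [hgQ]; exact hv.2⟩)
    have h2 : Nat.card ({v | v ≠ 0 ∧ Q v = 0} : Set (ι → F)) = lvl Q 0 - 1 := by
      unfold lvl
      rw [Nat.card_eq_fintype_card, Nat.card_eq_fintype_card]
      have e : ({v | v ≠ 0 ∧ Q v = 0} : Set (ι → F)) ≃
          {w : {v : ι → F // Q v = 0} // w ≠ ⟨0, hQ0⟩} :=
        { toFun := fun v => ⟨⟨v.1, v.2.2⟩, fun h => v.2.1 (congrArg Subtype.val h)⟩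
          invFun := fun w => ⟨w.1.1, fun h => w.2 (Subtype.ext h), w.1.2⟩
          left_inv := fun v => rfl
          right_inv := fun w => rfl }
      rw [Fintype.card_congr e, Fintype.card_subtype_compl, Fintype.card_subtype_eq]
    rwa [h2] at h1
  · intro c hc
    exact dvd_card_of_fpf g r hg hfix {v | Q v = c}
      (by simp only [Set.mem_ofPred_eq]; rw [hQ0]; exact fun h => hc h.symm)
      (fun v hv => by simp only [Set.mem_ofPred_eq] at hv ⊢; rw [hgQ]; exact hv)

end Cfsg.Agent.Lib.H12.OrdO
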