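import Mathlib

/-!
# Counting functions `ZMod r → ℕ` invariant under multiplication by a unit

Stars and bars (`card_fun_sum_eq`, `card_fun_sum_le`) and the count of functions on `ZMod r`
(`r` prime) with given total mass that are invariant under multiplication by a unit `h`
(`card_invariant_fun`).
-/

namespace Cfsg.Agent.Lib.H12.RootCnt

open Finset

/-- stars and bars -/
theorem card_fun_sum_eq (α : Type*) [Fintype α] (n : ℕ) :
    Nat.card {b : α → ℕ // ∑ x, b x = n} = (Fintype.card α + n - 1).choose n := by
  classical
  rw [← Nat.card_congr (Sym.equivNatSumOfFintype α n), Nat.card_eq_fintype_card,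
    Sym.card_sym_eq_choose]

/-- stars and bars with a slack variable -/
theorem card_fun_sum_le (α : Type*) [Fintype α] (M : ℕ) :
    Nat.card {b : α → ℕ // ∑ x, b x ≤ M} = (M + Fintype.card α).choose (Fintype.card α) := by
  classical
  have e : {b : α → ℕ // ∑ x, b x ≤ M} ≃ {b : Option α → ℕ // ∑ x, b x = M} :=
    { toFun := fun b => ⟨fun x => Option.elim x (M - ∑ y, b.1 y) b.1, by
        rw [Fintype.sum_option]
        simp only [Option.elim_none, Option.elim_some]
        have := b.2
        omega⟩
      invFun := fun b => ⟨fun x => b.1 (some x), by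
        have := b.2
        rw [Fintype.sum_option] at this
        show ∑ x, b.1 (some x) ≤ M
        omega⟩
      left_inv := fun b => by
        apply Subtype.ext
        funext x
        rfl
      right_inv := fun b => by
        apply Subtype.ext
        funext x
        have := b.2
        rw [Fintype.sum_option] at this
        cases x with
        | none =>
          simp only [Option.elim_none]
          omega
        | some x => rfl }
  rw [Nat.card_congr e, card_fun_sum_eq, Fintype.card_option]
  have h1 : Fintype.card α + 1 + M - 1 = Fintype.card α + M := by omega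
  rw [h1, add_comm, Nat.choose_symm_add]

/-- a sum over `ZMod r` splits as the value at `0` plus the sum over the units -/
theorem sum_zmod_eq (r : ℕ) [Fact r.Prime] (f : ZMod r → ℕ) :
    ∑ j, f j = f 0 + ∑ u : (ZMod r)ˣ, f (u : ZMod r) := by
  classical
  rw [← Finset.add_sum_erase Finset.univ f (Finset.mem_univ (0 : ZMod r))]
  congr 1
  symm
  apply Finset.sum_bij (fun (u : (ZMod r)ˣ) _ => (u : ZMod r))
  · intro u _
    exact Finset.mem_erase.mpr ⟨u.ne_zero, Finset.mem_univ _⟩
  · intro u _ v _ huv
    exact Units.ext huv
  · intro j hj
    exact ⟨Units.mk0 j (Finset.mem_erase.mp hj).1, Finset.mem_univ _, rfl⟩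
  · intro u _
    rfl

/-- summing a function of the coset over a finite group -/
theorem sum_comp_mk {G : Type*} [Group G] [Fintype G] (H : Subgroup G)
    [Fintype (G ⧸ H)] (f : G ⧸ H → ℕ) :
    ∑ u : G, f (QuotientGroup.mk u) = Nat.card H * ∑ x : G ⧸ H, f x := by
  classical
  rw [← Finset.sum_fiberwise (s := Finset.univ) (g := fun u : G => (QuotientGroup.mk u : G ⧸ H))
    (f := fun u => f (QuotientGroup.mk u)), Finset.mul_sum]
  apply Finset.sum_congr rfl
  intro x _
  have h1 : ∀ u ∈ Finset.univ.filter (fun u : G => (QuotientGroup.mk u : G ⧸ H) = x),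
      f (QuotientGroup.mk u) = f x := by
    intro u hu
    rw [(Finset.mem_filter.mp hu).2]
  rw [Finset.sum_congr rfl h1, Finset.sum_const, smul_eq_mul]
  congr 1
  obtain ⟨u0, rfl⟩ := QuotientGroup.mk_surjective x
  rw [← Nat.card_eq_finsetCard]
  apply Nat.card_congr
  exact
    { toFun := fun u => ⟨u0⁻¹ * u.1, by
        have := (Finset.mem_filter.mp u.2).2
        exact QuotientGroup.eq.mp this.symm⟩
      invFun := fun k => ⟨u0 * k.1, by
        apply Finset.mem_filter.mpr
        refine ⟨Finset.mem_univ _, ?_⟩
        apply QuotientGroup.eq.mpr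
        have : (u0 * k.1)⁻¹ * u0 = (k.1)⁻¹ := by group
        rw [this]
        exact H.inv_mem k.2⟩
      left_inv := fun u => by
        apply Subtype.ext
        simp
      right_inv := fun k => by
        apply Subtype.ext
        simp }

end Cfsg.Agent.Lib.H12.RootCnt
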