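import Mathlib
import Cfsg.Agent.Lib.H12.RootCntA

/-!
# Functions on `ZMod r` invariant under a unit: the count
-/

namespace Cfsg.Agent.Lib.H12.RootCnt

open Finset

theorem invariant_pow {r : ℕ} (h : (ZMod r)ˣ) (a : ZMod r → ℕ)
    (ha : ∀ j, a ((h : ZMod r) * j) = a j) (n : ℕ) (j : ZMod r) :
    a (((h ^ n : (ZMod r)ˣ) : ZMod r) * j) = a j := by
  induction n generalizing j with
  | zero => simp
  | succ n ih => rw [pow_succ, Units.val_mul, mul_assoc, ih, ha]

theorem invariant_of_mk_eq {r : ℕ} [NeZero r] (h : (ZMod r)ˣ) (a : ZMod r → ℕ)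
    (ha : ∀ j, a ((h : ZMod r) * j) = a j) (u v : (ZMod r)ˣ)
    (huv : (QuotientGroup.mk u : (ZMod r)ˣ ⧸ Subgroup.zpowers h) = QuotientGroup.mk v) :
    a (u : ZMod r) = a (v : ZMod r) := by
  have h1 : u⁻¹ * v ∈ Subgroup.zpowers h := QuotientGroup.eq.mp huv
  have h2 : u⁻¹ * v ∈ Submonoid.powers h := mem_powers_iff_mem_zpowers.mpr h1
  obtain ⟨n, hn⟩ := Submonoid.mem_powers_iff _ _ |>.mp h2
  have h3 : v = h ^ n * u := by
    rw [hn]
    rw [mul_comm, mul_inv_cancel_left]
  rw [h3, Units.val_mul, invariant_pow h a ha]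

theorem card_invariant_fun (r : ℕ) [Fact r.Prime] (h : (ZMod r)ˣ) (e k N : ℕ)
    (he : orderOf h = e) (hk : k * e = r - 1) :
    Nat.card {a : ZMod r → ℕ // ∑ j, a j = N ∧ ∀ j, a ((h : ZMod r) * j) = a j} =
      (N / e + k).choose k := by
  classical
  have : NeZero r := ⟨(Fact.out : r.Prime).ne_zero⟩
  have hHcard : Nat.card (Subgroup.zpowers h) = e := by rw [Nat.card_zpowers, he]
  have he0 : 0 < e := he ▸ orderOf_pos h
  have hGcard : Nat.card (ZMod r)ˣ = r - 1 := by
    rw [Nat.card_eq_fintype_card, ZMod.card_units]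
  have hQcard : Fintype.card ((ZMod r)ˣ ⧸ Subgroup.zpowers h) = k := by
    have := Subgroup.card_eq_card_quotient_mul_card_subgroup (Subgroup.zpowers h)
    rw [hGcard, hHcard, ← hk] at this
    rw [← Nat.card_eq_fintype_card]
    exact (Nat.eq_of_mul_eq_mul_right he0 this).symm
  have hsum : ∀ a : ZMod r → ℕ, (∀ j, a ((h : ZMod r) * j) = a j) →
      ∑ j, a j = a 0 + e * ∑ x : (ZMod r)ˣ ⧸ Subgroup.zpowers h,
        a ((x.out : (ZMod r)ˣ) : ZMod r) := by
    intro a ha
    rw [sum_zmod_eq, ← hHcard, ← sum_comp_mk (Subgroup.zpowers h)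
      (fun x => a ((x.out : (ZMod r)ˣ) : ZMod r))]
    congr 1
    apply Finset.sum_congr rfl
    intro u _
    apply invariant_of_mk_eq h a ha
    exact (QuotientGroup.out_eq' _).symm
  have hmk0 : ∀ (j : ZMod r) (hj : j ≠ 0), (h : ZMod r) * j ≠ 0 :=
    fun j hj => mul_ne_zero h.ne_zero hj
  have e1 : {a : ZMod r → ℕ // ∑ j, a j = N ∧ ∀ j, a ((h : ZMod r) * j) = a j} ≃
      {b : (ZMod r)ˣ ⧸ Subgroup.zpowers h → ℕ // ∑ x, b x ≤ N / e} :=
    { toFun := fun a => ⟨fun x => a.1 ((x.out : (ZMod r)ˣ) : ZMod r), by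
        have h1 := hsum a.1 a.2.2
        rw [a.2.1] at h1
        rw [Nat.le_div_iff_mul_le he0, mul_comm]
        show e * ∑ x : (ZMod r)ˣ ⧸ Subgroup.zpowers h, a.1 ((x.out : (ZMod r)ˣ) : ZMod r) ≤ N
        omega⟩
      invFun := fun b => ⟨fun j => if hj : j = 0 then N - e * ∑ x, b.1 x else
          b.1 (QuotientGroup.mk (Units.mk0 j hj)), by
        have hb := b.2
        rw [Nat.le_div_iff_mul_le he0, mul_comm] at hb
        have hinv : ∀ j, (fun j => if hj : j = 0 then N - e * ∑ x, b.1 x else
            b.1 (QuotientGroup.mk (Units.mk0 j hj))) ((h : ZMod r) * j) =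
            (fun j => if hj : j = 0 then N - e * ∑ x, b.1 x else
            b.1 (QuotientGroup.mk (Units.mk0 j hj))) j := by
          intro j
          by_cases hj : j = 0
          · subst hj
            simp
          · simp only [dif_neg hj, dif_neg (hmk0 j hj)]
            apply congrArg
            apply QuotientGroup.eq.mpr
            have : (Units.mk0 ((h : ZMod r) * j) (hmk0 j hj))⁻¹ * Units.mk0 j hj = h⁻¹ := by
              apply Units.ext
              rw [Units.val_mul, Units.val_inv_eq_inv_val, Units.val_mk0, Units.val_mk0,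
                Units.val_inv_eq_inv_val]
              field_simp
            rw [this]
            exact Subgroup.inv_mem _ (Subgroup.mem_zpowers h)
        refine ⟨?_, hinv⟩
        rw [hsum _ hinv]
        simp only [dite_true]
        have h2 : ∀ x : (ZMod r)ˣ ⧸ Subgroup.zpowers h,
            (if hj : ((x.out : (ZMod r)ˣ) : ZMod r) = 0 then N - e * ∑ x, b.1 x else
              b.1 (QuotientGroup.mk (Units.mk0 ((x.out : (ZMod r)ˣ) : ZMod r) hj))) = b.1 x := by
          intro x
          rw [dif_neg (Units.ne_zero _)]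
          apply congrArg
          have : Units.mk0 ((x.out : (ZMod r)ˣ) : ZMod r) (Units.ne_zero _) = x.out :=
            Units.ext rfl
          rw [this]
          exact QuotientGroup.out_eq' x
        have h3 : ∑ x : (ZMod r)ˣ ⧸ Subgroup.zpowers h,
            (if hj : ((x.out : (ZMod r)ˣ) : ZMod r) = 0 then N - e * ∑ x, b.1 x else
              b.1 (QuotientGroup.mk (Units.mk0 ((x.out : (ZMod r)ˣ) : ZMod r) hj))) =
            ∑ x, b.1 x := Finset.sum_congr rfl (fun x _ => h2 x)
        rw [h3]
        omega⟩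
      left_inv := fun a => by
        apply Subtype.ext
        funext j
        have h1 := hsum a.1 a.2.2
        rw [a.2.1] at h1
        by_cases hj : j = 0
        · subst hj
          simp only [dite_true]
          omega
        · simp only [dif_neg hj]
          have hj' : j = ((Units.mk0 j hj : (ZMod r)ˣ) : ZMod r) := rfl
          conv_rhs => rw [hj']
          apply invariant_of_mk_eq h a.1 a.2.2
          exact QuotientGroup.out_eq' _
      right_inv := fun b => by
        apply Subtype.ext
        funext x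
        simp only
        rw [dif_neg (Units.ne_zero _)]
        apply congrArg
        have : Units.mk0 ((x.out : (ZMod r)ˣ) : ZMod r) (Units.ne_zero _) = x.out :=
          Units.ext rfl
        rw [this]
        exact QuotientGroup.out_eq' x }
  rw [Nat.card_congr e1, card_fun_sum_le, hQcard]

end Cfsg.Agent.Lib.H12.RootCnt
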