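import Mathlib
import Cfsg.Agent.Lib.H12.RootCntB

/-!
# Invariance under `q` and `-1` as invariance under a single unit
-/

namespace Cfsg.Agent.Lib.H12.RootCnt

theorem twist_even (r : ℕ) [Fact r.Prime] (u : (ZMod r)ˣ) (i : ℕ) (hi : orderOf u = i)
    (hev : Even i) (a : ZMod r → ℕ) :
    ((∀ j, a ((u : ZMod r) * j) = a j) ∧ (∀ j, a (-j) = a j)) ↔
      ∀ j, a ((u : ZMod r) * j) = a j := by
  constructor
  · intro h
    exact h.1
  · intro h
    refine ⟨h, ?_⟩
    obtain ⟨s, hs⟩ := hev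
    have hi0 : 0 < i := hi ▸ orderOf_pos u
    have hs0 : s ≠ 0 := by omega
    have h1 : u ^ s ≠ 1 := pow_ne_one_of_lt_orderOf hs0 (by omega)
    have h2 : (u ^ s) * (u ^ s) = 1 := by
      rw [← pow_add, ← hs, ← hi, pow_orderOf_eq_one]
    have h3 : ((u ^ s : (ZMod r)ˣ) : ZMod r) * ((u ^ s : (ZMod r)ˣ) : ZMod r) = 1 := by
      rw [← Units.val_mul, h2, Units.val_one]
    rcases mul_self_eq_one_iff.mp h3 with h4 | h4
    · exact absurd (Units.ext h4) h1
    · intro j
      have := invariant_pow u a h s j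
      rw [h4, neg_one_mul] at this
      exact this

theorem orderOf_neg_one_units (r : ℕ) [Fact r.Prime] (hr2 : r ≠ 2) :
    orderOf (-1 : (ZMod r)ˣ) = 2 := by
  have : Fact (Nat.Prime 2) := ⟨Nat.prime_two⟩
  apply orderOf_eq_prime
  · simp
  · intro h
    have h1 : ((-1 : (ZMod r)ˣ) : ZMod r) = 1 := by rw [h, Units.val_one]
    rw [Units.val_neg, Units.val_one] at h1
    have hr : 2 < r := lt_of_le_of_ne (Fact.out : r.Prime).two_le (Ne.symm hr2)
    have : Fact (2 < r) := ⟨hr⟩
    exact ZMod.neg_one_ne_one h1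

theorem twist_odd (r : ℕ) [Fact r.Prime] (hr2 : r ≠ 2) (u : (ZMod r)ˣ) (i : ℕ)
    (hi : orderOf u = i) (hodd : Odd i) :
    orderOf (-u) = 2 * i ∧ ∀ a : ZMod r → ℕ,
      ((∀ j, a ((u : ZMod r) * j) = a j) ∧ (∀ j, a (-j) = a j)) ↔
        ∀ j, a (((-u : (ZMod r)ˣ) : ZMod r) * j) = a j := by
  constructor
  · have h1 : -u = (-1 : (ZMod r)ˣ) * u := by rw [neg_one_mul]
    rw [h1, (Commute.all _ _).orderOf_mul_eq_mul_orderOf_of_coprime, orderOf_neg_one_units r hr2,
      hi]
    rw [orderOf_neg_one_units r hr2, hi]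
    exact Nat.coprime_two_left.mpr hodd
  · intro a
    constructor
    · rintro ⟨h1, h2⟩ j
      rw [Units.val_neg, neg_mul, h2, h1]
    · intro h
      have h3 : ((-u) ^ i : (ZMod r)ˣ) = -1 := by
        rw [neg_pow, hodd.neg_one_pow, ← hi, pow_orderOf_eq_one, mul_one]
      have h4 : ∀ j, a (-j) = a j := by
        intro j
        have := invariant_pow (-u) a h i j
        rw [h3, Units.val_neg, Units.val_one, neg_one_mul] at this
        exact this
      refine ⟨?_, h4⟩
      intro j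
      have := h j
      rw [Units.val_neg, neg_mul, h4] at this
      exact this

end Cfsg.Agent.Lib.H12.RootCnt
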