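import Mathlib
import Cfsg.Agent.Lib.H12.OrdOF
import Cfsg.Agent.Lib.H12.RootCntC

/-!
# Atoms: elements of order `r` acting irreducibly up to duality (helper12)
-/

set_option autoImplicit false

namespace Cfsg.Agent.Lib.H12.OrdO

open Matrix Polynomial Finset
open Cfsg.Agent.Lib.H12.RootCnt

section orbits

variable {r : ℕ} [Fact r.Prime]

/-- the orbit of `j₀` under the cyclic group generated by `h` -/
noncomputable def orb (h : (ZMod r)ˣ) (j₀ : ZMod r) : Finset (ZMod r) :=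
  (univ : Finset ↥(Subgroup.zpowers h)).image (fun x : ↥(Subgroup.zpowers h) => (x.1 : ZMod r) * j₀)

/-- indicator of an orbit -/
noncomputable def ind (h : (ZMod r)ˣ) (j₀ : ZMod r) : ZMod r → ℕ :=
  fun j => if j ∈ orb h j₀ then 1 else 0

theorem mem_orb (h : (ZMod r)ˣ) (j₀ j : ZMod r) :
    j ∈ orb h j₀ ↔ ∃ x : (ZMod r)ˣ, x ∈ Subgroup.zpowers h ∧ j = (x : ZMod r) * j₀ := by
  unfold orb
  rw [Finset.mem_image]
  constructor
  · rintro ⟨x, -, hx⟩
    exact ⟨x.1, x.2, hx.symm⟩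
  · rintro ⟨x, hx, rfl⟩
    exact ⟨⟨x, hx⟩, mem_univ _, rfl⟩

theorem self_mem_orb (h : (ZMod r)ˣ) (j₀ : ZMod r) : j₀ ∈ orb h j₀ := by
  rw [mem_orb]
  exact ⟨1, one_mem _, by simp⟩

theorem card_orb (h : (ZMod r)ˣ) (j₀ : ZMod r) (hj : j₀ ≠ 0) : (orb h j₀).card = orderOf h := by
  unfold orb
  rw [Finset.card_image_of_injective, Finset.card_univ, Fintype.card_zpowers]
  intro x y hxy
  have h1 : (x.1 : ZMod r) = (y.1 : ZMod r) := mul_right_cancel₀ hj hxy
  exact Subtype.ext (Units.ext h1)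

theorem sum_ind (h : (ZMod r)ˣ) (j₀ : ZMod r) (hj : j₀ ≠ 0) : ∑ j, ind h j₀ j = orderOf h := by
  unfold ind
  rw [Finset.sum_boole, Nat.cast_id, ← card_orb h j₀ hj]
  congr 1
  ext j
  simp

theorem zero_notMem_orb (h : (ZMod r)ˣ) (j₀ : ZMod r) (hj : j₀ ≠ 0) : (0 : ZMod r) ∉ orb h j₀ := by
  rw [mem_orb]
  rintro ⟨x, -, hx⟩
  exact (mul_ne_zero x.ne_zero hj) hx.symm

theorem ind_zero (h : (ZMod r)ˣ) (j₀ : ZMod r) (hj : j₀ ≠ 0) : ind h j₀ 0 = 0 := by
  unfold ind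
  rw [if_neg (zero_notMem_orb h j₀ hj)]

theorem orb_eq_of_mem (h : (ZMod r)ˣ) (j₀ j₁ : ZMod r) (hmem : j₁ ∈ orb h j₀) :
    orb h j₁ = orb h j₀ := by
  obtain ⟨x, hx, rfl⟩ := (mem_orb h j₀ j₁).mp hmem
  ext j
  rw [mem_orb, mem_orb]
  constructor
  · rintro ⟨y, hy, rfl⟩
    exact ⟨y * x, mul_mem hy hx, by rw [Units.val_mul, mul_assoc]⟩
  · rintro ⟨y, hy, rfl⟩
    refine ⟨y * x⁻¹, mul_mem hy (inv_mem hx), ?_⟩
    rw [Units.val_mul, mul_assoc, ← mul_assoc (x⁻¹ : (ZMod r)ˣ).1, ← Units.val_mul, inv_mul_cancel,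
      Units.val_one, one_mul]

theorem invariant_zpowers (h : (ZMod r)ˣ) (a : ZMod r → ℕ)
    (ha : ∀ j, a ((h : ZMod r) * j) = a j) (x : (ZMod r)ˣ) (hx : x ∈ Subgroup.zpowers h)
    (j : ZMod r) : a ((x : ZMod r) * j) = a j := by
  have h2 : x ∈ Submonoid.powers h := mem_powers_iff_mem_zpowers.mpr hx
  obtain ⟨n, rfl⟩ := (Submonoid.mem_powers_iff _ _).mp h2
  exact invariant_pow h a ha n j

theorem ind_invariant (h : (ZMod r)ˣ) (j₀ : ZMod r) (j : ZMod r) :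
    ind h j₀ ((h : ZMod r) * j) = ind h j₀ j := by
  unfold ind
  have : (h : ZMod r) * j ∈ orb h j₀ ↔ j ∈ orb h j₀ := by
    rw [mem_orb, mem_orb]
    constructor
    · rintro ⟨x, hx, hxj⟩
      refine ⟨h⁻¹ * x, mul_mem (inv_mem (Subgroup.mem_zpowers h)) hx, ?_⟩
      rw [Units.val_mul, mul_assoc, ← hxj, ← mul_assoc, ← Units.val_mul, inv_mul_cancel,
        Units.val_one, one_mul]
    · rintro ⟨x, hx, rfl⟩
      exact ⟨h * x, mul_mem (Subgroup.mem_zpowers h) hx, by rw [Units.val_mul, mul_assoc]⟩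
  simp only [this]

/-- a multiplicity function of total mass `orderOf h`, invariant under `h`, not concentrated at
`0`, is the indicator of an orbit -/
theorem eq_ind_of_sum_eq (h : (ZMod r)ˣ) (a : ZMod r → ℕ) (hsum : ∑ j, a j = orderOf h)
    (hinv : ∀ j, a ((h : ZMod r) * j) = a j) (h0 : a 0 ≠ orderOf h) :
    ∃ j₁ : ZMod r, j₁ ≠ 0 ∧ a = ind h j₁ := by
  classical
  obtain ⟨j₁, hj₁0, hj₁⟩ : ∃ j₁ : ZMod r, j₁ ≠ 0 ∧ a j₁ ≠ 0 := by
    by_contra hcon
    push Not at hcon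
    apply h0
    rw [← hsum]
    symm
    apply Finset.sum_eq_single_of_mem 0 (mem_univ _)
    intro j _ hj
    exact hcon j hj
  refine ⟨j₁, hj₁0, ?_⟩
  have hle : ∀ j ∈ (univ : Finset (ZMod r)), ind h j₁ j ≤ a j := by
    intro j _
    unfold ind
    split_ifs with hj
    · obtain ⟨x, hx, rfl⟩ := (mem_orb h j₁ j).mp hj
      rw [invariant_zpowers h a hinv x hx]
      omega
    · exact Nat.zero_le _
  have hs : ∑ j, ind h j₁ j = ∑ j, a j := by rw [sum_ind h j₁ hj₁0, hsum]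
  have := (Finset.sum_eq_sum_iff_of_le hle).mp hs
  funext j
  exact (this j (mem_univ _)).symm

end orbits

section power

variable {F : Type*} [Field F] {K : Type*} [Field K] [Algebra F K] {ι : Type} [Fintype ι]
  [DecidableEq ι]

/-- eigenvalues of a power -/
theorem isRoot_charpoly_pow (A : Matrix ι ι F) (lam : K) (c : ℕ)
    (h : (A.charpoly.map (algebraMap F K)).IsRoot lam) :
    ((A ^ c).charpoly.map (algebraMap F K)).IsRoot (lam ^ c) := by
  rw [← Matrix.charpoly_map] at h ⊢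
  rw [IsRoot, Matrix.eval_charpoly] at h ⊢
  obtain ⟨v, hv0, hv⟩ := Matrix.exists_mulVec_eq_zero_iff.mpr h
  rw [Matrix.sub_mulVec] at hv
  have hv1 : (A.map (algebraMap F K)) *ᵥ v = lam • v := by
    have h2 := sub_eq_zero.mp hv
    rw [← h2]
    ext i
    simp [Matrix.mulVec, dotProduct, Matrix.scalar_apply, Matrix.diagonal_apply]
  have hpow : ∀ n : ℕ, ((A.map (algebraMap F K)) ^ n) *ᵥ v = lam ^ n • v := by
    intro n
    induction n with
    | zero => simp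
    | succ n ih =>
      rw [pow_succ, ← Matrix.mulVec_mulVec, hv1, Matrix.mulVec_smul, ih, smul_smul, pow_succ,
        mul_comm]
  apply Matrix.exists_mulVec_eq_zero_iff.mp
  refine ⟨v, hv0, ?_⟩
  rw [Matrix.sub_mulVec, Matrix.map_pow, hpow, sub_eq_zero]
  ext i
  simp [Matrix.mulVec, dotProduct, Matrix.scalar_apply, Matrix.diagonal_apply]

end power

end Cfsg.Agent.Lib.H12.OrdO
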