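import Mathlib
import Cfsg.Agent.Lib.H12.OrdOH

/-!
# Atoms from Cauchy's theorem (helper12)
-/

set_option autoImplicit false

namespace Cfsg.Agent.Lib.H12.OrdO

open Matrix Polynomial Finset
open Cfsg.Agent.Lib.H12.RootCnt

variable {F : Type*} [Field F] [Fintype F] {K : Type*} [Field K] [Algebra F K] [IsAlgClosed K]
  [DecidableEq K] {r : ℕ} [Fact r.Prime]

omit [Fintype F] [IsAlgClosed K] in
theorem mf_pow_pos {ι : Type} [Fintype ι] [DecidableEq ι] {ζ : K} (hζ : IsPrimitiveRoot ζ r)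
    (g : GL ι F) (c : ℕ) (j : ZMod r) (hj : mf r ζ g j ≠ 0) :
    mf r ζ (g ^ c) ((c : ZMod r) * j) ≠ 0 := by
  unfold mf at hj ⊢
  rw [Multiset.count_ne_zero, mem_roots ((Matrix.charpoly_monic _).map _).ne_zero] at hj ⊢
  rw [ev_natCast_mul hζ, Units.val_pow_eq_pow_val]
  exact isRoot_charpoly_pow g.1 _ c hj

set_option maxHeartbeats 800000 in
/-- if `r` divides the order of the isometry group of a space of dimension `orderOf h`, then
every orbit indicator is realised on that space -/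
theorem atom_of_group (p : ℕ) [Fact p.Prime] [CharP F p] (hrp : r ≠ p) {ζ : K}
    (hζ : IsPrimitiveRoot ζ r) (φ : K →+* K) (hφ : ∀ x, φ x = x ^ Fintype.card F)
    (u : (ZMod r)ˣ) (hu : (u : ZMod r) = (Fintype.card F : ZMod r))
    {ι : Type} [Fintype ι] [DecidableEq ι] (Q : QuadraticForm F (ι → F))
    (hQ : (QuadraticMap.polarBilin Q).Nondegenerate) {b₀ k₀ : ℕ} (hT : IsTy (⇑Q) b₀ k₀)
    (hdvd : r ∣ Nat.card ↥(Cfsg.isometryGroup F ⇑Q)) (h : (ZMod r)ˣ) (he : orderOf h = 2 * b₀)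
    (hinv : ∀ a : ZMod r → ℕ, (∀ j, a ((u : ZMod r) * j) = a j) → (∀ j, a (-j) = a j) →
      ∀ j, a ((h : ZMod r) * j) = a j)
    (j₀ : ZMod r) (hj₀ : j₀ ≠ 0) : Rz F r ζ b₀ k₀ (ind h j₀) := by
  classical
  have hr : r.Prime := Fact.out
  have hp : p.Prime := Fact.out
  have hrF : (r : F) ≠ 0 := by
    rw [Ne, CharP.cast_eq_zero_iff F p]
    intro hd
    exact hrp ((Nat.prime_dvd_prime_iff_eq hp hr).mp hd).symm
  -- Cauchy
  obtain ⟨g₀, hg₀⟩ := exists_prime_orderOf_dvd_card' r hdvd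
  have hg₀r : (g₀ : GL ι F) ^ r = 1 := by
    rw [← Subgroup.coe_pow, ← hg₀, pow_orderOf_eq_one, Subgroup.coe_one]
  -- properties of multiplicity functions of elements of the group
  have hprop : ∀ g : GL ι F, g ∈ Cfsg.isometryGroup F ⇑Q → g ^ r = 1 → g ≠ 1 →
      ∃ j₁ : ZMod r, j₁ ≠ 0 ∧ mf r ζ g = ind h j₁ := by
    intro g hgQ hgr hg1
    apply eq_ind_of_sum_eq h
    · rw [mf_sum hζ g hrF hgr, he, hT.card]
    · apply hinv
      · intro j
        rw [hu]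
        exact mf_frob hζ φ hφ g j
      · intro j
        exact mf_neg hζ Q hQ g hgQ hrF hgr j
    · intro h0
      apply hg1
      apply eq_one_of_mf_zero hζ g hrF hgr
      rw [h0, he, hT.card]
  have hg₀1 : (g₀ : GL ι F) ≠ 1 := by
    intro h1
    have h2 : g₀ = 1 := Subtype.ext h1
    rw [h2, orderOf_one] at hg₀
    exact hr.one_lt.ne hg₀
  obtain ⟨j₁, hj₁0, hj₁⟩ := hprop g₀ g₀.2 hg₀r hg₀1
  -- the power
  set c : ℕ := (j₀ / j₁).val with hc
  have hcz : (c : ZMod r) = j₀ / j₁ := by rw [hc, ZMod.natCast_zmod_val]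
  have hcj : (c : ZMod r) * j₁ = j₀ := by rw [hcz, div_mul_cancel₀ _ hj₁0]
  have hc0 : (c : ZMod r) ≠ 0 := by rw [hcz]; exact div_ne_zero hj₀ hj₁0
  have hgc1 : (g₀ : GL ι F) ^ c ≠ 1 := by
    intro h1
    have h2 : orderOf (g₀ : GL ι F) ∣ c := orderOf_dvd_of_pow_eq_one h1
    rw [Subgroup.orderOf_coe, hg₀] at h2
    exact hc0 ((ZMod.natCast_eq_zero_iff c r).mpr h2)
  have hgcr : ((g₀ : GL ι F) ^ c) ^ r = 1 := by rw [← pow_mul, mul_comm, pow_mul, hg₀r, one_pow]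
  have hgcQ : (g₀ : GL ι F) ^ c ∈ Cfsg.isometryGroup F ⇑Q := pow_mem g₀.2 c
  obtain ⟨j₂, hj₂0, hj₂⟩ := hprop _ hgcQ hgcr hgc1
  have hpos : mf r ζ ((g₀ : GL ι F) ^ c) j₀ ≠ 0 := by
    rw [← hcj]
    apply mf_pow_pos hζ
    rw [hj₁]
    unfold ind
    rw [if_pos (self_mem_orb h j₁)]
    exact one_ne_zero
  have hmem : j₀ ∈ orb h j₂ := by
    by_contra hn
    apply hpos
    rw [hj₂]
    unfold ind
    rw [if_neg hn]
  refine ⟨ι, inferInstance, inferInstance, Q, (g₀ : GL ι F) ^ c, hQ, hT, hgcQ, hgcr, ?_⟩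
  rw [hj₂]
  unfold ind
  rw [orb_eq_of_mem h j₂ j₀ hmem]

end Cfsg.Agent.Lib.H12.OrdO
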