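import Mathlib
import Cfsg.Agent.Lib.H12.OrdOI
import Cfsg.Agent.Lib.H12.OrdOG
import Cfsg.Agent.Lib.H12.OrdOC

/-!
# Assembly: which multiplicity functions are realised in a space of given type (helper12)
-/

set_option autoImplicit false

namespace Cfsg.Agent.Lib.H12.OrdO

open Matrix Polynomial Finset
open Cfsg.Agent.Lib.H12.RootCnt

variable {F : Type*} [Field F] [Fintype F] {K : Type*} [Field K] [Algebra F K]
  [DecidableEq K] {r : ℕ} [Fact r.Prime]

/-- sums of atoms -/
theorem exists_Rz_of_atoms {ζ : K} (hζ : IsPrimitiveRoot ζ r) (h : (ZMod r)ˣ) (b₀ k₀ : ℕ)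
    (he : orderOf h = 2 * b₀)
    (hatom : ∀ j₀ : ZMod r, j₀ ≠ 0 → Rz F r ζ b₀ k₀ (ind h j₀)) :
    ∀ (N : ℕ) (a : ZMod r → ℕ), ∑ j, a j = N → a 0 = 0 →
      (∀ j, a ((h : ZMod r) * j) = a j) →
      ∃ s : ℕ, N = 2 * b₀ * s ∧ Rz F r ζ (b₀ * s) (k₀ * s) a := by
  intro N
  induction N using Nat.strong_induction_on with
  | _ N ih =>
    intro a hsum h0 hinv
    by_cases hz : ∀ j, a j = 0
    · refine ⟨0, ?_, ?_⟩
      · rw [← hsum, mul_zero]
        exact Finset.sum_eq_zero (fun j _ => hz j)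
      · have h1 := Rz.one_plus (F := F) ζ hζ 0
        have h2 : a = (fun j : ZMod r => if j = 0 then 2 * 0 else 0) := by
          funext j
          rw [hz j]
          simp
        rw [mul_zero, mul_zero, h2]
        exact h1
    · push Not at hz
      obtain ⟨j₀, hj₀⟩ := hz
      have hj₀0 : j₀ ≠ 0 := by
        rintro rfl
        exact hj₀ h0
      have hle : ∀ j, ind h j₀ j ≤ a j := by
        intro j
        unfold ind
        split_ifs with hj
        · obtain ⟨x, hx, rfl⟩ := (mem_orb h j₀ j).mp hj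
          rw [invariant_zpowers h a hinv x hx]
          omega
        · exact Nat.zero_le _
      set a' : ZMod r → ℕ := fun j => a j - ind h j₀ j with ha'
      have hadd : a = a' + ind h j₀ := by
        funext j
        rw [Pi.add_apply, ha']
        exact (Nat.sub_add_cancel (hle j)).symm
      have hsum' : ∑ j, a' j + 2 * b₀ = N := by
        rw [← hsum, ← he, ← sum_ind h j₀ hj₀0, ← Finset.sum_add_distrib]
        apply Finset.sum_congr rfl
        intro j _
        exact Nat.sub_add_cancel (hle j)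
      have hb₀ : 0 < 2 * b₀ := he ▸ orderOf_pos h
      obtain ⟨s, hs, hRz⟩ := ih (∑ j, a' j) (by omega) a' rfl
        (by rw [ha']; simp only; rw [h0]; simp)
        (by
          intro j
          rw [ha']
          simp only
          rw [hinv, ind_invariant])
      refine ⟨s + 1, by rw [← hsum', hs]; ring, ?_⟩
      rw [hadd, mul_add, mul_add, mul_one, mul_one]
      exact hRz.add (hatom j₀ hj₀0)

omit [Fintype F] [DecidableEq K] [Algebra F K] [Field K] in
theorem neg_one_pow_eq_iff (hr2 : r ≠ 2) (k k' : ℕ) :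
    ((-1 : ZMod r) ^ k = (-1) ^ k') ↔ (Even k ↔ Even k') := by
  have hr : r.Prime := Fact.out
  have h2 : (1 : ZMod r) ≠ -1 := by
    have : Fact (2 < r) := ⟨lt_of_le_of_ne hr.two_le (Ne.symm hr2)⟩
    exact (ZMod.neg_one_ne_one).symm
  rcases Nat.even_or_odd k with hk | hk <;> rcases Nat.even_or_odd k' with hk' | hk'
  · rw [hk.neg_one_pow, hk'.neg_one_pow]
    exact ⟨fun _ => ⟨fun _ => hk', fun _ => hk⟩, fun _ => rfl⟩
  · rw [hk.neg_one_pow, hk'.neg_one_pow]
    constructor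
    · intro h; exact absurd h h2
    · intro h; exact absurd (h.mp hk) (Nat.not_even_iff_odd.mpr hk')
  · rw [hk.neg_one_pow, hk'.neg_one_pow]
    constructor
    · intro h; exact absurd h.symm h2
    · intro h; exact absurd (h.mpr hk') (Nat.not_even_iff_odd.mpr hk)
  · rw [hk.neg_one_pow, hk'.neg_one_pow]
    exact ⟨fun _ => ⟨fun h => absurd h (Nat.not_even_iff_odd.mpr hk),
      fun h => absurd h (Nat.not_even_iff_odd.mpr hk')⟩, fun _ => rfl⟩

/-- existence of realisations -/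
theorem exists_Rz {ζ : K} (hζ : IsPrimitiveRoot ζ r) (hr2 : r ≠ 2) (u h : (ZMod r)ˣ)
    (b₀ k₀ : ℕ) (he : orderOf h = 2 * b₀) (hub : (u : ZMod r) ^ b₀ = (-1) ^ k₀)
    (hatom : ∀ j₀ : ZMod r, j₀ ≠ 0 → Rz F r ζ b₀ k₀ (ind h j₀))
    (a₁ c₁ : F)
    (hac : ∀ z₁ z₂ : F, z₁ ^ 2 + a₁ * z₁ * z₂ + c₁ * z₂ ^ 2 = 0 → z₁ = 0 ∧ z₂ = 0)
    (m k : ℕ) (a : ZMod r → ℕ) (hsum : ∑ j, a j = 2 * m)
    (hinv : ∀ j, a ((h : ZMod r) * j) = a j)
    (hcond : a 0 ≠ 0 ∨ (u : ZMod r) ^ m = (-1) ^ k) :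
    ∃ k' : ℕ, (Even k' ↔ Even k) ∧ Rz F r ζ m k' a := by
  classical
  set a' : ZMod r → ℕ := fun j => if j = 0 then 0 else a j with ha'
  set z : ZMod r → ℕ := fun j => if j = 0 then a 0 else 0 with hz
  have hadd : a = a' + z := by
    funext j
    rw [Pi.add_apply, ha', hz]
    by_cases hj : j = 0
    · subst hj; simp
    · simp only [if_neg hj, add_zero]
  have hsum' : ∑ j, a' j + a 0 = 2 * m := by
    rw [← hsum]
    conv_rhs => rw [hadd]
    simp only [Pi.add_apply]
    rw [Finset.sum_add_distrib]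
    congr 1
    rw [hz, Finset.sum_ite_eq' univ (0 : ZMod r)]
    simp
  have hinv' : ∀ j, a' ((h : ZMod r) * j) = a' j := by
    intro j
    rw [ha']
    simp only
    by_cases hj : j = 0
    · rw [hj, mul_zero]
    · rw [if_neg hj, if_neg (mul_ne_zero h.ne_zero hj), hinv]
  obtain ⟨s, hs, hRz⟩ := exists_Rz_of_atoms hζ h b₀ k₀ he hatom (∑ j, a' j) a' rfl
    (by rw [ha']; simp) hinv'
  by_cases h0 : a 0 = 0
  · -- no trivial part
    have hk : (u : ZMod r) ^ m = (-1) ^ k := hcond.resolve_left (fun hne => hne h0)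
    have hm : m = b₀ * s := by
      have : 2 * b₀ * s = 2 * (b₀ * s) := by ring
      omega
    have hz0 : z = 0 := by
      funext j
      rw [hz]
      simp only [h0]
      simp
    refine ⟨k₀ * s, ?_, ?_⟩
    · rw [← neg_one_pow_eq_iff hr2, ← hk, hm, pow_mul, pow_mul, hub]
    · rw [hadd, hz0, add_zero, hm]
      exact hRz
  · obtain ⟨t, ht⟩ : ∃ t, a 0 = 2 * (t + 1) := by
      have : 2 * (b₀ * s) + a 0 = 2 * m := by rw [← hsum', hs]; ring
      exact ⟨(a 0) / 2 - 1, by omega⟩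
    have hm : m = b₀ * s + (t + 1) := by
      have : 2 * (b₀ * s) + a 0 = 2 * m := by rw [← hsum', hs]; ring
      omega
    have hzt : z = (fun j : ZMod r => if j = 0 then 2 * (t + 1) else 0) := by
      rw [hz, ht]
    by_cases hpar : (Even (k₀ * s) ↔ Even k)
    · refine ⟨k₀ * s + 0, by rw [add_zero]; exact hpar, ?_⟩
      rw [hadd, hzt, hm]
      exact hRz.add (Rz.one_plus ζ hζ (t + 1))
    · refine ⟨k₀ * s + 1, ?_, ?_⟩
      · rw [Nat.even_add_one]
        constructor
        · intro h1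
          by_contra h2
          exact hpar ⟨fun h3 => absurd h3 h1, fun h3 => absurd h3 h2⟩
        · intro h1 h2
          exact hpar ⟨fun _ => h1, fun _ => h2⟩
      · rw [hadd, hzt, hm]
        exact hRz.add (Rz.one_minus ζ hζ t a₁ c₁ hac)


/-- necessity: an isometry of order `r` without eigenvalue `1` forces the type -/
theorem pow_eq_of_fpf [IsAlgClosed K] (p : ℕ) [Fact p.Prime] [CharP F p] (hrp : r ≠ p) {ζ : K}
    (hζ : IsPrimitiveRoot ζ r) (u : (ZMod r)ˣ)
    (hu : (u : ZMod r) = (Fintype.card F : ZMod r)) {ι : Type} [Fintype ι] [DecidableEq ι]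
    (Q : QuadraticForm F (ι → F)) {m k : ℕ} (hT : IsTy (⇑Q) m k) (g : GL ι F)
    (hgQ : g ∈ Cfsg.isometryGroup F ⇑Q) (hgr : g ^ r = 1) (h0 : mf r ζ g 0 = 0) :
    (u : ZMod r) ^ m = (-1) ^ k := by
  classical
  have hr : r.Prime := Fact.out
  have hp : p.Prime := Fact.out
  have hrF : (r : F) ≠ 0 := by
    rw [Ne, CharP.cast_eq_zero_iff F p]
    intro hd
    exact hrp ((Nat.prime_dvd_prime_iff_eq hp hr).mp hd).symm
  have hspec := mf_spec hζ g hrF hgr
  have h1 : (g.1.charpoly.map (algebraMap F K)).eval 1 ≠ 0 := by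
    rw [hspec]
    unfold prodPoly
    rw [Polynomial.eval_prod, Finset.prod_ne_zero_iff]
    intro j _
    rw [eval_pow, eval_sub, eval_X, eval_C]
    by_cases hj : j = 0
    · rw [hj, h0, pow_zero]
      exact one_ne_zero
    · apply pow_ne_zero
      rw [sub_ne_zero]
      intro h2
      apply hj
      apply ev_injective hζ
      rw [← h2, ev_zero]
  rw [Polynomial.eval_one_map] at h1
  have h2 : g.1.charpoly.eval 1 ≠ 0 := by
    intro h3
    rw [h3, map_zero] at h1
    exact h1 rfl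
  have hfix := fpf_of_eval_one_ne_zero g h2
  have h3 := (dvd_lvl_of_fpf (⇑Q) (map_zero Q) g
    ((Cfsg.Agent.Lib.H11.IsoReindex.mem_iso_iff' _ g).mp hgQ) r hgr hfix).2 1 one_ne_zero
  have h4 := congrArg (Int.cast : ℤ → ZMod r) (hT.ne 1 one_ne_zero)
  push_cast at h4
  rw [(ZMod.natCast_eq_zero_iff _ r).mpr h3, mul_zero, ← hu] at h4
  have h5 : (u : ZMod r) ^ m * ((u : ZMod r) ^ m - (-1) ^ k) = 0 := by
    rw [h4]; ring
  rcases mul_eq_zero.mp h5 with h6 | h6
  · exact absurd h6 (pow_ne_zero _ u.ne_zero)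
  · exact sub_eq_zero.mp h6

end Cfsg.Agent.Lib.H12.OrdO
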