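import Mathlib
import Cfsg.Agent.Lib.H12.RootCntC

/-!
# The order of `-u` in `(ZMod r)ˣ`
-/

namespace Cfsg.Agent.Lib.H12.RootCnt

theorem pow_half_eq_neg_one (r : ℕ) [Fact r.Prime] (u : (ZMod r)ˣ) (c : ℕ)
    (hi : orderOf u = 2 * c) : u ^ c = -1 := by
  have hi0 : 0 < 2 * c := hi ▸ orderOf_pos u
  have hs0 : c ≠ 0 := by omega
  have h1 : u ^ c ≠ 1 := pow_ne_one_of_lt_orderOf hs0 (by omega)
  have h2 : (u ^ c) * (u ^ c) = 1 := by
    rw [← pow_add, ← two_mul, ← hi, pow_orderOf_eq_one]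
  have h3 : ((u ^ c : (ZMod r)ˣ) : ZMod r) * ((u ^ c : (ZMod r)ˣ) : ZMod r) = 1 := by
    rw [← Units.val_mul, h2, Units.val_one]
  rcases mul_self_eq_one_iff.mp h3 with h4 | h4
  · exact absurd (Units.ext h4) h1
  · apply Units.ext
    rw [h4, Units.val_neg, Units.val_one]

theorem gcd_two_mul_succ (c : ℕ) : Nat.gcd (2 * c) (c + 1) = if Odd c then 2 else 1 := by
  have h1 : Nat.Coprime c (c + 1) := by simp
  rw [mul_comm, Nat.Coprime.gcd_mul_left_cancel 2 h1]
  split_ifs with h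
  · apply Nat.gcd_eq_left
    obtain ⟨k, hk⟩ := h
    exact ⟨k + 1, by omega⟩
  · have h2 : Odd (c + 1) := by
      rcases Nat.even_or_odd c with h3 | h3
      · exact h3.add_one
      · exact absurd h3 h
    exact Nat.coprime_two_left.mpr h2

theorem orderOf_neg_of_even (r : ℕ) [Fact r.Prime] (u : (ZMod r)ˣ) (c : ℕ)
    (hi : orderOf u = 2 * c) : orderOf (-u) = if Odd c then c else 2 * c := by
  have h1 : -u = u ^ (c + 1) := by
    rw [pow_succ, pow_half_eq_neg_one r u c hi, neg_one_mul]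
  rw [h1, orderOf_pow, hi, gcd_two_mul_succ]
  split_ifs with h
  · rw [Nat.mul_div_cancel_left c two_pos]
  · rw [Nat.div_one]

end Cfsg.Agent.Lib.H12.RootCnt
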