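import Mathlib
import Cfsg.Agent.Lib.H12.OrdOJ
import Cfsg.Agent.Lib.H12.RootCntI

/-!
# Atoms in both parities and existence of anisotropic binary forms (helper12)
-/

set_option autoImplicit false

namespace Cfsg.Agent.Lib.H12.OrdO

open Matrix Polynomial Finset
open Cfsg.Agent.Lib.H12.RootCnt Cfsg.Agent.Lib.H13

variable {F : Type*} [Field F] [Fintype F]

theorem exists_aniso : ∃ a c : F,
    ∀ z₁ z₂ : F, z₁ ^ 2 + a * z₁ * z₂ + c * z₂ ^ 2 = 0 → z₁ = 0 ∧ z₂ = 0 := by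
  classical
  by_cases h2 : (2 : F) = 0
  · -- characteristic two
    have hni : ¬ Function.Injective (fun t : F => t ^ 2 + t) := by
      intro hinj
      have h1 : (fun t : F => t ^ 2 + t) 0 = (fun t : F => t ^ 2 + t) 1 := by
        simp only
        linear_combination -h2
      exact zero_ne_one (hinj h1)
    have hns : ¬ Function.Surjective (fun t : F => t ^ 2 + t) :=
      fun hs => hni (Finite.injective_iff_surjective.mpr hs)
    rw [Function.Surjective] at hns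
    push Not at hns
    obtain ⟨ζ, hζ⟩ := hns
    refine ⟨1, ζ, AutPO.aniso_of_as ζ ?_⟩
    intro t ht
    apply hζ t
    show t ^ 2 + t = ζ
    linear_combination ht - ζ * h2
  · have hchar : ringChar F ≠ 2 := by
      intro h
      apply h2
      have := ringChar.Nat.cast_ringChar (R := F)
      rw [h] at this
      exact_mod_cast this
    obtain ⟨ν, hν⟩ := FiniteField.exists_nonsquare hchar
    refine ⟨0, -ν, ?_⟩
    intro z₁ z₂ h
    have hz₂ : z₂ = 0 := by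
      by_contra hne
      apply hν
      refine ⟨z₁ / z₂, ?_⟩
      field_simp
      linear_combination -h
    subst hz₂
    refine ⟨?_, rfl⟩
    have : z₁ ^ 2 = 0 := by linear_combination h
    exact pow_eq_zero_iff two_ne_zero |>.1 this

variable {K : Type*} [Field K] [Algebra F K] [IsAlgClosed K] [DecidableEq K] {r : ℕ}
  [Fact r.Prime]

/-- atoms when the order of `q` modulo `r` is even -/
theorem atoms_even (p : ℕ) [Fact p.Prime] [CharP F p] (hrp : r ≠ p) {ζ : K}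
    (hζ : IsPrimitiveRoot ζ r) (φ : K →+* K) (hφ : ∀ x, φ x = x ^ Fintype.card F)
    (u : (ZMod r)ˣ) (hu : (u : ZMod r) = (Fintype.card F : ZMod r)) (b₀ : ℕ)
    (hi : orderOf u = 2 * b₀) (j₀ : ZMod r) (hj₀ : j₀ ≠ 0) : Rz F r ζ b₀ 1 (ind u j₀) := by
  have hb₀ : 1 ≤ b₀ := by
    have := orderOf_pos u
    omega
  obtain ⟨a₁, c₁, hac⟩ := exists_aniso (F := F)
  have hT := isTy_minus (b₀ - 1) a₁ c₁ hac
  rw [Nat.sub_add_cancel hb₀, ← Cfsg.Agent.S0288.coe_minusQF] at hT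
  apply atom_of_group p hrp hζ φ hφ u hu (minusQF F (b₀ - 1) a₁ c₁)
    (Cfsg.Agent.S0288.nondeg a₁ c₁ hac (b₀ - 1)) hT ?_ u hi (fun a h1 _ => h1) j₀ hj₀
  rw [Cfsg.Agent.S0288.coe_minusQF, Cfsg.Agent.S0288.result rfl b₀ hb₀ a₁ c₁ hac]
  apply Dvd.dvd.mul_right
  apply Dvd.dvd.mul_left
  rw [← ZMod.natCast_eq_zero_iff]
  push_cast
  rw [← hu, ← Units.val_pow_eq_pow_val, pow_half_eq_neg_one r u b₀ hi]
  simp

/-- atoms when the order of `q` modulo `r` is odd -/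
theorem atoms_odd (p : ℕ) [Fact p.Prime] [CharP F p] (hr2 : r ≠ 2) (hrp : r ≠ p) {ζ : K}
    (hζ : IsPrimitiveRoot ζ r) (φ : K →+* K) (hφ : ∀ x, φ x = x ^ Fintype.card F)
    (u : (ZMod r)ˣ) (hu : (u : ZMod r) = (Fintype.card F : ZMod r)) (i : ℕ)
    (hi : orderOf u = i) (hodd : Odd i) (j₀ : ZMod r) (hj₀ : j₀ ≠ 0) :
    Rz F r ζ i 0 (ind (-u) j₀) := by
  have hi1 : 1 ≤ i := hi ▸ orderOf_pos u
  obtain ⟨h3, h4⟩ := twist_odd r hr2 u i hi hodd
  have hT := isTy_plus (F := F) i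
  rw [← Cfsg.Agent.S0287.coe_plusQF] at hT
  apply atom_of_group p hrp hζ φ hφ u hu (plusQF F i) (Cfsg.Agent.S0287.nondeg i) hT ?_ (-u) h3
    (fun a h1 h2 => (h4 a).mp ⟨h1, h2⟩) j₀ hj₀
  rw [Cfsg.Agent.S0287.coe_plusQF, Cfsg.Agent.S0287.result rfl i hi1]
  apply Dvd.dvd.mul_right
  apply Dvd.dvd.mul_left
  have h1 : 1 ≤ Fintype.card F ^ i := Nat.one_le_pow _ _ Fintype.card_pos
  rw [← ZMod.natCast_eq_zero_iff]
  push_cast [Nat.cast_sub h1]
  rw [← hu, ← Units.val_pow_eq_pow_val, ← hi, pow_orderOf_eq_one]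
  simp

end Cfsg.Agent.Lib.H12.OrdO
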