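import Mathlib
import Cfsg.Agent.Lib.H12.RootCntB

/-!
# Counting invariant multiplicity functions with constraints at `0` (helper12)
-/

set_option autoImplicit false

namespace Cfsg.Agent.Lib.H12.OrdO

open Finset
open Cfsg.Agent.Lib.H12.RootCnt

variable {r : ℕ} [Fact r.Prime]

theorem sum_update_zero (a : ZMod r → ℕ) (v : ℕ) :
    ∑ j, (Function.update a 0 v) j + a 0 = ∑ j, a j + v := by
  classical
  rw [← Finset.add_sum_erase univ (Function.update a 0 v) (mem_univ (0 : ZMod r)),
    ← Finset.add_sum_erase univ a (mem_univ (0 : ZMod r)), Function.update_self]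
  have : ∑ x ∈ univ.erase (0 : ZMod r), Function.update a 0 v x = ∑ x ∈ univ.erase (0 : ZMod r), a x := by
    apply Finset.sum_congr rfl
    intro x hx
    rw [Function.update_of_ne (Finset.ne_of_mem_erase hx)]
  rw [this]
  ring

theorem update_invariant (h : (ZMod r)ˣ) (a : ZMod r → ℕ)
    (ha : ∀ j, a ((h : ZMod r) * j) = a j) (v : ℕ) (j : ZMod r) :
    Function.update a 0 v ((h : ZMod r) * j) = Function.update a 0 v j := by
  classical
  by_cases hj : j = 0
  · rw [hj, mul_zero]
  · rw [Function.update_of_ne hj, Function.update_of_ne (mul_ne_zero h.ne_zero hj), ha]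

/-- the space of invariant functions of mass `N` -/
abbrev InvS (h : (ZMod r)ˣ) (N : ℕ) : Type :=
  {a : ZMod r → ℕ // ∑ j, a j = N ∧ ∀ j, a ((h : ZMod r) * j) = a j}

theorem finite_InvS (h : (ZMod r)ˣ) (e kk N : ℕ) (he : orderOf h = e) (hk : kk * e = r - 1) :
    Finite (InvS h N) := by
  apply Nat.finite_of_card_ne_zero
  rw [card_invariant_fun r h e kk N he hk]
  exact (Nat.choose_pos (Nat.le_add_left _ _)).ne'

/-- shifting the value at `0` -/
def shiftEquiv (h : (ZMod r)ˣ) (N : ℕ) :
    {a : InvS h (N + 1) // a.1 0 ≠ 0} ≃ InvS h N where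
  toFun a := ⟨Function.update a.1.1 0 (a.1.1 0 - 1), by
    have h1 := sum_update_zero a.1.1 (a.1.1 0 - 1)
    have h2 := a.1.2.1
    have h3 := a.2
    omega, update_invariant h a.1.1 a.1.2.2 _⟩
  invFun b := ⟨⟨Function.update b.1 0 (b.1 0 + 1), by
    have h1 := sum_update_zero b.1 (b.1 0 + 1)
    have h2 := b.2.1
    omega, update_invariant h b.1 b.2.2 _⟩, by
    show Function.update b.1 0 (b.1 0 + 1) 0 ≠ 0
    rw [Function.update_self]
    omega⟩
  left_inv a := by
    apply Subtype.ext
    apply Subtype.ext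
    show Function.update (Function.update a.1.1 0 (a.1.1 0 - 1)) 0
      (Function.update a.1.1 0 (a.1.1 0 - 1) 0 + 1) = a.1.1
    rw [Function.update_idem, Function.update_self]
    have h3 := a.2
    have : a.1.1 0 - 1 + 1 = a.1.1 0 := by omega
    rw [this, Function.update_eq_self]
  right_inv b := by
    apply Subtype.ext
    show Function.update (Function.update b.1 0 (b.1 0 + 1)) 0
      (Function.update b.1 0 (b.1 0 + 1) 0 - 1) = b.1
    rw [Function.update_idem, Function.update_self, Nat.add_sub_cancel, Function.update_eq_self]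

theorem card_zero_class (h : (ZMod r)ˣ) (e kk N : ℕ) (he : orderOf h = e) (hk : kk * e = r - 1)
    (hN : 1 ≤ N) :
    Nat.card {a : InvS h N // a.1 0 = 0} =
      if e ∣ N then (N / e + kk - 1).choose (kk - 1) else 0 := by
  classical
  obtain ⟨M, rfl⟩ : ∃ M, N = M + 1 := ⟨N - 1, by omega⟩
  have hfin := finite_InvS h e kk (M + 1) he hk
  have := Fintype.ofFinite (InvS h (M + 1))
  have h1 : Nat.card {a : InvS h (M + 1) // a.1 0 = 0} +
      Nat.card {a : InvS h (M + 1) // ¬ (a.1 0 = 0)} = Nat.card (InvS h (M + 1)) := by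
    rw [Nat.card_eq_fintype_card, Nat.card_eq_fintype_card, Nat.card_eq_fintype_card,
      Fintype.card_subtype_compl]
    have := Fintype.card_subtype_le (fun a : InvS h (M + 1) => a.1 0 = 0)
    omega
  rw [Nat.card_congr (shiftEquiv h M), card_invariant_fun r h e kk (M + 1) he hk,
    card_invariant_fun r h e kk M he hk] at h1
  have he0 : 0 < e := he ▸ orderOf_pos h
  have hkk : 1 ≤ kk := by
    have hr : r.Prime := Fact.out
    have := hr.two_le
    rcases Nat.eq_zero_or_pos kk with h0 | h0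
    · rw [h0] at hk; omega
    · exact h0
  split_ifs with hd
  · obtain ⟨x, hx⟩ := hd
    have hx1 : 1 ≤ x := by
      rcases Nat.eq_zero_or_pos x with h0 | h0
      · rw [h0] at hx; omega
      · exact h0
    have h2 : (M + 1) / e = x := by rw [hx]; exact Nat.mul_div_cancel_left x he0
    have h3 : M / e = x - 1 := by
      obtain ⟨y, rfl⟩ : ∃ y, x = y + 1 := ⟨x - 1, by omega⟩
      have : M = e * y + (e - 1) := by
        have : e * (y + 1) = e * y + e := by ring
        omega
      rw [this, Nat.add_sub_cancel, Nat.mul_add_div he0, Nat.div_eq_of_lt (by omega), add_zero]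
    rw [h2, h3] at h1
    rw [h2]
    obtain ⟨y, rfl⟩ : ∃ y, x = y + 1 := ⟨x - 1, by omega⟩
    obtain ⟨k', rfl⟩ : ∃ k', kk = k' + 1 := ⟨kk - 1, by omega⟩
    have h4 : (y + 1 + (k' + 1)).choose (k' + 1) =
        (y + 1 + k').choose k' + (y + 1 + k').choose (k' + 1) := by
      have : y + 1 + (k' + 1) = (y + 1 + k') + 1 := by ring
      rw [this, Nat.choose_succ_succ]
    have h5 : y + 1 - 1 + (k' + 1) = y + 1 + k' := by omega
    have h6 : y + 1 + (k' + 1) - 1 = y + 1 + k' := by omega
    rw [h5] at h1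
    rw [h6, Nat.add_sub_cancel]
    omega
  · have h2 : (M + 1) / e = M / e := by
      rw [Nat.succ_div, if_neg hd, add_zero]
    rw [h2] at h1
    omega


theorem card_top_class (h : (ZMod r)ˣ) (N : ℕ) :
    Nat.card {a : InvS h N // a.1 0 = N} = 1 := by
  classical
  rw [Nat.card_eq_one_iff_unique]
  constructor
  · constructor
    intro a b
    apply Subtype.ext
    apply Subtype.ext
    have key : ∀ c : {a : InvS h N // a.1 0 = N}, ∀ j : ZMod r, j ≠ 0 → c.1.1 j = 0 := by
      intro c j hj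
      by_contra hne
      have h1 : c.1.1 0 + c.1.1 j ≤ ∑ k, c.1.1 k := by
        rw [← Finset.sum_pair (Ne.symm hj)]
        exact Finset.sum_le_sum_of_subset (Finset.subset_univ _)
      have h2 := c.1.2.1
      have h3 := c.2
      omega
    funext j
    by_cases hj : j = 0
    · rw [hj, a.2, b.2]
    · rw [key a j hj, key b j hj]
  · refine ⟨⟨⟨fun j => if j = 0 then N else 0, ?_, ?_⟩, ?_⟩⟩
    · rw [Finset.sum_ite_eq' univ (0 : ZMod r)]
      simp
    · intro j
      by_cases hj : j = 0
      · rw [hj, mul_zero]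
      · show (if (h : ZMod r) * j = 0 then N else 0) = if j = 0 then N else 0
        rw [if_neg hj, if_neg (mul_ne_zero h.ne_zero hj)]
    · simp

theorem card_cond (h : (ZMod r)ˣ) (e kk N : ℕ) (he : orderOf h = e) (hk : kk * e = r - 1)
    (hN : 1 ≤ N) (C : Prop) [Decidable C] :
    Nat.card {a : ZMod r → ℕ // (∑ j, a j = N ∧ ∀ j, a ((h : ZMod r) * j) = a j) ∧
      a 0 ≠ N ∧ (a 0 ≠ 0 ∨ C)} =
    (N / e + kk).choose kk - 1 -
      (if C then 0 else (if e ∣ N then (N / e + kk - 1).choose (kk - 1) else 0)) := by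
  classical
  have hfin := finite_InvS h e kk N he hk
  have := Fintype.ofFinite (InvS h N)
  have e0 : {a : ZMod r → ℕ // (∑ j, a j = N ∧ ∀ j, a ((h : ZMod r) * j) = a j) ∧
      a 0 ≠ N ∧ (a 0 ≠ 0 ∨ C)} ≃ {a : InvS h N // a.1 0 ≠ N ∧ (a.1 0 ≠ 0 ∨ C)} :=
    (Equiv.subtypeSubtypeEquivSubtypeInter
      (fun a : ZMod r → ℕ => ∑ j, a j = N ∧ ∀ j, a ((h : ZMod r) * j) = a j)
      (fun a => a 0 ≠ N ∧ (a 0 ≠ 0 ∨ C))).symm
  rw [Nat.card_congr e0]
  have hall := card_invariant_fun r h e kk N he hk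
  have htop := card_top_class h N
  have hzero := card_zero_class h e kk N he hk hN
  rw [Nat.card_eq_fintype_card] at hall htop hzero
  by_cases hC : C
  · rw [if_pos hC, Nat.sub_zero]
    have e1 : {a : InvS h N // a.1 0 ≠ N ∧ (a.1 0 ≠ 0 ∨ C)} ≃ {a : InvS h N // ¬ (a.1 0 = N)} :=
      Equiv.subtypeEquivRight (fun a => ⟨fun h1 => h1.1, fun h1 => ⟨h1, Or.inr hC⟩⟩)
    rw [Nat.card_congr e1, Nat.card_eq_fintype_card, Fintype.card_subtype_compl, hall, htop]
  · rw [if_neg hC]
    have e1 : {a : InvS h N // a.1 0 ≠ N ∧ (a.1 0 ≠ 0 ∨ C)} ≃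
        {a : InvS h N // ¬ (a.1 0 = N ∨ a.1 0 = 0)} :=
      Equiv.subtypeEquivRight (fun a => by
        constructor
        · rintro ⟨h1, h2⟩ h3
          rcases h3 with h3 | h3
          · exact h1 h3
          · exact (h2.resolve_right hC) h3
        · intro h1
          exact ⟨fun h2 => h1 (Or.inl h2), Or.inl (fun h2 => h1 (Or.inr h2))⟩)
    have hdisj : Disjoint (fun a : InvS h N => a.1 0 = N) (fun a : InvS h N => a.1 0 = 0) := by
      rw [Pi.disjoint_iff]
      intro a
      rw [Prop.disjoint_iff]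
      rintro ⟨h1, h2⟩
      omega
    rw [Nat.card_congr e1, Nat.card_eq_fintype_card, Fintype.card_subtype_compl,
      Fintype.card_subtype_or_disjoint _ _ hdisj, hall, htop, hzero]
    omega

end Cfsg.Agent.Lib.H12.OrdO
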