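import Mathlib
import Cfsg.Agent.Lib.H12.OrdOK
import Cfsg.Agent.Lib.H12.OrdOL

/-!
# Classes of elements of odd prime order in even-dimensional orthogonal groups: the bijection
with multiplicity functions (helper12)
-/

set_option autoImplicit false

namespace Cfsg.Agent.Lib.H12.OrdO

open Matrix Polynomial Finset
open Cfsg.Agent.Lib.H12.RootCnt Cfsg.Agent.Lib.H13

variable {F : Type*} [Field F] [Fintype F] {K : Type*} [Field K] [Algebra F K] [IsAlgClosed K]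
  [DecidableEq K] {r : ℕ} [Fact r.Prime]

set_option maxHeartbeats 800000 in
theorem card_classes_target (p : ℕ) [Fact p.Prime] [CharP F p] (hr2 : r ≠ 2) (hrp : r ≠ p)
    {ζ : K} (hζ : IsPrimitiveRoot ζ r) (φ : K →+* K) (hφ : ∀ x, φ x = x ^ Fintype.card F)
    (u : (ZMod r)ˣ) (hu : (u : ZMod r) = (Fintype.card F : ZMod r))
    (h : (ZMod r)ˣ) (b₀ k₀ : ℕ) (he : orderOf h = 2 * b₀)
    (hub : (u : ZMod r) ^ b₀ = (-1) ^ k₀)
    (hatom : ∀ j₀ : ZMod r, j₀ ≠ 0 → Rz F r ζ b₀ k₀ (ind h j₀))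
    (htw : ∀ a : ZMod r → ℕ, ((∀ j, a ((u : ZMod r) * j) = a j) ∧ (∀ j, a (-j) = a j)) ↔
      ∀ j, a ((h : ZMod r) * j) = a j)
    {ι : Type} [Fintype ι] [DecidableEq ι] (Q : QuadraticForm F (ι → F))
    (hQ : (QuadraticMap.polarBilin Q).Nondegenerate) (m k : ℕ) (hT : IsTy (⇑Q) m k)
    (htrans : ∀ (k' : ℕ) (a : ZMod r → ℕ), (Even k' ↔ Even k) → Rz F r ζ m k' a →
      ∃ g : GL ι F, g ∈ Cfsg.isometryGroup F ⇑Q ∧ g ^ r = 1 ∧ mf r ζ g = a) :
    Nat.card {C : ConjClasses ↥(Cfsg.isometryGroup F ⇑Q) //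
      ∃ g : ↥(Cfsg.isometryGroup F ⇑Q), ConjClasses.mk g = C ∧ orderOf g = r} =
    Nat.card {a : ZMod r → ℕ // (∑ j, a j = 2 * m ∧ ∀ j, a ((h : ZMod r) * j) = a j) ∧
      a 0 ≠ 2 * m ∧ (a 0 ≠ 0 ∨ (u : ZMod r) ^ m = (-1) ^ k)} := by
  classical
  have hr : r.Prime := Fact.out
  have hp : p.Prime := Fact.out
  have hrF : (r : F) ≠ 0 := by
    rw [Ne, CharP.cast_eq_zero_iff F p]
    intro hd
    exact hrp ((Nat.prime_dvd_prime_iff_eq hp hr).mp hd).symm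
  obtain ⟨a₁, c₁, hac⟩ := exists_aniso (F := F)
  rw [card_classes_eq p Q hQ hr hr2 hrp hζ]
  apply Nat.card_congr
  apply Equiv.subtypeEquivRight
  intro a
  rw [hT.card]
  constructor
  · rintro ⟨ha0, g, hgQ, hgr, rfl⟩
    refine ⟨⟨?_, ?_⟩, ha0, ?_⟩
    · rw [mf_sum hζ g hrF hgr, hT.card]
    · apply (htw _).mp
      constructor
      · intro j
        rw [hu]
        exact mf_frob hζ φ hφ g j
      · intro j
        exact mf_neg hζ Q hQ g hgQ hrF hgr j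
    · by_cases h0 : mf r ζ g 0 = 0
      · right
        exact pow_eq_of_fpf p hrp hζ u hu Q hT g hgQ hgr h0
      · left
        exact h0
  · rintro ⟨⟨hsum, hinv⟩, ha0, hcond⟩
    refine ⟨ha0, ?_⟩
    obtain ⟨k', hk', hRz⟩ := exists_Rz hζ hr2 u h b₀ k₀ he hub hatom a₁ c₁ hac m k a hsum hinv hcond
    exact htrans k' a hk' hRz

end Cfsg.Agent.Lib.H12.OrdO
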