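import Mathlib
import Cfsg.Agent.Lib.H12.OrdOM
import Cfsg.Agent.Lib.H12.RootCntC
import Cfsg.Agent.Lib.H12.RootCntI

/-!
# Classes of elements of odd prime order in even-dimensional orthogonal groups: final count
(helper12)
-/

set_option autoImplicit false

namespace Cfsg.Agent.Lib.H12.OrdO

open Matrix Polynomial Finset
open Cfsg.Agent.Lib.H12.RootCnt Cfsg.Agent.Lib.H13

section numberTheory

variable {r : ℕ} [Fact r.Prime]

theorem neg_one_ne_one_zmod (hr2 : r ≠ 2) : (-1 : ZMod r) ≠ 1 := by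
  have hr : r.Prime := Fact.out
  intro h
  have h2 : (2 : ZMod r) = 0 := by linear_combination -h
  have h3 : ((2 : ℕ) : ZMod r) = 0 := by exact_mod_cast h2
  rw [ZMod.natCast_eq_zero_iff] at h3
  have := Nat.le_of_dvd two_pos h3
  have := hr.two_le
  omega

theorem pow_cond_even (hr2 : r ≠ 2) (u : (ZMod r)ˣ) (b₀ : ℕ) (hi : orderOf u = 2 * b₀) (m : ℕ)
    (hdvd : 2 * b₀ ∣ 2 * m) :
    ((u : ZMod r) ^ m = 1 ↔ Even (2 * m / (2 * b₀))) ∧
      ((u : ZMod r) ^ m = -1 ↔ Odd (2 * m / (2 * b₀))) := by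
  have hb0 : 0 < 2 * b₀ := hi ▸ orderOf_pos u
  obtain ⟨s, hs⟩ := hdvd
  have hm : m = b₀ * s := by
    have : 2 * m = 2 * (b₀ * s) := by rw [hs]; ring
    omega
  have hq : 2 * m / (2 * b₀) = s := by
    rw [hs]
    exact Nat.mul_div_cancel_left s hb0
  rw [hq]
  have hpow : (u : ZMod r) ^ m = (-1) ^ s := by
    rw [hm, pow_mul, ← Units.val_pow_eq_pow_val, pow_half_eq_neg_one r u b₀ hi]
    simp
  rw [hpow]
  rcases Nat.even_or_odd s with hs' | hs'
  · rw [hs'.neg_one_pow]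
    refine ⟨⟨fun _ => hs', fun _ => rfl⟩, ⟨fun h => ?_, fun h => ?_⟩⟩
    · exact absurd h.symm (neg_one_ne_one_zmod hr2)
    · exact absurd hs' (Nat.not_even_iff_odd.mpr h)
  · rw [hs'.neg_one_pow]
    refine ⟨⟨fun h => ?_, fun h => ?_⟩, ⟨fun _ => hs', fun _ => rfl⟩⟩
    · exact absurd h (neg_one_ne_one_zmod hr2)
    · exact absurd h (Nat.not_even_iff_odd.mpr hs')

theorem pow_cond_odd (hr2 : r ≠ 2) (u : (ZMod r)ˣ) (i : ℕ) (hi : orderOf u = i) (hodd : Odd i)
    (m : ℕ) : ((u : ZMod r) ^ m = 1 ↔ i ∣ m) ∧ (u : ZMod r) ^ m ≠ -1 := by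
  have h1 : (u : ZMod r) ^ m = 1 ↔ i ∣ m := by
    rw [← hi, orderOf_dvd_iff_pow_eq_one, ← Units.val_pow_eq_pow_val, Units.val_eq_one]
  refine ⟨h1, ?_⟩
  intro h
  have h2 : (u : ZMod r) ^ (2 * m) = 1 := by
    rw [mul_comm, pow_mul, h]
    norm_num
  have h3 : i ∣ 2 * m := by
    rw [← hi, orderOf_dvd_iff_pow_eq_one]
    apply Units.ext
    rw [Units.val_pow_eq_pow_val, h2, Units.val_one]
  have h4 : i ∣ m := (Nat.Coprime.dvd_mul_left hodd.coprime_two_right).mp h3
  rw [h1.mpr h4] at h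
  exact neg_one_ne_one_zmod hr2 h.symm

end numberTheory

section final

universe u

variable {F : Type u} [Field F] [Fintype F] {r : ℕ} [Fact r.Prime]

set_option maxHeartbeats 1600000 in
theorem card_classes_even_dim (p : ℕ) [Fact p.Prime] [CharP F p] (hr2 : r ≠ 2) (hrp : r ≠ p)
    (q i t : ℕ) (hF : Fintype.card F = q) (hi : i = orderOf (q : ZMod r)) (ht : t * i = r - 1)
    {ι : Type} [Fintype ι] [DecidableEq ι] (Q : QuadraticForm F (ι → F))
    (hQ : (QuadraticMap.polarBilin Q).Nondegenerate) (m k : ℕ) (hm : 1 ≤ m)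
    (hT : IsTy (⇑Q) m k)
    (htrans : ∀ (K : Type u) [Field K] [Algebra F K] [IsAlgClosed K] [DecidableEq K] (ζ : K)
      (k' : ℕ) (a : ZMod r → ℕ), (Even k' ↔ Even k) → Rz F r ζ m k' a →
      ∃ g : GL ι F, g ∈ Cfsg.isometryGroup F ⇑Q ∧ g ^ r = 1 ∧ mf r ζ g = a)
    [Decidable ((q : ZMod r) ^ m = (-1) ^ k)] :
    Nat.card {C : ConjClasses ↥(Cfsg.isometryGroup F ⇑Q) //
      ∃ g : ↥(Cfsg.isometryGroup F ⇑Q), ConjClasses.mk g = C ∧ orderOf g = r} =
    if Odd i then (m / i + t / 2).choose (t / 2) - 1 -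
        (if (q : ZMod r) ^ m = (-1) ^ k then 0 else
          (if i ∣ m then (m / i + t / 2 - 1).choose (t / 2 - 1) else 0))
      else (2 * m / i + t).choose t - 1 -
        (if (q : ZMod r) ^ m = (-1) ^ k then 0 else
          (if i ∣ 2 * m then (2 * m / i + t - 1).choose (t - 1) else 0)) := by
  classical
  have hr : r.Prime := Fact.out
  have : NeZero r := ⟨hr.ne_zero⟩
  have hp : p.Prime := Fact.out
  have hrF : NeZero (r : F) := by
    refine ⟨?_⟩
    rw [Ne, CharP.cast_eq_zero_iff F p]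
    intro hd
    exact hrp ((Nat.prime_dvd_prime_iff_eq hp hr).mp hd).symm
  obtain ⟨ζ, hζ⟩ := HasEnoughRootsOfUnity.exists_primitiveRoot (AlgebraicClosure F) r
  have : CharP (AlgebraicClosure F) p :=
    charP_of_injective_algebraMap (algebraMap F (AlgebraicClosure F)).injective p
  have : ExpChar (AlgebraicClosure F) p := ExpChar.prime hp
  obtain ⟨f, -, hf⟩ := FiniteField.card F p
  have hφ : ∀ x : AlgebraicClosure F,
      iterateFrobenius (AlgebraicClosure F) p f x = x ^ Fintype.card F := by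
    intro x
    rw [iterateFrobenius_def, hf]
  have hq0 : (q : ZMod r) ≠ 0 := by
    intro h0
    have h2 : r ∣ q := (ZMod.natCast_eq_zero_iff q r).mp h0
    rw [← hF, hf] at h2
    have h3 := hr.dvd_of_dvd_pow h2
    exact hrp ((Nat.prime_dvd_prime_iff_eq hr hp).mp h3)
  set u : (ZMod r)ˣ := Units.mk0 (q : ZMod r) hq0 with hu
  have huv : (u : ZMod r) = (Fintype.card F : ZMod r) := by rw [hF]; rfl
  have huq : (u : ZMod r) = (q : ZMod r) := rfl
  have hordu : orderOf u = i := by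
    rw [hi, ← orderOf_units]
    rfl
  rcases Nat.even_or_odd i with hev | hod
  · rw [if_neg (Nat.not_odd_iff_even.mpr hev)]
    obtain ⟨b₀, hb₀⟩ := hev
    have hi2 : orderOf u = 2 * b₀ := by rw [hordu, hb₀]; ring
    have hub : (u : ZMod r) ^ b₀ = (-1) ^ 1 := by
      rw [← Units.val_pow_eq_pow_val, pow_half_eq_neg_one r u b₀ hi2]
      simp
    rw [card_classes_target p hr2 hrp hζ (iterateFrobenius (AlgebraicClosure F) p f) hφ u huv u
      b₀ 1 hi2 hub
      (fun j₀ hj₀ => atoms_even p hrp hζ (iterateFrobenius (AlgebraicClosure F) p f) hφ u huv b₀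
        hi2 j₀ hj₀)
      (fun a => twist_even r u i hordu ⟨b₀, hb₀⟩ a) Q hQ m k hT
      (fun k' a hk' hRz => htrans (AlgebraicClosure F) ζ k' a hk' hRz)]
    rw [card_cond u i t (2 * m) hordu ht (by omega)]
    by_cases hc : (q : ZMod r) ^ m = (-1) ^ k
    · rw [if_pos hc, if_pos (show (u : ZMod r) ^ m = (-1) ^ k from hc)]
    · rw [if_neg hc, if_neg (show ¬ (u : ZMod r) ^ m = (-1) ^ k from hc)]
  · rw [if_pos hod]
    obtain ⟨h3, h4⟩ := twist_odd r hr2 u i hordu hod
    have hte : Even t := by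
      have h5 : Even (t * i) := by rw [ht]; exact hr.even_sub_one hr2
      rcases Nat.even_mul.mp h5 with h6 | h6
      · exact h6
      · exact absurd hod (Nat.not_odd_iff_even.mpr h6)
    have hk : t / 2 * (2 * i) = r - 1 := by
      obtain ⟨s, hs⟩ := hte
      rw [← ht, hs]
      have : (s + s) / 2 = s := by omega
      rw [this]
      ring
    have hub : (u : ZMod r) ^ i = (-1) ^ 0 := by
      rw [← Units.val_pow_eq_pow_val, ← hordu, pow_orderOf_eq_one]
      simp
    rw [card_classes_target p hr2 hrp hζ (iterateFrobenius (AlgebraicClosure F) p f) hφ u huv (-u)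
      i 0 h3 hub
      (fun j₀ hj₀ => atoms_odd p hr2 hrp hζ (iterateFrobenius (AlgebraicClosure F) p f) hφ u huv i
        hordu hod j₀ hj₀)
      h4 Q hQ m k hT
      (fun k' a hk' hRz => htrans (AlgebraicClosure F) ζ k' a hk' hRz)]
    rw [card_cond (-u) (2 * i) (t / 2) (2 * m) h3 hk (by omega),
      Nat.mul_div_mul_left m i two_pos]
    have hi1 : 0 < i := hordu ▸ orderOf_pos u
    have hdv : 2 * i ∣ 2 * m ↔ i ∣ m := Nat.mul_dvd_mul_iff_left two_pos
    by_cases hc : (q : ZMod r) ^ m = (-1) ^ k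
    · rw [if_pos hc, if_pos (show (u : ZMod r) ^ m = (-1) ^ k from hc)]
    · rw [if_neg hc, if_neg (show ¬ (u : ZMod r) ^ m = (-1) ^ k from hc)]
      simp only [hdv]

end final

end Cfsg.Agent.Lib.H12.OrdO
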