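import Mathlib
import Cfsg.Agent.Lib.H12.OrdON
import Cfsg.Agent.Lib.H12.OrdOP

/-!
# Classes of elements of odd prime order in odd-dimensional orthogonal groups (helper12)
-/

set_option autoImplicit false

namespace Cfsg.Agent.Lib.H12.OrdO

open Matrix Polynomial Finset
open Cfsg.Agent.Lib.H12.RootCnt Cfsg.Agent.Lib.H13 Cfsg.Agent.Lib.H13.OrthSum

variable {F : Type*} [Field F] [Fintype F] {K : Type*} [Field K] [Algebra F K] [IsAlgClosed K]
  [DecidableEq K] {r : ℕ} [Fact r.Prime]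

set_option maxHeartbeats 1600000 in
theorem card_classes_odd_target (p : ℕ) [Fact p.Prime] [CharP F p] (h2 : (2 : F) ≠ 0)
    (hr2 : r ≠ 2) (hrp : r ≠ p)
    {ζ : K} (hζ : IsPrimitiveRoot ζ r) (φ : K →+* K) (hφ : ∀ x, φ x = x ^ Fintype.card F)
    (u : (ZMod r)ˣ) (hu : (u : ZMod r) = (Fintype.card F : ZMod r))
    (h : (ZMod r)ˣ) (b₀ k₀ : ℕ) (he : orderOf h = 2 * b₀)
    (hatom : ∀ j₀ : ZMod r, j₀ ≠ 0 → Rz F r ζ b₀ k₀ (ind h j₀))
    (htw : ∀ a : ZMod r → ℕ, ((∀ j, a ((u : ZMod r) * j) = a j) ∧ (∀ j, a (-j) = a j)) ↔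
      ∀ j, a ((h : ZMod r) * j) = a j) (m : ℕ) :
    Nat.card {C : ConjClasses ↥(Cfsg.isometryGroup F (Cfsg.quadFormOdd m F)) //
      ∃ g : ↥(Cfsg.isometryGroup F (Cfsg.quadFormOdd m F)),
        ConjClasses.mk g = C ∧ orderOf g = r} =
    Nat.card {a : ZMod r → ℕ // (∑ j, a j = 2 * m + 1 ∧ ∀ j, a ((h : ZMod r) * j) = a j) ∧
      a 0 ≠ 2 * m + 1 ∧ (a 0 ≠ 0 ∨ True)} := by
  classical
  have hr : r.Prime := Fact.out
  have : NeZero r := ⟨hr.ne_zero⟩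
  have hp : p.Prime := Fact.out
  have hrF : (r : F) ≠ 0 := by
    rw [Ne, CharP.cast_eq_zero_iff F p]
    intro hd
    exact hrp ((Nat.prime_dvd_prime_iff_eq hp hr).mp hd).symm
  have hcard : Fintype.card (Unit ⊕ (Fin m ⊕ Fin m)) = 2 * m + 1 := by
    rw [Fintype.card_sum, Fintype.card_sum, Fintype.card_fin, Fintype.card_unit]
    ring
  rw [← Cfsg.Agent.S0286.coe_oddQF]
  rw [card_classes_eq p (Cfsg.Agent.S0286.oddQF F m) (Cfsg.Agent.S0286.nondeg h2 m) hr hr2 hrp hζ]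
  apply Nat.card_congr
  apply Equiv.subtypeEquivRight
  intro a
  rw [hcard]
  constructor
  · rintro ⟨ha0, g, hgQ, hgr, rfl⟩
    refine ⟨⟨?_, ?_⟩, ha0, Or.inr trivial⟩
    · rw [mf_sum hζ g hrF hgr, hcard]
    · apply (htw _).mp
      constructor
      · intro j
        rw [hu]
        exact mf_frob hζ φ hφ g j
      · intro j
        exact mf_neg hζ _ (Cfsg.Agent.S0286.nondeg h2 m) g hgQ hrF hgr j
  · rintro ⟨⟨hsum, hinv⟩, ha0, -⟩
    refine ⟨ha0, ?_⟩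
    set a' : ZMod r → ℕ := fun j => if j = 0 then 0 else a j with ha'
    set z : ZMod r → ℕ := fun j => if j = 0 then a 0 else 0 with hz
    have hadd : a = a' + z := by
      funext j
      rw [Pi.add_apply, ha', hz]
      by_cases hj : j = 0
      · subst hj; simp
      · simp only [if_neg hj, add_zero]
    have hsum' : ∑ j, a' j + a 0 = 2 * m + 1 := by
      rw [← hsum]
      conv_rhs => rw [hadd]
      simp only [Pi.add_apply]
      rw [Finset.sum_add_distrib]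
      congr 1
      rw [hz, Finset.sum_ite_eq' univ (0 : ZMod r)]
      simp
    have hinv' : ∀ j, a' ((h : ZMod r) * j) = a' j := by
      intro j
      rw [ha']
      simp only
      by_cases hj : j = 0
      · rw [hj, mul_zero]
      · rw [if_neg hj, if_neg (mul_ne_zero h.ne_zero hj), hinv]
    obtain ⟨s, hs, hRz⟩ := exists_Rz_of_atoms hζ h b₀ k₀ he hatom (∑ j, a' j) a' rfl
      (by rw [ha']; simp) hinv'
    obtain ⟨t, ht⟩ : ∃ t, a 0 = 2 * t + 1 := by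
      have : 2 * (b₀ * s) + a 0 = 2 * m + 1 := by rw [← hsum', hs]; ring
      exact ⟨(a 0) / 2, by omega⟩
    have hm : m = b₀ * s + t := by
      have : 2 * (b₀ * s) + a 0 = 2 * m + 1 := by rw [← hsum', hs]; ring
      omega
    obtain ⟨ι₁, _, _, Q₁, g₁, hQ₁, hT₁, hg₁, hgr₁, hga₁⟩ := hRz
    have hcard2 : Fintype.card (Unit ⊕ (Fin t ⊕ Fin t)) = 2 * t + 1 := by
      rw [Fintype.card_sum, Fintype.card_sum, Fintype.card_fin, Fintype.card_unit]
      ring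
    have hfr : Module.finrank F (ι₁ ⊕ (Unit ⊕ (Fin t ⊕ Fin t)) → F) = 2 * m + 1 := by
      rw [Module.finrank_fintype_fun_eq_card, Fintype.card_sum, hT₁.card, hcard2, hm]
      ring
    obtain ⟨d, Φ, hd0, hΦ⟩ := exists_odd_similitude (sumQF Q₁ (Cfsg.Agent.S0286.oddQF F t))
      (nondeg_sumQF Q₁ _ hQ₁ (Cfsg.Agent.S0286.nondeg h2 t)) m hfr
    have hmem := blk_mem Q₁ (Cfsg.Agent.S0286.oddQF F t) (⟨g₁, hg₁⟩, ⟨1, one_mem _⟩)
    obtain ⟨g₀, hg₀, hc, hpw⟩ := exists_transport Φ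
      (⇑(sumQF Q₁ (Cfsg.Agent.S0286.oddQF F t))) (Cfsg.quadFormOdd m F) d hd0 hΦ _ hmem
    refine ⟨g₀, ?_, hpw r ?_, ?_⟩
    · rw [Cfsg.Agent.S0286.coe_oddQF]
      exact hg₀
    · show (blkGL ι₁ (Unit ⊕ (Fin t ⊕ Fin t)) F (g₁, 1)) ^ r = 1
      rw [← map_pow, Prod.pow_mk, hgr₁, one_pow]
      exact map_one _
    · rw [mf_congr_charpoly ζ _ _ hc]
      show mf r ζ (blkGL ι₁ (Unit ⊕ (Fin t ⊕ Fin t)) F (g₁, 1)) = a
      rw [mf_blk, hga₁, mf_one ζ hζ, hcard2, hadd, hz, ht]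

end Cfsg.Agent.Lib.H12.OrdO
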