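import Mathlib
import Cfsg.Agent.Lib.H12.OrdOQ

/-!
# Classes of elements of odd prime order in odd-dimensional orthogonal groups: final count
(helper12)
-/

set_option autoImplicit false

namespace Cfsg.Agent.Lib.H12.OrdO

open Matrix Polynomial Finset
open Cfsg.Agent.Lib.H12.RootCnt Cfsg.Agent.Lib.H13

variable {F : Type*} [Field F] [Fintype F] {r : ℕ} [Fact r.Prime]

set_option maxHeartbeats 1600000 in
theorem card_classes_odd_dim (p : ℕ) [Fact p.Prime] [CharP F p] (h2 : (2 : F) ≠ 0) (hr2 : r ≠ 2)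
    (hrp : r ≠ p) (q i t : ℕ) (hF : Fintype.card F = q) (hi : i = orderOf (q : ZMod r))
    (ht : t * i = r - 1) (m : ℕ) :
    Nat.card {C : ConjClasses ↥(Cfsg.isometryGroup F (Cfsg.quadFormOdd m F)) //
      ∃ g : ↥(Cfsg.isometryGroup F (Cfsg.quadFormOdd m F)),
        ConjClasses.mk g = C ∧ orderOf g = r} =
    if Odd i then (m / i + t / 2).choose (t / 2) - 1
      else ((2 * m + 1) / i + t).choose t - 1 := by
  classical
  have hr : r.Prime := Fact.out
  have : NeZero r := ⟨hr.ne_zero⟩
  have hp : p.Prime := Fact.out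
  have hrF : NeZero (r : F) := by
    refine ⟨?_⟩
    rw [Ne, CharP.cast_eq_zero_iff F p]
    intro hd
    exact hrp ((Nat.prime_dvd_prime_iff_eq hp hr).mp hd).symm
  obtain ⟨ζ, hζ⟩ := HasEnoughRootsOfUnity.exists_primitiveRoot (AlgebraicClosure F) r
  have : CharP (AlgebraicClosure F) p :=
    charP_of_injective_algebraMap (algebraMap F (AlgebraicClosure F)).injective p
  have : ExpChar (AlgebraicClosure F) p := ExpChar.prime hp
  obtain ⟨f, -, hf⟩ := FiniteField.card F p
  have hφ : ∀ x : AlgebraicClosure F,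
      iterateFrobenius (AlgebraicClosure F) p f x = x ^ Fintype.card F := by
    intro x
    rw [iterateFrobenius_def, hf]
  have hq0 : (q : ZMod r) ≠ 0 := by
    intro h0
    have h2 : r ∣ q := (ZMod.natCast_eq_zero_iff q r).mp h0
    rw [← hF, hf] at h2
    have h3 := hr.dvd_of_dvd_pow h2
    exact hrp ((Nat.prime_dvd_prime_iff_eq hr hp).mp h3)
  set u : (ZMod r)ˣ := Units.mk0 (q : ZMod r) hq0 with hu
  have huv : (u : ZMod r) = (Fintype.card F : ZMod r) := by rw [hF]; rfl
  have hordu : orderOf u = i := by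
    rw [hi, ← orderOf_units]
    rfl
  rcases Nat.even_or_odd i with hev | hod
  · rw [if_neg (Nat.not_odd_iff_even.mpr hev)]
    obtain ⟨b₀, hb₀⟩ := hev
    have hi2 : orderOf u = 2 * b₀ := by rw [hordu, hb₀]; ring
    rw [card_classes_odd_target p h2 hr2 hrp hζ (iterateFrobenius (AlgebraicClosure F) p f) hφ u huv
      u b₀ 1 hi2
      (fun j₀ hj₀ => atoms_even p hrp hζ (iterateFrobenius (AlgebraicClosure F) p f) hφ u huv b₀
        hi2 j₀ hj₀)
      (fun a => twist_even r u i hordu ⟨b₀, hb₀⟩ a) m]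
    rw [card_cond u i t (2 * m + 1) hordu ht (by omega), if_pos trivial, Nat.sub_zero]
  · rw [if_pos hod]
    obtain ⟨h3, h4⟩ := twist_odd r hr2 u i hordu hod
    have hte : Even t := by
      have h5 : Even (t * i) := by rw [ht]; exact hr.even_sub_one hr2
      rcases Nat.even_mul.mp h5 with h6 | h6
      · exact h6
      · exact absurd hod (Nat.not_odd_iff_even.mpr h6)
    have hk : t / 2 * (2 * i) = r - 1 := by
      obtain ⟨s, hs⟩ := hte
      rw [← ht, hs]
      have : (s + s) / 2 = s := by omega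
      rw [this]
      ring
    rw [card_classes_odd_target p h2 hr2 hrp hζ (iterateFrobenius (AlgebraicClosure F) p f) hφ u huv
      (-u) i 0 h3
      (fun j₀ hj₀ => atoms_odd p hr2 hrp hζ (iterateFrobenius (AlgebraicClosure F) p f) hφ u huv i
        hordu hod j₀ hj₀)
      h4 m]
    rw [card_cond (-u) (2 * i) (t / 2) (2 * m + 1) h3 hk (by omega), if_pos trivial, Nat.sub_zero]
    have hdiv : (2 * m + 1) / (2 * i) = m / i := by
      rw [← Nat.div_div_eq_div_mul]
      congr 1
      omega
    rw [hdiv]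

end Cfsg.Agent.Lib.H12.OrdO
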