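import Mathlib

/-!
# The quadratic extension `E = F[ζ]`, `ζ² + ζ + 1 = 0`, in coordinates (helper12)
-/

set_option autoImplicit false
set_option linter.unusedSectionVars false
set_option linter.unusedVariables false
open Polynomial

namespace Cfsg.Agent.Lib.H12.OrdThree

section basic

variable (F : Type*) [Field F]

/-- the third cyclotomic polynomial -/
noncomputable def phi3 : F[X] := X ^ 2 + X + 1

theorem phi3_monic : (phi3 F).Monic := by
  unfold phi3
  monicity!

theorem phi3_natDegree : (phi3 F).natDegree = 2 := by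
  unfold phi3
  compute_degree!

theorem phi3_degree : (phi3 F).degree = 2 := by
  rw [Polynomial.degree_eq_natDegree (phi3_monic F).ne_zero, phi3_natDegree]
  rfl

/-- the extension -/
abbrev E3 : Type _ := AdjoinRoot (phi3 F)

/-- the root -/
noncomputable def zeta : E3 F := AdjoinRoot.root (phi3 F)

variable {F}

theorem eval₂_phi3 {R : Type*} [CommRing R] (f : F →+* R) (x : R) :
    eval₂ f x (phi3 F) = x ^ 2 + x + 1 := by
  unfold phi3
  simp [eval₂_add, eval₂_pow]

theorem zeta_rel : (zeta F) ^ 2 + zeta F + 1 = 0 := by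
  have h := AdjoinRoot.eval₂_root (phi3 F)
  rw [eval₂_phi3] at h
  exact h

theorem zeta_sq : (zeta F) ^ 2 = -zeta F - 1 := by
  linear_combination zeta_rel (F := F)

theorem zeta_cube : (zeta F) ^ 3 = 1 := by
  have h := zeta_rel (F := F)
  linear_combination (zeta F - 1) * h

theorem zeta_pow_mod (k : ℕ) : (zeta F) ^ k = (zeta F) ^ (k % 3) := by
  conv_lhs => rw [← Nat.div_add_mod k 3]
  rw [pow_add, pow_mul, zeta_cube, one_pow, one_mul]

/-- the embedding of `F` -/
noncomputable abbrev ofF : F →+* E3 F := AdjoinRoot.of (phi3 F)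

/-- the coordinates -/
noncomputable def re : E3 F →ₗ[F] F :=
  (Polynomial.lcoeff F 0).comp (AdjoinRoot.modByMonicHom (phi3_monic F))

noncomputable def im : E3 F →ₗ[F] F :=
  (Polynomial.lcoeff F 1).comp (AdjoinRoot.modByMonicHom (phi3_monic F))

theorem mbm_lin (a b : F) :
    AdjoinRoot.modByMonicHom (phi3_monic F) (ofF a + zeta F * ofF b) = C a + X * C b := by
  have h1 : ofF a + zeta F * ofF b = AdjoinRoot.mk (phi3 F) (C a + X * C b) := by
    rw [map_add, map_mul, AdjoinRoot.mk_X, AdjoinRoot.mk_C]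
    rfl
  rw [h1, AdjoinRoot.modByMonicHom_mk]
  rw [Polynomial.modByMonic_eq_self_iff (phi3_monic F), phi3_degree]
  have h2 : (C a + X * C b).degree ≤ 1 := by
    compute_degree
  exact lt_of_le_of_lt h2 (by norm_num)

theorem re_lin (a b : F) : re (ofF a + zeta F * ofF b) = a := by
  unfold re
  rw [LinearMap.comp_apply, mbm_lin]
  simp [Polynomial.lcoeff_apply]

theorem im_lin (a b : F) : im (ofF a + zeta F * ofF b) = b := by
  unfold im
  rw [LinearMap.comp_apply, mbm_lin]
  simp [Polynomial.lcoeff_apply]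

theorem decomp (z : E3 F) : z = ofF (re z) + zeta F * ofF (im z) := by
  obtain ⟨f, rfl⟩ := AdjoinRoot.mk_surjective (g := phi3 F) z
  have h1 := AdjoinRoot.mk_leftInverse (phi3_monic F) (AdjoinRoot.mk (phi3 F) f)
  set p := AdjoinRoot.modByMonicHom (phi3_monic F) (AdjoinRoot.mk (phi3 F) f) with hp
  have h2 : p.degree ≤ 1 := by
    rw [hp, AdjoinRoot.modByMonicHom_mk]
    have := Polynomial.degree_modByMonic_lt f (phi3_monic F)
    rw [phi3_degree] at this
    exact Order.le_of_lt_succ this
  have h3 := Polynomial.eq_X_add_C_of_degree_le_one h2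
  have hre : re (AdjoinRoot.mk (phi3 F) f) = p.coeff 0 := rfl
  have him : im (AdjoinRoot.mk (phi3 F) f) = p.coeff 1 := rfl
  rw [hre, him]
  conv_lhs => rw [← h1, h3]
  rw [map_add, map_mul, AdjoinRoot.mk_X, AdjoinRoot.mk_C, AdjoinRoot.mk_C]
  rw [add_comm, mul_comm]
  rfl

theorem ext_iff' (z w : E3 F) : z = w ↔ re z = re w ∧ im z = im w := by
  constructor
  · rintro rfl
    exact ⟨rfl, rfl⟩
  · rintro ⟨h1, h2⟩
    rw [decomp z, decomp w, h1, h2]

theorem re_ofF (a : F) : re (ofF a : E3 F) = a := by
  have := re_lin a 0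
  simpa using this

theorem im_ofF (a : F) : im (ofF a : E3 F) = 0 := by
  have := im_lin a 0
  simpa using this

theorem smul_eq_ofF_mul (a : F) (z : E3 F) : a • z = ofF a * z := by
  rw [Algebra.smul_def]
  rfl

/-- multiplication by `ζ` in coordinates -/
theorem zeta_mul_lin (a b : F) :
    zeta F * (ofF a + zeta F * ofF b) = ofF (-b) + zeta F * ofF (a - b) := by
  have h := zeta_sq (F := F)
  rw [map_neg, map_sub]
  linear_combination (ofF b) * h

theorem re_zeta_mul (z : E3 F) : re (zeta F * z) = -im z := by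
  conv_lhs => rw [decomp z, zeta_mul_lin, re_lin]

theorem im_zeta_mul (z : E3 F) : im (zeta F * z) = re z - im z := by
  conv_lhs => rw [decomp z, zeta_mul_lin, im_lin]

theorem re_eq_im (z : E3 F) : re z = im (zeta F * z) + im z := by
  rw [im_zeta_mul]
  ring

end basic

section finite

variable {F : Type*} [Field F] [Fintype F]

theorem three_ne_zero_of_mod (hq : Fintype.card F % 3 = 2) : (3 : F) ≠ 0 := by
  intro h3
  obtain ⟨p, hp⟩ := CharP.exists F
  obtain ⟨n, hpp, hn⟩ := FiniteField.card F p
  have h1 : ((3 : ℕ) : F) = 0 := by exact_mod_cast h3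
  have h2 : p ∣ 3 := (CharP.cast_eq_zero_iff F p 3).1 h1
  have h3' : p = 3 := (Nat.prime_dvd_prime_iff_eq hpp Nat.prime_three).1 h2
  rw [hn, h3'] at hq
  have : 3 ∣ 3 ^ (n : ℕ) := dvd_pow_self 3 n.ne_zero
  omega

theorem phi3_irreducible (hq : Fintype.card F % 3 = 2) : Irreducible (phi3 F) := by
  rw [(phi3_monic F).irreducible_iff_roots_eq_zero_of_degree_le_three
    (by rw [phi3_natDegree]) (by rw [phi3_natDegree]; norm_num)]
  apply Multiset.eq_zero_of_forall_notMem
  intro a ha
  rw [Polynomial.mem_roots (phi3_monic F).ne_zero, Polynomial.IsRoot.def] at ha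
  have h1 : a ^ 2 + a + 1 = 0 := by
    have := ha
    unfold phi3 at this
    simpa using this
  have h2 : a ^ 3 = 1 := by linear_combination (a - 1) * h1
  have h3 : a ≠ 1 := by
    rintro rfl
    apply three_ne_zero_of_mod hq
    linear_combination h1
  have ha0 : a ≠ 0 := by
    rintro rfl
    simp at h2
  have h4 : orderOf a = 3 := orderOf_eq_prime h2 h3
  have h5 : orderOf a ∣ Fintype.card F - 1 :=
    orderOf_dvd_of_pow_eq_one (FiniteField.pow_card_sub_one_eq_one a ha0)
  rw [h4] at h5
  have : 1 ≤ Fintype.card F := Fintype.card_pos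
  omega

/-- the Frobenius `z ↦ z ^ q` in coordinates -/
theorem frob_lin (hq : Fintype.card F % 3 = 2) (a b : F) :
    (ofF a + zeta F * ofF b) ^ Fintype.card F = ofF a + (zeta F) ^ 2 * ofF b := by
  obtain ⟨p, hp⟩ := CharP.exists F
  obtain ⟨n, hpp, hn⟩ := FiniteField.card F p
  have : Fact p.Prime := ⟨hpp⟩
  have hinj : Function.Injective (algebraMap F (E3 F)) :=
    AdjoinRoot.of.injective_of_degree_ne_zero (by rw [phi3_degree]; norm_num)
  have : CharP (E3 F) p := charP_of_injective_algebraMap hinj p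
  have h1 : ∀ c : F, (ofF c : E3 F) ^ Fintype.card F = ofF c := by
    intro c
    rw [← map_pow, FiniteField.pow_card]
  have h2 : (zeta F) ^ Fintype.card F = (zeta F) ^ 2 := by
    rw [zeta_pow_mod, hq]
  conv_lhs => rw [hn, add_pow_char_pow, ← hn, mul_pow, h1, h1, h2]

theorem frob_re (hq : Fintype.card F % 3 = 2) (z : E3 F) :
    re (z ^ Fintype.card F) = re z - im z := by
  conv_lhs => rw [decomp z, frob_lin hq]
  have h : ofF (re z) + (zeta F) ^ 2 * ofF (im z) =
      ofF (re z - im z) + zeta F * ofF (-im z) := by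
    rw [zeta_sq, map_sub, map_neg]
    ring
  rw [h, re_lin]

theorem frob_im (hq : Fintype.card F % 3 = 2) (z : E3 F) :
    im (z ^ Fintype.card F) = -im z := by
  conv_lhs => rw [decomp z, frob_lin hq]
  have h : ofF (re z) + (zeta F) ^ 2 * ofF (im z) =
      ofF (re z - im z) + zeta F * ofF (-im z) := by
    rw [zeta_sq, map_sub, map_neg]
    ring
  rw [h, im_lin]

/-- the `ζ`-coordinate of `w * z ^ q` -/
theorem im_mul_frob (hq : Fintype.card F % 3 = 2) (w z : E3 F) :
    im (w * z ^ Fintype.card F) = im w * re z - re w * im z := by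
  have h1 := decomp w
  have h2 := decomp (z ^ Fintype.card F)
  rw [frob_re hq, frob_im hq] at h2
  have h3 : w * z ^ Fintype.card F =
      ofF (re w * (re z - im z) + im w * im z) +
        zeta F * ofF (im w * re z - re w * im z) := by
    conv_lhs => rw [h1, h2]
    have hz := zeta_sq (F := F)
    simp only [map_add, map_sub, map_mul, map_neg]
    linear_combination (-(ofF (im w) * ofF (im z))) * hz
  rw [h3, im_lin]

/-- the coordinate bijection -/
noncomputable def coordEquiv : E3 F ≃ F × F where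
  toFun z := (re z, im z)
  invFun ab := ofF ab.1 + zeta F * ofF ab.2
  left_inv z := (decomp z).symm
  right_inv ab := by
    show (re (ofF ab.1 + zeta F * ofF ab.2), im (ofF ab.1 + zeta F * ofF ab.2)) = ab
    rw [re_lin, im_lin]

theorem card_E3 : Nat.card (E3 F) = Fintype.card F ^ 2 := by
  rw [Nat.card_congr coordEquiv, Nat.card_prod, Nat.card_eq_fintype_card, sq]

end finite

end Cfsg.Agent.Lib.H12.OrdThree
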