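import Mathlib
import Cfsg.Agent.Lib.H12.OrdThreeA
import Cfsg.Agent.Lib.H2.Unitary3
import Cfsg.Agent.Lib.H2.SpExt
import Cfsg.Agent.Lib.H4.Symp

/-!
# `F^{2m} = E^m`: the symplectic form as the `ζ`-coordinate of the hermitian form (helper12)
-/

set_option autoImplicit false
set_option linter.unusedSectionVars false
set_option linter.unusedVariables false
open Polynomial

namespace Cfsg.Agent.Lib.H12.OrdThree

variable {F : Type*} [Field F] [Fintype F] [hirr : Fact (Irreducible (phi3 F))] {m : ℕ}

noncomputable instance fintypeE3 : Fintype (E3 F) := Fintype.ofEquiv _ coordEquiv.symm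

theorem fintype_card_E3 : Fintype.card (E3 F) = Fintype.card F ^ 2 := by
  rw [← Nat.card_eq_fintype_card, card_E3]

/-- the coordinate isomorphism -/
noncomputable def theta (m : ℕ) : (Fin m ⊕ Fin m → F) ≃ₗ[F] (Fin m → E3 F) where
  toFun v i := ofF (v (Sum.inl i)) + zeta F * ofF (v (Sum.inr i))
  invFun z := Sum.elim (fun i => re (z i)) (fun i => im (z i))
  map_add' u v := by
    ext i
    simp only [Pi.add_apply, map_add]
    ring
  map_smul' a v := by
    ext i
    simp only [Pi.smul_apply, smul_eq_mul, map_mul, RingHom.id_apply, smul_eq_ofF_mul]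
    ring
  left_inv v := by
    ext (i | i)
    · simp only [Sum.elim_inl, re_lin]
    · simp only [Sum.elim_inr, im_lin]
  right_inv z := by
    ext i
    simp only [Sum.elim_inl, Sum.elim_inr]
    exact (decomp (z i)).symm

theorem theta_apply (v : Fin m ⊕ Fin m → F) (i : Fin m) :
    theta m v i = ofF (v (Sum.inl i)) + zeta F * ofF (v (Sum.inr i)) := rfl

theorem re_theta (v : Fin m ⊕ Fin m → F) (i : Fin m) : re (theta m v i) = v (Sum.inl i) := by
  rw [theta_apply, re_lin]

theorem im_theta (v : Fin m ⊕ Fin m → F) (i : Fin m) : im (theta m v i) = v (Sum.inr i) := by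
  rw [theta_apply, im_lin]

/-- the symplectic form is the `ζ`-coordinate of the hermitian form -/
theorem symp_eq_im (hq : Fintype.card F % 3 = 2) (u v : Fin m ⊕ Fin m → F) :
    Cfsg.sympForm m F u v =
      im (Cfsg.hermForm m (E3 F) (Fintype.card F) (theta m u) (theta m v)) := by
  rw [Cfsg.Agent.Lib.H2.Sp.sympForm_eq]
  unfold Cfsg.hermForm
  rw [map_sum]
  apply Finset.sum_congr rfl
  intro i _
  rw [im_mul_frob hq, re_theta, im_theta, re_theta, im_theta]

theorem herm_zeta_left (z z' : Fin m → E3 F) (q : ℕ) :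
    Cfsg.hermForm m (E3 F) q (zeta F • z) z' = zeta F * Cfsg.hermForm m (E3 F) q z z' := by
  unfold Cfsg.hermForm
  rw [Finset.mul_sum]
  apply Finset.sum_congr rfl
  intro i _
  rw [Pi.smul_apply, smul_eq_mul, mul_assoc]

theorem herm_zeta_both (hq : Fintype.card F % 3 = 2) (z z' : Fin m → E3 F) :
    Cfsg.hermForm m (E3 F) (Fintype.card F) (zeta F • z) (zeta F • z') =
      Cfsg.hermForm m (E3 F) (Fintype.card F) z z' := by
  unfold Cfsg.hermForm
  apply Finset.sum_congr rfl
  intro i _
  rw [Pi.smul_apply, Pi.smul_apply, smul_eq_mul, smul_eq_mul, mul_pow]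
  have h2 : (zeta F) ^ Fintype.card F = (zeta F) ^ 2 := by
    rw [zeta_pow_mod, hq]
  rw [h2]
  have h3 := zeta_cube (F := F)
  linear_combination (z i * z' i ^ Fintype.card F) * h3

/-- a `ζ`-linear map preserving the `ζ`-coordinate of the hermitian form preserves the form -/
theorem herm_of_im (q : ℕ) (T : (Fin m → E3 F) → (Fin m → E3 F))
    (hT : ∀ z, T (zeta F • z) = zeta F • T z)
    (him : ∀ z z', im (Cfsg.hermForm m (E3 F) q (T z) (T z')) =
      im (Cfsg.hermForm m (E3 F) q z z')) (z z' : Fin m → E3 F) :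
    Cfsg.hermForm m (E3 F) q (T z) (T z') = Cfsg.hermForm m (E3 F) q z z' := by
  rw [ext_iff']
  refine ⟨?_, him z z'⟩
  rw [re_eq_im, re_eq_im (Cfsg.hermForm m (E3 F) q z z'), ← herm_zeta_left, ← herm_zeta_left,
    ← hT, him, him]

end Cfsg.Agent.Lib.H12.OrdThree
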