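import Mathlib
import Cfsg.Agent.Lib.H12.OrdThreeB

/-!
# The centraliser of the standard element of order three in `Sp_{2m}(F)` is `GU_m` (helper12)
-/

set_option autoImplicit false
set_option linter.unusedSectionVars false
set_option linter.unusedVariables false
open Polynomial Matrix

namespace Cfsg.Agent.Lib.H12.OrdThree

variable {F : Type*} [Field F] [Fintype F] [hirr : Fact (Irreducible (phi3 F))] {m : ℕ}

/-- transport of an `F`-linear endomorphism of `E^m` to a matrix over `F` -/
noncomputable def pull (T : (Fin m → E3 F) →ₗ[F] (Fin m → E3 F)) :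
    Matrix (Fin m ⊕ Fin m) (Fin m ⊕ Fin m) F :=
  LinearMap.toMatrix' ((theta m).symm.toLinearMap ∘ₗ T ∘ₗ (theta m).toLinearMap)

theorem pull_mulVec (T : (Fin m → E3 F) →ₗ[F] (Fin m → E3 F)) (v : Fin m ⊕ Fin m → F) :
    pull T *ᵥ v = (theta m).symm (T (theta m v)) := by
  unfold pull
  rw [LinearMap.toMatrix'_mulVec]
  rfl

theorem theta_pull (T : (Fin m → E3 F) →ₗ[F] (Fin m → E3 F)) (v : Fin m ⊕ Fin m → F) :
    theta m (pull T *ᵥ v) = T (theta m v) := by
  rw [pull_mulVec, LinearEquiv.apply_symm_apply]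

/-- multiplication by `ζ` -/
noncomputable def zetaMul (m : ℕ) : (Fin m → E3 F) →ₗ[F] (Fin m → E3 F) :=
  LinearMap.restrictScalars F ((zeta F) • (LinearMap.id : (Fin m → E3 F) →ₗ[E3 F] (Fin m → E3 F)))

theorem zetaMul_apply (z : Fin m → E3 F) : zetaMul m z = zeta F • z := rfl

/-- the standard element of order three -/
noncomputable def X0 (m : ℕ) : Matrix (Fin m ⊕ Fin m) (Fin m ⊕ Fin m) F := pull (zetaMul m)

theorem theta_X0 (v : Fin m ⊕ Fin m → F) : theta m (X0 m *ᵥ v) = zeta F • theta m v := by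
  unfold X0
  rw [theta_pull, zetaMul_apply]

theorem matrix_ext_mulVec {ι : Type*} [Fintype ι] [DecidableEq ι] {R : Type*} [CommRing R]
    {A B : Matrix ι ι R} (h : ∀ v, A *ᵥ v = B *ᵥ v) : A = B := by
  apply Matrix.toLin'.injective
  apply LinearMap.ext
  intro v
  rw [Matrix.toLin'_apply, Matrix.toLin'_apply, h]

theorem theta_injective : Function.Injective (theta (F := F) m) := (theta m).injective

theorem X0_mem (hq : Fintype.card F % 3 = 2) : X0 (F := F) m ∈ Matrix.symplecticGroup (Fin m) F := by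
  rw [Cfsg.Agent.Lib.H4.mem_symplecticGroup_iff_sympForm]
  intro u v
  rw [symp_eq_im hq, symp_eq_im hq, theta_X0, theta_X0, herm_zeta_both hq]

theorem X0_rel : X0 (F := F) m * X0 m + X0 m + 1 = 0 := by
  apply matrix_ext_mulVec
  intro v
  apply theta_injective
  rw [Matrix.add_mulVec, Matrix.add_mulVec, ← Matrix.mulVec_mulVec, map_add, map_add, theta_X0,
    theta_X0, Matrix.one_mulVec, Matrix.zero_mulVec, map_zero]
  have h := zeta_rel (F := F)
  ext i
  simp only [Pi.add_apply, Pi.smul_apply, smul_eq_mul, Pi.zero_apply]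
  linear_combination (theta m v i) * h

theorem X0_cube : X0 (F := F) m ^ 3 = 1 := by
  have h := X0_rel (F := F) (m := m)
  have e : X0 (F := F) m ^ 3 - 1 = (X0 m - 1) * (X0 m * X0 m + X0 m + 1) := by
    noncomm_ring
  rw [h, mul_zero, sub_eq_zero] at e
  exact e

/-- the first model of the centraliser -/
abbrev S1 (m : ℕ) (F : Type*) [Field F] [Fintype F] [Fact (Irreducible (phi3 F))] : Type _ :=
  {g : Matrix (Fin m ⊕ Fin m) (Fin m ⊕ Fin m) F //
    g ∈ Matrix.symplecticGroup (Fin m) F ∧ g * X0 m = X0 m * g}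

/-- the second model: matrices over `E` preserving the hermitian form -/
abbrev S2 (m : ℕ) (F : Type*) [Field F] [Fintype F] [Fact (Irreducible (phi3 F))] : Type _ :=
  {M : Matrix (Fin m) (Fin m) (E3 F) // ∀ u v,
    Cfsg.hermForm m (E3 F) (Fintype.card F) (M *ᵥ u) (M *ᵥ v) =
      Cfsg.hermForm m (E3 F) (Fintype.card F) u v}

/-- the `F`-linear map on `E^m` attached to a matrix over `F` -/
noncomputable def push (g : Matrix (Fin m ⊕ Fin m) (Fin m ⊕ Fin m) F) :
    (Fin m → E3 F) →ₗ[F] (Fin m → E3 F) :=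
  (theta m).toLinearMap ∘ₗ Matrix.toLin' g ∘ₗ (theta m).symm.toLinearMap

theorem push_apply (g : Matrix (Fin m ⊕ Fin m) (Fin m ⊕ Fin m) F) (z : Fin m → E3 F) :
    push g z = theta m (g *ᵥ (theta m).symm z) := rfl

theorem push_theta (g : Matrix (Fin m ⊕ Fin m) (Fin m ⊕ Fin m) F) (v : Fin m ⊕ Fin m → F) :
    push g (theta m v) = theta m (g *ᵥ v) := by
  rw [push_apply, LinearEquiv.symm_apply_apply]

theorem push_zeta {g : Matrix (Fin m ⊕ Fin m) (Fin m ⊕ Fin m) F} (hg : g * X0 m = X0 m * g)
    (z : Fin m → E3 F) : push g (zeta F • z) = zeta F • push g z := by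
  obtain ⟨v, rfl⟩ := (theta m).surjective z
  rw [← theta_X0, push_theta, push_theta, Matrix.mulVec_mulVec, hg, ← Matrix.mulVec_mulVec,
    theta_X0]

/-- the `E`-linear map attached to a matrix commuting with `X0` -/
noncomputable def pushE (g : Matrix (Fin m ⊕ Fin m) (Fin m ⊕ Fin m) F)
    (hg : g * X0 m = X0 m * g) : (Fin m → E3 F) →ₗ[E3 F] (Fin m → E3 F) where
  toFun := push g
  map_add' := (push g).map_add
  map_smul' c z := by
    rw [RingHom.id_apply]
    have hc := decomp c
    have e1 : c • z = (re c) • z + (im c) • (zeta F • z) := by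
      conv_lhs => rw [hc]
      ext i
      simp only [Pi.add_apply, Pi.smul_apply, smul_eq_mul, smul_eq_ofF_mul]
      ring
    have e2 : c • push g z = (re c) • push g z + (im c) • (zeta F • push g z) := by
      conv_lhs => rw [hc]
      ext i
      simp only [Pi.add_apply, Pi.smul_apply, smul_eq_mul, smul_eq_ofF_mul]
      ring
    rw [e1, e2, map_add, map_smul, map_smul, push_zeta hg]

theorem pushE_apply (g : Matrix (Fin m ⊕ Fin m) (Fin m ⊕ Fin m) F)
    (hg : g * X0 m = X0 m * g) (z : Fin m → E3 F) : pushE g hg z = push g z := rfl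

/-- the forward map -/
noncomputable def fwd (hq : Fintype.card F % 3 = 2) (g : S1 m F) : S2 m F :=
  ⟨LinearMap.toMatrix' (pushE g.1 g.2.2), by
    intro u v
    rw [LinearMap.toMatrix'_mulVec, LinearMap.toMatrix'_mulVec, pushE_apply, pushE_apply]
    apply herm_of_im _ (fun z => push g.1 z) (push_zeta g.2.2)
    intro z z'
    obtain ⟨a, rfl⟩ := (theta m).surjective z
    obtain ⟨b, rfl⟩ := (theta m).surjective z'
    rw [push_theta, push_theta, ← symp_eq_im hq, ← symp_eq_im hq]
    exact (Cfsg.Agent.Lib.H4.mem_symplecticGroup_iff_sympForm m g.1).1 g.2.1 a b⟩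

theorem fwd_mulVec (hq : Fintype.card F % 3 = 2) (g : S1 m F) (z : Fin m → E3 F) :
    (fwd hq g).1 *ᵥ z = push g.1 z := by
  unfold fwd
  rw [LinearMap.toMatrix'_mulVec, pushE_apply]

/-- the `F`-linear map of a matrix over `E` -/
noncomputable def linE (M : Matrix (Fin m) (Fin m) (E3 F)) :
    (Fin m → E3 F) →ₗ[F] (Fin m → E3 F) :=
  LinearMap.restrictScalars F (Matrix.toLin' M)

theorem linE_apply (M : Matrix (Fin m) (Fin m) (E3 F)) (z : Fin m → E3 F) :
    linE M z = M *ᵥ z := rfl

/-- the backward map -/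
noncomputable def bwd (hq : Fintype.card F % 3 = 2) (M : S2 m F) : S1 m F :=
  ⟨pull (linE M.1), by
    constructor
    · rw [Cfsg.Agent.Lib.H4.mem_symplecticGroup_iff_sympForm]
      intro u v
      rw [symp_eq_im hq, symp_eq_im hq, theta_pull, theta_pull, linE_apply, linE_apply, M.2]
    · apply matrix_ext_mulVec
      intro v
      apply theta_injective
      rw [← Matrix.mulVec_mulVec, ← Matrix.mulVec_mulVec, theta_pull, theta_X0, theta_X0,
        theta_pull, linE_apply, linE_apply, Matrix.mulVec_smul]⟩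

theorem bwd_mulVec (hq : Fintype.card F % 3 = 2) (M : S2 m F) (v : Fin m ⊕ Fin m → F) :
    theta m ((bwd hq M).1 *ᵥ v) = M.1 *ᵥ theta m v := by
  unfold bwd
  rw [theta_pull, linE_apply]

/-- the two models are in bijection -/
noncomputable def S1equivS2 (hq : Fintype.card F % 3 = 2) : S1 m F ≃ S2 m F where
  toFun := fwd hq
  invFun := bwd hq
  left_inv g := by
    apply Subtype.ext
    apply matrix_ext_mulVec
    intro v
    apply theta_injective
    rw [bwd_mulVec, fwd_mulVec, push_theta]
  right_inv M := by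
    apply Subtype.ext
    apply matrix_ext_mulVec
    intro z
    obtain ⟨v, rfl⟩ := (theta m).surjective z
    rw [fwd_mulVec, push_theta, bwd_mulVec]

end Cfsg.Agent.Lib.H12.OrdThree
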