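import Mathlib
import Cfsg.Agent.Lib.H12.OrdThreeC
import Cfsg.Agent.Lib.H12.SpSemiJ

/-!
# The centraliser of a fixed-point-free element of order three in `Sp_{2m}(q)`, `q ≡ 2 (mod 3)`
(helper12)
-/

set_option autoImplicit false
set_option linter.unusedSectionVars false
set_option linter.unusedVariables false
open Polynomial Matrix

namespace Cfsg.Agent.Lib.H12.OrdThree

section general

theorem card_centralizer_of_isConj {G : Type*} [Group G] {g h : G} (hc : IsConj g h) :
    Nat.card (Subgroup.centralizer ({g} : Set G)) = Nat.card (Subgroup.centralizer ({h} : Set G)) := by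
  obtain ⟨c, rfl⟩ := isConj_iff.1 hc
  refine Nat.card_congr ⟨fun k => ⟨c * k.1 * c⁻¹, ?_⟩, fun k => ⟨c⁻¹ * k.1 * c, ?_⟩, ?_, ?_⟩
  · rw [Subgroup.mem_centralizer_iff]
    intro y hy
    rw [Set.mem_singleton_iff] at hy
    have hk := (Subgroup.mem_centralizer_iff.1 k.2) g rfl
    rw [hy]
    calc c * g * c⁻¹ * (c * k.1 * c⁻¹) = c * (g * k.1) * c⁻¹ := by group
      _ = c * (k.1 * g) * c⁻¹ := by rw [hk]
      _ = c * k.1 * c⁻¹ * (c * g * c⁻¹) := by group
  · rw [Subgroup.mem_centralizer_iff]
    intro y hy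
    rw [Set.mem_singleton_iff] at hy
    have hk := (Subgroup.mem_centralizer_iff.1 k.2) (c * g * c⁻¹) rfl
    rw [hy]
    calc g * (c⁻¹ * k.1 * c) = c⁻¹ * (c * g * c⁻¹ * k.1) * c := by group
      _ = c⁻¹ * (k.1 * (c * g * c⁻¹)) * c := by rw [hk]
      _ = c⁻¹ * k.1 * c * g := by group
  · intro k
    apply Subtype.ext
    show c⁻¹ * (c * k.1 * c⁻¹) * c = k.1
    group
  · intro k
    apply Subtype.ext
    show c * (c⁻¹ * k.1 * c) * c⁻¹ = k.1
    group

variable {F : Type*} [Field F]

open UniqueFactorizationMonoid in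
theorem eq_pow_of_irreducible_factors (π : F[X]) (hπ : Irreducible π) (hm : π.Monic)
    (P : F[X]) (hP : P.Monic) (h : ∀ ρ, Irreducible ρ → ρ ∣ P → Associated ρ π) :
    ∃ k, P = π ^ k := by
  classical
  have hP0 : P ≠ 0 := hP.ne_zero
  have h1 : ∀ ρ ∈ normalizedFactors P, ρ = π := by
    intro ρ hρ
    have hirr := irreducible_of_normalized_factor ρ hρ
    have hdvd := dvd_of_mem_normalizedFactors hρ
    have hass := h ρ hirr hdvd
    have h2 : normalize ρ = ρ := normalize_normalized_factor ρ hρ
    rw [← h2, ← hm.normalize_eq_self]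
    exact normalize_eq_normalize hass.dvd hass.symm.dvd
  have h2 : normalizedFactors P = Multiset.replicate (Multiset.card (normalizedFactors P)) π :=
    Multiset.eq_replicate.2 ⟨rfl, h1⟩
  have h3 := prod_normalizedFactors hP0
  rw [h2, Multiset.prod_replicate] at h3
  exact ⟨_, (Polynomial.eq_of_monic_of_associated (hm.pow _) hP h3).symm⟩

universe u in
theorem charpoly_eq_pow_of_aeval_eq_zero {F : Type u} [Field F] {V : Type u} [AddCommGroup V]
    [Module F V] [FiniteDimensional F V]
    (f : Module.End F V) (hf : f.IsSemisimple) (π : F[X]) (hπ : Irreducible π) (hm : π.Monic)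
    (h0 : aeval f π = 0) : ∃ k, f.charpoly = π ^ k := by
  apply eq_pow_of_irreducible_factors π hπ hm _ f.charpoly_monic
  intro ρ hρ hdvd
  obtain ⟨w, hw0, hw⟩ := Semi.exists_ne_zero_of_dvd_charpoly _ V f rfl hf ρ hρ hdvd
  by_contra hna
  have hcop : IsCoprime ρ π := by
    rw [hρ.coprime_iff_not_dvd]
    intro hd
    exact hna (hρ.associated_of_dvd hπ hd)
  obtain ⟨a, b, hab⟩ := hcop
  apply hw0
  have h1 : aeval f (a * ρ + b * π) w = w := by
    rw [hab, map_one, Module.End.one_apply]
  rw [map_add, map_mul, map_mul, h0, mul_zero, add_zero, Module.End.mul_apply, hw, map_zero] at h1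
  exact h1.symm

end general

section main

universe u
variable {F : Type u} [Field F] [Fintype F] {m : ℕ}

/-- the characteristic polynomial of a matrix annihilated by `phi3` -/
theorem charpoly_of_rel (hq : Fintype.card F % 3 = 2)
    (A : Matrix (Fin m ⊕ Fin m) (Fin m ⊕ Fin m) F) (hA : A * A + A + 1 = 0) :
    A.charpoly = (phi3 F) ^ m := by
  have hirr := phi3_irreducible hq
  have hcube : A ^ 3 = 1 := by
    have e : A ^ 3 - 1 = (A - 1) * (A * A + A + 1) := by noncomm_ring
    rw [hA, mul_zero, sub_eq_zero] at e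
    exact e
  have hss : Module.End.IsSemisimple (Matrix.toLin' A) :=
    Semi.isSemisimple_toLin'_of_pow_eq_one A 3 (by exact_mod_cast three_ne_zero_of_mod hq) hcube
  have h0 : aeval (Matrix.toLin' A) (phi3 F) = 0 := by
    unfold phi3
    rw [map_add, map_add, map_pow, aeval_X, map_one, sq]
    have := congrArg Matrix.toLin' hA
    rw [map_add, map_add, Matrix.toLin'_mul, Matrix.toLin'_one, map_zero] at this
    exact this
  obtain ⟨k, hk⟩ := charpoly_eq_pow_of_aeval_eq_zero (Matrix.toLin' A) hss (phi3 F) hirr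
    (phi3_monic F) h0
  rw [Matrix.charpoly_toLin'] at hk
  have hdeg := congrArg Polynomial.natDegree hk
  rw [Matrix.charpoly_natDegree_eq_dim, Polynomial.natDegree_pow, phi3_natDegree,
    Fintype.card_sum, Fintype.card_fin] at hdeg
  have : k = m := by omega
  rw [hk, this]

variable [hirr : Fact (Irreducible (phi3 F))]

/-- the standard element as a group element -/
noncomputable def x0 (hq : Fintype.card F % 3 = 2) (m : ℕ) : ↥(Matrix.symplecticGroup (Fin m) F) :=
  ⟨X0 m, X0_mem hq⟩

theorem isUnit_of_preserves (q : ℕ) (hq0 : q ≠ 0) (M : Matrix (Fin m) (Fin m) (E3 F))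
    (hM : ∀ u v, Cfsg.hermForm m (E3 F) q (M *ᵥ u) (M *ᵥ v) = Cfsg.hermForm m (E3 F) q u v) :
    IsUnit M := by
  classical
  rw [← Matrix.mulVec_injective_iff_isUnit]
  intro u v huv
  have h1 : M *ᵥ (u - v) = 0 := by rw [Matrix.mulVec_sub, huv, sub_self]
  have h2 : ∀ w, Cfsg.hermForm m (E3 F) q (u - v) w = 0 := by
    intro w
    rw [← hM, h1]
    unfold Cfsg.hermForm
    simp
  have h3 : u - v = 0 := by
    ext i
    have := h2 (Pi.single i 1)
    unfold Cfsg.hermForm at this
    rw [Finset.sum_eq_single i] at this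
    · simpa using this
    · intro j _ hji
      rw [Pi.single_eq_of_ne hji, zero_pow hq0, mul_zero]
    · intro hi
      exact absurd (Finset.mem_univ i) hi
  exact sub_eq_zero.1 h3

/-- `GU_m(E)` is the second model -/
noncomputable def equivGU : ↥(Cfsg.GU m (E3 F) (Fintype.card F)) ≃ S2 m F where
  toFun g := ⟨((g.1 : GL (Fin m) (E3 F)) : Matrix (Fin m) (Fin m) (E3 F)), g.2⟩
  invFun M := ⟨(isUnit_of_preserves _ Fintype.card_ne_zero M.1 M.2).unit, by
    intro u v
    exact M.2 u v⟩
  left_inv g := by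
    apply Subtype.ext
    apply Units.ext
    rfl
  right_inv M := by
    apply Subtype.ext
    rfl

/-- the centraliser of the standard element is the first model -/
noncomputable def equivCent (hq : Fintype.card F % 3 = 2) :
    ↥(Subgroup.centralizer ({x0 hq m} : Set ↥(Matrix.symplecticGroup (Fin m) F))) ≃ S1 m F where
  toFun k := ⟨k.1.1, k.1.2, by
    have h := (Subgroup.mem_centralizer_iff.1 k.2) (x0 hq m) rfl
    have := congrArg Subtype.val h
    exact this.symm⟩
  invFun g := ⟨⟨g.1, g.2.1⟩, by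
    rw [Subgroup.mem_centralizer_iff]
    intro y hy
    rw [Set.mem_singleton_iff] at hy
    rw [hy]
    apply Subtype.ext
    exact g.2.2.symm⟩
  left_inv k := rfl
  right_inv g := rfl

theorem card_centralizer_x0 (hq : Fintype.card F % 3 = 2) :
    Nat.card ↥(Subgroup.centralizer ({x0 hq m} : Set ↥(Matrix.symplecticGroup (Fin m) F))) =
      Cfsg.Agent.Lib.H2.Unitary.ordGU (Fintype.card F) m := by
  rw [Nat.card_congr (equivCent hq), Nat.card_congr (S1equivS2 hq),
    ← Nat.card_congr (equivGU (F := F) (m := m)),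
    Cfsg.Agent.Lib.H2.Unitary.card_GU fintype_card_E3 m]

end main

end Cfsg.Agent.Lib.H12.OrdThree
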