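import Mathlib
import Cfsg.Agent.Lib.H12.OrdThreeD

/-!
# The centraliser order of a fixed-point-free element of order three in `Sp_{2m}(q)` (helper12)
-/

set_option autoImplicit false
set_option linter.unusedSectionVars false
set_option linter.unusedVariables false
open Polynomial Matrix

namespace Cfsg.Agent.Lib.H12.OrdThree

universe u
variable {F : Type u} [Field F] [Fintype F] {m : ℕ}

theorem cast_ordGU (q m : ℕ) (hq : 1 ≤ q) :
    ((Cfsg.Agent.Lib.H2.Unitary.ordGU q m : ℕ) : ℤ) =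
      (q : ℤ) ^ (m * (m - 1) / 2) *
        ∏ i : Fin m, ((q : ℤ) ^ ((i : ℕ) + 1) - (-1) ^ ((i : ℕ) + 1)) := by
  unfold Cfsg.Agent.Lib.H2.Unitary.ordGU
  rw [Nat.cast_mul, Nat.cast_pow, Nat.cast_prod,
    Fin.prod_univ_eq_prod_range (fun i => ((q : ℤ) ^ (i + 1) - (-1) ^ (i + 1))) m]
  congr 1
  apply Finset.prod_congr rfl
  intro i _
  have h1 : 1 ≤ q ^ (i + 1) := Nat.one_le_pow _ _ hq
  by_cases he : Even i
  · rw [if_pos he]
    have ho : Odd (i + 1) := he.add_one
    rw [ho.neg_one_pow]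
    push_cast
    ring
  · rw [if_neg he]
    have ho : Even (i + 1) := by
      rw [Nat.even_add_one]
      exact he
    rw [ho.neg_one_pow, Nat.cast_sub h1]
    push_cast
    ring

theorem card_centralizer (hq : Fintype.card F % 3 = 2)
    (x : ↥(Matrix.symplecticGroup (Fin m) F)) (hx3 : x ^ 3 = 1)
    (hfpf : IsUnit ((x : Matrix (Fin m ⊕ Fin m) (Fin m ⊕ Fin m) F) - 1)) :
    Nat.card ↥(Subgroup.centralizer ({x} : Set ↥(Matrix.symplecticGroup (Fin m) F))) =
      Cfsg.Agent.Lib.H2.Unitary.ordGU (Fintype.card F) m := by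
  have : Fact (Irreducible (phi3 F)) := ⟨phi3_irreducible hq⟩
  set A := (x : Matrix (Fin m ⊕ Fin m) (Fin m ⊕ Fin m) F) with hA
  have hA3 : A ^ 3 = 1 := by
    have := congrArg Subtype.val hx3
    simpa using this
  have hrel : A * A + A + 1 = 0 := by
    have e : (A - 1) * (A * A + A + 1) = A ^ 3 - 1 := by noncomm_ring
    rw [hA3, sub_self] at e
    obtain ⟨u, hu⟩ := hfpf
    have h2 : (u⁻¹ : (Matrix (Fin m ⊕ Fin m) (Fin m ⊕ Fin m) F)ˣ).1 * ((A - 1) * (A * A + A + 1)) = 0 := by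
      rw [e, mul_zero]
    rw [← mul_assoc, ← hu, Units.inv_mul, one_mul] at h2
    exact h2
  have h3F : ((3 : ℕ) : F) ≠ 0 := by exact_mod_cast three_ne_zero_of_mod hq
  have hss : Module.End.IsSemisimple (Matrix.toLin' A) :=
    Semi.isSemisimple_toLin'_of_pow_eq_one A 3 h3F hA3
  have hss0 : Module.End.IsSemisimple (Matrix.toLin' (X0 (F := F) m)) :=
    Semi.isSemisimple_toLin'_of_pow_eq_one _ 3 h3F X0_cube
  have hcp : A.charpoly = (X0 (F := F) m).charpoly := by
    rw [charpoly_of_rel hq A hrel, charpoly_of_rel hq _ X0_rel]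
  have hconj : IsConj x (x0 hq m) := SpSemi.isConj_Sp_of_semisimple m x (x0 hq m) hss hss0 hcp
  rw [card_centralizer_of_isConj hconj, card_centralizer_x0 hq]

end Cfsg.Agent.Lib.H12.OrdThree
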