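import Mathlib
import Cfsg.Agent.Lib.H12.RootCntA

/-!
# Generalities for counting classes in a quotient by the centre; rotation orbits of tuples
(helper12)
-/

set_option autoImplicit false

namespace Cfsg.Agent.Lib.H12.PGUOrd

open Finset

theorem card_eq_of_surj {A B C : Type*} (f : A → B) (g : A → C) (hf : Function.Surjective f)
    (hg : Function.Surjective g) (h : ∀ a a', f a = f a' ↔ g a = g a') :
    Nat.card B = Nat.card C := by
  apply Nat.card_congr
  refine Equiv.ofBijective (fun b => g (Function.surjInv hf b)) ⟨?_, ?_⟩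
  · intro b b' hbb
    have := (h _ _).mpr hbb
    rw [Function.surjInv_eq hf, Function.surjInv_eq hf] at this
    exact this
  · intro c
    obtain ⟨a, rfl⟩ := hg c
    exact ⟨f a, (h _ _).mp (Function.surjInv_eq hf (f a))⟩

section quot

variable {G : Type*} [Group G]

theorem orderOf_mk_eq_prime_iff (N : Subgroup G) [N.Normal] {r : ℕ} (hr : r.Prime) (x : G) :
    orderOf (QuotientGroup.mk x : G ⧸ N) = r ↔ x ∉ N ∧ x ^ r ∈ N := by
  constructor
  · intro h
    constructor
    · intro hx
      have : (QuotientGroup.mk x : G ⧸ N) = 1 := (QuotientGroup.eq_one_iff x).mpr hx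
      rw [this, orderOf_one] at h
      exact hr.ne_one h.symm
    · rw [← QuotientGroup.eq_one_iff, QuotientGroup.mk_pow, ← h, pow_orderOf_eq_one]
  · rintro ⟨h1, h2⟩
    have : Fact r.Prime := ⟨hr⟩
    apply orderOf_eq_prime
    · rw [← QuotientGroup.mk_pow, QuotientGroup.eq_one_iff]
      exact h2
    · rw [Ne, QuotientGroup.eq_one_iff]
      exact h1

theorem isConj_mk_iff (N : Subgroup G) [N.Normal] (x y : G) :
    IsConj (QuotientGroup.mk x : G ⧸ N) (QuotientGroup.mk y) ↔
      ∃ g : G, ∃ z ∈ N, g * x * g⁻¹ = y * z := by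
  rw [isConj_iff]
  constructor
  · rintro ⟨c, hc⟩
    obtain ⟨g, rfl⟩ := QuotientGroup.mk_surjective c
    rw [← QuotientGroup.mk_inv, ← QuotientGroup.mk_mul, ← QuotientGroup.mk_mul,
      QuotientGroup.eq] at hc
    refine ⟨g, y⁻¹ * (g * x * g⁻¹), ?_, by group⟩
    have := N.inv_mem hc
    rw [mul_inv_rev, inv_inv] at this
    exact this
  · rintro ⟨g, z, hz, h⟩
    refine ⟨QuotientGroup.mk g, ?_⟩
    rw [← QuotientGroup.mk_inv, ← QuotientGroup.mk_mul, ← QuotientGroup.mk_mul, h,
      QuotientGroup.mk_mul, (QuotientGroup.eq_one_iff z).mpr hz, mul_one]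

end quot

end Cfsg.Agent.Lib.H12.PGUOrd
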