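import Mathlib
import Cfsg.Agent.Lib.H12.PGUOrdA

/-!
# Rotation orbits on tuples of multiplicities (helper12)
-/

set_option autoImplicit false

namespace Cfsg.Agent.Lib.H12.PGUOrd

open Finset

variable (r : ℕ) [Fact r.Prime] (n : ℕ)

/-- non-concentrated tuples of multiplicities summing to `n` -/
@[ext]
structure Tup where
  /-- the multiplicities -/
  val : ZMod r → ℕ
  sum : ∑ j, val j = n
  ne : ∀ j, val j ≠ n

theorem finite_sum_eq : Finite {a : ZMod r → ℕ // ∑ j, a j = n} :=
  Finite.of_equiv _ (Sym.equivNatSumOfFintype (ZMod r) n)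

instance finite_Tup : Finite (Tup r n) := by
  have := finite_sum_eq r n
  exact Finite.of_injective (fun a : Tup r n => (⟨a.val, a.sum⟩ : {a : ZMod r → ℕ // ∑ j, a j = n}))
    (fun a b hab => by
      apply Tup.ext
      exact congrArg Subtype.val hab)

/-- the rotation action -/
instance instAddActionTup : AddAction (ZMod r) (Tup r n) where
  vadd k a := ⟨fun j => a.val (j + k),
    (Fintype.sum_equiv (Equiv.addRight k) _ _ (fun _ => rfl)).trans a.sum, fun _ => a.ne _⟩
  zero_vadd a := by
    apply Tup.ext
    funext j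
    show a.val (j + 0) = a.val j
    rw [add_zero]
  add_vadd k l a := by
    apply Tup.ext
    funext j
    show a.val (j + (k + l)) = a.val (j + k + l)
    rw [add_assoc]

theorem vadd_val (k : ZMod r) (a : Tup r n) (j : ZMod r) : (k +ᵥ a).val j = a.val (j + k) := rfl

variable {r n}

theorem const_of_fixed (k : ZMod r) (hk : k ≠ 0) (a : Tup r n) (ha : k +ᵥ a = a) (j : ZMod r) :
    a.val j = a.val 0 := by
  have h1 : ∀ m : ℕ, ∀ j, a.val (j + m * k) = a.val j := by
    intro m
    induction m with
    | zero => intro j; simp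
    | succ m ih =>
      intro j
      have h2 := congrArg (fun b : Tup r n => b.val (j + m * k)) ha
      simp only [vadd_val] at h2
      rw [← ih j, ← h2]
      congr 1
      push_cast
      ring
  have hu : IsUnit k := by
    rw [isUnit_iff_ne_zero]
    exact hk
  obtain ⟨u, rfl⟩ := hu
  have h3 := h1 ((j * (u⁻¹ : (ZMod r)ˣ)).val) 0
  rw [ZMod.natCast_zmod_val, zero_add, mul_assoc, Units.inv_mul, mul_one] at h3
  exact h3

theorem sum_of_fixed (k : ZMod r) (hk : k ≠ 0) (a : Tup r n) (ha : k +ᵥ a = a) :
    n = r * a.val 0 := by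
  have h1 : ∑ j : ZMod r, a.val j = r * a.val 0 := by
    rw [Finset.sum_congr rfl (fun j _ => const_of_fixed k hk a ha j), Finset.sum_const,
      Finset.card_univ, ZMod.card, smul_eq_mul]
  exact a.sum.symm.trans h1

theorem card_fixed (hn : 1 ≤ n) (k : ZMod r) (hk : k ≠ 0) :
    Nat.card (AddAction.fixedBy (Tup r n) k) = if r ∣ n then 1 else 0 := by
  have hr : r.Prime := Fact.out
  split_ifs with hd
  · obtain ⟨c, hc⟩ := hd
    have hc0 : c ≠ n := by
      intro h
      rw [h] at hc
      have : 2 ≤ r := hr.two_le
      nlinarith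
    let a₀ : Tup r n := ⟨fun _ => c, by
        rw [Finset.sum_const, Finset.card_univ, ZMod.card, smul_eq_mul, hc], fun _ => hc0⟩
    have hmem : a₀ ∈ AddAction.fixedBy (Tup r n) k := by
      rw [AddAction.mem_fixedBy]
      rfl
    rw [Nat.card_eq_one_iff_unique]
    refine ⟨⟨?_⟩, ⟨⟨_, hmem⟩⟩⟩
    rintro ⟨a, ha⟩ ⟨b, hb⟩
    rw [AddAction.mem_fixedBy] at ha hb
    apply Subtype.ext
    apply Tup.ext
    funext j
    rw [const_of_fixed k hk a ha j, const_of_fixed k hk b hb j]
    have h3 : r * a.val 0 = r * b.val 0 := by
      rw [← sum_of_fixed k hk a ha, ← sum_of_fixed k hk b hb]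
    exact Nat.eq_of_mul_eq_mul_left hr.pos h3
  · rw [Nat.card_eq_zero]
    left
    constructor
    rintro ⟨a, ha⟩
    rw [AddAction.mem_fixedBy] at ha
    exact hd ⟨a.val 0, sum_of_fixed k hk a ha⟩

theorem card_Tup (hn : 1 ≤ n) : Nat.card (Tup r n) + r = (n + r - 1).choose (r - 1) := by
  classical
  have hr : r.Prime := Fact.out
  have h1 := Cfsg.Agent.Lib.H12.RootCnt.card_fun_sum_eq (ZMod r) n
  rw [ZMod.card] at h1
  have h2 : (r + n - 1).choose n = (n + r - 1).choose (r - 1) := by
    rw [show r + n - 1 = n + r - 1 by omega]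
    apply Nat.choose_symm_of_eq_add
    have := hr.pos
    omega
  rw [← h2, ← h1]
  have := finite_sum_eq r n
  -- split off the concentrated tuples
  have e : {a : ZMod r → ℕ // ∑ j, a j = n} ≃ Tup r n ⊕ ZMod r :=
    { toFun := fun a =>
        if h : ∃ j, a.1 j = n then Sum.inr h.choose else Sum.inl ⟨a.1, a.2, fun j hj => h ⟨j, hj⟩⟩
      invFun := fun s => match s with
        | Sum.inl a => ⟨a.val, a.sum⟩
        | Sum.inr j => ⟨fun i => if i = j then n else 0, by simp⟩
      left_inv := by
        intro a
        by_cases h : ∃ j, a.1 j = n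
        · simp only [dif_pos h]
          apply Subtype.ext
          funext i
          have hj := h.choose_spec
          show (if i = h.choose then n else 0) = a.1 i
          by_cases hi : i = h.choose
          · rw [if_pos hi, hi, hj]
          · rw [if_neg hi]
            have h3 : a.1 i + a.1 h.choose ≤ ∑ j, a.1 j := by
              rw [← Finset.sum_pair hi]
              exact Finset.sum_le_sum_of_subset (Finset.subset_univ _)
            rw [a.2, hj] at h3
            omega
        · simp only [dif_neg h]
      right_inv := by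
        intro s
        rcases s with a | j
        · have h : ¬ ∃ j, a.val j = n := fun ⟨j, hj⟩ => a.ne j hj
          simp only [dif_neg h]
        · have h : ∃ i, (fun i => if i = j then n else 0) i = n := ⟨j, by simp⟩
          simp only
          rw [dif_pos h]
          congr 1
          have hc := h.choose_spec
          simp only at hc
          by_contra hne
          rw [if_neg hne] at hc
          omega }
  rw [Nat.card_congr e, Nat.card_sum, Nat.card_eq_fintype_card (α := ZMod r), ZMod.card]

open Classical in
/-- Burnside count of the rotation orbits -/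
theorem card_orbits_mul (hn : 1 ≤ n) :
    Nat.card (Quotient (AddAction.orbitRel (ZMod r) (Tup r n))) * r + r =
      (n + r - 1).choose (r - 1) + (r - 1) * (if r ∣ n then 1 else 0) := by
  have hr : r.Prime := Fact.out
  have : Fintype (Tup r n) := Fintype.ofFinite _
  have : Fintype (Quotient (AddAction.orbitRel (ZMod r) (Tup r n))) := Fintype.ofFinite _
  have hB := AddAction.sum_card_fixedBy_eq_card_orbits_mul_card_addGroup (ZMod r) (Tup r n)
  rw [ZMod.card, ← Nat.card_eq_fintype_card] at hB
  rw [← hB, ← card_Tup hn]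
  rw [← Finset.add_sum_erase Finset.univ _ (Finset.mem_univ (0 : ZMod r))]
  have h0 : Fintype.card (AddAction.fixedBy (Tup r n) (0 : ZMod r)) = Nat.card (Tup r n) := by
    rw [← Nat.card_eq_fintype_card]
    apply Nat.card_congr
    refine (Equiv.subtypeUnivEquiv ?_)
    intro a
    rw [AddAction.mem_fixedBy, zero_vadd]
  rw [h0]
  rw [Finset.sum_congr rfl (fun k hk => by
    rw [← Nat.card_eq_fintype_card, card_fixed hn k (Finset.ne_of_mem_erase hk)])]
  rw [Finset.sum_const, Finset.card_erase_of_mem (Finset.mem_univ _), Finset.card_univ, ZMod.card,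
    smul_eq_mul]
  ring

end Cfsg.Agent.Lib.H12.PGUOrd
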