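import Mathlib
import Cfsg.Agent.Lib.H12.GUOrdB
import Cfsg.Agent.Lib.H12.RootCntD
import Cfsg.Agent.S0783

/-!
# Scalars, diagonal elements and the centre of `GU_n(q)` (helper12)
-/

set_option autoImplicit false
open Polynomial

namespace Cfsg.Agent.Lib.H12.PGUOrd

open Cfsg.Agent.Lib.H12.Semi Cfsg.Agent.Lib.H12.USemi Cfsg.Agent.Lib.H12.SpOrd
  Cfsg.Agent.Lib.H12.GUOrd Cfsg.Agent.S0783

universe u
variable {F : Type u} [Field F] {q n : ℕ}

/-- diagonal elements of `GU_n(q)` -/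
def dg (d : Fin n → ↥(mu F q)) : ↥(Cfsg.GU n F q) :=
  ⟨diagGL (fun i => (d i : Fˣ)), diagGL_mem _ (fun i => (mem_mu' _).mp (d i).2)⟩

theorem mat_dg (d : Fin n → ↥(mu F q)) :
    mat (dg d) = Matrix.diagonal (fun i => (((d i : Fˣ)) : F)) := rfl

theorem dg_mul (d d' : Fin n → ↥(mu F q)) : dg d * dg d' = dg (d * d') := by
  apply mat_injective
  show mat (dg d) * mat (dg d') = mat (dg (d * d'))
  rw [mat_dg, mat_dg, mat_dg, Matrix.diagonal_mul_diagonal]
  rfl

theorem dg_one : dg (1 : Fin n → ↥(mu F q)) = 1 := by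
  apply mat_injective
  rw [mat_dg, mat_one]
  simp

theorem dg_pow (d : Fin n → ↥(mu F q)) (k : ℕ) : dg d ^ k = dg (d ^ k) := by
  induction k with
  | zero => rw [pow_zero, pow_zero, dg_one]
  | succ k ih => rw [pow_succ, pow_succ, ih, dg_mul]

theorem charpoly_dg (d : Fin n → ↥(mu F q)) :
    (mat (dg d)).charpoly = ∏ i, (X - C (((d i : Fˣ)) : F)) := by
  rw [mat_dg, Matrix.charpoly_diagonal]

/-- scalar elements -/
def scal (c : ↥(mu F q)) : ↥(Cfsg.GU n F q) := dg (fun _ => c)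

theorem mat_scal (c : ↥(mu F q)) :
    mat (scal c : ↥(Cfsg.GU n F q)) = Matrix.diagonal (fun _ => (((c : Fˣ)) : F)) := rfl

theorem scal_mul (c c' : ↥(mu F q)) :
    (scal c : ↥(Cfsg.GU n F q)) * scal c' = scal (c * c') := dg_mul _ _

theorem scal_one : (scal (1 : ↥(mu F q)) : ↥(Cfsg.GU n F q)) = 1 := dg_one

theorem scal_pow (c : ↥(mu F q)) (k : ℕ) :
    (scal c : ↥(Cfsg.GU n F q)) ^ k = scal (c ^ k) := dg_pow _ _

theorem scal_inv (c : ↥(mu F q)) :
    (scal c : ↥(Cfsg.GU n F q))⁻¹ = scal c⁻¹ := by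
  apply inv_eq_of_mul_eq_one_right
  rw [scal_mul, mul_inv_cancel, scal_one]

theorem dg_mul_scal (d : Fin n → ↥(mu F q)) (c : ↥(mu F q)) :
    dg d * scal c = dg (fun i => d i * c) := dg_mul _ _

theorem scal_injective (hn : 1 ≤ n) :
    Function.Injective (scal : ↥(mu F q) → ↥(Cfsg.GU n F q)) := by
  intro c c' h
  have h1 := congrArg mat h
  rw [mat_scal, mat_scal] at h1
  have h2 := congrFun (congrFun h1 ⟨0, hn⟩) ⟨0, hn⟩
  rw [Matrix.diagonal_apply_eq, Matrix.diagonal_apply_eq] at h2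
  exact Subtype.ext (Units.ext h2)

theorem scal_mem_center (c : ↥(mu F q)) :
    (scal c : ↥(Cfsg.GU n F q)) ∈ Subgroup.center ↥(Cfsg.GU n F q) := by
  rw [Subgroup.mem_center_iff]
  intro g
  apply mat_injective
  show mat g * mat (scal c) = mat (scal c) * mat g
  rw [mat_scal, ← Matrix.smul_one_eq_diagonal]
  simp

theorem mem_center_iff [Fintype F] (hF : Fintype.card F = q ^ 2) (hn : 1 ≤ n)
    (x : ↥(Cfsg.GU n F q)) :
    x ∈ Subgroup.center ↥(Cfsg.GU n F q) ↔ ∃ c : ↥(mu F q), x = scal c := by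
  constructor
  · intro hx
    have hq : q ≠ 0 := q_ne_zero hF
    have hcard := card_mu hF
    have hnt : Nontrivial ↥(mu F q) := by
      have : Finite ↥(mu F q) := Nat.finite_of_card_ne_zero (by rw [hcard]; omega)
      rw [← Finite.one_lt_card_iff_nontrivial, hcard]
      omega
    obtain ⟨lam, hlam⟩ := exists_ne (1 : ↥(mu F q))
    obtain ⟨c, hc1, hc2⟩ := central_scalar hF hn x hx (lam : Fˣ) ((mem_mu' _).mp lam.2)
      (fun h => hlam (Subtype.ext h))
    refine ⟨⟨c, (mem_mu' _).mpr hc1⟩, ?_⟩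
    apply mat_injective
    rw [mat_scal]
    exact hc2
  · rintro ⟨c, rfl⟩
    exact scal_mem_center c

end Cfsg.Agent.Lib.H12.PGUOrd
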