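import Mathlib
import Cfsg.Agent.Lib.H12.PGUOrdC

/-!
# Elements of `GU_n(q)` with `x ^ r = 1`, `r ∣ q + 1`: diagonal representatives (helper12)
-/

set_option autoImplicit false
open Polynomial

namespace Cfsg.Agent.Lib.H12.PGUOrd

open Cfsg.Agent.Lib.H12.Semi Cfsg.Agent.Lib.H12.USemi Cfsg.Agent.Lib.H12.SpOrd
  Cfsg.Agent.Lib.H12.GUOrd Cfsg.Agent.S0783 Cfsg.Agent.Lib.H12.RootCnt

universe u
variable {F : Type u} [Field F] {q n : ℕ}

theorem exists_zeta [Fintype F] (hF : Fintype.card F = q ^ 2) {r : ℕ} (hr : r.Prime)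
    (hrq : r ∣ q + 1) : ∃ ζ : ↥(mu F q), IsPrimitiveRoot (((ζ : Fˣ)) : F) r := by
  have : Fact r.Prime := ⟨hr⟩
  have hcard := card_mu hF
  have : Finite ↥(mu F q) := Nat.finite_of_card_ne_zero (by rw [hcard]; omega)
  obtain ⟨ζ, hζ⟩ := exists_prime_orderOf_dvd_card' r (G := ↥(mu F q)) (by rw [hcard]; exact hrq)
  refine ⟨ζ, ?_⟩
  have h1 : orderOf (((ζ : Fˣ)) : F) = r := by
    rw [orderOf_units, Subgroup.orderOf_coe, hζ]
  rw [← h1]
  exact IsPrimitiveRoot.orderOf _

section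

variable {r : ℕ} [NeZero r]

/-- powers of `ζ` in `μ_{q+1}` -/
def evm (ζ : ↥(mu F q)) (j : ZMod r) : ↥(mu F q) := ζ ^ j.val

omit [NeZero r] in
theorem coe_evm (ζ : ↥(mu F q)) (j : ZMod r) :
    (((evm ζ j : ↥(mu F q)) : Fˣ) : F) = ev ((((ζ : Fˣ)) : F)) j := by
  unfold evm ev
  rw [SubgroupClass.coe_pow, Units.val_pow_eq_pow_val]

theorem exists_arrangement (a : ZMod r → ℕ) (ha : ∑ j, a j = n) :
    ∃ e : Fin n → ZMod r, ∀ j, (Finset.univ.filter (fun i => e i = j)).card = a j := by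
  classical
  have hc : Fintype.card (Fin n) = Fintype.card (Σ j : ZMod r, Fin (a j)) := by
    rw [Fintype.card_sigma, Fintype.card_fin]
    simp only [Fintype.card_fin]
    exact ha.symm
  let E := Fintype.equivOfCardEq hc
  refine ⟨fun i => (E i).1, ?_⟩
  intro j
  have h1 : (Finset.univ.filter (fun i => (E i).1 = j)).card =
      (Finset.univ.filter (fun x : Σ j : ZMod r, Fin (a j) => x.1 = j)).card := by
    apply Finset.card_bij (fun i _ => E i)
    · intro i hi
      rw [Finset.mem_filter] at hi ⊢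
      exact ⟨Finset.mem_univ _, hi.2⟩
    · intro i _ i' _ h
      exact E.injective h
    · intro x hx
      rw [Finset.mem_filter] at hx
      refine ⟨E.symm x, ?_, E.apply_symm_apply x⟩
      rw [Finset.mem_filter, E.apply_symm_apply]
      exact ⟨Finset.mem_univ _, hx.2⟩
  rw [h1]
  have h2 : (Finset.univ.filter (fun x : Σ j : ZMod r, Fin (a j) => x.1 = j)) =
      (Finset.univ : Finset (Fin (a j))).map ⟨fun y => ⟨j, y⟩, fun y y' h => by
        simpa using h⟩ := by
    ext ⟨j', y⟩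
    simp only [Finset.mem_filter, Finset.mem_univ, true_and, Finset.mem_map]
    constructor
    · rintro rfl
      exact ⟨y, rfl⟩
    · rintro ⟨y', h⟩
      exact (congrArg Sigma.fst h).symm
  rw [h2, Finset.card_map, Finset.card_univ, Fintype.card_fin]

theorem prod_arrangement {M : Type*} [CommMonoid M] (e : Fin n → ZMod r) (a : ZMod r → ℕ)
    (he : ∀ j, (Finset.univ.filter (fun i => e i = j)).card = a j) (f : ZMod r → M) :
    ∏ i, f (e i) = ∏ j, f j ^ a j := by
  classical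
  rw [← Finset.prod_fiberwise Finset.univ e (fun i => f (e i))]
  apply Finset.prod_congr rfl
  intro j _
  rw [← he j, ← Finset.prod_const]
  apply Finset.prod_congr rfl
  intro i hi
  rw [(Finset.mem_filter.mp hi).2]

end

section rep

variable {r : ℕ} [Fact r.Prime]

/-- diagonal representative of a multiplicity function -/
noncomputable def repT (ζ : ↥(mu F q)) (a : ZMod r → ℕ) (ha : ∑ j, a j = n) :
    ↥(Cfsg.GU n F q) :=
  dg (fun i => evm ζ ((exists_arrangement (n := n) a ha).choose i))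

theorem charpoly_repT (ζ : ↥(mu F q)) (a : ZMod r → ℕ) (ha : ∑ j, a j = n) :
    (mat (repT ζ a ha)).charpoly = prodPoly ((((ζ : Fˣ)) : F)) a := by
  unfold repT
  rw [charpoly_dg]
  have h := prod_arrangement _ a (exists_arrangement (n := n) a ha).choose_spec
    (fun j => X - C (ev ((((ζ : Fˣ)) : F)) j))
  unfold prodPoly
  rw [← h]
  apply Finset.prod_congr rfl
  intro i _
  rw [coe_evm]

omit [Fact (Nat.Prime r)] in
theorem evm_pow (ζ : ↥(mu F q)) (hζ : ζ ^ r = 1) (j : ZMod r) : evm ζ j ^ r = 1 := by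
  unfold evm
  rw [← pow_mul, mul_comm, pow_mul, hζ, one_pow]

theorem repT_pow (ζ : ↥(mu F q)) (hζ : ζ ^ r = 1) (a : ZMod r → ℕ) (ha : ∑ j, a j = n) :
    repT ζ a ha ^ r = 1 := by
  unfold repT
  rw [dg_pow, ← dg_one]
  congr 1
  funext i
  exact evm_pow ζ hζ _

theorem charpoly_repT_mul_scal (ζ : ↥(mu F q)) (hζ : IsPrimitiveRoot ((((ζ : Fˣ)) : F)) r)
    (a : ZMod r → ℕ) (ha : ∑ j, a j = n) (k : ZMod r) :
    (mat (repT ζ a ha * scal (evm ζ k))).charpoly =
      prodPoly ((((ζ : Fˣ)) : F)) (fun j => a (j - k)) := by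
  unfold repT
  rw [dg_mul_scal, charpoly_dg]
  have h := prod_arrangement _ a (exists_arrangement (n := n) a ha).choose_spec
    (fun j => X - C (ev ((((ζ : Fˣ)) : F)) (j + k)))
  have h1 : ∏ i, (X - C ((((evm ζ ((exists_arrangement (n := n) a ha).choose i) * evm ζ k :
      ↥(mu F q)) : Fˣ)) : F)) =
      ∏ i, (fun j => X - C (ev ((((ζ : Fˣ)) : F)) (j + k)))
        ((exists_arrangement (n := n) a ha).choose i) := by
    apply Finset.prod_congr rfl
    intro i _
    simp only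
    rw [ev_add hζ, ← coe_evm, ← coe_evm, Subgroup.coe_mul, Units.val_mul]
  rw [h1]
  refine h.trans ?_
  unfold prodPoly
  exact Fintype.prod_equiv (Equiv.addRight k) _ _ (fun j => by
    show (X - C (ev ((((ζ : Fˣ)) : F)) (j + k))) ^ a j = _
    simp only [Equiv.coe_addRight, add_sub_cancel_right])

end rep

section general

variable [Fintype F] {r : ℕ} [Fact r.Prime]

omit [Fintype F] in
theorem coprime_of_pow_eq_one (p : ℕ) [Fact p.Prime] (x : ↥(Cfsg.GU n F q)) (N : ℕ)
    (hN : N.Coprime p) (hx : x ^ N = 1) : (orderOf x).Coprime p :=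
  Nat.Coprime.coprime_dvd_left (orderOf_dvd_of_pow_eq_one hx) hN

omit [Fintype F] in
/-- the characteristic polynomial of an element with `x ^ r = 1` -/
theorem charpoly_eq_prodPoly (p : ℕ) [Fact p.Prime] [CharP F p] (hrp : r ≠ p) {ζ : F}
    (hζ : IsPrimitiveRoot ζ r) (x : ↥(Cfsg.GU n F q)) (hx : x ^ r = 1) :
    ∃ a : ZMod r → ℕ, ∑ j, a j = n ∧ (mat x).charpoly = prodPoly ζ a := by
  classical
  have hr : r.Prime := Fact.out
  have hp : p.Prime := Fact.out
  have hcop : r.Coprime p := (Nat.coprime_primes hr hp).mpr hrp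
  have hss := isSemisimple_of_orderOf_coprime p x (coprime_of_pow_eq_one p x r hcop hx)
  have hdvd := charpoly_dvd_of_pow_eq_one n (mat x) hss r (by rw [← mat_pow, hx, mat_one])
  have hsp : ((X ^ r - 1 : F[X]) ^ n).Splits := by
    apply Splits.pow
    have := X_pow_sub_one_splits hζ
    rwa [C_1] at this
  have hne : ((X ^ r - 1 : F[X]) ^ n) ≠ 0 :=
    pow_ne_zero _ (Polynomial.X_pow_sub_C_ne_zero hr.pos (1 : F))
  have hs := hsp.of_dvd hne hdvd
  have h1 := eq_prodPoly_of_dvd hζ _ (Matrix.charpoly_monic (mat x)) hs n hdvd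
  refine ⟨_, ?_, h1⟩
  rw [← prodPoly_natDegree ζ, ← h1, Matrix.charpoly_natDegree_eq_dim, Fintype.card_fin]

end general

end Cfsg.Agent.Lib.H12.PGUOrd
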