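import Mathlib
import Cfsg.Agent.Lib.H12.PGUOrdD
import Cfsg.Agent.Lib.H4.Herm

/-!
# Elements of `GU_n(q)` whose `r`-th power is a scalar which is not an `r`-th power (helper12)
-/

set_option autoImplicit false
open Polynomial

namespace Cfsg.Agent.Lib.H12.PGUOrd

open Cfsg.Agent.Lib.H12.Semi Cfsg.Agent.Lib.H12.USemi Cfsg.Agent.Lib.H12.SpOrd
  Cfsg.Agent.Lib.H12.GUOrd Cfsg.Agent.S0783 Cfsg.Agent.Lib.H12.RootCnt

universe u
variable {F : Type u} [Field F] {q n : ℕ}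

theorem aeval_toLin' (A : Matrix (Fin n) (Fin n) F) (Q : F[X]) :
    aeval (Matrix.toLin' A) Q = Matrix.toLin' (aeval A Q) :=
  Polynomial.aeval_algHom_apply
    (Matrix.toLinAlgEquiv' : Matrix (Fin n) (Fin n) F ≃ₐ[F] _).toAlgHom A Q

theorem charpoly_dvd_pow_of_aeval (A : Matrix (Fin n) (Fin n) F)
    (hss : Module.End.IsSemisimple (Matrix.toLin' A)) (Q : F[X]) (hA : aeval A Q = 0) :
    A.charpoly ∣ Q ^ n := by
  have hdeg : A.charpoly.natDegree = n := by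
    rw [Matrix.charpoly_natDegree_eq_dim, Fintype.card_fin]
  apply dvd_pow_natDegree_of_irreducible_dvd _ _ _ hdeg (Matrix.charpoly_monic _).ne_zero
  intro ρ hρ hdvd
  rw [← Matrix.charpoly_toLin'] at hdvd
  obtain ⟨w, hw0, hw⟩ := exists_ne_zero_of_dvd_charpoly _ _ _ rfl hss ρ hρ hdvd
  by_contra hnd
  have hcop : IsCoprime ρ Q := (hρ.coprime_iff_not_dvd).mpr hnd
  obtain ⟨a, b, hab⟩ := hcop
  have h1 : aeval (Matrix.toLin' A) Q = 0 := by
    rw [aeval_toLin', hA, map_zero]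
  have h3 := congrArg (fun f => aeval (Matrix.toLin' A) f w) hab
  simp only [map_add, map_mul, map_one, h1, mul_zero, add_zero, Module.End.mul_apply,
    Module.End.one_apply, hw, map_zero] at h3
  exact hw0 h3.symm

/-- the matrix identity behind `x ^ r = scal c` -/
theorem aeval_of_pow_eq_scal {r : ℕ} (x : ↥(Cfsg.GU n F q)) (c : ↥(mu F q))
    (hx : x ^ r = scal c) : aeval (mat x) (X ^ r - C ((((c : Fˣ)) : F)) : F[X]) = 0 := by
  rw [map_sub, map_pow, aeval_X, aeval_C, ← mat_pow, hx, mat_scal, Algebra.algebraMap_eq_smul_one,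
    Matrix.smul_one_eq_diagonal, sub_self]

theorem pow_eq_scal_of_aeval {r : ℕ} (x : ↥(Cfsg.GU n F q)) (c : ↥(mu F q))
    (hx : aeval (mat x) (X ^ r - C ((((c : Fˣ)) : F)) : F[X]) = 0) : x ^ r = scal c := by
  apply mat_injective
  rw [map_sub, map_pow, aeval_X, aeval_C, sub_eq_zero, Algebra.algebraMap_eq_smul_one,
    Matrix.smul_one_eq_diagonal] at hx
  rw [mat_pow, hx, mat_scal]

section

variable [Fintype F]

/-- an element of `μ_{q+1}` which is not an `r`-th power in `μ_{q+1}` is not an `r`-th power in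
the field -/
theorem not_pow_field (hF : Fintype.card F = q ^ 2) {r : ℕ} (hr : r.Prime) (hr2 : r ≠ 2)
    (hrq : r ∣ q + 1) (c : ↥(mu F q)) (hc : ∀ ν : ↥(mu F q), ν ^ r ≠ c) (b : F) :
    b ^ r ≠ (((c : Fˣ)) : F) := by
  classical
  intro hb
  have hq : q ≠ 0 := q_ne_zero hF
  have hb0 : b ≠ 0 := by
    rintro rfl
    rw [zero_pow hr.ne_zero] at hb
    exact (Units.ne_zero _) hb.symm
  set B : Fˣ := Units.mk0 b hb0 with hB
  have hBr : B ^ r = (c : Fˣ) := by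
    apply Units.ext
    rw [Units.val_pow_eq_pow_val]
    exact hb
  -- `B ^ (q + 1)` has order dividing `q - 1` and `r`
  have h1 : (B ^ (q + 1)) ^ (q - 1) = 1 := by
    rw [← pow_mul]
    have h2 : (q + 1) * (q - 1) = Fintype.card Fˣ := by
      rw [Fintype.card_units, hF]
      have : 1 ≤ q := Nat.one_le_iff_ne_zero.mpr hq
      zify [this, Nat.one_le_pow 2 q (by omega)]
      ring
    rw [h2]
    exact pow_card_eq_one
  have h3 : (B ^ (q + 1)) ^ r = 1 := by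
    rw [← pow_mul, mul_comm, pow_mul, hBr]
    exact_mod_cast (mem_mu _).mp c.2
  have hcop : Nat.Coprime (q - 1) r := by
    rw [Nat.coprime_comm, Nat.Prime.coprime_iff_not_dvd hr]
    intro h4
    have h5 : r ∣ (q + 1) - (q - 1) := Nat.dvd_sub hrq h4
    have h6 : (q + 1) - (q - 1) = 2 := by omega
    rw [h6] at h5
    have := (Nat.prime_dvd_prime_iff_eq hr Nat.prime_two).mp h5
    exact hr2 this
  have h7 : orderOf (B ^ (q + 1)) ∣ Nat.gcd (q - 1) r :=
    Nat.dvd_gcd (orderOf_dvd_of_pow_eq_one h1) (orderOf_dvd_of_pow_eq_one h3)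
  rw [hcop, Nat.dvd_one, orderOf_eq_one_iff] at h7
  exact hc ⟨B, (mem_mu _).mpr h7⟩ (Subtype.ext hBr)

theorem irreducible_X_pow_sub_C (hF : Fintype.card F = q ^ 2) {r : ℕ} (hr : r.Prime)
    (hr2 : r ≠ 2) (hrq : r ∣ q + 1) (c : ↥(mu F q)) (hc : ∀ ν : ↥(mu F q), ν ^ r ≠ c) :
    Irreducible (X ^ r - C ((((c : Fˣ)) : F)) : F[X]) :=
  X_pow_sub_C_irreducible_of_prime hr (not_pow_field hF hr hr2 hrq c hc)

end

section sd

variable (σ : F →+* F)

theorem SD_pow {P : F[X]} (h : SD σ P) (k : ℕ) : SD σ (P ^ k) := by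
  obtain ⟨e, he, hd⟩ := h
  refine ⟨e ^ k, pow_ne_zero _ he, ?_⟩
  induction k with
  | zero =>
    simp only [pow_zero]
    rw [C_1, mul_one]
    have := dualP_C (σ := σ) (1 : F)
    rwa [C_1, map_one, C_1] at this
  | succ k ih =>
    rw [pow_succ, dualP_mul, ih, hd, pow_succ, C_mul]
    ring

theorem SD_X_pow_sub_C (hσ : ∀ x, σ x = x ^ q) (c : ↥(mu F q)) {r : ℕ} (hr : 0 < r) :
    SD σ (X ^ r - C ((((c : Fˣ)) : F)) : F[X]) := by
  have hc : ((((c : Fˣ)) : F)) ^ (q + 1) = 1 := (mem_mu' _).mp c.2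
  have hc0 : ((((c : Fˣ)) : F)) ≠ 0 := Units.ne_zero _
  refine ⟨-σ ((((c : Fˣ)) : F)), ?_, ?_⟩
  · rw [neg_ne_zero, Ne, map_eq_zero]
    exact hc0
  · unfold dualP
    rw [Polynomial.map_sub, Polynomial.map_pow, map_X, map_C, sub_eq_add_neg, ← C_neg,
      reverse_add_C, natDegree_X_pow]
    have h1 : (X ^ r : F[X]).reverse = 1 := by
      have h2 : (X ^ r : F[X]) = C 1 * X ^ r := by rw [C_1, one_mul]
      rw [h2, reverse_mul_X_pow, reverse_C, C_1]
    have h3 : -σ ((((c : Fˣ)) : F)) * ((((c : Fˣ)) : F)) = -1 := by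
      rw [hσ, neg_mul, ← pow_succ, hc]
    rw [h1, mul_sub, ← C_mul, h3]
    simp only [C_neg, C_1]
    ring

end sd

section exist

variable [Fintype F]

omit [Fintype F] in
theorem charpoly_of_pow_eq_scal (p : ℕ) [Fact p.Prime] [CharP F p] (x : ↥(Cfsg.GU n F q))
    (hx : (orderOf x).Coprime p) {r : ℕ} (hr : r ≠ 0) (c : ↥(mu F q)) (hxr : x ^ r = scal c)
    (hirr : Irreducible (X ^ r - C ((((c : Fˣ)) : F)) : F[X])) :
    ∃ k, k * r = n ∧ (mat x).charpoly = (X ^ r - C ((((c : Fˣ)) : F)) : F[X]) ^ k := by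
  have hss := isSemisimple_of_orderOf_coprime p x hx
  have hdvd := charpoly_dvd_pow_of_aeval (mat x) hss _ (aeval_of_pow_eq_scal x c hxr)
  obtain ⟨k, -, hk⟩ := (dvd_prime_pow hirr.prime n).mp hdvd
  have hm : (X ^ r - C ((((c : Fˣ)) : F)) : F[X]).Monic := monic_X_pow_sub_C _ hr
  have heq : (mat x).charpoly = (X ^ r - C ((((c : Fˣ)) : F)) : F[X]) ^ k :=
    eq_of_monic_of_associated (Matrix.charpoly_monic _) (hm.pow k) hk
  refine ⟨k, ?_, heq⟩
  have h1 := congrArg natDegree heq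
  rw [Matrix.charpoly_natDegree_eq_dim, Fintype.card_fin, natDegree_pow,
    natDegree_X_pow_sub_C] at h1
  exact h1.symm

set_option maxHeartbeats 1600000 in
/-- existence of elements with `y ^ r = scal c` when `r ∣ n` -/
theorem exists_pow_eq_scal (hF : Fintype.card F = q ^ 2) (p : ℕ) [Fact p.Prime] [CharP F p]
    {r : ℕ} (hr : r ≠ 0) (c : ↥(mu F q)) (k : ℕ) (hk : k * r = n) (hn : 1 ≤ n) :
    ∃ y : ↥(Cfsg.GU n F q), (orderOf y).Coprime p ∧ y ^ r = scal c ∧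
      (mat y).charpoly = (X ^ r - C ((((c : Fˣ)) : F)) : F[X]) ^ k := by
  obtain ⟨σ, hσ, hσ2⟩ := Cfsg.Agent.Lib.H4.exists_frob hF
  have hne : ∃ a, σ a ≠ a := by
    obtain ⟨a, ha⟩ := frob_ne_id hF
    exact ⟨a, by rw [hσ]; exact ha⟩
  have hm : (X ^ r - C ((((c : Fˣ)) : F)) : F[X]).Monic := monic_X_pow_sub_C _ hr
  obtain ⟨P, hP⟩ : ∃ P : F[X], P = (X ^ r - C ((((c : Fˣ)) : F)) : F[X]) ^ k := ⟨_, rfl⟩
  have hPm : P.Monic := by rw [hP]; exact hm.pow k
  have hd : P.natDegree = n := by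
    rw [hP, natDegree_pow, natDegree_X_pow_sub_C, hk]
  have hsd : SD σ P := by
    rw [hP]
    exact SD_pow σ (SD_X_pow_sub_C σ hσ c (Nat.pos_of_ne_zero hr)) k
  obtain ⟨y, hy, hyc⟩ := exists_GU_charpoly_eq hF p σ hσ hσ2 hne n P hPm hd hsd
  rw [hP] at hyc
  refine ⟨y, hy, ?_, hyc⟩
  apply pow_eq_scal_of_aeval
  have hk0 : k ≠ 0 := by
    rintro rfl
    omega
  exact aeval_eq_zero_of_charpoly_dvd n (mat y) (isSemisimple_of_orderOf_coprime p y hy) _ k hk0
    (by rw [hyc])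

end exist

end Cfsg.Agent.Lib.H12.PGUOrd
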