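import Mathlib
import Cfsg.Agent.Lib.H12.PGUOrdE
import Cfsg.Agent.Lib.H12.PGUOrdB

/-!
# Classes of elements of odd prime order `r ∣ q + 1` in `PGU_n(q)`: building blocks (helper12)
-/

set_option autoImplicit false
open Polynomial

namespace Cfsg.Agent.Lib.H12.PGUOrd

open Cfsg.Agent.Lib.H12.Semi Cfsg.Agent.Lib.H12.USemi Cfsg.Agent.Lib.H12.SpOrd
  Cfsg.Agent.Lib.H12.GUOrd Cfsg.Agent.S0783 Cfsg.Agent.Lib.H12.RootCnt

universe u
variable {F : Type u} [Field F] {q n : ℕ}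

section basic

variable {r : ℕ} [Fact r.Prime]

theorem repT_ne_scal (ζ : ↥(mu F q)) (hζ : IsPrimitiveRoot ((((ζ : Fˣ)) : F)) r)
    (a : ZMod r → ℕ) (ha : ∑ j, a j = n) (hne : ∀ j, a j ≠ n) (hn : 1 ≤ n) (c : ↥(mu F q)) :
    repT ζ a ha ≠ scal c := by
  classical
  intro h
  have h1 := congrArg mat h
  unfold repT at h1
  rw [mat_dg, mat_scal] at h1
  have h2 := Matrix.diagonal_injective h1
  set e := (exists_arrangement (n := n) a ha).choose with he
  have hspec := (exists_arrangement (n := n) a ha).choose_spec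
  have h3 : ∀ i, e i = e ⟨0, hn⟩ := by
    intro i
    apply ev_injective hζ
    rw [← coe_evm, ← coe_evm]
    exact (congrFun h2 i).trans (congrFun h2 ⟨0, hn⟩).symm
  apply hne (e ⟨0, hn⟩)
  rw [← hspec (e ⟨0, hn⟩)]
  have h4 : (Finset.univ.filter (fun i => e i = e ⟨0, hn⟩)) = Finset.univ := by
    ext i
    simp [h3 i]
  rw [← he, h4, Finset.card_univ, Fintype.card_fin]

theorem mu_eq_evm (ζ : ↥(mu F q)) (hζ : IsPrimitiveRoot ((((ζ : Fˣ)) : F)) r) (ν : ↥(mu F q))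
    (hν : ν ^ r = 1) : ∃ k : ZMod r, ν = evm ζ k := by
  have h1 : ((((ν : Fˣ)) : F)) ^ r = 1 := by
    have := congrArg (fun x : ↥(mu F q) => (((x : Fˣ)) : F)) hν
    simpa using this
  obtain ⟨k, hk⟩ := exists_ev_eq hζ h1
  refine ⟨k, ?_⟩
  apply Subtype.ext
  apply Units.ext
  rw [coe_evm, hk]

end basic

section tame

variable [Fintype F]

theorem p_dvd_q (hF : Fintype.card F = q ^ 2) (p : ℕ) [Fact p.Prime] [CharP F p] : p ∣ q := by
  have hp : p.Prime := Fact.out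
  obtain ⟨f, -, hf⟩ := FiniteField.card F p
  have h1 : p ∣ q ^ 2 := by
    rw [← hF, hf]
    exact dvd_pow_self p f.ne_zero
  exact hp.dvd_of_dvd_pow h1

theorem coprime_succ (hF : Fintype.card F = q ^ 2) (p : ℕ) [Fact p.Prime] [CharP F p] :
    (q + 1).Coprime p := by
  have hp : p.Prime := Fact.out
  rw [Nat.coprime_comm, Nat.Prime.coprime_iff_not_dvd hp]
  intro h
  have h1 := (Nat.dvd_add_right (p_dvd_q hF p)).mp h
  exact hp.one_lt.ne' (Nat.dvd_one.mp h1)

theorem ne_char (hF : Fintype.card F = q ^ 2) (p : ℕ) [Fact p.Prime] [CharP F p] {r : ℕ}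
    (hr : r.Prime) (hrq : r ∣ q + 1) : r ≠ p := by
  rintro rfl
  have h1 := (Nat.dvd_add_right (p_dvd_q hF r)).mp hrq
  exact hr.one_lt.ne' (Nat.dvd_one.mp h1)

theorem tame_of_pow_eq_scal (hF : Fintype.card F = q ^ 2) (p : ℕ) [Fact p.Prime] [CharP F p]
    {r : ℕ} (hr : r.Prime) (hrq : r ∣ q + 1) (x : ↥(Cfsg.GU n F q)) (c : ↥(mu F q))
    (hx : x ^ r = scal c) : (orderOf x).Coprime p := by
  have hp : p.Prime := Fact.out
  apply coprime_of_pow_eq_one p x (r * (q + 1))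
  · apply Nat.Coprime.mul_left
    · exact (Nat.coprime_primes hr hp).mpr (ne_char hF p hr hrq)
    · exact coprime_succ hF p
  · rw [pow_mul, hx, scal_pow]
    have : c ^ (q + 1) = 1 := (mem_mu _).mp c.2 |> fun h => Subtype.ext h
    rw [this, scal_one]

end tame

end Cfsg.Agent.Lib.H12.PGUOrd
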