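import Mathlib
import Cfsg.Agent.Lib.H12.PGUOrdF

/-!
# Classes of elements of odd prime order `r ∣ q + 1` in `PGU_n(q)`: parametrisation (helper12)
-/

set_option autoImplicit false
open Polynomial

namespace Cfsg.Agent.Lib.H12.PGUOrd

open Cfsg.Agent.Lib.H12.Semi Cfsg.Agent.Lib.H12.USemi Cfsg.Agent.Lib.H12.SpOrd
  Cfsg.Agent.Lib.H12.GUOrd Cfsg.Agent.S0783 Cfsg.Agent.Lib.H12.RootCnt

universe u
variable {F : Type u} [Field F] {q n : ℕ}

/-- the subgroup of `r`-th powers in `μ_{q+1}` -/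
abbrev Rr (F : Type u) [Field F] (q r : ℕ) : Subgroup ↥(mu F q) :=
  (powMonoidHom r : ↥(mu F q) →* ↥(mu F q)).range

/-- classes of scalars modulo `r`-th powers -/
abbrev Qr (F : Type u) [Field F] (q r : ℕ) : Type u := ↥(mu F q) ⧸ Rr F q r

/-- the exceptional parameters -/
abbrev Ex (F : Type u) [Field F] (q n r : ℕ) : Type u := {e : Qr F q r // e ≠ 1 ∧ r ∣ n}

theorem mk_eq_one_iff {r : ℕ} (c : ↥(mu F q)) :
    (QuotientGroup.mk c : Qr F q r) = 1 ↔ ∃ ν : ↥(mu F q), ν ^ r = c := by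
  rw [QuotientGroup.eq_one_iff, MonoidHom.mem_range]
  rfl

theorem mk_eq_mk_iff {r : ℕ} (c c' : ↥(mu F q)) :
    (QuotientGroup.mk c : Qr F q r) = QuotientGroup.mk c' ↔ ∃ ν : ↥(mu F q), c' = c * ν ^ r := by
  rw [QuotientGroup.eq, MonoidHom.mem_range]
  constructor
  · rintro ⟨ν, hν⟩
    refine ⟨ν, ?_⟩
    rw [show ν ^ r = c⁻¹ * c' from hν, mul_inv_cancel_left]
  · rintro ⟨ν, rfl⟩
    exact ⟨ν, by rw [inv_mul_cancel_left]; rfl⟩

theorem card_Qr [Fintype F] (hF : Fintype.card F = q ^ 2) {r : ℕ} (hrq : r ∣ q + 1) :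
    Nat.card (Qr F q r) = r := by
  have hcard := card_mu hF
  have : Finite ↥(mu F q) := Nat.finite_of_card_ne_zero (by rw [hcard]; omega)
  have h1 := IsCyclic.index_powMonoidHom_range ↥(mu F q) r
  rw [hcard, Nat.gcd_eq_right hrq] at h1
  exact h1

theorem card_Ex [Fintype F] (hF : Fintype.card F = q ^ 2) {r : ℕ} (hr : r.Prime)
    (hrq : r ∣ q + 1) (n : ℕ) :
    Nat.card (Ex F q n r) = if r ∣ n then r - 1 else 0 := by
  classical
  split_ifs with hd
  · have h1 := card_Qr hF hrq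
    have : Finite (Qr F q r) := Nat.finite_of_card_ne_zero (by rw [h1]; exact hr.ne_zero)
    have e : Ex F q n r ≃ {e : Qr F q r // e ≠ 1} :=
      Equiv.subtypeEquivRight (fun e => ⟨fun h => h.1, fun h => ⟨h, hd⟩⟩)
    rw [Nat.card_congr e]
    have := Fintype.ofFinite (Qr F q r)
    rw [Nat.card_eq_fintype_card, Fintype.card_subtype_compl, Fintype.card_subtype_eq,
      ← Nat.card_eq_fintype_card, h1]
  · rw [Nat.card_eq_zero]
    left
    constructor
    rintro ⟨e, -, h⟩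
    exact hd h

end Cfsg.Agent.Lib.H12.PGUOrd
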