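import Mathlib
import Cfsg.Agent.Lib.H12.PGUOrdG

/-!
# Classes of elements of odd prime order `r ∣ q + 1` in `PGU_n(q)`: representatives (helper12)
-/

set_option autoImplicit false
open Polynomial

namespace Cfsg.Agent.Lib.H12.PGUOrd

open Cfsg.Agent.Lib.H12.Semi Cfsg.Agent.Lib.H12.USemi Cfsg.Agent.Lib.H12.SpOrd
  Cfsg.Agent.Lib.H12.GUOrd Cfsg.Agent.S0783 Cfsg.Agent.Lib.H12.RootCnt

universe u
variable {F : Type u} [Field F] [Fintype F] {q n : ℕ} {r : ℕ} [Fact r.Prime]

/-- representatives of the exceptional classes -/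
noncomputable def repE (hF : Fintype.card F = q ^ 2) (p : ℕ) [Fact p.Prime] [CharP F p]
    (hn : 1 ≤ n) (e : Ex F q n r) : ↥(Cfsg.GU n F q) :=
  (exists_pow_eq_scal hF p (Fact.out : r.Prime).ne_zero (Quotient.out e.1 : ↥(mu F q)) (n / r)
    (Nat.div_mul_cancel e.2.2) hn).choose

theorem repE_spec (hF : Fintype.card F = q ^ 2) (p : ℕ) [Fact p.Prime] [CharP F p]
    (hn : 1 ≤ n) (e : Ex F q n r) :
    (orderOf (repE hF p hn e)).Coprime p ∧
      repE hF p hn e ^ r = scal (Quotient.out e.1 : ↥(mu F q)) ∧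
      (mat (repE hF p hn e)).charpoly =
        (X ^ r - C (((((Quotient.out e.1 : ↥(mu F q)) : Fˣ)) : F)) : F[X]) ^ (n / r) :=
  (exists_pow_eq_scal hF p (Fact.out : r.Prime).ne_zero (Quotient.out e.1 : ↥(mu F q)) (n / r)
    (Nat.div_mul_cancel e.2.2) hn).choose_spec

/-- the parameter set -/
abbrev Param (F : Type u) [Field F] (q n r : ℕ) [Fact r.Prime] : Type u := Tup r n ⊕ Ex F q n r

/-- the representative attached to a parameter -/
noncomputable def rep (hF : Fintype.card F = q ^ 2) (p : ℕ) [Fact p.Prime] [CharP F p]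
    (hn : 1 ≤ n) (ζ : ↥(mu F q)) : Param F q n r → ↥(Cfsg.GU n F q) :=
  Sum.elim (fun a => repT ζ a.val a.sum) (repE hF p hn)

/-- the scalar `rep ^ r` -/
noncomputable def lam : Param F q n r → ↥(mu F q) :=
  Sum.elim (fun _ => 1) (fun e => (Quotient.out e.1 : ↥(mu F q)))

theorem rep_pow (hF : Fintype.card F = q ^ 2) (p : ℕ) [Fact p.Prime] [CharP F p]
    (hn : 1 ≤ n) (ζ : ↥(mu F q)) (hζ : ζ ^ r = 1) (x : Param F q n r) :
    rep hF p hn ζ x ^ r = scal (lam x) := by
  rcases x with a | e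
  · show repT ζ a.val a.sum ^ r = scal 1
    rw [repT_pow ζ hζ, scal_one]
  · exact (repE_spec hF p hn e).2.1

omit [Fintype F] in
theorem mk_lam_inl (a : Tup r n) :
    (QuotientGroup.mk (lam (Sum.inl a : Param F q n r)) : Qr F q r) = 1 := by
  show (QuotientGroup.mk (1 : ↥(mu F q)) : Qr F q r) = 1
  rfl

omit [Fintype F] in
theorem mk_lam_inr (e : Ex F q n r) :
    (QuotientGroup.mk (lam (Sum.inr e : Param F q n r)) : Qr F q r) = e.1 :=
  QuotientGroup.out_eq' e.1

theorem rep_tame (hF : Fintype.card F = q ^ 2) (p : ℕ) [Fact p.Prime] [CharP F p]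
    (hn : 1 ≤ n) (hrq : r ∣ q + 1) (ζ : ↥(mu F q)) (hζ : ζ ^ r = 1) (x : Param F q n r) :
    (orderOf (rep hF p hn ζ x)).Coprime p :=
  tame_of_pow_eq_scal hF p Fact.out hrq _ _ (rep_pow hF p hn ζ hζ x)

theorem rep_not_scal (hF : Fintype.card F = q ^ 2) (p : ℕ) [Fact p.Prime] [CharP F p]
    (hn : 1 ≤ n) (ζ : ↥(mu F q)) (hζ : IsPrimitiveRoot ((((ζ : Fˣ)) : F)) r)
    (x : Param F q n r) (c : ↥(mu F q)) : rep hF p hn ζ x ≠ scal c := by
  rcases x with a | e
  · exact repT_ne_scal ζ hζ a.val a.sum a.ne hn c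
  · intro h
    have h1 := (repE_spec hF p hn e).2.1
    change rep hF p hn ζ (Sum.inr e) ^ r = _ at h1
    rw [h, scal_pow] at h1
    have h2 := scal_injective (n := n) hn h1
    apply e.2.1
    rw [← QuotientGroup.out_eq' e.1, mk_eq_one_iff]
    exact ⟨c, h2⟩

omit [Fintype F] [Fact (Nat.Prime r)] in
theorem scal_comm (c : ↥(mu F q)) (g : ↥(Cfsg.GU n F q)) : g * scal c = scal c * g :=
  Subgroup.mem_center_iff.mp (scal_mem_center c) g

omit [Fintype F] [Fact (Nat.Prime r)] in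
theorem mul_scal_pow (x : ↥(Cfsg.GU n F q)) (c : ↥(mu F q)) (k : ℕ) :
    (x * scal c) ^ k = x ^ k * scal (c ^ k) := by
  rw [(show Commute x (scal c) from scal_comm c x).mul_pow, scal_pow]

omit [Fintype F] [Fact (Nat.Prime r)] in
theorem conj_mul_scal (g x : ↥(Cfsg.GU n F q)) (c : ↥(mu F q)) :
    g * (x * scal c) * g⁻¹ = g * x * g⁻¹ * scal c := by
  rw [mul_assoc, mul_assoc, ← scal_comm c g⁻¹]
  group

set_option maxHeartbeats 1600000 in
/-- every non-scalar element with scalar `r`-th power is conjugate, up to a scalar, to a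
representative -/
theorem exists_rep (hF : Fintype.card F = q ^ 2) (p : ℕ) [Fact p.Prime] [CharP F p]
    (hn : 1 ≤ n) (hr2 : r ≠ 2) (hrq : r ∣ q + 1) (ζ : ↥(mu F q))
    (hζ : IsPrimitiveRoot ((((ζ : Fˣ)) : F)) r) (x : ↥(Cfsg.GU n F q))
    (hx : ∀ c : ↥(mu F q), x ≠ scal c) (l : ↥(mu F q)) (hxr : x ^ r = scal l) :
    ∃ (P : Param F q n r) (g : ↥(Cfsg.GU n F q)) (ν : ↥(mu F q)),
      g * x * g⁻¹ = rep hF p hn ζ P * scal ν := by
  classical
  have hr : r.Prime := Fact.out
  have hrp : r ≠ p := ne_char hF p hr hrq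
  have hζr : ζ ^ r = 1 := by
    apply Subtype.ext
    apply Units.ext
    rw [SubgroupClass.coe_pow, Units.val_pow_eq_pow_val]
    exact hζ.pow_eq_one
  by_cases he : (QuotientGroup.mk l : Qr F q r) = 1
  · obtain ⟨ν, hν⟩ := (mk_eq_one_iff l).mp he
    set x' := x * scal ν⁻¹ with hx'
    have hxx : x = x' * scal ν := by
      rw [hx', mul_assoc, scal_mul, inv_mul_cancel, scal_one, mul_one]
    have hx'r : x' ^ r = 1 := by
      rw [hx', mul_scal_pow, hxr, scal_mul, inv_pow, hν, mul_inv_cancel, scal_one]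
    obtain ⟨a, hsum, hch⟩ := charpoly_eq_prodPoly p hrp hζ x' hx'r
    have htame : (orderOf x').Coprime p :=
      coprime_of_pow_eq_one p x' r ((Nat.coprime_primes hr Fact.out).mpr hrp) hx'r
    have hne : ∀ j, a j ≠ n := by
      intro j hj
      have hz : ∀ i ∈ Finset.univ, i ≠ j → a i = 0 := by
        have h1 := Finset.add_sum_erase Finset.univ a (Finset.mem_univ j)
        rw [hsum, hj] at h1
        have h2 : ∑ i ∈ Finset.univ.erase j, a i = 0 := by omega
        intro i _ hi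
        exact (Finset.sum_eq_zero_iff.mp h2) i (Finset.mem_erase.mpr ⟨hi, Finset.mem_univ _⟩)
      have h3 : (mat x').charpoly = (X - C (ev ((((ζ : Fˣ)) : F)) j)) ^ n := by
        rw [hch]
        unfold prodPoly
        rw [Finset.prod_eq_single j (fun i hi hij => by rw [hz i hi hij, pow_zero])
          (fun h => absurd (Finset.mem_univ j) h), hj]
      have h4 := aeval_eq_zero_of_charpoly_dvd n (mat x')
        (isSemisimple_of_orderOf_coprime p x' htame) (X - C (ev ((((ζ : Fˣ)) : F)) j)) n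
        (by omega) (by rw [h3])
      rw [map_sub, aeval_X, aeval_C, sub_eq_zero, Algebra.algebraMap_eq_smul_one,
        Matrix.smul_one_eq_diagonal, ← coe_evm] at h4
      have h5 : x' = scal (evm ζ j) := by
        apply mat_injective
        rw [h4, mat_scal]
      apply hx (evm ζ j * ν)
      rw [hxx, h5, scal_mul]
    have hc := isConj_of_charpoly_eq hF p x' (repT ζ a hsum) htame
      (coprime_of_pow_eq_one p _ r ((Nat.coprime_primes hr Fact.out).mpr hrp)
        (repT_pow ζ hζr a hsum))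
      (hch.trans (charpoly_repT ζ a hsum).symm)
    obtain ⟨g, hg⟩ := isConj_iff.mp hc
    refine ⟨Sum.inl ⟨a, hsum, hne⟩, g, ν, ?_⟩
    rw [hxx, conj_mul_scal, hg]
    rfl
  · -- the exceptional case
    set e : Qr F q r := QuotientGroup.mk l with hedef
    set l' : ↥(mu F q) := Quotient.out e with hl'
    have hmk : (QuotientGroup.mk l' : Qr F q r) = QuotientGroup.mk l := QuotientGroup.out_eq' e
    obtain ⟨ν, hν⟩ := (mk_eq_mk_iff l' l).mp hmk
    set x' := x * scal ν⁻¹ with hx'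
    have hxx : x = x' * scal ν := by
      rw [hx', mul_assoc, scal_mul, inv_mul_cancel, scal_one, mul_one]
    have hx'r : x' ^ r = scal l' := by
      rw [hx', mul_scal_pow, hxr, scal_mul, inv_pow, hν, mul_assoc, mul_inv_cancel, mul_one]
    have htame : (orderOf x').Coprime p := tame_of_pow_eq_scal hF p hr hrq x' l' hx'r
    have hnp : ∀ ν' : ↥(mu F q), ν' ^ r ≠ l' := by
      intro ν' h
      apply he
      rw [hedef, ← hmk, mk_eq_one_iff]
      exact ⟨ν', h⟩
    have hirr := irreducible_X_pow_sub_C hF hr hr2 hrq l' hnp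
    obtain ⟨k, hk, hch⟩ := charpoly_of_pow_eq_scal p x' htame hr.ne_zero l' hx'r hirr
    have hdvd : r ∣ n := ⟨k, by rw [← hk, mul_comm]⟩
    have hkn : n / r = k := Nat.div_eq_of_eq_mul_left hr.pos hk.symm
    let ee : Ex F q n r := ⟨e, he, hdvd⟩
    have hspec := repE_spec hF p hn ee
    have hc := isConj_of_charpoly_eq hF p x' (repE hF p hn ee) htame hspec.1
      (by rw [hch, hspec.2.2, hkn])
    obtain ⟨g, hg⟩ := isConj_iff.mp hc
    refine ⟨Sum.inr ee, g, ν, ?_⟩
    rw [hxx, conj_mul_scal, hg]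
    rfl

end Cfsg.Agent.Lib.H12.PGUOrd
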