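import Mathlib
import Cfsg.Agent.Lib.H12.PGUOrdH

/-!
# Classes of elements of odd prime order `r ∣ q + 1` in `PGU_n(q)`: the count (helper12)
-/

set_option autoImplicit false
open Polynomial

namespace Cfsg.Agent.Lib.H12.PGUOrd

open Cfsg.Agent.Lib.H12.Semi Cfsg.Agent.Lib.H12.USemi Cfsg.Agent.Lib.H12.SpOrd
  Cfsg.Agent.Lib.H12.GUOrd Cfsg.Agent.S0783 Cfsg.Agent.Lib.H12.RootCnt

universe u
variable {F : Type u} [Field F] [Fintype F] {q n : ℕ} {r : ℕ} [Fact r.Prime]

/-- the target of the classification map -/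
abbrev Tgt (F : Type u) [Field F] (q n r : ℕ) [Fact r.Prime] : Type u :=
  Quotient (AddAction.orbitRel (ZMod r) (Tup r n)) ⊕ Ex F q n r

/-- the classification map on parameters -/
def gmap : Param F q n r → Tgt F q n r :=
  Sum.map (Quotient.mk (AddAction.orbitRel (ZMod r) (Tup r n))) id

omit [Fintype F] in
theorem gmap_surjective : Function.Surjective (gmap : Param F q n r → Tgt F q n r) := by
  rintro (x | e)
  · obtain ⟨a, rfl⟩ := Quotient.exists_rep x
    exact ⟨Sum.inl a, rfl⟩
  · exact ⟨Sum.inr e, rfl⟩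

set_option maxHeartbeats 1600000 in
theorem rel_iff (hF : Fintype.card F = q ^ 2) (p : ℕ) [Fact p.Prime] [CharP F p]
    (hn : 1 ≤ n) (hrq : r ∣ q + 1) (ζ : ↥(mu F q))
    (hζ : IsPrimitiveRoot ((((ζ : Fˣ)) : F)) r) (P P' : Param F q n r) :
    (∃ (g : ↥(Cfsg.GU n F q)) (ν : ↥(mu F q)),
      g * rep hF p hn ζ P * g⁻¹ = rep hF p hn ζ P' * scal ν) ↔ gmap P = gmap P' := by
  classical
  have hr : r.Prime := Fact.out
  have hrp : r ≠ p := ne_char hF p hr hrq
  have hcop : r.Coprime p := (Nat.coprime_primes hr Fact.out).mpr hrp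
  have hζr : ζ ^ r = 1 := by
    apply Subtype.ext
    apply Units.ext
    rw [SubgroupClass.coe_pow, Units.val_pow_eq_pow_val]
    exact hζ.pow_eq_one
  constructor
  · rintro ⟨g, ν, hg⟩
    -- compare `r`-th powers
    have h1 : scal (lam P) = (scal (lam P' * ν ^ r) : ↥(Cfsg.GU n F q)) := by
      have h2 : (g * rep hF p hn ζ P * g⁻¹) ^ r = (rep hF p hn ζ P' * scal ν) ^ r := by rw [hg]
      rw [conj_pow, mul_scal_pow, rep_pow hF p hn ζ hζr, rep_pow hF p hn ζ hζr, scal_mul,
        scal_comm, mul_inv_cancel_right] at h2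
      exact h2
    have h3 := scal_injective (n := n) hn h1
    have h4 : (QuotientGroup.mk (lam P) : Qr F q r) = QuotientGroup.mk (lam P') :=
      ((mk_eq_mk_iff (lam P') (lam P)).mpr ⟨ν, h3⟩).symm
    rcases P with a | e <;> rcases P' with a' | e'
    · -- both ordinary
      have h5 : ν ^ r = 1 := by
        have : (1 : ↥(mu F q)) = 1 * ν ^ r := h3
        rw [one_mul] at this
        exact this.symm
      obtain ⟨k, rfl⟩ := mu_eq_evm ζ hζ ν h5
      change g * repT ζ a.val a.sum * g⁻¹ = repT ζ a'.val a'.sum * scal (evm ζ k) at hg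
      have h6 : (mat (repT ζ a.val a.sum)).charpoly =
          (mat (repT ζ a'.val a'.sum * scal (evm ζ k))).charpoly := by
        rw [← hg]
        exact charpoly_eq_of_isConj_GU (isConj_iff.mpr ⟨g, rfl⟩)
      rw [charpoly_repT, charpoly_repT_mul_scal ζ hζ] at h6
      have h7 := prodPoly_injective hζ h6
      show Sum.inl _ = Sum.inl _
      congr 1
      apply Quotient.sound
      show AddAction.orbitRel (ZMod r) (Tup r n) a a'
      rw [AddAction.orbitRel_apply, AddAction.mem_orbit_iff]
      refine ⟨-k, ?_⟩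
      apply Tup.ext
      funext j
      rw [vadd_val, h7]
      show a'.val (j + -k) = a'.val (j - k)
      rw [sub_eq_add_neg]
    · exfalso
      rw [mk_lam_inl, mk_lam_inr] at h4
      exact e'.2.1 h4.symm
    · exfalso
      rw [mk_lam_inl, mk_lam_inr] at h4
      exact e.2.1 h4
    · rw [mk_lam_inr, mk_lam_inr] at h4
      show Sum.inr e = Sum.inr e'
      congr 1
      exact Subtype.ext h4
  · intro h
    rcases P with a | e <;> rcases P' with a' | e'
    · have h1 : Quotient.mk (AddAction.orbitRel (ZMod r) (Tup r n)) a =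
          Quotient.mk (AddAction.orbitRel (ZMod r) (Tup r n)) a' := Sum.inl.inj h
      have h2 := Quotient.exact h1
      change AddAction.orbitRel (ZMod r) (Tup r n) a a' at h2
      rw [AddAction.orbitRel_apply, AddAction.mem_orbit_iff] at h2
      obtain ⟨m, hm⟩ := h2
      have h3 : (mat (repT ζ a.val a.sum)).charpoly =
          (mat (repT ζ a'.val a'.sum * scal (evm ζ (-m)))).charpoly := by
        rw [charpoly_repT, charpoly_repT_mul_scal ζ hζ]
        congr 1
        funext j
        rw [← hm, vadd_val, sub_neg_eq_add]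
      have ht1 : (orderOf (repT ζ a.val a.sum)).Coprime p :=
        coprime_of_pow_eq_one p _ r hcop (repT_pow ζ hζr a.val a.sum)
      have ht2 : (orderOf (repT ζ a'.val a'.sum * scal (evm ζ (-m)))).Coprime p := by
        apply coprime_of_pow_eq_one p _ r hcop
        rw [mul_scal_pow, repT_pow ζ hζr, evm_pow ζ hζr, scal_one, mul_one]
      obtain ⟨g, hg⟩ := isConj_iff.mp (isConj_of_charpoly_eq hF p _ _ ht1 ht2 h3)
      exact ⟨g, evm ζ (-m), hg⟩
    · exact absurd h (by simp [gmap])
    · exact absurd h (by simp [gmap])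
    · have h1 : e = e' := Sum.inr.inj h
      subst h1
      exact ⟨1, 1, by simp [scal_one]⟩

end Cfsg.Agent.Lib.H12.PGUOrd
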