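import Mathlib
import Cfsg.Agent.Lib.H12.PGUOrdI

/-!
# Classes of elements of odd prime order `r ∣ q + 1` in `PGU_n(q)`: final statement (helper12)
-/

set_option autoImplicit false
open Polynomial

namespace Cfsg.Agent.Lib.H12.PGUOrd

open Cfsg.Agent.Lib.H12.Semi Cfsg.Agent.Lib.H12.USemi Cfsg.Agent.Lib.H12.SpOrd
  Cfsg.Agent.Lib.H12.GUOrd Cfsg.Agent.S0783 Cfsg.Agent.Lib.H12.RootCnt

universe u
variable {F : Type u} [Field F] [Fintype F] {q n : ℕ} {r : ℕ} [Fact r.Prime]

theorem arith_final (o C r d : ℕ) (hr : 2 ≤ r) (hd : d = 0 ∨ d = 1)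
    (h1 : o * r + r = C + (r - 1) * d) (h2 : r ≤ C) :
    (C - r - d) / r + r * d = o + (r - 1) * d := by
  rcases hd with rfl | rfl
  · rw [mul_zero, add_zero] at h1
    rw [mul_zero, mul_zero, add_zero, add_zero, Nat.sub_zero]
    have h3 : C - r = o * r := by omega
    rw [h3, Nat.mul_div_cancel _ (by omega)]
  · rw [mul_one] at h1
    rw [mul_one, mul_one]
    have ho : 1 ≤ o := by
      by_contra h
      have : o = 0 := by omega
      subst this
      omega
    have h3 : C - r - 1 = (o - 1) * r := by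
      rw [Nat.sub_mul, one_mul]
      omega
    rw [h3, Nat.mul_div_cancel _ (by omega)]
    omega

set_option maxHeartbeats 1600000 in
theorem card_classes_PGU (hF : Fintype.card F = q ^ 2) (hn : 1 ≤ n) (hr2 : r ≠ 2)
    (hrq : r ∣ q + 1) :
    Nat.card {C : ConjClasses (↥(Cfsg.GU n F q) ⧸ Subgroup.center ↥(Cfsg.GU n F q)) //
      ∃ g : ↥(Cfsg.GU n F q) ⧸ Subgroup.center ↥(Cfsg.GU n F q),
        ConjClasses.mk g = C ∧ orderOf g = r} =
    (Nat.choose (n + r - 1) (r - 1) - r - (if r ∣ n then 1 else 0)) / r +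
      r * (if r ∣ n then 1 else 0) := by
  classical
  have hr : r.Prime := Fact.out
  -- the characteristic
  obtain ⟨p, hpc⟩ := CharP.exists F
  have hpp : p.Prime := by
    rcases CharP.char_is_prime_or_zero F p with h | h
    · exact h
    · exfalso
      subst h
      have := CharP.charP_to_charZero F
      exact not_finite F
  have : Fact p.Prime := ⟨hpp⟩
  obtain ⟨ζ, hζ⟩ := exists_zeta hF hr hrq
  have hζr : ζ ^ r = 1 := by
    apply Subtype.ext
    apply Units.ext
    rw [SubgroupClass.coe_pow, Units.val_pow_eq_pow_val]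
    exact hζ.pow_eq_one
  -- the class map
  have hord : ∀ P : Param F q n r,
      orderOf (QuotientGroup.mk (rep hF p hn ζ P) :
        ↥(Cfsg.GU n F q) ⧸ Subgroup.center ↥(Cfsg.GU n F q)) = r := by
    intro P
    rw [orderOf_mk_eq_prime_iff _ hr]
    constructor
    · intro hc
      obtain ⟨c, hc⟩ := (mem_center_iff hF hn _).mp hc
      exact rep_not_scal hF p hn ζ hζ P c hc
    · rw [rep_pow hF p hn ζ hζr]
      exact scal_mem_center _
  let cls : Param F q n r →
      {C : ConjClasses (↥(Cfsg.GU n F q) ⧸ Subgroup.center ↥(Cfsg.GU n F q)) //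
        ∃ g : ↥(Cfsg.GU n F q) ⧸ Subgroup.center ↥(Cfsg.GU n F q),
          ConjClasses.mk g = C ∧ orderOf g = r} :=
    fun P => ⟨ConjClasses.mk (QuotientGroup.mk (rep hF p hn ζ P)), _, rfl, hord P⟩
  have hsurj : Function.Surjective cls := by
    rintro ⟨C, gb, rfl, hgb⟩
    obtain ⟨x, rfl⟩ := QuotientGroup.mk_surjective gb
    rw [orderOf_mk_eq_prime_iff _ hr] at hgb
    obtain ⟨hx1, hx2⟩ := hgb
    obtain ⟨l, hl⟩ := (mem_center_iff hF hn _).mp hx2
    have hx : ∀ c : ↥(mu F q), x ≠ scal c := by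
      intro c hc
      apply hx1
      rw [hc]
      exact scal_mem_center c
    obtain ⟨P, g, ν, hg⟩ := exists_rep hF p hn hr2 hrq ζ hζ x hx l hl
    refine ⟨P, ?_⟩
    apply Subtype.ext
    show ConjClasses.mk _ = ConjClasses.mk _
    rw [ConjClasses.mk_eq_mk_iff_isConj]
    apply IsConj.symm
    rw [isConj_mk_iff]
    exact ⟨g, scal ν, scal_mem_center ν, hg⟩
  have hker : ∀ P P' : Param F q n r, cls P = cls P' ↔ gmap P = gmap P' := by
    intro P P'
    rw [← rel_iff hF p hn hrq ζ hζ P P']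
    constructor
    · intro h
      have h1 : ConjClasses.mk (QuotientGroup.mk (rep hF p hn ζ P) :
          ↥(Cfsg.GU n F q) ⧸ Subgroup.center ↥(Cfsg.GU n F q)) =
          ConjClasses.mk (QuotientGroup.mk (rep hF p hn ζ P')) := congrArg Subtype.val h
      rw [ConjClasses.mk_eq_mk_iff_isConj, isConj_mk_iff] at h1
      obtain ⟨g, z, hz, hg⟩ := h1
      obtain ⟨ν, rfl⟩ := (mem_center_iff hF hn _).mp hz
      exact ⟨g, ν, hg⟩
    · rintro ⟨g, ν, hg⟩
      apply Subtype.ext
      show ConjClasses.mk _ = ConjClasses.mk _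
      rw [ConjClasses.mk_eq_mk_iff_isConj, isConj_mk_iff]
      exact ⟨g, scal ν, scal_mem_center ν, hg⟩
  rw [card_eq_of_surj cls gmap hsurj gmap_surjective hker]
  have hfinQ : Finite (Qr F q r) := Quotient.finite _
  rw [Nat.card_sum, card_Ex hF hr hrq n]
  have hB := card_orbits_mul (r := r) (n := n) hn
  have hT := card_Tup (r := r) (n := n) hn
  have key := arith_final (Nat.card (Quotient (AddAction.orbitRel (ZMod r) (Tup r n))))
    ((n + r - 1).choose (r - 1)) r (if r ∣ n then 1 else 0) hr.two_le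
    (by split_ifs <;> simp) hB (by omega)
  rw [key]
  split_ifs <;> simp

end Cfsg.Agent.Lib.H12.PGUOrd
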