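import Mathlib

set_option autoImplicit false
set_option linter.unusedSectionVars false

/-!
# Endomorphisms commuting with a square-zero map in dimensions `2` and `3`
-/

open Module

namespace Cfsg.Agent.Lib.H12.PGraph

variable {F : Type*} [Field F] {V : Type*} [AddCommGroup V] [Module F V] [FiniteDimensional F V]

/-- dimension `2`: an endomorphism commuting with a nonzero square-zero map is scalar plus
square-zero -/
theorem exists_sub_sq_zero_of_finrank_two (h2 : finrank F V = 2) (P B : V →ₗ[F] V) (hP : P ≠ 0)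
    (hP2 : P * P = 0) (hPB : P * B = B * P) :
    ∃ β : F, (B - β • 1) * (B - β • 1) = 0 := by
  classical
  obtain ⟨v, hv⟩ : ∃ v, P v ≠ 0 := by
    by_contra hcon
    push Not at hcon
    exact hP (LinearMap.ext hcon)
  have hPP : ∀ u, P (P u) = 0 := fun u => by
    rw [← Module.End.mul_apply, hP2, LinearMap.zero_apply]
  have hPBv : ∀ u, P (B u) = B (P u) := fun u => by
    rw [← Module.End.mul_apply, hPB, Module.End.mul_apply]
  have hli : LinearIndependent F ![P v, v] := by
    rw [LinearIndependent.pair_iff]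
    intro s t hst
    have h1 := congrArg P hst
    rw [map_add, map_smul, map_smul, hPP, smul_zero, zero_add, map_zero] at h1
    have ht : t = 0 := (smul_eq_zero.1 h1).resolve_right hv
    rw [ht, zero_smul, add_zero] at hst
    exact ⟨(smul_eq_zero.1 hst).resolve_right hv, ht⟩
  let b : Basis (Fin 2) F V := basisOfLinearIndependentOfCardEqFinrank hli (by
    rw [Fintype.card_fin, h2])
  have hb0 : b 0 = P v := by
    change (basisOfLinearIndependentOfCardEqFinrank hli _) 0 = _
    rw [coe_basisOfLinearIndependentOfCardEqFinrank]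
    rfl
  have hb1 : b 1 = v := by
    change (basisOfLinearIndependentOfCardEqFinrank hli _) 1 = _
    rw [coe_basisOfLinearIndependentOfCardEqFinrank]
    rfl
  -- coordinates of `B v`
  have hBv : B v = (b.repr (B v) 0) • P v + (b.repr (B v) 1) • v := by
    conv_lhs => rw [← b.sum_repr (B v)]
    rw [Fin.sum_univ_two, hb0, hb1]
  set y := b.repr (B v) 0 with hy
  set β := b.repr (B v) 1 with hβ
  have hBPv : B (P v) = β • P v := by
    rw [← hPBv, hBv, map_add, map_smul, map_smul, hPP, smul_zero, zero_add]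
  refine ⟨β, ?_⟩
  apply b.ext
  intro i
  fin_cases i
  · change ((B - β • 1) * (B - β • 1)) (b 0) = (0 : V →ₗ[F] V) (b 0)
    rw [hb0, Module.End.mul_apply, LinearMap.zero_apply]
    have : (B - β • (1 : V →ₗ[F] V)) (P v) = 0 := by
      rw [LinearMap.sub_apply, LinearMap.smul_apply, Module.End.one_apply, hBPv, sub_self]
    rw [this, map_zero]
  · change ((B - β • 1) * (B - β • 1)) (b 1) = (0 : V →ₗ[F] V) (b 1)
    rw [hb1, Module.End.mul_apply, LinearMap.zero_apply]
    have h1 : (B - β • (1 : V →ₗ[F] V)) v = y • P v := by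
      rw [LinearMap.sub_apply, LinearMap.smul_apply, Module.End.one_apply]
      nth_rewrite 1 [hBv]
      abel
    have h2 : (B - β • (1 : V →ₗ[F] V)) (P v) = 0 := by
      rw [LinearMap.sub_apply, LinearMap.smul_apply, Module.End.one_apply, hBPv, sub_self]
    rw [h1, map_smul, h2, smul_zero]

/-- in characteristic `p`, scalar plus square-zero has scalar `p`-th power -/
theorem pow_char_of_sub_sq_zero (p : ℕ) [Fact p.Prime] [CharP F p] (B : V →ₗ[F] V) (β : F)
    (h : (B - β • 1) * (B - β • 1) = 0) : B ^ p = (β ^ p) • (1 : V →ₗ[F] V) := by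
  have hpp : p.Prime := Fact.out
  by_cases hV : Nontrivial V
  swap
  · rw [not_nontrivial_iff_subsingleton] at hV
    have : Subsingleton (V →ₗ[F] V) := ⟨fun f g => LinearMap.ext fun x => Subsingleton.elim _ _⟩
    exact Subsingleton.elim _ _
  have : CharP (V →ₗ[F] V) p :=
    charP_of_injective_algebraMap (algebraMap F (V →ₗ[F] V)).injective p
  have hcomm : Commute B (β • (1 : V →ₗ[F] V)) := by
    change B * (β • 1) = (β • 1) * B
    rw [mul_smul_comm, smul_mul_assoc, mul_one, one_mul]
  have h1 : (B - β • (1 : V →ₗ[F] V)) ^ p = 0 := by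
    have : p = 2 + (p - 2) := by have := hpp.two_le; omega
    rw [this, pow_add, pow_two, h, zero_mul]
  rw [sub_pow_char_of_commute p hcomm, sub_eq_zero] at h1
  rw [h1, smul_pow, one_pow]


/-- the upper triangular `3 × 3` computation -/
theorem mat_tri (β γ x y z ζ : F) (h3 : (3 : F) ≠ 0)
    (hβ : ∀ t : F, t ^ 9 = 1 → t ^ 3 = 1) (hdet : β * γ * β = 1)
    (hM : (!![β, x, y; 0, γ, z; 0, 0, β] : Matrix (Fin 3) (Fin 3) F) ^ 3 = ζ • 1) :
    x = 0 ∧ y = 0 ∧ z = 0 ∧ γ = β := by
  have e00 := congrFun (congrFun hM 0) 0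
  have e11 := congrFun (congrFun hM 1) 1
  have e01 := congrFun (congrFun hM 0) 1
  have e02 := congrFun (congrFun hM 0) 2
  have e12 := congrFun (congrFun hM 1) 2
  simp [pow_succ, Matrix.mul_apply, Fin.sum_univ_three, Matrix.smul_apply] at e00 e11 e01 e02 e12
  have hβ0 : β ≠ 0 := by
    rintro rfl
    simp at hdet
  have h9 : β ^ 9 = 1 := by
    have h : β ^ 9 = (β * β * β) * (β * β * β) * (β * β * β) := by ring
    calc β ^ 9 = (β * β * β) * (β * β * β) * (β * β * β) := h
      _ = (β * β * β) * (γ * γ * γ) * (β * β * β) := by rw [e00, e11]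
      _ = (β * γ * β) ^ 3 := by ring
      _ = 1 := by rw [hdet, one_pow]
  have hb3 : β ^ 3 = 1 := hβ β h9
  have hγ : γ = β := by
    calc γ = β ^ 3 * γ := by rw [hb3, one_mul]
      _ = β * (β * γ * β) := by ring
      _ = β := by rw [hdet, mul_one]
  subst hγ
  have hkey : ∀ t : F, 3 * (γ * γ) * t = 0 → t = 0 := by
    intro t ht
    rcases mul_eq_zero.1 ht with h | h
    · exfalso
      rcases mul_eq_zero.1 h with h | h
      · exact h3 h
      · exact hβ0 (mul_self_eq_zero.1 h)
    · exact h
  have hx : x = 0 := hkey x (by linear_combination e01)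
  have hz : z = 0 := hkey z (by linear_combination e12)
  subst hx hz
  have hy : y = 0 := hkey y (by linear_combination e02)
  exact ⟨rfl, hy, rfl, rfl⟩

/-- dimension `3`: an adapted basis for an endomorphism commuting with a nonzero square-zero map -/
theorem exists_tri_basis (h3 : finrank F V = 3) (P B : V →ₗ[F] V) (hP : P ≠ 0)
    (hP2 : P * P = 0) (hPB : P * B = B * P) :
    ∃ (b : Basis (Fin 3) F V) (β γ x y z : F), B (b 0) = β • b 0 ∧
      B (b 1) = x • b 0 + γ • b 1 ∧ B (b 2) = y • b 0 + z • b 1 + β • b 2 := by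
  classical
  obtain ⟨v, hv⟩ : ∃ v, P v ≠ 0 := by
    by_contra hcon
    push Not at hcon
    exact hP (LinearMap.ext hcon)
  have hPP : ∀ u, P (P u) = 0 := fun u => by
    rw [← Module.End.mul_apply, hP2, LinearMap.zero_apply]
  have hPBv : ∀ u, P (B u) = B (P u) := fun u => by
    rw [← Module.End.mul_apply, hPB, Module.End.mul_apply]
  -- the kernel has dimension at least two
  have hrk : LinearMap.range P ≤ LinearMap.ker P := by
    rintro _ ⟨u, rfl⟩
    exact LinearMap.mem_ker.2 (hPP u)
  have hker : 2 ≤ finrank F (LinearMap.ker P) := by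
    have h1 := LinearMap.finrank_range_add_finrank_ker P
    have h2 := Submodule.finrank_mono hrk
    omega
  obtain ⟨w, hwK, hwS⟩ : ∃ w, w ∈ LinearMap.ker P ∧ w ∉ Submodule.span F {P v} := by
    by_contra hcon
    push Not at hcon
    have h1 : LinearMap.ker P ≤ Submodule.span F {P v} := fun w hw => hcon w hw
    have h2 := Submodule.finrank_mono h1
    have h4 : finrank F (Submodule.span F {P v}) ≤ 1 := by
      have := finrank_span_le_card (R := F) ({P v} : Set V)
      simpa using this
    omega
  have hPw : P w = 0 := LinearMap.mem_ker.1 hwK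
  have hli : LinearIndependent F ![P v, w, v] := by
    rw [Fintype.linearIndependent_iff]
    intro g hg
    rw [Fin.sum_univ_three] at hg
    change g 0 • P v + g 1 • w + g 2 • v = 0 at hg
    have h1 := congrArg P hg
    rw [map_add, map_add, map_smul, map_smul, map_smul, hPP, hPw, smul_zero, smul_zero, zero_add,
      zero_add, map_zero] at h1
    have hg2 : g 2 = 0 := (smul_eq_zero.1 h1).resolve_right hv
    rw [hg2, zero_smul, add_zero] at hg
    have hg1 : g 1 = 0 := by
      by_contra hne
      apply hwS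
      rw [Submodule.mem_span_singleton]
      refine ⟨-(g 1)⁻¹ * g 0, ?_⟩
      have h5 : g 1 • w = -(g 0 • P v) := eq_neg_of_add_eq_zero_right hg
      have h6 : w = (g 1)⁻¹ • (g 1 • w) := by rw [smul_smul, inv_mul_cancel₀ hne, one_smul]
      rw [h6, h5, smul_neg, neg_mul, neg_smul, mul_smul]
    rw [hg1, zero_smul, add_zero] at hg
    have hg0 : g 0 = 0 := (smul_eq_zero.1 hg).resolve_right hv
    intro i
    fin_cases i
    · exact hg0
    · exact hg1
    · exact hg2
  let b : Basis (Fin 3) F V := basisOfLinearIndependentOfCardEqFinrank hli (by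
    rw [Fintype.card_fin, h3])
  have hb0 : b 0 = P v := by
    change (basisOfLinearIndependentOfCardEqFinrank hli _) 0 = _
    rw [coe_basisOfLinearIndependentOfCardEqFinrank]
    rfl
  have hb1 : b 1 = w := by
    change (basisOfLinearIndependentOfCardEqFinrank hli _) 1 = _
    rw [coe_basisOfLinearIndependentOfCardEqFinrank]
    rfl
  have hb2 : b 2 = v := by
    change (basisOfLinearIndependentOfCardEqFinrank hli _) 2 = _
    rw [coe_basisOfLinearIndependentOfCardEqFinrank]
    rfl
  have hexp : ∀ u : V, u = (b.repr u 0) • P v + (b.repr u 1) • w + (b.repr u 2) • v := by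
    intro u
    conv_lhs => rw [← b.sum_repr u]
    rw [Fin.sum_univ_three, hb0, hb1, hb2]
  have hBv := hexp (B v)
  have hBw := hexp (B w)
  set β := b.repr (B v) 2 with hβ
  have hBPv : B (P v) = β • P v := by
    rw [← hPBv, hBv, map_add, map_add, map_smul, map_smul, map_smul, hPP, hPw, smul_zero,
      smul_zero, zero_add, zero_add]
  have ht : b.repr (B w) 2 = 0 := by
    have h1 : P (B w) = 0 := by rw [hPBv, hPw, map_zero]
    rw [hBw, map_add, map_add, map_smul, map_smul, map_smul, hPP, hPw, smul_zero, smul_zero,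
      zero_add, zero_add] at h1
    exact (smul_eq_zero.1 h1).resolve_right hv
  rw [ht, zero_smul, add_zero] at hBw
  refine ⟨b, β, b.repr (B w) 1, b.repr (B w) 0, b.repr (B v) 0, b.repr (B v) 1, ?_, ?_, ?_⟩
  · rw [hb0]
    exact hBPv
  · rw [hb0, hb1]
    exact hBw
  · rw [hb0, hb1, hb2]
    exact hBv

/-- dimension `3`: the scalar conclusion -/
theorem eq_smul_one_of_finrank_three (h3 : finrank F V = 3) (P B : V →ₗ[F] V) (hP : P ≠ 0)
    (hP2 : P * P = 0) (hPB : P * B = B * P) (ζ : F) (hthree : (3 : F) ≠ 0)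
    (hβ : ∀ t : F, t ^ 9 = 1 → t ^ 3 = 1) (hdet : LinearMap.det B = 1)
    (hB3 : B ^ 3 = ζ • (1 : V →ₗ[F] V)) : ∃ β : F, B = β • (1 : V →ₗ[F] V) := by
  classical
  obtain ⟨b, β, γ, x, y, z, h0, h1, h2⟩ := exists_tri_basis h3 P B hP hP2 hPB
  have hM : LinearMap.toMatrixAlgEquiv b B = !![β, x, y; 0, γ, z; 0, 0, β] := by
    ext i j
    rw [LinearMap.toMatrixAlgEquiv_apply]
    fin_cases j
    · change (b.repr (B (b 0))) i = _
      rw [h0]
      fin_cases i <;> simp
    · change (b.repr (B (b 1))) i = _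
      rw [h1]
      fin_cases i <;> simp
    · change (b.repr (B (b 2))) i = _
      rw [h2]
      fin_cases i <;> simp
  have hdet' : β * γ * β = 1 := by
    have h4 : (LinearMap.toMatrix b b B).det = 1 := by rw [LinearMap.det_toMatrix, hdet]
    have h5 : LinearMap.toMatrix b b B = LinearMap.toMatrixAlgEquiv b B := rfl
    rw [h5, hM, Matrix.det_fin_three] at h4
    simp at h4
    linear_combination h4
  have hM3 : (!![β, x, y; 0, γ, z; 0, 0, β] : Matrix (Fin 3) (Fin 3) F) ^ 3 = ζ • 1 := by
    rw [← hM, ← map_pow, hB3, map_smul, map_one]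
  obtain ⟨rfl, rfl, rfl, rfl⟩ := mat_tri β γ x y z ζ hthree hβ hdet' hM3
  refine ⟨γ, ?_⟩
  apply (LinearMap.toMatrixAlgEquiv b).injective
  rw [hM, map_smul, map_one]
  ext i j
  fin_cases i <;> fin_cases j <;> simp

end Cfsg.Agent.Lib.H12.PGraph
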