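import Mathlib
import Cfsg.Agent.Lib.H12.CommUnip3
import Cfsg.Agent.Lib.H12.PGraphD
import Cfsg.Agent.Lib.H12.PGraphE

set_option autoImplicit false
set_option linter.unusedSectionVars false

/-!
# Non-adjacency of `r` and `p` in the prime graph of `PSL_n(q)`
-/

open Matrix Module

namespace Cfsg.Agent.Lib.H12.PGraph

variable {F : Type*} [Field F] [Fintype F] {n : ℕ}

/-- lifting a commuting pair of elements of orders `p` and `r` from `PSL_n` to `SL_n` -/
theorem exists_lifts (p : ℕ) [Fact p.Prime] [CharP F p] (hn : 1 ≤ n)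
    (a b : Matrix.ProjectiveSpecialLinearGroup (Fin n) F) (ha : orderOf a = p) (hab : Commute a b)
    (r : ℕ) (hrb : orderOf b = r) :
    ∃ (A B : Matrix.SpecialLinearGroup (Fin n) F) (l ζ : F),
      (QuotientGroup.mk B : Matrix.ProjectiveSpecialLinearGroup (Fin n) F) = b ∧ l ≠ 0 ∧ ζ ≠ 0 ∧
      A.val ^ p = l • (1 : Matrix (Fin n) (Fin n) F) ∧
      (∀ μ : F, A.val ≠ μ • (1 : Matrix (Fin n) (Fin n) F)) ∧
      B.val ^ r = ζ • (1 : Matrix (Fin n) (Fin n) F) ∧ A.val * B.val = B.val * A.val := by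
  classical
  have hpp : p.Prime := Fact.out
  obtain ⟨A, rfl⟩ := QuotientGroup.mk_surjective a
  obtain ⟨B, rfl⟩ := QuotientGroup.mk_surjective b
  have h1 : A ^ p ∈ Subgroup.center (Matrix.SpecialLinearGroup (Fin n) F) := by
    rw [← QuotientGroup.eq_one_iff, QuotientGroup.mk_pow, ← ha]
    exact pow_orderOf_eq_one _
  obtain ⟨l, hl, hAp⟩ := CommUnip.scalar_of_mem_center hn h1
  have h2 : B ^ r ∈ Subgroup.center (Matrix.SpecialLinearGroup (Fin n) F) := by
    rw [← QuotientGroup.eq_one_iff, QuotientGroup.mk_pow, ← hrb]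
    exact pow_orderOf_eq_one _
  obtain ⟨ζ, hζ, hBr⟩ := CommUnip.scalar_of_mem_center hn h2
  have hAns : ∀ μ : F, A.val ≠ μ • (1 : Matrix (Fin n) (Fin n) F) := by
    intro μ hμ
    have h3 := CommUnip.mem_center_of_scalar μ hμ
    rw [← QuotientGroup.eq_one_iff] at h3
    rw [h3, orderOf_one] at ha
    exact hpp.one_lt.ne ha
  have h4 : (B * A)⁻¹ * (A * B) ∈ Subgroup.center (Matrix.SpecialLinearGroup (Fin n) F) := by
    rw [← QuotientGroup.eq]
    have := hab.eq
    rw [QuotientGroup.mk_mul, QuotientGroup.mk_mul]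
    exact this.symm
  obtain ⟨z, hz, hzAB⟩ := CommUnip.scalar_of_mem_center hn h4
  have hAB' : A.val * B.val = z • (B.val * A.val) := by
    have h5 : (A * B).val = (B * A).val * ((B * A)⁻¹ * (A * B)).val := by
      rw [← Matrix.SpecialLinearGroup.coe_mul, mul_inv_cancel_left]
    rw [hzAB, Matrix.SpecialLinearGroup.coe_mul, Matrix.SpecialLinearGroup.coe_mul] at h5
    rw [h5, Matrix.mul_smul, mul_one]
  have hBu : IsUnit B.val := by
    rw [Matrix.isUnit_iff_isUnit_det, B.2]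
    exact isUnit_one
  have hAp' : A.val ^ p = l • (1 : Matrix (Fin n) (Fin n) F) := by
    rw [← hAp, Matrix.SpecialLinearGroup.coe_pow]
  have hBr' : B.val ^ r = ζ • (1 : Matrix (Fin n) (Fin n) F) := by
    rw [← hBr, Matrix.SpecialLinearGroup.coe_pow]
  have hAB : A.val * B.val = B.val * A.val :=
    CommUnip.scalar_comm_eq_one p A.val B.val z l hl hBu hAp' hAB'
  exact ⟨A, B, l, ζ, rfl, hl, hζ, hAp', hAns, hBr', hAB⟩

/-- a non-scalar matrix with scalar `p`-th power yields a nonzero square-zero matrix in its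
commutant's centre -/
theorem exists_sq_zero (p : ℕ) [Fact p.Prime] [CharP F p] (hn : 1 ≤ n)
    (A : Matrix (Fin n) (Fin n) F) (l : F) (hl : l ≠ 0)
    (hA : A ^ p = l • (1 : Matrix (Fin n) (Fin n) F))
    (hAns : ∀ μ : F, A ≠ μ • (1 : Matrix (Fin n) (Fin n) F)) :
    ∃ M : Matrix (Fin n) (Fin n) F, M ≠ 0 ∧ M * M = 0 ∧
      ∀ B : Matrix (Fin n) (Fin n) F, A * B = B * A → M * B = B * M := by
  classical
  have : Nonempty (Fin n) := ⟨⟨0, hn⟩⟩
  have hpp : p.Prime := Fact.out
  have : ExpChar F p := ExpChar.prime hpp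
  obtain ⟨μ, hμ⟩ : ∃ μ : F, μ ^ p = l :=
    (PerfectRing.bijective_frobenius (R := F) (p := p)).surjective l
  have hμ0 : μ ≠ 0 := by
    rintro rfl
    rw [zero_pow hpp.ne_zero] at hμ
    exact hl hμ.symm
  set A' : Matrix (Fin n) (Fin n) F := μ⁻¹ • A with hA'
  have hA'p : A' ^ p = 1 := by
    rw [hA', smul_pow, hA, smul_smul, inv_pow, hμ, inv_mul_cancel₀ hl, one_smul]
  set N : Matrix (Fin n) (Fin n) F := A' - 1 with hN
  have hNp : N ^ p = 0 := by
    rw [hN, sub_pow_char_of_commute p (Commute.one_right A'), hA'p, one_pow, sub_self]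
  have hN0 : N ≠ 0 := by
    intro h0
    have h1 : A' = 1 := sub_eq_zero.1 h0
    apply hAns μ
    rw [hA'] at h1
    have := congrArg (fun X => μ • X) h1
    simpa [smul_smul, mul_inv_cancel₀ hμ0] using this
  have hex : ∃ k, N ^ k = 0 := ⟨p, hNp⟩
  set k := Nat.find hex with hk
  have hk0 : N ^ k = 0 := Nat.find_spec hex
  have hk2 : 2 ≤ k := by
    by_contra hlt
    have : k = 0 ∨ k = 1 := by omega
    rcases this with h | h
    · rw [h, pow_zero] at hk0
      exact one_ne_zero hk0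
    · rw [h, pow_one] at hk0
      exact hN0 hk0
  refine ⟨N ^ (k - 1), ?_, ?_, ?_⟩
  · intro h0
    have := Nat.find_min hex (m := k - 1) (by omega)
    exact this h0
  · rw [← pow_add]
    have : k - 1 + (k - 1) = k + (k - 2) := by omega
    rw [this, pow_add, hk0, zero_mul]
  · intro B hAB
    have hNB : N * B = B * N := by
      rw [hN, sub_mul, mul_sub, one_mul, mul_one, hA', Matrix.smul_mul, Matrix.mul_smul, hAB]
    exact ((Commute.pow_left (show Commute N B from hNB) (k - 1))).eq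

/-- `PSL_2(q)` has no element of order `r * p` -/
theorem no_rp_two (p : ℕ) [Fact p.Prime] [CharP F p]
    (x : Matrix.ProjectiveSpecialLinearGroup (Fin 2) F) (r : ℕ) (hr : r.Prime) (hrp : r ≠ p) :
    orderOf x ≠ r * p := by
  classical
  intro hx
  have hpp : p.Prime := Fact.out
  have ha : orderOf (x ^ r) = p := by
    rw [orderOf_pow_of_dvd hr.ne_zero (by rw [hx]; exact dvd_mul_right r p), hx,
      Nat.mul_div_cancel_left _ hr.pos]
  have hb : orderOf (x ^ p) = r := by
    rw [orderOf_pow_of_dvd hpp.ne_zero (by rw [hx]; exact dvd_mul_left p r), hx,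
      Nat.mul_div_cancel _ hpp.pos]
  have hab : Commute (x ^ r) (x ^ p) := (Commute.refl x).pow_pow r p
  obtain ⟨A, B, l, ζ, hBb, hl, hζ, hAp, hAns, hBr, hAB⟩ :=
    exists_lifts p (by omega) (x ^ r) (x ^ p) ha hab r hb
  obtain ⟨M, hM0, hM2, hMc⟩ := exists_sq_zero p (by omega) A.val l hl hAp hAns
  have hMB := hMc B.val hAB
  set φ := (Matrix.toLinAlgEquiv' : Matrix (Fin 2) (Fin 2) F ≃ₐ[F] _) with hφ
  have h1 : φ M ≠ 0 := by
    intro h
    exact hM0 (φ.injective (by rw [h, map_zero]))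
  have h2 : φ M * φ M = 0 := by rw [← map_mul, hM2, map_zero]
  have h3 : φ M * φ B.val = φ B.val * φ M := by rw [← map_mul, ← map_mul, hMB]
  obtain ⟨β, hβ⟩ := exists_sub_sq_zero_of_finrank_two (by rw [Module.finrank_fin_fun])
    (φ M) (φ B.val) h1 h2 h3
  have h4 := pow_char_of_sub_sq_zero p (φ B.val) β hβ
  have h5 : B.val ^ p = (β ^ p) • (1 : Matrix (Fin 2) (Fin 2) F) := by
    apply φ.injective
    rw [map_pow, h4, map_smul, map_one]
  have h6 : B ^ p ∈ Subgroup.center (Matrix.SpecialLinearGroup (Fin 2) F) := by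
    apply CommUnip.mem_center_of_scalar (β ^ p)
    rw [Matrix.SpecialLinearGroup.coe_pow, h5]
  rw [← QuotientGroup.eq_one_iff, QuotientGroup.mk_pow, hBb] at h6
  have h7 := orderOf_dvd_of_pow_eq_one h6
  rw [hb] at h7
  exact hrp ((Nat.prime_dvd_prime_iff_eq hr hpp).1 h7)

/-- `PSL_n(q)` has no element of order `r * p` when `ord_r(q) > n - 2` -/
theorem no_rp_of_lt (p : ℕ) [Fact p.Prime] [CharP F p] (hn : 2 ≤ n)
    (x : Matrix.ProjectiveSpecialLinearGroup (Fin n) F) (r : ℕ) (hr : r.Prime) (hrp : r ≠ p)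
    (hk : n - 2 < orderOf ((Fintype.card F : ℕ) : ZMod r)) : orderOf x ≠ r * p := by
  classical
  rcases Nat.eq_or_lt_of_le hn with h2 | h3
  · subst h2
    exact no_rp_two p x r hr hrp
  intro hx
  have hpp : p.Prime := Fact.out
  have hq1 : 1 ≤ Fintype.card F := Fintype.card_pos
  have ha : orderOf (x ^ r) = p := by
    rw [orderOf_pow_of_dvd hr.ne_zero (by rw [hx]; exact dvd_mul_right r p), hx,
      Nat.mul_div_cancel_left _ hr.pos]
  have hb : orderOf (x ^ p) = r := by
    rw [orderOf_pow_of_dvd hpp.ne_zero (by rw [hx]; exact dvd_mul_left p r), hx,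
      Nat.mul_div_cancel _ hpp.pos]
  have hab : Commute (x ^ r) (x ^ p) := (Commute.refl x).pow_pow r p
  obtain ⟨A, B, l, ζ, hBb, hl, hζ, hAp, hAns, hBr, hAB⟩ :=
    exists_lifts p (by omega) (x ^ r) (x ^ p) ha hab r hb
  rcases CommUnip.matrix_core p r hr hrp (by omega) A.val B.val l ζ hl hζ hAp hAns hBr hAB with
    h | ⟨m, hm1, hm2, hm3⟩
  · have h6 : B ^ (Fintype.card F - 1) = 1 := by
      apply Subtype.val_injective
      rw [Matrix.SpecialLinearGroup.coe_pow]
      exact h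
    have h7 : (x ^ p) ^ (Fintype.card F - 1) = 1 := by
      rw [← hBb, ← QuotientGroup.mk_pow, h6]
      rfl
    have h8 : r ∣ Fintype.card F ^ 1 - 1 := by
      rw [pow_one, ← hb]
      exact orderOf_dvd_of_pow_eq_one h7
    rw [dvd_pow_sub_one_iff' _ _ hq1] at h8
    have := Nat.le_of_dvd one_pos h8
    omega
  · rcases CommUnip.prime_dvd_prod (Fintype.card F) m r hr hm3 with h | ⟨j, hj0, hjm, hj⟩
    · obtain ⟨e, -, he⟩ := FiniteField.card F p
      rw [he] at h
      have := hr.dvd_of_dvd_pow h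
      exact hrp ((Nat.prime_dvd_prime_iff_eq hr hpp).1 this)
    · rw [dvd_pow_sub_one_iff' _ _ hq1] at hj
      have := Nat.le_of_dvd hj0 hj
      omega

/-- `PSL_3(q)` has no element of order `3 p` when `3` divides `q - 1` exactly once -/
theorem no_3p_three (p : ℕ) [Fact p.Prime] [CharP F p] (hp3 : p ≠ 3)
    (x : Matrix.ProjectiveSpecialLinearGroup (Fin 3) F)
    (h3 : 3 ∣ Fintype.card F - 1) (h9 : ¬ 9 ∣ Fintype.card F - 1) : orderOf x ≠ 3 * p := by
  classical
  intro hx
  have hpp : p.Prime := Fact.out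
  have hr : (3 : ℕ).Prime := Nat.prime_three
  have ha : orderOf (x ^ 3) = p := by
    rw [orderOf_pow_of_dvd (by norm_num) (by rw [hx]; exact dvd_mul_right 3 p), hx,
      Nat.mul_div_cancel_left _ (by norm_num)]
  have hb : orderOf (x ^ p) = 3 := by
    rw [orderOf_pow_of_dvd hpp.ne_zero (by rw [hx]; exact dvd_mul_left p 3), hx,
      Nat.mul_div_cancel _ hpp.pos]
  have hab : Commute (x ^ 3) (x ^ p) := (Commute.refl x).pow_pow 3 p
  obtain ⟨A, B, l, ζ, hBb, hl, hζ, hAp, hAns, hBr, hAB⟩ :=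
    exists_lifts p (by omega) (x ^ 3) (x ^ p) ha hab 3 hb
  obtain ⟨M, hM0, hM2, hMc⟩ := exists_sq_zero p (by omega) A.val l hl hAp hAns
  have hMB := hMc B.val hAB
  set φ := (Matrix.toLinAlgEquiv' : Matrix (Fin 3) (Fin 3) F ≃ₐ[F] _) with hφ
  have h1 : φ M ≠ 0 := by
    intro h
    exact hM0 (φ.injective (by rw [h, map_zero]))
  have h2 : φ M * φ M = 0 := by rw [← map_mul, hM2, map_zero]
  have h3' : φ M * φ B.val = φ B.val * φ M := by rw [← map_mul, ← map_mul, hMB]
  have hthree : (3 : F) ≠ 0 := by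
    intro h
    have h4 : ((3 : ℕ) : F) = 0 := by exact_mod_cast h
    rw [CharP.cast_eq_zero_iff F p] at h4
    exact hp3 ((Nat.prime_dvd_prime_iff_eq hpp hr).1 h4)
  have hβ : ∀ t : F, t ^ 9 = 1 → t ^ 3 = 1 := by
    intro t ht
    have ht0 : t ≠ 0 := by
      rintro rfl
      simp at ht
    have h4 : t ^ (Fintype.card F - 1) = 1 := FiniteField.pow_card_sub_one_eq_one t ht0
    have h5 : t ^ (Nat.gcd 9 (Fintype.card F - 1)) = 1 := pow_gcd_eq_one.2 ⟨ht, h4⟩
    have h6 : Nat.gcd 9 (Fintype.card F - 1) = 3 := by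
      have h7 : Nat.gcd 9 (Fintype.card F - 1) ∣ 3 ^ 2 := Nat.gcd_dvd_left _ _
      obtain ⟨i, hi, hgi⟩ := (Nat.dvd_prime_pow hr).1 h7
      have h8 : 3 ∣ Nat.gcd 9 (Fintype.card F - 1) := Nat.dvd_gcd (by norm_num) h3
      interval_cases i
      · rw [hgi] at h8
        norm_num at h8
      · rw [hgi]
        norm_num
      · exfalso
        apply h9
        have : Nat.gcd 9 (Fintype.card F - 1) ∣ Fintype.card F - 1 := Nat.gcd_dvd_right _ _
        rw [hgi] at this
        exact this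
    rw [h6] at h5
    exact h5
  have hdet : LinearMap.det (φ B.val) = 1 := by
    change LinearMap.det (Matrix.toLin' B.val) = 1
    rw [LinearMap.det_toLin', B.2]
  have hB3 : (φ B.val) ^ 3 = ζ • (1 : (Fin 3 → F) →ₗ[F] (Fin 3 → F)) := by
    rw [← map_pow, hBr, map_smul, map_one]
  obtain ⟨β, hβB⟩ := eq_smul_one_of_finrank_three (by rw [Module.finrank_fin_fun])
    (φ M) (φ B.val) h1 h2 h3' ζ hthree hβ hdet hB3
  have h5 : B.val = β • (1 : Matrix (Fin 3) (Fin 3) F) := by
    apply φ.injective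
    rw [hβB, map_smul, map_one]
  have h6 := CommUnip.mem_center_of_scalar β h5
  rw [← QuotientGroup.eq_one_iff, hBb] at h6
  rw [h6, orderOf_one] at hb
  norm_num at hb

end Cfsg.Agent.Lib.H12.PGraph
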