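import Mathlib
import Cfsg.Agent.Lib.H12.CommUnip3
import Cfsg.Agent.Lib.H12.PGraphD

set_option autoImplicit false
set_option linter.unusedSectionVars false

/-!
# Adjacency of `r` and `p` in the prime graph of `PSL_n(q)`: explicit elements
-/

open Matrix Module

namespace Cfsg.Agent.Lib.H12.PGraph

variable {F : Type*} [Field F] [Fintype F]

/-- `GL_2(q)` has an element of order `p` -/
theorem exists_GL_two_orderOf_char (p : ℕ) [Fact p.Prime] [CharP F p] :
    ∃ u : GL (Fin 2) F, orderOf u = p := by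
  classical
  apply exists_prime_orderOf_dvd_card' p
  rw [Matrix.card_GL_field, Fin.prod_univ_two]
  have hpq : p ∣ Fintype.card F := by
    rw [← CharP.cast_eq_zero_iff F p]
    exact FiniteField.cast_card_eq_zero F
  apply Dvd.dvd.mul_left
  have : Fintype.card F ^ 2 - Fintype.card F ^ ((1 : Fin 2) : ℕ) =
      Fintype.card F * (Fintype.card F - 1) := by
    change Fintype.card F ^ 2 - Fintype.card F ^ 1 = _
    rw [pow_one, Nat.mul_sub, mul_one, pow_two]
  rw [this]
  exact Dvd.dvd.mul_right hpq _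

/-- the case `ord_r(q) ≥ 2`: a Singer element of order `r` next to a `p`-element -/
theorem exists_rp_of_two_le (p : ℕ) [Fact p.Prime] [CharP F p] {n : ℕ} (r k : ℕ) (hr : r.Prime)
    (hrp : r ≠ p) (hk : k = orderOf ((Fintype.card F : ℕ) : ZMod r)) (hk2 : 2 ≤ k)
    (hkn : k + 2 ≤ n) :
    ∃ x : Matrix.ProjectiveSpecialLinearGroup (Fin n) F, orderOf x = r * p := by
  classical
  have hpp : p.Prime := Fact.out
  have hq1 : 1 ≤ Fintype.card F := Fintype.card_pos
  have hq2 : 2 ≤ Fintype.card F := Fintype.one_lt_card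
  have hrk : r ∣ Fintype.card F ^ k - 1 := by
    rw [dvd_pow_sub_one_iff' _ _ hq1, hk]
  obtain ⟨g₁, hg₁⟩ := exists_orderOf_of_dvd (F := F) (by omega : 1 ≤ k) hrk
  obtain ⟨u, hu⟩ := exists_GL_two_orderOf_char (F := F) p
  obtain ⟨g₃, hg₃⟩ := exists_orderOf_lcm g₁ u
  obtain ⟨g, hg⟩ := exists_orderOf_of_le hkn g₃
  have hcop : Nat.Coprime r p := (Nat.coprime_primes hr hpp).2 hrp
  have hgo : orderOf g = r * p := by
    rw [hg, hg₃, hg₁, hu, Nat.Coprime.lcm_eq_mul hcop]
  have hr1 : ¬ r ∣ Fintype.card F - 1 := by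
    intro h
    have h1 : r ∣ Fintype.card F ^ 1 - 1 := by rwa [pow_one]
    rw [dvd_pow_sub_one_iff' _ _ hq1, ← hk] at h1
    have := Nat.le_of_dvd one_pos h1
    omega
  have hp1 : ¬ p ∣ Fintype.card F - 1 := by
    intro h
    have hpq : p ∣ Fintype.card F := by
      rw [← CharP.cast_eq_zero_iff F p]
      exact FiniteField.cast_card_eq_zero F
    have h2 : p ∣ 1 := by
      have h3 := Nat.dvd_sub hpq h
      have h4 : Fintype.card F - (Fintype.card F - 1) = 1 := by omega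
      rwa [h4] at h3
    exact hpp.one_lt.ne' (Nat.dvd_one.1 h2)
  have hc : (orderOf g).Coprime (Fintype.card F - 1) := by
    rw [hgo]
    exact Nat.Coprime.mul_left ((Nat.Prime.coprime_iff_not_dvd hr).2 hr1)
      ((Nat.Prime.coprime_iff_not_dvd hpp).2 hp1)
  obtain ⟨x, hx⟩ := exists_PSL_of_GL (by omega) g hc
  exact ⟨x, by rw [hx, hgo]⟩

section explicit

variable (m : ℕ) (a : F)

/-- the diagonal `(a, a, a⁻², 1, …, 1)` -/
def dvec : Fin (m + 3) → F := Fin.cons a (Fin.cons a (Fin.cons ((a⁻¹) ^ 2) (fun _ => 1)))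

theorem prod_dvec (ha : a ≠ 0) : ∏ i, dvec m a i = 1 := by
  unfold dvec
  rw [Fin.prod_cons, Fin.prod_cons, Fin.prod_cons]
  simp only [Finset.prod_const_one, mul_one]
  field_simp

theorem dvec_zero : dvec m a 0 = a := rfl

theorem dvec_one : dvec m a (Fin.succ 0) = a := rfl

theorem dvec_two : dvec m a (Fin.succ (Fin.succ 0)) = (a⁻¹) ^ 2 := rfl

theorem dvec_succ (i : Fin m) : dvec m a (Fin.succ (Fin.succ (Fin.succ i))) = 1 := rfl

/-- the matrix `diag(a, a, a⁻², 1, …) · (1 + E₀₁)` -/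
def xmat : Matrix (Fin (m + 3)) (Fin (m + 3)) F :=
  Matrix.diagonal (dvec m a) * Matrix.transvection 0 (Fin.succ 0) 1

theorem ne01 : (0 : Fin (m + 3)) ≠ Fin.succ 0 := (Fin.succ_ne_zero 0).symm

theorem det_xmat (ha : a ≠ 0) : (xmat m a).det = 1 := by
  unfold xmat
  rw [Matrix.det_mul, Matrix.det_diagonal, prod_dvec m a ha,
    Matrix.det_transvection_of_ne _ _ (ne01 m), mul_one]

theorem transvection_pow (j : ℕ) :
    (Matrix.transvection (0 : Fin (m + 3)) (Fin.succ 0) (1 : F)) ^ j =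
      Matrix.transvection 0 (Fin.succ 0) (j : F) := by
  induction j with
  | zero => rw [pow_zero, Nat.cast_zero, Matrix.transvection_zero]
  | succ j ih =>
    rw [pow_succ, ih, Matrix.transvection_mul_transvection_same _ _ (ne01 m), Nat.cast_succ]

theorem commute_diag_transvection :
    Commute (Matrix.diagonal (dvec m a)) (Matrix.transvection (0 : Fin (m + 3)) (Fin.succ 0) 1) := by
  change _ * _ = _ * _
  ext i j
  rw [Matrix.diagonal_mul, Matrix.mul_diagonal]
  unfold Matrix.transvection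
  rw [Matrix.add_apply, Matrix.one_apply, Matrix.single_apply]
  by_cases h1 : (0 : Fin (m + 3)) = i ∧ (Fin.succ 0 : Fin (m + 3)) = j
  · obtain ⟨rfl, rfl⟩ := h1
    rw [dvec_zero, dvec_one, mul_comm]
  · rw [if_neg h1, add_zero]
    by_cases h2 : i = j
    · subst h2
      rw [mul_comm]
    · rw [if_neg h2, mul_zero, zero_mul]

theorem xmat_pow (j : ℕ) :
    (xmat m a) ^ j = Matrix.diagonal (fun i => dvec m a i ^ j) *
      Matrix.transvection 0 (Fin.succ 0) (j : F) := by
  unfold xmat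
  rw [(commute_diag_transvection m a).mul_pow, Matrix.diagonal_pow, transvection_pow]
  rfl

theorem xmat_pow_apply (j : ℕ) (i i' : Fin (m + 3)) :
    ((xmat m a) ^ j) i i' = dvec m a i ^ j *
      ((1 : Matrix (Fin (m + 3)) (Fin (m + 3)) F) i i' +
        Matrix.single (0 : Fin (m + 3)) (Fin.succ 0) (j : F) i i') := by
  rw [xmat_pow, Matrix.diagonal_mul]
  rfl

variable (p : ℕ) [Fact p.Prime] [CharP F p]

/-- when a power of `xmat` is scalar -/
theorem xmat_pow_scalar (ha : a ≠ 0) (j : ℕ) (c : F)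
    (h : (xmat m a) ^ j = c • (1 : Matrix (Fin (m + 3)) (Fin (m + 3)) F)) :
    p ∣ j ∧ a ^ (3 * j) = 1 ∧ (1 ≤ m → a ^ j = 1) := by
  have e01 := congrFun (congrFun h 0) (Fin.succ 0)
  have e00 := congrFun (congrFun h 0) 0
  have e22 := congrFun (congrFun h (Fin.succ (Fin.succ 0))) (Fin.succ (Fin.succ 0))
  rw [xmat_pow_apply, Matrix.smul_apply, Matrix.one_apply_ne (ne01 m), Matrix.single_apply_same,
    dvec_zero, zero_add, smul_eq_mul, mul_zero] at e01
  have h02 : (0 : Fin (m + 3)) ≠ Fin.succ (Fin.succ 0) := (Fin.succ_ne_zero _).symm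
  rw [xmat_pow_apply, Matrix.smul_apply, Matrix.one_apply_eq,
    Matrix.single_apply_of_ne _ _ _ _ _ (by
      rintro ⟨-, h⟩
      exact (ne01 m) h.symm), dvec_zero, add_zero, smul_eq_mul, mul_one, mul_one] at e00
  rw [xmat_pow_apply, Matrix.smul_apply, Matrix.one_apply_eq,
    Matrix.single_apply_of_ne _ _ _ _ _ (by
      rintro ⟨h, -⟩
      exact h02 h), dvec_two, add_zero, smul_eq_mul, mul_one, mul_one] at e22
  have hj0 : (j : F) = 0 := by
    rcases mul_eq_zero.1 e01 with h1 | h1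
    · exact absurd h1 (pow_ne_zero _ ha)
    · exact h1
  refine ⟨(CharP.cast_eq_zero_iff F p j).1 hj0, ?_, ?_⟩
  · have h3 : a ^ j = ((a⁻¹) ^ 2) ^ j := by rw [e00, e22]
    have h4 : a ^ (3 * j) = a ^ j * (a ^ 2) ^ j := by
      rw [← pow_mul, ← pow_add]
      congr 1
      ring
    rw [h4, h3, ← mul_pow, ← mul_pow, inv_mul_cancel₀ ha, one_pow, one_pow]
  · intro hm
    have e33 := congrFun (congrFun h (Fin.succ (Fin.succ (Fin.succ ⟨0, hm⟩))))
      (Fin.succ (Fin.succ (Fin.succ ⟨0, hm⟩)))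
    have h03 : (0 : Fin (m + 3)) ≠ Fin.succ (Fin.succ (Fin.succ ⟨0, hm⟩)) :=
      (Fin.succ_ne_zero _).symm
    rw [xmat_pow_apply, Matrix.smul_apply, Matrix.one_apply_eq,
      Matrix.single_apply_of_ne _ _ _ _ _ (by
        rintro ⟨h, -⟩
        exact h03 h), dvec_succ, add_zero, smul_eq_mul, mul_one, mul_one, one_pow] at e33
    rw [e00, ← e33]

theorem xmat_pow_eq_scalar (ha : a ≠ 0) (j : ℕ) (hpj : p ∣ j) (h3 : a ^ (3 * j) = 1)
    (hm : 1 ≤ m → a ^ j = 1) :
    (xmat m a) ^ j = (a ^ j) • (1 : Matrix (Fin (m + 3)) (Fin (m + 3)) F) := by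
  have hj0 : (j : F) = 0 := (CharP.cast_eq_zero_iff F p j).2 hpj
  rw [xmat_pow, hj0, Matrix.transvection_zero, mul_one, Matrix.smul_one_eq_diagonal]
  congr 1
  funext i
  refine Fin.cases ?_ (fun i => ?_) i
  · rw [dvec_zero]
  · refine Fin.cases ?_ (fun i => ?_) i
    · rw [dvec_one]
    · refine Fin.cases ?_ (fun i => ?_) i
      · rw [dvec_two]
        have h4 : a ^ (3 * j) = a ^ j * (a ^ 2) ^ j := by
          rw [← pow_mul, ← pow_add]
          congr 1
          ring
        have h5 : ((a⁻¹) ^ 2) ^ j * (a ^ 2) ^ j = 1 := by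
          rw [← mul_pow, ← mul_pow, inv_mul_cancel₀ ha, one_pow, one_pow]
        have h6 : (a ^ 2) ^ j ≠ 0 := pow_ne_zero _ (pow_ne_zero _ ha)
        have h7 : a ^ j * (a ^ 2) ^ j = 1 := by rw [← h4, h3]
        exact mul_right_cancel₀ h6 (by rw [h5, h7])
      · rw [dvec_succ, one_pow]
        have : 1 ≤ m := by
          have := i.2
          omega
        rw [hm this]

/-- the explicit element of order `r * p` -/
theorem exists_rp_of_explicit (ha : a ≠ 0) (r : ℕ) (hr : r.Prime) (hrp : r ≠ p)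
    (hcond : ∀ j : ℕ, (a ^ (3 * j) = 1 ∧ (1 ≤ m → a ^ j = 1)) ↔ r ∣ j) :
    ∃ x : Matrix.ProjectiveSpecialLinearGroup (Fin (m + 3)) F, orderOf x = r * p := by
  classical
  have hpp : p.Prime := Fact.out
  have hcop : Nat.Coprime r p := (Nat.coprime_primes hr hpp).2 hrp
  set X : Matrix.SpecialLinearGroup (Fin (m + 3)) F := ⟨xmat m a, det_xmat m a ha⟩ with hX
  have hXv : ∀ j : ℕ, (X ^ j).val = (xmat m a) ^ j := by
    intro j
    rw [Matrix.SpecialLinearGroup.coe_pow]
  have hiff : ∀ j : ℕ, ((QuotientGroup.mk X :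
      Matrix.ProjectiveSpecialLinearGroup (Fin (m + 3)) F) ^ j = 1) ↔ r * p ∣ j := by
    intro j
    rw [← QuotientGroup.mk_pow, QuotientGroup.eq_one_iff]
    constructor
    · intro h
      obtain ⟨c, -, hc⟩ := CommUnip.scalar_of_mem_center (by omega) h
      rw [hXv] at hc
      obtain ⟨h1, h2, h3⟩ := xmat_pow_scalar m a p ha j c hc
      exact Nat.Coprime.mul_dvd_of_dvd_of_dvd hcop ((hcond j).1 ⟨h2, h3⟩) h1
    · intro h
      have h1 : p ∣ j := (dvd_mul_left p r).trans h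
      have h2 : r ∣ j := (dvd_mul_right r p).trans h
      obtain ⟨h3, h4⟩ := (hcond j).2 h2
      apply CommUnip.mem_center_of_scalar (a ^ j)
      rw [hXv]
      exact xmat_pow_eq_scalar m a p ha j h1 h3 h4
  refine ⟨QuotientGroup.mk X, ?_⟩
  apply Nat.dvd_antisymm
  · exact orderOf_dvd_of_pow_eq_one ((hiff _).2 dvd_rfl)
  · exact (hiff _).1 (pow_orderOf_eq_one _)

end explicit

end Cfsg.Agent.Lib.H12.PGraph
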