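import Mathlib

/-!
# Element orders in `PSL_3(q)` and `PSU_3(q)`: general lemmas (helper12)

Orders in quotient groups, divisibility of `X^N - s` by characteristic polynomials, elements of a
finite extension fixed by the Frobenius map.
-/

set_option autoImplicit false
set_option linter.unusedSectionVars false
open Polynomial

namespace Cfsg.Agent.Lib.H12.Spec

section group

variable {G : Type*} [Group G]

theorem orderOf_mk_dvd (N : Subgroup G) [N.Normal] (g : G) (k : ℕ) (h : g ^ k ∈ N) :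
    orderOf (QuotientGroup.mk g : G ⧸ N) ∣ k := by
  apply orderOf_dvd_of_pow_eq_one
  rw [← QuotientGroup.mk_pow]
  exact (QuotientGroup.eq_one_iff _).mpr h

theorem dvd_orderOf_mk (N : Subgroup G) [N.Normal] (g : G) (L : ℕ)
    (h : ∀ k, g ^ k ∈ N → L ∣ k) : L ∣ orderOf (QuotientGroup.mk g : G ⧸ N) := by
  apply h
  rw [← QuotientGroup.eq_one_iff, QuotientGroup.mk_pow, pow_orderOf_eq_one]

theorem exists_orderOf_eq {H : Type*} [Group H] [Finite H] (x : H) (m : ℕ) (hm : m ∣ orderOf x) :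
    ∃ y : H, orderOf y = m := by
  obtain ⟨c, hc⟩ := hm
  have hpos := orderOf_pos x
  have hc0 : c ≠ 0 := by
    rintro rfl
    rw [mul_zero] at hc
    omega
  refine ⟨x ^ c, ?_⟩
  rw [orderOf_pow_of_dvd hc0 (Dvd.intro_left m hc.symm), hc]
  exact Nat.mul_div_cancel m (Nat.pos_of_ne_zero hc0)

/-- if `L` divides the order of some element and `m ∣ L`, then `m` is an element order -/
theorem exists_orderOf_eq_of_dvd_dvd {H : Type*} [Group H] [Finite H] (x : H) (L m : ℕ)
    (hL : L ∣ orderOf x) (hm : m ∣ L) : ∃ y : H, orderOf y = m :=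
  exists_orderOf_eq x m (hm.trans hL)

end group

section poly

variable {F : Type*} [Field F]

theorem pow_eq_smul_of_charpoly_dvd {n : Type*} [Fintype n] [DecidableEq n] (A : Matrix n n F)
    (N : ℕ) (s : F) (h : A.charpoly ∣ X ^ N - C s) : A ^ N = s • (1 : Matrix n n F) := by
  obtain ⟨R, hR⟩ := h
  have h1 := congrArg (Polynomial.aeval A) hR
  rw [map_mul, Matrix.aeval_self_charpoly, zero_mul, map_sub, map_pow, aeval_X, aeval_C,
    sub_eq_zero] at h1
  rw [h1, Algebra.algebraMap_eq_smul_one]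

theorem X_sub_C_dvd_X_pow_sub_C (a s : F) (N : ℕ) (h : a ^ N = s) :
    (X - C a) ∣ X ^ N - C s := by
  rw [Polynomial.dvd_iff_isRoot]
  simp [h]

theorem coprime_X_sub_C {a b : F} (h : a ≠ b) : IsCoprime (X - C a) (X - C b) :=
  Polynomial.isCoprime_X_sub_C_of_isUnit_sub (isUnit_iff_ne_zero.mpr (sub_ne_zero.mpr h))

/-- three distinct roots -/
theorem dvd_of_distinct (a b c s : F) (N : ℕ) (hab : a ≠ b) (hac : a ≠ c) (hbc : b ≠ c)
    (ha : a ^ N = s) (hb : b ^ N = s) (hc : c ^ N = s) :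
    (X - C a) * (X - C b) * (X - C c) ∣ X ^ N - C s := by
  have h1 : IsCoprime ((X - C a) * (X - C b)) (X - C c) :=
    IsCoprime.mul_left (coprime_X_sub_C hac) (coprime_X_sub_C hbc)
  apply h1.mul_dvd
  · exact (coprime_X_sub_C hab).mul_dvd (X_sub_C_dvd_X_pow_sub_C a s N ha)
      (X_sub_C_dvd_X_pow_sub_C b s N hb)
  · exact X_sub_C_dvd_X_pow_sub_C c s N hc

theorem X_pow_mul_sub_C_pow (p : ℕ) [Fact p.Prime] [CharP F p] (N' : ℕ) (s' : F) :
    (X ^ (p * N') - C (s' ^ p) : F[X]) = (X ^ N' - C s') ^ p := by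
  rw [sub_pow_char, ← pow_mul, mul_comm N' p, ← C_pow]

/-- a double root and a simple root -/
theorem dvd_of_double (p : ℕ) [Fact p.Prime] [CharP F p] (a c s' : F) (N' : ℕ) (hac : a ≠ c)
    (ha : a ^ N' = s') (hc : c ^ N' = s') :
    (X - C a) ^ 2 * (X - C c) ∣ X ^ (p * N') - C (s' ^ p) := by
  rw [X_pow_mul_sub_C_pow]
  have hp2 : 2 ≤ p := (Fact.out : p.Prime).two_le
  have h1 : IsCoprime ((X - C a) ^ 2) (X - C c) := (coprime_X_sub_C hac).pow_left
  apply h1.mul_dvd
  · exact (pow_dvd_pow _ hp2).trans (pow_dvd_pow_of_dvd (X_sub_C_dvd_X_pow_sub_C a s' N' ha) p)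
  · exact (X_sub_C_dvd_X_pow_sub_C c s' N' hc).trans (dvd_pow_self _ (by omega))

/-- a triple root, `p ≥ 3` -/
theorem dvd_of_triple (p : ℕ) [Fact p.Prime] [CharP F p] (hp3 : 3 ≤ p) (a : F) :
    (X - C a) ^ 3 ∣ X ^ p - C (a ^ p) := by
  have h := X_pow_mul_sub_C_pow (F := F) p 1 a
  rw [mul_one, pow_one] at h
  rw [h]
  exact pow_dvd_pow _ hp3

/-- a triple root, `p = 2` -/
theorem dvd_of_triple_two [CharP F 2] (a : F) :
    (X - C a) ^ 3 ∣ X ^ 4 - C (a ^ 4) := by
  haveI : Fact (Nat.Prime 2) := ⟨Nat.prime_two⟩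
  have h1 := X_pow_mul_sub_C_pow (F := F) 2 1 a
  rw [mul_one, pow_one] at h1
  have h2 := X_pow_mul_sub_C_pow (F := F) 2 2 (a ^ 2)
  rw [h1] at h2
  have e1 : (a ^ 2) ^ 2 = a ^ 4 := by ring
  have e2 : ((X - C a : F[X]) ^ 2) ^ 2 = (X - C a) ^ 4 := by ring
  rw [e1, e2] at h2
  rw [show (2 * 2 : ℕ) = 4 from rfl] at h2
  rw [h2]
  exact pow_dvd_pow _ (by norm_num)

end poly

section fixed

variable {F : Type*} [Field F] [Fintype F] {K : Type*} [Field K] [Algebra F K]

/-- an element of an extension field fixed by `x ↦ x^|F|` lies in `F` -/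
theorem mem_range_of_pow_card_eq (x : K) (hx : x ^ Fintype.card F = x) :
    ∃ s : F, algebraMap F K s = x := by
  classical
  by_contra hcon
  push Not at hcon
  have hQ : 1 < Fintype.card F := Fintype.one_lt_card
  have hP0 : (X ^ Fintype.card F - X : K[X]) ≠ 0 := FiniteField.X_pow_card_sub_X_ne_zero K hQ
  have hdeg : (X ^ Fintype.card F - X : K[X]).natDegree = Fintype.card F :=
    FiniteField.X_pow_card_sub_X_natDegree_eq K hQ
  set S : Finset K := (Finset.univ : Finset F).image (algebraMap F K) with hS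
  have hScard : S.card = Fintype.card F := by
    rw [hS, Finset.card_image_of_injective _ (algebraMap F K).injective, Finset.card_univ]
  have hxS : x ∉ S := by
    intro h
    rw [hS, Finset.mem_image] at h
    obtain ⟨s, -, hs⟩ := h
    exact hcon s hs
  have hsub : insert x S ⊆ (X ^ Fintype.card F - X : K[X]).roots.toFinset := by
    intro y hy
    rw [Multiset.mem_toFinset, mem_roots hP0, IsRoot.def, eval_sub, eval_pow, eval_X, sub_eq_zero]
    rw [Finset.mem_insert] at hy
    rcases hy with rfl | hy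
    · exact hx
    · rw [hS, Finset.mem_image] at hy
      obtain ⟨s, -, rfl⟩ := hy
      rw [← map_pow, FiniteField.pow_card]
  have h1 := Finset.card_le_card hsub
  rw [Finset.card_insert_of_notMem hxS, hScard] at h1
  have h2 := (Multiset.toFinset_card_le _).trans (Polynomial.card_roots' (X ^ Fintype.card F - X : K[X]))
  rw [hdeg] at h2
  omega

/-- a nonzero element with `x^(|F|-1) = 1` lies in `F` -/
theorem mem_range_of_pow_card_sub_one_eq (x : K) (hx : x ^ (Fintype.card F - 1) = 1) :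
    ∃ s : F, algebraMap F K s = x := by
  apply mem_range_of_pow_card_eq
  have hQ : 1 ≤ Fintype.card F := Fintype.card_pos
  calc x ^ Fintype.card F = x ^ (Fintype.card F - 1) * x := by
        rw [← pow_succ, Nat.sub_add_cancel hQ]
    _ = x := by rw [hx, one_mul]

end fixed

end Cfsg.Agent.Lib.H12.Spec
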