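import Mathlib
import Cfsg.Agent.Lib.H12.SpecA
import Cfsg.Agent.Lib.H12.PSpE
import Cfsg.Agent.Lib.H12.PSpF
import Cfsg.Agent.Lib.H12.BCTransS
import Cfsg.Agent.Lib.H12.Unipotent
import Cfsg.Agent.Lib.H13.SpRegClasses
import Cfsg.Agent.Lib.H13.RegUnip

/-!
# Spectra of `PSp_{2n}(q)³ × Z_2^m`: realizers in `PSp_{2n}(q)` (helper12)
-/

set_option autoImplicit false
set_option linter.unusedSectionVars false

namespace Cfsg.Agent.Lib.H12.SpecPSp

open Module
open Cfsg.Agent.Lib.H12.SpSemi Cfsg.Agent.Lib.H12.PSpG Cfsg.Agent.Lib.H12.BC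

universe u
variable {F : Type u} [Field F]

theorem finite_psp [Finite F] (n : ℕ) : Finite (Cfsg.PSp n F) := by
  have : Finite ↥(Matrix.symplecticGroup (Fin n) F) := Subtype.finite
  exact Quotient.finite _

/-- from an element of `Sp` of order `D` to elements of `PSp` -/
theorem psp_of_hasOrd_dvd [Finite F] (n : ℕ) (hn : 1 ≤ n) {D k : ℕ} (h : HasOrd F n D)
    (hk : 2 * k ∣ D ∨ (Odd D ∧ k ∣ D)) : ∃ y : Cfsg.PSp n F, orderOf y = k := by
  have := finite_psp (F := F) n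
  obtain ⟨A, rfl⟩ := h
  set x : Cfsg.PSp n F := QuotientGroup.mk A with hx
  have h1 := (psp_pow_eq_one_iff n hn A (orderOf x)).1 (pow_orderOf_eq_one x)
  have hneg : (Cfsg.Agent.Lib.H2.Sp.negOne n : ↥(Matrix.symplecticGroup (Fin n) F)) ^ 2 = 1 := by
    apply Subtype.ext
    change ((-1 : Matrix (Fin n ⊕ Fin n) (Fin n ⊕ Fin n) F)) ^ 2 = 1
    rw [neg_one_sq]
  have h2 : A ^ (orderOf x * 2) = 1 := by
    rcases h1 with h3 | h3
    · rw [pow_mul, h3, one_pow]
    · rw [pow_mul, h3, hneg]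
  have h3 : orderOf A ∣ orderOf x * 2 := orderOf_dvd_of_pow_eq_one h2
  have h4 : k ∣ orderOf x := by
    rcases hk with hk | ⟨hodd, hk⟩
    · have : 2 * k ∣ 2 * orderOf x := by rw [mul_comm 2 (orderOf x)]; exact hk.trans h3
      exact Nat.dvd_of_mul_dvd_mul_left (by norm_num) this
    · have hco : Nat.Coprime (orderOf A) 2 := Nat.coprime_two_right.2 hodd
      exact hk.trans (hco.dvd_of_dvd_mul_right h3)
  exact Cfsg.Agent.Lib.H12.Spec.exists_orderOf_eq x k h4

/-- `-A` has order `2 D` for `A` of odd order `D` -/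
theorem HasOrd.neg (h2 : (2 : F) ≠ 0) {k D : ℕ} (hk : 1 ≤ k) (h : HasOrd F k D) (hD : Odd D) :
    HasOrd F k (2 * D) := by
  obtain ⟨A, rfl⟩ := h
  set N : ↥(Matrix.symplecticGroup (Fin k) F) := Cfsg.Agent.Lib.H2.Sp.negOne k with hN
  have hN2 : N ^ 2 = 1 := by
    apply Subtype.ext
    change ((-1 : Matrix (Fin k ⊕ Fin k) (Fin k ⊕ Fin k) F)) ^ 2 = 1
    rw [neg_one_sq]
  have hN1 : N ≠ 1 := by
    intro h
    have h3 := congrArg Subtype.val h
    have h4 : (-1 : Matrix (Fin k ⊕ Fin k) (Fin k ⊕ Fin k) F) = 1 := h3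
    have h5 := congrFun (congrFun h4 (Sum.inl ⟨0, hk⟩)) (Sum.inl ⟨0, hk⟩)
    rw [Matrix.neg_apply, Matrix.one_apply_eq] at h5
    apply h2
    have : (2 : F) = 1 + 1 := by norm_num
    rw [this]
    nth_rewrite 1 [← h5]
    exact neg_add_cancel 1
  have hNo : orderOf N = 2 := orderOf_eq_prime hN2 hN1
  have hcomm : Commute N A := by
    apply Subtype.ext
    change (-1 : Matrix (Fin k ⊕ Fin k) (Fin k ⊕ Fin k) F) * A.1 = A.1 * -1
    rw [neg_mul, one_mul, mul_neg, mul_one]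
  refine ⟨N * A, ?_⟩
  rw [hcomm.orderOf_mul_eq_mul_orderOf_of_coprime, hNo]
  rw [hNo]
  exact (Nat.coprime_two_left).2 hD

/-- an orthogonal sum whose first summand has odd order: the order in `PSp` is the `lcm` -/
theorem psp_of_hasOrd_add (h2 : (2 : F) ≠ 0) {a c b e : ℕ} (ha : 1 ≤ a) (h1 : HasOrd F a b)
    (hb : Odd b) (h2' : HasOrd F c e) : ∃ y : Cfsg.PSp (a + c) F, orderOf y = Nat.lcm b e := by
  obtain ⟨A₁, rfl⟩ := h1
  obtain ⟨A₂, rfl⟩ := h2'
  have hs := spData_sum (spData_of_mem a A₁.2) (spData_of_mem c A₂.2)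
  have hdim : finrank F ((Fin a ⊕ Fin a → F) × (Fin c ⊕ Fin c → F)) = 2 * (a + c) := by
    rw [Module.finrank_prod, finrank_std, finrank_std]; ring
  obtain ⟨A, hA1, hA2⟩ := exists_Sp_pow_iff hdim hs
  refine ⟨(QuotientGroup.mk A : Cfsg.PSp (a + c) F), ?_⟩
  set g₁ := Matrix.toLin' A₁.1 with hg₁
  set g₂ := Matrix.toLin' A₂.1 with hg₂
  have hord : orderOf (g₁.prodMap g₂ : Module.End F _) = Nat.lcm (orderOf A₁) (orderOf A₂) := by
    rw [orderOf_prodMap, orderOf_toLin', orderOf_toLin']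
  rw [← hord]
  apply orderOf_eq_of_pow_iff
  intro j
  rw [psp_pow_eq_one_iff (a + c) (by omega), hA1, hA2]
  constructor
  · rintro (h | h)
    · exact h
    · exfalso
      rw [prodMap_pow_eq] at h
      have h3 : g₁ ^ j = -1 := by
        apply LinearMap.ext
        intro x
        have := congrArg (fun f : Module.End F _ => (f (x, 0)).1) h
        simpa using this
      have h4 : g₁ ^ (j * 2) = 1 := by
        rw [pow_mul, h3]
        exact neg_one_sq (R := Module.End F (Fin a ⊕ Fin a → F))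
      have h5 : orderOf g₁ ∣ j * 2 := orderOf_dvd_of_pow_eq_one h4
      rw [hg₁, orderOf_toLin'] at h5
      have hco : Nat.Coprime (orderOf A₁) 2 := Nat.coprime_two_right.2 hb
      have h6 : orderOf A₁ ∣ j := hco.dvd_of_dvd_mul_right h5
      have h7 : g₁ ^ j = 1 := by
        rw [hg₁, toLin'_pow_eq_one_iff]
        exact orderOf_dvd_iff_pow_eq_one.1 h6
      rw [h7] at h3
      have h8 := congrArg (fun f : Module.End F (Fin a ⊕ Fin a → F) =>
        f (Pi.single (Sum.inl ⟨0, ha⟩) 1) (Sum.inl ⟨0, ha⟩)) h3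
      simp only [Module.End.one_apply, LinearMap.neg_apply, Pi.neg_apply, Pi.single_eq_same] at h8
      apply h2
      have : (2 : F) = 1 + 1 := by norm_num
      rw [this]
      nth_rewrite 2 [h8]
      exact add_neg_cancel 1
  · intro h
    left
    exact h

section unip

variable [Fintype F]

/-- regular unipotent elements: `Sp_{2k}(q)` has an element of order `p ^ (J + 1)` as soon as
`p ^ J + 1 ≤ 2 k` (odd `p`) -/
theorem hasOrd_unip (p : ℕ) [Fact p.Prime] [CharP F p] (h2 : (2 : F) ≠ 0) (hp2 : p ≠ 2)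
    (J k : ℕ) (hk : p ^ J + 1 ≤ 2 * k) : HasOrd F k (p ^ (J + 1)) := by
  have hpodd : Odd p := (Fact.out : p.Prime).odd_of_ne_two hp2
  have hpJ : Odd (p ^ J) := hpodd.pow
  obtain ⟨k', hk'⟩ : ∃ k', p ^ J + 1 = 2 * (k' + 1) := by
    obtain ⟨t, ht⟩ := hpJ
    exact ⟨t, by omega⟩
  have hle : k' + 1 ≤ k := by omega
  apply HasOrd.mono _ hle
  -- the regular unipotent element
  obtain ⟨u, hu1, hu2, hu3⟩ := Cfsg.Agent.Lib.H13.exists_unipotent_of_skew
    (Cfsg.Agent.Lib.H13.regNil F k') (2 * (k' + 1)) Cfsg.Agent.Lib.H13.sstar_regNil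
    Cfsg.Agent.Lib.H13.regNil_pow
  rw [Cfsg.Agent.Lib.H13.rank_two_smul h2, Cfsg.Agent.Lib.H13.regNil_rank] at hu3
  have hmem : u ∈ Matrix.symplecticGroup (Fin (k' + 1)) F :=
    (Cfsg.Agent.Lib.H13.mem_symplectic_iff u).2 hu1
  have hcard : Fintype.card (Fin (k' + 1) ⊕ Fin (k' + 1)) = 2 * (k' + 1) := by
    rw [Fintype.card_sum, Fintype.card_fin]; ring
  refine ⟨⟨u, hmem⟩, ?_⟩
  have hcoe : ∀ j : ℕ, ((⟨u, hmem⟩ : ↥(Matrix.symplecticGroup (Fin (k' + 1)) F)) ^ j = 1) ↔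
      u ^ j = 1 := by
    intro j
    constructor
    · intro h
      have := congrArg Subtype.val h
      rw [sp_pow_val] at this
      exact this
    · intro h
      apply Subtype.ext
      rw [sp_pow_val]
      exact h
  apply orderOf_eq_prime_pow
  · rw [hcoe]
    intro h
    have h3 : (u - 1) ^ p ^ J = 0 := by
      rw [Cfsg.Agent.Lib.H12.sub_one_pow_char_pow, h, sub_self]
    have h4 := Cfsg.Agent.Lib.H13.regular_finrank_ker_pow' (u - 1)
      (by rw [hcard]; exact hu2) (by rw [hcard]; exact hu3) (p ^ J) (by rw [hcard]; omega)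
    rw [h3] at h4
    have h5 : LinearMap.ker (Matrix.mulVecLin
        (0 : Matrix (Fin (k' + 1) ⊕ Fin (k' + 1)) (Fin (k' + 1) ⊕ Fin (k' + 1)) F)) = ⊤ := by
      rw [Matrix.mulVecLin_zero, LinearMap.ker_zero]
    rw [h5, finrank_top, Module.finrank_fintype_fun_eq_card, hcard] at h4
    omega
  · rw [hcoe]
    apply Cfsg.Agent.Lib.H12.pow_char_pow_eq_one_of_sub_one_pow p u _ _ hu2
    have h2p : 2 ≤ p := (Fact.out : p.Prime).two_le
    have hp1 : 1 ≤ p ^ J := Nat.one_le_pow _ _ (by omega)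
    rw [← hk', pow_succ]
    nlinarith

end unip

end Cfsg.Agent.Lib.H12.SpecPSp
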