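import Mathlib
import Cfsg.Agent.S2469
import Cfsg.Agent.S2472
import Cfsg.Agent.Lib.H4.LieOrd3
import Cfsg.Agent.Lib.H12.SpecPSpF
import Cfsg.Agent.Lib.H12.BCCount

/-!
# Facts on `PSp₆(3)` (sub-lemmas for S3664, requested by helper8)
-/

set_option autoImplicit false

namespace Cfsg.Agent.Lib.H12.PSp63

open Cfsg.Agent.Lib.H12.PSpG

variable {F : Type*} [Field F] [Fintype F]

theorem card_psp63 (hF : Fintype.card F = 3) : Nat.card (Cfsg.PSp 3 F) = 4585351680 := by
  have h := Cfsg.Agent.Lib.H4.LieOrd.card_psp hF 3 (by norm_num)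
  norm_num [Finset.prod_range_succ] at h
  omega

theorem psp63_prime_dvd (hF : Fintype.card F = 3) (p : ℕ) (hp : p.Prime) :
    p ∣ Nat.card (Cfsg.PSp 3 F) ↔ (p = 2 ∨ p = 3 ∨ p = 5 ∨ p = 7 ∨ p = 13) := by
  rw [card_psp63 hF]
  constructor
  · intro h
    have e : (4585351680 : ℕ) = 2 ^ 9 * 3 ^ 9 * 5 * 7 * 13 := by norm_num
    rw [e] at h
    rcases (Nat.Prime.dvd_mul hp).mp h with h | h
    · rcases (Nat.Prime.dvd_mul hp).mp h with h | h
      · rcases (Nat.Prime.dvd_mul hp).mp h with h | h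
        · rcases (Nat.Prime.dvd_mul hp).mp h with h | h
          · left
            exact (Nat.prime_dvd_prime_iff_eq hp Nat.prime_two).mp (hp.dvd_of_dvd_pow h)
          · right; left
            exact (Nat.prime_dvd_prime_iff_eq hp Nat.prime_three).mp (hp.dvd_of_dvd_pow h)
        · right; right; left
          exact (Nat.prime_dvd_prime_iff_eq hp Nat.prime_five).mp h
      · right; right; right; left
        exact (Nat.prime_dvd_prime_iff_eq hp (by norm_num)).mp h
    · right; right; right; right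
      exact (Nat.prime_dvd_prime_iff_eq hp (by norm_num)).mp h
  · rintro (rfl | rfl | rfl | rfl | rfl) <;> norm_num

theorem charP_three (hF : Fintype.card F = 3) : CharP F 3 := by
  obtain ⟨n, hpr, hn⟩ := FiniteField.card F (ringChar F)
  have h3 : ringChar F = 3 := by
    rw [hF] at hn
    have hd : ringChar F ∣ 3 := by
      rw [hn]
      exact dvd_pow_self _ n.ne_zero
    exact (Nat.prime_dvd_prime_iff_eq hpr Nat.prime_three).mp hd
  have := ringChar.charP F
  rwa [h3] at this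

theorem ord5 : orderOf (((3 : ℕ) : ZMod 5)) = 4 := by
  apply orderOf_eq_of_pow_and_pow_div_prime (by norm_num)
  · decide
  · intro p hp hd
    have : p = 2 := by
      have h4 : (4 : ℕ) = 2 ^ 2 := by norm_num
      rw [h4] at hd
      exact (Nat.prime_dvd_prime_iff_eq hp Nat.prime_two).mp (hp.dvd_of_dvd_pow hd)
    subst this
    decide

theorem ord7 : orderOf (((3 : ℕ) : ZMod 7)) = 6 := by
  apply orderOf_eq_of_pow_and_pow_div_prime (by norm_num)
  · decide
  · intro p hp hd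
    have e : (6 : ℕ) = 2 * 3 := by norm_num
    rw [e] at hd
    rcases (Nat.Prime.dvd_mul hp).mp hd with h | h
    · have : p = 2 := (Nat.prime_dvd_prime_iff_eq hp Nat.prime_two).mp h
      subst this
      decide
    · have : p = 3 := (Nat.prime_dvd_prime_iff_eq hp Nat.prime_three).mp h
      subst this
      decide

theorem ord13 : orderOf (((3 : ℕ) : ZMod 13)) = 3 := by
  apply orderOf_eq_of_pow_and_pow_div_prime (by norm_num)
  · decide
  · intro p hp hd
    have : p = 3 := (Nat.prime_dvd_prime_iff_eq hp Nat.prime_three).mp hd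
    subst this
    decide

theorem two_ne_zero_of_card (hF : Fintype.card F = 3) : (2 : F) ≠ 0 := by
  have h30 : (3 : F) = 0 := by
    have := Nat.cast_card_eq_zero F
    rw [hF] at this
    exact_mod_cast this
  intro h
  have : (1 : F) = 0 := by linear_combination h30 - h
  exact one_ne_zero this

theorem psp63_exists_order (hF : Fintype.card F = 3) :
    (∃ g : Cfsg.PSp 3 F, orderOf g = 6) ∧ (∃ g : Cfsg.PSp 3 F, orderOf g = 10) ∧
      (∃ g : Cfsg.PSp 3 F, orderOf g = 15) ∧ (∃ g : Cfsg.PSp 3 F, orderOf g = 14) := by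
  have : Fact (3 : ℕ).Prime := ⟨Nat.prime_three⟩
  have : CharP F 3 := charP_three hF
  have h2 : (2 : F) ≠ 0 := two_ne_zero_of_card hF
  have H12 : HasOrd F 1 2 := hasOrd_of_dvd_add_one 3 1 le_rfl 2 (by rw [hF]; norm_num)
  have H13 : HasOrd F 1 3 := hasOrd_char 3
  have H25 : HasOrd F 2 5 := hasOrd_of_dvd_add_one 3 2 (by norm_num) 5 (by rw [hF]; norm_num)
  have H22 : HasOrd F 2 2 := H12.mono (by norm_num)
  have H328 : HasOrd F 3 28 := hasOrd_of_dvd_add_one 3 3 (by norm_num) 28 (by rw [hF]; norm_num)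
  refine ⟨?_, ?_, ?_, ?_⟩
  · obtain ⟨y, hy⟩ :=
      Cfsg.Agent.Lib.H12.SpecPSp.psp_of_hasOrd_add h2 (a := 1) (c := 2) le_rfl H13 (by decide) H22
    exact ⟨y, by rw [hy]; rfl⟩
  · obtain ⟨y, hy⟩ :=
      Cfsg.Agent.Lib.H12.SpecPSp.psp_of_hasOrd_add h2 (a := 2) (c := 1) (by norm_num) H25
        (by decide) H12
    exact ⟨y, by rw [hy]; rfl⟩
  · have hG : 5 ∣ Nat.card (Cfsg.PSp 3 F) := (psp63_prime_dvd hF 5 Nat.prime_five).mpr (by norm_num)
    have key := Cfsg.Agent.S2472.result (F := F) 3 3 (by norm_num) (by norm_num) 5 Nat.prime_five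
      (by norm_num) (by norm_num) hG (orderOf (((Fintype.card F : ℕ)) : ZMod 5)) 2 rfl
      (by
        right
        rw [hF, ord5]
        exact ⟨by decide, rfl⟩)
    have hnot : ¬ (3 - 1 < 2) := by norm_num
    have hmem : (5 * 3 : ℕ) ∈ Set.range (orderOf : Cfsg.PSp 3 F → ℕ) := by
      by_contra hc
      exact hnot (key.mp hc)
    obtain ⟨g, hg⟩ := hmem
    exact ⟨g, by rw [hg]⟩
  · have := Cfsg.Agent.Lib.H12.BC.psp_of_hasOrd_four (F := F) 3 (by norm_num) 7 (by norm_num) H328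
    simpa using this

theorem psp63_no_order_odd (hF : Fintype.card F = 3) (g : Cfsg.PSp 3 F) :
    orderOf g ≠ 21 ∧ orderOf g ≠ 35 ∧ orderOf g ≠ 39 ∧ orderOf g ≠ 65 ∧ orderOf g ≠ 91 := by
  have : Fact (3 : ℕ).Prime := ⟨Nat.prime_three⟩
  have : CharP F 3 := charP_three hF
  have hG5 : 5 ∣ Nat.card (Cfsg.PSp 3 F) := (psp63_prime_dvd hF 5 Nat.prime_five).mpr (by norm_num)
  have hG7 : 7 ∣ Nat.card (Cfsg.PSp 3 F) := (psp63_prime_dvd hF 7 (by norm_num)).mpr (by norm_num)
  have hG13 : 13 ∣ Nat.card (Cfsg.PSp 3 F) :=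
    (psp63_prime_dvd hF 13 (by norm_num)).mpr (by norm_num)
  have k7 := Cfsg.Agent.S2472.result (F := F) 3 3 (by norm_num) (by norm_num) 7 (by norm_num)
    (by norm_num) (by norm_num) hG7 (orderOf (((Fintype.card F : ℕ)) : ZMod 7)) 3 rfl
    (by
      right
      rw [hF, ord7]
      exact ⟨by decide, rfl⟩)
  have k13 := Cfsg.Agent.S2472.result (F := F) 3 3 (by norm_num) (by norm_num) 13 (by norm_num)
    (by norm_num) (by norm_num) hG13 (orderOf (((Fintype.card F : ℕ)) : ZMod 13)) 3 rfl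
    (by
      left
      rw [hF, ord13]
      exact ⟨by decide, rfl⟩)
  have k57 := Cfsg.Agent.S2469.result (F := F) 3 3 (by norm_num) (by norm_num) 5 7 Nat.prime_five
    (by norm_num) (by norm_num) (by norm_num) (by norm_num) (by norm_num) (by norm_num) hG5 hG7
    (orderOf (((Fintype.card F : ℕ)) : ZMod 5)) (orderOf (((Fintype.card F : ℕ)) : ZMod 7)) 2 3
    rfl rfl
    (by right; rw [hF, ord5]; exact ⟨by decide, rfl⟩)
    (by right; rw [hF, ord7]; exact ⟨by decide, rfl⟩) (by norm_num)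
  have k513 := Cfsg.Agent.S2469.result (F := F) 3 3 (by norm_num) (by norm_num) 5 13
    Nat.prime_five
    (by norm_num) (by norm_num) (by norm_num) (by norm_num) (by norm_num) (by norm_num) hG5 hG13
    (orderOf (((Fintype.card F : ℕ)) : ZMod 5)) (orderOf (((Fintype.card F : ℕ)) : ZMod 13)) 2 3
    rfl rfl
    (by right; rw [hF, ord5]; exact ⟨by decide, rfl⟩)
    (by left; rw [hF, ord13]; exact ⟨by decide, rfl⟩) (by norm_num)
  have k713 := Cfsg.Agent.S2469.result (F := F) 3 3 (by norm_num) (by norm_num) 7 13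
    (by norm_num)
    (by norm_num) (by norm_num) (by norm_num) (by norm_num) (by norm_num) (by norm_num) hG7 hG13
    (orderOf (((Fintype.card F : ℕ)) : ZMod 7)) (orderOf (((Fintype.card F : ℕ)) : ZMod 13)) 3 3
    rfl rfl
    (by right; rw [hF, ord7]; exact ⟨by decide, rfl⟩)
    (by left; rw [hF, ord13]; exact ⟨by decide, rfl⟩) (by norm_num)
  rw [hF, ord5, ord7] at k57
  rw [hF, ord5, ord13] at k513
  rw [hF, ord7, ord13] at k713
  refine ⟨?_, ?_, ?_, ?_, ?_⟩
  · intro h
    have : (7 * 3 : ℕ) ∉ Set.range (orderOf : Cfsg.PSp 3 F → ℕ) := k7.mpr (by norm_num)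
    exact this ⟨g, by rw [h]⟩
  · intro h
    have : (5 * 7 : ℕ) ∉ Set.range (orderOf : Cfsg.PSp 3 F → ℕ) := by
      apply k57.mpr
      refine ⟨by norm_num, ?_⟩
      rintro ⟨t, _, ht⟩
      omega
    exact this ⟨g, by rw [h]⟩
  · intro h
    have : (13 * 3 : ℕ) ∉ Set.range (orderOf : Cfsg.PSp 3 F → ℕ) := k13.mpr (by norm_num)
    exact this ⟨g, by rw [h]⟩
  · intro h
    have : (5 * 13 : ℕ) ∉ Set.range (orderOf : Cfsg.PSp 3 F → ℕ) := by
      apply k513.mpr
      refine ⟨by norm_num, ?_⟩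
      rintro ⟨t, _, ht⟩
      omega
    exact this ⟨g, by rw [h]⟩
  · intro h
    have : (7 * 13 : ℕ) ∉ Set.range (orderOf : Cfsg.PSp 3 F → ℕ) := by
      apply k713.mpr
      refine ⟨by norm_num, ?_⟩
      rintro ⟨t, _, ht⟩
      omega
    exact this ⟨g, by rw [h]⟩

end Cfsg.Agent.Lib.H12.PSp63
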