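import Mathlib
import Cfsg.Agent.Lib.H22.PearlDefs

/-!
# S5239 (pearls in 3-groups) — piece **CLS** (helper12 for architect helper22)

`P3.cls`: the class of `e` is `e γ₂`, so `(e d)^3 = 1` for `d ∈ γ₂`.
Exact signature of `tools/blueprints/S5239_sigs.lean`.
-/

set_option autoImplicit false

namespace Cfsg.Agent.Lib.H12.Pearl

open Cfsg.Agent.Lib.H22.Pearl

section

variable {G : Type*} [Group G] {n : ℕ} {e : G}

/-- The map `g C_G(e) ↦ e⁻¹ g e g⁻¹ ∈ γ₂`. -/
noncomputable def clsMap (e : G) : G ⧸ Subgroup.centralizer ({e} : Set G) → ↥(L G 1) :=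
  fun q => Quotient.liftOn' q
    (fun g => (⟨e⁻¹ * g * e * g⁻¹, by
      have h0 : e⁻¹ ∈ L G 0 := Subgroup.mem_top _
      have := Cfsg.Agent.Lib.H25.MCS.comm_mem_lcs_succ h0 g
      simpa [commutatorElement_def] using this⟩ : ↥(L G 1)))
    (by
      intro a b hab
      rw [QuotientGroup.leftRel_apply, Subgroup.mem_centralizer_iff] at hab
      have hc := hab e rfl
      -- hc : e * (a⁻¹ * b) = a⁻¹ * b * e
      apply Subtype.ext
      simp only
      have : b * e * b⁻¹ = a * e * a⁻¹ := by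
        have h1 : b = a * (a⁻¹ * b) := by group
        rw [h1, mul_assoc a, ← hc]; group
      calc e⁻¹ * a * e * a⁻¹ = e⁻¹ * (a * e * a⁻¹) := by group
        _ = e⁻¹ * (b * e * b⁻¹) := by rw [this]
        _ = e⁻¹ * b * e * b⁻¹ := by group)

theorem clsMap_mk (e g : G) :
    ((clsMap e (QuotientGroup.mk g) : ↥(L G 1)) : G) = e⁻¹ * g * e * g⁻¹ := rfl

theorem clsMap_injective (e : G) : Function.Injective (clsMap e) := by
  intro q₁ q₂
  induction q₁ using QuotientGroup.induction_on with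
  | H a =>
  induction q₂ using QuotientGroup.induction_on with
  | H b =>
  intro hab
  have h1 : e⁻¹ * a * e * a⁻¹ = e⁻¹ * b * e * b⁻¹ := by
    have := congrArg (Subtype.val) hab
    simpa only [clsMap_mk] using this
  rw [QuotientGroup.eq, Subgroup.mem_centralizer_iff]
  intro x hx
  rw [Set.mem_singleton_iff] at hx
  subst hx
  have h2 : a * x * a⁻¹ = b * x * b⁻¹ := by
    have : x * (x⁻¹ * a * x * a⁻¹) = x * (x⁻¹ * b * x * b⁻¹) := by rw [h1]
    calc a * x * a⁻¹ = x * (x⁻¹ * a * x * a⁻¹) := by group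
      _ = x * (x⁻¹ * b * x * b⁻¹) := this
      _ = b * x * b⁻¹ := by group
  calc x * (a⁻¹ * b) = a⁻¹ * (a * x * a⁻¹) * b := by group
    _ = a⁻¹ * (b * x * b⁻¹) * b := by rw [h2]
    _ = a⁻¹ * b * x := by group

end

section

variable {G : Type*} [Group G] [Finite G] {n : ℕ} {e : G}

/-- **CLS**. -/
theorem P3.cls (h : P3 G n e) (hn : 3 ≤ n) (hL1 : Nat.card ↥(L G 1) = 3 ^ (n - 2)) :
    ∀ d ∈ L G 1, (e * d) ^ 3 = 1 := by
  intro d hd
  have hq : Nat.card (G ⧸ Subgroup.centralizer ({e} : Set G)) = 3 ^ (n - 2) := by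
    have h1 := Subgroup.card_eq_card_quotient_mul_card_subgroup (Subgroup.centralizer ({e} : Set G))
    rw [h.card, h.hC] at h1
    have h2 : (3 : ℕ) ^ n = 3 ^ (n - 2) * 9 := by
      have : n = (n - 2) + 2 := by omega
      conv_lhs => rw [this, pow_add]
      norm_num
    rw [h2] at h1
    exact (Nat.eq_of_mul_eq_mul_right (by norm_num) h1).symm
  have hbij : Function.Bijective (clsMap e) :=
    (clsMap_injective e).bijective_of_nat_card_le (by rw [hq, hL1])
  obtain ⟨q, hq'⟩ := hbij.2 ⟨d, hd⟩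
  induction q using QuotientGroup.induction_on with
  | H g =>
  have h1 : e⁻¹ * g * e * g⁻¹ = d := by
    have := congrArg (Subtype.val) hq'
    simpa only [clsMap_mk] using this
  have h2 : e * d = g * e * g⁻¹ := by rw [← h1]; group
  rw [h2, conj_pow, h.he]; group

end

end Cfsg.Agent.Lib.H12.Pearl
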