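import Mathlib

/-!
# Quadratic action of two elements: the ring lemma (helper12)

In a ring of characteristic `p`, let `N * N = 0 = M * M`.  Then `c = N M + M N` commutes with `N` and `M`,
`((1 - N)(1 + M) - 1)² = -((1 - N)(1 + M)) c` and `((1 + N)(1 + M) - 1)² = ((1 + N)(1 + M)) c`.
Hence if `(1 - N)(1 + M)` has `p`-power order then so has `(1 + N)(1 + M)`.
-/

set_option autoImplicit false

namespace Cfsg.Agent.Lib.H12.QuadQ

section RingLemma

variable {E : Type*} [Ring E]

theorem ring_sq_minus (N M : E) (hN : N * N = 0) (hM : M * M = 0) :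
    ((1 - N) * (1 + M) - 1) ^ 2 = -(((1 - N) * (1 + M)) * (N * M + M * N)) := by
  have hN' : ∀ x : E, N * (N * x) = 0 := fun x => by rw [← mul_assoc, hN, zero_mul]
  have hM' : ∀ x : E, M * (M * x) = 0 := fun x => by rw [← mul_assoc, hM, zero_mul]
  rw [pow_two]
  simp only [mul_add, add_mul, mul_sub, sub_mul, mul_one, one_mul, mul_assoc, hN, hM, hN', hM',
    mul_zero, zero_mul, sub_zero, add_zero, zero_add]
  abel

theorem ring_sq_plus (N M : E) (hN : N * N = 0) (hM : M * M = 0) :
    ((1 + N) * (1 + M) - 1) ^ 2 = ((1 + N) * (1 + M)) * (N * M + M * N) := by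
  have hN' : ∀ x : E, N * (N * x) = 0 := fun x => by rw [← mul_assoc, hN, zero_mul]
  have hM' : ∀ x : E, M * (M * x) = 0 := fun x => by rw [← mul_assoc, hM, zero_mul]
  rw [pow_two]
  simp only [mul_add, add_mul, mul_sub, sub_mul, mul_one, one_mul, mul_assoc, hN, hM, hN', hM',
    mul_zero, zero_mul, sub_zero, add_zero, zero_add]
  abel

theorem comm_c_N (N M : E) (hN : N * N = 0) : Commute (N * M + M * N) N := by
  show (N * M + M * N) * N = N * (N * M + M * N)
  rw [add_mul, mul_add, mul_assoc M N N, hN, mul_zero, add_zero, ← mul_assoc N N M, hN, zero_mul,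
    zero_add, mul_assoc]

theorem comm_c_M (N M : E) (hM : M * M = 0) : Commute (N * M + M * N) M := by
  show (N * M + M * N) * M = M * (N * M + M * N)
  rw [add_mul, mul_add, mul_assoc N M M, hM, mul_zero, zero_add, ← mul_assoc M M N, hM, zero_mul,
    add_zero, mul_assoc]

/-- **Ring lemma.** -/
theorem ring_lemma (p : ℕ) [hp : Fact p.Prime] [CharP E p] (N M : E) (hN : N * N = 0) (hM : M * M = 0)
    (k : ℕ) (h : ((1 - N) * (1 + M)) ^ p ^ k = 1) : ((1 + N) * (1 + M)) ^ p ^ (k + 1) = 1 := by
  set c : E := N * M + M * N with hc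
  have hcN : Commute c N := comm_c_N N M hN
  have hcM : Commute c M := comm_c_M N M hM
  have hc1 : Commute c ((1 - N) * (1 + M)) :=
    ((Commute.one_right c).sub_right hcN).mul_right ((Commute.one_right c).add_right hcM)
  have hc2 : Commute c ((1 + N) * (1 + M)) :=
    ((Commute.one_right c).add_right hcN).mul_right ((Commute.one_right c).add_right hcM)
  -- `c` is nilpotent
  have h1 : ((1 - N) * (1 + M) - 1) ^ p ^ k = 0 := by
    rw [sub_pow_char_pow_of_commute p k (Commute.one_right _), one_pow, h, sub_self]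
  have h2 : (((1 - N) * (1 + M) - 1) ^ 2) ^ p ^ k = 0 := by
    rw [← pow_mul, mul_comm, pow_mul, h1, zero_pow two_ne_zero]
  rw [ring_sq_minus N M hN hM, ← hc, neg_pow, hc1.symm.mul_pow, h, one_mul] at h2
  have hck : c ^ p ^ k = 0 := by
    rcases neg_one_pow_eq_or E (p ^ k) with h3 | h3
    · rw [h3, one_mul] at h2
      exact h2
    · rw [h3, neg_one_mul, neg_eq_zero] at h2
      exact h2
  -- hence `(1 + N)(1 + M) - 1` is nilpotent
  have h4 : (((1 + N) * (1 + M) - 1) ^ 2) ^ p ^ k = 0 := by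
    rw [ring_sq_plus N M hN hM, ← hc, hc2.symm.mul_pow, hck, mul_zero]
  have h5 : ((1 + N) * (1 + M) - 1) ^ p ^ (k + 1) = 0 := by
    rw [← pow_mul] at h4
    apply pow_eq_zero_of_le _ h4
    rw [pow_succ, mul_comm]
    exact Nat.mul_le_mul_left _ hp.out.two_le
  rw [sub_pow_char_pow_of_commute p (k + 1) (Commute.one_right _), one_pow, sub_eq_zero] at h5
  exact h5

/-- a quadratic element has order dividing `p` -/
theorem ring_pow_p (p : ℕ) [hp : Fact p.Prime] [CharP E p] (N : E) (hN : N * N = 0) :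
    (1 + N) ^ p = 1 := by
  have h1 : (1 + N - 1) ^ p = 0 := by
    rw [add_sub_cancel_left]
    apply pow_eq_zero_of_le hp.out.two_le
    rw [pow_two, hN]
  have h2 := sub_pow_char_of_commute p (Commute.one_right (1 + N))
  rw [h1, one_pow] at h2
  exact (sub_eq_zero.mp h2.symm)

end RingLemma

end Cfsg.Agent.Lib.H12.QuadQ
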