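import Cfsg.Agent.Lib.H12.QuadQA

/-!
# Quadratic action of two automorphisms of an elementary abelian `p`-group (helper12)

`IsQuad α` : `[m, α, α] = 1` for all `m`.  If `α`, `β` are quadratic automorphisms of the elementary abelian
`p`-group `M` and `α⁻¹ β` has `p`-power order, then `α β` has `p`-power order.
-/

set_option autoImplicit false

namespace Cfsg.Agent.Lib.H12.QuadQ

universe u

variable {M : Type u} [Group M]

/-- `α` acts quadratically on `M` -/
def IsQuad (α : MulAut M) : Prop := ∀ m : M, α (m * (α m)⁻¹) = m * (α m)⁻¹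

theorem isQuad_conj (α γ : MulAut M) (h : IsQuad α) : IsQuad (γ * α * γ⁻¹) := by
  intro m
  have := h (γ⁻¹ m)
  simp only [MulAut.mul_apply, map_mul, map_inv] at this ⊢
  have h2 := congrArg γ this
  simp only [map_mul, map_inv, MulAut.apply_inv_self] at h2
  rw [MulAut.inv_apply_self]
  exact h2

theorem isQuad_inv (α : MulAut M) (h : IsQuad α) : IsQuad α⁻¹ := by
  intro m
  have h1 := h (α⁻¹ m)
  rw [MulAut.apply_inv_self] at h1
  have h2 : α⁻¹ (α⁻¹ m * m⁻¹) = α⁻¹ m * m⁻¹ := by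
    conv_lhs => rw [← h1]
    rw [MulAut.inv_apply_self]
  have h3 := congrArg (fun x => x⁻¹) h2
  simp only [← map_inv, _root_.mul_inv_rev, inv_inv] at h3
  simp only [← map_inv]
  exact h3

theorem isQuad_key (α : MulAut M) (h : IsQuad α) (m : M) : α (α m * m⁻¹) = α m * m⁻¹ := by
  have h3 := congrArg (fun x => x⁻¹) (h m)
  simp only [← map_inv, _root_.mul_inv_rev, inv_inv] at h3
  exact h3

section Main

/-- the endomorphism ring of an elementary abelian `p`-group, with the action of its automorphisms -/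
theorem exists_rho (hc : ∀ a b : M, a * b = b * a) {p : ℕ} [hp : Fact p.Prime] (hexp : ∀ m : M, m ^ p = 1)
    [Nontrivial M] :
    ∃ (E : Type u) (_ : Ring E) (_ : CharP E p) (ρ : MulAut M →* E), Function.Injective ρ ∧
      ∀ a : MulAut M, IsQuad a → (ρ a - 1) * (ρ a - 1) = 0 := by
  letI : CommGroup M := { (inferInstance : Group M) with mul_comm := hc }
  let ρ : MulAut M →* AddMonoid.End (Additive M) :=
    { toFun := fun a => MonoidHom.toAdditive (a.toMonoidHom)
      map_one' := rfl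
      map_mul' := fun _ _ => rfl }
  have hρ : ∀ (a : MulAut M) (m : M), ρ a (Additive.ofMul m) = Additive.ofMul (a m) := fun _ _ => rfl
  have hinj : Function.Injective ρ := by
    intro a b hab
    apply MulEquiv.ext
    intro m
    have := congrArg (fun f : AddMonoid.End (Additive M) => f (Additive.ofMul m)) hab
    simp only [hρ] at this
    exact Additive.ofMul.injective this
  have hp0 : ((p : ℕ) : AddMonoid.End (Additive M)) = 0 := by
    ext x
    obtain ⟨m, rfl⟩ := Additive.ofMul.surjective x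
    rw [AddMonoid.End.natCast_apply, ← ofMul_pow, hexp]
    rfl
  haveI : Nontrivial (AddMonoid.End (Additive M)) := by
    obtain ⟨a, b, hab⟩ := exists_pair_ne M
    refine ⟨⟨1, 0, ?_⟩⟩
    intro h10
    have h1 := congrArg (fun f : AddMonoid.End (Additive M) => f (Additive.ofMul (a * b⁻¹))) h10
    simp only [AddMonoid.End.coe_one, id_eq, AddMonoid.End.zero_apply] at h1
    apply hab
    have h2 : a * b⁻¹ = 1 := Additive.ofMul.injective h1
    exact mul_inv_eq_one.mp h2
  have hchar : CharP (AddMonoid.End (Additive M)) p := by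
    have h1 : ringChar (AddMonoid.End (Additive M)) ∣ p := ringChar.dvd hp0
    rcases (Nat.dvd_prime hp.out).mp h1 with h2 | h2
    · exact absurd h2 (CharP.ringChar_ne_one)
    · exact ringChar.eq_iff.mp h2
  refine ⟨AddMonoid.End (Additive M), inferInstance, hchar, ρ, hinj, ?_⟩
  intro a ha
  ext x
  obtain ⟨m, rfl⟩ := Additive.ofMul.surjective x
  have key := isQuad_key a ha m
  show (ρ a - 1) ((ρ a - 1) (Additive.ofMul m)) = 0
  have e1 : (ρ a - 1) (Additive.ofMul m) = Additive.ofMul (a m * m⁻¹) := by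
    show ρ a (Additive.ofMul m) - Additive.ofMul m = _
    rw [hρ, ← ofMul_div, div_eq_mul_inv]
  rw [e1]
  show ρ a (Additive.ofMul (a m * m⁻¹)) - Additive.ofMul (a m * m⁻¹) = 0
  rw [hρ, key, sub_self]

/-- **Lemma Q.** -/
theorem quad_main (hc : ∀ a b : M, a * b = b * a) {p : ℕ} [hp : Fact p.Prime] (hexp : ∀ m : M, m ^ p = 1)
    (α β : MulAut M) (hα : IsQuad α) (hβ : IsQuad β) (k : ℕ) (h : (α⁻¹ * β) ^ p ^ k = 1) :
    (α * β) ^ p ^ (k + 1) = 1 := by
  by_cases hsub : Subsingleton M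
  · apply MulEquiv.ext
    intro m
    exact Subsingleton.elim _ _
  rw [not_subsingleton_iff_nontrivial] at hsub
  obtain ⟨E, hE, hch, ρ, hinj, hquad⟩ := exists_rho hc hexp (p := p)
  have hinv : ∀ a : MulAut M, IsQuad a → ρ a⁻¹ = 1 - (ρ a - 1) := by
    intro a ha
    have hNN := hquad a ha
    have e1 : ρ a * ρ a⁻¹ = 1 := by rw [← map_mul, mul_inv_cancel, map_one]
    generalize hN : ρ a - 1 = N at hNN ⊢
    have hρa : ρ a = 1 + N := by rw [← hN]; abel
    have e2 : (1 - N) * ρ a = 1 := by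
      rw [hρa]
      calc (1 - N) * (1 + N) = 1 - N * N := by noncomm_ring
        _ = 1 := by rw [hNN, sub_zero]
    calc ρ a⁻¹ = ((1 - N) * ρ a) * ρ a⁻¹ := by rw [e2, one_mul]
      _ = 1 - N := by rw [mul_assoc, e1, mul_one]
  have hN := hquad α hα
  have hM := hquad β hβ
  have h1 : ((1 - (ρ α - 1)) * (1 + (ρ β - 1))) ^ p ^ k = 1 := by
    have := congrArg ρ h
    rw [map_pow, map_mul, map_one, hinv α hα] at this
    rw [add_sub_cancel]
    exact this
  have h2 := ring_lemma p (ρ α - 1) (ρ β - 1) hN hM k h1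
  rw [add_sub_cancel, add_sub_cancel, ← map_mul, ← map_pow] at h2
  apply hinj
  rw [h2, map_one]

/-- a quadratic automorphism of an elementary abelian `p`-group has order dividing `p` -/
theorem quad_pow (hc : ∀ a b : M, a * b = b * a) {p : ℕ} [hp : Fact p.Prime] (hexp : ∀ m : M, m ^ p = 1)
    (α : MulAut M) (hα : IsQuad α) : α ^ p = 1 := by
  by_cases hsub : Subsingleton M
  · apply MulEquiv.ext
    intro m
    exact Subsingleton.elim _ _
  rw [not_subsingleton_iff_nontrivial] at hsub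
  obtain ⟨E, hE, hch, ρ, hinj, hquad⟩ := exists_rho hc hexp (p := p)
  apply hinj
  have := ring_pow_p p (ρ α - 1) (hquad α hα)
  rw [add_sub_cancel] at this
  rw [map_pow, this, map_one]

end Main

/-- every element of order `p` has a conjugate such that exactly one of the two products is a `p`-element -/
def NoQuadPair (R : Type*) [Group R] (p : ℕ) : Prop :=
  ∀ y : R, y ≠ 1 → y ^ p = 1 → ∃ g : R, ∃ k : ℕ,
    ((y * (g * y * g⁻¹)) ^ p ^ k = 1 ∧ ∀ j : ℕ, (y⁻¹ * (g * y * g⁻¹)) ^ p ^ j ≠ 1) ∨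
    ((y⁻¹ * (g * y * g⁻¹)) ^ p ^ k = 1 ∧ ∀ j : ℕ, (y * (g * y * g⁻¹)) ^ p ^ j ≠ 1)

theorem noQuadPair_of_equiv {R S : Type*} [Group R] [Group S] (e : R ≃* S) (p : ℕ) (h : NoQuadPair S p) :
    NoQuadPair R p := by
  intro y hy1 hyp
  have h1 : e y ≠ 1 := fun h0 => hy1 (by rw [← e.map_eq_one_iff]; exact h0)
  have h2 : e y ^ p = 1 := by rw [← map_pow, hyp, map_one]
  obtain ⟨g, k, hg⟩ := h (e y) h1 h2
  refine ⟨e.symm g, k, ?_⟩
  have ea : ∀ n : ℕ, e ((y * (e.symm g * y * (e.symm g)⁻¹)) ^ n) = (e y * (g * e y * g⁻¹)) ^ n := by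
    intro n
    simp only [map_pow, map_mul, map_inv, MulEquiv.apply_symm_apply]
  have eb : ∀ n : ℕ, e ((y⁻¹ * (e.symm g * y * (e.symm g)⁻¹)) ^ n) = ((e y)⁻¹ * (g * e y * g⁻¹)) ^ n := by
    intro n
    simp only [map_pow, map_mul, map_inv, MulEquiv.apply_symm_apply]
  rcases hg with ⟨h3, h4⟩ | ⟨h3, h4⟩
  · refine Or.inl ⟨?_, fun j hj => h4 j ?_⟩
    · rw [← e.map_eq_one_iff, ea, h3]
    · rw [← eb, hj, map_one]
  · refine Or.inr ⟨?_, fun j hj => h4 j ?_⟩
    · rw [← e.map_eq_one_iff, eb, h3]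
    · rw [← ea, hj, map_one]

end Cfsg.Agent.Lib.H12.QuadQ
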