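import Cfsg.Agent.Lib.H12.QuadQB
import Cfsg.Agent.Lib.H9.QuadSL2G

/-!
# `PSL₂(F)`, `F` of odd characteristic `p`, has no quadratic pairs (helper12)

For a nontrivial unipotent `Z` of `SL₂(F)` pick (helper9 `exists_conj_trace`) a conjugate `Z'` with
`tr (Z Z') = -2`; then `Z Z'` has order `p` modulo the centre, while `tr (Z⁻¹ Z') = 6 ≠ ± 2`.
-/

set_option autoImplicit false

namespace Cfsg.Agent.Lib.H12.QuadQ

open Matrix Cfsg.Agent.Lib.H9.QuadSL2

variable {F : Type*} [Field F]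

local notation "SL2" => Matrix.SpecialLinearGroup (Fin 2) F
local notation "M2" => Matrix (Fin 2) (Fin 2) F

theorem trace_inv_mul (A B : SL2) :
    ((A⁻¹ * B : SL2) : M2).trace = (A : M2).trace * (B : M2).trace - ((A * B : SL2) : M2).trace := by
  simp only [Matrix.SpecialLinearGroup.coe_mul, Matrix.SpecialLinearGroup.coe_inv, Matrix.adjugate_fin_two,
    Matrix.trace_fin_two, Matrix.mul_apply, Fin.sum_univ_two, Matrix.of_apply, Matrix.cons_val_zero,
    Matrix.cons_val_one, Matrix.cons_val', Matrix.empty_val', Matrix.cons_val_fin_one]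
  ring

theorem trace_sq (A : SL2) : ((A ^ 2 : SL2) : M2).trace = (A : M2).trace ^ 2 - 2 := by
  rw [pow_two, Matrix.SpecialLinearGroup.coe_mul, sq_eq_two, A.2, one_smul, Matrix.trace_sub,
    Matrix.trace_smul, Matrix.trace_one, smul_eq_mul]
  simp
  ring

theorem two_ne_zero_of_char {p : ℕ} [hp : Fact p.Prime] [CharP F p] (hp2 : p ≠ 2) : (2 : F) ≠ 0 := by
  intro h
  have h1 : ((2 : ℕ) : F) = 0 := by exact_mod_cast h
  have h2 := (CharP.cast_eq_zero_iff F p 2).mp h1
  have h3 := Nat.le_of_dvd (by norm_num) h2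
  have h4 := hp.out.two_le
  omega

/-- an element of trace `-2` has order dividing `p` modulo the centre -/
theorem prj_pow_of_trace_neg_two {p : ℕ} [hp : Fact p.Prime] [CharP F p] (hp2 : p ≠ 2) (W : SL2)
    (h : (W : M2).trace = -2) : prj (W ^ p) = 1 := by
  rw [prj_eq_one_iff]
  refine ⟨-1, by ring, ?_⟩
  have hsq : (W : M2) * W = (-2 : F) • (W : M2) - 1 := by
    rw [sq_eq_two, h, W.2, one_smul]
  have hN : ((W : M2) + 1) ^ 2 = 0 := by
    rw [pow_two, add_mul, mul_add, mul_add, hsq, one_mul, mul_one, mul_one]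
    ext i j
    simp only [Matrix.add_apply, Matrix.sub_apply, Matrix.smul_apply, smul_eq_mul, Matrix.zero_apply]
    ring
  have hNp : ((W : M2) + 1) ^ p = 0 := pow_eq_zero_of_le hp.out.two_le hN
  rw [add_pow_char_of_commute p (Commute.one_right _), one_pow] at hNp
  rw [Matrix.SpecialLinearGroup.coe_pow]
  have := eq_neg_of_add_eq_zero_left hNp
  rw [this]
  ext i j
  by_cases hij : i = j <;> simp [Matrix.smul_apply, Matrix.one_apply, hij]

theorem noQuadPair_PSL2 {p : ℕ} [hp : Fact p.Prime] [CharP F p] (hp2 : p ≠ 2) :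
    NoQuadPair (Matrix.ProjectiveSpecialLinearGroup (Fin 2) F) p := by
  intro y hy1 hyp
  obtain ⟨Y, rfl⟩ := QuotientGroup.mk'_surjective (Subgroup.center SL2) y
  have h2F := two_ne_zero_of_char (F := F) hp2
  have hodd : Odd p := hp.out.odd_of_ne_two hp2
  have h1 : prj (Y ^ p) = 1 := by rw [map_pow]; exact hyp
  obtain ⟨c, hc2, hYp⟩ := (prj_eq_one_iff (Y ^ p)).1 h1
  set Z : SL2 := Y ^ (p + 1) with hZdef
  have hZ : prj Z = prj Y := by
    rw [hZdef, map_pow, pow_succ, hyp, one_mul]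
  have hZp : Z ^ p = 1 := by
    apply Subtype.ext
    rw [hZdef, ← pow_mul, mul_comm, pow_mul, Matrix.SpecialLinearGroup.coe_pow, hYp, smul_pow, one_pow,
      Matrix.SpecialLinearGroup.coe_one]
    obtain ⟨k, hk⟩ := hodd
    have : p + 1 = 2 * (k + 1) := by omega
    rw [this, pow_mul, hc2, one_pow, one_smul]
  have hZ1 : Z ≠ 1 := by
    intro h0
    apply hy1
    rw [← hZ, h0, map_one]
  have htr : (Z : M2).trace = 2 := trace_eq_two_of_pow Z 1 (by rw [pow_one]; exact hZp)
  obtain ⟨x, hx⟩ := exists_conj_trace Z htr hZ1 2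
  have hx' : ((Z * (x * Z * x⁻¹) : SL2) : M2).trace = -2 := by rw [hx]; ring
  refine ⟨prj x, 1, Or.inl ⟨?_, ?_⟩⟩
  · rw [pow_one]
    have := prj_pow_of_trace_neg_two hp2 (Z * (x * Z * x⁻¹)) hx'
    rw [map_pow, map_mul, map_mul, map_mul, map_inv, hZ] at this
    exact this
  · intro j hj
    set W : SL2 := Z⁻¹ * (x * Z * x⁻¹) with hW
    have hWj : prj (W ^ p ^ j) = 1 := by
      rw [map_pow, hW, map_mul, map_mul, map_mul, map_inv, map_inv, hZ]
      exact hj
    obtain ⟨d, hd2, hWd⟩ := (prj_eq_one_iff (W ^ p ^ j)).1 hWj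
    have hW2 : (W ^ 2) ^ p ^ j = 1 := by
      apply Subtype.ext
      rw [← pow_mul, mul_comm, pow_mul, Matrix.SpecialLinearGroup.coe_pow, hWd, smul_pow, one_pow, hd2, one_smul,
        Matrix.SpecialLinearGroup.coe_one]
    have ht2 := trace_eq_two_of_pow (W ^ 2) j hW2
    rw [trace_sq, hW, trace_inv_mul, hx', Cfsg.Agent.Lib.H9.QuadSL2.trace_conj, htr] at ht2
    have h32 : (2 : F) ^ 5 = 0 := by linear_combination ht2
    exact h2F (pow_eq_zero_iff (by norm_num) |>.mp h32)

end Cfsg.Agent.Lib.H12.QuadQ
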