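import Cfsg.Agent.Lib.H12.QuadQB
import Cfsg.Agent.Lib.H9.QuadSL2D

/-!
# No quadratic action when `H / C_H(V)` has no quadratic pairs (helper12)
-/

set_option autoImplicit false

namespace Cfsg.Agent.Lib.H12.QuadQ

open Cfsg.Agent.Lib.H9.QuadSL2
open scoped commutatorElement

variable {G : Type*} [Group G]

theorem no_quadratic {p : ℕ} [hp : Fact p.Prime] (V H : Subgroup G) (hV : Cfsg.IsElementaryAbelian p V)
    (hHV : H ≤ Subgroup.normalizer (V : Set G))
    [hn : ((Subgroup.centralizer (V : Set G)).subgroupOf H).Normal]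
    {R : Type*} [Group R] (hR : NoQuadPair R p)
    (e : ↥H ⧸ (Subgroup.centralizer (V : Set G)).subgroupOf H ≃* R)
    (A : Subgroup G) (hA : A ≤ H) (hquad : ⁅⁅V, A⁆, A⁆ = ⊥) : ⁅V, A⁆ = ⊥ := by
  by_contra hne
  have hQ := noQuadPair_of_equiv e p hR
  have hnle : ¬ A ≤ Subgroup.centralizer (V : Set G) := by
    intro hle
    apply hne
    rw [Subgroup.commutator_eq_bot_iff_le_centralizer]
    exact Subgroup.le_centralizer_iff.mp hle
  obtain ⟨a, haA, haC⟩ := SetLike.not_le_iff_exists.mp hnle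
  let θ : ↥H →* MulAut ↥V := (cj V).comp (Subgroup.inclusion hHV)
  have hθ : ∀ h : ↥H, θ h = 1 ↔ h ∈ (Subgroup.centralizer (V : Set G)).subgroupOf H := by
    intro h
    show cj V (Subgroup.inclusion hHV h) = 1 ↔ _
    rw [cj_eq_one_iff, Subgroup.mem_subgroupOf]
    rfl
  have hkey : ∀ (w : ↥H) (n : ℕ),
      ((w : ↥H ⧸ (Subgroup.centralizer (V : Set G)).subgroupOf H)) ^ n = 1 ↔ (θ w) ^ n = 1 := by
    intro w n
    rw [← QuotientGroup.mk_pow, QuotientGroup.eq_one_iff, ← hθ, map_pow]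
  have hc := comm_of_elem V hV
  have hexp := exp_of_elem V hV
  -- elements of `A` act quadratically
  have hquadA : ∀ (x : G) (hx : x ∈ A), IsQuad (θ ⟨x, hA hx⟩) := by
    intro x hx m
    apply Subtype.ext
    show x * ((m : G) * (x * (m : G) * x⁻¹)⁻¹) * x⁻¹ = (m : G) * (x * (m : G) * x⁻¹)⁻¹
    have h1 : ⁅⁅(m : G), x⁆, x⁆ ∈ ⁅⁅V, A⁆, A⁆ :=
      Subgroup.commutator_mem_commutator (Subgroup.commutator_mem_commutator m.2 hx) hx
    rw [hquad, Subgroup.mem_bot] at h1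
    set w : G := ⁅(m : G), x⁆ with hw
    have e1 : (m : G) * (x * (m : G) * x⁻¹)⁻¹ = w := by
      rw [hw, commutatorElement_def]; group
    rw [e1]
    rw [commutatorElement_def] at h1
    have h2 : w * x = x * w := by
      calc w * x = (w * x * w⁻¹ * x⁻¹) * (x * w) := by group
        _ = x * w := by rw [h1, one_mul]
    calc x * w * x⁻¹ = (w * x) * x⁻¹ := by rw [h2]
      _ = w := by group
  set a' : ↥H := ⟨a, hA haA⟩ with ha'
  have hα : IsQuad (θ a') := hquadA a haA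
  have hy1 : ((a' : ↥H) : ↥H ⧸ (Subgroup.centralizer (V : Set G)).subgroupOf H) ≠ 1 := by
    rw [Ne, QuotientGroup.eq_one_iff, Subgroup.mem_subgroupOf]
    exact haC
  have hyp : ((a' : ↥H) : ↥H ⧸ (Subgroup.centralizer (V : Set G)).subgroupOf H) ^ p = 1 := by
    rw [hkey]
    exact quad_pow hc hexp _ hα
  obtain ⟨g, k, hg⟩ := hQ _ hy1 hyp
  obtain ⟨h, rfl⟩ := QuotientGroup.mk_surjective g
  have hβ : IsQuad (θ (h * a' * h⁻¹)) := by
    rw [map_mul, map_mul, map_inv]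
    exact isQuad_conj _ _ hα
  rcases hg with ⟨h3, h4⟩ | ⟨h3, h4⟩
  · have h5 : (((a' * (h * a' * h⁻¹) : ↥H)) : ↥H ⧸ (Subgroup.centralizer (V : Set G)).subgroupOf H) ^ p ^ k = 1 := by
      simpa using h3
    rw [hkey, map_mul] at h5
    have h6 := quad_main hc hexp (θ a')⁻¹ (θ (h * a' * h⁻¹)) (isQuad_inv _ hα) hβ k (by rw [inv_inv]; exact h5)
    apply h4 (k + 1)
    have h7 : (((a'⁻¹ * (h * a' * h⁻¹) : ↥H)) : ↥H ⧸ (Subgroup.centralizer (V : Set G)).subgroupOf H) ^ p ^ (k + 1) = 1 := by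
      rw [hkey, map_mul, map_inv]
      exact h6
    simpa using h7
  · have h5 : (((a'⁻¹ * (h * a' * h⁻¹) : ↥H)) : ↥H ⧸ (Subgroup.centralizer (V : Set G)).subgroupOf H) ^ p ^ k = 1 := by
      simpa using h3
    rw [hkey, map_mul, map_inv] at h5
    have h6 := quad_main hc hexp (θ a') (θ (h * a' * h⁻¹)) hα hβ k h5
    apply h4 (k + 1)
    have h7 : (((a' * (h * a' * h⁻¹) : ↥H)) : ↥H ⧸ (Subgroup.centralizer (V : Set G)).subgroupOf H) ^ p ^ (k + 1) = 1 := by
      rw [hkey, map_mul]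
      exact h6
    simpa using h7

end Cfsg.Agent.Lib.H12.QuadQ
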