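import Cfsg.Agent.Lib.H29.ReeAut6

/-!
# Explicit relations in the Ree groups (helper12)

In `²G₂(3^(2m+1))` (in fact in the subgroup `²G₂(3)`), with `t = u(0,1,0)`, `g = v(0,1,0)`:
`(t · gtg⁻¹)³ = 1`, `(t⁻¹ · gtg⁻¹)² = 1 ≠ t⁻¹ · gtg⁻¹`; with `z = u(0,0,1)`, `g = v(0,0,1)`:
`(z⁻¹ · gzg⁻¹)⁹ = 1`, `(z · gzg⁻¹)⁷ = 1 ≠ z · gzg⁻¹`.  Checked by helper29's `wordEqMod`.
-/

set_option autoImplicit false
set_option linter.unusedSectionVars false
set_option linter.unusedSimpArgs false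
set_option linter.unusedVariables false

namespace Cfsg.Agent.Lib.H12.QuadRee

open Cfsg.Lie Matrix Cfsg.Agent.Lib.H29.Chev

section Tool

variable {D : ChevalleyDatum} {fd : FD} {fx : FX} {F : Type*} [Field F]

/-- a word with constant parameters is not the identity modulo `p`: the entry `(i, c)` differs -/
def wordNeMod (fd : FD) (p : ℕ) (w : List (ℕ × ℤ × ℕ × ℕ)) (c i : ℕ) : Bool :=
  (w.all fun x => Nat.blt x.1 fd.n) && Nat.blt c (fd.l + fd.n) && Nat.blt i (fd.l + fd.n) &&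
  !(intBeq ((FD.pvSum (fd.pvWordN p w [(c, 0, 0, 1)]) i - FD.pvSum [(c, 0, 0, 1)] i) % (p : ℤ)) 0)

theorem wordNeMod_sound (p : ℕ) [CharP F p] (h : Agrees D fd) (hc : fd.ChkAdd) (w : List (ℕ × ℤ × ℕ × ℕ))
    (c i : ℕ) (hchk : wordNeMod fd p w c i = true) : wMat D (1 : F) 1 w ≠ 1 := by
  intro h1
  simp only [wordNeMod, Bool.and_eq_true, List.all_eq_true, natBlt_iff, Bool.not_eq_true'] at hchk
  obtain ⟨⟨⟨hw, hcn⟩, hin⟩, hne⟩ := hchk
  have hv : pvBdd (fd.l + fd.n) [(c, 0, 0, 1)] := by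
    intro e he; rw [List.mem_singleton] at he; rw [he]; exact hcn
  have e := (pvWordN_spec (F := F) p h hc w hw _ hv).2
  rw [h1, Matrix.one_mulVec] at e
  obtain ⟨a, ha⟩ := code_surj D i (by rw [h.hl, h.hn]; exact hin)
  have e2 := congrFun e a
  rw [pvEv_one, pvEv_one, ha] at e2
  have e3 : (((FD.pvSum (fd.pvWordN p w [(c, 0, 0, 1)]) i - FD.pvSum [(c, 0, 0, 1)] i : ℤ)) : F) = 0 := by
    rw [Int.cast_sub, e2, sub_self]
  have e4 := (CharP.intCast_eq_zero_iff F p _).mp e3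
  have e5 := Int.emod_eq_zero_of_dvd e4
  have e6 := (intBeq_iff _ _).mpr e5
  rw [e6] at hne
  exact Bool.noConfusion hne

theorem wordG_ne_one (C : Cert2 D fd fx) (p : ℕ) [CharP F p] (w : List (ℕ × ℤ × ℕ × ℕ)) (c i : ℕ)
    (hchk : wordNeMod fd p w c i = true) :
    C.wordG (w.map fun x => (x.1, ((x.2.1 : ℤ) : F))) ≠ 1 := by
  intro h1
  have hchk' := hchk
  simp only [wordNeMod, Bool.and_eq_true, List.all_eq_true, natBlt_iff] at hchk'
  obtain ⟨⟨⟨hw, _⟩, _⟩, _⟩ := hchk'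
  apply wordNeMod_sound (F := F) p C.agrees C.chk.add w c i hchk
  rw [← C.wordG_int_val w hw, h1]
  rfl

theorem wordG_append (C : Cert2 D fd fx) (w₁ w₂ : List (ℕ × F)) :
    C.wordG (w₁ ++ w₂) = C.wordG w₁ * C.wordG w₂ := by
  unfold Cert2.wordG
  rw [List.map_append, List.prod_append]

theorem wordG_nil (C : Cert2 D fd fx) : C.wordG ([] : List (ℕ × F)) = 1 := by
  unfold Cert2.wordG
  rw [List.map_nil, List.prod_nil]

/-- the `n`-th power of a word -/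
def wpow {α : Type*} (n : ℕ) (w : List α) : List α := (List.replicate n w).flatten

theorem wordG_wpow (C : Cert2 D fd fx) (w : List (ℕ × ℤ × ℕ × ℕ)) (n : ℕ) :
    C.wordG ((wpow n w).map fun x => (x.1, ((x.2.1 : ℤ) : F))) =
      C.wordG (w.map fun x => (x.1, ((x.2.1 : ℤ) : F))) ^ n := by
  induction n with
  | zero =>
    show C.wordG (([] : List (ℕ × ℤ × ℕ × ℕ)).map _) = _
    rw [List.map_nil, wordG_nil, pow_zero]
  | succ n ih =>
    have e : wpow (n + 1) w = w ++ wpow n w := by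
      unfold wpow
      rw [List.replicate_succ, List.flatten_cons]
    rw [e, List.map_append, wordG_append, ih, pow_succ']

end Tool

section Words

/-- `u(0,1,0)`, its inverse, `v(0,1,0)`, its inverse -/
def t0w : List (ℕ × ℤ × ℕ × ℕ) := [(8, 1, 0, 0), (10, 1, 0, 0)]
def t0iw : List (ℕ × ℤ × ℕ × ℕ) := [(10, -1, 0, 0), (8, -1, 0, 0)]
def gTw : List (ℕ × ℤ × ℕ × ℕ) := [(3, -1, 0, 0), (1, -1, 0, 0)]
def gTiw : List (ℕ × ℤ × ℕ × ℕ) := [(1, 1, 0, 0), (3, 1, 0, 0)]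
/-- `u(0,0,1)`, its inverse, `v(0,0,1)`, its inverse -/
def z0w : List (ℕ × ℤ × ℕ × ℕ) := [(9, 1, 0, 0), (11, 1, 0, 0)]
def z0iw : List (ℕ × ℤ × ℕ × ℕ) := [(11, -1, 0, 0), (9, -1, 0, 0)]
def gXw : List (ℕ × ℤ × ℕ × ℕ) := [(2, -1, 0, 0), (0, -1, 0, 0)]
def gXiw : List (ℕ × ℤ × ℕ × ℕ) := [(0, 1, 0, 0), (2, 1, 0, 0)]

def aTw : List (ℕ × ℤ × ℕ × ℕ) := t0w ++ (gTw ++ t0w ++ gTiw)
def bTw : List (ℕ × ℤ × ℕ × ℕ) := t0iw ++ (gTw ++ t0w ++ gTiw)
def aXw : List (ℕ × ℤ × ℕ × ℕ) := z0w ++ (gXw ++ z0w ++ gXiw)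
def bXw : List (ℕ × ℤ × ℕ × ℕ) := z0iw ++ (gXw ++ z0w ++ gXiw)

set_option maxRecDepth 100000 in
theorem aT_chk : fdG2.wordEqMod 3 (wpow 3 aTw) [] = true := by decide +kernel
set_option maxRecDepth 100000 in
theorem bT_chk : fdG2.wordEqMod 3 (wpow 2 bTw) [] = true := by decide +kernel
set_option maxRecDepth 100000 in
theorem bT_ne : wordNeMod fdG2 3 bTw 0 0 = true := by decide +kernel
set_option maxRecDepth 100000 in
theorem aX_chk : fdG2.wordEqMod 3 (wpow 7 aXw) [] = true := by decide +kernel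
set_option maxRecDepth 100000 in
theorem bX_chk : fdG2.wordEqMod 3 (wpow 9 bXw) [] = true := by decide +kernel
set_option maxRecDepth 100000 in
theorem aX_ne : wordNeMod fdG2 3 aXw 0 0 = true := by decide +kernel

end Words

end Cfsg.Agent.Lib.H12.QuadRee
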