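import Cfsg.Agent.Lib.H12.QuadReeA
import Cfsg.Agent.Lib.H12.QuadQB

/-!
# The Ree groups have no quadratic pairs for `p = 3` (helper12)
-/

set_option autoImplicit false
set_option linter.unusedSectionVars false
set_option linter.unusedSimpArgs false
set_option linter.unusedVariables false

namespace Cfsg.Agent.Lib.H12.QuadRee

open Cfsg.Lie Matrix Cfsg.Agent.Lib.H29.Chev Cfsg.Agent.Lib.H12.QuadQ

section General

variable {R : Type*} [Group R]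

/-- the property of a single element in `NoQuadPair` -/
def QP (p : ℕ) (y : R) : Prop :=
  ∃ g : R, ∃ k : ℕ,
    ((y * (g * y * g⁻¹)) ^ p ^ k = 1 ∧ ∀ j : ℕ, (y⁻¹ * (g * y * g⁻¹)) ^ p ^ j ≠ 1) ∨
    ((y⁻¹ * (g * y * g⁻¹)) ^ p ^ k = 1 ∧ ∀ j : ℕ, (y * (g * y * g⁻¹)) ^ p ^ j ≠ 1)

theorem conj_pow_eq_one_iff (c w : R) (n : ℕ) : (c * w * c⁻¹) ^ n = 1 ↔ w ^ n = 1 := by
  rw [conj_pow]
  constructor
  · intro h
    have : w ^ n = c⁻¹ * (c * w ^ n * c⁻¹) * c := by group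
    rw [this, h]; group
  · intro h
    rw [h]; group

theorem inv_pow_eq_one_iff (w : R) (n : ℕ) : (w⁻¹) ^ n = 1 ↔ w ^ n = 1 := by
  rw [inv_pow, inv_eq_one]

theorem QP_conj (p : ℕ) (c y : R) (h : QP p y) : QP p (c * y * c⁻¹) := by
  obtain ⟨g, k, hg⟩ := h
  refine ⟨c * g * c⁻¹, k, ?_⟩
  have ea : c * y * c⁻¹ * (c * g * c⁻¹ * (c * y * c⁻¹) * (c * g * c⁻¹)⁻¹) = c * (y * (g * y * g⁻¹)) * c⁻¹ := by
    group
  have eb : (c * y * c⁻¹)⁻¹ * (c * g * c⁻¹ * (c * y * c⁻¹) * (c * g * c⁻¹)⁻¹) =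
      c * (y⁻¹ * (g * y * g⁻¹)) * c⁻¹ := by group
  rw [ea, eb]
  simp only [ne_eq, conj_pow_eq_one_iff]
  exact hg

theorem QP_inv (p : ℕ) (y : R) (h : QP p y) : QP p y⁻¹ := by
  obtain ⟨g, k, hg⟩ := h
  refine ⟨g, k, ?_⟩
  have ea : y⁻¹ * (g * y⁻¹ * g⁻¹) = y⁻¹ * (y * (g * y * g⁻¹))⁻¹ * (y⁻¹)⁻¹ := by group
  have eb : (y⁻¹)⁻¹ * (g * y⁻¹ * g⁻¹) = y * (y⁻¹ * (g * y * g⁻¹))⁻¹ * y⁻¹ := by group
  rw [ea, eb]
  simp only [ne_eq, conj_pow_eq_one_iff, inv_pow_eq_one_iff]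
  exact hg

theorem pow_ne_one_of_coprime {b : R} {n : ℕ} (hbn : b ^ n = 1) (hb : b ≠ 1) (N : ℕ) (hcop : Nat.Coprime n N) :
    b ^ N ≠ 1 := by
  intro h
  have h1 := orderOf_dvd_of_pow_eq_one hbn
  have h2 := orderOf_dvd_of_pow_eq_one h
  have h3 := Nat.dvd_gcd h1 h2
  rw [hcop.gcd_eq_one, Nat.dvd_one, orderOf_eq_one_iff] at h3
  exact hb h3

end General

section Ree

variable {K : Type*} [Field K] [CharP K 3]

theorem uR_001 (m : ℕ) : uR m (0 : K) 0 1 = gX 9 1 * gX 11 1 := by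
  rw [uR_eq]
  unfold gZ
  simp only [map_zero, map_one, gX, cert12_G2.c6.c2.xA_zero, mul_zero, zero_add, add_zero, one_mul, mul_one,
    ne_eq, OfNat.ofNat_ne_zero, not_false_eq_true, zero_pow]

theorem vR_001 (m : ℕ) : vR m (0 : K) 0 1 = gX 2 (-1) * gX 0 (-1) := by
  rw [vR_eq]
  unfold gZn
  simp only [map_zero, map_one, gX, cert12_G2.c6.c2.xA_zero, mul_zero, zero_add, add_zero, one_mul, mul_one,
    ne_eq, OfNat.ofNat_ne_zero, not_false_eq_true, zero_pow, neg_zero]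

theorem w_t0 : cert12_G2.c6.c2.wordG (t0w.map fun x => (x.1, ((x.2.1 : ℤ) : K))) = gX 8 1 * gX 10 1 := by
  unfold Cert2.wordG t0w
  simp only [List.map_cons, List.map_nil, List.prod_cons, List.prod_nil, mul_one, Int.cast_one, Int.cast_neg, gX]

theorem w_t0i : cert12_G2.c6.c2.wordG (t0iw.map fun x => (x.1, ((x.2.1 : ℤ) : K))) = gX 10 (-1) * gX 8 (-1) := by
  unfold Cert2.wordG t0iw
  simp only [List.map_cons, List.map_nil, List.prod_cons, List.prod_nil, mul_one, Int.cast_one, Int.cast_neg, gX]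

theorem w_gT : cert12_G2.c6.c2.wordG (gTw.map fun x => (x.1, ((x.2.1 : ℤ) : K))) = gX 3 (-1) * gX 1 (-1) := by
  unfold Cert2.wordG gTw
  simp only [List.map_cons, List.map_nil, List.prod_cons, List.prod_nil, mul_one, Int.cast_one, Int.cast_neg, gX]

theorem w_gTi : cert12_G2.c6.c2.wordG (gTiw.map fun x => (x.1, ((x.2.1 : ℤ) : K))) = gX 1 1 * gX 3 1 := by
  unfold Cert2.wordG gTiw
  simp only [List.map_cons, List.map_nil, List.prod_cons, List.prod_nil, mul_one, Int.cast_one, Int.cast_neg, gX]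

theorem w_z0 : cert12_G2.c6.c2.wordG (z0w.map fun x => (x.1, ((x.2.1 : ℤ) : K))) = gX 9 1 * gX 11 1 := by
  unfold Cert2.wordG z0w
  simp only [List.map_cons, List.map_nil, List.prod_cons, List.prod_nil, mul_one, Int.cast_one, Int.cast_neg, gX]

theorem w_z0i : cert12_G2.c6.c2.wordG (z0iw.map fun x => (x.1, ((x.2.1 : ℤ) : K))) = gX 11 (-1) * gX 9 (-1) := by
  unfold Cert2.wordG z0iw
  simp only [List.map_cons, List.map_nil, List.prod_cons, List.prod_nil, mul_one, Int.cast_one, Int.cast_neg, gX]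

theorem w_gX : cert12_G2.c6.c2.wordG (gXw.map fun x => (x.1, ((x.2.1 : ℤ) : K))) = gX 2 (-1) * gX 0 (-1) := by
  unfold Cert2.wordG gXw
  simp only [List.map_cons, List.map_nil, List.prod_cons, List.prod_nil, mul_one, Int.cast_one, Int.cast_neg, gX]

theorem w_gXi : cert12_G2.c6.c2.wordG (gXiw.map fun x => (x.1, ((x.2.1 : ℤ) : K))) = gX 0 1 * gX 2 1 := by
  unfold Cert2.wordG gXiw
  simp only [List.map_cons, List.map_nil, List.prod_cons, List.prod_nil, mul_one, Int.cast_one, Int.cast_neg, gX]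

theorem inv_two (r s : ℕ) (a b : K) : (gX r a * gX s b)⁻¹ = gX s (-b) * gX r (-a) := by
  rw [_root_.mul_inv_rev]
  show (cert12_G2.c6.c2.xA s b)⁻¹ * (cert12_G2.c6.c2.xA r a)⁻¹ = _
  rw [cert12_G2.c6.c2.xA_inv, cert12_G2.c6.c2.xA_inv]

/-- the word of `y * (g * y' * g⁻¹)` -/
theorem word_four (w₁ w₂ w₃ w₄ : List (ℕ × ℤ × ℕ × ℕ)) :
    cert12_G2.c6.c2.wordG ((w₁ ++ (w₂ ++ w₃ ++ w₄)).map fun x => (x.1, ((x.2.1 : ℤ) : K))) =
      cert12_G2.c6.c2.wordG (w₁.map fun x => (x.1, ((x.2.1 : ℤ) : K))) *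
        (cert12_G2.c6.c2.wordG (w₂.map fun x => (x.1, ((x.2.1 : ℤ) : K))) *
          cert12_G2.c6.c2.wordG (w₃.map fun x => (x.1, ((x.2.1 : ℤ) : K))) *
          cert12_G2.c6.c2.wordG (w₄.map fun x => (x.1, ((x.2.1 : ℤ) : K)))) := by
  rw [List.map_append, wordG_append, List.map_append, wordG_append, List.map_append, wordG_append]

theorem pow_word_eq_one (w : List (ℕ × ℤ × ℕ × ℕ)) (n : ℕ) (h : fdG2.wordEqMod 3 (wpow n w) [] = true) :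
    cert12_G2.c6.c2.wordG (w.map fun x => (x.1, ((x.2.1 : ℤ) : K))) ^ n = 1 := by
  rw [← wordG_wpow, cert12_G2.c6.c2.wordG_eq_of_mod (F := K) 3 _ _ h, List.map_nil, wordG_nil]

/-- relations of type `T` -/
theorem relT (m : ℕ) :
    (uR m (0 : K) 1 0 * (vR m (0 : K) 1 0 * uR m (0 : K) 1 0 * (vR m (0 : K) 1 0)⁻¹)) ^ 3 = 1 ∧
    ((uR m (0 : K) 1 0)⁻¹ * (vR m (0 : K) 1 0 * uR m (0 : K) 1 0 * (vR m (0 : K) 1 0)⁻¹)) ^ 2 = 1 ∧
    (uR m (0 : K) 1 0)⁻¹ * (vR m (0 : K) 1 0 * uR m (0 : K) 1 0 * (vR m (0 : K) 1 0)⁻¹) ≠ 1 := by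
  have e1 : uR m (0 : K) 1 0 = cert12_G2.c6.c2.wordG (t0w.map fun x => (x.1, ((x.2.1 : ℤ) : K))) := by
    rw [w_t0, uR_010]
  have e2 : (uR m (0 : K) 1 0)⁻¹ = cert12_G2.c6.c2.wordG (t0iw.map fun x => (x.1, ((x.2.1 : ℤ) : K))) := by
    rw [w_t0i, uR_010, inv_two]
  have e3 : vR m (0 : K) 1 0 = cert12_G2.c6.c2.wordG (gTw.map fun x => (x.1, ((x.2.1 : ℤ) : K))) := by
    rw [w_gT, vR_010]
  have e4 : (vR m (0 : K) 1 0)⁻¹ = cert12_G2.c6.c2.wordG (gTiw.map fun x => (x.1, ((x.2.1 : ℤ) : K))) := by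
    rw [w_gTi, vR_010, inv_two]; simp only [neg_neg]
  have ea : uR m (0 : K) 1 0 * (vR m (0 : K) 1 0 * uR m (0 : K) 1 0 * (vR m (0 : K) 1 0)⁻¹) =
      cert12_G2.c6.c2.wordG (aTw.map fun x => (x.1, ((x.2.1 : ℤ) : K))) := by
    unfold aTw
    rw [word_four, ← e1, ← e3, ← e4]
  have eb : (uR m (0 : K) 1 0)⁻¹ * (vR m (0 : K) 1 0 * uR m (0 : K) 1 0 * (vR m (0 : K) 1 0)⁻¹) =
      cert12_G2.c6.c2.wordG (bTw.map fun x => (x.1, ((x.2.1 : ℤ) : K))) := by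
    unfold bTw
    rw [word_four, ← e1, ← e2, ← e3, ← e4]
  rw [ea, eb]
  exact ⟨pow_word_eq_one aTw 3 aT_chk, pow_word_eq_one bTw 2 bT_chk,
    wordG_ne_one cert12_G2.c6.c2 3 bTw 0 0 bT_ne⟩

/-- relations of type `X` -/
theorem relX (m : ℕ) :
    ((uR m (0 : K) 0 1)⁻¹ * (vR m (0 : K) 0 1 * uR m (0 : K) 0 1 * (vR m (0 : K) 0 1)⁻¹)) ^ 9 = 1 ∧
    (uR m (0 : K) 0 1 * (vR m (0 : K) 0 1 * uR m (0 : K) 0 1 * (vR m (0 : K) 0 1)⁻¹)) ^ 7 = 1 ∧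
    uR m (0 : K) 0 1 * (vR m (0 : K) 0 1 * uR m (0 : K) 0 1 * (vR m (0 : K) 0 1)⁻¹) ≠ 1 := by
  have e1 : uR m (0 : K) 0 1 = cert12_G2.c6.c2.wordG (z0w.map fun x => (x.1, ((x.2.1 : ℤ) : K))) := by
    rw [w_z0, uR_001]
  have e2 : (uR m (0 : K) 0 1)⁻¹ = cert12_G2.c6.c2.wordG (z0iw.map fun x => (x.1, ((x.2.1 : ℤ) : K))) := by
    rw [w_z0i, uR_001, inv_two]
  have e3 : vR m (0 : K) 0 1 = cert12_G2.c6.c2.wordG (gXw.map fun x => (x.1, ((x.2.1 : ℤ) : K))) := by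
    rw [w_gX, vR_001]
  have e4 : (vR m (0 : K) 0 1)⁻¹ = cert12_G2.c6.c2.wordG (gXiw.map fun x => (x.1, ((x.2.1 : ℤ) : K))) := by
    rw [w_gXi, vR_001, inv_two]; simp only [neg_neg]
  have ea : uR m (0 : K) 0 1 * (vR m (0 : K) 0 1 * uR m (0 : K) 0 1 * (vR m (0 : K) 0 1)⁻¹) =
      cert12_G2.c6.c2.wordG (aXw.map fun x => (x.1, ((x.2.1 : ℤ) : K))) := by
    unfold aXw
    rw [word_four, ← e1, ← e3, ← e4]
  have eb : (uR m (0 : K) 0 1)⁻¹ * (vR m (0 : K) 0 1 * uR m (0 : K) 0 1 * (vR m (0 : K) 0 1)⁻¹) =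
      cert12_G2.c6.c2.wordG (bXw.map fun x => (x.1, ((x.2.1 : ℤ) : K))) := by
    unfold bXw
    rw [word_four, ← e1, ← e2, ← e3, ← e4]
  rw [ea, eb]
  exact ⟨pow_word_eq_one bXw 9 bX_chk, pow_word_eq_one aXw 7 aX_chk,
    wordG_ne_one cert12_G2.c6.c2 3 aXw 0 0 aX_ne⟩

end Ree

end Cfsg.Agent.Lib.H12.QuadRee
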