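import Cfsg.Agent.Lib.H12.QuadReeB

/-!
# The Ree groups have no quadratic pairs for `p = 3`: reduction to `u(0,±1,0)`, `u(0,0,1)` (helper12)
-/

set_option autoImplicit false
set_option linter.unusedSectionVars false
set_option linter.unusedSimpArgs false
set_option linter.unusedVariables false

namespace Cfsg.Agent.Lib.H12.QuadRee

open Cfsg.Lie Matrix Cfsg.Agent.Lib.H29.Chev Cfsg.Agent.Lib.H12.QuadQ

variable {K : Type*} [Field K] [CharP K 3] [Fintype K]

theorem sig_pow (m : ℕ) (z : K) : reeSig K m z = z ^ 3 ^ (m + 1) := by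
  rw [reeSig_apply, reeTheta_apply, ← pow_mul, ← pow_succ]

theorem pow_three_card (m : ℕ) (hK : Fintype.card K = 3 ^ (2 * m + 1)) (s : K) :
    s ^ (3 ^ (m + 1) * 3 ^ (m + 1)) = s ^ 3 := by
  have h1 : 3 ^ (m + 1) * 3 ^ (m + 1) = Fintype.card K * 3 := by
    rw [hK, ← pow_add, ← pow_succ]
    congr 1
    omega
  rw [h1, pow_mul, FiniteField.pow_card]

theorem exists_b (m : ℕ) : ∃ b : ℕ, 3 ^ (m + 1) = b + 2 := by
  refine ⟨3 ^ (m + 1) - 2, ?_⟩
  have : 3 ^ 1 ≤ 3 ^ (m + 1) := Nat.pow_le_pow_right (by norm_num) (by omega)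
  omega

theorem exists_zX (m : ℕ) (hK : Fintype.card K = 3 ^ (2 * m + 1)) (v : K) (hv : v ≠ 0) :
    ∃ z : Kˣ, reeSig K m (z : K) * (z : K) ^ 2 * v = 1 := by
  obtain ⟨b, hb⟩ := exists_b m
  refine ⟨Units.mk0 (v ^ b) (pow_ne_zero _ hv), ?_⟩
  rw [Units.val_mk0, sig_pow, hb]
  have h1 : v ^ ((b + 2) * (b + 2)) = v ^ 3 := by rw [← hb]; exact pow_three_card m hK v
  have h2 : ((v ^ b) ^ (b + 2) * (v ^ b) ^ 2 * v) * v ^ 3 = 1 * v ^ 3 := by
    have e : ((v ^ b) ^ (b + 2) * (v ^ b) ^ 2 * v) * v ^ 3 = v ^ ((b + 2) * (b + 2)) := by ring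
    rw [e, h1, one_mul]
  exact mul_right_cancel₀ (pow_ne_zero 3 hv) h2

theorem exists_zT (m : ℕ) (hK : Fintype.card K = 3 ^ (2 * m + 1)) (u : K) (hu : u ≠ 0) :
    ∃ z : Kˣ, reeSig K m (z : K) * (z : K) * u = 1 ∨ reeSig K m (z : K) * (z : K) * u = -1 := by
  obtain ⟨s, hs⟩ := unit_sq_or_neg_sq m hK (Units.mk0 u hu)⁻¹
  obtain ⟨b, hb⟩ := exists_b m
  refine ⟨s ^ (b + 1), ?_⟩
  have hs0 : (s : K) ≠ 0 := s.ne_zero
  have h1 : (s : K) ^ ((b + 2) * (b + 2)) = (s : K) ^ 3 := by rw [← hb]; exact pow_three_card m hK _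
  have h2 : reeSig K m ((s ^ (b + 1) : Kˣ) : K) * ((s ^ (b + 1) : Kˣ) : K) = (s : K) * s := by
    rw [Units.val_pow_eq_pow_val, sig_pow, hb]
    have : ((((s : K) ^ (b + 1)) ^ (b + 2)) * (s : K) ^ (b + 1)) * s = ((s : K) * s) * s := by
      calc _ = (s : K) ^ ((b + 2) * (b + 2)) := by ring
        _ = (s : K) ^ 3 := h1
        _ = _ := by ring
    exact mul_right_cancel₀ hs0 this
  rw [h2]
  rcases hs with hs | hs
  · left
    have := congrArg (fun w : Kˣ => (w : K)) hs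
    simp only [Units.val_inv_eq_inv_val, Units.val_mk0, Units.val_mul] at this
    rw [← this]
    exact inv_mul_cancel₀ hu
  · right
    have := congrArg (fun w : Kˣ => (w : K)) hs
    simp only [Units.val_inv_eq_inv_val, Units.val_mk0, Units.val_mul, Units.val_neg, Units.val_one] at this
    have h3 : (s : K) * s = -u⁻¹ := by rw [this]; ring
    rw [h3, neg_mul, inv_mul_cancel₀ hu]

theorem qp_t0 (m : ℕ) : QP 3 (reeUel m (0 : K) 1 0) := by
  obtain ⟨r1, r2, r3⟩ := relT (K := K) m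
  refine ⟨⟨vR m 0 1 0, vR_mem_tw m 0 1 0⟩, 1, Or.inl ⟨?_, ?_⟩⟩
  · rw [pow_one]
    apply Subtype.ext
    simp only [Subgroup.coe_pow, Subgroup.coe_mul, Subgroup.coe_inv, Subgroup.coe_one, reeUel_val]
    exact r1
  · intro j
    apply pow_ne_one_of_coprime (n := 2) ?_ ?_ (3 ^ j) (Nat.Coprime.pow_right j (by norm_num))
    · apply Subtype.ext
      simp only [Subgroup.coe_pow, Subgroup.coe_mul, Subgroup.coe_inv, Subgroup.coe_one, reeUel_val]
      exact r2
    · intro h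
      apply r3
      have := congrArg Subtype.val h
      simpa only [Subgroup.coe_pow, Subgroup.coe_mul, Subgroup.coe_inv, Subgroup.coe_one, reeUel_val] using this

theorem qp_z0 (m : ℕ) : QP 3 (reeUel m (0 : K) 0 1) := by
  obtain ⟨r1, r2, r3⟩ := relX (K := K) m
  refine ⟨⟨vR m 0 0 1, vR_mem_tw m 0 0 1⟩, 2, Or.inr ⟨?_, ?_⟩⟩
  · apply Subtype.ext
    simp only [Subgroup.coe_pow, Subgroup.coe_mul, Subgroup.coe_inv, Subgroup.coe_one, reeUel_val]
    exact r1
  · intro j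
    apply pow_ne_one_of_coprime (n := 7) ?_ ?_ (3 ^ j) (Nat.Coprime.pow_right j (by norm_num))
    · apply Subtype.ext
      simp only [Subgroup.coe_pow, Subgroup.coe_mul, Subgroup.coe_inv, Subgroup.coe_one, reeUel_val]
      exact r2
    · intro h
      apply r3
      have := congrArg Subtype.val h
      simpa only [Subgroup.coe_pow, Subgroup.coe_mul, Subgroup.coe_inv, Subgroup.coe_one, reeUel_val] using this

/-- every element of order `3` of `U` -/
theorem qp_x (m : ℕ) (hK : Fintype.card K = 3 ^ (2 * m + 1)) (hm : 1 ≤ m) (t u v : K)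
    (h3 : (reeSys m hK hm).x t u v ^ 3 = 1) (h1 : (reeSys m hK hm).x t u v ≠ 1) :
    QP 3 ((reeSys m hK hm).x t u v) := by
  set R := reeSys m hK hm with hR
  have ht : t = 0 := (R.x_cube_eq_one_iff t u v).mp h3
  subst ht
  have hσ0 : R.σ 0 = 0 := map_zero _
  by_cases hu : u = 0
  · subst hu
    have hv : v ≠ 0 := by
      rintro rfl
      exact h1 R.x_zero
    obtain ⟨z, hz⟩ := exists_zX m hK v hv
    have e : R.h z * R.x 0 0 v * (R.h z)⁻¹ = R.x 0 0 1 := by
      rw [R.h_conj]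
      apply R.x_congr
      · ring
      · ring
      · exact hz
    have hq : QP 3 (R.x 0 0 1) := qp_z0 m
    have := QP_conj 3 (R.h z)⁻¹ _ hq
    rw [← e] at this
    have e2 : (R.h z)⁻¹ * (R.h z * R.x 0 0 v * (R.h z)⁻¹) * (R.h z)⁻¹⁻¹ = R.x 0 0 v := by group
    rw [e2] at this
    exact this
  · -- conjugate to `x 0 u 0`
    have e0 : R.x (-v / u) 0 0 * R.x 0 u v * (R.x (-v / u) 0 0)⁻¹ = R.x 0 u 0 := by
      rw [mul_inv_eq_iff_eq_mul, R.x_mul, R.x_mul]
      apply R.x_congr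
      · ring
      · rw [hσ0]; ring
      · rw [hσ0]; field_simp; ring
    obtain ⟨z, hz⟩ := exists_zT m hK u hu
    have hq1 : QP 3 (R.x 0 1 0) := qp_t0 m
    have hq : QP 3 (R.x 0 u 0) := by
      rcases hz with hz | hz
      · have e : R.h z * R.x 0 u 0 * (R.h z)⁻¹ = R.x 0 1 0 := by
          rw [R.h_conj]
          apply R.x_congr
          · ring
          · exact hz
          · ring
        have := QP_conj 3 (R.h z)⁻¹ _ hq1
        rw [← e] at this
        have e2 : (R.h z)⁻¹ * (R.h z * R.x 0 u 0 * (R.h z)⁻¹) * (R.h z)⁻¹⁻¹ = R.x 0 u 0 := by group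
        rw [e2] at this
        exact this
      · have e : R.h z * R.x 0 u 0 * (R.h z)⁻¹ = (R.x 0 1 0)⁻¹ := by
          rw [R.h_conj, R.x_inv]
          apply R.x_congr
          · ring
          · rw [hσ0]
            have : R.σ (z : K) * (z : K) * u = -1 := hz
            rw [this]; ring
          · rw [hσ0]; ring
        have := QP_conj 3 (R.h z)⁻¹ _ (QP_inv 3 _ hq1)
        rw [← e] at this
        have e2 : (R.h z)⁻¹ * (R.h z * R.x 0 u 0 * (R.h z)⁻¹) * (R.h z)⁻¹⁻¹ = R.x 0 u 0 := by group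
        rw [e2] at this
        exact this
    have := QP_conj 3 (R.x (-v / u) 0 0)⁻¹ _ hq
    rw [← e0] at this
    have e2 : (R.x (-v / u) 0 0)⁻¹ * (R.x (-v / u) 0 0 * R.x 0 u v * (R.x (-v / u) 0 0)⁻¹) *
        (R.x (-v / u) 0 0)⁻¹⁻¹ = R.x 0 u v := by group
    rw [e2] at this
    exact this

/-- **The Ree groups have no quadratic pairs.** -/
theorem noQuadPair_ree (m : ℕ) (hK : Fintype.card K = 3 ^ (2 * m + 1)) (hm : 1 ≤ m) :
    NoQuadPair ↥(twistedG2 K (3 ^ m)) 3 := by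
  intro y hy1 hy3
  have hord : orderOf y = 3 := orderOf_eq_prime hy3 hy1
  have hpg : IsPGroup 3 (Subgroup.zpowers y) :=
    IsPGroup.of_card (n := 1) (by rw [Nat.card_zpowers, hord, pow_one])
  obtain ⟨P, hP⟩ := hpg.exists_le_sylow
  obtain ⟨c, hc⟩ := sylow_three_char m hK P
  have h1 : c⁻¹ * y * c ∈ reeU K m := (hc y).mp (hP (Subgroup.mem_zpowers y))
  rw [← reeSys_U m hK hm] at h1
  obtain ⟨t, u, v, e⟩ := ((reeSys m hK hm).mem_U _).mp h1
  have e' : c⁻¹ * y * c = c⁻¹ * y * c⁻¹⁻¹ := by rw [inv_inv]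
  have hq : QP 3 ((reeSys m hK hm).x t u v) := by
    apply qp_x m hK hm t u v
    · rw [← e, e', conj_pow_eq_one_iff]
      exact hy3
    · rw [← e]
      intro h0
      apply hy1
      have : y = c * (c⁻¹ * y * c) * c⁻¹ := by group
      rw [this, h0]; group
  have := QP_conj 3 c _ hq
  rw [← e] at this
  have e2 : c * (c⁻¹ * y * c) * c⁻¹ = y := by group
  rw [e2] at this
  exact this

end Cfsg.Agent.Lib.H12.QuadRee
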