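import Mathlib

/-!
# An abstract description of a Ree group for the study of the centraliser of an involution (helper12)

`RSys G K`: unipotent elements `x(t,u,v)`, torus `h(z)`, Weyl element `n` with `n² = 1`, `n` inverting the
torus, the rank-one relation `n x(0,1,0) n⁻¹ = x(0,-1,0) n x(0,-1,0)`, the Bruhat decomposition, and the
arithmetic facts on the field that are needed. Part 1: uniqueness in the Bruhat decomposition and the
centraliser of `a = h(-1)`.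
-/

set_option autoImplicit false
set_option linter.unusedSectionVars false
set_option linter.unusedSimpArgs false
set_option linter.unusedVariables false

namespace Cfsg.Agent.Lib.H12.ReeC

/-- an abstract description of a Ree group -/
structure RSys (G K : Type*) [Group G] [Field K] where
  x : K → K → K → G
  h : Kˣ →* G
  n : G
  σ : K →+* K
  three : (3 : K) = 0
  x_inj : ∀ t u v t' u' v', x t u v = x t' u' v' → t = t' ∧ u = u' ∧ v = v'
  h_inj : Function.Injective h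
  x_mul : ∀ t u v t' u' v', x t u v * x t' u' v' =
    x (t + t') (u + u' - σ t' * t) (v + v' - t' * u - σ t' * t ^ 2 + σ t' * t * t')
  h_conj : ∀ (z : Kˣ) t u v, h z * x t u v * (h z)⁻¹ = x (z * t) (σ z * z * u) (σ z * (z : K) ^ 2 * v)
  bruhat : ∀ g : G, (∃ t u v z, g = x t u v * h z) ∨
    (∃ t u v z t' u' v', g = x t u v * (n * h z) * x t' u' v')
  n_conj : ∀ t u v, (∃ t' u' v' z, n * x t u v * n⁻¹ = x t' u' v' * h z) → t = 0 ∧ u = 0 ∧ v = 0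
  n_sq : n * n = 1
  n_h : ∀ z, n * h z * n⁻¹ = (h z)⁻¹
  n_x : n * x 0 1 0 * n⁻¹ = x 0 (-1) 0 * n * x 0 (-1) 0
  chi_surj : ∀ t : K, t ≠ 0 → ∃ z : Kˣ, σ z * z = t ∨ σ z * z = -t
  sq_or : ∀ w : Kˣ, ∃ z : Kˣ, w = z * z ∨ w = -1 * (z * z)
  nonsq : ∀ y : K, y * y ≠ -1

namespace RSys

variable {G K : Type*} [Group G] [Field K] (R : RSys G K)

theorem x_congr {t u v t' u' v' : K} (h1 : t = t') (h2 : u = u') (h3 : v = v') :
    R.x t u v = R.x t' u' v' := by rw [h1, h2, h3]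

theorem x_zero : R.x 0 0 0 = 1 := by
  have h := R.x_mul 0 0 0 0 0 0
  have e : R.x (0 + 0) (0 + 0 - R.σ 0 * 0) (0 + 0 - 0 * 0 - R.σ 0 * 0 ^ 2 + R.σ 0 * 0 * 0) = R.x 0 0 0 :=
    R.x_congr (by ring) (by ring) (by ring)
  rw [e] at h
  exact mul_eq_left.mp h

include R in
theorem two_mul_two : (2 : K) * 2 = 1 := by
  have := R.three
  linear_combination this

include R in
theorem two_ne_zero' : (2 : K) ≠ 0 := by
  intro h
  have := R.two_mul_two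
  rw [h, zero_mul] at this
  exact zero_ne_one this

include R in
theorem eq_zero_of_neg_eq {t : K} (h : -t = t) : t = 0 := by
  have h2 : (2 : K) * t = 0 := by linear_combination -h
  rcases mul_eq_zero.mp h2 with h' | h'
  · exact absurd h' R.two_ne_zero'
  · exact h'

theorem x_inv (t u v : K) :
    (R.x t u v)⁻¹ = R.x (-t) (-u - R.σ t * t) (-v - t * u + R.σ t * t ^ 2) := by
  apply inv_eq_of_mul_eq_one_right
  rw [R.x_mul, ← R.x_zero]
  apply R.x_congr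
  · ring
  · rw [map_neg]; ring
  · rw [map_neg]
    linear_combination (R.σ t * t ^ 2) * R.three

/-- the unipotent subgroup -/
def U : Subgroup G where
  carrier := {g | ∃ t u v, g = R.x t u v}
  mul_mem' := by
    rintro _ _ ⟨t, u, v, rfl⟩ ⟨t', u', v', rfl⟩
    exact ⟨_, _, _, R.x_mul t u v t' u' v'⟩
  one_mem' := ⟨0, 0, 0, R.x_zero.symm⟩
  inv_mem' := by
    rintro _ ⟨t, u, v, rfl⟩
    exact ⟨_, _, _, R.x_inv t u v⟩

theorem mem_U (g : G) : g ∈ R.U ↔ ∃ t u v, g = R.x t u v := Iff.rfl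

theorem x_mem_U (t u v : K) : R.x t u v ∈ R.U := ⟨t, u, v, rfl⟩

theorem h_mul_x (z : Kˣ) (t u v : K) :
    R.h z * R.x t u v = R.x (z * t) (R.σ z * z * u) (R.σ z * (z : K) ^ 2 * v) * R.h z := by
  rw [← R.h_conj]; group

theorem h_conj_mem_U (z : Kˣ) (y : G) (hy : y ∈ R.U) : R.h z * y * (R.h z)⁻¹ ∈ R.U := by
  obtain ⟨t, u, v, rfl⟩ := hy
  rw [R.h_conj]
  exact R.x_mem_U _ _ _

/-- the Borel subgroup -/
def B : Subgroup G where
  carrier := {g | ∃ y ∈ R.U, ∃ z, g = y * R.h z}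
  mul_mem' := by
    rintro _ _ ⟨y, hy, z, rfl⟩ ⟨y', hy', z', rfl⟩
    refine ⟨y * (R.h z * y' * (R.h z)⁻¹), mul_mem hy (R.h_conj_mem_U z y' hy'), z * z', ?_⟩
    rw [map_mul]; group
  one_mem' := ⟨1, one_mem _, 1, by rw [map_one, one_mul]⟩
  inv_mem' := by
    rintro _ ⟨y, hy, z, rfl⟩
    refine ⟨R.h z⁻¹ * y⁻¹ * (R.h z⁻¹)⁻¹, R.h_conj_mem_U _ _ (inv_mem hy), z⁻¹, ?_⟩
    rw [map_inv]; group

theorem mem_B (g : G) : g ∈ R.B ↔ ∃ t u v z, g = R.x t u v * R.h z := by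
  constructor
  · rintro ⟨y, ⟨t, u, v, rfl⟩, z, rfl⟩
    exact ⟨t, u, v, z, rfl⟩
  · rintro ⟨t, u, v, z, rfl⟩
    exact ⟨_, R.x_mem_U t u v, z, rfl⟩

theorem U_le_B : R.U ≤ R.B := by
  intro y hy
  exact ⟨y, hy, 1, by rw [map_one, mul_one]⟩

theorem h_mem_B (z : Kˣ) : R.h z ∈ R.B := ⟨1, one_mem _, z, by rw [one_mul]⟩

theorem n_inv : R.n⁻¹ = R.n := inv_eq_of_mul_eq_one_right R.n_sq

/-- `n y n⁻¹ ∈ B` for `y ∈ U` forces `y = 1` -/
theorem eq_one_of_n_conj_mem (y : G) (hy : y ∈ R.U) (h : R.n * y * R.n⁻¹ ∈ R.B) : y = 1 := by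
  obtain ⟨t, u, v, rfl⟩ := hy
  obtain ⟨t', u', v', z, e⟩ := (R.mem_B _).mp h
  obtain ⟨rfl, rfl, rfl⟩ := R.n_conj t u v ⟨t', u', v', z, e⟩
  exact R.x_zero

theorem U_inf_H (y : G) (hy : y ∈ R.U) (z : Kˣ) (h : y = R.h z) : y = 1 := by
  apply R.eq_one_of_n_conj_mem y hy
  rw [h, R.n_h, ← map_inv]
  exact R.h_mem_B _

theorem x_one_ne : R.x 1 0 0 ≠ 1 := by
  intro h
  rw [← R.x_zero] at h
  exact one_ne_zero (R.x_inj _ _ _ _ _ _ h).1

theorem n_not_mem_B : R.n ∉ R.B := by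
  intro h
  have h1 : R.n * R.x 1 0 0 * R.n⁻¹ ∈ R.B :=
    mul_mem (mul_mem h (R.U_le_B (R.x_mem_U _ _ _))) (inv_mem h)
  exact R.x_one_ne (R.eq_one_of_n_conj_mem _ (R.x_mem_U _ _ _) h1)

/-- uniqueness in the small cell -/
theorem cellB_inj (y y' : G) (hy : y ∈ R.U) (hy' : y' ∈ R.U) (z z' : Kˣ)
    (h : y * R.h z = y' * R.h z') : y = y' ∧ z = z' := by
  have e : y'⁻¹ * y = R.h (z' * z⁻¹) := by
    rw [map_mul, map_inv]
    calc y'⁻¹ * y = y'⁻¹ * (y * R.h z) * (R.h z)⁻¹ := by group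
      _ = R.h z' * (R.h z)⁻¹ := by rw [h]; group
  have h1 := R.U_inf_H _ (mul_mem (inv_mem hy') hy) _ e
  have h2 : y = y' := by
    have : y = y' * (y'⁻¹ * y) := by group
    rw [this, h1, mul_one]
  refine ⟨h2, ?_⟩
  rw [h1] at e
  have h3 : R.h (z' * z⁻¹) = R.h 1 := by rw [← e, map_one]
  have h4 := R.h_inj h3
  rw [mul_inv_eq_one] at h4
  exact h4.symm

/-- uniqueness in the big cell -/
theorem cellW_inj (y₁ y₂ y₁' y₂' : G) (h₁ : y₁ ∈ R.U) (h₂ : y₂ ∈ R.U) (h₁' : y₁' ∈ R.U) (h₂' : y₂' ∈ R.U)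
    (z z' : Kˣ) (h : y₁ * (R.n * R.h z) * y₂ = y₁' * (R.n * R.h z') * y₂') :
    y₁ = y₁' ∧ z = z' ∧ y₂ = y₂' := by
  have e1 : R.n⁻¹ * (y₁'⁻¹ * y₁) * R.n = R.h z' * (y₂' * y₂⁻¹) * (R.h z)⁻¹ := by
    calc R.n⁻¹ * (y₁'⁻¹ * y₁) * R.n
        = R.n⁻¹ * y₁'⁻¹ * (y₁ * (R.n * R.h z) * y₂) * y₂⁻¹ * (R.h z)⁻¹ := by group
      _ = R.h z' * (y₂' * y₂⁻¹) * (R.h z)⁻¹ := by rw [h]; group
  have e2 : R.n * (y₁'⁻¹ * y₁) * R.n⁻¹ = R.h z' * (y₂' * y₂⁻¹) * (R.h z)⁻¹ := by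
    rw [R.n_inv] at e1 ⊢
    exact e1
  have hB : R.n * (y₁'⁻¹ * y₁) * R.n⁻¹ ∈ R.B := by
    rw [e2]
    exact mul_mem (mul_mem (R.h_mem_B _) (R.U_le_B (mul_mem h₂' (inv_mem h₂)))) (inv_mem (R.h_mem_B _))
  have h1 := R.eq_one_of_n_conj_mem _ (mul_mem (inv_mem h₁') h₁) hB
  have hy : y₁ = y₁' := by
    have : y₁ = y₁' * (y₁'⁻¹ * y₁) := by group
    rw [this, h1, mul_one]
  subst hy
  have e3 : y₂' * y₂⁻¹ = R.h (z'⁻¹ * z) := by
    rw [map_mul, map_inv]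
    calc y₂' * y₂⁻¹ = (R.h z')⁻¹ * R.n⁻¹ * y₁⁻¹ * (y₁ * (R.n * R.h z') * y₂') * y₂⁻¹ := by group
      _ = (R.h z')⁻¹ * R.h z := by rw [← h]; group
  have h2 := R.U_inf_H _ (mul_mem h₂' (inv_mem h₂)) _ e3
  have hy2 : y₂ = y₂' := by
    have : y₂' = (y₂' * y₂⁻¹) * y₂ := by group
    rw [this, h2, one_mul]
  refine ⟨rfl, ?_, hy2⟩
  rw [h2] at e3
  have h3 : R.h (z'⁻¹ * z) = R.h 1 := by rw [← e3, map_one]
  have h4 := R.h_inj h3
  rw [inv_mul_eq_one] at h4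
  exact h4.symm

/-- the two cells are disjoint -/
theorem cell_disj (y y₁ y₂ : G) (hy : y ∈ R.U) (h₁ : y₁ ∈ R.U) (h₂ : y₂ ∈ R.U) (z z' : Kˣ) :
    y * R.h z ≠ y₁ * (R.n * R.h z') * y₂ := by
  intro h
  apply R.n_not_mem_B
  have e : R.n = y₁⁻¹ * (y * R.h z) * y₂⁻¹ * (R.h z')⁻¹ := by rw [h]; group
  rw [e]
  exact mul_mem (mul_mem (mul_mem (inv_mem (R.U_le_B h₁)) (mul_mem (R.U_le_B hy) (R.h_mem_B _)))
    (inv_mem (R.U_le_B h₂))) (inv_mem (R.h_mem_B _))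

/-! ### the elements `X(u) = x(0,u,0)` and the involution `a = h(-1)` -/

/-- the root subgroup of the centraliser of the involution -/
def X (u : K) : G := R.x 0 u 0

theorem X_mem_U (u : K) : R.X u ∈ R.U := R.x_mem_U _ _ _

theorem X_add (u v : K) : R.X u * R.X v = R.X (u + v) := by
  unfold X
  rw [R.x_mul]
  apply R.x_congr <;> simp

theorem X_zero : R.X 0 = 1 := R.x_zero

theorem X_neg (u : K) : (R.X u)⁻¹ = R.X (-u) := by
  apply inv_eq_of_mul_eq_one_right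
  rw [R.X_add, add_neg_cancel, R.X_zero]

theorem X_inj {u v : K} (h : R.X u = R.X v) : u = v := (R.x_inj _ _ _ _ _ _ h).2.1

theorem h_X (z : Kˣ) (u : K) : R.h z * R.X u * (R.h z)⁻¹ = R.X (R.σ z * z * u) := by
  unfold X
  rw [R.h_conj]
  apply R.x_congr <;> simp

theorem n_mul_h (z : Kˣ) : R.n * R.h z = (R.h z)⁻¹ * R.n := by
  rw [← R.n_h]; group

theorem h_mul_n (z : Kˣ) : R.h z * R.n = R.n * (R.h z)⁻¹ := by
  have := R.n_mul_h z⁻¹
  rw [map_inv, inv_inv] at this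
  exact this.symm

/-- the involution -/
def a : G := R.h (-1)

theorem a_sq : R.a * R.a = 1 := by
  unfold a
  rw [← map_mul]
  simp

theorem a_inv : R.a⁻¹ = R.a := inv_eq_of_mul_eq_one_right R.a_sq

include R in
theorem neg_one_ne_one : (-1 : K) ≠ 1 := by
  intro h
  have h2 : (2 : K) = 0 := by linear_combination -h
  exact R.two_ne_zero' h2

theorem a_ne_one : R.a ≠ 1 := by
  intro h
  have h1 : R.h (-1) = R.h 1 := by rw [map_one]; exact h
  have h2 := R.h_inj h1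
  have h3 := congrArg Units.val h2
  simp only [Units.val_neg, Units.val_one] at h3
  exact R.neg_one_ne_one h3

theorem a_x (t u v : K) : R.a * R.x t u v * R.a⁻¹ = R.x (-t) u (-v) := by
  unfold a
  rw [R.h_conj]
  apply R.x_congr
  · simp
  · simp
  · simp

theorem a_comm_h (z : Kˣ) : R.a * R.h z = R.h z * R.a := by
  unfold a
  rw [← map_mul, ← map_mul, mul_comm]

theorem a_comm_n : R.a * R.n = R.n * R.a := by
  have := R.h_mul_n (-1)
  rw [show R.h (-1) = R.a from rfl, R.a_inv] at this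
  exact this

theorem a_comm_X (u : K) : R.a * R.X u = R.X u * R.a := by
  have := R.a_x 0 u 0
  rw [neg_zero] at this
  calc R.a * R.X u = (R.a * R.x 0 u 0 * R.a⁻¹) * R.a := by unfold X; group
    _ = R.X u * R.a := by rw [this]; rfl

/-- elements of `U` commuting with `a` -/
theorem a_fix_U (y : G) (hy : y ∈ R.U) (h : R.a * y * R.a⁻¹ = y) : ∃ u, y = R.X u := by
  obtain ⟨t, u, v, rfl⟩ := hy
  rw [R.a_x] at h
  obtain ⟨h1, -, h3⟩ := R.x_inj _ _ _ _ _ _ h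
  rw [R.eq_zero_of_neg_eq h1, R.eq_zero_of_neg_eq h3]
  exact ⟨u, rfl⟩

theorem a_conj_mem_U (y : G) (hy : y ∈ R.U) : R.a * y * R.a⁻¹ ∈ R.U :=
  R.h_conj_mem_U _ y hy

/-- the centraliser of `a` -/
theorem comm_a_iff (g : G) : g * R.a = R.a * g ↔
    (∃ u z, g = R.X u * R.h z) ∨ (∃ u z u', g = R.X u * (R.n * R.h z) * R.X u') := by
  constructor
  · intro hg
    have hg' : R.a * g * R.a⁻¹ = g := by rw [← hg]; group
    rcases R.bruhat g with ⟨t, u, v, z, rfl⟩ | ⟨t, u, v, z, t', u', v', rfl⟩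
    · left
      have e : R.a * (R.x t u v * R.h z) * R.a⁻¹ = (R.a * R.x t u v * R.a⁻¹) * R.h z := by
        calc R.a * (R.x t u v * R.h z) * R.a⁻¹ = R.a * R.x t u v * (R.h z * R.a⁻¹) := by group
          _ = R.a * R.x t u v * (R.a⁻¹ * R.h z) := by
            rw [R.a_inv, R.a_comm_h]
          _ = _ := by group
      rw [e] at hg'
      obtain ⟨h1, -⟩ := R.cellB_inj _ _ (R.a_conj_mem_U _ (R.x_mem_U _ _ _)) (R.x_mem_U _ _ _) _ _ hg'
      obtain ⟨u', hu'⟩ := R.a_fix_U _ (R.x_mem_U _ _ _) h1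
      exact ⟨u', z, by rw [hu']⟩
    · right
      have e : R.a * (R.x t u v * (R.n * R.h z) * R.x t' u' v') * R.a⁻¹ =
          (R.a * R.x t u v * R.a⁻¹) * (R.n * R.h z) * (R.a * R.x t' u' v' * R.a⁻¹) := by
        have e1 : R.a * (R.n * R.h z) = (R.n * R.h z) * R.a := by
          rw [← mul_assoc, R.a_comm_n, mul_assoc, R.a_comm_h, ← mul_assoc]
        calc R.a * (R.x t u v * (R.n * R.h z) * R.x t' u' v') * R.a⁻¹
            = R.a * R.x t u v * R.a⁻¹ * (R.a * (R.n * R.h z)) * R.x t' u' v' * R.a⁻¹ := by group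
          _ = _ := by rw [e1]; group
      rw [e] at hg'
      obtain ⟨h1, -, h2⟩ := R.cellW_inj _ _ _ _ (R.a_conj_mem_U _ (R.x_mem_U _ _ _))
        (R.a_conj_mem_U _ (R.x_mem_U _ _ _)) (R.x_mem_U _ _ _) (R.x_mem_U _ _ _) _ _ hg'
      obtain ⟨u₁, hu₁⟩ := R.a_fix_U _ (R.x_mem_U _ _ _) h1
      obtain ⟨u₂, hu₂⟩ := R.a_fix_U _ (R.x_mem_U _ _ _) h2
      exact ⟨u₁, z, u₂, by rw [hu₁, hu₂]⟩
  · rintro (⟨u, z, rfl⟩ | ⟨u, z, u', rfl⟩)
    · rw [mul_assoc, ← R.a_comm_h, ← mul_assoc, ← R.a_comm_X, mul_assoc]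
    · calc R.X u * (R.n * R.h z) * R.X u' * R.a
          = R.X u * (R.n * R.h z) * (R.X u' * R.a) := by group
        _ = R.X u * (R.n * R.h z) * (R.a * R.X u') := by rw [R.a_comm_X]
        _ = R.X u * R.n * (R.h z * R.a) * R.X u' := by group
        _ = R.X u * R.n * (R.a * R.h z) * R.X u' := by rw [R.a_comm_h]
        _ = R.X u * (R.n * R.a) * R.h z * R.X u' := by group
        _ = R.X u * (R.a * R.n) * R.h z * R.X u' := by rw [R.a_comm_n]
        _ = (R.X u * R.a) * R.n * R.h z * R.X u' := by group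
        _ = (R.a * R.X u) * R.n * R.h z * R.X u' := by rw [R.a_comm_X]
        _ = R.a * (R.X u * (R.n * R.h z) * R.X u') := by group

end RSys

end Cfsg.Agent.Lib.H12.ReeC
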