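import Cfsg.Agent.Lib.H12.ReeC1
import Cfsg.Agent.Lib.H12.SL2PresG

/-!
# The centraliser of an involution of a Ree group, part 2: the homomorphism from `SL₂(K)` (helper12)
-/

set_option autoImplicit false
set_option linter.unusedSectionVars false
set_option linter.unusedSimpArgs false
set_option linter.unusedVariables false

namespace Cfsg.Agent.Lib.H12.ReeC

open Cfsg.Agent.Lib.H12.StPresG

namespace RSys

variable {G K : Type*} [Group G] [Field K] (R : RSys G K)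

/-- the character `χ(z) = σ(z) z` by which the torus acts on `X` -/
def chi (z : Kˣ) : K := R.σ z * z

theorem chi_ne_zero (z : Kˣ) : R.chi z ≠ 0 :=
  mul_ne_zero ((map_ne_zero R.σ).mpr z.ne_zero) z.ne_zero

theorem chi_mul (z y : Kˣ) : R.chi (z * y) = R.chi z * R.chi y := by
  unfold chi
  rw [Units.val_mul, map_mul]; ring

theorem chi_inv (z : Kˣ) : R.chi z⁻¹ = (R.chi z)⁻¹ := by
  unfold chi
  rw [Units.val_inv_eq_inv_val, map_inv₀, mul_inv]

theorem chi_one : R.chi 1 = 1 := by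
  unfold chi; simp

theorem chi_neg_one : R.chi (-1) = 1 := by
  unfold chi; simp

theorem h_X' (z : Kˣ) (u : K) : R.h z * R.X u * (R.h z)⁻¹ = R.X (R.chi z * u) := R.h_X z u

theorem h_inv_X (z : Kˣ) (u : K) : (R.h z)⁻¹ * R.X u * R.h z = R.X ((R.chi z)⁻¹ * u) := by
  have := R.h_X' z⁻¹ u
  rw [map_inv, inv_inv, chi_inv] at this
  exact this

/-- the opposite root subgroup -/
def Y (u : K) : G := R.n * R.X (-u) * R.n⁻¹

theorem n_X (w : K) : R.n * R.X w * R.n⁻¹ = R.Y (-w) := by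
  unfold Y; rw [neg_neg]

theorem Y_add (u v : K) : R.Y u * R.Y v = R.Y (u + v) := by
  unfold Y
  calc R.n * R.X (-u) * R.n⁻¹ * (R.n * R.X (-v) * R.n⁻¹) = R.n * (R.X (-u) * R.X (-v)) * R.n⁻¹ := by group
    _ = _ := by rw [R.X_add, ← neg_add]

/-- conjugating `n y n⁻¹` by a torus element -/
theorem h_conj_n_conj (z : Kˣ) (y : G) :
    R.h z * (R.n * y * R.n⁻¹) * (R.h z)⁻¹ = R.n * ((R.h z)⁻¹ * y * R.h z) * R.n⁻¹ := by
  have a1 : R.h z * R.n = R.n * (R.h z)⁻¹ := R.h_mul_n z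
  rw [R.n_inv]
  calc R.h z * (R.n * y * R.n) * (R.h z)⁻¹ = (R.h z * R.n) * y * (R.n * (R.h z)⁻¹) := by group
    _ = (R.n * (R.h z)⁻¹) * y * (R.h z * R.n) := by rw [a1]
    _ = _ := by group

theorem h_Y (z : Kˣ) (u : K) : R.h z * R.Y u * (R.h z)⁻¹ = R.Y ((R.chi z)⁻¹ * u) := by
  unfold Y
  rw [R.h_conj_n_conj, R.h_inv_X, mul_neg]

theorem h_conj_n (z : Kˣ) : R.h z * R.n * (R.h z)⁻¹ = R.h (z * z) * R.n := by
  rw [map_mul]
  calc R.h z * R.n * (R.h z)⁻¹ = R.h z * (R.n * (R.h z)⁻¹) := by group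
    _ = R.h z * (R.h z * R.n) := by rw [← R.h_mul_n]
    _ = _ := by group

/-- the rank-one relation, transported by the torus -/
theorem key1 (z : Kˣ) :
    R.n * R.X (R.chi z)⁻¹ * R.n⁻¹ = R.X (-(R.chi z)) * (R.h (z * z) * R.n) * R.X (-(R.chi z)) := by
  have e0 : R.n * R.X 1 * R.n⁻¹ = R.X (-1) * R.n * R.X (-1) := R.n_x
  have e1 : R.h z * (R.n * R.X 1 * R.n⁻¹) * (R.h z)⁻¹ = R.n * R.X (R.chi z)⁻¹ * R.n⁻¹ := by
    rw [R.h_conj_n_conj, R.h_inv_X, mul_one]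
  have e2 : R.h z * (R.X (-1) * R.n * R.X (-1)) * (R.h z)⁻¹ =
      R.X (-(R.chi z)) * (R.h (z * z) * R.n) * R.X (-(R.chi z)) := by
    calc R.h z * (R.X (-1) * R.n * R.X (-1)) * (R.h z)⁻¹
        = (R.h z * R.X (-1) * (R.h z)⁻¹) * (R.h z * R.n * (R.h z)⁻¹) * (R.h z * R.X (-1) * (R.h z)⁻¹) := by
          group
      _ = _ := by rw [R.h_X', R.h_conj_n, mul_neg_one]
  rw [← e1, e0, e2]

theorem hn_inv (z : Kˣ) : (R.h z * R.n)⁻¹ = R.h z * R.n := by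
  rw [_root_.mul_inv_rev, R.n_inv, ← R.h_mul_n]

theorem key2 (z : Kˣ) (t : K) (hz : R.chi z = t ∨ R.chi z = -t) :
    R.n * R.X t⁻¹ * R.n⁻¹ = R.X (-t) * (R.h (z * z) * R.n) * R.X (-t) := by
  rcases hz with hz | hz
  · rw [← hz]; exact R.key1 z
  · have ht : t = -R.chi z := by rw [hz, neg_neg]
    have e : R.n * R.X t⁻¹ * R.n⁻¹ = (R.n * R.X (R.chi z)⁻¹ * R.n⁻¹)⁻¹ := by
      rw [ht, inv_neg, ← R.X_neg]; group
    rw [e, R.key1, ht, neg_neg]
    rw [_root_.mul_inv_rev, _root_.mul_inv_rev, R.hn_inv, R.X_neg, neg_neg, mul_assoc, mul_assoc, mul_assoc]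

/-- the Weyl elements `w(t) = X(t) Y(-t⁻¹) X(t)` -/
theorem w_eq (z : Kˣ) (t : K) (hz : R.chi z = t ∨ R.chi z = -t) :
    R.X t * R.Y (-t⁻¹) * R.X t = R.h (z * z) * R.n := by
  rw [← R.n_X, R.key2 z t hz]
  calc R.X t * (R.X (-t) * (R.h (z * z) * R.n) * R.X (-t)) * R.X t
      = (R.X t * R.X (-t)) * (R.h (z * z) * R.n) * (R.X (-t) * R.X t) := by group
    _ = _ := by rw [R.X_add, R.X_add, add_neg_cancel, neg_add_cancel, R.X_zero, one_mul, mul_one]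

theorem w_neg_one : R.X (-1) * R.Y (-(-1 : K)⁻¹) * R.X (-1) = R.n := by
  have := R.w_eq 1 (-1) (Or.inr (by rw [R.chi_one, neg_neg]))
  rw [this, mul_one, map_one, one_mul]

theorem chi_sq (z : Kˣ) (t : K) (hz : R.chi z = t ∨ R.chi z = -t) : R.chi (z * z) = t * t := by
  rw [R.chi_mul]
  rcases hz with hz | hz <;> rw [hz]
  ring

theorem relB (t u : K) (ht : t ≠ 0) :
    (R.X t * R.Y (-t⁻¹) * R.X t) * R.X u * (R.X t * R.Y (-t⁻¹) * R.X t)⁻¹ = R.Y (-(t⁻¹ ^ 2 * u)) := by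
  obtain ⟨z, hz⟩ := R.chi_surj t ht
  change R.chi z = t ∨ R.chi z = -t at hz
  rw [R.w_eq z t hz]
  calc R.h (z * z) * R.n * R.X u * (R.h (z * z) * R.n)⁻¹
      = R.h (z * z) * (R.n * R.X u * R.n⁻¹) * (R.h (z * z))⁻¹ := by group
    _ = _ := by
      rw [R.n_X, R.h_Y, R.chi_sq z t hz]
      congr 1
      rw [mul_inv]; ring

theorem relC (t u : K) (ht : t ≠ 0) (hu : u ≠ 0) :
    ((R.X t * R.Y (-t⁻¹) * R.X t) * (R.X (-1) * R.Y (-(-1 : K)⁻¹) * R.X (-1))) *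
        ((R.X u * R.Y (-u⁻¹) * R.X u) * (R.X (-1) * R.Y (-(-1 : K)⁻¹) * R.X (-1))) =
      (R.X (t * u) * R.Y (-(t * u)⁻¹) * R.X (t * u)) * (R.X (-1) * R.Y (-(-1 : K)⁻¹) * R.X (-1)) := by
  obtain ⟨z, hz⟩ := R.chi_surj t ht
  obtain ⟨y, hy⟩ := R.chi_surj u hu
  change R.chi z = t ∨ R.chi z = -t at hz
  change R.chi y = u ∨ R.chi y = -u at hy
  have hzy : R.chi (z * y) = t * u ∨ R.chi (z * y) = -(t * u) := by
    rw [R.chi_mul]
    rcases hz with hz | hz <;> rcases hy with hy | hy <;> rw [hz, hy]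
    · left; rfl
    · right; ring
    · right; ring
    · left; ring
  rw [R.w_neg_one, R.w_eq z t hz, R.w_eq y u hy, R.w_eq (z * y) (t * u) hzy]
  have e : ∀ g : G, g * R.n * R.n = g := fun g => by rw [mul_assoc, R.n_sq, mul_one]
  rw [e, e, e, ← map_mul]
  congr 1
  rw [mul_mul_mul_comm]

theorem exists_phi : ∃ φ : Matrix.SpecialLinearGroup (Fin 2) K →* G,
    (∀ t, φ (upM t) = R.X t) ∧ (∀ t, φ (loM t) = R.Y t) :=
  exists_hom_of_relations R.X R.Y R.X_add R.Y_add (fun t u ht => R.relB t u ht)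
    (fun t u ht hu => R.relC t u ht hu)

/-- the homomorphism from `SL₂(K)` to the centraliser of the involution -/
noncomputable def phi : Matrix.SpecialLinearGroup (Fin 2) K →* G := R.exists_phi.choose

theorem phi_up (t : K) : R.phi (upM t) = R.X t := R.exists_phi.choose_spec.1 t

theorem phi_lo (t : K) : R.phi (loM t) = R.Y t := R.exists_phi.choose_spec.2 t

theorem wM_eq {t : K} (ht : t ≠ 0) : wM t ht = upM t * loM (-t⁻¹) * upM t := by
  rw [← lift_wWord ht]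
  unfold wWord
  simp only [map_mul, FreeGroup.lift_apply_of]
  rfl

theorem dgM_eq {t : K} (ht : t ≠ 0) :
    dgM t ht = wM t ht * wM (-1) (neg_ne_zero.mpr one_ne_zero) := by
  rw [← lift_hWord ht, ← lift_wWord ht, ← lift_wWord (neg_ne_zero.mpr (one_ne_zero (α := K)))]
  unfold hWord
  rw [map_mul]

theorem phi_wM {t : K} (ht : t ≠ 0) (z : Kˣ) (hz : R.chi z = t ∨ R.chi z = -t) :
    R.phi (wM t ht) = R.h (z * z) * R.n := by
  rw [wM_eq ht, map_mul, map_mul, R.phi_up, R.phi_lo, R.w_eq z t hz]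

theorem phi_wM_one : R.phi (wM 1 one_ne_zero) = R.n := by
  rw [R.phi_wM one_ne_zero 1 (Or.inl R.chi_one), mul_one, map_one, one_mul]

theorem phi_wM_neg_one : R.phi (wM (-1) (neg_ne_zero.mpr one_ne_zero)) = R.n := by
  rw [R.phi_wM _ 1 (Or.inr (by rw [R.chi_one, neg_neg])), mul_one, map_one, one_mul]

theorem phi_dgM {t : K} (ht : t ≠ 0) (z : Kˣ) (hz : R.chi z = t ∨ R.chi z = -t) :
    R.phi (dgM t ht) = R.h (z * z) := by
  rw [dgM_eq ht, map_mul, R.phi_wM ht z hz, R.phi_wM_neg_one, mul_assoc, R.n_sq, mul_one]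

end RSys

end Cfsg.Agent.Lib.H12.ReeC
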