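import Cfsg.Agent.Lib.H12.ReeC2
import Cfsg.Agent.Lib.H2.PSL2Klein

/-!
# The centraliser of an involution of a Ree group, part 3: `C(a) ≅ 2 × PSL₂(K)` (helper12)
-/

set_option autoImplicit false
set_option linter.unusedSectionVars false
set_option linter.unusedSimpArgs false
set_option linter.unusedVariables false

namespace Cfsg.Agent.Lib.H12.ReeC

open Cfsg.Agent.Lib.H12.StPresG

section SLsec

variable {K : Type*} [Field K]

local notation "SL2" => Matrix.SpecialLinearGroup (Fin 2) K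

/-- the Bruhat decomposition of `SL₂(K)` -/
theorem sl2_bruhat (g : SL2) :
    (∃ (a : K) (s : Kˣ), g = upM a * dgM (s : K) s.ne_zero) ∨
    (∃ (a : K) (s : Kˣ) (b : K), g = upM a * dgM (s : K) s.ne_zero * wM 1 one_ne_zero * upM b) := by
  obtain ⟨γ, rfl⟩ := toSL_surjective g
  have hγ : γ ∈ cells K := by rw [cells_eq_univ]; trivial
  rcases hγ with ⟨⟨a, t⟩, rfl⟩ | ⟨⟨a, t, b⟩, rfl⟩
  · left
    refine ⟨a, t, ?_⟩
    unfold cellB
    rw [map_mul, toSL_x, toSL_h t.ne_zero]
  · right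
    refine ⟨a, t, b, ?_⟩
    unfold cellW
    rw [map_mul, map_mul, map_mul, toSL_x, toSL_x, toSL_h t.ne_zero, toSL_w one_ne_zero]

theorem upM_dgM_val (a s : K) (hs : s ≠ 0) :
    ((upM a * dgM s hs : SL2) : Matrix (Fin 2) (Fin 2) K) = !![s, a * s⁻¹; 0, s⁻¹] := by
  simp only [Matrix.SpecialLinearGroup.coe_mul, upM_val, dgM_val, Matrix.mul_fin_two]
  congr 1
  ext i j
  fin_cases i <;> fin_cases j <;>
    simp only [Fin.zero_eta, Fin.mk_one, Matrix.cons_val', Matrix.cons_val_zero, Matrix.cons_val_one,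
      Matrix.cons_val_fin_one, Matrix.empty_val', Fin.isValue] <;> simp

theorem neg_one_fin_two : (-1 : Matrix (Fin 2) (Fin 2) K) = !![-1, 0; 0, -1] := by
  ext i j
  fin_cases i <;> fin_cases j <;> simp

end SLsec

namespace RSys

variable {G K : Type*} [Group G] [Field K] (R : RSys G K)

local notation "SL2" => Matrix.SpecialLinearGroup (Fin 2) K
local notation "PSL2" => Matrix.ProjectiveSpecialLinearGroup (Fin 2) K

theorem phi_cellB (a : K) (s : Kˣ) (z : Kˣ) (hz : R.chi z = s ∨ R.chi z = -s) :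
    R.phi (upM a * dgM (s : K) s.ne_zero) = R.X a * R.h (z * z) := by
  rw [map_mul, R.phi_up, R.phi_dgM s.ne_zero z hz]

theorem phi_cellW (a : K) (s : Kˣ) (b : K) (z : Kˣ) (hz : R.chi z = s ∨ R.chi z = -s) :
    R.phi (upM a * dgM (s : K) s.ne_zero * wM 1 one_ne_zero * upM b) =
      R.X a * (R.n * R.h (z * z)⁻¹) * R.X b := by
  rw [map_mul, map_mul, map_mul, R.phi_up, R.phi_up, R.phi_dgM s.ne_zero z hz, R.phi_wM_one, map_inv,
    ← R.h_mul_n]
  group

theorem unit_sq_eq_one (z : Kˣ) (h : z * z = 1) : z = 1 ∨ z = -1 := by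
  have h1 : (z : K) * z = 1 := by
    have := congrArg Units.val h
    simpa using this
  have h2 : ((z : K) - 1) * ((z : K) + 1) = 0 := by linear_combination h1
  rcases mul_eq_zero.mp h2 with h' | h'
  · left; apply Units.ext; rw [sub_eq_zero.mp h']; rfl
  · right; apply Units.ext; rw [eq_neg_of_add_eq_zero_left h']; rfl

/-- the kernel of `φ` -/
theorem phi_eq_one (g : SL2) (hg : R.phi g = 1) :
    (g : Matrix (Fin 2) (Fin 2) K) = 1 ∨ (g : Matrix (Fin 2) (Fin 2) K) = -1 := by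
  rcases sl2_bruhat g with ⟨a, s, rfl⟩ | ⟨a, s, b, rfl⟩
  · obtain ⟨z, hz⟩ := R.chi_surj s s.ne_zero
    change R.chi z = s ∨ R.chi z = -s at hz
    rw [R.phi_cellB a s z hz] at hg
    have h1 : R.X a * R.h (z * z) = 1 * R.h 1 := by rw [hg, map_one, mul_one]
    obtain ⟨h2, h3⟩ := R.cellB_inj _ _ (R.X_mem_U a) (one_mem _) _ _ h1
    have ha : a = 0 := R.X_inj (by rw [h2, R.X_zero])
    have hc : R.chi z = 1 := by
      rcases unit_sq_eq_one z h3 with h | h
      · rw [h, R.chi_one]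
      · rw [h, R.chi_neg_one]
    rw [upM_dgM_val, ha]
    rcases hz with hz | hz
    · left
      rw [← hz, hc, Matrix.one_fin_two]
      simp
    · right
      have hs : (s : K) = -1 := by rw [← hc, hz, neg_neg]
      rw [hs, neg_one_fin_two]
      simp
  · exfalso
    obtain ⟨z, hz⟩ := R.chi_surj s s.ne_zero
    change R.chi z = s ∨ R.chi z = -s at hz
    rw [R.phi_cellW a s b z hz] at hg
    have h1 : (1 : G) * R.h 1 = R.X a * (R.n * R.h (z * z)⁻¹) * R.X b := by
      rw [hg, map_one, mul_one]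
    exact R.cell_disj _ _ _ (one_mem _) (R.X_mem_U a) (R.X_mem_U b) _ _ h1

theorem phi_neg_one (g : SL2) (hg : (g : Matrix (Fin 2) (Fin 2) K) = -1) : R.phi g = 1 := by
  have e : g = dgM (-1) (neg_ne_zero.mpr one_ne_zero) := by
    apply Subtype.ext
    rw [hg, dgM_val, neg_one_fin_two]
    congr 1
    simp [inv_neg]
  rw [e, R.phi_dgM _ 1 (Or.inr (by rw [R.chi_one, neg_neg])), mul_one, map_one]

theorem center_le_ker : Subgroup.center SL2 ≤ R.phi.ker := by
  intro g hg
  rw [MonoidHom.mem_ker]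
  rcases Cfsg.Agent.Lib.H2.PSL2Klein.center_cases g hg with h | h
  · have : g = 1 := Subtype.ext h
    rw [this, map_one]
  · exact R.phi_neg_one g h

/-- the induced homomorphism from `PSL₂(K)` -/
noncomputable def phiBar : PSL2 →* G := QuotientGroup.lift (Subgroup.center SL2) R.phi R.center_le_ker

theorem phiBar_mk (g : SL2) : R.phiBar (QuotientGroup.mk g) = R.phi g := rfl

theorem phiBar_injective : Function.Injective R.phiBar := by
  rw [injective_iff_map_eq_one]
  intro x hx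
  obtain ⟨g, rfl⟩ := QuotientGroup.mk_surjective x
  rw [R.phiBar_mk] at hx
  rw [QuotientGroup.eq_one_iff]
  exact Cfsg.Agent.Lib.H2.PSL2Klein.mem_center_of g (R.phi_eq_one g hx)

/-- `a` is not in the image of `φ` -/
theorem phi_ne_a (g : SL2) : R.phi g ≠ R.a := by
  intro hg
  rcases sl2_bruhat g with ⟨a, s, rfl⟩ | ⟨a, s, b, rfl⟩
  · obtain ⟨z, hz⟩ := R.chi_surj s s.ne_zero
    change R.chi z = s ∨ R.chi z = -s at hz
    rw [R.phi_cellB a s z hz] at hg
    have h1 : R.X a * R.h (z * z) = 1 * R.h (-1) := by rw [hg, one_mul]; rfl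
    obtain ⟨-, h3⟩ := R.cellB_inj _ _ (R.X_mem_U a) (one_mem _) _ _ h1
    have h4 : (z : K) * z = -1 := by
      have := congrArg Units.val h3
      simpa using this
    exact R.nonsq _ h4
  · obtain ⟨z, hz⟩ := R.chi_surj s s.ne_zero
    change R.chi z = s ∨ R.chi z = -s at hz
    rw [R.phi_cellW a s b z hz] at hg
    have h1 : (1 : G) * R.h (-1) = R.X a * (R.n * R.h (z * z)⁻¹) * R.X b := by
      rw [hg, one_mul]; rfl
    exact R.cell_disj _ _ _ (one_mem _) (R.X_mem_U a) (R.X_mem_U b) _ _ h1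

theorem phi_comm_a (g : SL2) : R.phi g * R.a = R.a * R.phi g := by
  rw [R.comm_a_iff]
  rcases sl2_bruhat g with ⟨a, s, rfl⟩ | ⟨a, s, b, rfl⟩
  · obtain ⟨z, hz⟩ := R.chi_surj s s.ne_zero
    change R.chi z = s ∨ R.chi z = -s at hz
    left
    exact ⟨a, z * z, R.phi_cellB a s z hz⟩
  · obtain ⟨z, hz⟩ := R.chi_surj s s.ne_zero
    change R.chi z = s ∨ R.chi z = -s at hz
    right
    exact ⟨a, (z * z)⁻¹, b, R.phi_cellW a s b z hz⟩

theorem h_mem_range (z : Kˣ) : ∃ γ : SL2, R.h z = R.phi γ ∨ R.h z = R.a * R.phi γ := by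
  obtain ⟨y, rfl | rfl⟩ := R.sq_or z
  · exact ⟨dgM (R.chi y) (R.chi_ne_zero y), Or.inl (R.phi_dgM _ y (Or.inl rfl)).symm⟩
  · refine ⟨dgM (R.chi y) (R.chi_ne_zero y), Or.inr ?_⟩
    rw [map_mul, R.phi_dgM _ y (Or.inl rfl)]
    rfl

/-- every element of the centraliser of `a` is in the image of `φ` up to `a` -/
theorem exists_of_comm (g : G) (hg : g * R.a = R.a * g) :
    ∃ γ : SL2, g = R.phi γ ∨ g = R.a * R.phi γ := by
  rcases (R.comm_a_iff g).mp hg with ⟨u, z, rfl⟩ | ⟨u, z, u', rfl⟩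
  · obtain ⟨γ, h | h⟩ := R.h_mem_range z
    · exact ⟨upM u * γ, Or.inl (by rw [map_mul, R.phi_up, h])⟩
    · refine ⟨upM u * γ, Or.inr ?_⟩
      rw [map_mul, R.phi_up, h, ← mul_assoc, ← mul_assoc, R.a_comm_X]
  · obtain ⟨γ, h | h⟩ := R.h_mem_range z
    · exact ⟨upM u * (wM 1 one_ne_zero * γ) * upM u',
        Or.inl (by rw [map_mul, map_mul, map_mul, R.phi_up, R.phi_up, R.phi_wM_one, h])⟩
    · refine ⟨upM u * (wM 1 one_ne_zero * γ) * upM u', Or.inr ?_⟩
      rw [map_mul, map_mul, map_mul, R.phi_up, R.phi_up, R.phi_wM_one, h]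
      calc R.X u * (R.n * (R.a * R.phi γ)) * R.X u'
          = R.X u * (R.n * R.a) * R.phi γ * R.X u' := by group
        _ = R.X u * (R.a * R.n) * R.phi γ * R.X u' := by rw [R.a_comm_n]
        _ = (R.X u * R.a) * R.n * R.phi γ * R.X u' := by group
        _ = (R.a * R.X u) * R.n * R.phi γ * R.X u' := by rw [R.a_comm_X]
        _ = _ := by group

/-- the homomorphism from the group of order 2 -/
noncomputable def eps : Multiplicative (ZMod 2) →* G where
  toFun e := if e = 1 then 1 else R.a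
  map_one' := by simp
  map_mul' := by
    intro x y
    have key : ∀ x y : Multiplicative (ZMod 2), x ≠ 1 → y ≠ 1 → x * y = 1 := by decide
    by_cases hx : x = 1
    · subst hx; simp
    · by_cases hy : y = 1
      · subst hy; simp
      · rw [key x y hx hy, if_pos rfl, if_neg hx, if_neg hy, R.a_sq]

theorem eps_cases (e : Multiplicative (ZMod 2)) : (e = 1 ∧ R.eps e = 1) ∨ (e ≠ 1 ∧ R.eps e = R.a) := by
  by_cases he : e = 1
  · left; exact ⟨he, by subst he; exact map_one _⟩
  · right; exact ⟨he, if_neg he⟩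

theorem eps_comm (e : Multiplicative (ZMod 2)) (x : PSL2) : Commute (R.eps e) (R.phiBar x) := by
  obtain ⟨g, rfl⟩ := QuotientGroup.mk_surjective x
  rw [R.phiBar_mk]
  rcases R.eps_cases e with ⟨-, h⟩ | ⟨-, h⟩
  · rw [h]; exact Commute.one_left _
  · rw [h]; exact (R.phi_comm_a g).symm

/-- the isomorphism onto the centraliser of the involution -/
noncomputable def Phi : Multiplicative (ZMod 2) × PSL2 →* G :=
  MonoidHom.noncommCoprod R.eps R.phiBar R.eps_comm

theorem Phi_apply (e : Multiplicative (ZMod 2)) (x : PSL2) : R.Phi (e, x) = R.eps e * R.phiBar x := rfl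

theorem Phi_injective : Function.Injective R.Phi := by
  rw [injective_iff_map_eq_one]
  rintro ⟨e, x⟩ hx
  rw [R.Phi_apply] at hx
  rcases R.eps_cases e with ⟨he, h⟩ | ⟨he, h⟩
  · rw [h, one_mul] at hx
    rw [he, (injective_iff_map_eq_one R.phiBar).mp R.phiBar_injective x hx]
    rfl
  · exfalso
    obtain ⟨g, rfl⟩ := QuotientGroup.mk_surjective x
    rw [h, R.phiBar_mk] at hx
    apply R.phi_ne_a g
    calc R.phi g = R.a⁻¹ * (R.a * R.phi g) := by group
      _ = R.a := by rw [hx, mul_one, R.a_inv]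

theorem Phi_range : R.Phi.range = Subgroup.centralizer {R.a} := by
  ext g
  rw [Subgroup.mem_centralizer_singleton_iff, MonoidHom.mem_range]
  constructor
  · rintro ⟨⟨e, x⟩, rfl⟩
    obtain ⟨γ, rfl⟩ := QuotientGroup.mk_surjective x
    rw [R.Phi_apply, R.phiBar_mk]
    rcases R.eps_cases e with ⟨-, h⟩ | ⟨-, h⟩
    · rw [h, one_mul]; exact R.phi_comm_a γ
    · rw [h, mul_assoc, R.phi_comm_a]
  · intro hg
    obtain ⟨γ, h | h⟩ := R.exists_of_comm g hg
    · exact ⟨(1, QuotientGroup.mk γ), by rw [R.Phi_apply, map_one, one_mul, R.phiBar_mk, h]⟩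
    · refine ⟨(Multiplicative.ofAdd 1, QuotientGroup.mk γ), ?_⟩
      rw [R.Phi_apply, R.phiBar_mk, h]
      congr 1

/-- **the centraliser of the involution `a`** is `2 × PSL₂(K)` -/
noncomputable def centIso : ↥(Subgroup.centralizer {R.a}) ≃* Multiplicative (ZMod 2) × PSL2 :=
  ((MonoidHom.ofInjective R.Phi_injective).trans (MulEquiv.subgroupCongr R.Phi_range)).symm

theorem centIso_symm_val (p : Multiplicative (ZMod 2) × PSL2) : ((R.centIso.symm p : _) : G) = R.Phi p := rfl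

end RSys

end Cfsg.Agent.Lib.H12.ReeC
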