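import Cfsg.Agent.Lib.H12.ReeC3
import Cfsg.Agent.Lib.H29.ReeAut6
import Cfsg.Agent.Lib.H12.QuadReeC

/-!
# The centraliser of an involution of a Ree group, part 4: the Ree groups `²G₂(q)`, all `m ≥ 0`,
satisfy the abstract description `RSys` (helper12)
-/

set_option autoImplicit false
set_option linter.unusedSectionVars false
set_option linter.unusedSimpArgs false
set_option linter.unusedVariables false

namespace Cfsg.Agent.Lib.H12.ReeC

open Cfsg.Lie Matrix Cfsg.Agent.Lib.H29.Chev Cfsg.Agent.Lib.H12.QuadRee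

section Ree

variable {K : Type*} [Field K] [CharP K 3]

/-- the word for `n₀²` -/
def wSqA : List (ℕ × ℤ × ℕ × ℕ) := [(8, 1, 0, 0), (3, -1, 0, 0), (8, 1, 0, 0), (10, 1, 0, 0), (1, -1, 0, 0), (10, 1, 0, 0),
  (8, 1, 0, 0), (3, -1, 0, 0), (8, 1, 0, 0), (10, 1, 0, 0), (1, -1, 0, 0), (10, 1, 0, 0)]

set_option maxRecDepth 100000 in
theorem wSq_chk : fdG2.wordEqMod 3 wSqA [] = true := by decide +kernel

/-- `n₀² = 1` -/
theorem n0R_sq : n0R K * n0R K = 1 := by
  have key := cert12_G2.c6.c2.wordG_eq_of_mod (F := K) 3 wSqA [] wSq_chk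
  unfold Cert2.wordG wSqA at key
  simp only [List.map_cons, List.map_nil, List.prod_cons, List.prod_nil, mul_one, Int.cast_one, Int.cast_neg] at key
  unfold n0R
  rw [nG8_eq, nG10_eq]
  simp only [gX, mul_assoc]
  exact key

/-- the words for `n₀ u(0,1,0) = v(0,1,0) n₀` -/
def wCjA : List (ℕ × ℤ × ℕ × ℕ) := [(8, 1, 0, 0), (3, -1, 0, 0), (8, 1, 0, 0), (10, 1, 0, 0), (1, -1, 0, 0), (10, 1, 0, 0),
  (8, 1, 0, 0), (10, 1, 0, 0)]
def wCjB : List (ℕ × ℤ × ℕ × ℕ) := [(3, -1, 0, 0), (1, -1, 0, 0),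
  (8, 1, 0, 0), (3, -1, 0, 0), (8, 1, 0, 0), (10, 1, 0, 0), (1, -1, 0, 0), (10, 1, 0, 0)]

set_option maxRecDepth 100000 in
theorem wCj_chk : fdG2.wordEqMod 3 wCjA wCjB = true := by decide +kernel

theorem n0R_mul_uR (m : ℕ) : n0R K * uR m 0 1 0 = vR m 0 1 0 * n0R K := by
  have key := cert12_G2.c6.c2.wordG_eq_of_mod (F := K) 3 wCjA wCjB wCj_chk
  unfold Cert2.wordG wCjA wCjB at key
  simp only [List.map_cons, List.map_nil, List.prod_cons, List.prod_nil, mul_one, Int.cast_one, Int.cast_neg] at key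
  unfold n0R
  rw [uR_010, vR_010, nG8_eq, nG10_eq]
  simp only [gX, mul_assoc]
  exact key

variable [Fintype K]

/-- the rank-one relation -/
theorem n0R_rank_one (m : ℕ) (hK : Fintype.card K = 3 ^ (2 * m + 1)) :
    n0R K * uR m 0 1 0 * (n0R K)⁻¹ = uR m 0 (-1) 0 * n0R K * uR m 0 (-1) 0 := by
  have h1 : n0R K * uR m 0 1 0 * (n0R K)⁻¹ = vR m 0 1 0 := by
    rw [n0R_mul_uR]; group
  have h2 : (uR m (0 : K) 1 0)⁻¹ = uR m 0 (-1) 0 := by
    rw [uR_inv_zero m hK, neg_zero]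
  rw [h1, ← h2]
  have h3 := n0R_eq (K := K) m
  calc vR m 0 1 0 = (uR m (0 : K) 1 0)⁻¹ * (uR m 0 1 0 * vR m 0 1 0 * uR m 0 1 0) * (uR m (0 : K) 1 0)⁻¹ := by
        group
    _ = _ := by rw [← h3]

theorem nonsq_neg_one (m : ℕ) (hK : Fintype.card K = 3 ^ (2 * m + 1)) (y : K) : y * y ≠ -1 := by
  intro h
  have hm1 : ¬ IsSquare (-1 : K) := by
    rw [FiniteField.isSquare_neg_one_iff, card_mod_four m hK]
    simp
  exact hm1 ⟨y, h.symm⟩

/-- the Ree groups satisfy the abstract description -/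
noncomputable def reeRSys (m : ℕ) (hK : Fintype.card K = 3 ^ (2 * m + 1)) :
    RSys ↥(twistedG2 K (3 ^ m)) K where
  x := reeUel m
  h := reeHhom m hK
  n := reeN0 K m
  σ := reeSig K m
  three := by
    have := CharP.cast_eq_zero K 3
    exact_mod_cast this
  x_inj := by
    intro t u v t' u' v' h
    exact uR_inj m _ _ _ _ _ _ (congrArg Subtype.val h)
  h_inj := by
    intro z z' h
    exact hR_injective m (congrArg Subtype.val h)
  x_mul := by
    intro t u v t' u' v'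
    apply Subtype.ext
    rw [Subgroup.coe_mul, reeUel_val, reeUel_val, reeUel_val, uR_mul m hK]
    rfl
  h_conj := by
    intro z t u v
    apply Subtype.ext
    rw [Subgroup.coe_mul, Subgroup.coe_mul, Subgroup.coe_inv, reeUel_val, reeUel_val, reeHhom_val, hR_conj_uR m hK]
    rfl
  bruhat := by
    intro g
    rcases fix_decomp m hK g (twistedG2_le_fix m hK g.2) with ⟨t, u, v, z, hg⟩ | ⟨t, u, v, z, t', u', v', hg⟩
    · left
      exact ⟨t, u, v, z, Subtype.ext hg⟩
    · right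
      exact ⟨t, u, v, z, t', u', v', Subtype.ext hg⟩
  n_conj := by
    rintro t u v ⟨t', u', v', z, e⟩
    apply n0R_conj_uR_not_mem m t u v
    have e' := congrArg Subtype.val e
    rw [Subgroup.coe_mul, Subgroup.coe_mul, Subgroup.coe_inv, Subgroup.coe_mul, reeUel_val, reeUel_val, reeHhom_val,
      reeN0_val] at e'
    rw [e']
    exact ((mem_borel_inf_tw m hK _).mpr ⟨t', u', v', z, rfl⟩).1
  n_sq := by
    apply Subtype.ext
    rw [Subgroup.coe_mul, reeN0_val, Subgroup.coe_one]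
    exact n0R_sq
  n_h := by
    intro z
    apply Subtype.ext
    rw [Subgroup.coe_mul, Subgroup.coe_mul, Subgroup.coe_inv, Subgroup.coe_inv, reeN0_val, reeHhom_val]
    exact cert12_G2.conj_diag_inv (n0R K) n0R_mem_monomial perm_n0R (hR K m z) (hR_mem_diag m z)
  n_x := by
    apply Subtype.ext
    rw [Subgroup.coe_mul, Subgroup.coe_mul, Subgroup.coe_inv, Subgroup.coe_mul, Subgroup.coe_mul, reeN0_val,
      reeUel_val, reeUel_val]
    exact n0R_rank_one m hK
  chi_surj := by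
    intro t ht
    obtain ⟨z, hz⟩ := exists_zT m hK t⁻¹ (inv_ne_zero ht)
    refine ⟨z, ?_⟩
    rcases hz with hz | hz
    · left
      field_simp at hz
      exact hz
    · right
      field_simp at hz
      rw [hz]
  sq_or := unit_sq_or_neg_sq m hK
  nonsq := nonsq_neg_one m hK

theorem reeRSys_a (m : ℕ) (hK : Fintype.card K = 3 ^ (2 * m + 1)) :
    (((reeRSys m hK).a : ↥(twistedG2 K (3 ^ m))) : GL chevG2.Idx K) = hR K m (-1) := rfl

end Ree

end Cfsg.Agent.Lib.H12.ReeC
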