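import Cfsg.Agent.Lib.H12.ReeC3

/-!
# The centraliser of an involution of a Ree group, part 5: the Sylow 2-subgroups (helper12)
-/

set_option autoImplicit false
set_option linter.unusedSectionVars false
set_option linter.unusedSimpArgs false
set_option linter.unusedVariables false

namespace Cfsg.Agent.Lib.H12.ReeC

open scoped Pointwise

/-- `3^(2m+1) ≡ 3 (mod 8)` -/
theorem three_pow_mod_eight (m : ℕ) : 3 ^ (2 * m + 1) % 8 = 3 := by
  rw [pow_succ, pow_mul, Nat.mul_mod, Nat.pow_mod]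
  norm_num

/-- the 2-part of the order of a Ree group is 8 -/
theorem ree_order_two_part (q : ℕ) (hq : q % 8 = 3) :
    ∃ k, q ^ 3 * (q - 1) * (q ^ 3 + 1) = 8 * k ∧ ¬ 2 ∣ k := by
  obtain ⟨j, rfl⟩ : ∃ j, q = 8 * j + 3 := ⟨q / 8, by omega⟩
  refine ⟨(8 * j + 3) ^ 3 * (4 * j + 1) * ((2 * j + 1) * (64 * j ^ 2 + 40 * j + 7)), ?_, ?_⟩
  · have e1 : 8 * j + 3 - 1 = 2 * (4 * j + 1) := by omega
    rw [e1]
    ring
  · rw [Nat.Prime.dvd_mul Nat.prime_two, Nat.Prime.dvd_mul Nat.prime_two, Nat.Prime.dvd_mul Nat.prime_two]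
    have h1 : ¬ 2 ∣ (8 * j + 3) ^ 3 := by
      intro h
      have := Nat.Prime.dvd_of_dvd_pow Nat.prime_two h
      omega
    have h2 : ¬ 2 ∣ 64 * j ^ 2 + 40 * j + 7 := by
      intro h
      have : 2 ∣ 64 * j ^ 2 + 40 * j + 6 := ⟨32 * j ^ 2 + 20 * j + 3, by ring⟩
      omega
    have h3 : ¬ 2 ∣ 4 * j + 1 := by omega
    have h4 : ¬ 2 ∣ 2 * j + 1 := by omega
    tauto

theorem factorization_two_of (N k : ℕ) (hN : N = 8 * k) (hk : ¬ 2 ∣ k) : N.factorization 2 = 3 := by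
  have hk0 : k ≠ 0 := by
    rintro rfl
    exact hk (dvd_zero 2)
  rw [hN, show 8 = 2 ^ 3 by norm_num, Nat.factorization_mul (by norm_num) hk0,
    Nat.Prime.factorization_pow Nat.prime_two, Finsupp.add_apply,
    Nat.factorization_eq_zero_of_not_dvd hk]
  simp

namespace RSys

variable {G K : Type*} [Group G] [Field K] (R : RSys G K)

local notation "SL2" => Matrix.SpecialLinearGroup (Fin 2) K
local notation "PSL2" => Matrix.ProjectiveSpecialLinearGroup (Fin 2) K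

/-- the subgroup `⟨a⟩ × V` of the centraliser of `a` -/
noncomputable def S0 (V : Subgroup PSL2) : Subgroup G :=
  ((⊤ : Subgroup (Multiplicative (ZMod 2))).prod V).map R.Phi

theorem mem_S0 (V : Subgroup PSL2) (g : G) :
    g ∈ R.S0 V ↔ ∃ (e : Multiplicative (ZMod 2)) (v : PSL2), v ∈ V ∧ R.Phi (e, v) = g := by
  unfold S0
  rw [Subgroup.mem_map]
  constructor
  · rintro ⟨⟨e, v⟩, hp, rfl⟩
    exact ⟨e, v, (Subgroup.mem_prod.mp hp).2, rfl⟩
  · rintro ⟨e, v, hv, rfl⟩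
    exact ⟨(e, v), Subgroup.mem_prod.mpr ⟨Subgroup.mem_top _, hv⟩, rfl⟩

theorem card_S0 (V : Subgroup PSL2) : Nat.card (R.S0 V) = 2 * Nat.card V := by
  unfold S0
  rw [Subgroup.card_map_of_injective R.Phi_injective,
    Nat.card_congr (Subgroup.prodEquiv _ _).toEquiv, Nat.card_prod, Subgroup.card_top]
  simp

theorem z2_sq (e : Multiplicative (ZMod 2)) : e * e = 1 := by
  revert e; decide

theorem sq_of_mem_S0 (V : Subgroup PSL2) (hV : ∀ v ∈ V, v * v = 1) (g : G) (hg : g ∈ R.S0 V) : g * g = 1 := by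
  obtain ⟨e, v, hv, rfl⟩ := (R.mem_S0 V g).mp hg
  rw [← map_mul, Prod.mk_mul_mk, z2_sq, hV v hv]
  exact map_one _

variable [Fintype K] [Finite G]

include R in
/-- **the Sylow 2-subgroups** are elementary abelian of order 8 -/
theorem sylow_two (hq : Fintype.card K % 8 = 3) (k : ℕ) (hN : Nat.card G = 8 * k) (hk : ¬ 2 ∣ k)
    (S : Sylow 2 G) : Nat.card S = 8 ∧ ∀ x ∈ S, x * x = 1 := by
  have hS8 : ∀ P : Sylow 2 G, Nat.card P = 8 := by
    intro P
    rw [Sylow.card_eq_multiplicity, factorization_two_of _ k hN hk]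
    norm_num
  refine ⟨hS8 S, ?_⟩
  let V : Sylow 2 PSL2 := default
  have hVk : IsKleinFour (V : Subgroup PSL2) := Cfsg.Agent.Lib.H2.PSL2Klein.main (Or.inl hq) V
  have hV4 : Nat.card (V : Subgroup PSL2) = 4 := hVk.card_four
  have hVsq : ∀ v ∈ (V : Subgroup PSL2), v * v = 1 := by
    intro v hv
    have h1 : (⟨v, hv⟩ : (V : Subgroup PSL2)) ^ 2 = 1 := by
      have h0 := Monoid.pow_exponent_eq_one (⟨v, hv⟩ : (V : Subgroup PSL2))
      rw [hVk.exponent_two] at h0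
      exact h0
    have h2 := congrArg Subtype.val h1
    rw [Subgroup.coe_pow, Subgroup.coe_one, pow_two] at h2
    exact h2
  have hc : Nat.card (R.S0 (V : Subgroup PSL2)) = 8 := by rw [R.card_S0, hV4]
  have hp : IsPGroup 2 (R.S0 (V : Subgroup PSL2)) := IsPGroup.of_card (n := 3) (by rw [hc]; norm_num)
  obtain ⟨P, hP⟩ := hp.exists_le_sylow
  have hPeq : R.S0 (V : Subgroup PSL2) = (P : Subgroup G) := by
    apply Subgroup.eq_of_le_of_card_ge hP
    rw [hc, hS8 P]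
  obtain ⟨g, hg⟩ := MulAction.exists_smul_eq G P S
  intro x hx
  rw [← hg] at hx
  have hx' : x ∈ MulAut.conj g • (P : Subgroup G) := by
    rw [← Sylow.coe_subgroup_smul]; exact hx
  rw [Subgroup.mem_pointwise_smul_iff_inv_smul_mem, MulAut.smul_def, MulAut.conj_inv_apply] at hx'
  have h1 : g⁻¹ * x * g ∈ R.S0 (V : Subgroup PSL2) := by rw [hPeq]; exact hx'
  have h2 := R.sq_of_mem_S0 _ hVsq _ h1
  calc x * x = g * ((g⁻¹ * x * g) * (g⁻¹ * x * g)) * g⁻¹ := by group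
    _ = 1 := by rw [h2]; group

end RSys

end Cfsg.Agent.Lib.H12.ReeC
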