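import Cfsg.Agent.Lib.H2.PSL2Klein

/-!
# A Klein four-subgroup of `PSL₂(K)` in characteristic 3, its centraliser and its normaliser (helper12)

`w = [0,1;-1,0]`, `c = [1,1;1,-1]`, `d = wc`, `ω = [0,1;-1,-1]`; `V₀ = C(w̄, c̄) = {1, w̄, c̄, d̄}`,
`ω̄` normalises `V₀` and permutes `w̄ → c̄ → d̄ → w̄`; `|N(V₀)| = 12` when `|K| ≡ 3 (mod 8)`.
-/

set_option autoImplicit false
set_option linter.unusedSectionVars false
set_option linter.unusedSimpArgs false
set_option linter.unusedVariables false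

namespace Cfsg.Agent.Lib.H12.ReeN

open Matrix Cfsg.Agent.Lib.H2.PSL2Klein

variable {K : Type*} [Field K]

local notation "SL2" => Matrix.SpecialLinearGroup (Fin 2) K
local notation "PSL2" => Matrix.ProjectiveSpecialLinearGroup (Fin 2) K

/-- equality in `PSL₂` -/
theorem mk_eq_iff (g g' : SL2) : (QuotientGroup.mk g : PSL2) = QuotientGroup.mk g' ↔
    (g' : Matrix (Fin 2) (Fin 2) K) = g ∨ (g' : Matrix (Fin 2) (Fin 2) K) = -(g : Matrix (Fin 2) (Fin 2) K) := by
  rw [QuotientGroup.eq]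
  have e : (g : Matrix (Fin 2) (Fin 2) K) * ((g⁻¹ * g' : SL2) : Matrix (Fin 2) (Fin 2) K) = g' := by
    rw [← Matrix.SpecialLinearGroup.coe_mul, mul_inv_cancel_left]
  constructor
  · intro h
    rcases center_cases _ h with h1 | h1
    · left; rw [← e, h1, mul_one]
    · right; rw [← e, h1, mul_neg, mul_one]
  · intro h
    apply mem_center_of
    have e2 : ((g⁻¹ * g' : SL2) : Matrix (Fin 2) (Fin 2) K) =
        ((g⁻¹ : SL2) : Matrix (Fin 2) (Fin 2) K) * (g' : Matrix (Fin 2) (Fin 2) K) :=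
      Matrix.SpecialLinearGroup.coe_mul _ _
    have e3 : ((g⁻¹ : SL2) : Matrix (Fin 2) (Fin 2) K) * (g : Matrix (Fin 2) (Fin 2) K) = 1 := by
      rw [← Matrix.SpecialLinearGroup.coe_mul, inv_mul_cancel]; rfl
    rcases h with h | h
    · left; rw [e2, h, e3]
    · right; rw [e2, h, mul_neg, e3]

variable (h3 : (3 : K) = 0)

include h3 in
theorem two_ne_zero3 : (2 : K) ≠ 0 := by
  intro h
  have : (1 : K) = 0 := by linear_combination h3 - h
  exact one_ne_zero this

/-- `w` -/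
def wS : SL2 := ⟨!![0, 1; -1, 0], by simp [Matrix.det_fin_two_of]⟩

/-- `c` -/
def cS : SL2 := ⟨!![1, 1; 1, -1], by rw [Matrix.det_fin_two_of]; linear_combination -h3⟩

/-- `d = w c` -/
def dS : SL2 := ⟨!![1, -1; -1, -1], by rw [Matrix.det_fin_two_of]; linear_combination -h3⟩

/-- `ω` -/
def oS : SL2 := ⟨!![0, 1; -1, -1], by simp [Matrix.det_fin_two_of]⟩

theorem wS_val : ((wS : SL2) : Matrix (Fin 2) (Fin 2) K) = !![0, 1; -1, 0] := rfl
theorem cS_val : ((cS h3 : SL2) : Matrix (Fin 2) (Fin 2) K) = !![1, 1; 1, -1] := rfl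
theorem dS_val : ((dS h3 : SL2) : Matrix (Fin 2) (Fin 2) K) = !![1, -1; -1, -1] := rfl
theorem oS_val : ((oS : SL2) : Matrix (Fin 2) (Fin 2) K) = !![0, 1; -1, -1] := rfl

/-- a tactic-free way to prove equalities of explicit `2 × 2` matrices -/
theorem mat_ext {a b c d a' b' c' d' : K} (h1 : a = a') (h2 : b = b') (h3' : c = c') (h4 : d = d') :
    !![a, b; c, d] = !![a', b'; c', d'] := by rw [h1, h2, h3', h4]

theorem neg_mat (a b c d : K) : -!![a, b; c, d] = !![-a, -b; -c, -d] := by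
  ext i j; fin_cases i <;> fin_cases j <;> simp

theorem wS_sq : ((wS * wS : SL2) : Matrix (Fin 2) (Fin 2) K) = -1 := by
  rw [Matrix.SpecialLinearGroup.coe_mul, wS_val, Matrix.mul_fin_two, Matrix.one_fin_two, neg_mat]
  apply mat_ext <;> ring

theorem cS_sq : ((cS h3 * cS h3 : SL2) : Matrix (Fin 2) (Fin 2) K) = -1 := by
  rw [Matrix.SpecialLinearGroup.coe_mul, cS_val, Matrix.mul_fin_two, Matrix.one_fin_two, neg_mat]
  apply mat_ext
  · linear_combination h3
  · ring
  · ring
  · linear_combination h3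

theorem dS_sq : ((dS h3 * dS h3 : SL2) : Matrix (Fin 2) (Fin 2) K) = -1 := by
  rw [Matrix.SpecialLinearGroup.coe_mul, dS_val, Matrix.mul_fin_two, Matrix.one_fin_two, neg_mat]
  apply mat_ext
  · linear_combination h3
  · ring
  · ring
  · linear_combination h3

theorem wS_mul_cS : wS * cS h3 = dS h3 := by
  apply Subtype.ext
  rw [Matrix.SpecialLinearGroup.coe_mul, wS_val, cS_val, dS_val, Matrix.mul_fin_two]
  apply mat_ext <;> ring

theorem cS_mul_wS : ((cS h3 * wS : SL2) : Matrix (Fin 2) (Fin 2) K) = -((dS h3 : SL2) : Matrix (Fin 2) (Fin 2) K) := by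
  rw [Matrix.SpecialLinearGroup.coe_mul, wS_val, cS_val, dS_val, Matrix.mul_fin_two, neg_mat]
  apply mat_ext <;> ring

theorem oS_mul_wS : oS * wS = cS h3 * oS := by
  apply Subtype.ext
  rw [Matrix.SpecialLinearGroup.coe_mul, Matrix.SpecialLinearGroup.coe_mul, wS_val, cS_val, oS_val,
    Matrix.mul_fin_two, Matrix.mul_fin_two]
  apply mat_ext
  · ring
  · ring
  · ring
  · linear_combination -h3

theorem oS_mul_cS : oS * cS h3 = dS h3 * oS := by
  apply Subtype.ext
  rw [Matrix.SpecialLinearGroup.coe_mul, Matrix.SpecialLinearGroup.coe_mul, dS_val, cS_val, oS_val,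
    Matrix.mul_fin_two, Matrix.mul_fin_two]
  apply mat_ext
  · ring
  · linear_combination -h3
  · linear_combination -h3
  · ring

theorem oS_mul_dS : oS * dS h3 = wS * oS := by
  apply Subtype.ext
  rw [Matrix.SpecialLinearGroup.coe_mul, Matrix.SpecialLinearGroup.coe_mul, dS_val, wS_val, oS_val,
    Matrix.mul_fin_two, Matrix.mul_fin_two]
  apply mat_ext
  · ring
  · ring
  · ring
  · linear_combination h3

theorem oS_cube : (oS : SL2) * oS * oS = 1 := by
  apply Subtype.ext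
  rw [Matrix.SpecialLinearGroup.coe_mul, Matrix.SpecialLinearGroup.coe_mul, oS_val,
    Matrix.mul_fin_two, Matrix.mul_fin_two, Matrix.SpecialLinearGroup.coe_one, Matrix.one_fin_two]
  apply mat_ext <;> ring

end Cfsg.Agent.Lib.H12.ReeN
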