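import Cfsg.Agent.Lib.H12.ReeN1

/-!
# A Klein four-subgroup of `PSL₂(K)` in characteristic 3, part 2: `V₀`, its centraliser and normaliser (helper12)
-/

set_option autoImplicit false
set_option linter.unusedSectionVars false
set_option linter.unusedSimpArgs false
set_option linter.unusedVariables false

namespace Cfsg.Agent.Lib.H12.ReeN

open Matrix Cfsg.Agent.Lib.H2.PSL2Klein

variable {K : Type*} [Field K]

local notation "SL2" => Matrix.SpecialLinearGroup (Fin 2) K
local notation "PSL2" => Matrix.ProjectiveSpecialLinearGroup (Fin 2) K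
local notation "Mat2" => Matrix (Fin 2) (Fin 2) K

theorem mat_inj {a b c d a' b' c' d' : K} (h : !![a, b; c, d] = !![a', b'; c', d']) :
    a = a' ∧ b = b' ∧ c = c' ∧ d = d' := by
  have h00 := congrFun (congrFun h 0) 0
  have h01 := congrFun (congrFun h 0) 1
  have h10 := congrFun (congrFun h 1) 0
  have h11 := congrFun (congrFun h 1) 1
  simp at h00 h01 h10 h11
  exact ⟨h00, h01, h10, h11⟩

theorem mk_eq_of (g g' : SL2) (h : (g : Mat2) = g' ∨ (g : Mat2) = -(g' : Mat2)) :
    (QuotientGroup.mk g : PSL2) = QuotientGroup.mk g' := by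
  rw [mk_eq_iff]
  rcases h with h | h
  · left; exact h.symm
  · right; rw [h, neg_neg]

variable (h3 : (3 : K) = 0)

include h3 in
theorem sq_eq_one_cases (p : K) (h : p * p = 1) : p = 1 ∨ p = -1 := by
  have h2 : (p - 1) * (p + 1) = 0 := by linear_combination h
  rcases mul_eq_zero.mp h2 with h' | h'
  · left; exact sub_eq_zero.mp h'
  · right; exact eq_neg_of_add_eq_zero_left h'

include h3 in
theorem eq_zero_of_two_mul (p : K) (h : 2 * p = 0) : p = 0 := by
  rcases mul_eq_zero.mp h with h' | h'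
  · exact absurd h' (two_ne_zero3 h3)
  · exact h'

/-- the matrix computation: the elements of `SL₂` commuting with `w` and `c` up to sign -/
theorem comm_cases (g : SL2)
    (hw : ((g * wS : SL2) : Mat2) = ((wS * g : SL2) : Mat2) ∨ ((g * wS : SL2) : Mat2) = -((wS * g : SL2) : Mat2))
    (hc : ((g * cS h3 : SL2) : Mat2) = ((cS h3 * g : SL2) : Mat2) ∨
      ((g * cS h3 : SL2) : Mat2) = -((cS h3 * g : SL2) : Mat2)) :
    ((g : Mat2) = 1 ∨ (g : Mat2) = -1) ∨ ((g : Mat2) = (wS : SL2) ∨ (g : Mat2) = -((wS : SL2) : Mat2)) ∨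
      ((g : Mat2) = (cS h3 : SL2) ∨ (g : Mat2) = -((cS h3 : SL2) : Mat2)) ∨
      ((g : Mat2) = (dS h3 : SL2) ∨ (g : Mat2) = -((dS h3 : SL2) : Mat2)) := by
  obtain ⟨p, r, s, t, hg⟩ : ∃ p r s t : K, (g : Mat2) = !![p, r; s, t] := ⟨_, _, _, _, Matrix.eta_fin_two g.1⟩
  have hdet : p * t - r * s = 1 := by
    have := g.2
    rw [hg, Matrix.det_fin_two_of] at this
    exact this
  rw [Matrix.SpecialLinearGroup.coe_mul, Matrix.SpecialLinearGroup.coe_mul, wS_val, hg, Matrix.mul_fin_two,
    Matrix.mul_fin_two, neg_mat] at hw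
  rw [Matrix.SpecialLinearGroup.coe_mul, Matrix.SpecialLinearGroup.coe_mul, cS_val, hg, Matrix.mul_fin_two,
    Matrix.mul_fin_two, neg_mat] at hc
  rw [hg, wS_val, cS_val, dS_val, Matrix.one_fin_two, neg_mat, neg_mat, neg_mat, neg_mat]
  rcases hw with hw | hw
  · obtain ⟨w1, w2, -, -⟩ := mat_inj hw
    -- `s = -r`, `t = p`
    have hs : s = -r := by linear_combination -w1
    have ht : t = p := by linear_combination -w2
    subst hs ht
    rcases hc with hc | hc
    · obtain ⟨c1, -, -, -⟩ := mat_inj hc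
      have hr : r = 0 := eq_zero_of_two_mul h3 r (by linear_combination c1)
      subst hr
      left
      rcases sq_eq_one_cases h3 t (by linear_combination hdet) with h | h
      · left; subst h; apply mat_ext <;> ring
      · right; subst h; apply mat_ext <;> ring
    · obtain ⟨c1, -, -, -⟩ := mat_inj hc
      have hp : t = 0 := eq_zero_of_two_mul h3 t (by linear_combination c1)
      subst hp
      right; left
      rcases sq_eq_one_cases h3 r (by linear_combination hdet) with h | h
      · left; subst h; apply mat_ext <;> ring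
      · right; subst h; apply mat_ext <;> ring
  · obtain ⟨w1, w2, -, -⟩ := mat_inj hw
    -- `s = r`, `t = -p`
    have hs : s = r := by linear_combination w1
    have ht : t = -p := by linear_combination w2
    subst hs ht
    rcases hc with hc | hc
    · obtain ⟨-, c2, -, -⟩ := mat_inj hc
      have hr : s = p := by
        have : 2 * (s - p) = 0 := by linear_combination -c2
        have := eq_zero_of_two_mul h3 _ this
        exact sub_eq_zero.mp this
      subst hr
      right; right; left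
      rcases sq_eq_one_cases h3 s (by linear_combination hdet + (s * s) * h3) with h | h
      · left; subst h; apply mat_ext <;> ring
      · right; subst h; apply mat_ext <;> ring
    · obtain ⟨c1, -, -, -⟩ := mat_inj hc
      have hr : s = -p := by
        have : 2 * (s + p) = 0 := by linear_combination c1
        have := eq_zero_of_two_mul h3 _ this
        exact eq_neg_of_add_eq_zero_left this
      subst hr
      right; right; right
      rcases sq_eq_one_cases h3 p (by linear_combination hdet + (p * p) * h3) with h | h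
      · left; subst h; apply mat_ext <;> ring
      · right; subst h; apply mat_ext <;> ring

/-- the images in `PSL₂` -/
def wB : PSL2 := QuotientGroup.mk wS
/-- the image of `c` -/
def cB : PSL2 := QuotientGroup.mk (cS h3)
/-- the image of `d` -/
def dB : PSL2 := QuotientGroup.mk (dS h3)
/-- the image of `ω` -/
def oB : PSL2 := QuotientGroup.mk oS

theorem one_val : ((1 : SL2) : Mat2) = 1 := rfl

theorem wB_sq : (wB : PSL2) * wB = 1 := by
  unfold wB
  rw [← QuotientGroup.mk_mul, ← QuotientGroup.mk_one]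
  exact mk_eq_of _ _ (Or.inr (by rw [wS_sq, one_val]))

theorem cB_sq : cB h3 * cB h3 = 1 := by
  unfold cB
  rw [← QuotientGroup.mk_mul, ← QuotientGroup.mk_one]
  exact mk_eq_of _ _ (Or.inr (by rw [cS_sq, one_val]))

theorem dB_sq : dB h3 * dB h3 = 1 := by
  unfold dB
  rw [← QuotientGroup.mk_mul, ← QuotientGroup.mk_one]
  exact mk_eq_of _ _ (Or.inr (by rw [dS_sq, one_val]))

theorem wB_mul_cB : wB * cB h3 = dB h3 := by
  unfold wB cB dB
  rw [← QuotientGroup.mk_mul, wS_mul_cS]

theorem cB_mul_wB : cB h3 * wB = dB h3 := by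
  unfold wB cB dB
  rw [← QuotientGroup.mk_mul]
  exact mk_eq_of _ _ (Or.inr (cS_mul_wS h3))

/-- the Klein four-group `V₀ = C(w̄, c̄)` -/
def V0 : Subgroup PSL2 := Subgroup.centralizer {wB, cB h3}

theorem mem_V0_iff (v : PSL2) : v ∈ V0 h3 ↔ wB * v = v * wB ∧ cB h3 * v = v * cB h3 := by
  unfold V0
  rw [Subgroup.mem_centralizer_iff]
  constructor
  · intro h
    exact ⟨h _ (Set.mem_insert _ _), h _ (Set.mem_insert_of_mem _ rfl)⟩
  · rintro ⟨h1, h2⟩ z hz
    rcases hz with rfl | rfl
    · exact h1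
    · exact h2

theorem wB_mem : wB ∈ V0 h3 := by
  rw [mem_V0_iff]
  exact ⟨rfl, by rw [cB_mul_wB, wB_mul_cB]⟩

theorem cB_mem : cB h3 ∈ V0 h3 := by
  rw [mem_V0_iff]
  exact ⟨by rw [cB_mul_wB, wB_mul_cB], rfl⟩

theorem dB_mem : dB h3 ∈ V0 h3 := by
  rw [← wB_mul_cB]
  exact mul_mem (wB_mem h3) (cB_mem h3)

/-- the elements of `V₀` -/
theorem mem_V0_cases (v : PSL2) (hv : v ∈ V0 h3) : v = 1 ∨ v = wB ∨ v = cB h3 ∨ v = dB h3 := by
  obtain ⟨g, rfl⟩ := QuotientGroup.mk_surjective v
  obtain ⟨h1, h2⟩ := (mem_V0_iff h3 _).mp hv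
  unfold wB at h1
  unfold cB at h2
  rw [← QuotientGroup.mk_mul, ← QuotientGroup.mk_mul, mk_eq_iff] at h1 h2
  rcases comm_cases h3 g h1 h2 with h | h | h | h
  · left
    rw [← QuotientGroup.mk_one]
    exact mk_eq_of _ _ h
  · right; left
    exact mk_eq_of _ _ h
  · right; right; left
    exact mk_eq_of _ _ h
  · right; right; right
    exact mk_eq_of _ _ h

theorem sq_of_mem_V0 (v : PSL2) (hv : v ∈ V0 h3) : v * v = 1 := by
  rcases mem_V0_cases h3 v hv with rfl | rfl | rfl | rfl
  · exact mul_one 1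
  · exact wB_sq
  · exact cB_sq h3
  · exact dB_sq h3

theorem centralizer_V0_le : Subgroup.centralizer (V0 h3 : Set PSL2) ≤ V0 h3 := by
  intro g hg
  rw [Subgroup.mem_centralizer_iff] at hg
  rw [mem_V0_iff]
  exact ⟨hg _ (wB_mem h3), hg _ (cB_mem h3)⟩

/-! ### the element `ω̄` -/

theorem oB_cube : (oB : PSL2) * oB * oB = 1 := by
  unfold oB
  rw [← QuotientGroup.mk_mul, ← QuotientGroup.mk_mul, oS_cube]
  rfl

theorem oB_conj_wB : oB * wB * oB⁻¹ = cB h3 := by
  have : (oB : PSL2) * wB = cB h3 * oB := by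
    unfold oB wB cB
    rw [← QuotientGroup.mk_mul, ← QuotientGroup.mk_mul, oS_mul_wS h3]
  rw [this]; group

theorem oB_conj_cB : oB * cB h3 * oB⁻¹ = dB h3 := by
  have : (oB : PSL2) * cB h3 = dB h3 * oB := by
    unfold oB dB cB
    rw [← QuotientGroup.mk_mul, ← QuotientGroup.mk_mul, oS_mul_cS h3]
  rw [this]; group

theorem oB_conj_dB : oB * dB h3 * oB⁻¹ = wB := by
  have : (oB : PSL2) * dB h3 = wB * oB := by
    unfold oB dB wB
    rw [← QuotientGroup.mk_mul, ← QuotientGroup.mk_mul, oS_mul_dS h3]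
  rw [this]; group

theorem oB_conj_mem (v : PSL2) (hv : v ∈ V0 h3) : oB * v * oB⁻¹ ∈ V0 h3 := by
  rcases mem_V0_cases h3 v hv with rfl | rfl | rfl | rfl
  · rw [mul_one, mul_inv_cancel]; exact one_mem _
  · rw [oB_conj_wB h3]; exact cB_mem h3
  · rw [oB_conj_cB h3]; exact dB_mem h3
  · rw [oB_conj_dB h3]; exact wB_mem h3

theorem oB_inv : (oB : PSL2)⁻¹ = oB * oB := by
  apply inv_eq_of_mul_eq_one_right
  rw [← mul_assoc]; exact oB_cube

theorem oB_mem_normalizer : oB ∈ Subgroup.normalizer (V0 h3 : Set PSL2) := by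
  rw [Subgroup.mem_normalizer_iff]
  intro v
  constructor
  · exact oB_conj_mem h3 v
  · intro hv
    have h1 := oB_conj_mem h3 _ (oB_conj_mem h3 _ hv)
    have e : oB * (oB * (oB * v * oB⁻¹) * oB⁻¹) * oB⁻¹ = v := by
      calc oB * (oB * (oB * v * oB⁻¹) * oB⁻¹) * oB⁻¹
          = (oB * oB * oB) * v * (oB * oB * oB)⁻¹ := by group
        _ = v := by rw [oB_cube]; group
    rwa [e] at h1

theorem wB_ne_cB : (wB : PSL2) ≠ cB h3 := by
  unfold wB cB
  rw [Ne, mk_eq_iff, cS_val, wS_val, neg_mat]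
  rintro (h | h)
  · exact one_ne_zero (mat_inj h).1
  · have := (mat_inj h).1
    rw [neg_zero] at this
    exact one_ne_zero this

theorem cB_ne_dB : cB h3 ≠ dB h3 := by
  unfold dB cB
  rw [Ne, mk_eq_iff, cS_val, dS_val, neg_mat]
  rintro (h | h)
  · have := (mat_inj h).2.1
    exact two_ne_zero3 h3 (by linear_combination -this)
  · have := (mat_inj h).1
    exact two_ne_zero3 h3 (by linear_combination this)

theorem dB_ne_wB : dB h3 ≠ wB := by
  unfold dB wB
  rw [Ne, mk_eq_iff, wS_val, dS_val, neg_mat]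
  rintro (h | h)
  · exact one_ne_zero (mat_inj h).1.symm
  · have := (mat_inj h).1
    have h' : (1 : K) = 0 := by linear_combination this
    exact one_ne_zero h'

/-- `ω̄` acts fixed-point-freely on `V₀ ∖ 1` -/
theorem eq_one_of_oB_fixed (v : PSL2) (hv : v ∈ V0 h3) (h : oB * v * oB⁻¹ = v) : v = 1 := by
  rcases mem_V0_cases h3 v hv with rfl | rfl | rfl | rfl
  · rfl
  · rw [oB_conj_wB h3] at h
    exact absurd h.symm (wB_ne_cB h3)
  · rw [oB_conj_cB h3] at h
    exact absurd h.symm (cB_ne_dB h3)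
  · rw [oB_conj_dB h3] at h
    exact absurd h.symm (dB_ne_wB h3)

include h3 in
theorem wB_ne_one : (wB : PSL2) ≠ 1 := by
  intro h
  have := oB_conj_wB h3
  rw [h, mul_one, mul_inv_cancel] at this
  have h2 := wB_ne_cB h3
  rw [h, this] at h2
  exact h2 rfl

theorem oB_not_mem : oB ∉ V0 h3 := by
  intro h
  -- `V₀` is abelian (exponent 2), so `ω̄` would commute with `w̄`
  have h1 := ((mem_V0_iff h3 _).mp h).1
  have h2 : (oB : PSL2) * wB * oB⁻¹ = wB := by rw [← h1]; group
  rw [oB_conj_wB h3] at h2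
  exact wB_ne_cB h3 h2.symm

variable [Fintype K]

/-- `V₀` is a Sylow 2-subgroup -/
theorem exists_sylow_eq_V0 (hq : Fintype.card K % 8 = 3) :
    ∃ P : Sylow 2 PSL2, (P : Subgroup PSL2) = V0 h3 := by
  have hp : IsPGroup 2 (V0 h3) := by
    intro v
    refine ⟨1, ?_⟩
    apply Subtype.ext
    rw [pow_one, pow_two, Subgroup.coe_mul, Subgroup.coe_one]
    exact sq_of_mem_V0 h3 _ v.2
  obtain ⟨P, hP⟩ := hp.exists_le_sylow
  refine ⟨P, le_antisymm ?_ hP⟩
  have hk : IsKleinFour (P : Subgroup PSL2) := main (Or.inl hq) P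
  intro g hg
  have hcomm : ∀ z ∈ (P : Subgroup PSL2), z * g = g * z := by
    intro z hz
    have := mul_comm_of_exponent_two hk.exponent_two (⟨z, hz⟩ : (P : Subgroup PSL2)) ⟨g, hg⟩
    exact congrArg Subtype.val this
  rw [mem_V0_iff]
  exact ⟨hcomm _ (hP (wB_mem h3)), hcomm _ (hP (cB_mem h3))⟩

theorem V0_klein (hq : Fintype.card K % 8 = 3) : IsKleinFour (V0 h3) := by
  obtain ⟨P, hP⟩ := exists_sylow_eq_V0 h3 hq
  rw [← hP]
  exact main (Or.inl hq) P

theorem card_V0 (hq : Fintype.card K % 8 = 3) : Nat.card (V0 h3) = 4 := (V0_klein h3 hq).card_four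

theorem V0_comm (hq : Fintype.card K % 8 = 3) (u v : PSL2) (hu : u ∈ V0 h3) (hv : v ∈ V0 h3) : u * v = v * u := by
  have := mul_comm_of_exponent_two (V0_klein h3 hq).exponent_two (⟨u, hu⟩ : V0 h3) ⟨v, hv⟩
  exact congrArg Subtype.val this

theorem centralizer_V0 (hq : Fintype.card K % 8 = 3) : Subgroup.centralizer (V0 h3 : Set PSL2) = V0 h3 := by
  apply le_antisymm (centralizer_V0_le h3)
  intro v hv
  rw [Subgroup.mem_centralizer_iff]
  intro u hu
  exact V0_comm h3 hq u v hu hv

/-- the normaliser of `V₀` has order 12 -/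
theorem card_normalizer_V0 (hq : Fintype.card K % 8 = 3) :
    Nat.card (Subgroup.normalizer (V0 h3 : Set PSL2)) = 12 := by
  have key := Subgroup.card_dvd_of_injective _ (QuotientGroup.kerLift_injective (V0 h3).normalizerMonoidHom)
  rw [Subgroup.normalizerMonoidHom_ker, ← Subgroup.index, ← Subgroup.relIndex, centralizer_V0 h3 hq] at key
  have h24 : Nat.card (MulAut (V0 h3)) ∣ 24 := by
    have h1 := Subgroup.card_dvd_of_injective (MulAut.toPerm (V0 h3)) (fun a b h => by
      ext x
      have := congrArg (fun f : Equiv.Perm (V0 h3) => f x) h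
      exact congrArg Subtype.val this)
    rw [Nat.card_perm, card_V0 h3 hq] at h1
    exact h1
  have hr24 : (V0 h3).relIndex (Subgroup.normalizer (V0 h3 : Set PSL2)) ∣ 24 := dvd_trans key h24
  have hle : V0 h3 ≤ Subgroup.normalizer (V0 h3 : Set PSL2) := Subgroup.le_normalizer
  have hmul : Nat.card (V0 h3) * (V0 h3).relIndex (Subgroup.normalizer (V0 h3 : Set PSL2)) =
      Nat.card (Subgroup.normalizer (V0 h3 : Set PSL2)) := by
    have := Subgroup.relIndex_mul_relIndex ⊥ (V0 h3) (Subgroup.normalizer (V0 h3 : Set PSL2)) bot_le hle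
    rwa [Subgroup.relIndex_bot_left, Subgroup.relIndex_bot_left] at this
  rw [card_V0 h3 hq] at hmul
  obtain ⟨k, hk, hk2⟩ := card_factorization (F := K) (Or.inl hq)
  have hdvd : Nat.card (Subgroup.normalizer (V0 h3 : Set PSL2)) ∣ 4 * k := by
    rw [← hk]; exact Subgroup.card_subgroup_dvd_card _
  set r := (V0 h3).relIndex (Subgroup.normalizer (V0 h3 : Set PSL2)) with hr
  rw [← hmul] at hdvd
  have hrk : r ∣ k := Nat.dvd_of_mul_dvd_mul_left (by norm_num) hdvd
  have hrodd : ¬ 2 ∣ r := fun h => hk2 (dvd_trans h hrk)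
  have hr3 : r ∣ 3 := by
    have h8 : Nat.Coprime r 8 := by
      rw [show 8 = 2 ^ 3 by norm_num]
      apply Nat.Coprime.pow_right
      rw [Nat.coprime_comm, Nat.Prime.coprime_iff_not_dvd Nat.prime_two]
      exact hrodd
    have : r ∣ 8 * 3 := by norm_num; exact hr24
    exact h8.dvd_of_dvd_mul_left this
  have hr1 : r ≠ 1 := by
    intro h1
    rw [h1, mul_one] at hmul
    have hEq : V0 h3 = Subgroup.normalizer (V0 h3 : Set PSL2) := by
      apply Subgroup.eq_of_le_of_card_ge hle
      rw [card_V0 h3 hq, ← hmul]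
    apply oB_not_mem h3
    rw [hEq]
    exact oB_mem_normalizer h3
  have : r = 3 := by
    rcases (Nat.dvd_prime Nat.prime_three).mp hr3 with h | h
    · exact absurd h hr1
    · exact h
  rw [← hmul, this]

end Cfsg.Agent.Lib.H12.ReeN
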