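import Cfsg.Agent.Lib.H12.ReeC5
import Cfsg.Agent.Lib.H12.ReeN2
import Cfsg.Agent.Lib.H5.Orbits

/-!
# The normaliser of a Sylow 2-subgroup of a Ree group, part 3: the group level (helper12)
-/

set_option autoImplicit false
set_option linter.unusedSectionVars false
set_option linter.unusedSimpArgs false
set_option linter.unusedVariables false

namespace Cfsg.Agent.Lib.H12.ReeC

open scoped Pointwise
open Cfsg.Agent.Lib.H12.ReeN

section Generic

variable {G : Type*} [Group G]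

/-- orbit–stabiliser for the conjugation action of a subgroup on an element -/
theorem card_eq_orbit_mul (N : Subgroup G) (a : G) :
    Nat.card N = Nat.card {s : G // ∃ n ∈ N, n * a * n⁻¹ = s} *
      Nat.card (N ⊓ Subgroup.centralizer {a} : Subgroup G) := by
  let _ : MulAction ↥N G := MulAction.compHom G ((MulAut.conj : G →* MulAut G).comp N.subtype)
  have hsm : ∀ (n : ↥N) (s : G), n • s = (n : G) * s * (n : G)⁻¹ := fun n s => rfl
  have h := Cfsg.Agent.Lib.H5.card_orbit_mul_card_stabilizer (P := ↥N) a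
  rw [← h]
  congr 1
  · apply Nat.card_congr
    apply Equiv.subtypeEquivRight
    intro s
    rw [MulAction.mem_orbit_iff]
    constructor
    · rintro ⟨n, rfl⟩
      exact ⟨n.1, n.2, (hsm _ _).symm⟩
    · rintro ⟨n, hn, rfl⟩
      exact ⟨⟨n, hn⟩, hsm _ _⟩
  · apply Nat.card_congr
    refine ⟨fun n => ⟨n.1.1, ⟨n.1.2, ?_⟩⟩, fun g => ⟨⟨g.1, g.2.1⟩, ?_⟩, fun n => rfl, fun g => rfl⟩
    · show n.1.1 ∈ Subgroup.centralizer {a}
      rw [Subgroup.mem_centralizer_singleton_iff]
      have := MulAction.mem_stabilizer_iff.mp n.2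
      rw [hsm] at this
      calc n.1.1 * a = (n.1.1 * a * n.1.1⁻¹) * n.1.1 := by group
        _ = a * n.1.1 := by rw [this]
    · rw [MulAction.mem_stabilizer_iff, hsm]
      have := Subgroup.mem_centralizer_singleton_iff.mp g.2.2
      show g.1 * a * g.1⁻¹ = a
      rw [this]; group

/-- centraliser of a conjugate subgroup -/
theorem centralizer_map_conj (H : Subgroup G) (g : G) (hH : Subgroup.centralizer (H : Set G) = H) :
    Subgroup.centralizer ((H.map (MulAut.conj g).toMonoidHom : Subgroup G) : Set G) =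
      H.map (MulAut.conj g).toMonoidHom := by
  ext x
  rw [Subgroup.mem_centralizer_iff, Subgroup.mem_map]
  constructor
  · intro hx
    refine ⟨g⁻¹ * x * g, ?_, ?_⟩
    · rw [← hH, Subgroup.mem_centralizer_iff]
      intro y hy
      have h1 := hx (g * y * g⁻¹) (Subgroup.mem_map.mpr ⟨y, hy, rfl⟩)
      calc y * (g⁻¹ * x * g) = g⁻¹ * ((g * y * g⁻¹) * x) * g := by group
        _ = g⁻¹ * (x * (g * y * g⁻¹)) * g := by rw [h1]
        _ = g⁻¹ * x * g * y := by group
    · show g * (g⁻¹ * x * g) * g⁻¹ = x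
      group
  · rintro ⟨y, hy, rfl⟩ z hz
    obtain ⟨w, hw, rfl⟩ := Subgroup.mem_map.mp hz
    rw [← hH, Subgroup.mem_centralizer_iff] at hy
    have h1 := hy w hw
    show g * w * g⁻¹ * (g * y * g⁻¹) = g * y * g⁻¹ * (g * w * g⁻¹)
    calc g * w * g⁻¹ * (g * y * g⁻¹) = g * (w * y) * g⁻¹ := by group
      _ = g * (y * w) * g⁻¹ := by rw [h1]
      _ = _ := by group

theorem card_normalizer_map_conj (H : Subgroup G) (g : G) :
    Nat.card (Subgroup.normalizer ((H.map (MulAut.conj g).toMonoidHom : Subgroup G) : Set G)) =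
      Nat.card (Subgroup.normalizer (H : Set G)) := by
  rw [← Subgroup.map_equiv_normalizer_eq H (MulAut.conj g)]
  exact Subgroup.card_map_of_injective (MulAut.conj g).injective

end Generic

namespace RSys

variable {G K : Type*} [Group G] [Field K] (R : RSys G K)

local notation "SL2" => Matrix.SpecialLinearGroup (Fin 2) K
local notation "PSL2" => Matrix.ProjectiveSpecialLinearGroup (Fin 2) K

theorem ofAdd_one_ne : (Multiplicative.ofAdd (1 : ZMod 2)) ≠ 1 := by decide

theorem eps_ofAdd_one : R.eps (Multiplicative.ofAdd 1) = R.a := by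
  rcases R.eps_cases (Multiplicative.ofAdd 1) with ⟨h, -⟩ | ⟨-, h⟩
  · exact absurd h ofAdd_one_ne
  · exact h

theorem Phi_one_left (x : PSL2) : R.Phi (1, x) = R.phiBar x := by
  rw [R.Phi_apply, map_one, one_mul]

theorem Phi_a : R.Phi (Multiplicative.ofAdd 1, 1) = R.a := by
  rw [R.Phi_apply, R.eps_ofAdd_one, map_one, mul_one]

/-- the Sylow 2-subgroup `⟨a⟩ × V₀` -/
noncomputable def T0 : Subgroup G := R.S0 (V0 R.three)

theorem mem_T0 (g : G) : g ∈ R.T0 ↔ ∃ (e : Multiplicative (ZMod 2)) (v : PSL2), v ∈ V0 R.three ∧ R.Phi (e, v) = g :=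
  R.mem_S0 _ g

theorem a_mem_T0 : R.a ∈ R.T0 := (R.mem_T0 _).mpr ⟨_, 1, one_mem _, R.Phi_a⟩

theorem Phi_mem_T0 (e : Multiplicative (ZMod 2)) (x : PSL2) : R.Phi (e, x) ∈ R.T0 ↔ x ∈ V0 R.three := by
  rw [R.mem_T0]
  constructor
  · rintro ⟨e', v, hv, h⟩
    have := R.Phi_injective h
    rw [Prod.mk.injEq] at this
    rw [← this.2]; exact hv
  · intro hx
    exact ⟨e, x, hx, rfl⟩

theorem Phi_conj (e e' : Multiplicative (ZMod 2)) (x v : PSL2) :
    R.Phi (e, x) * R.Phi (e', v) * (R.Phi (e, x))⁻¹ = R.Phi (e', x * v * x⁻¹) := by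
  rw [← map_inv, ← map_mul, ← map_mul]
  congr 1
  rw [Prod.inv_mk, Prod.mk_mul_mk, Prod.mk_mul_mk]
  congr 1
  rw [mul_comm e e', mul_assoc, mul_inv_cancel, mul_one]

theorem mem_centralizer_a (g : G) (hg : g ∈ Subgroup.centralizer {R.a}) :
    ∃ e x, g = R.Phi (e, x) := by
  rw [← R.Phi_range] at hg
  obtain ⟨⟨e, x⟩, h⟩ := hg
  exact ⟨e, x, h.symm⟩

variable [Fintype K] [Finite G]

theorem card_T0 (hq : Fintype.card K % 8 = 3) : Nat.card R.T0 = 8 := by
  unfold T0
  rw [R.card_S0, card_V0 R.three hq]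

theorem T0_comm (hq : Fintype.card K % 8 = 3) (s t : G) (hs : s ∈ R.T0) (ht : t ∈ R.T0) : s * t = t * s := by
  obtain ⟨e, v, hv, rfl⟩ := (R.mem_T0 s).mp hs
  obtain ⟨e', v', hv', rfl⟩ := (R.mem_T0 t).mp ht
  rw [← map_mul, ← map_mul, Prod.mk_mul_mk, Prod.mk_mul_mk, mul_comm e e', V0_comm R.three hq v v' hv hv']

/-- `C(S) = S` -/
theorem centralizer_T0 (hq : Fintype.card K % 8 = 3) : Subgroup.centralizer (R.T0 : Set G) = R.T0 := by
  apply le_antisymm
  · intro g hg
    rw [Subgroup.mem_centralizer_iff] at hg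
    have hga : g ∈ Subgroup.centralizer {R.a} := by
      rw [Subgroup.mem_centralizer_singleton_iff]
      exact (hg _ R.a_mem_T0).symm
    obtain ⟨e, x, rfl⟩ := R.mem_centralizer_a g hga
    rw [R.Phi_mem_T0, ← centralizer_V0 R.three hq, Subgroup.mem_centralizer_iff]
    intro v hv
    have h1 := hg (R.Phi (1, v)) ((R.Phi_mem_T0 1 v).mpr hv)
    rw [← map_mul, ← map_mul] at h1
    have h2 := R.Phi_injective h1
    rw [Prod.mk_mul_mk, Prod.mk_mul_mk, Prod.mk.injEq] at h2
    exact h2.2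
  · intro g hg
    rw [Subgroup.mem_centralizer_iff]
    intro s hs
    exact R.T0_comm hq s g hs hg

theorem conj_mem_T0 (e : Multiplicative (ZMod 2)) (x : PSL2)
    (hx : x ∈ Subgroup.normalizer (V0 R.three : Set PSL2)) (s : G) (hs : s ∈ R.T0) :
    R.Phi (e, x) * s * (R.Phi (e, x))⁻¹ ∈ R.T0 := by
  obtain ⟨e', v, hv, rfl⟩ := (R.mem_T0 s).mp hs
  rw [R.Phi_conj, R.Phi_mem_T0]
  exact ((Subgroup.mem_normalizer_iff.mp hx) v).mp hv

/-- the normaliser of `S` inside the centraliser of `a` -/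
theorem normalizer_inf_centralizer :
    (Subgroup.normalizer (R.T0 : Set G) ⊓ Subgroup.centralizer {R.a} : Subgroup G) =
      ((⊤ : Subgroup (Multiplicative (ZMod 2))).prod (Subgroup.normalizer (V0 R.three : Set PSL2))).map R.Phi := by
  ext g
  rw [Subgroup.mem_inf, Subgroup.mem_map]
  constructor
  · rintro ⟨hn, hc⟩
    obtain ⟨e, x, rfl⟩ := R.mem_centralizer_a g hc
    refine ⟨(e, x), Subgroup.mem_prod.mpr ⟨Subgroup.mem_top _, ?_⟩, rfl⟩
    rw [Subgroup.mem_normalizer_iff] at hn ⊢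
    intro v
    rw [← R.Phi_mem_T0 1 v, hn (R.Phi (1, v)), R.Phi_conj, R.Phi_mem_T0]
  · rintro ⟨⟨e, x⟩, hp, rfl⟩
    have hx := (Subgroup.mem_prod.mp hp).2
    refine ⟨?_, ?_⟩
    · rw [Subgroup.mem_normalizer_iff]
      intro s
      constructor
      · exact R.conj_mem_T0 e x hx s
      · intro hs
        have h1 := R.conj_mem_T0 e⁻¹ x⁻¹ (inv_mem hx) _ hs
        have e1 : R.Phi (e⁻¹, x⁻¹) = (R.Phi (e, x))⁻¹ := by rw [← map_inv, Prod.inv_mk]
        rw [e1] at h1
        have e2 : (R.Phi (e, x))⁻¹ * (R.Phi (e, x) * s * (R.Phi (e, x))⁻¹) * (R.Phi (e, x))⁻¹⁻¹ = s := by group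
        rwa [e2] at h1
    · rw [← R.Phi_range]
      exact ⟨_, rfl⟩

theorem card_normalizer_inf_centralizer (hq : Fintype.card K % 8 = 3) :
    Nat.card (Subgroup.normalizer (R.T0 : Set G) ⊓ Subgroup.centralizer {R.a} : Subgroup G) = 24 := by
  rw [R.normalizer_inf_centralizer, Subgroup.card_map_of_injective R.Phi_injective,
    Nat.card_congr (Subgroup.prodEquiv _ _).toEquiv, Nat.card_prod, Subgroup.card_top,
    card_normalizer_V0 R.three hq]
  simp

/-- the element of order 3 normalising `S` -/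
noncomputable def om : G := R.Phi (1, oB)

theorem om_cube : R.om * R.om * R.om = 1 := by
  unfold om
  rw [← map_mul, ← map_mul, Prod.mk_mul_mk, Prod.mk_mul_mk, oB_cube, mul_one, mul_one]
  exact map_one _

theorem om_mem : R.om ∈ (Subgroup.normalizer (R.T0 : Set G) ⊓ Subgroup.centralizer {R.a} : Subgroup G) := by
  rw [R.normalizer_inf_centralizer, Subgroup.mem_map]
  exact ⟨(1, oB), Subgroup.mem_prod.mpr ⟨Subgroup.mem_top _, oB_mem_normalizer R.three⟩, rfl⟩

/-- the fixed points of `ω` on `S` -/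
theorem om_fixed (s : G) (hs : s ∈ R.T0) (h : R.om * s * R.om⁻¹ = s) : s = 1 ∨ s = R.a := by
  obtain ⟨e, v, hv, rfl⟩ := (R.mem_T0 s).mp hs
  unfold om at h
  rw [R.Phi_conj] at h
  have h1 := R.Phi_injective h
  rw [Prod.mk.injEq] at h1
  have hv1 := eq_one_of_oB_fixed R.three v hv h1.2
  subst hv1
  rcases R.eps_cases e with ⟨he, -⟩ | ⟨he, h2⟩
  · left; rw [he]; exact map_one _
  · right; rw [R.Phi_apply, h2, map_one, mul_one]

end RSys

end Cfsg.Agent.Lib.H12.ReeC
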