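import Cfsg.Agent.Lib.H12.ReeN3

/-!
# The normaliser of a Sylow 2-subgroup of a Ree group, part 4: `C(S) = S`, `|N(S)| = 168` (helper12)
-/

set_option autoImplicit false
set_option linter.unusedSectionVars false
set_option linter.unusedSimpArgs false
set_option linter.unusedVariables false

namespace Cfsg.Agent.Lib.H12.ReeC

open scoped Pointwise
open Cfsg.Agent.Lib.H12.ReeN

namespace RSys

variable {G K : Type*} [Group G] [Field K] (R : RSys G K)

local notation "SL2" => Matrix.SpecialLinearGroup (Fin 2) K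
local notation "PSL2" => Matrix.ProjectiveSpecialLinearGroup (Fin 2) K

variable [Fintype K] [Finite G]

/-- the orbit of `a` under the normaliser of `S` -/
def Orb : Set G := {s | ∃ n ∈ Subgroup.normalizer (R.T0 : Set G), n * R.a * n⁻¹ = s}

theorem Orb_subset : R.Orb ⊆ (R.T0 : Set G) \ {1} := by
  rintro s ⟨n, hn, rfl⟩
  refine ⟨((Subgroup.mem_normalizer_iff.mp hn) R.a).mp R.a_mem_T0, ?_⟩
  intro h
  rw [Set.mem_singleton_iff] at h
  apply R.a_ne_one
  calc R.a = n⁻¹ * (n * R.a * n⁻¹) * n := by group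
    _ = 1 := by rw [h]; group

theorem card_Orb_le (hq : Fintype.card K % 8 = 3) : R.Orb.ncard ≤ 7 := by
  have h1 := Set.ncard_le_ncard R.Orb_subset (Set.toFinite _)
  have h2 : ((R.T0 : Set G) \ {1}).ncard = 7 := by
    rw [Set.ncard_sdiff_singleton_of_mem (one_mem R.T0), ← Nat.card_coe_set_eq]
    have := R.card_T0 hq
    simp only [SetLike.coe_sort_coe]
    rw [this]
  rwa [h2] at h1

theorem a_mem_Orb : R.a ∈ R.Orb := ⟨1, one_mem _, by group⟩

theorem om_mem_normalizer : R.om ∈ Subgroup.normalizer (R.T0 : Set G) := (Subgroup.mem_inf.mp R.om_mem).1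

theorem om_comm_a : R.om * R.a * R.om⁻¹ = R.a := by
  have := Subgroup.mem_centralizer_singleton_iff.mp (Subgroup.mem_inf.mp R.om_mem).2
  rw [this]; group

theorem om_conj_mem_Orb (s : G) (hs : s ∈ R.Orb) : R.om * s * R.om⁻¹ ∈ R.Orb := by
  obtain ⟨n, hn, rfl⟩ := hs
  exact ⟨R.om * n, mul_mem R.om_mem_normalizer hn, by group⟩

theorem om_inv : R.om⁻¹ = R.om * R.om := by
  apply inv_eq_of_mul_eq_one_right
  rw [← mul_assoc]; exact R.om_cube

/-- the size of the orbit is `1` modulo `3` -/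
theorem card_Orb_mod_three : R.Orb.ncard % 3 = 1 := by
  classical
  haveI : Fact (Nat.Prime 3) := ⟨Nat.prime_three⟩
  haveI : Fintype ↥R.Orb := Fintype.ofFinite _
  let f : Function.End ↥R.Orb := fun s => ⟨R.om * s.1 * R.om⁻¹, R.om_conj_mem_Orb s.1 s.2⟩
  have hf : f ^ 3 ^ 1 = 1 := by
    rw [pow_one]
    have e : f ^ 3 = f * f * f := by rw [pow_succ, pow_succ, pow_one]
    rw [e]
    funext x
    apply Subtype.ext
    show R.om * (R.om * (R.om * x.1 * R.om⁻¹) * R.om⁻¹) * R.om⁻¹ = x.1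
    calc R.om * (R.om * (R.om * x.1 * R.om⁻¹) * R.om⁻¹) * R.om⁻¹
        = (R.om * R.om * R.om) * x.1 * (R.om * R.om * R.om)⁻¹ := by group
      _ = x.1 := by rw [R.om_cube]; group
  have key := Equiv.Perm.card_fixedPoints_modEq (f := f) (p := 3) (n := 1) hf
  have hfix : Fintype.card ↥(Function.fixedPoints f) = 1 := by
    rw [Fintype.card_eq_nat_card, Nat.card_eq_one_iff_unique]
    have hmem : ∀ x : ↥(Function.fixedPoints f), x.1.1 = R.a := by
      intro x
      have h1 : f x.1 = x.1 := x.2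
      have h2 : R.om * x.1.1 * R.om⁻¹ = x.1.1 := congrArg Subtype.val h1
      have h3 := R.Orb_subset x.1.2
      rcases R.om_fixed x.1.1 h3.1 h2 with h | h
      · exact absurd h h3.2
      · exact h
    refine ⟨⟨fun x y => ?_⟩, ⟨⟨⟨R.a, R.a_mem_Orb⟩, ?_⟩⟩⟩
    · apply Subtype.ext
      apply Subtype.ext
      rw [hmem x, hmem y]
    · show f ⟨R.a, R.a_mem_Orb⟩ = ⟨R.a, R.a_mem_Orb⟩
      apply Subtype.ext
      exact R.om_comm_a
  rw [hfix, Fintype.card_eq_nat_card, Nat.card_coe_set_eq] at key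
  have : R.Orb.ncard % 3 = 1 % 3 := key
  omega

/-- `|N(S)| = 168` -/
theorem card_normalizer_T0 (hq : Fintype.card K % 8 = 3) (k : ℕ) (hN : Nat.card G = 8 * k) (hk : ¬ 2 ∣ k)
    (hZ : ∃ n ∈ Subgroup.normalizer (R.T0 : Set G), n * R.a * n⁻¹ ≠ R.a) :
    Nat.card (Subgroup.normalizer (R.T0 : Set G)) = 168 := by
  have h1 := card_eq_orbit_mul (Subgroup.normalizer (R.T0 : Set G)) R.a
  rw [R.card_normalizer_inf_centralizer hq] at h1
  have hO : Nat.card {s : G // ∃ n ∈ Subgroup.normalizer (R.T0 : Set G), n * R.a * n⁻¹ = s} = R.Orb.ncard :=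
    Nat.card_coe_set_eq R.Orb
  rw [hO] at h1
  have hle := R.card_Orb_le hq
  have hmod := R.card_Orb_mod_three
  have hge : 2 ≤ R.Orb.ncard := by
    obtain ⟨n, hn, hne⟩ := hZ
    have h2 : 1 < R.Orb.ncard := by
      rw [Set.one_lt_ncard_iff (Set.toFinite _)]
      exact ⟨_, _, ⟨n, hn, rfl⟩, R.a_mem_Orb, hne⟩
    omega
  have hodd : ¬ 2 ∣ R.Orb.ncard := by
    intro h2
    have hdvd : Nat.card (Subgroup.normalizer (R.T0 : Set G)) ∣ 8 * k := by
      rw [← hN]; exact Subgroup.card_subgroup_dvd_card _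
    rw [h1] at hdvd
    have e : R.Orb.ncard * 24 = 8 * (R.Orb.ncard * 3) := by ring
    rw [e] at hdvd
    have h3 : R.Orb.ncard * 3 ∣ k := Nat.dvd_of_mul_dvd_mul_left (by norm_num) hdvd
    exact hk (dvd_trans h2 (dvd_trans (dvd_mul_right _ _) h3))
  have h7 : R.Orb.ncard = 7 := by omega
  rw [h1, h7]

/-- `S` is a Sylow 2-subgroup -/
theorem exists_sylow_eq_T0 (hq : Fintype.card K % 8 = 3) (k : ℕ) (hN : Nat.card G = 8 * k) (hk : ¬ 2 ∣ k) :
    ∃ P : Sylow 2 G, (P : Subgroup G) = R.T0 := by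
  have hc := R.card_T0 hq
  have hp : IsPGroup 2 R.T0 := IsPGroup.of_card (n := 3) (by rw [hc]; norm_num)
  obtain ⟨P, hP⟩ := hp.exists_le_sylow
  refine ⟨P, (Subgroup.eq_of_le_of_card_ge hP ?_).symm⟩
  rw [hc, Sylow.card_eq_multiplicity, factorization_two_of _ k hN hk]
  norm_num

/-- **the Sylow 2-subgroups** are self-centralising with normaliser of order 168 -/
theorem sylow_two_normalizer (hq : Fintype.card K % 8 = 3) (k : ℕ) (hN : Nat.card G = 8 * k) (hk : ¬ 2 ∣ k)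
    (hZ : ∃ g : G, g * R.a * g⁻¹ ∈ R.T0 ∧ g * R.a * g⁻¹ ≠ R.a) (S : Sylow 2 G) :
    Subgroup.centralizer ((S : Subgroup G) : Set G) = S ∧
      Nat.card (Subgroup.normalizer ((S : Subgroup G) : Set G)) = 168 := by
  obtain ⟨P, hP⟩ := R.exists_sylow_eq_T0 hq k hN hk
  have hcent := R.centralizer_T0 hq
  -- Burnside's fusion argument
  have hZ' : ∃ n ∈ Subgroup.normalizer (R.T0 : Set G), n * R.a * n⁻¹ ≠ R.a := by
    obtain ⟨g, hg1, hg2⟩ := hZ
    have hx : R.a ∈ Subgroup.centralizer ((P : Subgroup G) : Set G) := by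
      rw [hP, hcent]; exact R.a_mem_T0
    have hy : (g⁻¹)⁻¹ * R.a * g⁻¹ ∈ Subgroup.centralizer ((P : Subgroup G) : Set G) := by
      rw [hP, hcent, inv_inv]; exact hg1
    obtain ⟨n, hn, he⟩ := Sylow.conj_eq_normalizer_conj_of_mem_centralizer P R.a g⁻¹ hx hy
    have hn' : n ∈ Subgroup.normalizer (R.T0 : Set G) := by rw [← hP]; exact hn
    refine ⟨n⁻¹, inv_mem hn', ?_⟩
    rw [inv_inv, ← he, inv_inv]
    exact hg2
  have h168 := R.card_normalizer_T0 hq k hN hk hZ'
  obtain ⟨g, hg⟩ := MulAction.exists_smul_eq G P S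
  have hS : (S : Subgroup G) = R.T0.map (MulAut.conj g).toMonoidHom := by
    rw [← hg, Sylow.coe_subgroup_smul, hP]
    rfl
  rw [hS]
  exact ⟨centralizer_map_conj _ g hcent, by rw [card_normalizer_map_conj, h168]⟩

end RSys

end Cfsg.Agent.Lib.H12.ReeC
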