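import Mathlib

/-!
# Block triangular matrices and their diagonal blocks (helper12)
-/

set_option autoImplicit false
set_option linter.unusedSectionVars false
set_option linter.unusedVariables false

namespace Cfsg.Agent.Lib.H12.ReeR

open Matrix

section Block

variable {ι : Type*} [Fintype ι] [DecidableEq ι] {R : Type*} [CommRing R]

/-- block triangular matrices: the coordinate subspace of the `i` with `p i = true` is invariant -/
def BT (p : ι → Bool) (M : Matrix ι ι R) : Prop :=
  ∀ row col, p row = false → p col = true → M row col = 0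

theorem BT.one (p : ι → Bool) : BT p (1 : Matrix ι ι R) := by
  intro row col h1 h2
  rw [Matrix.one_apply_ne]
  rintro rfl
  rw [h1] at h2
  exact Bool.noConfusion h2

theorem BT.mul {p : ι → Bool} {M N : Matrix ι ι R} (hM : BT p M) (hN : BT p N) : BT p (M * N) := by
  intro row col h1 h2
  rw [Matrix.mul_apply]
  apply Finset.sum_eq_zero
  intro k _
  cases hk : p k
  · rw [hN k col hk h2, mul_zero]
  · rw [hM row k h1 hk, zero_mul]

theorem BT.pow {p : ι → Bool} {M : Matrix ι ι R} (hM : BT p M) (k : ℕ) : BT p (M ^ k) := by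
  induction k with
  | zero => rw [pow_zero]; exact BT.one p
  | succ k ih => rw [pow_succ]; exact ih.mul hM

theorem BT.inv [Finite R] {p : ι → Bool} (g : GL ι R) (hg : BT p (g : Matrix ι ι R)) :
    BT p ((g⁻¹ : GL ι R) : Matrix ι ι R) := by
  have hfin : Finite (GL ι R) := by
    apply Finite.of_injective (fun g : GL ι R => (g : Matrix ι ι R))
    exact Units.val_injective
  have h1 : g⁻¹ = g ^ (orderOf g - 1) := by
    apply inv_eq_of_mul_eq_one_right
    rw [← pow_succ', Nat.sub_add_cancel (orderOf_pos g), pow_orderOf_eq_one]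
  rw [h1, Units.val_pow_eq_pow_val]
  exact hg.pow _

theorem BT.submatrix_true {p : ι → Bool} {n : Type*} [Fintype n] (e : n → ι) (he : Function.Injective e)
    (hr : ∀ i, p i = true → i ∈ Set.range e) (he1 : ∀ j, p (e j) = true)
    (M N : Matrix ι ι R) (hN : BT p N) :
    (M * N).submatrix e e = M.submatrix e e * N.submatrix e e := by
  ext i j
  rw [Matrix.submatrix_apply, Matrix.mul_apply, Matrix.mul_apply]
  symm
  apply Fintype.sum_of_injective e he
  · intro k hk
    have : p k = false := by
      cases hpk : p k
      · rfl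
      · exact absurd (hr k hpk) hk
    rw [hN k (e j) this (he1 j), mul_zero]
  · intro k
    rfl

theorem BT.submatrix_false {p : ι → Bool} {n : Type*} [Fintype n] (e : n → ι) (he : Function.Injective e)
    (hr : ∀ i, p i = false → i ∈ Set.range e) (he1 : ∀ j, p (e j) = false)
    (M N : Matrix ι ι R) (hM : BT p M) :
    (M * N).submatrix e e = M.submatrix e e * N.submatrix e e := by
  ext i j
  rw [Matrix.submatrix_apply, Matrix.mul_apply, Matrix.mul_apply]
  symm
  apply Fintype.sum_of_injective e he
  · intro k hk
    have : p k = true := by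
      cases hpk : p k
      · exact absurd (hr k hpk) hk
      · rfl
    rw [hM (e i) k (he1 i) this, zero_mul]
  · intro k
    rfl

/-- two block triangular matrices with trivial diagonal blocks commute -/
theorem BT.commute_of_blocks {p : ι → Bool} {M N : Matrix ι ι R} (hM : BT p M) (hN : BT p N)
    (hM1 : ∀ i j, p i = p j → M i j = (1 : Matrix ι ι R) i j)
    (hN1 : ∀ i j, p i = p j → N i j = (1 : Matrix ι ι R) i j) : M * N = N * M := by
  have key : ∀ A B : Matrix ι ι R, (∀ i j, ¬ (p i = true ∧ p j = false) → A i j = 0) →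
      (∀ i j, ¬ (p i = true ∧ p j = false) → B i j = 0) → A * B = 0 := by
    intro A B hA hB
    ext i j
    rw [Matrix.mul_apply, Matrix.zero_apply]
    apply Finset.sum_eq_zero
    intro k _
    cases hk : p k
    · rw [hB k j (by rw [hk]; simp), mul_zero]
    · rw [hA i k (by rw [hk]; simp), zero_mul]
  have hA : ∀ i j, ¬ (p i = true ∧ p j = false) → (M - 1) i j = 0 := by
    intro i j h
    rw [Matrix.sub_apply]
    cases hi : p i <;> cases hj : p j
    · rw [hM1 i j (by rw [hi, hj]), sub_self]
    · rw [hM i j hi hj, Matrix.one_apply_ne (by rintro rfl; rw [hi] at hj; exact Bool.noConfusion hj), sub_zero]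
    · exact absurd ⟨hi, hj⟩ h
    · rw [hM1 i j (by rw [hi, hj]), sub_self]
  have hB : ∀ i j, ¬ (p i = true ∧ p j = false) → (N - 1) i j = 0 := by
    intro i j h
    rw [Matrix.sub_apply]
    cases hi : p i <;> cases hj : p j
    · rw [hN1 i j (by rw [hi, hj]), sub_self]
    · rw [hN i j hi hj, Matrix.one_apply_ne (by rintro rfl; rw [hi] at hj; exact Bool.noConfusion hj), sub_zero]
    · exact absurd ⟨hi, hj⟩ h
    · rw [hN1 i j (by rw [hi, hj]), sub_self]
  have h1 := key _ _ hA hB
  have h2 := key _ _ hB hA
  have e1 : M * N = (M - 1) * (N - 1) + M + N - 1 := by noncomm_ring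
  have e2 : N * M = (N - 1) * (M - 1) + M + N - 1 := by noncomm_ring
  rw [e1, e2, h1, h2]

end Block

end Cfsg.Agent.Lib.H12.ReeR
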