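import Mathlib
import Cfsg.Prelude.Def_ChevStructure
import Cfsg.Prelude.Def_LieTwisted
import Cfsg.Prelude.Def_LieExceptional
import Cfsg.Agent.Lib.H12.ReeR0
import Cfsg.Agent.Lib.H29.ChevRee21
import Cfsg.Agent.Lib.H29.TwAutD4

/-!
# A faithful 7-dimensional module of the Ree groups `²G₂(q)` (helper12)

In characteristic 3 the short root vectors and `h_a` span an ideal of the Lie algebra of type `G₂`; the Ree group acts
faithfully on it or on the quotient.
-/

set_option autoImplicit false
set_option linter.unusedSectionVars false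
set_option linter.unusedVariables false

open Cfsg.Lie Matrix

namespace Cfsg.Agent.Lib.H12.ReeR

/-- the coordinates of the short-root ideal: `h_a` and the short root vectors -/
def InJ : chevG2.Idx → Bool
  | Sum.inl i => i.val == 0
  | Sum.inr s => s.val == 2 || s.val == 3 || s.val == 4 || s.val == 7 || s.val == 8 || s.val == 9

variable {K : Type*} [Field K]

theorem cast_zero_of_three (h3 : (3 : K) = 0) (c : ℤ) (hc : c % 3 = 0) : ((c : ℤ) : K) = 0 := by
  obtain ⟨d, rfl⟩ : ∃ d, c = 3 * d := ⟨c / 3, by omega⟩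
  push_cast
  rw [h3, zero_mul]

theorem chain_chk : ∀ r : Fin 12, ∀ s : Fin 12, ∀ u : Fin 12,
    InJ (Sum.inr s) = true → InJ (Sum.inr u) = false →
      ∀ km ∈ chevG2.chainCoeff r.val s.val u.val, km.2 % 3 = 0 := by
  decide

theorem cartan_chk : ∀ r : Fin 12, InJ (Sum.inr r) = false →
    ((chevG2.cartanSR.getD 0 #[]).getD r.val 0) % 3 = 0 := by decide

theorem coroot_chk : ∀ r : Fin 12, InJ (Sum.inr r) = true →
    ((chevG2.coroot.getD r.val #[]).getD 1 0) % 3 = 0 := by decide

theorem neg_chk : ∀ r s : Fin 12, s.val = chevG2.negIdx.getD r.val 0 → InJ (Sum.inr r) = InJ (Sum.inr s) := by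
  decide

theorem xMat_block (h3 : (3 : K) = 0) (r : Fin chevG2.nroots) (t : K) (row col : chevG2.Idx)
    (hrow : InJ row = false) (hcol : InJ col = true) : chevG2.xMat K r t row col = 0 := by
  unfold ChevalleyDatum.xMat
  rw [Matrix.of_apply]
  rcases col with i | s
  · -- col = h_i, i = 0
    rcases row with i' | u
    · simp only
      have h1 : i.val = 0 := by simpa [InJ] using hcol
      have h2 : i'.val ≠ 0 := by simpa [InJ] using hrow
      rw [if_neg]
      intro h; rw [h] at h2; exact h2 h1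
    · simp only
      split_ifs with hur
      · have h1 : i.val = 0 := by simpa [InJ] using hcol
        rw [h1, cast_zero_of_three h3 _ (cartan_chk r (by rw [← hur]; exact hrow))]
        ring
      · rfl
  · simp only
    split_ifs with h1 h2
    · -- s = r
      rcases row with i' | u
      · rfl
      · simp only
        rw [if_neg]
        rintro rfl
        rw [h1] at hcol
        rw [hcol] at hrow
        exact Bool.noConfusion hrow
    · -- s = -r
      rcases row with i' | u
      · simp only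
        have hi' : i'.val = 1 := by
          have : i'.val ≠ 0 := by simpa [InJ] using hrow
          have := i'.2
          have : i'.val < 2 := this
          omega
        have hr : InJ (Sum.inr r) = true := by
          rw [neg_chk r s h2]; exact hcol
        rw [hi', cast_zero_of_three h3 _ (coroot_chk r hr), zero_mul]
      · simp only
        have hr : InJ (Sum.inr r) = true := by
          rw [neg_chk r s h2]; exact hcol
        rw [if_neg, if_neg]
        · rintro rfl; rw [hr] at hrow; exact Bool.noConfusion hrow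
        · rintro rfl; rw [hcol] at hrow; exact Bool.noConfusion hrow
    · rcases row with i' | u
      · rfl
      · simp only
        rw [if_neg, zero_add]
        · apply List.sum_eq_zero
          intro x hx
          obtain ⟨km, hkm, rfl⟩ := List.mem_map.mp hx
          rw [cast_zero_of_three h3 _ (chain_chk r s u hcol hrow km hkm), zero_mul]
        · rintro rfl; rw [hcol] at hrow; exact Bool.noConfusion hrow


open Cfsg.Agent.Lib.H29.Chev

theorem BT_group [Fintype K] (h3 : (3 : K) = 0) (g : GL chevG2.Idx K) (hg : g ∈ chevG2.group K) :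
    BT InJ (g : Matrix chevG2.Idx chevG2.Idx K) := by
  induction hg using Subgroup.closure_induction with
  | mem g hg =>
    obtain ⟨r, t, hrt⟩ := hg
    rw [hrt]
    intro row col h1 h2
    exact xMat_block h3 r t row col h1 h2
  | one => exact BT.one _
  | mul g h _ _ ihg ihh => rw [Units.val_mul]; exact ihg.mul ihh
  | inv g _ ih => exact BT.inv g ih

/-- the coordinates of the ideal -/
def eJ : Fin 7 → Fin 2 ⊕ Fin 12 :=
  ![Sum.inl (0 : Fin 2), Sum.inr (2 : Fin 12), Sum.inr (3 : Fin 12), Sum.inr (4 : Fin 12), Sum.inr (7 : Fin 12),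
    Sum.inr (8 : Fin 12), Sum.inr (9 : Fin 12)]

/-- the other coordinates -/
def eQ : Fin 7 → Fin 2 ⊕ Fin 12 :=
  ![Sum.inl (1 : Fin 2), Sum.inr (0 : Fin 12), Sum.inr (1 : Fin 12), Sum.inr (5 : Fin 12), Sum.inr (6 : Fin 12),
    Sum.inr (10 : Fin 12), Sum.inr (11 : Fin 12)]

theorem eJ_inj : Function.Injective eJ := by decide
theorem eQ_inj : Function.Injective eQ := by decide
theorem eJ_true : ∀ j, InJ (eJ j) = true := by decide
theorem eQ_false : ∀ j, InJ (eQ j) = false := by decide
theorem eJ_range : ∀ i : chevG2.Idx, InJ i = true → i ∈ Set.range eJ := by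
  have h1 : ∀ i : Fin 2, InJ (Sum.inl i) = true → ∃ j, eJ j = (Sum.inl i : Fin 2 ⊕ Fin 12) := by decide
  have h2 : ∀ i : Fin 12, InJ (Sum.inr i) = true → ∃ j, eJ j = (Sum.inr i : Fin 2 ⊕ Fin 12) := by decide
  rintro (i | i) hi
  · exact h1 i hi
  · exact h2 i hi

theorem eQ_range : ∀ i : chevG2.Idx, InJ i = false → i ∈ Set.range eQ := by
  have h1 : ∀ i : Fin 2, InJ (Sum.inl i) = false → ∃ j, eQ j = (Sum.inl i : Fin 2 ⊕ Fin 12) := by decide
  have h2 : ∀ i : Fin 12, InJ (Sum.inr i) = false → ∃ j, eQ j = (Sum.inr i : Fin 2 ⊕ Fin 12) := by decide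
  rintro (i | i) hi
  · exact h1 i hi
  · exact h2 i hi

theorem entry_of_submatrix_one {ι : Type*} [DecidableEq ι] {R : Type*} [CommRing R] {n : Type*} [DecidableEq n]
    (e : n → ι) (he : Function.Injective e) (M : Matrix ι ι R) (h : M.submatrix e e = 1) (a b : n) :
    M (e a) (e b) = (1 : Matrix ι ι R) (e a) (e b) := by
  have h1 := congrFun (congrFun h a) b
  rw [Matrix.submatrix_apply] at h1
  rw [h1, Matrix.one_apply, Matrix.one_apply]
  simp [he.eq_iff]

variable [Fintype K]

/-- the action on the ideal -/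
noncomputable def rhoJ (h3 : (3 : K) = 0) : ↥(chevG2.group K) →* GL (Fin 7) K :=
  MonoidHom.toHomUnits
    { toFun := fun g => ((g : GL chevG2.Idx K) : Matrix chevG2.Idx chevG2.Idx K).submatrix eJ eJ
      map_one' := Matrix.submatrix_one eJ eJ_inj
      map_mul' := fun g h => BT.submatrix_true eJ eJ_inj eJ_range eJ_true _ _ (BT_group h3 h h.2) }

/-- the action on the quotient by the ideal -/
noncomputable def rhoQ (h3 : (3 : K) = 0) : ↥(chevG2.group K) →* GL (Fin 7) K :=
  MonoidHom.toHomUnits
    { toFun := fun g => ((g : GL chevG2.Idx K) : Matrix chevG2.Idx chevG2.Idx K).submatrix eQ eQ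
      map_one' := Matrix.submatrix_one eQ eQ_inj
      map_mul' := fun g h => BT.submatrix_false eQ eQ_inj eQ_range eQ_false _ _ (BT_group h3 g g.2) }

theorem rhoJ_val (h3 : (3 : K) = 0) (g : ↥(chevG2.group K)) :
    ((rhoJ h3 g : GL (Fin 7) K) : Matrix (Fin 7) (Fin 7) K) =
      ((g : GL chevG2.Idx K) : Matrix chevG2.Idx chevG2.Idx K).submatrix eJ eJ := rfl

theorem rhoQ_val (h3 : (3 : K) = 0) (g : ↥(chevG2.group K)) :
    ((rhoQ h3 g : GL (Fin 7) K) : Matrix (Fin 7) (Fin 7) K) =
      ((g : GL chevG2.Idx K) : Matrix chevG2.Idx chevG2.Idx K).submatrix eQ eQ := rfl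

theorem blocks_one (h3 : (3 : K) = 0) (g : ↥(chevG2.group K)) (h1 : rhoJ h3 g = 1) (h2 : rhoQ h3 g = 1)
    (i j : chevG2.Idx) (hij : InJ i = InJ j) :
    ((g : GL chevG2.Idx K) : Matrix chevG2.Idx chevG2.Idx K) i j = (1 : Matrix chevG2.Idx chevG2.Idx K) i j := by
  cases hi : InJ i
  · obtain ⟨a, rfl⟩ := eQ_range i hi
    obtain ⟨b, rfl⟩ := eQ_range j (by rw [← hij, hi])
    apply entry_of_submatrix_one eQ eQ_inj
    have h := rhoQ_val h3 g
    rw [h2] at h
    exact h.symm
  · obtain ⟨a, rfl⟩ := eJ_range i hi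
    obtain ⟨b, rfl⟩ := eJ_range j (by rw [← hij, hi])
    apply entry_of_submatrix_one eJ eJ_inj
    have h := rhoJ_val h3 g
    rw [h1] at h
    exact h.symm

/-- **the Ree groups have a faithful 7-dimensional module over `K`** -/
theorem exists_faithful7 [CharP K 3] (m : ℕ) (hm : 1 ≤ m) (hK : Fintype.card K = 3 ^ (2 * m + 1)) :
    ∃ ρ : ↥(twistedG2 K (3 ^ m)) →* GL (Fin 7) K, Function.Injective ρ := by
  have h3 : (3 : K) = 0 := by
    have := CharP.cast_eq_zero K 3
    exact_mod_cast this
  obtain ⟨hsimple, hnc⟩ := tw_simple_G2 m hK hm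
  by_contra hcon
  push Not at hcon
  have hker : ∀ ρ : ↥(twistedG2 K (3 ^ m)) →* GL (Fin 7) K, ∀ g, ρ g = 1 := by
    intro ρ g
    rcases (MonoidHom.normal_ker ρ).eq_bot_or_eq_top with h | h
    · exact absurd ((MonoidHom.ker_eq_bot_iff ρ).mp h) (hcon ρ)
    · have : g ∈ ρ.ker := by rw [h]; trivial
      exact this
  apply hnc
  refine ⟨⟨fun g h => ?_⟩⟩
  apply Subtype.ext
  apply Units.ext
  rw [Subgroup.coe_mul, Subgroup.coe_mul, Units.val_mul, Units.val_mul]
  have hg := twistedG2_le_group m hK g.2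
  have hh := twistedG2_le_group m hK h.2
  have e1 := hker ((rhoJ h3).comp (Subgroup.inclusion (twistedG2_le_group m hK)))
  have e2 := hker ((rhoQ h3).comp (Subgroup.inclusion (twistedG2_le_group m hK)))
  exact BT.commute_of_blocks (BT_group h3 _ hg) (BT_group h3 _ hh)
    (blocks_one h3 ⟨g.1, hg⟩ (e1 g) (e2 g)) (blocks_one h3 ⟨h.1, hh⟩ (e1 h) (e2 h))

end Cfsg.Agent.Lib.H12.ReeR
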