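import Mathlib

/-!
# Centralisers of cyclic tori: generic group-theoretic lemmas (helper12)
-/

set_option autoImplicit false
set_option linter.unusedSectionVars false
set_option linter.unusedSimpArgs false
set_option linter.unusedVariables false

namespace Cfsg.Agent.Lib.H12.ReeT

variable {G : Type*} [Group G]

/-- an element of prime order `r` is conjugate into a subgroup of index prime to `r` -/
theorem exists_conj_mem_of_prime [Finite G] (S : Subgroup G) (y : G) (r : ℕ) [Fact r.Prime]
    (hy : y ^ r = 1) (hr : ¬ r ∣ S.index) : ∃ g : G, g⁻¹ * y * g ∈ S := by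
  have hP : IsPGroup r (Subgroup.zpowers y) := by
    rintro ⟨k, hk⟩
    refine ⟨1, ?_⟩
    obtain ⟨j, rfl⟩ := Subgroup.mem_zpowers_iff.mp hk
    apply Subtype.ext
    rw [pow_one, Subgroup.coe_pow, Subgroup.coe_one]
    show (y ^ j) ^ r = 1
    rw [← zpow_natCast, ← zpow_mul, mul_comm, zpow_mul, zpow_natCast, hy, one_zpow]
  have hne := hP.nonempty_fixed_point_of_prime_not_dvd_card (G ⧸ S) (by rwa [← Subgroup.index] )
  obtain ⟨q, hq⟩ := hne
  obtain ⟨g, rfl⟩ := QuotientGroup.mk_surjective q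
  refine ⟨g, ?_⟩
  have h1 := hq ⟨y, Subgroup.mem_zpowers y⟩
  have h2 : ((y * g : G) : G ⧸ S) = (g : G ⧸ S) := h1
  rw [QuotientGroup.eq] at h2
  have h3 := S.inv_mem h2
  have e : ((y * g)⁻¹ * g)⁻¹ = g⁻¹ * y * g := by group
  rwa [e] at h3

/-- the centraliser of a conjugate -/
theorem centralizer_conj (y g : G) (S : Subgroup G) (h : Subgroup.centralizer {g⁻¹ * y * g} = S) :
    Subgroup.centralizer {y} = S.map (MulAut.conj g).toMonoidHom := by
  ext x
  rw [Subgroup.mem_centralizer_singleton_iff, Subgroup.mem_map]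
  constructor
  · intro hx
    refine ⟨g⁻¹ * x * g, ?_, ?_⟩
    · rw [← h, Subgroup.mem_centralizer_singleton_iff]
      calc g⁻¹ * x * g * (g⁻¹ * y * g) = g⁻¹ * (x * y) * g := by group
        _ = g⁻¹ * (y * x) * g := by rw [hx]
        _ = _ := by group
    · show g * (g⁻¹ * x * g) * g⁻¹ = x
      group
  · rintro ⟨w, hw, rfl⟩
    rw [← h, Subgroup.mem_centralizer_singleton_iff] at hw
    show g * w * g⁻¹ * y = y * (g * w * g⁻¹)
    calc g * w * g⁻¹ * y = g * (w * (g⁻¹ * y * g)) * g⁻¹ := by group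
      _ = g * ((g⁻¹ * y * g) * w) * g⁻¹ := by rw [hw]
      _ = _ := by group

/-- the pattern: if the centraliser of every non-trivial element of order dividing `N` is commutative
of a fixed order, then cyclic subgroups of order `N` and their non-trivial subgroups have the same
centraliser -/
theorem centralizer_pattern [Finite G] (N c : ℕ)
    (hP : ∀ y : G, y ≠ 1 → y ^ N = 1 → Nat.card (Subgroup.centralizer {y}) = c ∧
      ∀ u ∈ Subgroup.centralizer {y}, ∀ v ∈ Subgroup.centralizer {y}, u * v = v * u)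
    (H : Subgroup G) (hH : IsCyclic H) (hcard : Nat.card H = N) (hN : 1 < N) :
    ∃ y : G, y ≠ 1 ∧ y ^ N = 1 ∧ Subgroup.centralizer (H : Set G) = Subgroup.centralizer {y} ∧
      ∀ A : Subgroup G, A ≤ H → A ≠ ⊥ → Subgroup.centralizer (A : Set G) = Subgroup.centralizer (H : Set G) := by
  obtain ⟨⟨y, hyH⟩, hgen⟩ := hH.exists_generator
  have hHy : ∀ w ∈ H, w ∈ Subgroup.zpowers y := by
    intro w hw
    obtain ⟨k, hk⟩ := Subgroup.mem_zpowers_iff.mp (hgen ⟨w, hw⟩)
    exact Subgroup.mem_zpowers_iff.mpr ⟨k, by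
      have := congrArg Subtype.val hk
      simpa using this⟩
  have hpowH : ∀ w ∈ H, w ^ N = 1 := by
    intro w hw
    have : (⟨w, hw⟩ : H) ^ Nat.card H = 1 := pow_card_eq_one'
    rw [hcard] at this
    have := congrArg Subtype.val this
    simpa using this
  have hy1 : y ≠ 1 := by
    rintro rfl
    have hbot : H = ⊥ := by
      rw [eq_bot_iff]
      intro w hw
      have := hHy w hw
      rw [Subgroup.zpowers_one_eq_bot] at this
      exact this
    rw [hbot, Subgroup.card_bot] at hcard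
    omega
  have hHcomm : ∀ u ∈ H, ∀ v ∈ H, u * v = v * u := by
    intro u hu v hv
    obtain ⟨i, rfl⟩ := Subgroup.mem_zpowers_iff.mp (hHy u hu)
    obtain ⟨j, rfl⟩ := Subgroup.mem_zpowers_iff.mp (hHy v hv)
    rw [← zpow_add, ← zpow_add, add_comm]
  have hcentH : Subgroup.centralizer (H : Set G) = Subgroup.centralizer {y} := by
    apply le_antisymm
    · exact Subgroup.centralizer_le (Set.singleton_subset_iff.mpr hyH)
    · intro x hx
      rw [Subgroup.mem_centralizer_singleton_iff] at hx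
      rw [Subgroup.mem_centralizer_iff]
      intro w hw
      obtain ⟨k, rfl⟩ := Subgroup.mem_zpowers_iff.mp (hHy w hw)
      exact ((Commute.zpow_left (show Commute y x from hx.symm) k)).eq
  refine ⟨y, hy1, hpowH y hyH, hcentH, ?_⟩
  intro A hA hAne
  obtain ⟨y₁, hy₁ne⟩ := (Subgroup.ne_bot_iff_exists_ne_one.mp hAne)
  have hy₁ : (y₁ : G) ≠ 1 := fun h => hy₁ne (Subtype.ext h)
  have hy₁H : (y₁ : G) ∈ H := hA y₁.2
  obtain ⟨hc1, hcomm1⟩ := hP y₁ hy₁ (hpowH _ hy₁H)
  obtain ⟨hc0, hcomm0⟩ := hP y hy1 (hpowH y hyH)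
  -- `C(y₁) ≤ C(y)` since `C(y₁)` is commutative and contains `y`
  have hyin : y ∈ Subgroup.centralizer {(y₁ : G)} := by
    rw [Subgroup.mem_centralizer_singleton_iff]
    exact hHcomm y hyH y₁ hy₁H
  have hle : Subgroup.centralizer {(y₁ : G)} ≤ Subgroup.centralizer {y} := by
    intro x hx
    rw [Subgroup.mem_centralizer_singleton_iff]
    exact hcomm1 x hx y hyin
  have heq : Subgroup.centralizer {(y₁ : G)} = Subgroup.centralizer {y} := by
    apply Subgroup.eq_of_le_of_card_ge hle
    rw [hc1, hc0]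
  apply le_antisymm
  · rw [hcentH, ← heq]
    exact Subgroup.centralizer_le (Set.singleton_subset_iff.mpr y₁.2)
  · exact Subgroup.centralizer_le hA

end Cfsg.Agent.Lib.H12.ReeT
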