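import Cfsg.Agent.Lib.H12.ReeC1
import Cfsg.Agent.Lib.H12.ReeT1

/-!
# Centralisers of the split torus of a Ree group (helper12)
-/

set_option autoImplicit false
set_option linter.unusedSectionVars false
set_option linter.unusedSimpArgs false
set_option linter.unusedVariables false

namespace Cfsg.Agent.Lib.H12.ReeC

open Cfsg.Agent.Lib.H12.ReeT

namespace RSys

variable {G K : Type*} [Group G] [Field K] (R : RSys G K)

/-- the split torus -/
def Hs : Subgroup G := R.h.range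

theorem h_mem_Hs (z : Kˣ) : R.h z ∈ R.Hs := ⟨z, rfl⟩

theorem Hs_comm (u v : G) (hu : u ∈ R.Hs) (hv : v ∈ R.Hs) : u * v = v * u := by
  obtain ⟨z, rfl⟩ := hu
  obtain ⟨z', rfl⟩ := hv
  rw [← map_mul, ← map_mul, mul_comm]

/-- the two arithmetic facts on the characters of the torus -/
structure TorusFacts : Prop where
  f1 : ∀ z : Kˣ, R.σ z * z = 1 → z * z = 1
  f2 : ∀ z : Kˣ, R.σ z * (z : K) ^ 2 = 1 → z = 1

/-- the centraliser of an element of the torus whose square is not 1 -/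
theorem centralizer_h (hF : R.TorusFacts) (z : Kˣ) (hz : z * z ≠ 1) :
    Subgroup.centralizer {R.h z} = R.Hs := by
  apply le_antisymm
  · intro g hg
    rw [Subgroup.mem_centralizer_singleton_iff] at hg
    have hg' : R.h z * g * (R.h z)⁻¹ = g := by rw [← hg]; group
    have hz1 : z ≠ 1 := by
      rintro rfl
      exact hz (mul_one 1)
    rcases R.bruhat g with ⟨t, u, v, z', rfl⟩ | ⟨t, u, v, z', t', u', v', rfl⟩
    · have hcomm : R.h z' * (R.h z)⁻¹ = (R.h z)⁻¹ * R.h z' := by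
        rw [← map_inv, ← map_mul, ← map_mul, mul_comm]
      have e : R.h z * (R.x t u v * R.h z') * (R.h z)⁻¹ = (R.h z * R.x t u v * (R.h z)⁻¹) * R.h z' := by
        calc R.h z * (R.x t u v * R.h z') * (R.h z)⁻¹ = R.h z * R.x t u v * (R.h z' * (R.h z)⁻¹) := by group
          _ = R.h z * R.x t u v * ((R.h z)⁻¹ * R.h z') := by rw [hcomm]
          _ = _ := by group
      rw [e, R.h_conj] at hg'
      obtain ⟨h1, -⟩ := R.cellB_inj _ _ (R.x_mem_U _ _ _) (R.x_mem_U _ _ _) _ _ hg'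
      obtain ⟨e1, e2, e3⟩ := R.x_inj _ _ _ _ _ _ h1
      have ht : t = 0 := by
        by_contra ht
        apply hz1
        apply Units.ext
        have : (z : K) * t = 1 * t := by rw [e1, one_mul]
        exact mul_right_cancel₀ ht this
      have hu : u = 0 := by
        by_contra hu
        apply hz
        apply hF.f1
        have : R.σ z * z * u = 1 * u := by rw [e2, one_mul]
        exact mul_right_cancel₀ hu this
      have hv : v = 0 := by
        by_contra hv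
        apply hz1
        apply hF.f2
        have : R.σ z * (z : K) ^ 2 * v = 1 * v := by rw [e3, one_mul]
        exact mul_right_cancel₀ hv this
      rw [ht, hu, hv, R.x_zero, one_mul]
      exact R.h_mem_Hs z'
    · exfalso
      have e : R.h z * (R.x t u v * (R.n * R.h z') * R.x t' u' v') * (R.h z)⁻¹ =
          (R.h z * R.x t u v * (R.h z)⁻¹) * (R.n * R.h (z⁻¹ * z' * z⁻¹)) *
            (R.h z * R.x t' u' v' * (R.h z)⁻¹) := by
        calc R.h z * (R.x t u v * (R.n * R.h z') * R.x t' u' v') * (R.h z)⁻¹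
            = (R.h z * R.x t u v * (R.h z)⁻¹) * ((R.h z * R.n) * R.h z' * (R.h z)⁻¹) *
                (R.h z * R.x t' u' v' * (R.h z)⁻¹) := by group
          _ = _ := by
            rw [R.h_mul_n, map_mul, map_mul, map_inv]
            group
      rw [e] at hg'
      obtain ⟨-, h2, -⟩ := R.cellW_inj _ _ _ _ (R.h_conj_mem_U z _ (R.x_mem_U _ _ _))
        (R.h_conj_mem_U z _ (R.x_mem_U _ _ _)) (R.x_mem_U _ _ _) (R.x_mem_U _ _ _) _ _ hg'
      apply hz
      have h3 : z' * (z⁻¹ * z⁻¹) = z' := by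
        rw [← mul_assoc, mul_comm z' z⁻¹]; exact h2
      have h4 : z⁻¹ * z⁻¹ = 1 := mul_eq_left.mp h3
      rw [← inv_eq_one, mul_inv]; exact h4
  · intro g hg
    rw [Subgroup.mem_centralizer_singleton_iff]
    exact R.Hs_comm g (R.h z) hg (R.h_mem_Hs z)

theorem odd_pow_sq {w : G} {N : ℕ} (hN : Odd N) (h2 : w * w = 1) (hw : w ^ N = 1) : w = 1 := by
  obtain ⟨j, rfl⟩ := hN
  rw [pow_succ, pow_mul, pow_two, h2, one_pow, one_mul] at hw
  exact hw

theorem conj_pow' (g y : G) (N : ℕ) : (g⁻¹ * y * g) ^ N = g⁻¹ * y ^ N * g := by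
  have := conj_pow (a := g⁻¹) (b := y) (i := N)
  rw [inv_inv] at this
  exact this

/-- an element `h(z)` conjugate to a non-trivial element of odd order has `z² ≠ 1` -/
theorem sq_ne_one_of_conj {N : ℕ} (hN : Odd N) (g y : G) (hy1 : y ≠ 1) (hy : y ^ N = 1) (z : Kˣ)
    (hz : R.h z = g⁻¹ * y * g) : z * z ≠ 1 := by
  intro h
  apply hy1
  have h2 : (g⁻¹ * y * g) * (g⁻¹ * y * g) = 1 := by rw [← hz, ← map_mul, h, map_one]
  have hw : (g⁻¹ * y * g) ^ N = 1 := by rw [conj_pow', hy]; group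
  have h1 := odd_pow_sq hN h2 hw
  calc y = g * (g⁻¹ * y * g) * g⁻¹ := by group
    _ = 1 := by rw [h1]; group

variable [Fintype K] [Finite G]

theorem card_Hs : Nat.card R.Hs = Fintype.card K - 1 := by
  classical
  unfold Hs
  rw [← Nat.card_congr (MonoidHom.ofInjective R.h_inj).toEquiv, Nat.card_eq_fintype_card, Fintype.card_units]

theorem index_Hs (q : ℕ) (hq : Fintype.card K = q) (hcard : Nat.card G = q ^ 3 * (q - 1) * (q ^ 3 + 1))
    (hq1 : 1 < q) : R.Hs.index = q ^ 3 * (q ^ 3 + 1) := by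
  have h := R.Hs.index_mul_card
  rw [R.card_Hs, hq, hcard] at h
  have : R.Hs.index * (q - 1) = (q ^ 3 * (q ^ 3 + 1)) * (q - 1) := by rw [h]; ring
  exact Nat.eq_of_mul_eq_mul_right (by omega) this

theorem not_dvd_index_aux (q r : ℕ) (hr : r.Prime) (hr2 : r ≠ 2) (hrq : r ∣ q - 1) (hq1 : 1 < q) :
    ¬ r ∣ q ^ 3 * (q ^ 3 + 1) := by
  intro h
  rcases (Nat.Prime.dvd_mul hr).mp h with h | h
  · have h1 := hr.dvd_of_dvd_pow h
    have h2 : r ∣ q - (q - 1) := Nat.dvd_sub h1 hrq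
    have e : q - (q - 1) = 1 := by omega
    rw [e] at h2
    exact hr.one_lt.ne' (Nat.dvd_one.mp h2)
  · obtain ⟨p, rfl⟩ : ∃ p, q = p + 1 := ⟨q - 1, by omega⟩
    have e : (p + 1) ^ 3 + 1 = p * ((p + 1) ^ 2 + (p + 1) + 1) + 2 := by ring
    rw [e] at h
    have hp : r ∣ p := by simpa using hrq
    have h2 : r ∣ 2 := (Nat.dvd_add_right (dvd_mul_of_dvd_left hp _)).mp h
    exact hr2 ((Nat.prime_dvd_prime_iff_eq hr Nat.prime_two).mp h2)

/-- **the centraliser of a non-trivial element of order dividing `(q-1)/2`** is a conjugate of the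
split torus -/
theorem centralizer_of_pow_half (hF : R.TorusFacts) (q : ℕ) (hq : Fintype.card K = q)
    (hcard : Nat.card G = q ^ 3 * (q - 1) * (q ^ 3 + 1)) (hq4 : q % 4 = 3)
    (y : G) (hy1 : y ≠ 1) (hy : y ^ ((q - 1) / 2) = 1) :
    ∃ g : G, Subgroup.centralizer {y} = R.Hs.map (MulAut.conj g).toMonoidHom := by
  have hq1 : 1 < q := by omega
  have hNodd : Odd ((q - 1) / 2) := by
    obtain ⟨j, hj⟩ : ∃ j, q = 4 * j + 3 := ⟨q / 4, by omega⟩
    exact ⟨j, by omega⟩
  have hord : orderOf y ∣ (q - 1) / 2 := orderOf_dvd_of_pow_eq_one hy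
  have hord1 : orderOf y ≠ 1 := by rwa [Ne, orderOf_eq_one_iff]
  have hopos : 0 < orderOf y := orderOf_pos y
  set r := (orderOf y).minFac with hrdef
  have hr : r.Prime := Nat.minFac_prime hord1
  have hrdvd : r ∣ orderOf y := Nat.minFac_dvd _
  have : Fact r.Prime := ⟨hr⟩
  have hy₀r : (y ^ (orderOf y / r)) ^ r = 1 := by
    rw [← pow_mul, Nat.div_mul_cancel hrdvd, pow_orderOf_eq_one]
  have hy₀1 : y ^ (orderOf y / r) ≠ 1 := by
    intro h
    have h1 := orderOf_dvd_of_pow_eq_one h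
    have h2 : orderOf y / r < orderOf y := Nat.div_lt_self hopos hr.one_lt
    have h3 : 0 < orderOf y / r := Nat.div_pos (Nat.le_of_dvd hopos hrdvd) hr.pos
    exact absurd (Nat.le_of_dvd h3 h1) (by omega)
  have hy₀N : (y ^ (orderOf y / r)) ^ ((q - 1) / 2) = 1 := by
    rw [← pow_mul, mul_comm, pow_mul, hy, one_pow]
  have hrN : r ∣ (q - 1) / 2 := dvd_trans hrdvd hord
  have hr2 : r ≠ 2 := by
    intro h
    rw [h] at hrN
    exact (Nat.not_even_iff_odd.mpr hNodd) (even_iff_two_dvd.mpr hrN)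
  have hrq : r ∣ q - 1 := dvd_trans hrN (Nat.div_dvd_of_dvd (by omega))
  have hidx : ¬ r ∣ R.Hs.index := by
    rw [R.index_Hs q hq hcard hq1]
    exact not_dvd_index_aux q r hr hr2 hrq hq1
  obtain ⟨g, hg⟩ := exists_conj_mem_of_prime R.Hs (y ^ (orderOf y / r)) r hy₀r hidx
  obtain ⟨z, hz⟩ := hg
  have hzz := R.sq_ne_one_of_conj hNodd g _ hy₀1 hy₀N z hz
  have hc0 : Subgroup.centralizer {g⁻¹ * y ^ (orderOf y / r) * g} = R.Hs := by
    rw [← hz]; exact R.centralizer_h hF z hzz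
  have hc1 := centralizer_conj _ g _ hc0
  have hyin : y ∈ Subgroup.centralizer {y ^ (orderOf y / r)} := by
    rw [Subgroup.mem_centralizer_singleton_iff, ← pow_succ, ← pow_succ']
  rw [hc1] at hyin
  obtain ⟨w, ⟨z', rfl⟩, hw⟩ := Subgroup.mem_map.mp hyin
  have hz' : R.h z' = g⁻¹ * y * g := by
    rw [← hw]
    show R.h z' = g⁻¹ * (g * R.h z' * g⁻¹) * g
    group
  have hzz' := R.sq_ne_one_of_conj hNodd g y hy1 hy z' hz'
  have hc2 : Subgroup.centralizer {g⁻¹ * y * g} = R.Hs := by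
    rw [← hz']; exact R.centralizer_h hF z' hzz'
  exact ⟨g, centralizer_conj _ g _ hc2⟩

theorem isCyclic_Hs_map (g : G) : IsCyclic (R.Hs.map (MulAut.conj g).toMonoidHom : Subgroup G) := by
  classical
  unfold Hs
  rw [MonoidHom.map_range]
  exact isCyclic_of_surjective _ ((MulAut.conj g).toMonoidHom.comp R.h).rangeRestrict_surjective

theorem card_Hs_map (g : G) : Nat.card (R.Hs.map (MulAut.conj g).toMonoidHom : Subgroup G) = Fintype.card K - 1 := by
  rw [Subgroup.card_map_of_injective (MulAut.conj g).injective, R.card_Hs]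

theorem Hs_map_comm (g : G) (u v : G) (hu : u ∈ R.Hs.map (MulAut.conj g).toMonoidHom)
    (hv : v ∈ R.Hs.map (MulAut.conj g).toMonoidHom) : u * v = v * u := by
  obtain ⟨u', hu', rfl⟩ := Subgroup.mem_map.mp hu
  obtain ⟨v', hv', rfl⟩ := Subgroup.mem_map.mp hv
  rw [← map_mul, ← map_mul, R.Hs_comm u' v' hu' hv']

/-- **Part A**: cyclic subgroups of order `(q-1)/2` -/
theorem split_torus_centralizer (hF : R.TorusFacts) (q : ℕ) (hq : Fintype.card K = q)
    (hcard : Nat.card G = q ^ 3 * (q - 1) * (q ^ 3 + 1)) (hq4 : q % 4 = 3) (hq7 : 7 ≤ q)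
    (H : Subgroup G) (hH : IsCyclic H) (hHc : Nat.card H = (q - 1) / 2) :
    IsCyclic (Subgroup.centralizer (H : Set G)) ∧ Nat.card (Subgroup.centralizer (H : Set G)) = q - 1 ∧
      ∀ A : Subgroup G, A ≤ H → A ≠ ⊥ →
        Subgroup.centralizer (A : Set G) = Subgroup.centralizer (H : Set G) := by
  have hP : ∀ y : G, y ≠ 1 → y ^ ((q - 1) / 2) = 1 → Nat.card (Subgroup.centralizer {y}) = q - 1 ∧
      ∀ u ∈ Subgroup.centralizer {y}, ∀ v ∈ Subgroup.centralizer {y}, u * v = v * u := by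
    intro y hy1 hy
    obtain ⟨g, hg⟩ := R.centralizer_of_pow_half hF q hq hcard hq4 y hy1 hy
    rw [hg]
    exact ⟨by rw [R.card_Hs_map, hq], fun u hu v hv => R.Hs_map_comm g u v hu hv⟩
  obtain ⟨y, hy1, hyN, hcent, hA⟩ := centralizer_pattern ((q - 1) / 2) (q - 1) hP H hH hHc (by omega)
  obtain ⟨g, hg⟩ := R.centralizer_of_pow_half hF q hq hcard hq4 y hy1 hyN
  refine ⟨?_, ?_, hA⟩
  · rw [hcent, hg]; exact R.isCyclic_Hs_map g
  · rw [hcent, hg, R.card_Hs_map, hq]

end RSys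

end Cfsg.Agent.Lib.H12.ReeC
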