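import Mathlib
import Cfsg.Agent.Lib.H9.CoprimeGeneration

/-!
# A group with an abelian subgroup `M` of order `4·odd` containing a four-group whose involutions all
have centraliser `M` is equal to `M` (under hypotheses) (helper12)

Burnside's transfer theorem and generation by centralisers of a coprime action of a four-group.
-/

set_option autoImplicit false
set_option linter.unusedSectionVars false
set_option linter.unusedSimpArgs false
set_option linter.unusedVariables false

namespace Cfsg.Agent.Lib.H12.ReeT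

open Cfsg.Agent.Lib.H1

variable {Γ : Type*} [Group Γ]

/-- the elements of exponent 2 of a commutative subgroup -/
def twoTorsion (M : Subgroup Γ) (hMcomm : ∀ u ∈ M, ∀ v ∈ M, u * v = v * u) : Subgroup Γ where
  carrier := {v | v ∈ M ∧ v * v = 1}
  mul_mem' := by
    rintro u v ⟨hu, hu2⟩ ⟨hv, hv2⟩
    refine ⟨mul_mem hu hv, ?_⟩
    calc u * v * (u * v) = u * (v * u) * v := by group
      _ = u * (u * v) * v := by rw [hMcomm v hv u hu]
      _ = (u * u) * (v * v) := by group
      _ = 1 := by rw [hu2, hv2, mul_one]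
  one_mem' := ⟨one_mem _, mul_one 1⟩
  inv_mem' := by
    rintro u ⟨hu, hu2⟩
    refine ⟨inv_mem hu, ?_⟩
    rw [← mul_inv_rev, hu2, inv_one]

theorem mem_twoTorsion (M : Subgroup Γ) (hMcomm : ∀ u ∈ M, ∀ v ∈ M, u * v = v * u) (v : Γ) :
    v ∈ twoTorsion M hMcomm ↔ v ∈ M ∧ v * v = 1 := Iff.rfl

theorem pow_two_dvd_four_mul_odd (j e' : ℕ) (he' : Odd e') (h : 2 ^ j ∣ 4 * e') : j ≤ 2 := by
  by_contra hj
  have h3 : 2 ^ 3 ∣ 4 * e' := dvd_trans (pow_dvd_pow 2 (by omega)) h
  obtain ⟨c, hc⟩ := h3
  obtain ⟨i, rfl⟩ := he'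
  omega

variable [Finite Γ]

theorem eq_top_of_klein_centralizers (M : Subgroup Γ)
    (hMcomm : ∀ u ∈ M, ∀ v ∈ M, u * v = v * u)
    (e' : ℕ) (hM : Nat.card M = 4 * e') (he' : Odd e')
    (a t : Γ) (haM : a ∈ M) (htM : t ∈ M) (ha1 : a ≠ 1) (ht1 : t ≠ 1) (hat : a ≠ t)
    (ha2 : a * a = 1) (ht2 : t * t = 1)
    (hcent : ∀ v ∈ M, v ≠ 1 → v * v = 1 → Subgroup.centralizer {v} ≤ M)
    (h2ab : ∀ Q : Subgroup Γ, IsPGroup 2 Q → ∀ u ∈ Q, ∀ v ∈ Q, u * v = v * u)
    (hno3 : ∀ s : Γ, s ^ 3 = 1 → s = 1) : M = ⊤ := by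
  classical
  set V := twoTorsion M hMcomm with hVdef
  have hVM : V ≤ M := fun v hv => hv.1
  have haV : a ∈ V := ⟨haM, ha2⟩
  have htV : t ∈ V := ⟨htM, ht2⟩
  have hVp : IsPGroup 2 V := by
    intro v
    refine ⟨1, ?_⟩
    apply Subtype.ext
    rw [pow_one, pow_two, Subgroup.coe_mul, Subgroup.coe_one]
    exact v.2.2
  -- `|V| = 4`
  have hV4 : Nat.card V = 4 := by
    obtain ⟨j, hj⟩ := hVp.exists_card_eq
    have hdvd : 2 ^ j ∣ 4 * e' := by
      rw [← hj, ← hM]; exact Subgroup.card_dvd_of_le hVM
    have hj2 := pow_two_dvd_four_mul_odd j e' he' hdvd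
    have hza : Subgroup.zpowers a ≤ V := by rw [Subgroup.zpowers_le]; exact haV
    have hoa : orderOf a = 2 := orderOf_eq_prime (by rw [pow_two]; exact ha2) ha1
    have hcz : Nat.card (Subgroup.zpowers a) = 2 := by rw [Nat.card_zpowers, hoa]
    have h2dvd : 2 ∣ 2 ^ j := by rw [← hj, ← hcz]; exact Subgroup.card_dvd_of_le hza
    have hj0 : j ≠ 0 := by
      rintro rfl
      simp at h2dvd
    have hj1 : j ≠ 1 := by
      rintro rfl
      rw [pow_one] at hj
      have hEq : Subgroup.zpowers a = V := Subgroup.eq_of_le_of_card_ge hza (by rw [hj, hcz])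
      have : t ∈ Subgroup.zpowers a := by rw [hEq]; exact htV
      obtain ⟨k, hk⟩ := Subgroup.mem_zpowers_iff.mp this
      rcases Int.even_or_odd k with ⟨i, hi⟩ | ⟨i, hi⟩
      · apply ht1
        rw [← hk, hi, ← two_mul, zpow_mul, zpow_ofNat, pow_two, ha2, one_zpow]
      · apply hat
        rw [← hk, hi, zpow_add, zpow_one, zpow_mul, zpow_ofNat, pow_two, ha2, one_zpow, one_mul]
    have : j = 2 := by omega
    rw [hj, this]; norm_num
  -- `V` is a Sylow 2-subgroup
  obtain ⟨P, hP⟩ := hVp.exists_le_sylow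
  have hPcomm : ∀ u ∈ (P : Subgroup Γ), ∀ v ∈ (P : Subgroup Γ), u * v = v * u := h2ab _ P.isPGroup'
  have hPM : (P : Subgroup Γ) ≤ M := by
    intro p hp
    apply hcent a haM ha1 ha2
    rw [Subgroup.mem_centralizer_singleton_iff]
    exact hPcomm p hp a (hP haV)
  have hPV : V = (P : Subgroup Γ) := by
    apply Subgroup.eq_of_le_of_card_ge hP
    obtain ⟨j, hj⟩ := P.isPGroup'.exists_card_eq
    have hdvd : 2 ^ j ∣ 4 * e' := by
      rw [← hj, ← hM]; exact Subgroup.card_dvd_of_le hPM
    have hj2 := pow_two_dvd_four_mul_odd j e' he' hdvd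
    rw [hj, hV4]
    calc 2 ^ j ≤ 2 ^ 2 := Nat.pow_le_pow_right (by norm_num) hj2
      _ = 4 := by norm_num
  have hP4 : Nat.card (P : Subgroup Γ) = 4 := by rw [← hPV, hV4]
  -- `8 ∤ |Γ|`
  have h8 : ¬ 8 ∣ Nat.card Γ := by
    intro h
    have h1 := P.card_eq_multiplicity
    rw [hP4] at h1
    have h2 : 2 ^ 3 ∣ Nat.card Γ := by norm_num; exact h
    have h3 := (Nat.Prime.pow_dvd_iff_le_factorization Nat.prime_two (Nat.card_pos.ne')).mp h2
    have h4 : 2 ^ 3 ≤ 2 ^ (Nat.card Γ).factorization 2 := Nat.pow_le_pow_right (by norm_num) h3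
    omega
  -- the centraliser of `V` is `M`
  have hcentV : Subgroup.centralizer (V : Set Γ) = M := by
    apply le_antisymm
    · intro g hg
      apply hcent a haM ha1 ha2
      rw [Subgroup.mem_centralizer_singleton_iff]
      exact (Subgroup.mem_centralizer_iff.mp hg a haV).symm
    · intro g hg
      rw [Subgroup.mem_centralizer_iff]
      intro v hv
      exact hMcomm v (hVM hv) g hg
  -- `N(V) ≤ C(V)`
  have hNC : Subgroup.normalizer (V : Set Γ) ≤ Subgroup.centralizer (V : Set Γ) := by
    have key := Subgroup.card_dvd_of_injective _ (QuotientGroup.kerLift_injective V.normalizerMonoidHom)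
    rw [Subgroup.normalizerMonoidHom_ker, ← Subgroup.index, ← Subgroup.relIndex] at key
    have h24 : Nat.card (MulAut V) ∣ 24 := by
      have h1 := Subgroup.card_dvd_of_injective (MulAut.toPerm V) (fun a b h => by
        ext x
        have := congrArg (fun f : Equiv.Perm V => f x) h
        exact congrArg Subtype.val this)
      rw [Nat.card_perm, hV4] at h1
      exact h1
    set r := (Subgroup.centralizer (V : Set Γ)).relIndex (Subgroup.normalizer (V : Set Γ)) with hr
    have hr24 : r ∣ 24 := dvd_trans key h24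
    have hle : Subgroup.centralizer (V : Set Γ) ≤ Subgroup.normalizer (V : Set Γ) := by
      rw [hcentV]
      intro g hg
      rw [Subgroup.mem_normalizer_iff]
      intro v
      constructor
      · intro hv
        have : g * v * g⁻¹ = v := by rw [hMcomm g hg v (hVM hv)]; group
        rw [this]; exact hv
      · intro hv
        have h1 := hMcomm g⁻¹ (inv_mem hg) (g * v * g⁻¹) (hVM hv)
        have : v = g⁻¹ * (g * v * g⁻¹) * g := by group
        rw [this, h1]
        have : g * v * g⁻¹ * g⁻¹ * g = g * v * g⁻¹ := by group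
        rw [this]; exact hv
    have hmul : Nat.card (Subgroup.centralizer (V : Set Γ)) * r =
        Nat.card (Subgroup.normalizer (V : Set Γ)) := by
      have := Subgroup.relIndex_mul_relIndex ⊥ (Subgroup.centralizer (V : Set Γ))
        (Subgroup.normalizer (V : Set Γ)) bot_le hle
      rwa [Subgroup.relIndex_bot_left, Subgroup.relIndex_bot_left] at this
    rw [hcentV, hM] at hmul
    have hrodd : ¬ 2 ∣ r := by
      rintro ⟨c, hc⟩
      apply h8
      have h1 : Nat.card (Subgroup.normalizer (V : Set Γ)) ∣ Nat.card Γ := Subgroup.card_subgroup_dvd_card _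
      rw [← hmul, hc] at h1
      exact dvd_trans ⟨e' * c, by ring⟩ h1
    have hr3 : r ∣ 3 := by
      have hc8 : Nat.Coprime r 8 := by
        rw [show 8 = 2 ^ 3 by norm_num]
        apply Nat.Coprime.pow_right
        rw [Nat.coprime_comm, Nat.Prime.coprime_iff_not_dvd Nat.prime_two]
        exact hrodd
      have : r ∣ 8 * 3 := by norm_num; exact hr24
      exact hc8.dvd_of_dvd_mul_left this
    have hr1 : r = 1 := by
      rcases (Nat.dvd_prime Nat.prime_three).mp hr3 with h | h
      · exact h
      · exfalso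
        have h3 : 3 ∣ Nat.card (Subgroup.normalizer (V : Set Γ)) := by
          rw [← hmul, h]; exact dvd_mul_left _ _
        haveI : Fact (Nat.Prime 3) := ⟨Nat.prime_three⟩
        obtain ⟨s, hs⟩ := exists_prime_orderOf_dvd_card' 3 h3
        have hs3 : (s : Γ) ^ 3 = 1 := by
          have := pow_orderOf_eq_one s
          rw [hs] at this
          have := congrArg Subtype.val this
          simpa using this
        have hs1 := hno3 _ hs3
        have : s = 1 := Subtype.ext hs1
        rw [this, orderOf_one] at hs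
        omega
    exact Subgroup.relIndex_eq_one.mp hr1
  -- Burnside's transfer theorem
  have hNC' : Subgroup.normalizer ((P : Subgroup Γ) : Set Γ) ≤ Subgroup.centralizer ((P : Subgroup Γ) : Set Γ) := by
    rw [← hPV]; exact hNC
  have hcompl := MonoidHom.ker_transferSylow_isComplement' P hNC'
  set Kc := (MonoidHom.transferSylow P hNC').ker with hKc
  have hcardK : Nat.card Kc * 4 = Nat.card Γ := by
    have := hcompl.card_mul_card
    rwa [hP4] at this
  have hKodd : ¬ 2 ∣ Nat.card Kc := by
    rintro ⟨c, hc⟩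
    apply h8
    rw [← hcardK, hc]
    exact ⟨c, by ring⟩
  -- generation by the centralisers of the involutions
  have hact : CoprimeAction V Kc := by
    refine ⟨?_, ?_, Or.inl ?_⟩
    · rw [Subgroup.normalizer_eq_top]
      exact le_top
    · rw [hV4, show 4 = 2 ^ 2 by norm_num]
      apply Nat.Coprime.pow_left
      rw [Nat.Prime.coprime_iff_not_dvd Nat.prime_two]
      exact hKodd
    · exact isSolvable_of_comm (fun u v => Subtype.ext (hMcomm u.1 (hVM u.2) v.1 (hVM v.2)))
  haveI : Fact (Nat.Prime 2) := ⟨Nat.prime_two⟩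
  have hKM : Kc ≤ M := by
    apply Cfsg.Agent.Lib.H9.le_of_centralizers_le (p := 2) hact
      ((Nat.Prime.coprime_iff_not_dvd Nat.prime_two).mpr hKodd).symm haV htV
      (hMcomm a haM t htM) (by rw [pow_two]; exact ha2) (by rw [pow_two]; exact ht2)
    · exact le_trans inf_le_right (hcent a haM ha1 ha2)
    · intro i
      apply le_trans inf_le_right
      have hai : a ^ i = 1 ∨ a ^ i = a := by
        rcases Nat.even_or_odd i with ⟨k, hk⟩ | ⟨k, hk⟩
        · left
          rw [hk, ← two_mul, pow_mul, pow_two, ha2, one_pow]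
        · right
          rw [hk, pow_succ, pow_mul, pow_two, ha2, one_pow, one_mul]
      rcases hai with h | h
      · rw [h, one_mul]
        exact hcent t htM ht1 ht2
      · rw [h]
        apply hcent (a * t) (mul_mem haM htM)
        · intro h1
          apply hat
          calc a = a * (t * t) := by rw [ht2, mul_one]
            _ = (a * t) * t := by group
            _ = t := by rw [h1, one_mul]
        · calc a * t * (a * t) = a * (t * a) * t := by group
            _ = a * (a * t) * t := by rw [hMcomm t htM a haM]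
            _ = (a * a) * (t * t) := by group
            _ = 1 := by rw [ha2, ht2, mul_one]
  rw [eq_top_iff, ← hcompl.sup_eq_top]
  exact sup_le hKM (by rw [← hPV]; exact hVM)

end Cfsg.Agent.Lib.H12.ReeT
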