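import Cfsg.Agent.Lib.H12.SL2RegCard
import Cfsg.Agent.Lib.H2.PSL2Klein
import Cfsg.Agent.Lib.H2.SLCenterCard

/-!
# Centralisers of elements of order prime to `6 (q - 1)` in `SL₂(q)` and `PSL₂(q)`, `q` a power of 3
(helper12)
-/

set_option autoImplicit false
set_option linter.unusedSectionVars false
set_option linter.unusedSimpArgs false
set_option linter.unusedVariables false

namespace Cfsg.Agent.Lib.H12.ReeT

open Matrix

variable {F : Type*} [Field F]

local notation "SL2" => Matrix.SpecialLinearGroup (Fin 2) F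
local notation "M2" => Matrix (Fin 2) (Fin 2) F
local notation "PSL2" => Matrix.ProjectiveSpecialLinearGroup (Fin 2) F

theorem odd_pow_sq' {Γ : Type*} [Group Γ] {w : Γ} {N : ℕ} (hN : Odd N) (h2 : w * w = 1) (hw : w ^ N = 1) :
    w = 1 := by
  obtain ⟨k, rfl⟩ := hN
  rw [pow_succ, pow_mul, pow_two, h2, one_pow, one_mul] at hw
  exact hw

/-- in characteristic three an element of `SL₂` with `tr² = 4` satisfies `g⁶ = 1` -/
theorem sl2_pow_six (h3 : (3 : F) = 0) (g : SL2) (ht : (g : M2).trace ^ 2 = 4) : g ^ 6 = 1 := by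
  apply Subtype.ext
  rw [Matrix.SpecialLinearGroup.coe_pow, Matrix.SpecialLinearGroup.coe_one]
  have hc := Cfsg.Agent.Lib.H12.m2_cayley (g : M2) g.2
  have h4 : (4 : F) = 1 := by linear_combination h3
  have hτ : (g : M2).trace ^ 2 = 1 := by rw [ht, h4]
  have hA3 : (g : M2) * (g : M2) * (g : M2) = (-(g : M2).trace) • (1 : M2) := by
    rw [hc, sub_mul, smul_mul_assoc, one_mul, hc, smul_sub, smul_smul, ← pow_two, hτ, one_smul, neg_smul]
    abel
  calc (g : M2) ^ 6 = ((g : M2) * (g : M2) * (g : M2)) * ((g : M2) * (g : M2) * (g : M2)) := by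
        simp only [pow_succ, pow_zero, one_mul, mul_assoc]
    _ = ((g : M2).trace ^ 2) • (1 : M2) := by
        rw [hA3, smul_mul_smul_comm, one_mul]; congr 1; ring
    _ = 1 := by rw [hτ, one_smul]

/-- **elements of order prime to `6 (q - 1)` in `SL₂(q)`** have centraliser of order `q + 1` -/
theorem sl2_tor_centralizer [Fintype F] (hodd : Odd (Fintype.card F)) (h3 : (3 : F) = 0) (e : ℕ)
    (he6 : Nat.Coprime e 6) (heq : Nat.Coprime e (Fintype.card F - 1)) (g : SL2) (hg1 : g ≠ 1)
    (hg : g ^ e = 1) :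
    (g : M2).trace ^ 2 ≠ 4 ∧ Nat.card (Subgroup.centralizer ({g} : Set SL2)) = Fintype.card F + 1 := by
  have ht : (g : M2).trace ^ 2 ≠ 4 := by
    intro ht
    apply hg1
    have h6 := sl2_pow_six h3 g ht
    have := pow_gcd_eq_one.mpr ⟨hg, h6⟩
    rwa [Nat.Coprime.gcd_eq_one he6, pow_one] at this
  refine ⟨ht, ?_⟩
  obtain ⟨-, hsq, hnsq⟩ := Cfsg.Agent.Lib.H12.regular_centralizer hodd g ht
  by_cases hs : IsSquare ((g : M2).trace ^ 2 - 4)
  · exfalso
    apply hg1
    have hc := hsq hs
    have hmem : g ∈ Subgroup.centralizer ({g} : Set SL2) := Cfsg.Agent.Lib.H12.self_mem_centralizer g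
    have hp : (⟨g, hmem⟩ : Subgroup.centralizer ({g} : Set SL2)) ^ (Fintype.card F - 1) = 1 := by
      rw [← hc]; exact pow_card_eq_one'
    have hp' : g ^ (Fintype.card F - 1) = 1 := by
      have := congrArg Subtype.val hp
      simpa using this
    have := pow_gcd_eq_one.mpr ⟨hg, hp'⟩
    rwa [Nat.Coprime.gcd_eq_one heq, pow_one] at this
  · exact hnsq hs

theorem center_sq (c : SL2) (hc : c ∈ Subgroup.center SL2) : c * c = 1 := by
  apply Subtype.ext
  rw [Matrix.SpecialLinearGroup.coe_mul, Matrix.SpecialLinearGroup.coe_one]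
  rcases Cfsg.Agent.Lib.H2.PSL2Klein.center_cases c hc with h | h
  · rw [h, one_mul]
  · rw [h, neg_mul_neg, one_mul]

/-- lifting an element of odd order of `PSL₂` to an element of the same order of `SL₂` -/
theorem exists_lift_pow (e : ℕ) (he : Odd e) (y : PSL2) (hy : y ^ e = 1) :
    ∃ g : SL2, (QuotientGroup.mk g : PSL2) = y ∧ g ^ e = 1 := by
  obtain ⟨g₀, rfl⟩ := QuotientGroup.mk_surjective y
  rw [← QuotientGroup.mk_pow, QuotientGroup.eq_one_iff] at hy
  set c := g₀ ^ e with hcdef
  have hc2 := center_sq c hy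
  have hcomm : ∀ x : SL2, c * x = x * c := fun x => (Subgroup.mem_center_iff.mp hy x).symm
  refine ⟨c * g₀, ?_, ?_⟩
  · rw [QuotientGroup.mk_mul, (QuotientGroup.eq_one_iff c).mpr hy, one_mul]
  · have h1 : (c * g₀) ^ e = c ^ e * g₀ ^ e := (Commute.mul_pow (hcomm g₀) e)
    rw [h1, ← hcdef, ← pow_succ]
    obtain ⟨k, hk⟩ := he
    have : e + 1 = 2 * (k + 1) := by omega
    rw [this, pow_mul, pow_two, hc2, one_pow]

/-- **elements of order prime to `6 (q - 1)` in `PSL₂(q)`** have commutative centraliser of order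
`(q + 1) / 2` -/
theorem psl2_tor_centralizer [Fintype F] (hodd : Odd (Fintype.card F)) (h3 : (3 : F) = 0) (e : ℕ)
    (he : Odd e) (he6 : Nat.Coprime e 6) (heq : Nat.Coprime e (Fintype.card F - 1)) (y : PSL2)
    (hy1 : y ≠ 1) (hy : y ^ e = 1) :
    2 * Nat.card (Subgroup.centralizer ({y} : Set PSL2)) = Fintype.card F + 1 ∧
      ∀ u ∈ Subgroup.centralizer ({y} : Set PSL2), ∀ v ∈ Subgroup.centralizer ({y} : Set PSL2),
        u * v = v * u := by
  obtain ⟨g, rfl, hg⟩ := exists_lift_pow e he y hy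
  have hg1 : g ≠ 1 := by
    rintro rfl
    exact hy1 rfl
  obtain ⟨ht, hcard⟩ := sl2_tor_centralizer hodd h3 e he6 heq g hg1 hg
  have hns := Cfsg.Agent.Lib.H12.nonScalar_of_trace_sq_ne g ht
  have hmap : Subgroup.centralizer ({(QuotientGroup.mk g : PSL2)} : Set PSL2) =
      (Subgroup.centralizer ({g} : Set SL2)).map (QuotientGroup.mk' (Subgroup.center SL2)) := by
    ext u
    rw [Subgroup.mem_centralizer_singleton_iff, Subgroup.mem_map]
    constructor
    · intro hu
      obtain ⟨x, rfl⟩ := QuotientGroup.mk_surjective u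
      refine ⟨x, ?_, rfl⟩
      rw [Subgroup.mem_centralizer_singleton_iff]
      rw [← QuotientGroup.mk_mul, ← QuotientGroup.mk_mul, QuotientGroup.eq] at hu
      -- hu : (x * g)⁻¹ * (g * x) ∈ center
      set c := (x * g)⁻¹ * (g * x) with hcdef
      have hc2 := center_sq c hu
      have hcomm : ∀ z : SL2, c * z = z * c := fun z => (Subgroup.mem_center_iff.mp hu z).symm
      have h1 : x⁻¹ * g * x = g * c := by
        rw [hcdef]; group
      have h2 : (g * c) ^ e = 1 := by
        rw [← h1]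
        have := conj_pow (a := x⁻¹) (b := g) (i := e)
        rw [inv_inv] at this
        rw [this, hg, mul_one, inv_mul_cancel]
      have h3 : (g * c) ^ e = g ^ e * c ^ e := Commute.mul_pow (hcomm g).symm e
      rw [h3, hg, one_mul] at h2
      have hc1 : c = 1 := odd_pow_sq' he hc2 h2
      rw [hc1, mul_one] at h1
      calc x * g = x * (x⁻¹ * g * x) := by rw [h1]
        _ = g * x := by group
    · rintro ⟨x, hx, rfl⟩
      rw [Subgroup.mem_centralizer_singleton_iff] at hx
      show (QuotientGroup.mk x : PSL2) * QuotientGroup.mk g = QuotientGroup.mk g * QuotientGroup.mk x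
      rw [← QuotientGroup.mk_mul, ← QuotientGroup.mk_mul, hx]
  have hcomm : ∀ u ∈ Subgroup.centralizer ({g} : Set SL2), ∀ v ∈ Subgroup.centralizer ({g} : Set SL2),
      u * v = v * u := fun u hu v hv => Cfsg.Agent.Lib.H12.centralizer_comm hns hu hv
  refine ⟨?_, ?_⟩
  · rw [hmap, ← Subgroup.relIndex_ker, QuotientGroup.ker_mk', ← hcard]
    have hle : Subgroup.center SL2 ≤ Subgroup.centralizer ({g} : Set SL2) := Subgroup.center_le_centralizer _
    have h2 : Nat.card (Subgroup.center SL2) = 2 := by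
      rw [Cfsg.Agent.Lib.H2.card_center_SL 2 (by norm_num)]
      have hq : Nat.card F - 1 = 2 * ((Nat.card F - 1) / 2) := by
        rw [Nat.card_eq_fintype_card]
        obtain ⟨k, hk⟩ := hodd
        omega
      rw [hq]
      exact Nat.gcd_mul_right_right _ _ ▸ (by simp)
    have hrel := Subgroup.relIndex_mul_relIndex ⊥ (Subgroup.center SL2) (Subgroup.centralizer ({g} : Set SL2))
      bot_le hle
    rw [Subgroup.relIndex_bot_left, Subgroup.relIndex_bot_left, h2] at hrel
    exact hrel
  · rw [hmap]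
    rintro _ ⟨u, hu, rfl⟩ _ ⟨v, hv, rfl⟩
    rw [← map_mul, ← map_mul, hcomm u hu v hv]

end Cfsg.Agent.Lib.H12.ReeT
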