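import Cfsg.Agent.Lib.H12.ReeN4
import Cfsg.Agent.Lib.H12.ReeT1
import Cfsg.Agent.Lib.H12.ReeT4

/-!
# Ree groups: centralisers inside `C(a)` of elements of order dividing `(q+1)/4`; involutions (helper12)
-/

set_option autoImplicit false
set_option linter.unusedSectionVars false
set_option linter.unusedSimpArgs false
set_option linter.unusedVariables false

namespace Cfsg.Agent.Lib.H12.ReeC

open Cfsg.Agent.Lib.H12.ReeT Cfsg.Agent.Lib.H12.ReeN

namespace RSys

variable {G K : Type*} [Group G] [Field K] (R : RSys G K)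

local notation "SL2" => Matrix.SpecialLinearGroup (Fin 2) K
local notation "PSL2" => Matrix.ProjectiveSpecialLinearGroup (Fin 2) K

/-- `C(a) ∩ C(y)` for `y = Φ(1, ȳ)` -/
theorem centralizer_inf_eq_S0 (yb : PSL2) :
    (Subgroup.centralizer {R.a} ⊓ Subgroup.centralizer {R.Phi (1, yb)} : Subgroup G) =
      R.S0 (Subgroup.centralizer {yb}) := by
  ext g
  rw [Subgroup.mem_inf, R.mem_S0]
  constructor
  · rintro ⟨h1, h2⟩
    obtain ⟨e, x, rfl⟩ := R.mem_centralizer_a g h1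
    refine ⟨e, x, ?_, rfl⟩
    rw [Subgroup.mem_centralizer_singleton_iff] at h2 ⊢
    rw [← map_mul, ← map_mul] at h2
    have := R.Phi_injective h2
    rw [Prod.mk_mul_mk, Prod.mk_mul_mk, Prod.mk.injEq] at this
    exact this.2
  · rintro ⟨e, x, hx, rfl⟩
    refine ⟨?_, ?_⟩
    · rw [← R.Phi_range]; exact ⟨_, rfl⟩
    · rw [Subgroup.mem_centralizer_singleton_iff] at hx ⊢
      rw [← map_mul, ← map_mul, Prod.mk_mul_mk, Prod.mk_mul_mk, hx, mul_one, one_mul]

theorem Phi_pow (e : Multiplicative (ZMod 2)) (x : PSL2) (N : ℕ) : R.Phi (e, x) ^ N = R.Phi (e ^ N, x ^ N) := by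
  rw [← map_pow, Prod.pow_mk]

variable [Fintype K] [Finite G]

/-- **Step 1**: `C(a) ∩ C(y)` for `y ∈ C(a)` of order dividing `e` prime to `6 (q - 1)` -/
theorem tor_in_Ca (hodd : Odd (Fintype.card K)) (e : ℕ) (he : Odd e) (he6 : Nat.Coprime e 6)
    (heq : Nat.Coprime e (Fintype.card K - 1)) (hev : 4 ∣ Fintype.card K + 1)
    (y : G) (hya : y ∈ Subgroup.centralizer {R.a}) (hy1 : y ≠ 1) (hy : y ^ e = 1) :
    Nat.card (Subgroup.centralizer {R.a} ⊓ Subgroup.centralizer {y} : Subgroup G) = Fintype.card K + 1 ∧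
      (∀ u ∈ (Subgroup.centralizer {R.a} ⊓ Subgroup.centralizer {y} : Subgroup G),
        ∀ v ∈ (Subgroup.centralizer {R.a} ⊓ Subgroup.centralizer {y} : Subgroup G), u * v = v * u) ∧
      ∃ t ∈ (Subgroup.centralizer {R.a} ⊓ Subgroup.centralizer {y} : Subgroup G),
        t ≠ 1 ∧ t ≠ R.a ∧ t * t = 1 := by
  obtain ⟨ε, yb, rfl⟩ := R.mem_centralizer_a y hya
  rw [R.Phi_pow] at hy
  have hy' : ((ε ^ e, yb ^ e) : Multiplicative (ZMod 2) × PSL2) = 1 :=
    R.Phi_injective (by rw [hy, map_one])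
  rw [Prod.mk_eq_one] at hy'
  have hε : ε = 1 := odd_pow_sq' he (z2_sq ε) hy'.1
  subst hε
  have hyb1 : yb ≠ 1 := by
    rintro rfl
    exact hy1 (map_one _)
  obtain ⟨hc, hcomm⟩ := psl2_tor_centralizer hodd R.three e he he6 heq yb hyb1 hy'.2
  rw [R.centralizer_inf_eq_S0, R.card_S0, hc]
  refine ⟨rfl, ?_, ?_⟩
  · intro u hu v hv
    obtain ⟨e1, x1, hx1, rfl⟩ := (R.mem_S0 _ u).mp hu
    obtain ⟨e2, x2, hx2, rfl⟩ := (R.mem_S0 _ v).mp hv
    rw [← map_mul, ← map_mul, Prod.mk_mul_mk, Prod.mk_mul_mk, mul_comm e1 e2, hcomm x1 hx1 x2 hx2]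
  · -- an involution of the centraliser of `yb`
    have h2 : 2 ∣ Nat.card (Subgroup.centralizer ({yb} : Set PSL2)) := by
      obtain ⟨j, hj⟩ := hev
      rw [hj] at hc
      have : Nat.card (Subgroup.centralizer ({yb} : Set PSL2)) = 2 * j := by omega
      rw [this]; exact dvd_mul_right _ _
    have : Fact (Nat.Prime 2) := ⟨Nat.prime_two⟩
    obtain ⟨⟨tb, htb⟩, ho⟩ := exists_prime_orderOf_dvd_card' 2 h2
    have ho' : orderOf tb = 2 := (Subgroup.orderOf_mk tb htb).symm.trans ho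
    have htb2 : tb * tb = 1 := by
      have h := pow_orderOf_eq_one tb
      rw [ho', pow_two] at h
      exact h
    have htb1 : tb ≠ 1 := by
      rintro rfl
      rw [orderOf_one] at ho'
      omega
    refine ⟨R.Phi (1, tb), (R.mem_S0 _ _).mpr ⟨1, tb, htb, rfl⟩, ?_, ?_, ?_⟩
    · intro h
      have := R.Phi_injective (h.trans (map_one _).symm)
      rw [Prod.mk_eq_one] at this
      exact htb1 this.2
    · intro h
      rw [← R.Phi_a] at h
      have := R.Phi_injective h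
      rw [Prod.mk.injEq] at this
      exact htb1 this.2
    · rw [← map_mul, Prod.mk_mul_mk, one_mul, htb2]
      exact map_one _

include R in
/-- 2-subgroups have exponent two -/
theorem two_group_sq (hq : Fintype.card K % 8 = 3) (k : ℕ) (hN : Nat.card G = 8 * k) (hk : ¬ 2 ∣ k)
    (Q : Subgroup G) (hQ : IsPGroup 2 Q) (x : G) (hx : x ∈ Q) : x * x = 1 := by
  have : Fact (Nat.Prime 2) := ⟨Nat.prime_two⟩
  obtain ⟨S, hS⟩ := hQ.exists_le_sylow
  exact (R.sylow_two hq k hN hk S).2 x (hS hx)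

theorem isPGroup_zpowers {Γ : Type*} [Group Γ] (p j : ℕ) (x : Γ) (hx : x ^ (p ^ j) = 1) :
    IsPGroup p (Subgroup.zpowers x) := by
  rintro ⟨w, hw⟩
  refine ⟨j, ?_⟩
  obtain ⟨i, rfl⟩ := Subgroup.mem_zpowers_iff.mp hw
  apply Subtype.ext
  rw [Subgroup.coe_pow, Subgroup.coe_one]
  show (x ^ i) ^ (p ^ j) = 1
  rw [← zpow_natCast, ← zpow_mul, mul_comm, zpow_mul, zpow_natCast, hx, one_zpow]

include R in
/-- there are no elements of order four -/
theorem sq_of_pow_four (hq : Fintype.card K % 8 = 3) (k : ℕ) (hN : Nat.card G = 8 * k) (hk : ¬ 2 ∣ k)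
    (x : G) (hx : x ^ 4 = 1) : x * x = 1 :=
  R.two_group_sq hq k hN hk (Subgroup.zpowers x) (isPGroup_zpowers 2 2 x hx) x (Subgroup.mem_zpowers x)

/-- the normaliser of the Sylow 2-subgroup `T0` is transitive on its involutions -/
theorem Orb_eq (hq : Fintype.card K % 8 = 3) (k : ℕ) (hN : Nat.card G = 8 * k) (hk : ¬ 2 ∣ k)
    (hZ : ∃ g : G, g * R.a * g⁻¹ ∈ R.T0 ∧ g * R.a * g⁻¹ ≠ R.a) : R.Orb = (R.T0 : Set G) \ {1} := by
  obtain ⟨P, hP⟩ := R.exists_sylow_eq_T0 hq k hN hk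
  have hcent := R.centralizer_T0 hq
  have hZ' : ∃ n ∈ Subgroup.normalizer (R.T0 : Set G), n * R.a * n⁻¹ ≠ R.a := by
    obtain ⟨g, hg1, hg2⟩ := hZ
    have hx : R.a ∈ Subgroup.centralizer ((P : Subgroup G) : Set G) := by
      rw [hP, hcent]; exact R.a_mem_T0
    have hy : (g⁻¹)⁻¹ * R.a * g⁻¹ ∈ Subgroup.centralizer ((P : Subgroup G) : Set G) := by
      rw [hP, hcent, inv_inv]; exact hg1
    obtain ⟨n, hn, he⟩ := Sylow.conj_eq_normalizer_conj_of_mem_centralizer P R.a g⁻¹ hx hy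
    have hn' : n ∈ Subgroup.normalizer (R.T0 : Set G) := by rw [← hP]; exact hn
    refine ⟨n⁻¹, inv_mem hn', ?_⟩
    rw [inv_inv, ← he, inv_inv]
    exact hg2
  have h168 := R.card_normalizer_T0 hq k hN hk hZ'
  have h1 := card_eq_orbit_mul (Subgroup.normalizer (R.T0 : Set G)) R.a
  rw [R.card_normalizer_inf_centralizer hq, h168] at h1
  have hO : Nat.card {s : G // ∃ n ∈ Subgroup.normalizer (R.T0 : Set G), n * R.a * n⁻¹ = s} = R.Orb.ncard :=
    Nat.card_coe_set_eq R.Orb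
  rw [hO] at h1
  have h7 : R.Orb.ncard = 7 := by omega
  have h2 : ((R.T0 : Set G) \ {1}).ncard = 7 := by
    rw [Set.ncard_sdiff_singleton_of_mem (one_mem R.T0), ← Nat.card_coe_set_eq]
    have := R.card_T0 hq
    simp only [SetLike.coe_sort_coe]
    rw [this]
  exact Set.eq_of_subset_of_ncard_le R.Orb_subset (by rw [h2, h7]) (Set.toFinite _)

/-- **all involutions are conjugate** -/
theorem involution_conj (hq : Fintype.card K % 8 = 3) (k : ℕ) (hN : Nat.card G = 8 * k) (hk : ¬ 2 ∣ k)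
    (hZ : ∃ g : G, g * R.a * g⁻¹ ∈ R.T0 ∧ g * R.a * g⁻¹ ≠ R.a) (v : G) (hv1 : v ≠ 1) (hv2 : v * v = 1) :
    ∃ g : G, g * R.a * g⁻¹ = v := by
  have : Fact (Nat.Prime 2) := ⟨Nat.prime_two⟩
  obtain ⟨P, hP⟩ := R.exists_sylow_eq_T0 hq k hN hk
  have hpg : IsPGroup 2 (Subgroup.zpowers v) := isPGroup_zpowers 2 1 v (by rw [pow_one, pow_two, hv2])
  obtain ⟨S, hS⟩ := hpg.exists_le_sylow
  obtain ⟨g, hg⟩ := MulAction.exists_smul_eq G P S
  have hvS : v ∈ (S : Subgroup G) := hS (Subgroup.mem_zpowers v)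
  rw [← hg, Sylow.coe_subgroup_smul, Subgroup.mem_pointwise_smul_iff_inv_smul_mem, hP,
    MulAut.smul_def, ← map_inv, MulAut.conj_apply, inv_inv] at hvS
  have hmem : g⁻¹ * v * g ∈ R.Orb := by
    rw [R.Orb_eq hq k hN hk hZ]
    refine ⟨hvS, ?_⟩
    intro h
    rw [Set.mem_singleton_iff] at h
    apply hv1
    calc v = g * (g⁻¹ * v * g) * g⁻¹ := by group
      _ = 1 := by rw [h]; group
  obtain ⟨n, -, hn⟩ := hmem
  refine ⟨g * n, ?_⟩
  calc g * n * R.a * (g * n)⁻¹ = g * (n * R.a * n⁻¹) * g⁻¹ := by group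
    _ = v := by rw [hn]; group

/-- `|C(v) ∩ C(y)| = q + 1` for every involution `v` commuting with `y` -/
theorem card_inf_of_involution (hq : Fintype.card K % 8 = 3) (k : ℕ) (hN : Nat.card G = 8 * k) (hk : ¬ 2 ∣ k)
    (hZ : ∃ g : G, g * R.a * g⁻¹ ∈ R.T0 ∧ g * R.a * g⁻¹ ≠ R.a)
    (e : ℕ) (he : Odd e) (he6 : Nat.Coprime e 6) (heq : Nat.Coprime e (Fintype.card K - 1))
    (v : G) (hv1 : v ≠ 1) (hv2 : v * v = 1) (y : G) (hyv : y * v = v * y) (hy1 : y ≠ 1) (hy : y ^ e = 1) :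
    Nat.card (Subgroup.centralizer {v} ⊓ Subgroup.centralizer {y} : Subgroup G) = Fintype.card K + 1 := by
  obtain ⟨g, hg⟩ := R.involution_conj hq k hN hk hZ v hv1 hv2
  have hodd : Odd (Fintype.card K) := by
    rw [Nat.odd_iff]; omega
  have hev : 4 ∣ Fintype.card K + 1 := by omega
  have hya : g⁻¹ * y * g ∈ Subgroup.centralizer {R.a} := by
    rw [Subgroup.mem_centralizer_singleton_iff]
    calc g⁻¹ * y * g * R.a = g⁻¹ * (y * (g * R.a * g⁻¹)) * g := by group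
      _ = g⁻¹ * ((g * R.a * g⁻¹) * y) * g := by rw [hg, hyv]
      _ = R.a * (g⁻¹ * y * g) := by group
  have hy1' : g⁻¹ * y * g ≠ 1 := by
    intro h
    apply hy1
    calc y = g * (g⁻¹ * y * g) * g⁻¹ := by group
      _ = 1 := by rw [h]; group
  have hy' : (g⁻¹ * y * g) ^ e = 1 := by
    have := conj_pow (a := g⁻¹) (b := y) (i := e)
    rw [inv_inv] at this
    rw [this, hy, mul_one, inv_mul_cancel]
  obtain ⟨hc, -, -⟩ := R.tor_in_Ca hodd e he he6 heq hev _ hya hy1' hy'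
  have h1 : Subgroup.centralizer {v} = (Subgroup.centralizer {R.a}).map (MulAut.conj g).toMonoidHom := by
    apply centralizer_conj
    congr 2
    rw [← hg]; group
  have h2 : Subgroup.centralizer {y} =
      (Subgroup.centralizer {g⁻¹ * y * g}).map (MulAut.conj g).toMonoidHom := centralizer_conj y g _ rfl
  rw [h1, h2, ← Subgroup.map_inf _ _ _ (MulAut.conj g).injective,
    Subgroup.card_map_of_injective (MulAut.conj g).injective, hc]

end RSys

end Cfsg.Agent.Lib.H12.ReeC
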