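import Cfsg.Agent.Lib.H12.ReeT5
import Cfsg.Agent.Lib.H2.PSLCard

/-!
# Ree groups: the Borel subgroup, elements of order three, and conjugation into `C(a)` (helper12)
-/

set_option autoImplicit false
set_option linter.unusedSectionVars false
set_option linter.unusedSimpArgs false
set_option linter.unusedVariables false

namespace Cfsg.Agent.Lib.H12.ReeC

open Cfsg.Agent.Lib.H12.ReeT Cfsg.Agent.Lib.H12.ReeN

namespace RSys

variable {G K : Type*} [Group G] [Field K] (R : RSys G K)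

local notation "SL2" => Matrix.SpecialLinearGroup (Fin 2) K
local notation "PSL2" => Matrix.ProjectiveSpecialLinearGroup (Fin 2) K

/-- an element conjugating a non-trivial element of `U` into `U` lies in `B` -/
theorem mem_B_of_conj_mem_U (y t : G) (ht : t ∈ R.U) (ht1 : t ≠ 1) (h : y * t * y⁻¹ ∈ R.U) : y ∈ R.B := by
  rcases R.bruhat y with ⟨t1, u1, v1, z, rfl⟩ | ⟨t1, u1, v1, z, t2, u2, v2, rfl⟩
  · exact (R.mem_B _).mpr ⟨_, _, _, _, rfl⟩
  · exfalso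
    apply ht1
    have hx1 := R.x_mem_U t1 u1 v1
    have hx2 := R.x_mem_U t2 u2 v2
    have hw : R.h z * (R.x t2 u2 v2 * t * (R.x t2 u2 v2)⁻¹) * (R.h z)⁻¹ ∈ R.U :=
      R.h_conj_mem_U z _ (mul_mem (mul_mem hx2 ht) (inv_mem hx2))
    have hB : R.n * (R.h z * (R.x t2 u2 v2 * t * (R.x t2 u2 v2)⁻¹) * (R.h z)⁻¹) * R.n⁻¹ ∈ R.B := by
      have e : R.n * (R.h z * (R.x t2 u2 v2 * t * (R.x t2 u2 v2)⁻¹) * (R.h z)⁻¹) * R.n⁻¹ =
          (R.x t1 u1 v1)⁻¹ * (R.x t1 u1 v1 * (R.n * R.h z) * R.x t2 u2 v2 * t *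
            (R.x t1 u1 v1 * (R.n * R.h z) * R.x t2 u2 v2)⁻¹) * R.x t1 u1 v1 := by group
      rw [e]
      exact R.U_le_B (mul_mem (mul_mem (inv_mem hx1) h) hx1)
    have h1 := R.eq_one_of_n_conj_mem _ hw hB
    calc t = (R.x t2 u2 v2)⁻¹ * (R.h z)⁻¹ *
          (R.h z * (R.x t2 u2 v2 * t * (R.x t2 u2 v2)⁻¹) * (R.h z)⁻¹) * R.h z * R.x t2 u2 v2 := by group
      _ = 1 := by rw [h1]; group

variable [Fintype K] [Finite G]

theorem card_U : Nat.card R.U = Fintype.card K ^ 3 := by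
  have e : (K × K × K) ≃ R.U := Equiv.ofBijective
    (fun p => ⟨R.x p.1 p.2.1 p.2.2, R.x_mem_U _ _ _⟩) ⟨?_, ?_⟩
  · rw [← Nat.card_congr e, Nat.card_prod, Nat.card_prod, Nat.card_eq_fintype_card]; ring
  · rintro ⟨t, u, v⟩ ⟨t', u', v'⟩ hp
    have := R.x_inj _ _ _ _ _ _ (congrArg Subtype.val hp)
    simp only at this
    obtain ⟨rfl, rfl, rfl⟩ := this
    rfl
  · rintro ⟨g, t, u, v, rfl⟩
    exact ⟨(t, u, v), rfl⟩

theorem card_B : Nat.card R.B = Fintype.card K ^ 3 * (Fintype.card K - 1) := by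
  classical
  have e : ((K × K × K) × Kˣ) ≃ R.B := Equiv.ofBijective
    (fun p => ⟨R.x p.1.1 p.1.2.1 p.1.2.2 * R.h p.2, (R.mem_B _).mpr ⟨_, _, _, _, rfl⟩⟩) ⟨?_, ?_⟩
  · rw [← Nat.card_congr e, Nat.card_prod, Nat.card_prod, Nat.card_prod, Nat.card_eq_fintype_card,
      Nat.card_eq_fintype_card, Fintype.card_units]; ring
  · rintro ⟨⟨t, u, v⟩, z⟩ ⟨⟨t', u', v'⟩, z'⟩ hp
    have h1 := R.cellB_inj _ _ (R.x_mem_U _ _ _) (R.x_mem_U _ _ _) _ _ (congrArg Subtype.val hp)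
    simp only at h1
    obtain ⟨h2, rfl⟩ := h1
    obtain ⟨rfl, rfl, rfl⟩ := R.x_inj _ _ _ _ _ _ h2
    rfl
  · rintro ⟨g, hg⟩
    obtain ⟨t, u, v, z, rfl⟩ := (R.mem_B _).mp hg
    exact ⟨((t, u, v), z), rfl⟩

theorem index_U (q : ℕ) (hq : Fintype.card K = q) (hcard : Nat.card G = q ^ 3 * (q - 1) * (q ^ 3 + 1))
    (hq1 : 1 < q) : R.U.index = (q - 1) * (q ^ 3 + 1) := by
  have h := R.U.index_mul_card
  rw [R.card_U, hq, hcard] at h
  have : R.U.index * q ^ 3 = ((q - 1) * (q ^ 3 + 1)) * q ^ 3 := by rw [h]; ring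
  exact Nat.eq_of_mul_eq_mul_right (by positivity) this

include R in
/-- **no element of order dividing `e` commutes with an element of order three** -/
theorem no_three (q : ℕ) (hq : Fintype.card K = q) (hcard : Nat.card G = q ^ 3 * (q - 1) * (q ^ 3 + 1))
    (h3q : 3 ∣ q) (hq1 : 1 < q) (e : ℕ) (he : Nat.Coprime e (q ^ 3 * (q - 1))) (y t : G) (hy : y ^ e = 1)
    (ht1 : t ≠ 1) (ht3 : t ^ 3 = 1) (hc : y * t = t * y) : y = 1 := by
  have : Fact (Nat.Prime 3) := ⟨Nat.prime_three⟩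
  have hidx : ¬ 3 ∣ R.U.index := by
    rw [R.index_U q hq hcard hq1]
    obtain ⟨j, rfl⟩ := h3q
    intro hd
    rcases (Nat.Prime.dvd_mul Nat.prime_three).mp hd with h | h
    · omega
    · have : (3 * j) ^ 3 = 3 * (9 * j ^ 3) := by ring
      rw [this] at h
      omega
  obtain ⟨g, hg⟩ := exists_conj_mem_of_prime R.U t 3 ht3 hidx
  have ht1' : g⁻¹ * t * g ≠ 1 := by
    intro h
    apply ht1
    calc t = g * (g⁻¹ * t * g) * g⁻¹ := by group
      _ = 1 := by rw [h]; group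
  have hconj : (g⁻¹ * y * g) * (g⁻¹ * t * g) * (g⁻¹ * y * g)⁻¹ ∈ R.U := by
    have e1 : (g⁻¹ * y * g) * (g⁻¹ * t * g) * (g⁻¹ * y * g)⁻¹ = g⁻¹ * (y * t) * y⁻¹ * g := by group
    rw [e1, hc]
    have e2 : g⁻¹ * (t * y) * y⁻¹ * g = g⁻¹ * t * g := by group
    rw [e2]; exact hg
  have hB := R.mem_B_of_conj_mem_U _ _ hg ht1' hconj
  have hp : (⟨g⁻¹ * y * g, hB⟩ : R.B) ^ (q ^ 3 * (q - 1)) = 1 := by
    rw [← hq, ← R.card_B]; exact pow_card_eq_one'
  have hp' : (g⁻¹ * y * g) ^ (q ^ 3 * (q - 1)) = 1 := by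
    have := congrArg Subtype.val hp
    simpa using this
  have hy' : (g⁻¹ * y * g) ^ e = 1 := by
    have := conj_pow (a := g⁻¹) (b := y) (i := e)
    rw [inv_inv] at this
    rw [this, hy, mul_one, inv_mul_cancel]
  have h1 := pow_gcd_eq_one.mpr ⟨hy', hp'⟩
  rw [Nat.Coprime.gcd_eq_one he, pow_one] at h1
  calc y = g * (g⁻¹ * y * g) * g⁻¹ := by group
    _ = 1 := by rw [h1]; group

theorem card_centralizer_a (hodd : Odd (Fintype.card K)) :
    Nat.card (Subgroup.centralizer {R.a}) = Fintype.card K * (Fintype.card K ^ 2 - 1) := by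
  rw [Nat.card_congr R.centIso.toEquiv, Nat.card_prod, ← Cfsg.Agent.Lib.H2.card_PSL2_mul (F := K)]
  congr 1
  have h1 : Nat.card (Multiplicative (ZMod 2)) = 2 := by
    rw [Nat.card_eq_fintype_card]; rfl
  rw [h1]
  obtain ⟨j, hj⟩ := hodd
  have : Fintype.card K - 1 = 2 * j := by omega
  rw [this]
  exact (Nat.gcd_mul_right_right j 2).symm

theorem index_centralizer_a (s : ℕ) (hq : Fintype.card K = s + 1)
    (hcard : Nat.card G = (s + 1) ^ 3 * s * ((s + 1) ^ 3 + 1)) (hodd : Odd (Fintype.card K)) (hs : 0 < s) :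
    (Subgroup.centralizer {R.a}).index = (s + 1) ^ 2 * (s ^ 2 + s + 1) := by
  have h := (Subgroup.centralizer {R.a}).index_mul_card
  rw [R.card_centralizer_a hodd, hq, hcard] at h
  have e1 : (s + 1) ^ 2 - 1 = s * (s + 2) := Nat.sub_eq_of_eq_add (by ring)
  rw [e1] at h
  have : (Subgroup.centralizer {R.a}).index * ((s + 1) * (s * (s + 2))) =
      ((s + 1) ^ 2 * (s ^ 2 + s + 1)) * ((s + 1) * (s * (s + 2))) := by rw [h]; ring
  exact Nat.eq_of_mul_eq_mul_right (by positivity) this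

/-- **elements of prime order dividing `(q+1)/4` are conjugate into `C(a)`** -/
theorem exists_conj_mem_Ca (s : ℕ) (hq : Fintype.card K = s + 1)
    (hcard : Nat.card G = (s + 1) ^ 3 * s * ((s + 1) ^ 3 + 1)) (hodd : Odd (Fintype.card K)) (hs : 0 < s)
    (r : ℕ) [Fact r.Prime] (hr : r ∣ s + 2) (hr3 : r ≠ 3) (y : G) (hy : y ^ r = 1) :
    ∃ g : G, g⁻¹ * y * g ∈ Subgroup.centralizer {R.a} := by
  apply exists_conj_mem_of_prime _ y r hy
  rw [R.index_centralizer_a s hq hcard hodd hs]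
  have hrp : r.Prime := Fact.out
  intro hd
  rcases (Nat.Prime.dvd_mul hrp).mp hd with h | h
  · have h1 := hrp.dvd_of_dvd_pow h
    have h2 : r ∣ 1 := by
      have := (Nat.dvd_add_right h1).mp (show r ∣ (s + 1) + 1 from hr)
      exact this
    exact hrp.one_lt.ne' (Nat.dvd_one.mp h2)
  · have h1 : r ∣ (s ^ 2 + s + 1) + (s + 2) := dvd_add h hr
    have e : (s ^ 2 + s + 1) + (s + 2) = (s + 2) * s + 3 := by ring
    rw [e] at h1
    have h2 : r ∣ 3 := (Nat.dvd_add_right (dvd_mul_of_dvd_left hr s)).mp h1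
    exact hr3 ((Nat.prime_dvd_prime_iff_eq hrp Nat.prime_three).mp h2)

end RSys

end Cfsg.Agent.Lib.H12.ReeC
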