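import Cfsg.Agent.Lib.H12.ReeT3
import Cfsg.Agent.Lib.H12.ReeT6

/-!
# Ree groups: centralisers of elements of order dividing `(q+1)/4` (helper12)
-/

set_option autoImplicit false
set_option linter.unusedSectionVars false
set_option linter.unusedSimpArgs false
set_option linter.unusedVariables false

namespace Cfsg.Agent.Lib.H12.ReeC

open Cfsg.Agent.Lib.H12.ReeT Cfsg.Agent.Lib.H12.ReeN

/-! ### arithmetic -/

theorem coprime_sub_one (q e : ℕ) (he4 : q + 1 = 4 * e) (he : Odd e) : Nat.Coprime e (q - 1) := by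
  have hd1 : Nat.gcd e (q - 1) ∣ e := Nat.gcd_dvd_left _ _
  have hd2 : Nat.gcd e (q - 1) ∣ q - 1 := Nat.gcd_dvd_right _ _
  have hd3 : Nat.gcd e (q - 1) ∣ 2 := by
    have h4 : Nat.gcd e (q - 1) ∣ 4 * e := dvd_mul_of_dvd_right hd1 4
    obtain ⟨k, hk⟩ := he
    have : 4 * e = (q - 1) + 2 := by omega
    rw [this] at h4
    exact (Nat.dvd_add_right hd2).mp h4
  rcases (Nat.dvd_prime Nat.prime_two).mp hd3 with h | h
  · exact h
  · exfalso
    rw [h] at hd1
    obtain ⟨k, hk⟩ := he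
    omega

theorem coprime_self (q e : ℕ) (he4 : q + 1 = 4 * e) : Nat.Coprime e q := by
  have hd1 : Nat.gcd e q ∣ e := Nat.gcd_dvd_left _ _
  have hd2 : Nat.gcd e q ∣ q := Nat.gcd_dvd_right _ _
  have h4 : Nat.gcd e q ∣ q + 1 := by rw [he4]; exact dvd_mul_of_dvd_right hd1 4
  exact Nat.dvd_one.mp ((Nat.dvd_add_right hd2).mp h4)

theorem comm_of_sq {Γ : Type*} [Group Γ] (u v : Γ) (hu : u * u = 1) (hv : v * v = 1)
    (huv : (u * v) * (u * v) = 1) : u * v = v * u := by
  have h1 : u⁻¹ = u := inv_eq_of_mul_eq_one_right hu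
  have h2 : v⁻¹ = v := inv_eq_of_mul_eq_one_right hv
  calc u * v = (u * v)⁻¹ := (inv_eq_of_mul_eq_one_right huv).symm
    _ = v⁻¹ * u⁻¹ := mul_inv_rev _ _
    _ = v * u := by rw [h1, h2]

namespace RSys

variable {G K : Type*} [Group G] [Field K] (R : RSys G K) [Fintype K] [Finite G]

/-- the numerical and fusion hypotheses on the Ree group -/
structure ReeData (q : ℕ) : Prop where
  hq : Fintype.card K = q
  hcard : Nat.card G = q ^ 3 * (q - 1) * (q ^ 3 + 1)
  hq8 : q % 8 = 3
  h3q : 3 ∣ q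
  hZ : ∃ g : G, g * R.a * g⁻¹ ∈ R.T0 ∧ g * R.a * g⁻¹ ≠ R.a

variable {R}

theorem ReeData.e4 {q : ℕ} (D : R.ReeData q) : q + 1 = 4 * ((q + 1) / 4) := by
  have := D.hq8; omega

theorem ReeData.odd_e {q : ℕ} (D : R.ReeData q) : Odd ((q + 1) / 4) := by
  rw [Nat.odd_iff]; have := D.hq8; omega

theorem ReeData.not_three_dvd {q : ℕ} (D : R.ReeData q) : ¬ 3 ∣ (q + 1) / 4 := by
  have h1 := D.e4
  have h2 := D.h3q
  omega

theorem ReeData.coprime_six {q : ℕ} (D : R.ReeData q) : Nat.Coprime ((q + 1) / 4) 6 := by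
  have h2 : Nat.Coprime ((q + 1) / 4) 2 := Nat.coprime_two_right.mpr D.odd_e
  have h3 : Nat.Coprime ((q + 1) / 4) 3 :=
    ((Nat.Prime.coprime_iff_not_dvd Nat.prime_three).mpr D.not_three_dvd).symm
  exact Nat.Coprime.mul_right h2 h3

theorem ReeData.coprime_card_sub {q : ℕ} (D : R.ReeData q) :
    Nat.Coprime ((q + 1) / 4) (Fintype.card K - 1) := by
  rw [D.hq]; exact coprime_sub_one q _ D.e4 D.odd_e

theorem ReeData.coprime_B {q : ℕ} (D : R.ReeData q) : Nat.Coprime ((q + 1) / 4) (q ^ 3 * (q - 1)) :=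
  Nat.Coprime.mul_right (Nat.Coprime.pow_right 3 (coprime_self q _ D.e4)) (coprime_sub_one q _ D.e4 D.odd_e)

theorem ReeData.hq8' {q : ℕ} (D : R.ReeData q) : Fintype.card K % 8 = 3 := by rw [D.hq]; exact D.hq8

theorem ReeData.hodd {q : ℕ} (D : R.ReeData q) : Odd (Fintype.card K) := by
  rw [Nat.odd_iff]; have := D.hq8'; omega

theorem ReeData.two_part {q : ℕ} (D : R.ReeData q) : ∃ k, Nat.card G = 8 * k ∧ ¬ 2 ∣ k := by
  obtain ⟨k, hk1, hk2⟩ := ree_order_two_part q D.hq8
  exact ⟨k, by rw [D.hcard, hk1], hk2⟩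

/-- **Step A**: an element of `C(a)` of order dividing `(q+1)/4` has its centraliser inside `C(a)` -/
theorem ReeData.centralizer_le_Ca {q : ℕ} (D : R.ReeData q) (y : G)
    (hya : y ∈ Subgroup.centralizer {R.a}) (hy1 : y ≠ 1) (hy : y ^ ((q + 1) / 4) = 1) :
    Subgroup.centralizer {y} ≤ Subgroup.centralizer {R.a} := by
  obtain ⟨k, hN, hk⟩ := D.two_part
  have hev : 4 ∣ Fintype.card K + 1 := by have := D.hq8'; omega
  obtain ⟨hc, hcomm, t, htM, ht1, hta, ht2⟩ :=
    R.tor_in_Ca D.hodd _ D.odd_e D.coprime_six D.coprime_card_sub hev y hya hy1 hy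
  have haCy : R.a ∈ Subgroup.centralizer {y} := by
    rw [Subgroup.mem_centralizer_singleton_iff]
    exact (Subgroup.mem_centralizer_singleton_iff.mp hya).symm
  have htCy : t ∈ Subgroup.centralizer {y} := (Subgroup.mem_inf.mp htM).2
  have haa : R.a ∈ Subgroup.centralizer {R.a} := Subgroup.mem_centralizer_singleton_iff.mpr rfl
  have key : (Subgroup.centralizer {R.a}).subgroupOf (Subgroup.centralizer {y}) = ⊤ := by
    apply eq_top_of_klein_centralizers _ _ ((q + 1) / 4) _ D.odd_e ⟨R.a, haCy⟩ ⟨t, htCy⟩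
    · -- a ∈ M
      rw [Subgroup.mem_subgroupOf]; exact haa
    · rw [Subgroup.mem_subgroupOf]; exact (Subgroup.mem_inf.mp htM).1
    · intro h
      exact R.a_ne_one (congrArg Subtype.val h)
    · intro h
      exact ht1 (congrArg Subtype.val h)
    · intro h
      exact hta (congrArg Subtype.val h).symm
    · apply Subtype.ext
      exact R.a_sq
    · apply Subtype.ext
      exact ht2
    · -- hcent
      intro v hvM hv1 hv2 x hx
      rw [Subgroup.mem_subgroupOf] at hvM ⊢
      have hv1' : (v : G) ≠ 1 := fun h => hv1 (Subtype.ext h)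
      have hv2' : (v : G) * (v : G) = 1 := congrArg Subtype.val hv2
      have hyv : y * (v : G) = (v : G) * y :=
        (Subgroup.mem_centralizer_singleton_iff.mp v.2).symm
      have hcv := R.card_inf_of_involution D.hq8' k hN hk D.hZ _ D.odd_e D.coprime_six D.coprime_card_sub
        (v : G) hv1' hv2' y hyv hy1 hy
      have hvM' : (v : G) ∈ (Subgroup.centralizer {R.a} ⊓ Subgroup.centralizer {y} : Subgroup G) :=
        Subgroup.mem_inf.mpr ⟨hvM, v.2⟩
      have hle : (Subgroup.centralizer {R.a} ⊓ Subgroup.centralizer {y} : Subgroup G) ≤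
          Subgroup.centralizer {(v : G)} ⊓ Subgroup.centralizer {y} := by
        intro w hw
        refine Subgroup.mem_inf.mpr ⟨?_, (Subgroup.mem_inf.mp hw).2⟩
        rw [Subgroup.mem_centralizer_singleton_iff]
        exact hcomm w hw _ hvM'
      have heq := Subgroup.eq_of_le_of_card_ge hle (by rw [hc, hcv])
      have hx' : (x : G) ∈ (Subgroup.centralizer {(v : G)} ⊓ Subgroup.centralizer {y} : Subgroup G) := by
        refine Subgroup.mem_inf.mpr ⟨?_, x.2⟩
        rw [Subgroup.mem_centralizer_singleton_iff] at hx ⊢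
        exact congrArg Subtype.val hx
      rw [← heq] at hx'
      exact (Subgroup.mem_inf.mp hx').1
    · -- h2ab
      intro Q hQ u hu v hv
      have hsq : ∀ w ∈ Q, w * w = 1 := by
        intro w hw
        apply Subtype.ext
        have hQ' : IsPGroup 2 (Q.map (Subgroup.centralizer {y}).subtype) := hQ.map _
        exact R.two_group_sq D.hq8' k hN hk _ hQ' (w : G) (Subgroup.mem_map_of_mem _ hw)
      exact comm_of_sq u v (hsq u hu) (hsq v hv) (hsq _ (mul_mem hu hv))
    · -- hno3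
      intro s hs
      by_contra hs1
      apply hy1
      have hq1 : 1 < q := by have := D.hq8; omega
      refine R.no_three q D.hq D.hcard D.h3q hq1 _ D.coprime_B y (s : G) hy (fun h => hs1 (Subtype.ext h)) ?_ ?_
      · have := congrArg Subtype.val hs
        simpa using this
      · exact (Subgroup.mem_centralizer_singleton_iff.mp s.2).symm
    · -- hMcomm
      intro u hu v hv
      rw [Subgroup.mem_subgroupOf] at hu hv
      apply Subtype.ext
      exact hcomm _ (Subgroup.mem_inf.mpr ⟨hu, u.2⟩) _ (Subgroup.mem_inf.mpr ⟨hv, v.2⟩)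
    · -- card
      rw [← Subgroup.inf_subgroupOf_right, Nat.card_congr (Subgroup.subgroupOfEquivOfLe inf_le_right).toEquiv,
        hc, D.hq]
      exact D.e4
  intro x hx
  have : (⟨x, hx⟩ : Subgroup.centralizer {y}) ∈
      (Subgroup.centralizer {R.a}).subgroupOf (Subgroup.centralizer {y}) := by
    rw [key]; exact Subgroup.mem_top _
  rw [Subgroup.mem_subgroupOf] at this
  exact this

theorem conj_ne_one {Γ : Type*} [Group Γ] (g y : Γ) (hy : y ≠ 1) : g⁻¹ * y * g ≠ 1 := by
  intro h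
  apply hy
  calc y = g * (g⁻¹ * y * g) * g⁻¹ := by group
    _ = 1 := by rw [h]; group

theorem conj_pow_eq_one {Γ : Type*} [Group Γ] (g y : Γ) (N : ℕ) (hy : y ^ N = 1) : (g⁻¹ * y * g) ^ N = 1 := by
  have := conj_pow (a := g⁻¹) (b := y) (i := N)
  rw [inv_inv] at this
  rw [this, hy, mul_one, inv_mul_cancel]

/-- **Step B**: the centraliser of a non-trivial element of order dividing `(q+1)/4` -/
theorem ReeData.tor_centralizer {q : ℕ} (D : R.ReeData q) (y : G) (hy1 : y ≠ 1)
    (hy : y ^ ((q + 1) / 4) = 1) :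
    Nat.card (Subgroup.centralizer {y}) = q + 1 ∧
      ∀ u ∈ Subgroup.centralizer {y}, ∀ v ∈ Subgroup.centralizer {y}, u * v = v * u := by
  have hev : 4 ∣ Fintype.card K + 1 := by have := D.hq8'; omega
  -- an element of prime order in `⟨y⟩`
  have ho1 : orderOf y ≠ 1 := fun h => hy1 (orderOf_eq_one_iff.mp h)
  have hoe : orderOf y ∣ (q + 1) / 4 := orderOf_dvd_of_pow_eq_one hy
  have hopos : 0 < orderOf y := by
    rcases Nat.eq_zero_or_pos (orderOf y) with h | h
    · rw [h, zero_dvd_iff] at hoe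
      have := D.hq8
      omega
    · exact h
  have hrp : (orderOf y).minFac.Prime := Nat.minFac_prime ho1
  have hro : (orderOf y).minFac ∣ orderOf y := Nat.minFac_dvd _
  have : Fact (orderOf y).minFac.Prime := ⟨hrp⟩
  have hr3 : (orderOf y).minFac ≠ 3 := by
    intro h
    rw [h] at hro
    exact D.not_three_dvd (dvd_trans hro hoe)
  obtain ⟨s, hs⟩ : ∃ s, q = s + 1 := ⟨q - 1, by have := D.hq8; omega⟩
  have hs0 : 0 < s := by have := D.hq8; omega
  have hrs : (orderOf y).minFac ∣ s + 2 := by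
    have h1 : (orderOf y).minFac ∣ 4 * ((q + 1) / 4) := dvd_mul_of_dvd_right (dvd_trans hro hoe) 4
    rw [← D.e4, hs] at h1
    exact h1
  obtain ⟨j, hj⟩ := hro
  have hjpos : 0 < j := by
    rcases Nat.eq_zero_or_pos j with h | h
    · rw [h, mul_zero] at hj; omega
    · exact h
  have hy0r : (y ^ j) ^ (orderOf y).minFac = 1 := by
    rw [← pow_mul, mul_comm, ← hj]; exact pow_orderOf_eq_one y
  have hy01 : y ^ j ≠ 1 := by
    intro h
    have h1 := orderOf_dvd_of_pow_eq_one h
    have h2 := Nat.le_of_dvd hjpos h1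
    have h3 : 2 ≤ (orderOf y).minFac := hrp.two_le
    nlinarith
  have hy0e : (y ^ j) ^ ((q + 1) / 4) = 1 := by
    rw [← pow_mul, mul_comm, pow_mul, hy, one_pow]
  have hcardG : Nat.card G = (s + 1) ^ 3 * s * ((s + 1) ^ 3 + 1) := by
    rw [D.hcard, hs, Nat.add_sub_cancel]
  obtain ⟨g, hg⟩ := R.exists_conj_mem_Ca s (by rw [D.hq, hs]) hcardG D.hodd hs0 _ hrs hr3 (y ^ j) hy0r
  have hA := D.centralizer_le_Ca _ hg (conj_ne_one g _ hy01) (conj_pow_eq_one g _ _ hy0e)
  have hpow : g⁻¹ * y ^ j * g = (g⁻¹ * y * g) ^ j := by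
    have := conj_pow (a := g⁻¹) (b := y) (i := j)
    rw [inv_inv] at this
    exact this.symm
  have hya : g⁻¹ * y * g ∈ Subgroup.centralizer {R.a} := by
    apply hA
    rw [Subgroup.mem_centralizer_singleton_iff, hpow, ← pow_succ, ← pow_succ']
  have hy1' := conj_ne_one g y hy1
  have hye' := conj_pow_eq_one g y _ hy
  have hA' := D.centralizer_le_Ca _ hya hy1' hye'
  obtain ⟨hc, hcomm, -⟩ :=
    R.tor_in_Ca D.hodd _ D.odd_e D.coprime_six D.coprime_card_sub hev _ hya hy1' hye'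
  rw [inf_eq_right.mpr hA'] at hc hcomm
  have hmap : Subgroup.centralizer {y} =
      (Subgroup.centralizer {g⁻¹ * y * g}).map (MulAut.conj g).toMonoidHom := centralizer_conj y g _ rfl
  rw [hmap]
  refine ⟨?_, ?_⟩
  · rw [Subgroup.card_map_of_injective (MulAut.conj g).injective, hc, D.hq]
  · rintro _ ⟨u, hu, rfl⟩ _ ⟨v, hv, rfl⟩
    rw [← map_mul, ← map_mul, hcomm u hu v hv]

/-- **Part B**: cyclic subgroups of order `(q+1)/4` -/
theorem ReeData.nonsplit_torus_centralizer {q : ℕ} (D : R.ReeData q) (hq27 : 27 ≤ q)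
    (H : Subgroup G) (hH : IsCyclic H) (hHc : Nat.card H = (q + 1) / 4) :
    (∀ u ∈ Subgroup.centralizer (H : Set G), ∀ v ∈ Subgroup.centralizer (H : Set G), u * v = v * u) ∧
      Nat.card (Subgroup.centralizer (H : Set G)) = q + 1 ∧
      (∀ x ∈ Subgroup.centralizer (H : Set G), orderOf x ≠ 4) ∧
      ∀ A : Subgroup G, A ≤ H → A ≠ ⊥ →
        Subgroup.centralizer (A : Set G) = Subgroup.centralizer (H : Set G) := by
  obtain ⟨k, hN, hk⟩ := D.two_part
  obtain ⟨y, hy1, hyN, hcent, hA⟩ := centralizer_pattern ((q + 1) / 4) (q + 1)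
    (fun y hy1 hy => D.tor_centralizer y hy1 hy) H hH hHc (by omega)
  obtain ⟨hc, hcomm⟩ := D.tor_centralizer y hy1 hyN
  refine ⟨?_, ?_, ?_, hA⟩
  · rw [hcent]; exact hcomm
  · rw [hcent]; exact hc
  · intro x _ hx
    have h4 : x ^ 4 = 1 := by rw [← hx]; exact pow_orderOf_eq_one x
    have h2 := R.sq_of_pow_four D.hq8' k hN hk x h4
    have h3 : orderOf x ∣ 2 := orderOf_dvd_of_pow_eq_one (by rw [pow_two]; exact h2)
    rw [hx] at h3
    omega

end RSys

end Cfsg.Agent.Lib.H12.ReeC
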