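import Cfsg.Agent.Lib.H12.ReeC4
import Cfsg.Agent.Lib.H12.ReeT2
import Cfsg.Agent.Lib.H12.ReeT7
import Cfsg.Agent.Lib.H29.ChevRee23
import Cfsg.Agent.S0215

/-!
# Ree groups `²G₂(q)`, `q ≥ 27`: centralisers of the cyclic subgroups of orders `(q-1)/2` and `(q+1)/4`
(helper12)
-/

set_option autoImplicit false
set_option linter.unusedSectionVars false
set_option linter.unusedSimpArgs false
set_option linter.unusedVariables false

namespace Cfsg.Agent.Lib.H12.ReeC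

open Cfsg.Lie Matrix Cfsg.Agent.Lib.H29.Chev Cfsg.Agent.Lib.H12.ReeT

section Ree

variable {K : Type*} [Field K] [CharP K 3] [Fintype K]

theorem reeRSys_torusFacts (m : ℕ) (hK : Fintype.card K = 3 ^ (2 * m + 1)) : (reeRSys m hK).TorusFacts := by
  refine ⟨?_, ?_⟩
  · intro z hz
    have h : reeTheta K m (z : K) ^ 3 * (z : K) = 1 := hz
    have h2 := chi2_eq_one m hK (z : K) z.ne_zero h
    apply Units.ext
    rw [Units.val_mul, Units.val_one, ← pow_two]
    exact h2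
  · intro z hz
    have h : reeTheta K m (z : K) ^ 3 * (z : K) ^ 2 = 1 := hz
    exact Units.ext (chi3_eq_one m hK (z : K) z.ne_zero h)

/-- the fusion of involutions in the Ree groups `²G₂(q)`, `q ≥ 27` -/
theorem reeRSys_fusion {m : ℕ} (hm : 1 ≤ m) (hK : Fintype.card K = 3 ^ (2 * m + 1)) :
    ∃ g : ↥(twistedG2 K (3 ^ m)), g * (reeRSys m hK).a * g⁻¹ ∈ (reeRSys m hK).T0 ∧
      g * (reeRSys m hK).a * g⁻¹ ≠ (reeRSys m hK).a := by
  have hfin : Finite ↥(Cfsg.Lie.twistedG2 K (3 ^ m)) := inferInstance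
  obtain ⟨k, hk1, hk2⟩ := ree_order_two_part (3 ^ (2 * m + 1)) (three_pow_mod_eight m)
  have hq : Fintype.card K % 8 = 3 := by rw [hK]; exact three_pow_mod_eight m
  have hN : Nat.card ↥(Cfsg.Lie.twistedG2 K (3 ^ m)) = 8 * k := by
    rw [card_twistedG2 m hK, ← hk1]
  by_contra hcon
  have hiso0 : ∀ g : ↥(Cfsg.Lie.twistedG2 K (3 ^ m)), g * (reeRSys m hK).a * g⁻¹ ∈ (reeRSys m hK).T0 →
      g * (reeRSys m hK).a * g⁻¹ = (reeRSys m hK).a := by
    intro g hg
    by_contra hne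
    exact hcon ⟨g, hg, hne⟩
  obtain ⟨P, hP⟩ := (reeRSys m hK).exists_sylow_eq_T0 hq k hN hk2
  have hord : orderOf (reeRSys m hK).a = 2 := by
    apply orderOf_eq_prime
    · rw [pow_two]; exact (reeRSys m hK).a_sq
    · exact (reeRSys m hK).a_ne_one
  have haP : (reeRSys m hK).a ∈ P := by
    show (reeRSys m hK).a ∈ (P : Subgroup _)
    rw [hP]; exact (reeRSys m hK).a_mem_T0
  have hiso : ∀ g : ↥(Cfsg.Lie.twistedG2 K (3 ^ m)), g * (reeRSys m hK).a * g⁻¹ ∈ P →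
      g * (reeRSys m hK).a * g⁻¹ = (reeRSys m hK).a := by
    intro g hg
    apply hiso0 g
    rw [← hP]; exact hg
  obtain ⟨Nn, hNn, hodd, hcomm⟩ := Cfsg.Agent.S0215.result P (reeRSys m hK).a hord haP hiso
  have hs := tw_simple_G2 m hK hm
  have hsimple := hs.1
  rcases hNn.eq_bot_or_eq_top with hb | ht
  · have hZc : (reeRSys m hK).a ∈ Subgroup.center ↥(Cfsg.Lie.twistedG2 K (3 ^ m)) := by
      rw [Subgroup.mem_center_iff]
      intro g
      have h1 := hcomm g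
      rw [hb, Subgroup.mem_bot] at h1
      calc g * (reeRSys m hK).a = ((reeRSys m hK).a * g * ((reeRSys m hK).a)⁻¹ * g⁻¹)⁻¹ *
            ((reeRSys m hK).a * g) := by group
        _ = (reeRSys m hK).a * g := by rw [h1, inv_one, one_mul]
    rw [center_eq_bot_of_simple hs.1 hs.2, Subgroup.mem_bot] at hZc
    exact (reeRSys m hK).a_ne_one hZc
  · rw [ht, Subgroup.card_top, hN] at hodd
    exact (Nat.not_odd_iff_even.mpr ⟨4 * k, by ring⟩) hodd

theorem reeRSys_data {m : ℕ} (hm : 1 ≤ m) (hK : Fintype.card K = 3 ^ (2 * m + 1)) :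
    (reeRSys m hK).ReeData (3 ^ (2 * m + 1)) where
  hq := hK
  hcard := card_twistedG2 m hK
  hq8 := three_pow_mod_eight m
  h3q := dvd_pow_self 3 (by omega)
  hZ := reeRSys_fusion hm hK

/-- **centralisers of the tori of the Ree groups** -/
theorem ree_tori_centralizers {m : ℕ} (hm : 1 ≤ m) (hK : Fintype.card K = 3 ^ (2 * m + 1))
    (H : Subgroup ↥(twistedG2 K (3 ^ m))) (hH : IsCyclic H) :
    (Nat.card H = (3 ^ (2 * m + 1) - 1) / 2 →
      IsCyclic ↥(Subgroup.centralizer (H : Set ↥(twistedG2 K (3 ^ m)))) ∧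
        Nat.card ↥(Subgroup.centralizer (H : Set ↥(twistedG2 K (3 ^ m)))) = 3 ^ (2 * m + 1) - 1 ∧
        ∀ A : Subgroup ↥(twistedG2 K (3 ^ m)), A ≤ H → A ≠ ⊥ →
          Subgroup.centralizer (A : Set ↥(twistedG2 K (3 ^ m))) = Subgroup.centralizer (H : Set ↥(twistedG2 K (3 ^ m)))) ∧
    (Nat.card H = (3 ^ (2 * m + 1) + 1) / 4 →
      IsMulCommutative ↥(Subgroup.centralizer (H : Set ↥(twistedG2 K (3 ^ m)))) ∧
        Nat.card ↥(Subgroup.centralizer (H : Set ↥(twistedG2 K (3 ^ m)))) = 3 ^ (2 * m + 1) + 1 ∧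
        (∀ x ∈ Subgroup.centralizer (H : Set ↥(twistedG2 K (3 ^ m))), orderOf x ≠ 4) ∧
        ∀ A : Subgroup ↥(twistedG2 K (3 ^ m)), A ≤ H → A ≠ ⊥ →
          Subgroup.centralizer (A : Set ↥(twistedG2 K (3 ^ m))) = Subgroup.centralizer (H : Set ↥(twistedG2 K (3 ^ m)))) := by
  have hfin : Finite ↥(Cfsg.Lie.twistedG2 K (3 ^ m)) := inferInstance
  have hq8 := three_pow_mod_eight m
  have hq27 : 27 ≤ 3 ^ (2 * m + 1) := by
    calc 27 = 3 ^ 3 := by norm_num
      _ ≤ 3 ^ (2 * m + 1) := Nat.pow_le_pow_right (by norm_num) (by omega)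
  refine ⟨fun hHc => ?_, fun hHc => ?_⟩
  · exact (reeRSys m hK).split_torus_centralizer (reeRSys_torusFacts m hK) _ hK (card_twistedG2 m hK)
      (by omega) (by omega) H hH hHc
  · obtain ⟨h1, h2, h3, h4⟩ := (reeRSys_data hm hK).nonsplit_torus_centralizer hq27 H hH hHc
    exact ⟨⟨⟨fun u v => Subtype.ext (h1 u.1 u.2 v.1 v.2)⟩⟩, h2, h3, h4⟩

end Ree

end Cfsg.Agent.Lib.H12.ReeC
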