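import Mathlib

/-!
# Arithmetic of `N = q² - q + 1` for the Ree groups (helper12)
-/

set_option autoImplicit false

namespace Cfsg.Agent.Lib.H12.ReeU

theorem N_eq (q : ℕ) (hq : 1 ≤ q) : q ^ 2 - q + 1 = q * (q - 1) + 1 := by
  obtain ⟨s, rfl⟩ : ∃ s, q = s + 1 := ⟨q - 1, by omega⟩
  have : (s + 1) ^ 2 = (s + 1) * s + (s + 1) := by ring
  rw [this]; simp

theorem cube_add_one (q : ℕ) (hq : 1 ≤ q) : q ^ 3 + 1 = (q + 1) * (q ^ 2 - q + 1) := by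
  rw [N_eq q hq]
  obtain ⟨s, rfl⟩ : ∃ s, q = s + 1 := ⟨q - 1, by omega⟩
  simp only [Nat.add_sub_cancel]
  ring

theorem N_odd (q : ℕ) (hq : 1 ≤ q) : ¬ 2 ∣ q ^ 2 - q + 1 := by
  rw [N_eq q hq]
  have h : 2 ∣ q * (q - 1) := by
    obtain ⟨s, rfl⟩ : ∃ s, q = s + 1 := ⟨q - 1, by omega⟩
    simp only [Nat.add_sub_cancel]
    exact (Nat.even_mul_pred_self (s + 1)).two_dvd
  omega

theorem N_not_three (q : ℕ) (hq : 1 ≤ q) (h3 : 3 ∣ q) : ¬ 3 ∣ q ^ 2 - q + 1 := by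
  rw [N_eq q hq]
  have h : 3 ∣ q * (q - 1) := Dvd.dvd.mul_right h3 _
  omega

theorem N_coprime_q (q : ℕ) (hq : 1 ≤ q) : Nat.Coprime (q ^ 2 - q + 1) q := by
  rw [N_eq q hq]
  have : Nat.Coprime (q * (q - 1) + 1) q := by
    rw [Nat.coprime_mul_left_add_left]
    exact Nat.coprime_one_left q
  exact this

theorem N_coprime_sub (q : ℕ) (hq : 1 ≤ q) : Nat.Coprime (q ^ 2 - q + 1) (q - 1) := by
  rw [N_eq q hq]
  have : Nat.Coprime (q * (q - 1) + 1) (q - 1) := by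
    rw [Nat.coprime_mul_right_add_left]
    exact Nat.coprime_one_left _
  exact this

theorem N_coprime_add (q : ℕ) (hq : 2 ≤ q) (h3 : 3 ∣ q) : Nat.Coprime (q ^ 2 - q + 1) (q + 1) := by
  apply Nat.coprime_of_dvd
  intro k hk h1 h2
  -- N = (q+1)(q-2) + 3
  have e : q ^ 2 - q + 1 = (q + 1) * (q - 2) + 3 := by
    rw [N_eq q (by omega)]
    obtain ⟨s, rfl⟩ : ∃ s, q = s + 2 := ⟨q - 2, by omega⟩
    simp only [Nat.add_sub_cancel]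
    have : s + 2 - 1 = s + 1 := by omega
    rw [this]; ring
  rw [e] at h1
  have h4 : k ∣ 3 := (Nat.dvd_add_right (Dvd.dvd.mul_right h2 _)).mp h1
  have h5 : k = 3 := (Nat.prime_dvd_prime_iff_eq hk Nat.prime_three).mp h4
  subst h5
  have : 3 ∣ 1 := (Nat.dvd_add_right h3).mp h2
  omega

theorem N_coprime_order (q : ℕ) (hq : 2 ≤ q) (h3 : 3 ∣ q) :
    Nat.Coprime (q ^ 2 - q + 1) (q ^ 3 * (q - 1) * (q + 1)) :=
  Nat.Coprime.mul_right (Nat.Coprime.mul_right (Nat.Coprime.pow_right 3 (N_coprime_q q (by omega)))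
    (N_coprime_sub q (by omega))) (N_coprime_add q hq h3)

/-- the order of the Ree group -/
theorem order_eq (q : ℕ) (hq : 1 ≤ q) :
    q ^ 3 * (q - 1) * (q ^ 3 + 1) = q ^ 3 * (q - 1) * (q + 1) * (q ^ 2 - q + 1) := by
  rw [cube_add_one q hq]; ring

theorem N_coprime_pow_sub (q : ℕ) (hq : 2 ≤ q) (h3 : 3 ∣ q) (j : ℕ) (h1 : 1 ≤ j) (h7 : j ≤ 7) (h6 : j ≠ 6) :
    Nat.Coprime (q ^ 2 - q + 1) (q ^ j - 1) := by
  have hq1 : 1 ≤ q := by omega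
  have hN := N_eq q hq1
  have c0 := N_coprime_q q hq1
  have c1 := N_coprime_sub q hq1
  have c2 := N_coprime_add q hq h3
  obtain ⟨s, rfl⟩ : ∃ s, q = s + 1 := ⟨q - 1, by omega⟩
  simp only [Nat.add_sub_cancel] at hN c1 ⊢
  have hjs : j = 1 ∨ j = 2 ∨ j = 3 ∨ j = 4 ∨ j = 5 ∨ j = 7 := by omega
  rcases hjs with rfl | rfl | rfl | rfl | rfl | rfl
  · rw [pow_one]; simpa using c1
  · have e : (s + 1) ^ 2 - 1 = s * (s + 1 + 1) := Nat.sub_eq_of_eq_add (by ring)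
    rw [e]
    exact Nat.Coprime.mul_right c1 c2
  · -- q³ - 1 + 2 = (q+1) N
    apply Nat.coprime_of_dvd
    intro k hk hk1 hk2
    have e : (s + 1) ^ 3 - 1 + 2 = (s + 1 + 1) * ((s + 1) ^ 2 - (s + 1) + 1) := by
      rw [hN]
      have : (s + 1) ^ 3 - 1 = s ^ 3 + 3 * s ^ 2 + 3 * s := Nat.sub_eq_of_eq_add (by ring)
      rw [this]; ring
    have h4 : k ∣ (s + 1) ^ 3 - 1 + 2 := by rw [e]; exact Dvd.dvd.mul_left hk1 _
    have h5 : k ∣ 2 := (Nat.dvd_add_right hk2).mp h4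
    have h6' : k = 2 := (Nat.prime_dvd_prime_iff_eq hk Nat.prime_two).mp h5
    subst h6'
    exact N_odd (s + 1) (by omega) hk1
  · -- q⁴ - 1 = (q² - 1)(q² + 1), q² + 1 = N + q
    have e : (s + 1) ^ 4 - 1 = (s * (s + 1 + 1)) * (((s + 1) ^ 2 - (s + 1) + 1) + (s + 1)) := by
      rw [hN]
      exact Nat.sub_eq_of_eq_add (by ring)
    rw [e]
    refine Nat.Coprime.mul_right (Nat.Coprime.mul_right c1 c2) ?_
    rw [Nat.coprime_self_add_right]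
    exact c0
  · -- q⁵ - 1 + q = N (q³ + q² - 1)
    apply Nat.coprime_of_dvd
    intro k hk hk1 hk2
    have e : (s + 1) ^ 5 - 1 + (s + 1) = ((s + 1) ^ 2 - (s + 1) + 1) * ((s + 1) ^ 3 + (s + 1) ^ 2 - 1) := by
      rw [hN]
      have e1 : (s + 1) ^ 5 - 1 = s ^ 5 + 5 * s ^ 4 + 10 * s ^ 3 + 10 * s ^ 2 + 5 * s := Nat.sub_eq_of_eq_add (by ring)
      have e2 : (s + 1) ^ 3 + (s + 1) ^ 2 - 1 = s ^ 3 + 4 * s ^ 2 + 5 * s + 1 := Nat.sub_eq_of_eq_add (by ring)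
      rw [e1, e2]; ring
    have h4 : k ∣ (s + 1) ^ 5 - 1 + (s + 1) := by rw [e]; exact Dvd.dvd.mul_right hk1 _
    have h5 : k ∣ s + 1 := (Nat.dvd_add_right hk2).mp h4
    exact (Nat.Prime.one_lt hk).ne' (Nat.eq_one_of_dvd_coprimes c0 hk1 h5)
  · -- q⁷ - 1 = N * (q (q³ - 1) (q + 1)) + (q - 1)
    apply Nat.coprime_of_dvd
    intro k hk hk1 hk2
    have e : (s + 1) ^ 7 - 1 = ((s + 1) ^ 2 - (s + 1) + 1) * ((s + 1) * ((s + 1) ^ 3 - 1) * (s + 1 + 1)) + s := by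
      rw [hN]
      have e2 : (s + 1) ^ 3 - 1 = s ^ 3 + 3 * s ^ 2 + 3 * s := Nat.sub_eq_of_eq_add (by ring)
      rw [e2]
      exact Nat.sub_eq_of_eq_add (by ring)
    rw [e] at hk2
    have h5 : k ∣ s := (Nat.dvd_add_right (Dvd.dvd.mul_right hk1 _)).mp hk2
    exact (Nat.Prime.one_lt hk).ne' (Nat.eq_one_of_dvd_coprimes c1 hk1 h5)

theorem N_dvd_pow_six (q : ℕ) (hq : 1 ≤ q) : q ^ 2 - q + 1 ∣ q ^ 6 - 1 := by
  have e : q ^ 6 - 1 = (q ^ 3 - 1) * (q ^ 3 + 1) := by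
    have h1 : 1 ≤ q ^ 3 := Nat.one_le_pow _ _ hq
    obtain ⟨t, ht⟩ : ∃ t, q ^ 3 = t + 1 := ⟨q ^ 3 - 1, by omega⟩
    have : q ^ 6 = (q ^ 3) ^ 2 := by ring
    rw [this, ht]
    simp only [Nat.add_sub_cancel]
    exact Nat.sub_eq_of_eq_add (by ring)
  rw [e, cube_add_one q hq]
  exact Dvd.dvd.mul_left (Dvd.intro_left _ rfl) _

/-- the prime divisors of `N` are at least `7` -/
theorem seven_le_of_dvd_N (q : ℕ) (hq : 1 ≤ q) (h3 : 3 ∣ q) (a : ℕ) (ha : a ∣ q ^ 2 - q + 1) (ha1 : a ≠ 1) :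
    7 ≤ a := by
  have hN := N_eq q hq
  have hapos : 0 < a := Nat.pos_of_dvd_of_pos ha (by omega)
  have h2 : ¬ 2 ∣ a := fun h => N_odd q hq (h.trans ha)
  have h3' : ¬ 3 ∣ a := fun h => N_not_three q hq h3 (h.trans ha)
  have h5 : ¬ 5 ∣ a := by
    intro h
    have h5N : 5 ∣ q ^ 2 - q + 1 := h.trans ha
    rw [hN] at h5N
    obtain ⟨s, rfl⟩ : ∃ s, q = s + 1 := ⟨q - 1, by omega⟩
    simp only [Nat.add_sub_cancel] at h5N
    have : ((s + 1) * s + 1) % 5 = 0 := Nat.mod_eq_zero_of_dvd h5N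
    have hs : s % 5 = 0 ∨ s % 5 = 1 ∨ s % 5 = 2 ∨ s % 5 = 3 ∨ s % 5 = 4 := by omega
    rcases hs with h | h | h | h | h <;>
    · rw [Nat.add_mod, Nat.mul_mod, Nat.add_mod s 1, h] at this
      norm_num at this
  by_contra hlt
  have : a = 2 ∨ a = 3 ∨ a = 4 ∨ a = 5 ∨ a = 6 := by omega
  rcases this with rfl | rfl | rfl | rfl | rfl
  · exact h2 (dvd_refl 2)
  · exact h3' (dvd_refl 3)
  · exact h2 ⟨2, rfl⟩
  · exact h5 (dvd_refl 5)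
  · exact h2 ⟨3, rfl⟩

end Cfsg.Agent.Lib.H12.ReeU
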