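import Cfsg.Agent.Lib.H12.ReeT7
import Cfsg.Agent.Lib.H12.ReeT2
import Cfsg.Agent.Lib.H12.ReeU1

/-!
# Ree groups: the centraliser of an element of order dividing `N = q² - q + 1` has order dividing `N` (helper12)
-/

set_option autoImplicit false
set_option linter.unusedSectionVars false
set_option linter.unusedVariables false

namespace Cfsg.Agent.Lib.H12.ReeC

open Cfsg.Agent.Lib.H12.ReeT Cfsg.Agent.Lib.H12.ReeU

/-- an element of a subgroup of order `c` with `x ^ N = 1`, `N` prime to `c`, is trivial -/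
theorem eq_one_of_mem_of_coprime {Γ : Type*} [Group Γ] (S : Subgroup Γ) [Finite S] (x : Γ) (hx : x ∈ S) (c : ℕ)
    (hc : Nat.card S = c) (N : ℕ) (hxN : x ^ N = 1) (hcop : Nat.Coprime N c) : x = 1 := by
  have h1 : (⟨x, hx⟩ : S) ^ c = 1 := by rw [← hc]; exact pow_card_eq_one'
  have h2 : x ^ c = 1 := by
    have := congrArg Subtype.val h1
    simpa using this
  have h3 := pow_gcd_eq_one.mpr ⟨hxN, h2⟩
  rwa [Nat.Coprime.gcd_eq_one hcop, pow_one] at h3

/-- an element of prime order `s` has `t ^ m = 1` for every multiple `m` of `s` -/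
theorem pow_eq_one_of_dvd' {Γ : Type*} [Group Γ] (t : Γ) (s m : ℕ) (ht : t ^ s = 1) (hsm : s ∣ m) : t ^ m = 1 := by
  obtain ⟨j, rfl⟩ := hsm
  rw [pow_mul, ht, one_pow]

namespace RSys

variable {G K : Type*} [Group G] [Field K] {R : RSys G K} [Fintype K] [Finite G]

/-- `q` is a power of three -/
theorem ReeData.prime_dvd_q {q : ℕ} (D : R.ReeData q) (s : ℕ) (hs : s.Prime) (hsq : s ∣ q) : s = 3 := by
  obtain ⟨p, hp⟩ := CharP.exists K
  have := hp
  obtain ⟨n, hpr, hn⟩ := FiniteField.card K p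
  rw [D.hq] at hn
  have h3 : 3 ∣ p ^ (n : ℕ) := by rw [← hn]; exact D.h3q
  have h3p : 3 = p := (Nat.prime_dvd_prime_iff_eq Nat.prime_three hpr).mp (Nat.prime_three.dvd_of_dvd_pow h3)
  subst h3p
  rw [hn] at hsq
  exact (Nat.prime_dvd_prime_iff_eq hs Nat.prime_three).mp (hs.dvd_of_dvd_pow hsq)

theorem ReeData.three_le {q : ℕ} (D : R.ReeData q) : 3 ≤ q := by
  have := D.hq8; omega

theorem ReeData.card_eq {q : ℕ} (D : R.ReeData q) :
    Nat.card G = q ^ 3 * (q - 1) * (q + 1) * (q ^ 2 - q + 1) := by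
  rw [D.hcard, order_eq q (by have := D.three_le; omega)]

/-- **Step 1**: the centraliser of a non-trivial element of order dividing `N = q² - q + 1` has order
dividing `N` -/
theorem ReeData.card_centralizer_dvd_N {q : ℕ} (D : R.ReeData q) (hF : R.TorusFacts) (x : G) (hx1 : x ≠ 1)
    (hx : x ^ (q ^ 2 - q + 1) = 1) : Nat.card (Subgroup.centralizer {x}) ∣ q ^ 2 - q + 1 := by
  have hq3 := D.three_le
  have hq8 := D.hq8
  have hdvd : Nat.card (Subgroup.centralizer {x}) ∣ q ^ 3 * (q - 1) * (q + 1) * (q ^ 2 - q + 1) := by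
    rw [← D.card_eq]; exact Subgroup.card_subgroup_dvd_card _
  refine Nat.Coprime.dvd_of_dvd_mul_left ?_ hdvd
  apply Nat.coprime_of_dvd
  intro s hs hs1 hs2
  have : Fact s.Prime := ⟨hs⟩
  obtain ⟨⟨t, htC⟩, hto⟩ := exists_prime_orderOf_dvd_card' s hs1
  have hto' : orderOf t = s := by
    rw [← hto]; exact (Subgroup.orderOf_mk t htC).symm
  have ht1 : t ≠ 1 := by
    intro h; rw [h, orderOf_one] at hto'; exact hs.one_lt.ne hto'
  have hts : t ^ s = 1 := by rw [← hto']; exact pow_orderOf_eq_one t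
  have htx : t * x = x * t := Subgroup.mem_centralizer_singleton_iff.mp htC
  have hxCt : x ∈ Subgroup.centralizer {t} := Subgroup.mem_centralizer_singleton_iff.mpr htx.symm
  have hcases : s ∣ q ∨ s ∣ q - 1 ∨ s ∣ q + 1 := by
    rcases (Nat.Prime.dvd_mul hs).mp hs2 with h | h
    · rcases (Nat.Prime.dvd_mul hs).mp h with h' | h'
      · exact Or.inl (hs.dvd_of_dvd_pow h')
      · exact Or.inr (Or.inl h')
    · exact Or.inr (Or.inr h)
  by_cases h2 : s = 2
  · -- an involution
    subst h2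
    obtain ⟨k, hN, hk⟩ := D.two_part
    obtain ⟨g, hg⟩ := R.involution_conj D.hq8' k hN hk D.hZ t ht1 (by rw [← pow_two]; exact hts)
    have hxa : g⁻¹ * x * g ∈ Subgroup.centralizer {R.a} := by
      rw [Subgroup.mem_centralizer_singleton_iff]
      calc g⁻¹ * x * g * R.a = g⁻¹ * (x * (g * R.a * g⁻¹)) * g := by group
        _ = g⁻¹ * ((g * R.a * g⁻¹) * x) * g := by rw [hg, htx]
        _ = R.a * (g⁻¹ * x * g) := by group
    have hcop : Nat.Coprime (q ^ 2 - q + 1) (Fintype.card K * (Fintype.card K ^ 2 - 1)) := by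
      rw [D.hq]
      have e : q ^ 2 - 1 = (q - 1) * (q + 1) := by
        obtain ⟨u, rfl⟩ : ∃ u, q = u + 1 := ⟨q - 1, by omega⟩
        simp only [Nat.add_sub_cancel]
        exact Nat.sub_eq_of_eq_add (by ring)
      rw [e]
      exact Nat.Coprime.mul_right (N_coprime_q q (by omega))
        (Nat.Coprime.mul_right (N_coprime_sub q (by omega)) (N_coprime_add q (by omega) D.h3q))
    have h1 := eq_one_of_mem_of_coprime _ _ hxa _ (R.card_centralizer_a D.hodd) _
      (conj_pow_eq_one g x _ hx) hcop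
    exact conj_ne_one g x hx1 h1
  · have hsodd : Nat.Coprime s 2 := (Nat.coprime_primes hs Nat.prime_two).mpr h2
    rcases hcases with h | h | h
    · -- `s = 3`
      have h3 := D.prime_dvd_q s hs h
      subst h3
      have hcop : Nat.Coprime (q ^ 2 - q + 1) (q ^ 3 * (q - 1)) :=
        Nat.Coprime.mul_right (Nat.Coprime.pow_right 3 (N_coprime_q q (by omega))) (N_coprime_sub q (by omega))
      exact hx1 (R.no_three q D.hq D.hcard D.h3q (by omega) _ hcop x t hx ht1 hts htx.symm)
    · -- `s ∣ (q - 1) / 2`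
      have hq4 : q % 4 = 3 := by omega
      have e : q - 1 = (q - 1) / 2 * 2 := by omega
      have hs' : s ∣ (q - 1) / 2 := by
        rw [e] at h
        exact (Nat.Coprime.dvd_mul_right hsodd).mp h
      obtain ⟨g, hg⟩ := R.centralizer_of_pow_half hF q D.hq D.hcard hq4 t ht1 (pow_eq_one_of_dvd' t s _ hts hs')
      rw [hg] at hxCt
      have h1 := eq_one_of_mem_of_coprime _ _ hxCt _ (R.card_Hs_map g) _ hx
        (by rw [D.hq]; exact N_coprime_sub q (by omega))
      exact hx1 h1
    · -- `s ∣ (q + 1) / 4`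
      have e : q + 1 = (q + 1) / 4 * 4 := by omega
      have hs4 : Nat.Coprime s 4 := by
        have : (4 : ℕ) = 2 ^ 2 := by norm_num
        rw [this]; exact Nat.Coprime.pow_right 2 hsodd
      have hs' : s ∣ (q + 1) / 4 := by
        rw [e] at h
        exact (Nat.Coprime.dvd_mul_right hs4).mp h
      obtain ⟨hc, -⟩ := D.tor_centralizer t ht1 (pow_eq_one_of_dvd' t s _ hts hs')
      have h1 := eq_one_of_mem_of_coprime _ _ hxCt _ hc _ hx (N_coprime_add q (by omega) D.h3q)
      exact hx1 h1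

end RSys

end Cfsg.Agent.Lib.H12.ReeC
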