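import Cfsg.Agent.Lib.H12.ReeU2
import Cfsg.Agent.Lib.H5.ReeA2
import Cfsg.Agent.Lib.H17.ReeA1

/-!
# Ree groups: the centralisers `C(x)`, `x^N = 1`, `N = q² - q + 1`, are cyclic Hall TI-subgroups (helper12)
-/

set_option autoImplicit false
set_option linter.unusedSectionVars false
set_option linter.unusedVariables false

namespace Cfsg.Agent.Lib.H12.ReeC

open Cfsg.Agent.Lib.H12.ReeT Cfsg.Agent.Lib.H12.ReeU
open scoped MatrixGroups

/-- elements of a cyclic subgroup commute -/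
theorem comm_of_isCyclic {Γ : Type*} [Group Γ] (H : Subgroup Γ) [hH : IsCyclic H] (u v : Γ) (hu : u ∈ H)
    (hv : v ∈ H) : u * v = v * u := by
  obtain ⟨g, hg⟩ := IsCyclic.exists_generator (α := H)
  obtain ⟨k, hk⟩ := Subgroup.mem_zpowers_iff.mp (hg ⟨u, hu⟩)
  obtain ⟨l, hl⟩ := Subgroup.mem_zpowers_iff.mp (hg ⟨v, hv⟩)
  have h1 : (⟨u, hu⟩ : H) * ⟨v, hv⟩ = ⟨v, hv⟩ * ⟨u, hu⟩ := by
    rw [← hk, ← hl, ← zpow_add, ← zpow_add, add_comm]
  exact congrArg Subtype.val h1

/-- a subgroup is cyclic if its image under an injective homomorphism is -/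
theorem isCyclic_of_map {Γ Δ : Type*} [Group Γ] [Group Δ] (f : Γ →* Δ) (hf : Function.Injective f) (H : Subgroup Γ)
    (h : IsCyclic (H.map f)) : IsCyclic H := by
  apply isCyclic_of_injective (f.subgroupMap H)
  intro a b hab
  have h1 : f a.1 = f b.1 := congrArg Subtype.val hab
  exact Subtype.ext (hf h1)

namespace RSys

variable {G K : Type*} [Group G] [Field K] {R : RSys G K} [Fintype K] [Finite G]

/-- **Step 2a**: `C(x)` is commutative -/
theorem ReeData.centralizer_comm_N {q : ℕ} (D : R.ReeData q) (ρ : G →* GL (Fin 7) K) (hρ : Function.Injective ρ)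
    (x : G) (hx1 : x ≠ 1) (hx : x ^ (q ^ 2 - q + 1) = 1) (u v : G) (hu : u ∈ Subgroup.centralizer {x})
    (hv : v ∈ Subgroup.centralizer {x}) : u * v = v * u := by
  have hq3 := D.three_le
  apply hρ
  rw [map_mul, map_mul]
  apply Cfsg.Agent.Lib.H5.Ree.commute_of_commute_GL7 (q ^ 2 - q + 1) _ _ (ρ x)
  · rw [← map_pow, hx, map_one]
  · intro h
    apply hx1
    apply hρ
    rw [h, map_one]
  · rw [← map_mul, ← map_mul, Subgroup.mem_centralizer_singleton_iff.mp hu]
  · rw [← map_mul, ← map_mul, Subgroup.mem_centralizer_singleton_iff.mp hv]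
  · rw [D.hq]; exact N_coprime_q q (by omega)
  · intro j h1 h5
    rw [D.hq]; exact N_coprime_pow_sub q (by omega) D.h3q j h1 (by omega) (by omega)

theorem ReeData.pow_N_of_mem {q : ℕ} (D : R.ReeData q) (hF : R.TorusFacts) (x : G) (hx1 : x ≠ 1)
    (hx : x ^ (q ^ 2 - q + 1) = 1) (y : G) (hy : y ∈ Subgroup.centralizer {x}) : y ^ (q ^ 2 - q + 1) = 1 := by
  have h1 : (⟨y, hy⟩ : Subgroup.centralizer {x}) ^ Nat.card (Subgroup.centralizer {x}) = 1 := pow_card_eq_one'
  have h2 : y ^ Nat.card (Subgroup.centralizer {x}) = 1 := by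
    have h3 := congrArg Subtype.val h1
    rw [Subgroup.coe_pow, Subgroup.coe_one] at h3
    exact h3
  exact pow_eq_one_of_dvd' y _ _ h2 (D.card_centralizer_dvd_N hF x hx1 hx)

/-- **Step 2b**: `C(y) = C(x)` for `y ∈ C(x)`, `y ≠ 1` -/
theorem ReeData.centralizer_eq_of_mem {q : ℕ} (D : R.ReeData q) (hF : R.TorusFacts) (ρ : G →* GL (Fin 7) K)
    (hρ : Function.Injective ρ) (x : G) (hx1 : x ≠ 1) (hx : x ^ (q ^ 2 - q + 1) = 1) (y : G)
    (hy : y ∈ Subgroup.centralizer {x}) (hy1 : y ≠ 1) : Subgroup.centralizer {y} = Subgroup.centralizer {x} := by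
  have hyN := D.pow_N_of_mem hF x hx1 hx y hy
  have hxy : x ∈ Subgroup.centralizer {y} :=
    Subgroup.mem_centralizer_singleton_iff.mpr (Subgroup.mem_centralizer_singleton_iff.mp hy).symm
  ext u
  constructor
  · intro hu
    rw [Subgroup.mem_centralizer_singleton_iff]
    exact D.centralizer_comm_N ρ hρ y hy1 hyN u x hu hxy
  · intro hu
    rw [Subgroup.mem_centralizer_singleton_iff]
    exact D.centralizer_comm_N ρ hρ x hx1 hx u y hu hy

/-- **Step 2c**: `C(x)` is cyclic -/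
theorem ReeData.isCyclic_centralizer_N {q : ℕ} (D : R.ReeData q) (hF : R.TorusFacts) (ρ : G →* GL (Fin 7) K)
    (hρ : Function.Injective ρ) (x : G) (hx1 : x ≠ 1) (hx : x ^ (q ^ 2 - q + 1) = 1) :
    IsCyclic (Subgroup.centralizer {x}) := by
  have hq3 := D.three_le
  apply isCyclic_of_map ρ hρ
  have hcard : Nat.card ((Subgroup.centralizer {x}).map ρ) ∣ q ^ 2 - q + 1 := by
    rw [Subgroup.card_map_of_injective hρ]
    exact D.card_centralizer_dvd_N hF x hx1 hx
  apply Cfsg.Agent.Lib.H17.Ree.isCyclic_of_comm_GL7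
  · rintro _ ⟨u, hu, rfl⟩ _ ⟨v, hv, rfl⟩
    rw [← map_mul, ← map_mul, D.centralizer_comm_N ρ hρ x hx1 hx u v hu hv]
  · rw [D.hq]
    exact Nat.Coprime.coprime_dvd_left hcard (N_coprime_q q (by omega))
  · intro j h1 h7 h6
    rw [D.hq]
    exact Nat.Coprime.coprime_dvd_left hcard (N_coprime_pow_sub q (by omega) D.h3q j h1 h7 h6)

/-- **Step 2d**: `C(x)` is a TI-subgroup -/
theorem ReeData.mem_normalizer_of_conj_mem {q : ℕ} (D : R.ReeData q) (hF : R.TorusFacts) (ρ : G →* GL (Fin 7) K)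
    (hρ : Function.Injective ρ) (x : G) (hx1 : x ≠ 1) (hx : x ^ (q ^ 2 - q + 1) = 1) (g y : G)
    (hy : y ∈ Subgroup.centralizer {x}) (hy1 : y ≠ 1) (hgy : g * y * g⁻¹ ∈ Subgroup.centralizer {x}) :
    g ∈ Subgroup.normalizer (Subgroup.centralizer {x} : Set G) := by
  have h1 := D.centralizer_eq_of_mem hF ρ hρ x hx1 hx y hy hy1
  have hgy1 : g * y * g⁻¹ ≠ 1 := by
    have := conj_ne_one g⁻¹ y hy1
    rwa [inv_inv] at this
  have h2 := D.centralizer_eq_of_mem hF ρ hρ x hx1 hx _ hgy hgy1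
  have h3 : Subgroup.centralizer {g⁻¹ * (g * y * g⁻¹) * g} = Subgroup.centralizer {x} := by
    have : g⁻¹ * (g * y * g⁻¹) * g = y := by group
    rw [this, h1]
  have h4 := centralizer_conj (g * y * g⁻¹) g _ h3
  rw [h2] at h4
  -- `C(x) = g C(x) g⁻¹`
  rw [Subgroup.mem_normalizer_iff]
  intro h
  constructor
  · intro hh
    rw [h4]
    exact ⟨h, hh, rfl⟩
  · intro hh
    rw [h4] at hh
    obtain ⟨h', hh', he⟩ := hh
    have : h' = h := by
      have e1 : g * h' * g⁻¹ = g * h * g⁻¹ := he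
      have e2 : g⁻¹ * (g * h' * g⁻¹) * g = g⁻¹ * (g * h * g⁻¹) * g := by rw [e1]
      have e3 : g⁻¹ * (g * h' * g⁻¹) * g = h' := by group
      have e4 : g⁻¹ * (g * h * g⁻¹) * g = h := by group
      rw [e3, e4] at e2
      exact e2
    rw [← this]; exact hh'

/-- **Step 2e**: `C(x)` is a Hall subgroup: it contains a Sylow `p`-subgroup of `G` for every prime `p` dividing its
order -/
theorem ReeData.exists_sylow_le {q : ℕ} (D : R.ReeData q) (hF : R.TorusFacts) (ρ : G →* GL (Fin 7) K)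
    (hρ : Function.Injective ρ) (x : G) (hx1 : x ≠ 1) (hx : x ^ (q ^ 2 - q + 1) = 1) (p : ℕ) [Fact p.Prime]
    (hp : p ∣ Nat.card (Subgroup.centralizer {x})) :
    ∃ P : Sylow p G, (P : Subgroup G) ≤ Subgroup.centralizer {x} := by
  have hq3 := D.three_le
  have hpN : p ∣ q ^ 2 - q + 1 := hp.trans (D.card_centralizer_dvd_N hF x hx1 hx)
  obtain ⟨⟨y, hyC⟩, hyo⟩ := exists_prime_orderOf_dvd_card' p hp
  have hyo' : orderOf y = p := by
    rw [← hyo]; exact (Subgroup.orderOf_mk y hyC).symm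
  have hpp : p.Prime := Fact.out
  have hy1 : y ≠ 1 := by
    intro h; rw [h, orderOf_one] at hyo'; exact hpp.one_lt.ne hyo'
  have hyp : y ^ (p ^ 1) = 1 := by rw [pow_one, ← hyo']; exact pow_orderOf_eq_one y
  obtain ⟨P, hP⟩ := (isPGroup_zpowers p 1 y hyp).exists_le_sylow
  have hyP : y ∈ (P : Subgroup G) := hP (Subgroup.mem_zpowers y)
  have hcyc : IsCyclic (P : Subgroup G) := by
    apply isCyclic_of_map ρ hρ
    apply Cfsg.Agent.Lib.H17.Ree.isCyclic_of_isPGroup_GL7 p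
    · rw [D.hq]
      intro h
      have := Nat.eq_one_of_dvd_coprimes (N_coprime_q q (by omega)) hpN h
      exact hpp.one_lt.ne' this
    · intro j h1 h7 h6 h
      rw [D.hq] at h
      have := Nat.eq_one_of_dvd_coprimes (N_coprime_pow_sub q (by omega) D.h3q j h1 h7 h6) hpN h
      exact hpp.one_lt.ne' this
    · exact P.isPGroup'.map ρ
  refine ⟨P, ?_⟩
  intro u hu
  rw [← D.centralizer_eq_of_mem hF ρ hρ x hx1 hx y hyC hy1, Subgroup.mem_centralizer_singleton_iff]
  exact comm_of_isCyclic (P : Subgroup G) u y hu hyP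

end RSys

end Cfsg.Agent.Lib.H12.ReeC
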