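import Cfsg.Agent.Lib.H12.ReeT7
import Cfsg.Agent.Lib.H12.ReeU3

/-!
# Ree groups: the cyclic subgroups of order `(q+1)/4` (helper12)
-/

set_option autoImplicit false
set_option linter.unusedSectionVars false
set_option linter.unusedSimpArgs false
set_option linter.unusedVariables false

namespace Cfsg.Agent.Lib.H12.ReeT

open Matrix

section PSL

variable {F : Type*} [Field F]

local notation "SL2" => Matrix.SpecialLinearGroup (Fin 2) F
local notation "M2" => Matrix (Fin 2) (Fin 2) F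
local notation "PSL2" => Matrix.ProjectiveSpecialLinearGroup (Fin 2) F

/-- the centraliser in `PSL₂` of the image of an element of odd order of `SL₂` -/
theorem psl2_centralizer_map (e : ℕ) (he : Odd e) (g : SL2) (hg : g ^ e = 1) :
    Subgroup.centralizer ({(QuotientGroup.mk g : PSL2)} : Set PSL2) =
      (Subgroup.centralizer ({g} : Set SL2)).map (QuotientGroup.mk' (Subgroup.center SL2)) := by
  ext u
  rw [Subgroup.mem_centralizer_singleton_iff, Subgroup.mem_map]
  constructor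
  · intro hu
    obtain ⟨x, rfl⟩ := QuotientGroup.mk_surjective u
    refine ⟨x, ?_, rfl⟩
    rw [Subgroup.mem_centralizer_singleton_iff]
    rw [← QuotientGroup.mk_mul, ← QuotientGroup.mk_mul, QuotientGroup.eq] at hu
    set c := (x * g)⁻¹ * (g * x) with hcdef
    have hc2 := center_sq c hu
    have hcomm : ∀ z : SL2, c * z = z * c := fun z => (Subgroup.mem_center_iff.mp hu z).symm
    have h1 : x⁻¹ * g * x = g * c := by
      rw [hcdef]; group
    have h2 : (g * c) ^ e = 1 := by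
      rw [← h1]
      have := conj_pow (a := x⁻¹) (b := g) (i := e)
      rw [inv_inv] at this
      rw [this, hg, mul_one, inv_mul_cancel]
    have h3 : (g * c) ^ e = g ^ e * c ^ e := Commute.mul_pow (hcomm g).symm e
    rw [h3, hg, one_mul] at h2
    have hc1 : c = 1 := odd_pow_sq' he hc2 h2
    rw [hc1, mul_one] at h1
    calc x * g = x * (x⁻¹ * g * x) := by rw [h1]
      _ = g * x := by group
  · rintro ⟨x, hx, rfl⟩
    rw [Subgroup.mem_centralizer_singleton_iff] at hx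
    show (QuotientGroup.mk x : PSL2) * QuotientGroup.mk g = QuotientGroup.mk g * QuotientGroup.mk x
    rw [← QuotientGroup.mk_mul, ← QuotientGroup.mk_mul, hx]

/-- the centraliser in `PSL₂(q)` of an element of order prime to `6 (q - 1)` is cyclic -/
theorem psl2_tor_cyclic [Fintype F] (hodd : Odd (Fintype.card F)) (h3 : (3 : F) = 0) (e : ℕ)
    (he : Odd e) (he6 : Nat.Coprime e 6) (heq : Nat.Coprime e (Fintype.card F - 1)) (y : PSL2)
    (hy1 : y ≠ 1) (hy : y ^ e = 1) : IsCyclic (Subgroup.centralizer ({y} : Set PSL2)) := by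
  obtain ⟨g, rfl, hg⟩ := exists_lift_pow e he y hy
  have hg1 : g ≠ 1 := by
    rintro rfl
    exact hy1 rfl
  obtain ⟨ht, -⟩ := sl2_tor_centralizer hodd h3 e he6 heq g hg1 hg
  obtain ⟨hcyc, -, -⟩ := Cfsg.Agent.Lib.H12.regular_centralizer hodd g ht
  rw [psl2_centralizer_map e he g hg]
  exact isCyclic_of_surjective _ (MonoidHom.subgroupMap_surjective _ _)

end PSL

end Cfsg.Agent.Lib.H12.ReeT

namespace Cfsg.Agent.Lib.H12.ReeC

open Cfsg.Agent.Lib.H12.ReeT Cfsg.Agent.Lib.H12.ReeU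

namespace RSys

variable {G K : Type*} [Group G] [Field K] {R : RSys G K} [Fintype K] [Finite G]

local notation "SL2" => Matrix.SpecialLinearGroup (Fin 2) K
local notation "PSL2" => Matrix.ProjectiveSpecialLinearGroup (Fin 2) K

/-- the cyclic subgroup of order `(q+1)/4` in the centraliser of `y ∈ C(a)`, `y ^ ((q+1)/4) = 1` -/
theorem ReeData.tor_cyclic_Ca {q : ℕ} (D : R.ReeData q) (y : G) (hya : y ∈ Subgroup.centralizer {R.a})
    (hy1 : y ≠ 1) (hy : y ^ ((q + 1) / 4) = 1) :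
    ∃ A₀ : Subgroup G, IsCyclic A₀ ∧ Nat.card A₀ = (q + 1) / 4 ∧ A₀ ≤ Subgroup.centralizer {y} ∧
      ∀ u ∈ Subgroup.centralizer {y}, u ^ ((q + 1) / 4) = 1 → u ∈ A₀ := by
  have hA := D.centralizer_le_Ca y hya hy1 hy
  have he := D.odd_e
  have he4 := D.e4
  have hepos : 0 < (q + 1) / 4 := by have := D.hq8; omega
  obtain ⟨ε, yb, rfl⟩ := R.mem_centralizer_a y hya
  rw [R.Phi_pow] at hy
  have hy' : ((ε ^ ((q + 1) / 4), yb ^ ((q + 1) / 4)) : Multiplicative (ZMod 2) × PSL2) = 1 :=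
    R.Phi_injective (by rw [hy, map_one])
  rw [Prod.mk_eq_one] at hy'
  have hε : ε = 1 := odd_pow_sq' he (z2_sq ε) hy'.1
  subst hε
  have hyb1 : yb ≠ 1 := by
    rintro rfl
    exact hy1 (map_one _)
  have hcyc := psl2_tor_cyclic D.hodd R.three _ he D.coprime_six D.coprime_card_sub yb hyb1 hy'.2
  obtain ⟨hc, -⟩ := psl2_tor_centralizer D.hodd R.three _ he D.coprime_six D.coprime_card_sub yb hyb1 hy'.2
  obtain ⟨cb, hcb⟩ := (Subgroup.isCyclic_iff_exists_zpowers_eq_top _).mp hcyc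
  have hord : orderOf cb = 2 * ((q + 1) / 4) := by
    rw [← Nat.card_zpowers, hcb]
    rw [D.hq] at hc
    omega
  have hCy : Subgroup.centralizer {R.Phi (1, yb)} = R.S0 (Subgroup.centralizer {yb}) := by
    rw [← R.centralizer_inf_eq_S0, inf_eq_right.mpr hA]
  have hcbC : cb ∈ Subgroup.centralizer ({yb} : Set PSL2) := by rw [← hcb]; exact Subgroup.mem_zpowers cb
  refine ⟨Subgroup.zpowers (R.Phi (1, cb ^ 2)), inferInstance, ?_, ?_, ?_⟩
  · rw [Nat.card_zpowers]
    have h1 : orderOf (R.Phi (1, cb ^ 2)) = orderOf ((1, cb ^ 2) : Multiplicative (ZMod 2) × PSL2) :=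
      orderOf_injective R.Phi R.Phi_injective _
    rw [h1, Prod.orderOf_mk, orderOf_one, Nat.lcm_one_left, orderOf_pow' cb (by norm_num), hord]
    have : Nat.gcd (2 * ((q + 1) / 4)) 2 = 2 := Nat.gcd_eq_right (Dvd.intro _ rfl)
    rw [this]
    omega
  · rw [Subgroup.zpowers_le, hCy, R.mem_S0]
    exact ⟨1, cb ^ 2, Subgroup.pow_mem _ hcbC 2, rfl⟩
  · intro u hu hue
    rw [hCy, R.mem_S0] at hu
    obtain ⟨ε', ub, hub, rfl⟩ := hu
    rw [R.Phi_pow] at hue
    have hue' : ((ε' ^ ((q + 1) / 4), ub ^ ((q + 1) / 4)) : Multiplicative (ZMod 2) × PSL2) = 1 :=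
      R.Phi_injective (by rw [hue, map_one])
    rw [Prod.mk_eq_one] at hue'
    have hε' : ε' = 1 := odd_pow_sq' he (z2_sq ε') hue'.1
    subst hε'
    rw [← hcb] at hub
    obtain ⟨k, rfl⟩ := Subgroup.mem_zpowers_iff.mp hub
    have h1 : cb ^ (k * (((q + 1) / 4 : ℕ) : ℤ)) = 1 := by
      rw [zpow_mul, zpow_natCast]; exact hue'.2
    have h2 := orderOf_dvd_iff_zpow_eq_one.mpr h1
    rw [hord] at h2
    push_cast at h2
    have h3 : (2 : ℤ) ∣ k := by
      have hne : (((q + 1) / 4 : ℕ) : ℤ) ≠ 0 := by exact_mod_cast hepos.ne'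
      push_cast at hne
      exact Int.dvd_of_mul_dvd_mul_right hne h2
    obtain ⟨j, rfl⟩ := h3
    rw [Subgroup.mem_zpowers_iff]
    refine ⟨j, ?_⟩
    rw [← map_zpow, Prod.pow_mk, one_zpow, ← zpow_natCast, ← zpow_mul]
    norm_num

/-- an element of order dividing `(q+1)/4` is conjugate into `C(a)` -/
theorem ReeData.exists_conj_mem_Ca' {q : ℕ} (D : R.ReeData q) (y : G) (hy1 : y ≠ 1)
    (hy : y ^ ((q + 1) / 4) = 1) : ∃ g : G, g⁻¹ * y * g ∈ Subgroup.centralizer {R.a} := by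
  have ho1 : orderOf y ≠ 1 := fun h => hy1 (orderOf_eq_one_iff.mp h)
  have hoe : orderOf y ∣ (q + 1) / 4 := orderOf_dvd_of_pow_eq_one hy
  have hopos : 0 < orderOf y := by
    rcases Nat.eq_zero_or_pos (orderOf y) with h | h
    · rw [h, zero_dvd_iff] at hoe
      have := D.hq8
      omega
    · exact h
  have hrp : (orderOf y).minFac.Prime := Nat.minFac_prime ho1
  have hro : (orderOf y).minFac ∣ orderOf y := Nat.minFac_dvd _
  have : Fact (orderOf y).minFac.Prime := ⟨hrp⟩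
  have hr3 : (orderOf y).minFac ≠ 3 := by
    intro h
    rw [h] at hro
    exact D.not_three_dvd (dvd_trans hro hoe)
  obtain ⟨s, hs⟩ : ∃ s, q = s + 1 := ⟨q - 1, by have := D.hq8; omega⟩
  have hs0 : 0 < s := by have := D.hq8; omega
  have hrs : (orderOf y).minFac ∣ s + 2 := by
    have h1 : (orderOf y).minFac ∣ 4 * ((q + 1) / 4) := dvd_mul_of_dvd_right (dvd_trans hro hoe) 4
    rw [← D.e4, hs] at h1
    exact h1
  obtain ⟨j, hj⟩ := hro
  have hjpos : 0 < j := by
    rcases Nat.eq_zero_or_pos j with h | h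
    · rw [h, mul_zero] at hj; omega
    · exact h
  have hy0r : (y ^ j) ^ (orderOf y).minFac = 1 := by
    rw [← pow_mul, mul_comm, ← hj]; exact pow_orderOf_eq_one y
  have hy01 : y ^ j ≠ 1 := by
    intro h
    have h1 := orderOf_dvd_of_pow_eq_one h
    have h2 := Nat.le_of_dvd hjpos h1
    have h3 : 2 ≤ (orderOf y).minFac := hrp.two_le
    nlinarith
  have hy0e : (y ^ j) ^ ((q + 1) / 4) = 1 := by
    rw [← pow_mul, mul_comm, pow_mul, hy, one_pow]
  have hcardG : Nat.card G = (s + 1) ^ 3 * s * ((s + 1) ^ 3 + 1) := by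
    rw [D.hcard, hs, Nat.add_sub_cancel]
  obtain ⟨g, hg⟩ := R.exists_conj_mem_Ca s (by rw [D.hq, hs]) hcardG D.hodd hs0 _ hrs hr3 (y ^ j) hy0r
  have hA := D.centralizer_le_Ca _ hg (conj_ne_one g _ hy01) (conj_pow_eq_one g _ _ hy0e)
  have hpow : g⁻¹ * y ^ j * g = (g⁻¹ * y * g) ^ j := by
    have := conj_pow (a := g⁻¹) (b := y) (i := j)
    rw [inv_inv] at this
    exact this.symm
  refine ⟨g, ?_⟩
  apply hA
  rw [Subgroup.mem_centralizer_singleton_iff, hpow, ← pow_succ, ← pow_succ']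

/-- **the cyclic subgroup of order `(q+1)/4` in the centraliser of `y`, `y ^ ((q+1)/4) = 1`** -/
theorem ReeData.tor_cyclic {q : ℕ} (D : R.ReeData q) (y : G) (hy1 : y ≠ 1) (hy : y ^ ((q + 1) / 4) = 1) :
    ∃ A₀ : Subgroup G, IsCyclic A₀ ∧ Nat.card A₀ = (q + 1) / 4 ∧ A₀ ≤ Subgroup.centralizer {y} ∧
      ∀ u ∈ Subgroup.centralizer {y}, u ^ ((q + 1) / 4) = 1 → u ∈ A₀ := by
  obtain ⟨g, hg⟩ := D.exists_conj_mem_Ca' y hy1 hy
  obtain ⟨A₀, hcyc, hcard, hle, hmem⟩ :=
    D.tor_cyclic_Ca _ hg (conj_ne_one g y hy1) (conj_pow_eq_one g y _ hy)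
  have hmap : Subgroup.centralizer {y} =
      (Subgroup.centralizer {g⁻¹ * y * g}).map (MulAut.conj g).toMonoidHom := centralizer_conj y g _ rfl
  refine ⟨A₀.map (MulAut.conj g).toMonoidHom, ?_, ?_, ?_, ?_⟩
  · exact isCyclic_of_surjective _ (MonoidHom.subgroupMap_surjective _ _)
  · rw [Subgroup.card_map_of_injective (MulAut.conj g).injective, hcard]
  · rw [hmap]
    exact Subgroup.map_mono hle
  · intro u hu hue
    have hu' : g⁻¹ * u * g ∈ Subgroup.centralizer {g⁻¹ * y * g} := by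
      rw [Subgroup.mem_centralizer_singleton_iff] at hu ⊢
      calc g⁻¹ * u * g * (g⁻¹ * y * g) = g⁻¹ * (u * y) * g := by group
        _ = g⁻¹ * (y * u) * g := by rw [hu]
        _ = g⁻¹ * y * g * (g⁻¹ * u * g) := by group
    refine ⟨g⁻¹ * u * g, hmem _ hu' (conj_pow_eq_one g u _ hue), ?_⟩
    show g * (g⁻¹ * u * g) * g⁻¹ = u
    group

end RSys

end Cfsg.Agent.Lib.H12.ReeC
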