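import Cfsg.Agent.Lib.H12.ReeU4

/-!
# Ree groups: the Sylow `p`-subgroups, `p > 3`, are cyclic (helper12)
-/

set_option autoImplicit false
set_option linter.unusedSectionVars false
set_option linter.unusedSimpArgs false
set_option linter.unusedVariables false

namespace Cfsg.Agent.Lib.H12.ReeC

open Cfsg.Agent.Lib.H12.ReeT Cfsg.Agent.Lib.H12.ReeU
open scoped MatrixGroups

namespace RSys

variable {G K : Type*} [Group G] [Field K] {R : RSys G K} [Fintype K] [Finite G]

/-- the factorisation of the group order into pairwise coprime factors -/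
theorem ReeData.card_eq' {q : ℕ} (D : R.ReeData q) :
    Nat.card G = (q - 1) / 2 * ((q + 1) / 4) * (q ^ 2 - q + 1) * (8 * q ^ 3) := by
  rw [D.card_eq]
  have h8 := D.hq8
  have e1 : q - 1 = 2 * ((q - 1) / 2) := by omega
  have e2 : q + 1 = 4 * ((q + 1) / 4) := by omega
  conv_lhs => rw [e1, e2]
  ring

theorem ReeData.coprime_e1_e2 {q : ℕ} (D : R.ReeData q) : Nat.Coprime ((q - 1) / 2) ((q + 1) / 4) := by
  have h8 := D.hq8
  have h := coprime_sub_one q _ D.e4 D.odd_e
  exact (Nat.Coprime.coprime_dvd_right ⟨2, by omega⟩ h).symm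

theorem ReeData.coprime_e1_N {q : ℕ} (D : R.ReeData q) : Nat.Coprime ((q - 1) / 2) (q ^ 2 - q + 1) := by
  have h8 := D.hq8
  exact (Nat.Coprime.coprime_dvd_right ⟨2, by omega⟩ (N_coprime_sub q (by omega))).symm

theorem ReeData.coprime_e2_N {q : ℕ} (D : R.ReeData q) : Nat.Coprime ((q + 1) / 4) (q ^ 2 - q + 1) := by
  have h8 := D.hq8
  exact (Nat.Coprime.coprime_dvd_right ⟨4, by omega⟩ (N_coprime_add q (by omega) D.h3q)).symm

theorem ReeData.coprime_e1_q {q : ℕ} (D : R.ReeData q) : Nat.Coprime ((q - 1) / 2) (8 * q ^ 3) := by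
  have h8 := D.hq8
  have hodd : Odd ((q - 1) / 2) := by rw [Nat.odd_iff]; omega
  have h2 : Nat.Coprime ((q - 1) / 2) 2 := Nat.coprime_two_right.mpr hodd
  have h88 : Nat.Coprime ((q - 1) / 2) 8 := by
    have : (8 : ℕ) = 2 ^ 3 := by norm_num
    rw [this]; exact Nat.Coprime.pow_right 3 h2
  have hq : Nat.Coprime (q - 1) q := by
    have : Nat.Coprime (q - 1) (q - 1 + 1) := by
      rw [Nat.coprime_self_add_right]; exact Nat.coprime_one_right _
    have e : q - 1 + 1 = q := by omega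
    rwa [e] at this
  have hq' : Nat.Coprime ((q - 1) / 2) q := Nat.Coprime.coprime_dvd_left ⟨2, by omega⟩ hq
  exact Nat.Coprime.mul_right h88 (Nat.Coprime.pow_right 3 hq')

theorem ReeData.coprime_e2_q {q : ℕ} (D : R.ReeData q) : Nat.Coprime ((q + 1) / 4) (8 * q ^ 3) := by
  have h2 : Nat.Coprime ((q + 1) / 4) 2 := Nat.coprime_two_right.mpr D.odd_e
  have h88 : Nat.Coprime ((q + 1) / 4) 8 := by
    have : (8 : ℕ) = 2 ^ 3 := by norm_num
    rw [this]; exact Nat.Coprime.pow_right 3 h2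
  exact Nat.Coprime.mul_right h88 (Nat.Coprime.pow_right 3 (coprime_self q _ D.e4))

theorem ReeData.coprime_N_q {q : ℕ} (D : R.ReeData q) : Nat.Coprime (q ^ 2 - q + 1) (8 * q ^ 3) := by
  have h8 := D.hq8
  have h2 : Nat.Coprime (q ^ 2 - q + 1) 2 :=
    ((Nat.Prime.coprime_iff_not_dvd Nat.prime_two).mpr (N_odd q (by omega))).symm
  have h88 : Nat.Coprime (q ^ 2 - q + 1) 8 := by
    have : (8 : ℕ) = 2 ^ 3 := by norm_num
    rw [this]; exact Nat.Coprime.pow_right 3 h2
  exact Nat.Coprime.mul_right h88 (Nat.Coprime.pow_right 3 (N_coprime_q q (by omega)))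

/-- a prime power dividing `a * b`, `a` and `b` coprime, whose prime divides `a`, divides `a` -/
theorem ppow_dvd_of_coprime (p n a b : ℕ) (hp : p.Prime) (hab : p ^ n ∣ a * b) (hpa : p ∣ a)
    (hcop : Nat.Coprime a b) : p ^ n ∣ a := by
  have h1 : Nat.Coprime p b := Nat.Coprime.coprime_dvd_left hpa hcop
  exact Nat.Coprime.dvd_of_dvd_mul_right (Nat.Coprime.pow_left n h1) hab

/-- **the Sylow `p`-subgroups of the Ree groups, `p > 3`, are cyclic** -/
theorem ReeData.sylow_cyclic {q : ℕ} (D : R.ReeData q) (hF : R.TorusFacts) (ρ : G →* GL (Fin 7) K)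
    (hρ : Function.Injective ρ) (p : ℕ) [hpf : Fact p.Prime] (hp3 : 3 < p) (P : Sylow p G) :
    IsCyclic (P : Subgroup G) := by
  have h8 := D.hq8
  have hpp : p.Prime := Fact.out
  by_cases hbot : (P : Subgroup G) = ⊥
  · rw [hbot]; infer_instance
  have hnt : Nontrivial (P : Subgroup G) := (Subgroup.nontrivial_iff_ne_bot _).mpr hbot
  have hcn := P.isPGroup'.center_nontrivial
  obtain ⟨⟨z', hz'c⟩, hz'1⟩ := exists_ne (1 : Subgroup.center (P : Subgroup G))
  obtain ⟨z, hzP⟩ := z'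
  have hz1 : z ≠ 1 := by
    intro h
    apply hz'1
    apply Subtype.ext
    apply Subtype.ext
    exact h
  have hPle : (P : Subgroup G) ≤ Subgroup.centralizer {z} := by
    intro u hu
    rw [Subgroup.mem_centralizer_singleton_iff]
    have h1 := Subgroup.mem_center_iff.mp hz'c ⟨u, hu⟩
    exact congrArg Subtype.val h1
  obtain ⟨n, hn⟩ := (IsPGroup.iff_card (p := p)).mp P.isPGroup'
  have hupow : ∀ u ∈ (P : Subgroup G), u ^ (p ^ n) = 1 := by
    intro u hu
    have h1 : (⟨u, hu⟩ : (P : Subgroup G)) ^ Nat.card (P : Subgroup G) = 1 := pow_card_eq_one'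
    rw [hn] at h1
    have h2 := congrArg Subtype.val h1
    rw [Subgroup.coe_pow, Subgroup.coe_one] at h2
    exact h2
  have hn0 : n ≠ 0 := by
    rintro rfl
    rw [pow_zero] at hn
    have := (Subgroup.card_eq_one (H := (P : Subgroup G))).mp hn
    exact hbot this
  have hdvdG : p ^ n ∣ Nat.card G := by rw [← hn]; exact Subgroup.card_subgroup_dvd_card _
  have hpG : p ∣ Nat.card G := (dvd_pow_self p hn0).trans hdvdG
  have hp8 : ¬ p ∣ 8 * q ^ 3 := by
    intro h
    rcases (Nat.Prime.dvd_mul hpp).mp h with h | h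
    · have : (8 : ℕ) = 2 ^ 3 := by norm_num
      rw [this] at h
      have := (Nat.prime_dvd_prime_iff_eq hpp Nat.prime_two).mp (hpp.dvd_of_dvd_pow h)
      omega
    · have := D.prime_dvd_q p hpp (hpp.dvd_of_dvd_pow h)
      omega
  have hcard := D.card_eq'
  have hcases : p ∣ (q - 1) / 2 ∨ p ∣ (q + 1) / 4 ∨ p ∣ q ^ 2 - q + 1 := by
    rw [hcard] at hpG
    rcases (Nat.Prime.dvd_mul hpp).mp hpG with h | h
    · rcases (Nat.Prime.dvd_mul hpp).mp h with h | h
      · rcases (Nat.Prime.dvd_mul hpp).mp h with h | h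
        · exact Or.inl h
        · exact Or.inr (Or.inl h)
      · exact Or.inr (Or.inr h)
    · exact absurd h hp8
  rcases hcases with h | h | h
  · -- the split torus
    have hd : p ^ n ∣ (q - 1) / 2 := by
      apply ppow_dvd_of_coprime p n _ ((q + 1) / 4 * (q ^ 2 - q + 1) * (8 * q ^ 3)) hpp _ h
      · exact Nat.Coprime.mul_right (Nat.Coprime.mul_right D.coprime_e1_e2 D.coprime_e1_N) D.coprime_e1_q
      · rw [hcard] at hdvdG
        have e : (q - 1) / 2 * ((q + 1) / 4 * (q ^ 2 - q + 1) * (8 * q ^ 3)) =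
            (q - 1) / 2 * ((q + 1) / 4) * (q ^ 2 - q + 1) * (8 * q ^ 3) := by ring
        rw [e]; exact hdvdG
    have hz : z ^ ((q - 1) / 2) = 1 := pow_eq_one_of_dvd' z _ _ (hupow z hzP) hd
    obtain ⟨g, hg⟩ := R.centralizer_of_pow_half hF q D.hq D.hcard (by omega) z hz1 hz
    rw [hg] at hPle
    have := R.isCyclic_Hs_map g
    exact Subgroup.isCyclic_of_le hPle
  · -- the torus of order `(q+1)/4`
    have hd : p ^ n ∣ (q + 1) / 4 := by
      apply ppow_dvd_of_coprime p n _ ((q - 1) / 2 * (q ^ 2 - q + 1) * (8 * q ^ 3)) hpp _ h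
      · exact Nat.Coprime.mul_right (Nat.Coprime.mul_right D.coprime_e1_e2.symm D.coprime_e2_N) D.coprime_e2_q
      · rw [hcard] at hdvdG
        have e : (q + 1) / 4 * ((q - 1) / 2 * (q ^ 2 - q + 1) * (8 * q ^ 3)) =
            (q - 1) / 2 * ((q + 1) / 4) * (q ^ 2 - q + 1) * (8 * q ^ 3) := by ring
        rw [e]; exact hdvdG
    have hz : z ^ ((q + 1) / 4) = 1 := pow_eq_one_of_dvd' z _ _ (hupow z hzP) hd
    obtain ⟨A₀, hcyc, -, -, hmem⟩ := D.tor_cyclic z hz1 hz
    have hle : (P : Subgroup G) ≤ A₀ := fun u hu =>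
      hmem u (hPle hu) (pow_eq_one_of_dvd' u _ _ (hupow u hu) hd)
    exact Subgroup.isCyclic_of_le hle
  · -- the tori of order dividing `N`
    have hd : p ^ n ∣ q ^ 2 - q + 1 := by
      apply ppow_dvd_of_coprime p n _ ((q - 1) / 2 * ((q + 1) / 4) * (8 * q ^ 3)) hpp _ h
      · exact Nat.Coprime.mul_right (Nat.Coprime.mul_right D.coprime_e1_N.symm D.coprime_e2_N.symm) D.coprime_N_q
      · rw [hcard] at hdvdG
        have e : (q ^ 2 - q + 1) * ((q - 1) / 2 * ((q + 1) / 4) * (8 * q ^ 3)) =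
            (q - 1) / 2 * ((q + 1) / 4) * (q ^ 2 - q + 1) * (8 * q ^ 3) := by ring
        rw [e]; exact hdvdG
    have hz : z ^ (q ^ 2 - q + 1) = 1 := pow_eq_one_of_dvd' z _ _ (hupow z hzP) hd
    have := D.isCyclic_centralizer_N hF ρ hρ z hz1 hz
    exact Subgroup.isCyclic_of_le hPle

end RSys

end Cfsg.Agent.Lib.H12.ReeC
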