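import Cfsg.Agent.Lib.H12.ReeU5

/-!
# Ree groups: the partition of the elements by order and the class equation (helper12)
-/

set_option autoImplicit false
set_option linter.unusedSectionVars false
set_option linter.unusedSimpArgs false
set_option linter.unusedVariables false

namespace Cfsg.Agent.Lib.H12.ReeC

open Cfsg.Agent.Lib.H12.ReeT Cfsg.Agent.Lib.H12.ReeU

/-- counting along a function to `Fin n` -/
theorem card_eq_sum_fibers {α : Type*} [Finite α] {n : ℕ} (f : α → Fin n) :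
    Nat.card α = ∑ i, Nat.card {a // f a = i} := by
  classical
  have := Fintype.ofFinite α
  rw [Nat.card_congr (Equiv.sigmaFiberEquiv f).symm, Nat.card_sigma]

/-- an element of odd order whose square is trivial is trivial -/
theorem eq_one_of_sq_of_odd {Γ : Type*} [Group Γ] (w : Γ) (o : ℕ) (ho : Odd o) (hw : w ^ o = 1)
    (h2 : w * w = 1) : w = 1 := odd_pow_sq' ho h2 hw

namespace RSys

variable {G K : Type*} [Group G] [Field K] {R : RSys G K} [Fintype K] [Finite G]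

/-- **every non-trivial element of odd order is a 3-element or has order dividing `(q-1)/2`, `(q+1)/4` or `N`** -/
theorem ReeData.odd_cases {q : ℕ} (D : R.ReeData q) (hF : R.TorusFacts) (y : G) (hy1 : y ≠ 1)
    (hodd : Odd (orderOf y)) :
    y ^ (q ^ 3) = 1 ∨ y ^ ((q - 1) / 2) = 1 ∨ y ^ ((q + 1) / 4) = 1 ∨ y ^ (q ^ 2 - q + 1) = 1 := by
  have h8 := D.hq8
  have ho1 : orderOf y ≠ 1 := fun h => hy1 (orderOf_eq_one_iff.mp h)
  have ho0 : orderOf y ≠ 0 := (orderOf_pos y).ne'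
  have hoG : orderOf y ∣ Nat.card G := orderOf_dvd_natCard y
  by_cases hall : ∀ s : ℕ, s.Prime → s ∣ orderOf y → s = 3
  · -- a 3-element
    left
    have hk := Nat.eq_prime_pow_of_unique_prime_dvd ho0 (fun {d} hd hdo => hall d hd hdo)
    set k := (orderOf y).primeFactorsList.length
    have hd : 3 ^ k ∣ q ^ 3 := by
      have h1 : 3 ^ k ∣ q ^ 3 * ((q - 1) * (q ^ 3 + 1)) := by
        rw [← hk, ← mul_assoc, ← D.hcard]; exact hoG
      refine Nat.Coprime.dvd_of_dvd_mul_right (Nat.Coprime.pow_left k ?_) h1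
      rw [Nat.Prime.coprime_iff_not_dvd Nat.prime_three]
      obtain ⟨j, hj⟩ := D.h3q
      intro h
      rcases (Nat.Prime.dvd_mul Nat.prime_three).mp h with h | h
      · omega
      · have : q ^ 3 = 3 * (9 * j ^ 3) := by rw [hj]; ring
        rw [this] at h
        omega
    exact pow_eq_one_of_dvd' y _ _ (by rw [← hk]; exact pow_orderOf_eq_one y) hd
  · right
    push Not at hall
    obtain ⟨s, hs, hso, hs3⟩ := hall
    have hs2 : s ≠ 2 := by
      rintro rfl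
      exact (Nat.not_even_iff_odd.mpr hodd) (even_iff_two_dvd.mpr hso)
    set z := y ^ (orderOf y / s) with hzdef
    have hzo : orderOf z = s := orderOf_pow_orderOf_div ho0 hso
    have hz1 : z ≠ 1 := by
      intro h; rw [h, orderOf_one] at hzo; exact hs.one_lt.ne hzo
    have hzs : z ^ s = 1 := by rw [← hzo]; exact pow_orderOf_eq_one z
    have hyC : y ∈ Subgroup.centralizer {z} := by
      rw [Subgroup.mem_centralizer_singleton_iff, hzdef, ← pow_succ, ← pow_succ']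
    have hypow : ∀ (S : Subgroup G) (c : ℕ), y ∈ S → Nat.card S = c → y ^ c = 1 := by
      intro S c hyS hc
      have h1 : (⟨y, hyS⟩ : S) ^ Nat.card S = 1 := pow_card_eq_one'
      rw [hc] at h1
      have h2 := congrArg Subtype.val h1
      rw [Subgroup.coe_pow, Subgroup.coe_one] at h2
      exact h2
    have hs8 : ¬ s ∣ 8 * q ^ 3 := by
      intro h
      rcases (Nat.Prime.dvd_mul hs).mp h with h | h
      · have : (8 : ℕ) = 2 ^ 3 := by norm_num
        rw [this] at h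
        exact hs2 ((Nat.prime_dvd_prime_iff_eq hs Nat.prime_two).mp (hs.dvd_of_dvd_pow h))
      · exact hs3 (D.prime_dvd_q s hs (hs.dvd_of_dvd_pow h))
    have hsG : s ∣ Nat.card G := hso.trans hoG
    have hcases : s ∣ (q - 1) / 2 ∨ s ∣ (q + 1) / 4 ∨ s ∣ q ^ 2 - q + 1 := by
      rw [D.card_eq'] at hsG
      rcases (Nat.Prime.dvd_mul hs).mp hsG with h | h
      · rcases (Nat.Prime.dvd_mul hs).mp h with h | h
        · rcases (Nat.Prime.dvd_mul hs).mp h with h | h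
          · exact Or.inl h
          · exact Or.inr (Or.inl h)
        · exact Or.inr (Or.inr h)
      · exact absurd h hs8
    have hyo : ∀ j : ℕ, (y ^ j) ^ orderOf y = 1 := by
      intro j
      rw [← pow_mul, mul_comm, pow_mul, pow_orderOf_eq_one, one_pow]
    rcases hcases with h | h | h
    · left
      obtain ⟨g, hg⟩ := R.centralizer_of_pow_half hF q D.hq D.hcard (by omega) z hz1
        (pow_eq_one_of_dvd' z s _ hzs h)
      rw [hg] at hyC
      have h1 := hypow _ _ hyC (R.card_Hs_map g)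
      rw [D.hq] at h1
      have e : q - 1 = (q - 1) / 2 * 2 := by omega
      rw [e, pow_mul, pow_two] at h1
      exact eq_one_of_sq_of_odd _ _ hodd (hyo _) h1
    · right; left
      obtain ⟨hc, -⟩ := D.tor_centralizer z hz1 (pow_eq_one_of_dvd' z s _ hzs h)
      have h1 := hypow _ _ hyC hc
      have e : q + 1 = (q + 1) / 4 * 2 * 2 := by omega
      rw [e, pow_mul, pow_two (y ^ ((q + 1) / 4 * 2))] at h1
      have h2 := eq_one_of_sq_of_odd _ _ hodd (hyo _) h1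
      rw [pow_mul, pow_two] at h2
      exact eq_one_of_sq_of_odd _ _ hodd (hyo _) h2
    · right; right
      exact D.pow_N_of_mem hF z hz1 (pow_eq_one_of_dvd' z s _ hzs h) y hyC

/-- the class of an element: `0` trivial, `1` 3-element, `2` even order, `3` `(q-1)/2`-torsion, `4` `(q+1)/4`-torsion,
`5` `N`-torsion -/
noncomputable def cls (q : ℕ) (y : G) : Fin 6 := by
  classical
  exact if y = 1 then 0 else if Even (orderOf y) then 2 else if y ^ (q ^ 3) = 1 then 1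
    else if y ^ ((q - 1) / 2) = 1 then 3 else if y ^ ((q + 1) / 4) = 1 then 4 else 5

theorem not_even_of_pow_odd {Γ : Type*} [Group Γ] (y : Γ) (m : ℕ) (hm : Odd m) (hy : y ^ m = 1) :
    ¬ Even (orderOf y) := by
  intro h
  have h1 := orderOf_dvd_of_pow_eq_one hy
  exact (Nat.not_even_iff_odd.mpr hm) (even_iff_two_dvd.mpr ((even_iff_two_dvd.mp h).trans h1))

theorem eq_one_of_pow_coprime {Γ : Type*} [Group Γ] (y : Γ) (m m' : ℕ) (hy : y ^ m = 1) (hy' : y ^ m' = 1)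
    (hc : Nat.Coprime m m') : y = 1 := by
  have h3 := pow_gcd_eq_one.mpr ⟨hy, hy'⟩
  rwa [Nat.Coprime.gcd_eq_one hc, pow_one] at h3

theorem ReeData.odd_q3 {q : ℕ} (D : R.ReeData q) : Odd (q ^ 3) := by
  have h8 := D.hq8
  exact Odd.pow (by rw [Nat.odd_iff]; omega)

theorem ReeData.odd_e1 {q : ℕ} (D : R.ReeData q) : Odd ((q - 1) / 2) := by
  have h8 := D.hq8
  rw [Nat.odd_iff]; omega

theorem ReeData.odd_N {q : ℕ} (D : R.ReeData q) : Odd (q ^ 2 - q + 1) := by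
  have h8 := D.hq8
  rw [← Nat.not_even_iff_odd, even_iff_two_dvd]
  exact N_odd q (by omega)

theorem ReeData.cop_q3_e1 {q : ℕ} (D : R.ReeData q) : Nat.Coprime (q ^ 3) ((q - 1) / 2) :=
  (Nat.Coprime.coprime_dvd_right (Dvd.intro_left 8 rfl) D.coprime_e1_q).symm

theorem ReeData.cop_q3_e2 {q : ℕ} (D : R.ReeData q) : Nat.Coprime (q ^ 3) ((q + 1) / 4) :=
  (Nat.Coprime.coprime_dvd_right (Dvd.intro_left 8 rfl) D.coprime_e2_q).symm

theorem ReeData.cop_q3_N {q : ℕ} (D : R.ReeData q) : Nat.Coprime (q ^ 3) (q ^ 2 - q + 1) :=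
  (Nat.Coprime.coprime_dvd_right (Dvd.intro_left 8 rfl) D.coprime_N_q).symm

theorem cls_zero (q : ℕ) (y : G) (h : y = 1) : cls q y = 0 := by
  unfold cls; rw [if_pos h]

theorem cls_two (q : ℕ) (y : G) (h : Even (orderOf y)) : cls q y = 2 := by
  have h1 : y ≠ 1 := by
    rintro rfl
    rw [orderOf_one] at h
    exact Nat.not_even_one h
  unfold cls; rw [if_neg h1, if_pos h]

theorem ReeData.cls_one {q : ℕ} (D : R.ReeData q) (y : G) (h1 : y ≠ 1) (h : y ^ (q ^ 3) = 1) : cls q y = 1 := by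
  unfold cls; rw [if_neg h1, if_neg (not_even_of_pow_odd y _ D.odd_q3 h), if_pos h]

theorem ReeData.cls_three {q : ℕ} (D : R.ReeData q) (y : G) (h1 : y ≠ 1) (h : y ^ ((q - 1) / 2) = 1) :
    cls q y = 3 := by
  unfold cls
  rw [if_neg h1, if_neg (not_even_of_pow_odd y _ D.odd_e1 h),
    if_neg (fun h' => h1 (eq_one_of_pow_coprime y _ _ h' h D.cop_q3_e1)), if_pos h]

theorem ReeData.cls_four {q : ℕ} (D : R.ReeData q) (y : G) (h1 : y ≠ 1) (h : y ^ ((q + 1) / 4) = 1) :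
    cls q y = 4 := by
  unfold cls
  rw [if_neg h1, if_neg (not_even_of_pow_odd y _ D.odd_e h),
    if_neg (fun h' => h1 (eq_one_of_pow_coprime y _ _ h' h D.cop_q3_e2)),
    if_neg (fun h' => h1 (eq_one_of_pow_coprime y _ _ h' h D.coprime_e1_e2)), if_pos h]

theorem ReeData.cls_five {q : ℕ} (D : R.ReeData q) (y : G) (h1 : y ≠ 1) (h : y ^ (q ^ 2 - q + 1) = 1) :
    cls q y = 5 := by
  unfold cls
  rw [if_neg h1, if_neg (not_even_of_pow_odd y _ D.odd_N h),
    if_neg (fun h' => h1 (eq_one_of_pow_coprime y _ _ h' h D.cop_q3_N)),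
    if_neg (fun h' => h1 (eq_one_of_pow_coprime y _ _ h' h D.coprime_e1_N)),
    if_neg (fun h' => h1 (eq_one_of_pow_coprime y _ _ h' h D.coprime_e2_N))]

/-- the classes exhaust the group -/
theorem ReeData.cls_cases {q : ℕ} (D : R.ReeData q) (hF : R.TorusFacts) (y : G) :
    y = 1 ∨ (y ≠ 1 ∧ y ^ (q ^ 3) = 1) ∨ Even (orderOf y) ∨ (y ≠ 1 ∧ y ^ ((q - 1) / 2) = 1) ∨
      (y ≠ 1 ∧ y ^ ((q + 1) / 4) = 1) ∨ (y ≠ 1 ∧ y ^ (q ^ 2 - q + 1) = 1) := by
  by_cases h1 : y = 1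
  · exact Or.inl h1
  by_cases h2 : Even (orderOf y)
  · exact Or.inr (Or.inr (Or.inl h2))
  rcases D.odd_cases hF y h1 (Nat.not_even_iff_odd.mp h2) with h | h | h | h
  · exact Or.inr (Or.inl ⟨h1, h⟩)
  · exact Or.inr (Or.inr (Or.inr (Or.inl ⟨h1, h⟩)))
  · exact Or.inr (Or.inr (Or.inr (Or.inr (Or.inl ⟨h1, h⟩))))
  · exact Or.inr (Or.inr (Or.inr (Or.inr (Or.inr ⟨h1, h⟩))))

theorem ReeData.cls_iff {q : ℕ} (D : R.ReeData q) (hF : R.TorusFacts) (y : G) :
    (cls q y = 0 ↔ y = 1) ∧ (cls q y = 1 ↔ y ≠ 1 ∧ y ^ (q ^ 3) = 1) ∧ (cls q y = 2 ↔ Even (orderOf y)) ∧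
      (cls q y = 3 ↔ y ≠ 1 ∧ y ^ ((q - 1) / 2) = 1) ∧ (cls q y = 4 ↔ y ≠ 1 ∧ y ^ ((q + 1) / 4) = 1) ∧
      (cls q y = 5 ↔ y ≠ 1 ∧ y ^ (q ^ 2 - q + 1) = 1) := by
  rcases D.cls_cases hF y with h | h | h | h | h | h
  · have e := cls_zero q y h
    refine ⟨⟨fun _ => h, fun _ => e⟩, ?_, ?_, ?_, ?_, ?_⟩ <;>
    · rw [e]
      refine ⟨fun h' => absurd h' (by decide), fun h' => ?_⟩
      first
        | exact absurd h h'.1
        | (exfalso; rw [h, orderOf_one] at h'; exact Nat.not_even_one h')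
  · have e := D.cls_one y h.1 h.2
    refine ⟨?_, ⟨fun _ => h, fun _ => e⟩, ?_, ?_, ?_, ?_⟩
    · rw [e]; exact ⟨fun h' => absurd h' (by decide), fun h' => absurd h' h.1⟩
    · rw [e]; exact ⟨fun h' => absurd h' (by decide), fun h' => absurd (cls_two q y h') (by rw [e]; decide)⟩
    · rw [e]; exact ⟨fun h' => absurd h' (by decide), fun h' => absurd (D.cls_three y h'.1 h'.2) (by rw [e]; decide)⟩
    · rw [e]; exact ⟨fun h' => absurd h' (by decide), fun h' => absurd (D.cls_four y h'.1 h'.2) (by rw [e]; decide)⟩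
    · rw [e]; exact ⟨fun h' => absurd h' (by decide), fun h' => absurd (D.cls_five y h'.1 h'.2) (by rw [e]; decide)⟩
  · have e := cls_two q y h
    refine ⟨?_, ?_, ⟨fun _ => h, fun _ => e⟩, ?_, ?_, ?_⟩
    · rw [e]; exact ⟨fun h' => absurd h' (by decide), fun h' => absurd (cls_zero q y h') (by rw [e]; decide)⟩
    · rw [e]; exact ⟨fun h' => absurd h' (by decide), fun h' => absurd (D.cls_one y h'.1 h'.2) (by rw [e]; decide)⟩
    · rw [e]; exact ⟨fun h' => absurd h' (by decide), fun h' => absurd (D.cls_three y h'.1 h'.2) (by rw [e]; decide)⟩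
    · rw [e]; exact ⟨fun h' => absurd h' (by decide), fun h' => absurd (D.cls_four y h'.1 h'.2) (by rw [e]; decide)⟩
    · rw [e]; exact ⟨fun h' => absurd h' (by decide), fun h' => absurd (D.cls_five y h'.1 h'.2) (by rw [e]; decide)⟩
  · have e := D.cls_three y h.1 h.2
    refine ⟨?_, ?_, ?_, ⟨fun _ => h, fun _ => e⟩, ?_, ?_⟩
    · rw [e]; exact ⟨fun h' => absurd h' (by decide), fun h' => absurd h' h.1⟩
    · rw [e]; exact ⟨fun h' => absurd h' (by decide), fun h' => absurd (D.cls_one y h'.1 h'.2) (by rw [e]; decide)⟩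
    · rw [e]; exact ⟨fun h' => absurd h' (by decide), fun h' => absurd (cls_two q y h') (by rw [e]; decide)⟩
    · rw [e]; exact ⟨fun h' => absurd h' (by decide), fun h' => absurd (D.cls_four y h'.1 h'.2) (by rw [e]; decide)⟩
    · rw [e]; exact ⟨fun h' => absurd h' (by decide), fun h' => absurd (D.cls_five y h'.1 h'.2) (by rw [e]; decide)⟩
  · have e := D.cls_four y h.1 h.2
    refine ⟨?_, ?_, ?_, ?_, ⟨fun _ => h, fun _ => e⟩, ?_⟩
    · rw [e]; exact ⟨fun h' => absurd h' (by decide), fun h' => absurd h' h.1⟩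
    · rw [e]; exact ⟨fun h' => absurd h' (by decide), fun h' => absurd (D.cls_one y h'.1 h'.2) (by rw [e]; decide)⟩
    · rw [e]; exact ⟨fun h' => absurd h' (by decide), fun h' => absurd (cls_two q y h') (by rw [e]; decide)⟩
    · rw [e]; exact ⟨fun h' => absurd h' (by decide), fun h' => absurd (D.cls_three y h'.1 h'.2) (by rw [e]; decide)⟩
    · rw [e]; exact ⟨fun h' => absurd h' (by decide), fun h' => absurd (D.cls_five y h'.1 h'.2) (by rw [e]; decide)⟩
  · have e := D.cls_five y h.1 h.2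
    refine ⟨?_, ?_, ?_, ?_, ?_, ⟨fun _ => h, fun _ => e⟩⟩
    · rw [e]; exact ⟨fun h' => absurd h' (by decide), fun h' => absurd h' h.1⟩
    · rw [e]; exact ⟨fun h' => absurd h' (by decide), fun h' => absurd (D.cls_one y h'.1 h'.2) (by rw [e]; decide)⟩
    · rw [e]; exact ⟨fun h' => absurd h' (by decide), fun h' => absurd (cls_two q y h') (by rw [e]; decide)⟩
    · rw [e]; exact ⟨fun h' => absurd h' (by decide), fun h' => absurd (D.cls_three y h'.1 h'.2) (by rw [e]; decide)⟩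
    · rw [e]; exact ⟨fun h' => absurd h' (by decide), fun h' => absurd (D.cls_four y h'.1 h'.2) (by rw [e]; decide)⟩

/-- **the partition of the Ree group into classes of elements** -/
theorem ReeData.card_partition {q : ℕ} (D : R.ReeData q) (hF : R.TorusFacts) :
    Nat.card G = 1 + Nat.card {y : G // y ≠ 1 ∧ y ^ (q ^ 3) = 1} + Nat.card {y : G // Even (orderOf y)} +
      Nat.card {y : G // y ≠ 1 ∧ y ^ ((q - 1) / 2) = 1} + Nat.card {y : G // y ≠ 1 ∧ y ^ ((q + 1) / 4) = 1} +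
      Nat.card {y : G // y ≠ 1 ∧ y ^ (q ^ 2 - q + 1) = 1} := by
  rw [card_eq_sum_fibers (cls q (G := G)), Fin.sum_univ_six]
  have h0 : Nat.card {y : G // cls q y = 0} = 1 := by
    rw [Nat.card_congr (Equiv.subtypeEquivRight (fun y => (D.cls_iff hF y).1))]
    simp
  rw [h0, Nat.card_congr (Equiv.subtypeEquivRight (fun y => (D.cls_iff hF y).2.1)),
    Nat.card_congr (Equiv.subtypeEquivRight (fun y => (D.cls_iff hF y).2.2.1)),
    Nat.card_congr (Equiv.subtypeEquivRight (fun y => (D.cls_iff hF y).2.2.2.1)),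
    Nat.card_congr (Equiv.subtypeEquivRight (fun y => (D.cls_iff hF y).2.2.2.2.1)),
    Nat.card_congr (Equiv.subtypeEquivRight (fun y => (D.cls_iff hF y).2.2.2.2.2))]

/-- **the class equation**: the number of non-trivial elements of order dividing `N = q² - q + 1` -/
theorem ReeData.card_N_elements {q : ℕ} (D : R.ReeData q) (hF : R.TorusFacts)
    (h1 : Nat.card {y : G // y ≠ 1 ∧ y ^ (q ^ 3) = 1} * (q ^ 3 * (q - 1)) = Nat.card G * (q ^ 3 - 1))
    (h2 : 8 * Nat.card {y : G // Even (orderOf y)} = 3 * Nat.card G)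
    (h3 : Nat.card {y : G // y ≠ 1 ∧ y ^ ((q - 1) / 2) = 1} * (2 * (q - 1)) = Nat.card G * ((q - 1) / 2 - 1))
    (h4 : Nat.card {y : G // y ≠ 1 ∧ y ^ ((q + 1) / 4) = 1} * (6 * (q + 1)) = Nat.card G * ((q + 1) / 4 - 1)) :
    3 * Nat.card {y : G // y ≠ 1 ∧ y ^ (q ^ 2 - q + 1) = 1} = q ^ 4 * (q ^ 2 - 1) * (q - 2) := by
  have hp := D.card_partition hF
  have hG := D.hcard
  have h8 := D.hq8
  obtain ⟨j, rfl⟩ : ∃ j, q = 8 * j + 3 := ⟨q / 8, by omega⟩
  set n₁ := Nat.card {y : G // y ≠ 1 ∧ y ^ ((8 * j + 3) ^ 3) = 1}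
  set n₂ := Nat.card {y : G // Even (orderOf y)}
  set n₃ := Nat.card {y : G // y ≠ 1 ∧ y ^ ((8 * j + 3 - 1) / 2) = 1}
  set n₄ := Nat.card {y : G // y ≠ 1 ∧ y ^ ((8 * j + 3 + 1) / 4) = 1}
  set n₅ := Nat.card {y : G // y ≠ 1 ∧ y ^ ((8 * j + 3) ^ 2 - (8 * j + 3) + 1) = 1}
  have e1 : 8 * j + 3 - 1 = 8 * j + 2 := by omega
  have e2 : (8 * j + 3 - 1) / 2 - 1 = 4 * j := by omega
  have e3 : (8 * j + 3 + 1) / 4 - 1 = 2 * j := by omega
  have e4 : 8 * j + 3 - 2 = 8 * j + 1 := by omega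
  have e5 : (8 * j + 3) ^ 3 - 1 = 512 * j ^ 3 + 576 * j ^ 2 + 216 * j + 26 := Nat.sub_eq_of_eq_add (by ring)
  have e6 : (8 * j + 3) ^ 2 - 1 = (8 * j + 2) * (8 * j + 4) := Nat.sub_eq_of_eq_add (by ring)
  rw [hG, e1, e5] at h1
  rw [hG, e1] at h2
  rw [hG, e2, e1] at h3
  rw [hG, e3, e1] at h4
  rw [hG, e1] at hp
  rw [e6, e4]
  have hn1 : n₁ = ((8 * j + 3) ^ 3 + 1) * (512 * j ^ 3 + 576 * j ^ 2 + 216 * j + 26) := by
    apply Nat.eq_of_mul_eq_mul_right (show 0 < (8 * j + 3) ^ 3 * (8 * j + 2) by positivity)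
    rw [h1]; ring
  have hn3 : n₃ = (8 * j + 3) ^ 3 * ((8 * j + 3) ^ 3 + 1) * (2 * j) := by
    apply Nat.eq_of_mul_eq_mul_right (show 0 < 2 * (8 * j + 2) by positivity)
    rw [h3]; ring
  have hn4 : 3 * n₄ = (8 * j + 3) ^ 3 * (8 * j + 2) * ((8 * j + 3) ^ 2 - (8 * j + 3) + 1) * j := by
    apply Nat.eq_of_mul_eq_mul_right (show 0 < 2 * (8 * j + 3 + 1) by positivity)
    have e7 : (8 * j + 3) ^ 3 + 1 = (8 * j + 3 + 1) * ((8 * j + 3) ^ 2 - (8 * j + 3) + 1) :=
      cube_add_one (8 * j + 3) (by omega)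
    have e8 : 3 * n₄ * (2 * (8 * j + 3 + 1)) = n₄ * (6 * (8 * j + 3 + 1)) := by ring
    rw [e8, h4, e7]; ring
  have e9 : (8 * j + 3) ^ 2 - (8 * j + 3) + 1 = 64 * j ^ 2 + 40 * j + 7 := by
    rw [N_eq (8 * j + 3) (by omega), e1]; ring
  rw [e9] at hn4
  have hp' : ((8 * j + 3) ^ 3 * (8 * j + 2) * ((8 * j + 3) ^ 3 + 1) : ℚ) = 1 + n₁ + n₂ + n₃ + n₄ + n₅ := by
    exact_mod_cast hp
  have h2' : (8 * n₂ : ℚ) = 3 * ((8 * j + 3) ^ 3 * (8 * j + 2) * ((8 * j + 3) ^ 3 + 1)) := by exact_mod_cast h2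
  have hn1' : (n₁ : ℚ) = ((8 * j + 3) ^ 3 + 1) * (512 * j ^ 3 + 576 * j ^ 2 + 216 * j + 26) := by
    exact_mod_cast hn1
  have hn3' : (n₃ : ℚ) = (8 * j + 3) ^ 3 * ((8 * j + 3) ^ 3 + 1) * (2 * j) := by exact_mod_cast hn3
  have hn4' : (3 * n₄ : ℚ) = (8 * j + 3) ^ 3 * (8 * j + 2) * (64 * j ^ 2 + 40 * j + 7) * j := by
    exact_mod_cast hn4
  have goal : (3 * n₅ : ℚ) = (8 * j + 3) ^ 4 * ((8 * j + 2) * (8 * j + 4)) * (8 * j + 1) := by
    linear_combination (-3 : ℚ) * hp' - (3 / 8 : ℚ) * h2' - 3 * hn1' - 3 * hn3' - hn4'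
  exact_mod_cast goal

end RSys

end Cfsg.Agent.Lib.H12.ReeC
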