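import Cfsg.Agent.Lib.H12.ReeU6
import Cfsg.Agent.Lib.H5.ReeA3
import Cfsg.Agent.Lib.H13.ReeE1
import Cfsg.Agent.Lib.H29.ReeB2

/-!
# Ree groups: the normaliser of a torus `C(x)`, `x^N = 1`, and the elements covered by its conjugates (helper12)
-/

set_option autoImplicit false
set_option linter.unusedSectionVars false
set_option linter.unusedSimpArgs false
set_option linter.unusedVariables false

namespace Cfsg.Agent.Lib.H12.ReeC

open Cfsg.Agent.Lib.H12.ReeT Cfsg.Agent.Lib.H12.ReeU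
open scoped MatrixGroups

namespace RSys

variable {G K : Type*} [Group G] [Field K] {R : RSys G K} [Fintype K] [Finite G]

/-- **Step 3**: `|N(A) : A|` divides `6` for `A = C(x)`, `x ^ N = 1` -/
theorem ReeData.card_normalizer_N {q : ℕ} (D : R.ReeData q) (hF : R.TorusFacts) (ρ : G →* GL (Fin 7) K)
    (hρ : Function.Injective ρ) (x : G) (hx1 : x ≠ 1) (hx : x ^ (q ^ 2 - q + 1) = 1) :
    ∃ c : ℕ, c ∣ 6 ∧ Nat.card (Subgroup.normalizer (Subgroup.centralizer {x} : Set G)) =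
      Nat.card (Subgroup.centralizer {x}) * c := by
  have hq3 := D.three_le
  have hcyc := D.isCyclic_centralizer_N hF ρ hρ x hx1 hx
  obtain ⟨x₀, hx₀⟩ := (Subgroup.isCyclic_iff_exists_zpowers_eq_top _).mp hcyc
  have hx₀C : x₀ ∈ Subgroup.centralizer {x} := by rw [← hx₀]; exact Subgroup.mem_zpowers x₀
  have hx₀1 : x₀ ≠ 1 := by
    rintro rfl
    rw [Subgroup.zpowers_one_eq_bot] at hx₀
    have hxx : x ∈ Subgroup.centralizer {x} := Subgroup.mem_centralizer_singleton_iff.mpr rfl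
    rw [← hx₀, Subgroup.mem_bot] at hxx
    exact hx1 hxx
  have hx₀N := D.pow_N_of_mem hF x hx1 hx x₀ hx₀C
  have hC := D.centralizer_eq_of_mem hF ρ hρ x hx1 hx x₀ hx₀C hx₀1
  have h6 : q ^ 2 - q + 1 ∣ q ^ 6 - 1 := N_dvd_pow_six q (by omega)
  have hq6 : x₀ ^ (q ^ 6) = x₀ := by
    have h1 : x₀ ^ (q ^ 6 - 1) = 1 := pow_eq_one_of_dvd' x₀ _ _ hx₀N h6
    have h2 : q ^ 6 = q ^ 6 - 1 + 1 := by
      have : 1 ≤ q ^ 6 := Nat.one_le_pow _ _ (by omega)
      omega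
    rw [h2, pow_succ, h1, one_mul]
  have hconj : ∀ g : G, g ∈ Subgroup.normalizer (Subgroup.zpowers x₀ : Set G) →
      ∃ i : ℕ, g * x₀ * g⁻¹ = x₀ ^ (q ^ i) := by
    intro g hg
    have h1 : g * x₀ * g⁻¹ ∈ Subgroup.zpowers x₀ :=
      (Subgroup.mem_normalizer_iff.mp hg x₀).mp (Subgroup.mem_zpowers x₀)
    rw [← mem_powers_iff_mem_zpowers] at h1
    obtain ⟨k, hk⟩ := h1
    have hk' : g * x₀ * g⁻¹ = x₀ ^ k := hk.symm
    obtain ⟨i, -, hi⟩ := Cfsg.Agent.Lib.H5.Ree.pow_of_conj_GL7 (q ^ 2 - q + 1)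
      (by rw [D.hq]; exact N_coprime_q q (by omega))
      (by intro j h1 h5; rw [D.hq]; exact N_coprime_pow_sub q (by omega) D.h3q j h1 (by omega) (by omega))
      (by rw [D.hq]; exact h6) (ρ x₀) (by rw [← map_pow, hx₀N, map_one])
      (by intro h; apply hx₀1; apply hρ; rw [h, map_one]) (ρ g) k
      (by rw [← map_inv, ← map_mul, ← map_mul, hk', map_pow])
    refine ⟨i, ?_⟩
    rw [hk']
    apply hρ
    rw [map_pow, map_pow, hi, D.hq]
  obtain ⟨c, hc6, hc⟩ := Cfsg.Agent.Lib.H13.Ree.card_normalizer_zpowers x₀ q 6 (by norm_num) hq6 hconj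
  rw [hx₀, hC] at hc
  exact ⟨c, hc6, hc⟩

/-- the elements covered by the conjugates of the torus `C(x)` -/
theorem ReeData.card_cover_N {q : ℕ} (D : R.ReeData q) (hF : R.TorusFacts) (ρ : G →* GL (Fin 7) K)
    (hρ : Function.Injective ρ) (x : G) (hx1 : x ≠ 1) (hx : x ^ (q ^ 2 - q + 1) = 1) :
    Nat.card {y : G // y ≠ 1 ∧ ∃ g : G, g⁻¹ * y * g ∈ Subgroup.centralizer {x}} *
      Nat.card (Subgroup.normalizer (Subgroup.centralizer {x} : Set G)) =
        Nat.card G * (Nat.card (Subgroup.centralizer {x}) - 1) :=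
  Cfsg.Agent.Lib.H29.Ree.card_conj_cover (Subgroup.centralizer {x})
    (fun g y hy hy1 hgy => D.mem_normalizer_of_conj_mem hF ρ hρ x hx1 hx g y hy hy1 hgy)

end RSys

end Cfsg.Agent.Lib.H12.ReeC
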