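import Cfsg.Agent.Lib.H12.ReeU7
import Cfsg.Agent.Lib.H17.ReeE2

/-!
# Ree groups: the two classes of tori of orders `q + 1 ± r`, `r² = 3q` (helper12)
-/

set_option autoImplicit false
set_option linter.unusedSectionVars false
set_option linter.unusedSimpArgs false
set_option linter.unusedVariables false

namespace Cfsg.Agent.Lib.H12.ReeC

open Cfsg.Agent.Lib.H12.ReeT Cfsg.Agent.Lib.H12.ReeU
open scoped MatrixGroups

namespace RSys

variable {G K : Type*} [Group G] [Field K] {R : RSys G K} [Fintype K] [Finite G]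

/-- the non-trivial elements of order dividing `N` -/
def Sg (q : ℕ) : Set G := {y | y ≠ 1 ∧ y ^ (q ^ 2 - q + 1) = 1}

/-- the non-trivial elements conjugate into `C(x)` -/
def cov (x : G) : Set G := {y | y ≠ 1 ∧ ∃ g : G, g⁻¹ * y * g ∈ Subgroup.centralizer {x}}

theorem self_mem_cov (x : G) (hx1 : x ≠ 1) : x ∈ cov x :=
  ⟨hx1, 1, by rw [inv_one, one_mul, mul_one]; exact Subgroup.mem_centralizer_singleton_iff.mpr rfl⟩

theorem ReeData.cov_subset {q : ℕ} (D : R.ReeData q) (hF : R.TorusFacts) (x : G) (hx : x ∈ Sg (G := G) q) :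
    cov x ⊆ Sg q := by
  rintro y ⟨hy1, g, hg⟩
  refine ⟨hy1, ?_⟩
  have h1 := D.pow_N_of_mem hF x hx.1 hx.2 _ hg
  have h2 : y = g * (g⁻¹ * y * g) * g⁻¹ := by group
  rw [h2]
  have := conj_pow_eq_one g⁻¹ (g⁻¹ * y * g) _ h1
  rwa [inv_inv] at this

theorem ReeData.cov_disjoint {q : ℕ} (D : R.ReeData q) (hF : R.TorusFacts) (ρ : G →* GL (Fin 7) K)
    (hρ : Function.Injective ρ) (x x' : G) (hx : x ∈ Sg (G := G) q) (hx' : x' ∈ Sg (G := G) q)
    (hn : x' ∉ cov x) : Disjoint (cov x) (cov x') := by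
  rw [Set.disjoint_left]
  rintro y ⟨hy1, g, hg⟩ ⟨-, g', hg'⟩
  apply hn
  refine ⟨hx'.1, g'⁻¹ * g, ?_⟩
  have hu1 := conj_ne_one g y hy1
  have hu'1 := conj_ne_one g' y hy1
  have h1 := D.centralizer_eq_of_mem hF ρ hρ x hx.1 hx.2 _ hg hu1
  have h2 := D.centralizer_eq_of_mem hF ρ hρ x' hx'.1 hx'.2 _ hg' hu'1
  rw [← h1, Subgroup.mem_centralizer_singleton_iff]
  have hx'c : x' ∈ Subgroup.centralizer {g'⁻¹ * y * g'} := by
    rw [h2]; exact Subgroup.mem_centralizer_singleton_iff.mpr rfl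
  have hc : x' * (g'⁻¹ * y * g') = g'⁻¹ * y * g' * x' := Subgroup.mem_centralizer_singleton_iff.mp hx'c
  calc (g'⁻¹ * g)⁻¹ * x' * (g'⁻¹ * g) * (g⁻¹ * y * g)
      = g⁻¹ * g' * (x' * (g'⁻¹ * y * g')) * g'⁻¹ * g := by group
    _ = g⁻¹ * g' * (g'⁻¹ * y * g' * x') * g'⁻¹ * g := by rw [hc]
    _ = g⁻¹ * y * g * ((g'⁻¹ * g)⁻¹ * x' * (g'⁻¹ * g)) := by group

/-- the numerical data of the torus `C(x)` -/
theorem ReeData.torus_data {q : ℕ} (D : R.ReeData q) (hF : R.TorusFacts) (ρ : G →* GL (Fin 7) K)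
    (hρ : Function.Injective ρ) (x : G) (hx : x ∈ Sg (G := G) q) :
    ∃ n : ℕ, 7 ≤ Nat.card (Subgroup.centralizer {x}) ∧ Nat.card (Subgroup.centralizer {x}) ∣ q ^ 2 - q + 1 ∧
      n ∣ 6 ∧ Nat.card (Subgroup.normalizer (Subgroup.centralizer {x} : Set G)) =
        Nat.card (Subgroup.centralizer {x}) * n ∧
      (cov x).ncard * (Nat.card (Subgroup.centralizer {x}) * n) =
        q ^ 3 * (q - 1) * (q ^ 3 + 1) * (Nat.card (Subgroup.centralizer {x}) - 1) := by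
  have hq3 := D.three_le
  obtain ⟨n, hn6, hn⟩ := D.card_normalizer_N hF ρ hρ x hx.1 hx.2
  have hdvd := D.card_centralizer_dvd_N hF x hx.1 hx.2
  have hne1 : Nat.card (Subgroup.centralizer {x}) ≠ 1 := by
    intro h
    have h1 := (Subgroup.card_eq_one (H := Subgroup.centralizer {x})).mp h
    have hxx : x ∈ Subgroup.centralizer {x} := Subgroup.mem_centralizer_singleton_iff.mpr rfl
    rw [h1, Subgroup.mem_bot] at hxx
    exact hx.1 hxx
  refine ⟨n, seven_le_of_dvd_N q (by omega) D.h3q _ hdvd hne1, hdvd, hn6, hn, ?_⟩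
  have h := D.card_cover_N hF ρ hρ x hx.1 hx.2
  rw [hn, D.hcard] at h
  rw [← h]
  congr 1

theorem ReeData.card_Sg {q : ℕ} (D : R.ReeData q) (hF : R.TorusFacts)
    (hS : 3 * Nat.card {y : G // y ≠ 1 ∧ y ^ (q ^ 2 - q + 1) = 1} = q ^ 4 * (q ^ 2 - 1) * (q - 2)) :
    3 * (Sg (G := G) q).ncard = q ^ 4 * (q ^ 2 - 1) * (q - 2) := by
  rw [← hS]
  congr 1

/-- two tori whose orders have a common prime divisor cover a common element -/
theorem ReeData.coprime_of_disjoint {q : ℕ} (D : R.ReeData q) (hF : R.TorusFacts) (ρ : G →* GL (Fin 7) K)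
    (hρ : Function.Injective ρ) (x x' : G) (hx : x ∈ Sg (G := G) q) (hx' : x' ∈ Sg (G := G) q)
    (hd : Disjoint (cov x) (cov x')) :
    Nat.Coprime (Nat.card (Subgroup.centralizer {x})) (Nat.card (Subgroup.centralizer {x'})) := by
  apply Nat.coprime_of_dvd
  intro p hp hp1 hp2
  have : Fact p.Prime := ⟨hp⟩
  obtain ⟨P, hP⟩ := D.exists_sylow_le hF ρ hρ x hx.1 hx.2 p hp1
  have hidx : ¬ p ∣ (Subgroup.centralizer {x}).index := by
    intro h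
    exact P.not_dvd_index (h.trans (Subgroup.index_dvd_of_le hP))
  obtain ⟨⟨y, hyC⟩, hyo⟩ := exists_prime_orderOf_dvd_card' p hp2
  have hyo' : orderOf y = p := by
    rw [← hyo]; exact (Subgroup.orderOf_mk y hyC).symm
  have hy1 : y ≠ 1 := by
    intro h; rw [h, orderOf_one] at hyo'; exact hp.one_lt.ne hyo'
  have hyp : y ^ p = 1 := by rw [← hyo']; exact pow_orderOf_eq_one y
  obtain ⟨g, hg⟩ := exists_conj_mem_of_prime (Subgroup.centralizer {x}) y p hyp hidx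
  have h1 : y ∈ cov x := ⟨hy1, g, hg⟩
  have h2 : y ∈ cov x' := ⟨hy1, 1, by rw [inv_one, one_mul, mul_one]; exact hyC⟩
  exact Set.disjoint_left.mp hd h1 h2

/-- **Step 5**: there are exactly two classes of tori `C(x)`, `x ^ N = 1`; they have orders `q + 1 ± r`, `r² = 3q`, and
index `6` in their normalisers -/
theorem ReeData.two_tori {q r : ℕ} (D : R.ReeData q) (hF : R.TorusFacts) (ρ : G →* GL (Fin 7) K)
    (hρ : Function.Injective ρ) (hq27 : 27 ≤ q) (hr : r * r = 3 * q)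
    (hS : 3 * Nat.card {y : G // y ≠ 1 ∧ y ^ (q ^ 2 - q + 1) = 1} = q ^ 4 * (q ^ 2 - 1) * (q - 2)) :
    ∃ x₁ x₂ : G, x₁ ∈ Sg (G := G) q ∧ x₂ ∈ Sg (G := G) q ∧
      Nat.card (Subgroup.centralizer {x₁}) = q + 1 - r ∧ Nat.card (Subgroup.centralizer {x₂}) = q + 1 + r ∧
      Nat.card (Subgroup.normalizer (Subgroup.centralizer {x₁} : Set G)) = (q + 1 - r) * 6 ∧
      Nat.card (Subgroup.normalizer (Subgroup.centralizer {x₂} : Set G)) = (q + 1 + r) * 6 ∧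
      Sg (G := G) q ⊆ cov x₁ ∪ cov x₂ := by
  have hSg := D.card_Sg hF hS
  have hfin : ∀ s : Set G, s.Finite := fun s => Set.toFinite s
  have hne : (Sg (G := G) q).Nonempty := by
    apply Set.nonempty_of_ncard_ne_zero
    intro h0
    rw [h0, mul_zero] at hSg
    have h1 : 0 < q ^ 4 * (q ^ 2 - 1) * (q - 2) := by
      have : 1 < q ^ 2 := by nlinarith
      have h2 : 0 < q ^ 2 - 1 := by omega
      have h3 : 0 < q - 2 := by omega
      positivity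
    omega
  obtain ⟨x₁, hx₁⟩ := hne
  obtain ⟨n₁, h7₁, hd₁, hn₁, hN₁, hc₁⟩ := D.torus_data hF ρ hρ x₁ hx₁
  have hsub₁ := D.cov_subset hF x₁ hx₁
  by_cases h : Sg (G := G) q ⊆ cov x₁
  · exfalso
    have heq : cov x₁ = Sg (G := G) q := Set.Subset.antisymm hsub₁ h
    exact Cfsg.Agent.Lib.H17.Ree.one_torus_false q _ hq27 hSg _ n₁ _ h7₁ hd₁ hn₁ hc₁ (by rw [heq])
  obtain ⟨x₂, hx₂, hx₂n⟩ := Set.not_subset.mp h
  obtain ⟨n₂, h7₂, hd₂, hn₂, hN₂, hc₂⟩ := D.torus_data hF ρ hρ x₂ hx₂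
  have hsub₂ := D.cov_subset hF x₂ hx₂
  have hd12 := D.cov_disjoint hF ρ hρ x₁ x₂ hx₁ hx₂ hx₂n
  by_cases h' : Sg (G := G) q ⊆ cov x₁ ∪ cov x₂
  · have heq : cov x₁ ∪ cov x₂ = Sg (G := G) q := Set.Subset.antisymm (Set.union_subset hsub₁ hsub₂) h'
    have hsum : (cov x₁).ncard + (cov x₂).ncard = (Sg (G := G) q).ncard := by
      rw [← heq, Set.ncard_union_eq hd12 (hfin _) (hfin _)]
    have hcop := D.coprime_of_disjoint hF ρ hρ x₁ x₂ hx₁ hx₂ hd12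
    obtain ⟨e1, e2, hcases⟩ := Cfsg.Agent.Lib.H17.Ree.two_tori q r _ hq27 hr hSg _ n₁ _ _ n₂ _
      h7₁ hd₁ hn₁ hc₁ h7₂ hd₂ hn₂ hc₂ hcop hsum
    subst e1 e2
    rcases hcases with ⟨ea, eb⟩ | ⟨ea, eb⟩
    · refine ⟨x₁, x₂, hx₁, hx₂, ea, eb, ?_, ?_, h'⟩
      · rw [hN₁, ea]
      · rw [hN₂, eb]
    · refine ⟨x₂, x₁, hx₂, hx₁, eb, ea, ?_, ?_, ?_⟩
      · rw [hN₂, eb]
      · rw [hN₁, ea]
      · rw [Set.union_comm]; exact h'
  · exfalso
    obtain ⟨x₃, hx₃, hx₃n⟩ := Set.not_subset.mp h'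
    have hx₃1 : x₃ ∉ cov x₁ := fun hh => hx₃n (Or.inl hh)
    have hx₃2 : x₃ ∉ cov x₂ := fun hh => hx₃n (Or.inr hh)
    obtain ⟨n₃, h7₃, hd₃, hn₃, hN₃, hc₃⟩ := D.torus_data hF ρ hρ x₃ hx₃
    have hsub₃ := D.cov_subset hF x₃ hx₃
    have hd13 := D.cov_disjoint hF ρ hρ x₁ x₃ hx₁ hx₃ hx₃1
    have hd23 := D.cov_disjoint hF ρ hρ x₂ x₃ hx₂ hx₃ hx₃2
    have hsum : (cov x₁).ncard + (cov x₂).ncard + (cov x₃).ncard ≤ (Sg (G := G) q).ncard := by
      rw [← Set.ncard_union_eq hd12 (hfin _) (hfin _),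
        ← Set.ncard_union_eq (Set.disjoint_union_left.mpr ⟨hd13, hd23⟩) (hfin _) (hfin _)]
      exact Set.ncard_le_ncard (Set.union_subset (Set.union_subset hsub₁ hsub₂) hsub₃) (hfin _)
    exact Cfsg.Agent.Lib.H17.Ree.three_tori_false q _ hq27 hSg _ n₁ _ _ n₂ _ _ n₃ _
      h7₁ hn₁ hc₁ h7₂ hn₂ hc₂ h7₃ hn₃ hc₃ hsum

end RSys

end Cfsg.Agent.Lib.H12.ReeC
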