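import Cfsg.Agent.Lib.H12.ReeU5
import Cfsg.Agent.Lib.H7.ReeD3
import Cfsg.Agent.Lib.H7.ReeD3b
import Cfsg.Agent.Lib.H22.ReeG1

/-!
# Ree groups: the normaliser of a cyclic subgroup of order `(q+1)/4` (helper12; REE-F4a)
-/

set_option autoImplicit false
set_option linter.unusedSectionVars false
set_option linter.unusedSimpArgs false
set_option linter.unusedVariables false

namespace Cfsg.Agent.Lib.H12.ReeC

open Cfsg.Agent.Lib.H12.ReeT Cfsg.Agent.Lib.H12.ReeU

section Generic

variable {Γ : Type*} [Group Γ]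

/-- the centraliser of a cyclic subgroup is the centraliser of a generator -/
theorem centralizer_zpowers_eq (y : Γ) :
    Subgroup.centralizer ((Subgroup.zpowers y : Subgroup Γ) : Set Γ) = Subgroup.centralizer {y} := by
  ext g
  rw [Subgroup.mem_centralizer_iff, Subgroup.mem_centralizer_singleton_iff]
  constructor
  · intro h
    exact (h y (Subgroup.mem_zpowers y)).symm
  · intro h u hu
    obtain ⟨k, rfl⟩ := Subgroup.mem_zpowers_iff.mp hu
    have hc : Commute g y := h
    exact (hc.zpow_right k).eq.symm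

/-- the normaliser of a subgroup normalises its centraliser -/
theorem normalizer_le_normalizer_centralizer (H : Subgroup Γ) [Finite (Subgroup.centralizer (H : Set Γ))] :
    Subgroup.normalizer (H : Set Γ) ≤ Subgroup.normalizer (Subgroup.centralizer (H : Set Γ) : Set Γ) := by
  intro g hg
  apply Cfsg.Agent.Lib.H7.Ree.d3_mem_normalizer
  intro c hc
  rw [Subgroup.mem_centralizer_iff] at hc ⊢
  intro h hh
  have h1 : g⁻¹ * h * g ∈ H := (Subgroup.mem_normalizer_iff''.mp hg h).mp hh
  have h2 := hc _ h1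
  calc h * (g * c * g⁻¹) = g * (g⁻¹ * h * g * c) * g⁻¹ := by group
    _ = g * (c * (g⁻¹ * h * g)) * g⁻¹ := by rw [h2]
    _ = g * c * g⁻¹ * h := by group

theorem conj_pow_eq_one' (g y : Γ) (N : ℕ) (hy : y ^ N = 1) : (g * y * g⁻¹) ^ N = 1 := by
  have := RSys.conj_pow_eq_one g⁻¹ y N hy
  rwa [inv_inv] at this

end Generic

namespace RSys

variable {G K : Type*} [Group G] [Field K] {R : RSys G K} [Fintype K] [Finite G]

/-- **REE-F4a** the normaliser of a cyclic subgroup of order `(q+1)/4`; `hG1` is REE-G1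
(`normalizer_le_of_le_cyclic`) -/
theorem ReeData.normalizer_nonsplit_aux {q : ℕ} (D : R.ReeData q) (hq27 : 27 ≤ q)
    (hG1 : ∀ (C A₀ : Subgroup G), IsCyclic C → A₀ ≤ C →
      Subgroup.normalizer (C : Set G) ≤ Subgroup.normalizer (A₀ : Set G))
    (A : Subgroup G) (hA : IsCyclic A)
    (hAc : Nat.card A = (q + 1) / 4) :
    Nat.card (Subgroup.normalizer (A : Set G)) = 6 * (q + 1) ∧
      ∀ A₀ : Subgroup G, A₀ ≤ A → A₀ ≠ ⊥ →
        Subgroup.normalizer (A₀ : Set G) = Subgroup.normalizer (A : Set G) := by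
  have h8 := D.hq8
  obtain ⟨k, hN, hk⟩ := D.two_part
  obtain ⟨hcomm, hcard, -, hsub⟩ := D.nonsplit_torus_centralizer hq27 A hA hAc
  set C₀ := Subgroup.centralizer (A : Set G) with hC₀
  have he := D.odd_e
  have hepos : 7 ≤ (q + 1) / 4 := by omega
  -- (1) `A ≤ C₀` and `A` is the `e₂`-torsion of `C₀`
  have hAle : A ≤ C₀ := by
    intro u hu
    rw [hC₀, Subgroup.mem_centralizer_iff]
    intro v hv
    exact comm_of_isCyclic A v u hv hu
  have hApow : ∀ u ∈ A, u ^ ((q + 1) / 4) = 1 := by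
    intro u hu
    have h1 : (⟨u, hu⟩ : A) ^ Nat.card A = 1 := pow_card_eq_one'
    rw [hAc] at h1
    have h2 := congrArg Subtype.val h1
    rw [Subgroup.coe_pow, Subgroup.coe_one] at h2
    exact h2
  obtain ⟨y, hy⟩ := (Subgroup.isCyclic_iff_exists_zpowers_eq_top _).mp hA
  have hyA : y ∈ A := by rw [← hy]; exact Subgroup.mem_zpowers y
  have hy1 : y ≠ 1 := by
    rintro rfl
    rw [Subgroup.zpowers_one_eq_bot] at hy
    rw [← hy, Subgroup.card_bot] at hAc
    omega
  have hCy : Subgroup.centralizer {y} = C₀ := by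
    rw [← centralizer_zpowers_eq, hy]
  obtain ⟨A', hA'cyc, hA'card, hA'le, hA'mem⟩ := D.tor_cyclic y hy1 (hApow y hyA)
  have hAA' : A = A' := by
    apply Subgroup.eq_of_le_of_card_ge
    · intro u hu
      exact hA'mem u (by rw [hCy]; exact hAle hu) (hApow u hu)
    · rw [hAc, hA'card]
  have hAmem : ∀ u ∈ C₀, u ^ ((q + 1) / 4) = 1 → u ∈ A := by
    intro u hu hue
    rw [hAA']
    exact hA'mem u (by rw [hCy]; exact hu) hue
  -- (2) the four-group `V`
  let V : Subgroup G :=
    { carrier := {u | u ∈ C₀ ∧ u * u = 1}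
      mul_mem' := by
        rintro u v ⟨hu, hu2⟩ ⟨hv, hv2⟩
        refine ⟨mul_mem hu hv, ?_⟩
        calc u * v * (u * v) = u * (v * u) * v := by group
          _ = u * (u * v) * v := by rw [hcomm v hv u hu]
          _ = (u * u) * (v * v) := by group
          _ = 1 := by rw [hu2, hv2, one_mul]
      one_mem' := ⟨one_mem _, one_mul 1⟩
      inv_mem' := by
        rintro u ⟨hu, hu2⟩
        refine ⟨inv_mem hu, ?_⟩
        rw [← mul_inv_rev, hu2, inv_one] }
  have hVmem : ∀ u, u ∈ V ↔ u ∈ C₀ ∧ u * u = 1 := fun u => Iff.rfl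
  have hVle : V ≤ C₀ := fun u hu => hu.1
  have hV2 : ∀ v ∈ V, v * v = 1 := fun v hv => hv.2
  have hq1 : q + 1 = 4 * ((q + 1) / 4) := D.e4
  have hV : Nat.card V = 4 := by
    have : Fact (Nat.Prime 2) := ⟨Nat.prime_two⟩
    apply le_antisymm
    · have hpg : IsPGroup 2 V := by
        rintro ⟨v, hv⟩
        refine ⟨1, ?_⟩
        apply Subtype.ext
        rw [pow_one, Subgroup.coe_pow, Subgroup.coe_one, pow_two]
        exact hv.2
      obtain ⟨j, hj⟩ := (IsPGroup.iff_card (p := 2)).mp hpg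
      have h1 : Nat.card V ∣ 4 * ((q + 1) / 4) := by
        rw [← hq1, ← hcard]; exact Subgroup.card_dvd_of_le hVle
      rw [hj] at h1 ⊢
      have h2 : Nat.Coprime (2 ^ j) ((q + 1) / 4) :=
        Nat.Coprime.pow_left j (Nat.coprime_two_left.mpr he)
      exact Nat.le_of_dvd (by norm_num) (Nat.Coprime.dvd_of_dvd_mul_right h2 h1)
    · have hdvd : 2 ^ 2 ∣ Nat.card C₀ := by
        rw [hcard, hq1]; exact Dvd.intro _ rfl
      obtain ⟨V', hV'⟩ := Sylow.exists_subgroup_card_pow_prime 2 hdvd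
      have hV'' : Nat.card (V'.map C₀.subtype) = 4 := by
        rw [Subgroup.card_map_of_injective C₀.subtype_injective, hV']; norm_num
      have hpg : IsPGroup 2 (V'.map C₀.subtype) := IsPGroup.of_card (n := 2) (by rw [hV'']; norm_num)
      have hle : V'.map C₀.subtype ≤ V := by
        intro u hu
        refine ⟨?_, R.two_group_sq D.hq8' k hN hk _ hpg u hu⟩
        obtain ⟨w, -, rfl⟩ := hu
        exact w.2
      rw [← hV'']
      exact Subgroup.card_le_of_le hle
  -- (3) the centraliser of `V`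
  have hCV : Nat.card (Subgroup.centralizer (V : Set G)) = 2 * (q + 1) := by
    rw [Cfsg.Agent.Lib.H7.Ree.card_centralizer_four R D.hq8' k hN hk D.hZ V hV hV2, D.hq]
  have hNV := Cfsg.Agent.Lib.H7.Ree.card_normalizer_four R D.hq8' k hN hk D.hZ V hV hV2
  have hC₀CV : C₀ ≤ Subgroup.centralizer (V : Set G) := by
    intro c hc
    rw [Subgroup.mem_centralizer_iff]
    intro v hv
    exact hcomm v (hVle hv) c hc
  -- the `e₂`-torsion of `C(V)` lies in `C₀`
  have hindex : (C₀.subgroupOf (Subgroup.centralizer (V : Set G))).index = 2 := by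
    have hrel := Subgroup.relIndex_mul_relIndex ⊥ C₀ (Subgroup.centralizer (V : Set G)) bot_le hC₀CV
    rw [Subgroup.relIndex_bot_left, Subgroup.relIndex_bot_left, hcard, hCV] at hrel
    have h2 : (q + 1) * C₀.relIndex (Subgroup.centralizer (V : Set G)) = (q + 1) * 2 := by rw [hrel]; ring
    exact Nat.eq_of_mul_eq_mul_left (by omega) h2
  have htor : ∀ w ∈ Subgroup.centralizer (V : Set G), w ^ ((q + 1) / 4) = 1 → w ∈ A := by
    intro w hw hwe
    have h1 := Subgroup.mul_self_mem_of_index_two hindex ⟨w, hw⟩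
    rw [Subgroup.mem_subgroupOf] at h1
    have h2 : w * w ∈ C₀ := h1
    obtain ⟨m, hm⟩ := he
    have h3 : w = (w * w) ^ (m + 1) * (w ^ ((q + 1) / 4))⁻¹ := by
      rw [hm, ← pow_two, ← pow_mul, ← pow_sub w (by omega)]
      have : 2 * (m + 1) - (2 * m + 1) = 1 := by omega
      rw [this, pow_one]
    have h4 : w ∈ C₀ := by
      rw [h3, hwe, inv_one, mul_one]
      exact Subgroup.pow_mem _ h2 _
    exact hAmem w h4 hwe
  -- (4), (5), (6)
  have h46 : ∀ A₀ : Subgroup G, A₀ ≤ A → A₀ ≠ ⊥ →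
      Subgroup.normalizer (A₀ : Set G) ≤ Subgroup.normalizer (C₀ : Set G) := by
    intro A₀ h1 h2
    have := normalizer_le_normalizer_centralizer A₀
    rw [hsub A₀ h1 h2] at this
    exact this
  have hC₀A : Subgroup.normalizer (C₀ : Set G) ≤ Subgroup.normalizer (A : Set G) := by
    intro g hg
    apply Cfsg.Agent.Lib.H7.Ree.d3_mem_normalizer
    intro u hu
    apply hAmem
    · exact (Subgroup.mem_normalizer_iff.mp hg u).mp (hAle hu)
    · exact conj_pow_eq_one' g u _ (hApow u hu)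
  have hC₀V : Subgroup.normalizer (C₀ : Set G) ≤ Subgroup.normalizer (V : Set G) := by
    intro g hg
    apply Cfsg.Agent.Lib.H7.Ree.d3_mem_normalizer
    intro v hv
    refine ⟨(Subgroup.mem_normalizer_iff.mp hg v).mp (hVle hv), ?_⟩
    calc g * v * g⁻¹ * (g * v * g⁻¹) = g * (v * v) * g⁻¹ := by group
      _ = 1 := by rw [hV2 v hv]; group
  have hVA : Subgroup.normalizer (V : Set G) ≤ Subgroup.normalizer (A : Set G) := by
    intro g hg
    apply Cfsg.Agent.Lib.H7.Ree.d3_mem_normalizer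
    intro u hu
    apply htor
    · exact (Subgroup.mem_normalizer_iff.mp (normalizer_le_normalizer_centralizer V hg) u).mp
        (hC₀CV (hAle hu))
    · exact conj_pow_eq_one' g u _ (hApow u hu)
  have hAbot : A ≠ ⊥ := by
    intro h
    rw [h, Subgroup.card_bot] at hAc
    omega
  have hAC₀ : Subgroup.normalizer (A : Set G) = Subgroup.normalizer (C₀ : Set G) :=
    le_antisymm (h46 A le_rfl hAbot) hC₀A
  have hAV : Subgroup.normalizer (A : Set G) = Subgroup.normalizer (V : Set G) :=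
    le_antisymm (hAC₀.le.trans hC₀V) hVA
  refine ⟨?_, ?_⟩
  · rw [hAV, hNV, hCV]; ring
  · intro A₀ h1 h2
    apply le_antisymm
    · exact (h46 A₀ h1 h2).trans hC₀A
    · exact hG1 A A₀ hA h1

/-- **REE-F4a** the normaliser of a cyclic subgroup of order `(q+1)/4` -/
theorem ReeData.normalizer_nonsplit {q : ℕ} (D : R.ReeData q) (hq27 : 27 ≤ q) (A : Subgroup G) (hA : IsCyclic A)
    (hAc : Nat.card A = (q + 1) / 4) :
    Nat.card (Subgroup.normalizer (A : Set G)) = 6 * (q + 1) ∧
      ∀ A₀ : Subgroup G, A₀ ≤ A → A₀ ≠ ⊥ →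
        Subgroup.normalizer (A₀ : Set G) = Subgroup.normalizer (A : Set G) :=
  D.normalizer_nonsplit_aux hq27
    (fun C A₀ hC h₀ => Cfsg.Agent.Lib.H22.Ree.normalizer_le_of_le_cyclic C A₀ hC h₀) A hA hAc

end RSys

end Cfsg.Agent.Lib.H12.ReeC
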