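import Cfsg.Agent.Lib.H12.ReeU8
import Cfsg.Agent.Lib.H12.ReeU9

/-!
# Ree groups: the four classes of cyclic tori and their normalisers (helper12)
-/

set_option autoImplicit false
set_option linter.unusedSectionVars false
set_option linter.unusedSimpArgs false
set_option linter.unusedVariables false

namespace Cfsg.Agent.Lib.H12.ReeC

open Cfsg.Agent.Lib.H12.ReeT Cfsg.Agent.Lib.H12.ReeU
open scoped MatrixGroups

namespace RSys

variable {G K : Type*} [Group G] [Field K] {R : RSys G K} [Fintype K] [Finite G]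

/-- the centraliser of a non-trivial subgroup of the torus `C(x)` -/
theorem ReeData.centralizer_sub_N {q : ℕ} (D : R.ReeData q) (hF : R.TorusFacts) (ρ : G →* GL (Fin 7) K)
    (hρ : Function.Injective ρ) (x : G) (hx1 : x ≠ 1) (hx : x ^ (q ^ 2 - q + 1) = 1) (A₀ : Subgroup G)
    (hle : A₀ ≤ Subgroup.centralizer {x}) (hbot : A₀ ≠ ⊥) :
    Subgroup.centralizer (A₀ : Set G) = Subgroup.centralizer {x} := by
  obtain ⟨⟨y, hyA⟩, hy1⟩ := (Subgroup.ne_bot_iff_exists_ne_one).mp hbot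
  have hy1' : y ≠ 1 := fun h => hy1 (Subtype.ext h)
  have hCy := D.centralizer_eq_of_mem hF ρ hρ x hx1 hx y (hle hyA) hy1'
  ext g
  constructor
  · intro hg
    rw [← hCy, Subgroup.mem_centralizer_singleton_iff]
    exact ((Subgroup.mem_centralizer_iff.mp hg) y hyA).symm
  · intro hg
    rw [Subgroup.mem_centralizer_iff]
    intro u hu
    exact D.centralizer_comm_N ρ hρ x hx1 hx u g (hle hu) hg

/-- `N(A₀) = N(A)` for the non-trivial subgroups of the torus `A = C(x)` -/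
theorem ReeData.normalizer_sub_N {q : ℕ} (D : R.ReeData q) (hF : R.TorusFacts) (ρ : G →* GL (Fin 7) K)
    (hρ : Function.Injective ρ) (x : G) (hx1 : x ≠ 1) (hx : x ^ (q ^ 2 - q + 1) = 1) (A₀ : Subgroup G)
    (hle : A₀ ≤ Subgroup.centralizer {x}) (hbot : A₀ ≠ ⊥) :
    Subgroup.normalizer (A₀ : Set G) = Subgroup.normalizer (Subgroup.centralizer {x} : Set G) := by
  apply le_antisymm
  · have := normalizer_le_normalizer_centralizer A₀
    rw [D.centralizer_sub_N hF ρ hρ x hx1 hx A₀ hle hbot] at this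
    exact this
  · exact Cfsg.Agent.Lib.H22.Ree.normalizer_le_of_le_cyclic _ A₀
      (D.isCyclic_centralizer_N hF ρ hρ x hx1 hx) hle

/-- a non-trivial element of order dividing `(q+1)/4` exists -/
theorem ReeData.exists_tor_element {q : ℕ} (D : R.ReeData q) (hq27 : 27 ≤ q) :
    ∃ y : G, y ≠ 1 ∧ y ^ ((q + 1) / 4) = 1 := by
  have h8 := D.hq8
  have hne : (q + 1) / 4 ≠ 1 := by omega
  obtain ⟨s, hs, hsd⟩ := Nat.exists_prime_and_dvd hne
  have : Fact s.Prime := ⟨hs⟩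
  have hsG : s ∣ Nat.card G := by
    rw [D.card_eq']
    exact Dvd.dvd.mul_right (Dvd.dvd.mul_right (Dvd.dvd.mul_left hsd _) _) _
  obtain ⟨y, hy⟩ := exists_prime_orderOf_dvd_card' s hsG
  refine ⟨y, ?_, ?_⟩
  · intro h; rw [h, orderOf_one] at hy; exact hs.one_lt.ne hy
  · exact pow_eq_one_of_dvd' y s _ (by rw [← hy]; exact pow_orderOf_eq_one y) hsd

/-- the tori of order `(q+1)/4` -/
theorem ReeData.exists_nonsplit_torus {q : ℕ} (D : R.ReeData q) (hq27 : 27 ≤ q) :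
    ∃ A : Subgroup G, IsCyclic A ∧ Nat.card A = (q + 1) / 4 ∧
      Nat.card (Subgroup.normalizer (A : Set G)) = 6 * (q + 1) ∧
      ∀ A₀ : Subgroup G, A₀ ≤ A → A₀ ≠ ⊥ →
        Subgroup.normalizer (A₀ : Set G) = Subgroup.normalizer (A : Set G) := by
  obtain ⟨y, hy1, hy⟩ := D.exists_tor_element hq27
  obtain ⟨A, hcyc, hcard, -, -⟩ := D.tor_cyclic y hy1 hy
  obtain ⟨h1, h2⟩ := D.normalizer_nonsplit hq27 A hcyc hcard
  exact ⟨A, hcyc, hcard, h1, h2⟩

/-- **the four classes of cyclic tori of the Ree groups and their normalisers** -/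
theorem ReeData.tori_normalizers {q r : ℕ} (D : R.ReeData q) (hF : R.TorusFacts) (ρ : G →* GL (Fin 7) K)
    (hρ : Function.Injective ρ) (hq27 : 27 ≤ q) (hr : r * r = 3 * q)
    (hS : 3 * Nat.card {y : G // y ≠ 1 ∧ y ^ (q ^ 2 - q + 1) = 1} = q ^ 4 * (q ^ 2 - 1) * (q - 2))
    (hsplit : ∃ A : Subgroup G, IsCyclic A ∧ Nat.card A = (q - 1) / 2 ∧
      Nat.card (Subgroup.normalizer (A : Set G)) = 2 * (q - 1) ∧
      ∀ A₀ : Subgroup G, A₀ ≤ A → A₀ ≠ ⊥ →
        Subgroup.normalizer (A₀ : Set G) = Subgroup.normalizer (A : Set G)) :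
    ∀ kn ∈ ({((q - 1) / 2, 2 * (q - 1)), ((q + 1) / 4, 6 * (q + 1)), (q - r + 1, 6 * (q - r + 1)),
        (q + r + 1, 6 * (q + r + 1))} : Set (ℕ × ℕ)),
      ∃ A : Subgroup G, IsCyclic A ∧ Nat.card A = kn.1 ∧
        Nat.card (Subgroup.normalizer (A : Set G)) = kn.2 ∧
        ∀ A₀ : Subgroup G, A₀ ≤ A → A₀ ≠ ⊥ →
          Subgroup.normalizer (A₀ : Set G) = Subgroup.normalizer (A : Set G) := by
  have hrq : r ≤ q := by nlinarith
  obtain ⟨x₁, x₂, hx₁, hx₂, hc₁, hc₂, hn₁, hn₂, -⟩ := D.two_tori hF ρ hρ hq27 hr hS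
  intro kn hkn
  simp only [Set.mem_insert_iff, Set.mem_singleton_iff] at hkn
  rcases hkn with rfl | rfl | rfl | rfl
  · exact hsplit
  · exact D.exists_nonsplit_torus hq27
  · refine ⟨Subgroup.centralizer {x₁}, D.isCyclic_centralizer_N hF ρ hρ x₁ hx₁.1 hx₁.2, ?_, ?_, ?_⟩
    · show Nat.card (Subgroup.centralizer {x₁}) = q - r + 1
      rw [hc₁]; omega
    · show Nat.card (Subgroup.normalizer (Subgroup.centralizer {x₁} : Set G)) = 6 * (q - r + 1)
      rw [hn₁]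
      have : q + 1 - r = q - r + 1 := by omega
      rw [this]; ring
    · intro A₀ h1 h2
      exact D.normalizer_sub_N hF ρ hρ x₁ hx₁.1 hx₁.2 A₀ h1 h2
  · refine ⟨Subgroup.centralizer {x₂}, D.isCyclic_centralizer_N hF ρ hρ x₂ hx₂.1 hx₂.2, ?_, ?_, ?_⟩
    · show Nat.card (Subgroup.centralizer {x₂}) = q + r + 1
      rw [hc₂]; omega
    · show Nat.card (Subgroup.normalizer (Subgroup.centralizer {x₂} : Set G)) = 6 * (q + r + 1)
      rw [hn₂]
      have : q + 1 + r = q + r + 1 := by omega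
      rw [this]; ring
    · intro A₀ h1 h2
      exact D.normalizer_sub_N hF ρ hρ x₂ hx₂.1 hx₂.2 A₀ h1 h2

end RSys

end Cfsg.Agent.Lib.H12.ReeC
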