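import Cfsg.Agent.Lib.H12.ReeV1

/-!
# Ree groups: cyclic subgroups of the same toral order are conjugate (helper12)
-/

set_option autoImplicit false
set_option linter.unusedSectionVars false
set_option linter.unusedSimpArgs false
set_option linter.unusedVariables false

namespace Cfsg.Agent.Lib.H12.ReeC

open Cfsg.Agent.Lib.H12.ReeT Cfsg.Agent.Lib.H12.ReeU
open scoped MatrixGroups

section Generic

variable {Γ : Type*} [Group Γ]

theorem map_conj_map_conj (T : Subgroup Γ) (g h : Γ) :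
    (T.map (MulAut.conj g).toMonoidHom).map (MulAut.conj h).toMonoidHom =
      T.map (MulAut.conj (h * g)).toMonoidHom := by
  rw [Subgroup.map_map]
  congr 1
  ext x
  simp [MulAut.conj_apply, mul_assoc]

/-- two subgroups of the same order of conjugates of a finite cyclic subgroup are conjugate -/
theorem conj_of_le_conj_cyclic [Finite Γ] (T : Subgroup Γ) (hT : IsCyclic T) (A B : Subgroup Γ) (gA gB : Γ)
    (hA : A ≤ T.map (MulAut.conj gA).toMonoidHom) (hB : B ≤ T.map (MulAut.conj gB).toMonoidHom)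
    (hcard : Nat.card A = Nat.card B) : ∃ g : Γ, B = A.map (MulAut.conj g).toMonoidHom := by
  refine ⟨gB * gA⁻¹, ?_⟩
  have h1 : A.map (MulAut.conj (gB * gA⁻¹)).toMonoidHom ≤ T.map (MulAut.conj gB).toMonoidHom := by
    have := Subgroup.map_mono (f := (MulAut.conj (gB * gA⁻¹)).toMonoidHom) hA
    rw [map_conj_map_conj] at this
    have e : gB * gA⁻¹ * gA = gB := by group
    rwa [e] at this
  have hcyc : IsCyclic (T.map (MulAut.conj gB).toMonoidHom) :=
    isCyclic_of_surjective _ (MonoidHom.subgroupMap_surjective _ _)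
  apply Cfsg.Agent.Lib.H22.Ree.eq_of_card_eq_of_le_cyclic _ _ _ hcyc hB h1
  rw [Subgroup.card_map_of_injective (MulAut.conj (gB * gA⁻¹)).injective, hcard]

/-- a cyclic subgroup lies in the centraliser of each of its elements -/
theorem le_centralizer_of_isCyclic (A : Subgroup Γ) (hA : IsCyclic A) (y : Γ) (hy : y ∈ A) :
    A ≤ Subgroup.centralizer {y} := by
  intro u hu
  rw [Subgroup.mem_centralizer_singleton_iff]
  exact comm_of_isCyclic A u y hu hy

theorem pow_card_eq_one_of_mem [Finite Γ] (A : Subgroup Γ) (u : Γ) (hu : u ∈ A) : u ^ Nat.card A = 1 := by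
  have h1 : (⟨u, hu⟩ : A) ^ Nat.card A = 1 := pow_card_eq_one'
  have h2 := congrArg Subtype.val h1
  rw [Subgroup.coe_pow, Subgroup.coe_one] at h2
  exact h2

end Generic

namespace RSys

variable {G K : Type*} [Group G] [Field K] {R : RSys G K} [Fintype K] [Finite G]

/-- the centralisers of the non-trivial elements of order dividing `(q+1)/4` are conjugate -/
theorem ReeData.tor_centralizer_conj {q : ℕ} (D : R.ReeData q) (y y' : G) (hy1 : y ≠ 1)
    (hy : y ^ ((q + 1) / 4) = 1) (hy1' : y' ≠ 1) (hy' : y' ^ ((q + 1) / 4) = 1) :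
    ∃ g : G, Subgroup.centralizer {y'} = (Subgroup.centralizer {y}).map (MulAut.conj g).toMonoidHom := by
  have h8 := D.hq8
  obtain ⟨hc, hcomm⟩ := D.tor_centralizer y hy1 hy
  obtain ⟨hc', hcomm'⟩ := D.tor_centralizer y' hy1' hy'
  have ho1 : orderOf y' ≠ 1 := fun h => hy1' (orderOf_eq_one_iff.mp h)
  have ho0 : orderOf y' ≠ 0 := (orderOf_pos y').ne'
  obtain ⟨s, hs, hso⟩ := Nat.exists_prime_and_dvd ho1
  have : Fact s.Prime := ⟨hs⟩
  have hse : s ∣ (q + 1) / 4 := hso.trans (orderOf_dvd_of_pow_eq_one hy')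
  set z' := y' ^ (orderOf y' / s) with hz'def
  have hz'o : orderOf z' = s := orderOf_pow_orderOf_div ho0 hso
  have hz'1 : z' ≠ 1 := by
    intro h; rw [h, orderOf_one] at hz'o; exact hs.one_lt.ne hz'o
  have hz's : z' ^ s = 1 := by rw [← hz'o]; exact pow_orderOf_eq_one z'
  have hz'e : z' ^ ((q + 1) / 4) = 1 := pow_eq_one_of_dvd' z' s _ hz's hse
  -- `C(z') = C(y')`
  have hz'C : z' ∈ Subgroup.centralizer {y'} := by
    rw [Subgroup.mem_centralizer_singleton_iff, hz'def, ← pow_succ, ← pow_succ']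
  have hCz' : Subgroup.centralizer {y'} = Subgroup.centralizer {z'} := by
    apply Subgroup.eq_of_le_of_card_ge
    · intro u hu
      rw [Subgroup.mem_centralizer_singleton_iff]
      exact hcomm' u hu z' hz'C
    · rw [hc', (D.tor_centralizer z' hz'1 hz'e).1]
  -- `z'` is conjugate into `C(y)`
  have hidx : ¬ s ∣ (Subgroup.centralizer {y}).index := by
    intro hd
    have h1 := (Subgroup.centralizer {y}).index_mul_card
    rw [hc, D.card_eq'] at h1
    have e4 := D.e4
    have h2 : (Subgroup.centralizer {y}).index * (q + 1) =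
        ((q - 1) / 2 * (q ^ 2 - q + 1) * (2 * q ^ 3)) * (q + 1) := by
      rw [h1]
      conv_rhs => rw [e4]
      ring
    have h3 : (Subgroup.centralizer {y}).index = (q - 1) / 2 * (q ^ 2 - q + 1) * (2 * q ^ 3) :=
      Nat.eq_of_mul_eq_mul_right (by omega) h2
    rw [h3] at hd
    have hcop : Nat.Coprime ((q + 1) / 4) ((q - 1) / 2 * (q ^ 2 - q + 1) * (2 * q ^ 3)) := by
      refine Nat.Coprime.mul_right (Nat.Coprime.mul_right D.coprime_e1_e2.symm D.coprime_e2_N) ?_
      exact Nat.Coprime.coprime_dvd_right ⟨4, by ring⟩ D.coprime_e2_q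
    exact hs.one_lt.ne' (Nat.eq_one_of_dvd_coprimes hcop hse hd)
  obtain ⟨g, hg⟩ := exists_conj_mem_of_prime (Subgroup.centralizer {y}) z' s hz's hidx
  have hw1 := conj_ne_one g z' hz'1
  have hwe := conj_pow_eq_one g z' _ hz'e
  have hCw : Subgroup.centralizer {y} = Subgroup.centralizer {g⁻¹ * z' * g} := by
    apply Subgroup.eq_of_le_of_card_ge
    · intro u hu
      rw [Subgroup.mem_centralizer_singleton_iff]
      exact hcomm u hu _ hg
    · rw [hc, (D.tor_centralizer _ hw1 hwe).1]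
  refine ⟨g, ?_⟩
  rw [hCz', hCw]
  exact centralizer_conj z' g _ rfl

/-- a 3-element is conjugate into `U` -/
theorem ReeData.exists_conj_mem_U {q : ℕ} (D : R.ReeData q) (y : G) (hy : y ^ (q ^ 3) = 1) :
    ∃ g : G, g⁻¹ * y * g ∈ R.U := by
  have hq3 := D.three_le
  obtain ⟨n, hn⟩ : ∃ n : ℕ, q = 3 ^ n := by
    obtain ⟨p, hp⟩ := CharP.exists K
    have := hp
    obtain ⟨n, hpr, hn⟩ := FiniteField.card K p
    rw [D.hq] at hn
    have h3 : 3 ∣ p ^ (n : ℕ) := by rw [← hn]; exact D.h3q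
    have h3p : 3 = p :=
      (Nat.prime_dvd_prime_iff_eq Nat.prime_three hpr).mp (Nat.prime_three.dvd_of_dvd_pow h3)
    subst h3p
    exact ⟨n, hn⟩
  have : Fact (Nat.Prime 3) := ⟨Nat.prime_three⟩
  have hidx : ¬ 3 ∣ R.U.index := by
    rw [R.index_U q D.hq D.hcard (by omega)]
    obtain ⟨j, hj⟩ := D.h3q
    intro hd
    rcases (Nat.Prime.dvd_mul Nat.prime_three).mp hd with h | h
    · omega
    · have e : q ^ 3 = 3 * (9 * j ^ 3) := by rw [hj]; ring
      rw [e] at h
      omega
  have hP : IsPGroup 3 (Subgroup.zpowers y) := by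
    apply isPGroup_zpowers 3 (n * 3) y
    rw [pow_mul, ← hn]
    exact hy
  have hne := hP.nonempty_fixed_point_of_prime_not_dvd_card (G ⧸ R.U) (by rwa [← Subgroup.index])
  obtain ⟨c, hc⟩ := hne
  obtain ⟨g, rfl⟩ := QuotientGroup.mk_surjective c
  refine ⟨g, ?_⟩
  have h1 := hc ⟨y, Subgroup.mem_zpowers y⟩
  have h2 : ((y * g : G) : G ⧸ R.U) = (g : G ⧸ R.U) := h1
  rw [QuotientGroup.eq] at h2
  have h3 := R.U.inv_mem h2
  have e : ((y * g)⁻¹ * g)⁻¹ = g⁻¹ * y * g := by group
  rwa [e] at h3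

end RSys

end Cfsg.Agent.Lib.H12.ReeC
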