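import Cfsg.Agent.Lib.H12.ReeV2

/-!
# Ree groups: cyclic subgroups of the same toral order are conjugate, II (helper12)
-/

set_option autoImplicit false
set_option linter.unusedSectionVars false
set_option linter.unusedSimpArgs false
set_option linter.unusedVariables false

namespace Cfsg.Agent.Lib.H12.ReeC

open Cfsg.Agent.Lib.H12.ReeT Cfsg.Agent.Lib.H12.ReeU
open scoped MatrixGroups

namespace RSys

variable {G K : Type*} [Group G] [Field K] {R : RSys G K} [Fintype K] [Finite G]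

theorem isCyclic_Hs (R : RSys G K) : IsCyclic R.Hs := by
  classical
  unfold Hs
  exact isCyclic_of_surjective _ R.h.rangeRestrict_surjective

/-- the product of the orders of the two tori -/
theorem tori_mul (q r : ℕ) (hr : r * r = 3 * q) (hq : 3 ≤ q) :
    (q + 1 - r) * (q + 1 + r) = q ^ 2 - q + 1 := by
  have hrq : r ≤ q := by nlinarith
  rw [N_eq q (by omega)]
  obtain ⟨s, rfl⟩ : ∃ s, q = s + 1 := ⟨q - 1, by omega⟩
  obtain ⟨t, ht⟩ : ∃ t, s + 1 + 1 = r + t := ⟨s + 1 + 1 - r, by omega⟩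
  have e1 : s + 1 + 1 - r = t := by omega
  rw [e1, Nat.add_sub_cancel, ht]
  have h2 : (r + t) * (r + t) = (s + 2) * (s + 2) := by rw [← ht]
  nlinarith

/-- the orders of the two tori are coprime -/
theorem ReeData.tori_coprime {q r : ℕ} (D : R.ReeData q) (hr : r * r = 3 * q) :
    Nat.Coprime (q + 1 - r) (q + 1 + r) := by
  have hq3 := D.three_le
  have hrq : r ≤ q := by nlinarith
  have hmul := tori_mul q r hr hq3
  apply Nat.coprime_of_dvd
  intro p hp h1 h2
  have hpN : p ∣ q ^ 2 - q + 1 := by rw [← hmul]; exact Dvd.dvd.mul_right h1 _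
  -- `p ∣ 2 r`
  have h3 : p ∣ 2 * r := by
    have e : q + 1 + r = (q + 1 - r) + 2 * r := by omega
    rw [e] at h2
    exact (Nat.dvd_add_right h1).mp h2
  rcases (Nat.Prime.dvd_mul hp).mp h3 with h | h
  · have := (Nat.prime_dvd_prime_iff_eq hp Nat.prime_two).mp h
    subst this
    exact N_odd q (by omega) hpN
  · have h4 : p ∣ 3 * q := by rw [← hr]; exact Dvd.dvd.mul_right h _
    rcases (Nat.Prime.dvd_mul hp).mp h4 with h5 | h5
    · have := (Nat.prime_dvd_prime_iff_eq hp Nat.prime_three).mp h5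
      subst this
      exact N_not_three q (by omega) D.h3q hpN
    · exact hp.one_lt.ne' (Nat.eq_one_of_dvd_coprimes (N_coprime_q q (by omega)) hpN h5)

/-- **cyclic subgroups of the same order `d` dividing `(q-1)/2`, `(q+1)/4`, `q - r + 1` or `q + r + 1` are conjugate** -/
theorem ReeData.cyclic_conj {q r : ℕ} (D : R.ReeData q) (hF : R.TorusFacts) (ρ : G →* GL (Fin 7) K)
    (hρ : Function.Injective ρ) (hq27 : 27 ≤ q) (hr : r * r = 3 * q)
    (hS : 3 * Nat.card {y : G // y ≠ 1 ∧ y ^ (q ^ 2 - q + 1) = 1} = q ^ 4 * (q ^ 2 - 1) * (q - 2))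
    (d : ℕ) (hd : d ∣ (q - 1) / 2 ∨ d ∣ (q + 1) / 4 ∨ d ∣ q - r + 1 ∨ d ∣ q + r + 1)
    (A B : Subgroup G) (hA : IsCyclic A) (hB : IsCyclic B) (hAd : Nat.card A = d) (hBd : Nat.card B = d) :
    ∃ g : G, B = A.map (MulAut.conj g).toMonoidHom := by
  have h8 := D.hq8
  have hrq : r ≤ q := by nlinarith
  by_cases hd1 : d = 1
  · subst hd1
    rw [Subgroup.card_eq_one] at hAd hBd
    exact ⟨1, by rw [hAd, hBd, Subgroup.map_bot]⟩
  obtain ⟨yA, hyA⟩ := (Subgroup.isCyclic_iff_exists_zpowers_eq_top _).mp hA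
  obtain ⟨yB, hyB⟩ := (Subgroup.isCyclic_iff_exists_zpowers_eq_top _).mp hB
  have hyAm : yA ∈ A := by rw [← hyA]; exact Subgroup.mem_zpowers yA
  have hyBm : yB ∈ B := by rw [← hyB]; exact Subgroup.mem_zpowers yB
  have hyA1 : yA ≠ 1 := by
    rintro rfl
    rw [Subgroup.zpowers_one_eq_bot] at hyA
    rw [← hyA, Subgroup.card_bot] at hAd
    exact hd1 hAd.symm
  have hyB1 : yB ≠ 1 := by
    rintro rfl
    rw [Subgroup.zpowers_one_eq_bot] at hyB
    rw [← hyB, Subgroup.card_bot] at hBd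
    exact hd1 hBd.symm
  have hpowA : ∀ u ∈ A, u ^ d = 1 := fun u hu => by rw [← hAd]; exact pow_card_eq_one_of_mem A u hu
  have hpowB : ∀ u ∈ B, u ^ d = 1 := fun u hu => by rw [← hBd]; exact pow_card_eq_one_of_mem B u hu
  have hAC := le_centralizer_of_isCyclic A hA yA hyAm
  have hBC := le_centralizer_of_isCyclic B hB yB hyBm
  have hcard : Nat.card A = Nat.card B := by rw [hAd, hBd]
  -- the two cases of tori of order dividing `N`
  have hNcase : ∀ (x₁ : G), x₁ ∈ Sg (G := G) q → d ∣ Nat.card (Subgroup.centralizer {x₁}) →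
      (∀ y : G, y ≠ 1 → y ^ d = 1 → y ^ (q ^ 2 - q + 1) = 1 → ∃ g : G, g⁻¹ * y * g ∈ Subgroup.centralizer {x₁}) →
      ∃ g : G, B = A.map (MulAut.conj g).toMonoidHom := by
    intro x₁ hx₁ hdx hconj
    have hdN : d ∣ q ^ 2 - q + 1 := hdx.trans (D.card_centralizer_dvd_N hF x₁ hx₁.1 hx₁.2)
    have hyAN : yA ^ (q ^ 2 - q + 1) = 1 := pow_eq_one_of_dvd' yA d _ (hpowA yA hyAm) hdN
    have hyBN : yB ^ (q ^ 2 - q + 1) = 1 := pow_eq_one_of_dvd' yB d _ (hpowB yB hyBm) hdN
    obtain ⟨gA, hgA⟩ := hconj yA hyA1 (hpowA yA hyAm) hyAN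
    obtain ⟨gB, hgB⟩ := hconj yB hyB1 (hpowB yB hyBm) hyBN
    have h1 := D.centralizer_eq_of_mem hF ρ hρ x₁ hx₁.1 hx₁.2 _ hgA (conj_ne_one gA yA hyA1)
    have h2 := D.centralizer_eq_of_mem hF ρ hρ x₁ hx₁.1 hx₁.2 _ hgB (conj_ne_one gB yB hyB1)
    have h3 := centralizer_conj yA gA _ h1
    have h4 := centralizer_conj yB gB _ h2
    rw [h3] at hAC
    rw [h4] at hBC
    exact conj_of_le_conj_cyclic _ (D.isCyclic_centralizer_N hF ρ hρ x₁ hx₁.1 hx₁.2) A B gA gB hAC hBC hcard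
  rcases hd with hd | hd | hd | hd
  · -- the split torus
    obtain ⟨gA, hgA⟩ := R.centralizer_of_pow_half hF q D.hq D.hcard (by omega) yA hyA1
      (pow_eq_one_of_dvd' yA d _ (hpowA yA hyAm) hd)
    obtain ⟨gB, hgB⟩ := R.centralizer_of_pow_half hF q D.hq D.hcard (by omega) yB hyB1
      (pow_eq_one_of_dvd' yB d _ (hpowB yB hyBm) hd)
    rw [hgA] at hAC
    rw [hgB] at hBC
    exact conj_of_le_conj_cyclic R.Hs R.isCyclic_Hs A B gA gB hAC hBC hcard
  · -- the torus of order `(q+1)/4`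
    have hyAe : yA ^ ((q + 1) / 4) = 1 := pow_eq_one_of_dvd' yA d _ (hpowA yA hyAm) hd
    have hyBe : yB ^ ((q + 1) / 4) = 1 := pow_eq_one_of_dvd' yB d _ (hpowB yB hyBm) hd
    obtain ⟨T, hTcyc, hTcard, hTle, hTmem⟩ := D.tor_cyclic yA hyA1 hyAe
    obtain ⟨g, hg⟩ := D.tor_centralizer_conj yA yB hyA1 hyAe hyB1 hyBe
    have hA' : A ≤ T.map (MulAut.conj (1 : G)).toMonoidHom := by
      intro u hu
      refine ⟨u, hTmem u (hAC hu) (pow_eq_one_of_dvd' u d _ (hpowA u hu) hd), ?_⟩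
      simp
    have hB' : B ≤ T.map (MulAut.conj g).toMonoidHom := by
      intro u hu
      have hu' := hBC hu
      rw [hg] at hu'
      obtain ⟨w, hw, rfl⟩ := hu'
      refine ⟨w, hTmem w hw ?_, rfl⟩
      have h1 := pow_eq_one_of_dvd' _ d _ (hpowB _ hu) hd
      have h2 : (MulAut.conj g).toMonoidHom w = g * w * g⁻¹ := rfl
      rw [h2] at h1
      have h3 := conj_pow_eq_one g (g * w * g⁻¹) _ h1
      have h4 : g⁻¹ * (g * w * g⁻¹) * g = w := by group
      rwa [h4] at h3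
    exact conj_of_le_conj_cyclic T hTcyc A B 1 g hA' hB' hcard
  · -- the torus of order `q - r + 1`
    obtain ⟨x₁, x₂, hx₁, hx₂, hc₁, hc₂, -, -, hcov⟩ := D.two_tori hF ρ hρ hq27 hr hS
    apply hNcase x₁ hx₁ (by rw [hc₁]; have : q + 1 - r = q - r + 1 := by omega
                            rw [this]; exact hd)
    intro y hy1 hyd hyN
    rcases hcov ⟨hy1, hyN⟩ with h | h
    · exact h.2
    · exfalso
      obtain ⟨-, g, hg⟩ := h
      have h1 := pow_card_eq_one_of_mem _ _ hg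
      rw [hc₂] at h1
      have h2 := conj_pow_eq_one g y _ hyd
      have hcop : Nat.Coprime d (q + 1 + r) := by
        have : q + 1 - r = q - r + 1 := by omega
        exact Nat.Coprime.coprime_dvd_left (by rw [this]; exact hd) (D.tori_coprime hr)
      exact conj_ne_one g y hy1 (eq_one_of_pow_coprime _ _ _ h2 h1 hcop)
  · -- the torus of order `q + r + 1`
    obtain ⟨x₁, x₂, hx₁, hx₂, hc₁, hc₂, -, -, hcov⟩ := D.two_tori hF ρ hρ hq27 hr hS
    apply hNcase x₂ hx₂ (by rw [hc₂]; have : q + 1 + r = q + r + 1 := by omega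
                            rw [this]; exact hd)
    intro y hy1 hyd hyN
    rcases hcov ⟨hy1, hyN⟩ with h | h
    · exfalso
      obtain ⟨-, g, hg⟩ := h
      have h1 := pow_card_eq_one_of_mem _ _ hg
      rw [hc₁] at h1
      have h2 := conj_pow_eq_one g y _ hyd
      have hcop : Nat.Coprime d (q + 1 - r) := by
        have : q + 1 + r = q + r + 1 := by omega
        exact Nat.Coprime.coprime_dvd_left (by rw [this]; exact hd) (D.tori_coprime hr).symm
      exact conj_ne_one g y hy1 (eq_one_of_pow_coprime _ _ _ h2 h1 hcop)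
    · exact h.2

end RSys

end Cfsg.Agent.Lib.H12.ReeC
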