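import Cfsg.Agent.Lib.H12.ReeV3
import Cfsg.Agent.Lib.H22.ReeH1
import Cfsg.Agent.Lib.H15.ReeH2
import Cfsg.Agent.Lib.H29.ReeB1

/-!
# Ree groups: the orders of the elements (helper12)
-/

set_option autoImplicit false
set_option linter.unusedSectionVars false
set_option linter.unusedSimpArgs false
set_option linter.unusedVariables false

namespace Cfsg.Agent.Lib.H12.ReeC

open Cfsg.Agent.Lib.H12.ReeT Cfsg.Agent.Lib.H12.ReeU
open scoped MatrixGroups

theorem orderOf_dvd_of_conj_pow {Γ : Type*} [Group Γ] (g y : Γ) (n : ℕ) (h : (g⁻¹ * y * g) ^ n = 1) :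
    orderOf y ∣ n := by
  apply orderOf_dvd_of_pow_eq_one
  have e : y = g * (g⁻¹ * y * g) * g⁻¹ := by group
  rw [e, conj_pow, h]
  group

theorem exists_orderOf_of_dvd {Γ : Type*} [Group Γ] (g : Γ) (n d : ℕ) (hg : orderOf g = n) (hn : n ≠ 0)
    (hd : d ∣ n) : ∃ g' : Γ, orderOf g' = d := by
  refine ⟨g ^ (orderOf g / d), ?_⟩
  apply orderOf_pow_orderOf_div
  · rw [hg]; exact hn
  · rw [hg]; exact hd

namespace RSys

variable {G K : Type*} [Group G] [Field K] {R : RSys G K} [Fintype K] [Finite G]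

/-- `q` is a power of 3 -/
theorem ReeData.q_eq_pow {q : ℕ} (D : R.ReeData q) : ∃ k : ℕ, q = 3 ^ k := by
  have hq3 := D.three_le
  exact ⟨_, Nat.eq_prime_pow_of_unique_prime_dvd (by omega)
    (fun {d} hd hdq => D.prime_dvd_q d hd hdq)⟩

/-- a 3-element commuting with an involution has order dividing 3 -/
theorem ReeData.pow_three_of_comm_involution {q : ℕ} (D : R.ReeData q) (v w : G) (hv1 : v ≠ 1)
    (hv2 : v * v = 1) (hc : w * v = v * w) (hw : w ^ (q ^ 3) = 1) : w ^ 3 = 1 := by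
  obtain ⟨k, hN, hk⟩ := D.two_part
  obtain ⟨g, hg⟩ := R.involution_conj D.hq8' k hN hk D.hZ v hv1 hv2
  have hw' : g⁻¹ * w * g ∈ Subgroup.centralizer {R.a} := by
    rw [Subgroup.mem_centralizer_singleton_iff]
    have e1 : R.a = g⁻¹ * v * g := by rw [← hg]; group
    rw [e1]
    calc g⁻¹ * w * g * (g⁻¹ * v * g) = g⁻¹ * (w * v) * g := by group
      _ = g⁻¹ * (v * w) * g := by rw [hc]
      _ = g⁻¹ * v * g * (g⁻¹ * w * g) := by group
  obtain ⟨e, x, hex⟩ := R.mem_centralizer_a _ hw'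
  have hpow : (g⁻¹ * w * g) ^ (q ^ 3) = 1 := conj_pow_eq_one g w _ hw
  rw [hex, R.Phi_pow] at hpow
  have h1 : (e ^ (q ^ 3), x ^ (q ^ 3)) = (1 : Multiplicative (ZMod 2) × PSL(2, K)) := by
    apply R.Phi_injective
    rw [hpow, map_one]
  rw [Prod.mk_eq_one] at h1
  obtain ⟨kk, hkk⟩ := D.q_eq_pow
  have hx3 : x ^ 3 = 1 := by
    apply Cfsg.Agent.Lib.H15.Ree.psl2_pow_three R.three (kk * 3) x
    rw [pow_mul, ← hkk]
    exact h1.2
  have he1 : e = 1 := eq_one_of_sq_of_odd e (q ^ 3) D.odd_q3 h1.1 (z2_sq e)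
  have h3 : (g⁻¹ * w * g) ^ 3 = 1 := by
    rw [hex, R.Phi_pow, hx3, he1, one_pow]
    exact map_one _
  have := orderOf_dvd_of_conj_pow g w 3 h3
  exact orderOf_dvd_iff_pow_eq_one.mp this

/-- **the order of an element divides one of `6, 9, q - 1, (q + 1)/2, q - r + 1, q + r + 1`** -/
theorem ReeData.orderOf_cases {q r : ℕ} (D : R.ReeData q) (hF : R.TorusFacts) (ρ : G →* GL (Fin 7) K)
    (hρ : Function.Injective ρ) (hq27 : 27 ≤ q) (hr : r * r = 3 * q)
    (hS : 3 * Nat.card {y : G // y ≠ 1 ∧ y ^ (q ^ 2 - q + 1) = 1} = q ^ 4 * (q ^ 2 - 1) * (q - 2)) (y : G) :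
    orderOf y ∣ 6 ∨ orderOf y ∣ 9 ∨ orderOf y ∣ q - 1 ∨ orderOf y ∣ (q + 1) / 2 ∨
      orderOf y ∣ q - r + 1 ∨ orderOf y ∣ q + r + 1 := by
  have hq8 := D.hq8
  have hrq : r ≤ q := by nlinarith
  have he1 : q - 1 = 2 * ((q - 1) / 2) := by omega
  have he2 : (q + 1) / 2 = 2 * ((q + 1) / 4) := by omega
  rcases D.cls_cases hF y with h | ⟨h1, h⟩ | h | ⟨h1, h⟩ | ⟨h1, h⟩ | ⟨h1, h⟩
  · left; rw [h, orderOf_one]; exact one_dvd _
  · right; left
    obtain ⟨g, hg⟩ := D.exists_conj_mem_U y h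
    exact orderOf_dvd_of_conj_pow g y 9 (Cfsg.Agent.Lib.H22.Ree.pow_nine_of_mem_U R _ hg)
  · -- even order
    obtain ⟨k, hN, hk⟩ := D.two_part
    have h4 := R.sq_of_pow_four D.hq8' k hN hk
    obtain ⟨hv1, hv2, hwodd⟩ := Cfsg.Agent.Lib.H29.Ree.even_decomp_exists h4 y h
    generalize hv : y ^ (orderOf y / 2) = v at hv1 hv2 hwodd
    have hvy : v * y = y * v := by rw [← hv]; exact (pow_mul_comm' y _)
    have hwv : (v * y) * v = v * (v * y) := by rw [mul_assoc, ← hvy]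
    have hyvw : y = v * (v * y) := by rw [← mul_assoc, hv2, one_mul]
    have hdvd : ∀ n, (v * y) ^ n = 1 → orderOf y ∣ 2 * n := by
      intro n hn
      apply orderOf_dvd_of_pow_eq_one
      have hc : Commute v (v * y) := hwv.symm
      rw [hyvw, hc.mul_pow, pow_mul v 2 n, pow_mul' (v * y) 2 n, hn, pow_two, hv2, one_pow, one_pow, one_mul]
    by_cases hw1 : v * y = 1
    · left
      have := hdvd 1 (by rw [hw1, pow_one])
      exact this.trans (by norm_num)
    · rcases D.odd_cases hF (v * y) hw1 hwodd with h' | h' | h' | h'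
      · left
        have h3 := D.pow_three_of_comm_involution v (v * y) hv1 hv2 hwv h'
        exact hdvd 3 h3
      · right; right; left; rw [he1]; exact hdvd _ h'
      · right; right; right; left; rw [he2]; exact hdvd _ h'
      · exfalso
        have hvC : v ∈ Subgroup.centralizer {v * y} := Subgroup.mem_centralizer_singleton_iff.mpr hwv.symm
        have hdN := D.card_centralizer_dvd_N hF (v * y) hw1 h'
        have hov : orderOf v = 2 := orderOf_eq_prime (by rw [pow_two]; exact hv2) hv1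
        have h2 : 2 ∣ Nat.card (Subgroup.centralizer {v * y}) := by
          rw [← hov]
          have := orderOf_dvd_natCard (⟨v, hvC⟩ : Subgroup.centralizer {v * y})
          rwa [Subgroup.orderOf_mk] at this
        exact absurd (even_iff_two_dvd.mpr (h2.trans hdN)) (Nat.not_even_iff_odd.mpr D.odd_N)
  · right; right; left
    exact (orderOf_dvd_of_pow_eq_one h).trans ⟨2, by omega⟩
  · right; right; right; left
    exact (orderOf_dvd_of_pow_eq_one h).trans ⟨2, by omega⟩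
  · obtain ⟨x₁, x₂, hx₁, hx₂, hc₁, hc₂, hn₁, hn₂, hcov⟩ := D.two_tori hF ρ hρ hq27 hr hS
    rcases hcov ⟨h1, h⟩ with ⟨-, g, hg⟩ | ⟨-, g, hg⟩
    · right; right; right; right; left
      have := pow_card_eq_one_of_mem (Subgroup.centralizer {x₁}) _ hg
      rw [hc₁] at this
      have e : q + 1 - r = q - r + 1 := by omega
      rw [e] at this
      exact orderOf_dvd_of_conj_pow g y _ this
    · right; right; right; right; right
      have := pow_card_eq_one_of_mem (Subgroup.centralizer {x₂}) _ hg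
      rw [hc₂] at this
      have e : q + 1 + r = q + r + 1 := by omega
      rw [e] at this
      exact orderOf_dvd_of_conj_pow g y _ this

theorem orderOf_a (R : RSys G K) : orderOf R.a = 2 :=
  orderOf_eq_prime (by rw [pow_two]; exact R.a_sq) R.a_ne_one

theorem orderOf_X_one (R : RSys G K) : orderOf (R.X 1) = 3 := by
  apply orderOf_eq_prime
  · rw [pow_succ, pow_two, R.X_add, R.X_add]
    have : (1 : K) + 1 + 1 = 0 := by linear_combination R.three
    rw [this, R.X_zero]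
  · intro h
    rw [← R.X_zero] at h
    exact one_ne_zero (R.X_inj h)

theorem exists_order_six (R : RSys G K) : ∃ g : G, orderOf g = 6 := by
  refine ⟨R.a * R.X 1, ?_⟩
  have hc : Commute R.a (R.X 1) := R.a_comm_X 1
  rw [hc.orderOf_mul_eq_mul_orderOf_of_coprime, orderOf_a, orderOf_X_one]
  rw [orderOf_a, orderOf_X_one]
  norm_num

/-- an element of order `(q + 1)/2` -/
theorem ReeData.exists_order_half {q : ℕ} (D : R.ReeData q) (hq27 : 27 ≤ q) :
    ∃ g : G, orderOf g = (q + 1) / 2 := by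
  have hq8 := D.hq8
  obtain ⟨A, hAc, hAcard, -, -⟩ := D.exists_nonsplit_torus hq27
  obtain ⟨y, hyA, hy⟩ := Cfsg.Agent.Lib.H22.Ree.exists_orderOf_eq_of_dvd A hAc ((q + 1) / 4)
    (by rw [hAcard])
  have hy1 : y ≠ 1 := by
    intro h
    rw [h, orderOf_one] at hy
    omega
  have hyp : y ^ ((q + 1) / 4) = 1 := by rw [← hy]; exact pow_orderOf_eq_one y
  obtain ⟨hcard, -⟩ := D.tor_centralizer y hy1 hyp
  have : Fact (Nat.Prime 2) := ⟨Nat.prime_two⟩
  have h2 : 2 ∣ Nat.card (Subgroup.centralizer {y}) := by rw [hcard]; omega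
  obtain ⟨v, hv⟩ := exists_prime_orderOf_dvd_card' 2 h2
  have hvc : (v : G) * y = y * v := Subgroup.mem_centralizer_singleton_iff.mp v.2
  refine ⟨(v : G) * y, ?_⟩
  have hc : Commute (v : G) y := hvc
  have hcop : Nat.Coprime (orderOf (v : G)) (orderOf y) := by
    rw [Subgroup.orderOf_coe, hv, hy]
    exact Nat.coprime_two_left.mpr D.odd_e
  rw [hc.orderOf_mul_eq_mul_orderOf_of_coprime hcop, Subgroup.orderOf_coe, hv, hy]
  omega

/-- **every divisor of one of `6, 9, q - 1, (q + 1)/2, q - r + 1, q + r + 1` is the order of an element** -/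
theorem ReeData.exists_orderOf {q r : ℕ} (D : R.ReeData q) (hF : R.TorusFacts) (ρ : G →* GL (Fin 7) K)
    (hρ : Function.Injective ρ) (hq27 : 27 ≤ q) (hr : r * r = 3 * q)
    (hS : 3 * Nat.card {y : G // y ≠ 1 ∧ y ^ (q ^ 2 - q + 1) = 1} = q ^ 4 * (q ^ 2 - 1) * (q - 2)) (d : ℕ)
    (hd : d ∣ 6 ∨ d ∣ 9 ∨ d ∣ q - 1 ∨ d ∣ (q + 1) / 2 ∨ d ∣ q - r + 1 ∨ d ∣ q + r + 1) :
    ∃ g : G, orderOf g = d := by
  have hq8 := D.hq8
  have hrq : r ≤ q := by nlinarith
  rcases hd with h | h | h | h | h | h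
  · obtain ⟨g, hg⟩ := exists_order_six R
    exact exists_orderOf_of_dvd g 6 d hg (by norm_num) h
  · exact exists_orderOf_of_dvd _ 9 d (Cfsg.Agent.Lib.H22.Ree.orderOf_x_one R) (by norm_num) h
  · obtain ⟨y, -, hy⟩ := Cfsg.Agent.Lib.H22.Ree.exists_orderOf_eq_of_dvd R.Hs (isCyclic_Hs R) d
      (by rw [R.card_Hs, D.hq]; exact h)
    exact ⟨y, hy⟩
  · obtain ⟨g, hg⟩ := D.exists_order_half hq27
    exact exists_orderOf_of_dvd g _ d hg (by omega) h
  · obtain ⟨x₁, x₂, hx₁, hx₂, hc₁, hc₂, -⟩ := D.two_tori hF ρ hρ hq27 hr hS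
    obtain ⟨y, -, hy⟩ := Cfsg.Agent.Lib.H22.Ree.exists_orderOf_eq_of_dvd (Subgroup.centralizer {x₁})
      (D.isCyclic_centralizer_N hF ρ hρ x₁ hx₁.1 hx₁.2) d
      (by rw [hc₁]; have e : q + 1 - r = q - r + 1 := by omega
          rw [e]; exact h)
    exact ⟨y, hy⟩
  · obtain ⟨x₁, x₂, hx₁, hx₂, hc₁, hc₂, -⟩ := D.two_tori hF ρ hρ hq27 hr hS
    obtain ⟨y, -, hy⟩ := Cfsg.Agent.Lib.H22.Ree.exists_orderOf_eq_of_dvd (Subgroup.centralizer {x₂})
      (D.isCyclic_centralizer_N hF ρ hρ x₂ hx₂.1 hx₂.2) d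
      (by rw [hc₂]; have e : q + 1 + r = q + r + 1 := by omega
          rw [e]; exact h)
    exact ⟨y, hy⟩

end RSys

end Cfsg.Agent.Lib.H12.ReeC
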