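import Cfsg.Agent.Lib.H12.ReeV4
import Cfsg.Agent.Lib.H17.ReeK1
import Cfsg.Agent.Lib.H29.ReeD2

/-!
# Ree groups: the number of elements of each order (helper12)
-/

set_option autoImplicit false
set_option linter.unusedSectionVars false
set_option linter.unusedSimpArgs false
set_option linter.unusedVariables false

namespace Cfsg.Agent.Lib.H12.ReeC

open Cfsg.Agent.Lib.H12.ReeT Cfsg.Agent.Lib.H12.ReeU
open scoped MatrixGroups

theorem sq_ne_one_of_two_lt_orderOf {Γ : Type*} [Group Γ] (y : Γ) (h : 2 < orderOf y) : y * y ≠ 1 := by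
  intro h1
  have : orderOf y ∣ 2 := orderOf_dvd_of_pow_eq_one (by rw [pow_two]; exact h1)
  have := Nat.le_of_dvd (by norm_num) this
  omega

namespace RSys

variable {G K : Type*} [Group G] [Field K] {R : RSys G K} [Fintype K] [Finite G]

/-- an element of the split torus of order at least 3 has centraliser the split torus -/
theorem centralizer_of_mem_Hs (R : RSys G K) (hF : R.TorusFacts) (y : G) (hy : y ∈ R.Hs) (h2 : 2 < orderOf y) :
    Subgroup.centralizer {y} = R.Hs := by
  obtain ⟨z, rfl⟩ := hy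
  apply R.centralizer_h hF z
  intro hz
  apply sq_ne_one_of_two_lt_orderOf _ h2
  rw [← map_mul, hz, map_one]

/-- the "TI" property of the split torus -/
theorem split_TI (R : RSys G K) (hF : R.TorusFacts) (g y : G) (hy : y ∈ R.Hs) (h2 : 2 < orderOf y)
    (hgy : g * y * g⁻¹ ∈ R.Hs) : g ∈ Subgroup.normalizer (R.Hs : Set G) := by
  have h1 := centralizer_of_mem_Hs R hF y hy h2
  have h2' : 2 < orderOf (g * y * g⁻¹) := by
    rw [Cfsg.Agent.Lib.H17.Ree.orderOf_conj_eq]; exact h2
  have h3 := centralizer_of_mem_Hs R hF _ hgy h2'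
  rw [Subgroup.mem_normalizer_iff]
  intro u
  constructor
  · intro hu
    rw [← h3, Subgroup.mem_centralizer_singleton_iff]
    rw [← h1, Subgroup.mem_centralizer_singleton_iff] at hu
    calc g * u * g⁻¹ * (g * y * g⁻¹) = g * (u * y) * g⁻¹ := by group
      _ = g * (y * u) * g⁻¹ := by rw [hu]
      _ = g * y * g⁻¹ * (g * u * g⁻¹) := by group
  · intro hu
    rw [← h3, Subgroup.mem_centralizer_singleton_iff] at hu
    rw [← h1, Subgroup.mem_centralizer_singleton_iff]
    calc u * y = g⁻¹ * (g * u * g⁻¹ * (g * y * g⁻¹)) * g := by group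
      _ = g⁻¹ * (g * y * g⁻¹ * (g * u * g⁻¹)) * g := by rw [hu]
      _ = y * u := by group

/-- the elements of order `i ∣ q - 1`, `i > 2`, are conjugate into the split torus -/
theorem ReeData.split_cov {q : ℕ} (D : R.ReeData q) (hF : R.TorusFacts) (i : ℕ) (hi2 : 2 < i)
    (hi : i ∣ q - 1) (y : G) (hy : orderOf y = i) : ∃ g : G, g⁻¹ * y * g ∈ R.Hs := by
  have hq8 := D.hq8
  have hw1 : y * y ≠ 1 := sq_ne_one_of_two_lt_orderOf y (by rw [hy]; exact hi2)
  have hw : (y * y) ^ ((q - 1) / 2) = 1 := by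
    rw [← pow_two, ← pow_mul]
    have e : 2 * ((q - 1) / 2) = q - 1 := by omega
    rw [e]
    exact orderOf_dvd_iff_pow_eq_one.mp (by rw [hy]; exact hi)
  obtain ⟨g, hg⟩ := R.centralizer_of_pow_half hF q D.hq D.hcard (by omega) (y * y) hw1 hw
  have hyC : y ∈ Subgroup.centralizer {y * y} := by
    rw [Subgroup.mem_centralizer_singleton_iff]
    group
  rw [hg] at hyC
  obtain ⟨u, hu, he⟩ := hyC
  refine ⟨g, ?_⟩
  have e : g * u * g⁻¹ = y := he
  rw [← e]
  have : g⁻¹ * (g * u * g⁻¹) * g = u := by group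
  rw [this]
  exact hu

/-- **the number of elements of order `i ∣ q - 1`, `i > 2`** -/
theorem ReeData.card_order_split {q : ℕ} (D : R.ReeData q) (hF : R.TorusFacts) (hq27 : 27 ≤ q) (i : ℕ)
    (hi2 : 2 < i) (hi : i ∣ q - 1) :
    2 * Nat.card {g : G // orderOf g = i} = Nat.totient i * q ^ 3 * (q ^ 3 + 1) := by
  have hq8 := D.hq8
  have h := Cfsg.Agent.Lib.H17.Ree.card_orderOf_of_cyclic_TI R.Hs (isCyclic_Hs R) i
    (by rw [R.card_Hs, D.hq]; exact hi)
    (fun y hy => D.split_cov hF i hi2 hi y hy)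
    (fun g y hy ho hgy => split_TI R hF g y hy (by rw [ho]; exact hi2) hgy)
  rw [Cfsg.Agent.Lib.H29.Ree.card_normalizer_Hs R hF (by rw [D.hq]; omega), D.hq, D.hcard] at h
  have hpos : 0 < q - 1 := by omega
  apply Nat.eq_of_mul_eq_mul_right hpos
  calc 2 * Nat.card {g : G // orderOf g = i} * (q - 1)
      = Nat.card {g : G // orderOf g = i} * (2 * (q - 1)) := by ring
    _ = q ^ 3 * (q - 1) * (q ^ 3 + 1) * Nat.totient i := h
    _ = Nat.totient i * q ^ 3 * (q ^ 3 + 1) * (q - 1) := by ring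

end RSys

end Cfsg.Agent.Lib.H12.ReeC
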