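import Cfsg.Agent.Lib.H12.ReeV5
import Cfsg.Agent.Lib.H12.ReeV7
import Cfsg.Agent.Lib.H13.ReeK2
import Cfsg.Agent.Lib.H15.ReeK5
import Cfsg.Agent.Lib.H7.ReeK7

/-!
# Ree groups: the number of elements of each order, II (helper12)
-/

set_option autoImplicit false
set_option linter.unusedSectionVars false
set_option linter.unusedSimpArgs false
set_option linter.unusedVariables false

namespace Cfsg.Agent.Lib.H12.ReeC

open Cfsg.Agent.Lib.H12.ReeT Cfsg.Agent.Lib.H12.ReeU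
open scoped MatrixGroups

theorem sq_sub_one (q : ℕ) (hq : 1 ≤ q) : q ^ 2 - 1 = (q - 1) * (q + 1) := by
  obtain ⟨s, rfl⟩ : ∃ s, q = s + 1 := ⟨q - 1, by omega⟩
  have : (s + 1) ^ 2 = (s + 1 - 1) * (s + 1 + 1) + 1 := by
    rw [Nat.add_sub_cancel]; ring
  omega

theorem cube_add_one' (q : ℕ) (hq : 1 ≤ q) : q ^ 3 + 1 = (q + 1) * (q ^ 2 - q + 1) := by
  obtain ⟨s, rfl⟩ : ∃ s, q = s + 1 := ⟨q - 1, by omega⟩
  have h1 : (s + 1) ^ 2 - (s + 1) + 1 = s ^ 2 + s + 1 := by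
    have : (s + 1) ^ 2 = s ^ 2 + s + (s + 1) := by ring
    omega
  rw [h1]; ring

namespace RSys

variable {G K : Type*} [Group G] [Field K] {R : RSys G K} [Fintype K] [Finite G]

/-- **the number of elements of order 6** -/
theorem ReeData.card_order_six {q : ℕ} (D : R.ReeData q) :
    Nat.card {g : G // orderOf g = 6} = q ^ 2 * (q - 1) * (q ^ 3 + 1) := by
  have hq3 := D.three_le
  obtain ⟨k, hN, hk⟩ := D.two_part
  have h4 := R.sq_of_pow_four D.hq8' k hN hk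
  have hconj := R.involution_conj D.hq8' k hN hk D.hZ
  have h := Cfsg.Agent.Lib.H13.Ree.card_order_two_mul R.a R.a_ne_one R.a_sq hconj h4 3 (by decide)
  rw [card_order_centralizer_a' R 3 (by decide),
    Cfsg.Agent.Lib.H15.Ree.card_order_three_PSL2 R.three, R.card_centralizer_a D.hodd, D.hq, D.hcard] at h
  have hpos : 0 < q * (q ^ 2 - 1) := by
    apply Nat.mul_pos (by omega)
    have : 9 ≤ q ^ 2 := by nlinarith
    omega
  apply Nat.eq_of_mul_eq_mul_right hpos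
  have e : (2 * 3 : ℕ) = 6 := rfl
  rw [e] at h
  rw [h]
  ring

/-- **the number of elements of order `i` and `2 i`, `1 < i ∣ (q + 1)/4`** -/
theorem ReeData.card_order_nonsplit {q r : ℕ} (D : R.ReeData q) (hF : R.TorusFacts) (ρ : G →* GL (Fin 7) K)
    (hρ : Function.Injective ρ) (hq27 : 27 ≤ q) (hr : r * r = 3 * q)
    (hS : 3 * Nat.card {y : G // y ≠ 1 ∧ y ^ (q ^ 2 - q + 1) = 1} = q ^ 4 * (q ^ 2 - 1) * (q - 2))
    (i : ℕ) (hi1 : 1 < i) (hi : i ∣ (q + 1) / 4) :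
    6 * Nat.card {g : G // orderOf g = i} = Nat.totient i * q ^ 3 * (q - 1) * (q ^ 2 - q + 1) ∧
      2 * Nat.card {g : G // orderOf g = 2 * i} = Nat.totient i * q ^ 3 * (q - 1) * (q ^ 2 - q + 1) := by
  have hq8 := D.hq8
  obtain ⟨A, hAc, hAcard, hAN, hAsub⟩ := D.exists_nonsplit_torus hq27
  have h := Cfsg.Agent.Lib.H17.Ree.card_orderOf_of_torus A hAc i (by rw [hAcard]; exact hi) hi1 hAsub
    (fun B C hB hC hBc hCc => D.cyclic_conj hF ρ hρ hq27 hr hS i (Or.inr (Or.inl hi)) B C hB hC hBc hCc)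
  rw [hAN, D.hcard, cube_add_one' q (by omega)] at h
  have h6 : 6 * Nat.card {g : G // orderOf g = i} = Nat.totient i * q ^ 3 * (q - 1) * (q ^ 2 - q + 1) := by
    have hpos : 0 < q + 1 := by omega
    apply Nat.eq_of_mul_eq_mul_right hpos
    calc 6 * Nat.card {g : G // orderOf g = i} * (q + 1)
        = Nat.card {g : G // orderOf g = i} * (6 * (q + 1)) := by ring
      _ = q ^ 3 * (q - 1) * ((q + 1) * (q ^ 2 - q + 1)) * Nat.totient i := h
      _ = Nat.totient i * q ^ 3 * (q - 1) * (q ^ 2 - q + 1) * (q + 1) := by ring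
  refine ⟨h6, ?_⟩
  obtain ⟨k, hN, hk⟩ := D.two_part
  have h4 := R.sq_of_pow_four D.hq8' k hN hk
  have hiodd : Odd i := Odd.of_dvd_nat D.odd_e hi
  have h2 := Cfsg.Agent.Lib.H13.Ree.card_order_two_mul_of_const h4 i 3 hiodd (fun w hw => by
    apply Cfsg.Agent.Lib.H7.Ree.ReeData.card_involutions_centralizer D w
    · intro h1
      rw [h1, orderOf_one] at hw
      omega
    · exact orderOf_dvd_iff_pow_eq_one.mp (by rw [hw]; exact hi))
  rw [h2, ← h6]
  ring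

/-- **the number of elements of order `i`, `1 < i ∣ q ± r + 1`** -/
theorem ReeData.card_order_N {q r : ℕ} (D : R.ReeData q) (hF : R.TorusFacts) (ρ : G →* GL (Fin 7) K)
    (hρ : Function.Injective ρ) (hq27 : 27 ≤ q) (hr : r * r = 3 * q)
    (hS : 3 * Nat.card {y : G // y ≠ 1 ∧ y ^ (q ^ 2 - q + 1) = 1} = q ^ 4 * (q ^ 2 - 1) * (q - 2)) :
    (∀ i : ℕ, 1 < i → i ∣ q - r + 1 →
      6 * Nat.card {g : G // orderOf g = i} = Nat.totient i * q ^ 3 * (q ^ 2 - 1) * (q + r + 1)) ∧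
    (∀ i : ℕ, 1 < i → i ∣ q + r + 1 →
      6 * Nat.card {g : G // orderOf g = i} = Nat.totient i * q ^ 3 * (q ^ 2 - 1) * (q - r + 1)) := by
  have hq8 := D.hq8
  have hrq : r ≤ q := by nlinarith
  have hmul := tori_mul q r hr (by omega)
  have e1 : q + 1 - r = q - r + 1 := by omega
  have e2 : q + 1 + r = q + r + 1 := by omega
  rw [e1, e2] at hmul
  obtain ⟨x₁, x₂, hx₁, hx₂, hc₁, hc₂, hn₁, hn₂, -⟩ := D.two_tori hF ρ hρ hq27 hr hS
  rw [e1] at hc₁ hn₁
  rw [e2] at hc₂ hn₂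
  have hcard : Nat.card G = q ^ 3 * (q ^ 2 - 1) * ((q - r + 1) * (q + r + 1)) := by
    rw [D.card_eq, hmul, sq_sub_one q (by omega)]
    ring
  constructor
  · intro i hi1 hi
    have h := Cfsg.Agent.Lib.H17.Ree.card_orderOf_of_torus (Subgroup.centralizer {x₁})
      (D.isCyclic_centralizer_N hF ρ hρ x₁ hx₁.1 hx₁.2) i (by rw [hc₁]; exact hi) hi1
      (fun A₀ h1 h2 => D.normalizer_sub_N hF ρ hρ x₁ hx₁.1 hx₁.2 A₀ h1 h2)
      (fun B C hB hC hBc hCc => D.cyclic_conj hF ρ hρ hq27 hr hS i (Or.inr (Or.inr (Or.inl hi))) B C hB hC hBc hCc)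
    rw [hn₁, hcard] at h
    have hpos : 0 < q - r + 1 := by omega
    apply Nat.eq_of_mul_eq_mul_right hpos
    calc 6 * Nat.card {g : G // orderOf g = i} * (q - r + 1)
        = Nat.card {g : G // orderOf g = i} * ((q - r + 1) * 6) := by ring
      _ = q ^ 3 * (q ^ 2 - 1) * ((q - r + 1) * (q + r + 1)) * Nat.totient i := h
      _ = Nat.totient i * q ^ 3 * (q ^ 2 - 1) * (q + r + 1) * (q - r + 1) := by ring
  · intro i hi1 hi
    have h := Cfsg.Agent.Lib.H17.Ree.card_orderOf_of_torus (Subgroup.centralizer {x₂})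
      (D.isCyclic_centralizer_N hF ρ hρ x₂ hx₂.1 hx₂.2) i (by rw [hc₂]; exact hi) hi1
      (fun A₀ h1 h2 => D.normalizer_sub_N hF ρ hρ x₂ hx₂.1 hx₂.2 A₀ h1 h2)
      (fun B C hB hC hBc hCc => D.cyclic_conj hF ρ hρ hq27 hr hS i (Or.inr (Or.inr (Or.inr hi))) B C hB hC hBc hCc)
    rw [hn₂, hcard] at h
    have hpos : 0 < q + r + 1 := by omega
    apply Nat.eq_of_mul_eq_mul_right hpos
    calc 6 * Nat.card {g : G // orderOf g = i} * (q + r + 1)
        = Nat.card {g : G // orderOf g = i} * ((q + r + 1) * 6) := by ring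
      _ = q ^ 3 * (q ^ 2 - 1) * ((q - r + 1) * (q + r + 1)) * Nat.totient i := h
      _ = Nat.totient i * q ^ 3 * (q ^ 2 - 1) * (q - r + 1) * (q + r + 1) := by ring

end RSys

end Cfsg.Agent.Lib.H12.ReeC
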