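import Cfsg.Agent.Lib.H12.ReeV4
import Cfsg.Agent.Lib.H17.ReeK1
import Cfsg.Agent.Lib.H17.ReeF5

/-!
# Ree groups: the number of elements of order 3 and 9 (helper12; = piece REE-K4)
-/

set_option autoImplicit false
set_option linter.unusedSectionVars false
set_option linter.unusedSimpArgs false
set_option linter.unusedVariables false

namespace Cfsg.Agent.Lib.H12.ReeC

open Cfsg.Agent.Lib.H12.ReeT Cfsg.Agent.Lib.H12.ReeU
open scoped MatrixGroups

namespace RSys

variable {G K : Type*} [Group G] [Field K] {R : RSys G K} [Fintype K] [Finite G]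

/-- the elements of order 3 of `U` -/
theorem card_order_three_U (R : RSys G K) :
    Nat.card {g : G // g ∈ R.U ∧ orderOf g = 3} = Fintype.card K ^ 2 - 1 := by
  have h := Cfsg.Agent.Lib.H22.Ree.card_three_torsion_U R
  have : Fact (Nat.Prime 3) := ⟨Nat.prime_three⟩
  have hA : Nat.card {g : G // g ∈ R.U ∧ g ^ 3 = 1} = {g : G | g ∈ R.U ∧ g ^ 3 = 1}.ncard :=
    Nat.card_coe_set_eq {g : G | g ∈ R.U ∧ g ^ 3 = 1}
  have hB : Nat.card {g : G // g ∈ R.U ∧ orderOf g = 3} = {g : G | g ∈ R.U ∧ orderOf g = 3}.ncard :=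
    Nat.card_coe_set_eq {g : G | g ∈ R.U ∧ orderOf g = 3}
  rw [hA] at h
  rw [hB]
  have e : {g : G | g ∈ R.U ∧ g ^ 3 = 1} = insert 1 {g : G | g ∈ R.U ∧ orderOf g = 3} := by
    ext g
    simp only [Set.mem_ofPred_eq, Set.mem_insert_iff]
    constructor
    · rintro ⟨h1, h2⟩
      by_cases hg : g = 1
      · left; exact hg
      · right; exact ⟨h1, orderOf_eq_prime_iff.mpr ⟨h2, hg⟩⟩
    · rintro (rfl | ⟨h1, h2⟩)
      · exact ⟨one_mem _, one_pow _⟩
      · exact ⟨h1, (orderOf_eq_prime_iff.mp h2).1⟩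
  have hnot : (1 : G) ∉ {g : G | g ∈ R.U ∧ orderOf g = 3} := by
    simp only [Set.mem_ofPred_eq, not_and]
    intro _
    rw [orderOf_one]
    norm_num
  rw [e, Set.ncard_insert_of_notMem hnot (Set.toFinite _)] at h
  omega

/-- **the number of elements of order 3** -/
theorem ReeData.card_order_three' {q : ℕ} (D : R.ReeData q) :
    Nat.card {g : G // orderOf g = 3} = (q ^ 2 - 1) * (q ^ 3 + 1) := by
  have hq3 := D.three_le
  have h := Cfsg.Agent.Lib.H17.Ree.card_conj_cover_pred R.U (fun y : G => orderOf y = 3)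
    (fun g y hy => by rw [Cfsg.Agent.Lib.H17.Ree.orderOf_conj_eq]; exact hy)
    (fun y hy => D.exists_conj_mem_U y (by
      apply orderOf_dvd_iff_pow_eq_one.mp
      rw [hy]
      exact dvd_pow D.h3q (by norm_num)))
    (fun g y hyU hy hgy => by
      apply Cfsg.Agent.Lib.H17.Ree.B_le_normalizer_U
      apply R.mem_B_of_conj_mem_U g y hyU _ hgy
      intro h1
      rw [h1, orderOf_one] at hy
      norm_num at hy)
  rw [Cfsg.Agent.Lib.H17.Ree.normalizer_U (by rw [D.hq]; omega), R.card_B, card_order_three_U R, D.hq,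
    D.hcard] at h
  have hpos : 0 < q ^ 3 * (q - 1) := Nat.mul_pos (by positivity) (by omega)
  apply Nat.eq_of_mul_eq_mul_right hpos
  rw [h]
  ring

/-- **the number of elements of order 9** -/
theorem ReeData.card_order_nine' {q : ℕ} (D : R.ReeData q)
    (h3 : Nat.card {g : G // orderOf g = 3} = (q ^ 2 - 1) * (q ^ 3 + 1)) :
    Nat.card {g : G // orderOf g = 9} = q ^ 2 * (q - 1) * (q ^ 3 + 1) := by
  have hq3 := D.three_le
  have h := Cfsg.Agent.Lib.H17.Ree.card_three_elements D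
  rw [D.hcard] at h
  have hall : Nat.card {y : G // y ≠ 1 ∧ y ^ (q ^ 3) = 1} = (q ^ 3 - 1) * (q ^ 3 + 1) := by
    have hpos : 0 < q ^ 3 * (q - 1) := Nat.mul_pos (by positivity) (by omega)
    apply Nat.eq_of_mul_eq_mul_right hpos
    rw [h]
    ring
  have h9q : 9 ∣ q ^ 3 := by
    obtain ⟨c, rfl⟩ := D.h3q
    exact ⟨3 * c ^ 3, by ring⟩
  have hunion : {y : G | y ≠ 1 ∧ y ^ (q ^ 3) = 1} = {y : G | orderOf y = 3} ∪ {y : G | orderOf y = 9} := by
    ext y
    simp only [Set.mem_ofPred_eq, Set.mem_union]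
    constructor
    · rintro ⟨h1, h2⟩
      obtain ⟨g, hg⟩ := D.exists_conj_mem_U y h2
      have h9 : orderOf y ∣ 9 :=
        orderOf_dvd_of_conj_pow g y 9 (Cfsg.Agent.Lib.H22.Ree.pow_nine_of_mem_U R _ hg)
      have hmem : orderOf y ∈ Nat.divisors 9 := Nat.mem_divisors.mpr ⟨h9, by norm_num⟩
      have hd : Nat.divisors 9 = {1, 3, 9} := by decide
      rw [hd] at hmem
      simp only [Finset.mem_insert, Finset.mem_singleton] at hmem
      rcases hmem with h' | h' | h'
      · exact absurd (orderOf_eq_one_iff.mp h') h1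
      · left; exact h'
      · right; exact h'
    · rintro (h' | h')
      · refine ⟨?_, ?_⟩
        · intro h1
          rw [h1, orderOf_one] at h'
          norm_num at h'
        · apply orderOf_dvd_iff_pow_eq_one.mp
          rw [h']
          exact dvd_pow D.h3q (by norm_num)
      · refine ⟨?_, ?_⟩
        · intro h1
          rw [h1, orderOf_one] at h'
          norm_num at h'
        · apply orderOf_dvd_iff_pow_eq_one.mp
          rw [h']
          exact h9q
  have hdisj : Disjoint {y : G | orderOf y = 3} {y : G | orderOf y = 9} := by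
    rw [Set.disjoint_left]
    intro y h1 h2
    simp only [Set.mem_ofPred_eq] at h1 h2
    omega
  have hA : Nat.card {y : G // y ≠ 1 ∧ y ^ (q ^ 3) = 1} = {y : G | y ≠ 1 ∧ y ^ (q ^ 3) = 1}.ncard :=
    Nat.card_coe_set_eq {y : G | y ≠ 1 ∧ y ^ (q ^ 3) = 1}
  have hB : Nat.card {g : G // orderOf g = 3} = {y : G | orderOf y = 3}.ncard :=
    Nat.card_coe_set_eq {y : G | orderOf y = 3}
  have hC : Nat.card {g : G // orderOf g = 9} = {y : G | orderOf y = 9}.ncard :=
    Nat.card_coe_set_eq {y : G | orderOf y = 9}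
  rw [hA, hunion, Set.ncard_union_eq hdisj (Set.toFinite _) (Set.toFinite _), ← hB, ← hC, h3] at hall
  -- arithmetic
  obtain ⟨s, rfl⟩ : ∃ s, q = s + 1 := ⟨q - 1, by omega⟩
  have a1 : (s + 1) ^ 3 - 1 = s * ((s + 1) ^ 2 + (s + 1) + 1) := by
    have : (s + 1) ^ 3 = s * ((s + 1) ^ 2 + (s + 1) + 1) + 1 := by ring
    omega
  have a2 : (s + 1) ^ 2 - 1 = s * (s + 2) := by
    have : (s + 1) ^ 2 = s * (s + 2) + 1 := by ring
    omega
  rw [a1, a2] at hall
  rw [Nat.add_sub_cancel]
  have key : s * (s + 2) * ((s + 1) ^ 3 + 1) + (s + 1) ^ 2 * s * ((s + 1) ^ 3 + 1) =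
      s * ((s + 1) ^ 2 + (s + 1) + 1) * ((s + 1) ^ 3 + 1) := by ring
  omega

end RSys

end Cfsg.Agent.Lib.H12.ReeC
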