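import Cfsg.Agent.Lib.H12.ReeV3
import Cfsg.Agent.Lib.H12.ReeT8
import Cfsg.Agent.Lib.H12.ReeR1
import Cfsg.Agent.Lib.H17.ReeF5
import Cfsg.Agent.Lib.H3.ReeF6
import Cfsg.Agent.Lib.H20.ReeF3
import Cfsg.Agent.Lib.H9.ReeF4b

/-!
# The class equation of the Ree groups `²G₂(q)`, `q ≥ 27` (helper12)

Assembly of the counting lemmas of helper17 (F5), helper3 (F6), helper20 (F3), helper9 (F4b).
-/

set_option autoImplicit false
set_option linter.unusedSectionVars false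
set_option linter.unusedSimpArgs false
set_option linter.unusedVariables false

namespace Cfsg.Agent.Lib.H12.ReeC

open Cfsg.Lie Matrix Cfsg.Agent.Lib.H29.Chev Cfsg.Agent.Lib.H12.ReeT
open scoped MatrixGroups

namespace RSys

variable {G K : Type*} [Group G] [Field K] {R : RSys G K} [Fintype K] [Finite G]

/-- **the class equation**, unconditionally -/
theorem ReeData.class_equation {q : ℕ} (D : R.ReeData q) (hF : R.TorusFacts) (hq27 : 27 ≤ q) :
    3 * Nat.card {y : G // y ≠ 1 ∧ y ^ (q ^ 2 - q + 1) = 1} = q ^ 4 * (q ^ 2 - 1) * (q - 2) :=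
  D.card_N_elements hF (Cfsg.Agent.Lib.H17.Ree.card_three_elements D)
    (Cfsg.Agent.Lib.H3.Ree.card_even_elements D)
    (Cfsg.Agent.Lib.H20.Ree.card_split_elements D hF hq27)
    (Cfsg.Agent.Lib.H9.Ree.card_nonsplit_elements D hq27
      (fun A hA hAc => (D.normalizer_nonsplit hq27 A hA hAc).1))

end RSys

section Ree

variable {K : Type*} [Field K] [CharP K 3] [Fintype K]

theorem q_ge_27 {m : ℕ} (hm : 1 ≤ m) : 27 ≤ 3 ^ (2 * m + 1) := by
  calc 27 = 3 ^ 3 := by norm_num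
    _ ≤ 3 ^ (2 * m + 1) := Nat.pow_le_pow_right (by norm_num) (by omega)

theorem r_sq (m : ℕ) : 3 ^ (m + 1) * 3 ^ (m + 1) = 3 * 3 ^ (2 * m + 1) := by
  rw [← pow_add, ← pow_succ']
  congr 1
  omega

/-- **cyclic subgroups of the same toral order of the Ree groups are conjugate** -/
theorem ree_cyclic_conj {m : ℕ} (hm : 1 ≤ m) (hK : Fintype.card K = 3 ^ (2 * m + 1)) (d : ℕ)
    (hd : d ∣ (3 ^ (2 * m + 1) - 1) / 2 ∨ d ∣ (3 ^ (2 * m + 1) + 1) / 4 ∨
      d ∣ 3 ^ (2 * m + 1) - 3 ^ (m + 1) + 1 ∨ d ∣ 3 ^ (2 * m + 1) + 3 ^ (m + 1) + 1)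
    (A B : Subgroup ↥(twistedG2 K (3 ^ m))) (hA : IsCyclic A) (hB : IsCyclic B)
    (hAd : Nat.card A = d) (hBd : Nat.card B = d) :
    ∃ g : ↥(twistedG2 K (3 ^ m)), B = A.map (MulAut.conj g).toMonoidHom := by
  have hfin : Finite ↥(Cfsg.Lie.twistedG2 K (3 ^ m)) := inferInstance
  obtain ⟨ρ, hρ⟩ := Cfsg.Agent.Lib.H12.ReeR.exists_faithful7 m hm hK
  have D := reeRSys_data hm hK
  have hF := reeRSys_torusFacts m hK
  exact D.cyclic_conj hF ρ hρ (q_ge_27 hm) (r_sq m) (D.class_equation hF (q_ge_27 hm)) d hd A B hA hB hAd hBd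

end Ree

end Cfsg.Agent.Lib.H12.ReeC
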