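import Cfsg.Agent.Lib.H12.ReeW1
import Cfsg.Agent.Lib.H5.ReeG2

/-!
# The four tori of the Ree groups `²G₂(q)`, `q ≥ 27`, and their normalizers (helper12)
-/

set_option autoImplicit false
set_option linter.unusedSectionVars false
set_option linter.unusedSimpArgs false
set_option linter.unusedVariables false

namespace Cfsg.Agent.Lib.H12.ReeC

open Cfsg.Lie Matrix Cfsg.Agent.Lib.H29.Chev Cfsg.Agent.Lib.H12.ReeT
open scoped MatrixGroups

section Ree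

variable {K : Type*} [Field K] [CharP K 3] [Fintype K]

/-- **the cyclic Hall subgroups of the Ree groups and their normalizers** -/
theorem ree_tori_normalizers {m : ℕ} (hm : 1 ≤ m) (hK : Fintype.card K = 3 ^ (2 * m + 1)) :
    ∀ kn ∈ ({((3 ^ (2 * m + 1) - 1) / 2, 2 * (3 ^ (2 * m + 1) - 1)),
        ((3 ^ (2 * m + 1) + 1) / 4, 6 * (3 ^ (2 * m + 1) + 1)),
        (3 ^ (2 * m + 1) - 3 ^ (m + 1) + 1, 6 * (3 ^ (2 * m + 1) - 3 ^ (m + 1) + 1)),
        (3 ^ (2 * m + 1) + 3 ^ (m + 1) + 1, 6 * (3 ^ (2 * m + 1) + 3 ^ (m + 1) + 1))} : Set (ℕ × ℕ)),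
      ∃ A : Subgroup ↥(twistedG2 K (3 ^ m)), IsCyclic A ∧ Nat.card A = kn.1 ∧
        Nat.card (Subgroup.normalizer (A : Set ↥(twistedG2 K (3 ^ m)))) = kn.2 ∧
        ∀ A₀ : Subgroup ↥(twistedG2 K (3 ^ m)), A₀ ≤ A → A₀ ≠ ⊥ →
          Subgroup.normalizer (A₀ : Set ↥(twistedG2 K (3 ^ m))) =
            Subgroup.normalizer (A : Set ↥(twistedG2 K (3 ^ m))) := by
  have hfin : Finite ↥(Cfsg.Lie.twistedG2 K (3 ^ m)) := inferInstance
  obtain ⟨ρ, hρ⟩ := Cfsg.Agent.Lib.H12.ReeR.exists_faithful7 m hm hK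
  have D := reeRSys_data hm hK
  have hF := reeRSys_torusFacts m hK
  exact D.tori_normalizers hF ρ hρ (q_ge_27 hm) (r_sq m) (D.class_equation hF (q_ge_27 hm))
    (Cfsg.Agent.Lib.H5.Ree.exists_split_torus D hF (q_ge_27 hm))

end Ree

end Cfsg.Agent.Lib.H12.ReeC
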