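import Cfsg.Agent.Lib.H12.ReeW1
import Cfsg.Agent.Lib.H12.ReeV4

/-!
# The orders of the elements of the Ree groups `²G₂(q)`, `q ≥ 27` (helper12)
-/

set_option autoImplicit false
set_option linter.unusedSectionVars false
set_option linter.unusedSimpArgs false
set_option linter.unusedVariables false

namespace Cfsg.Agent.Lib.H12.ReeC

open Cfsg.Lie Matrix Cfsg.Agent.Lib.H29.Chev Cfsg.Agent.Lib.H12.ReeT
open scoped MatrixGroups

section Ree

variable {K : Type*} [Field K] [CharP K 3] [Fintype K]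

/-- **the orders of the elements of the Ree groups** -/
theorem ree_element_orders {m : ℕ} (hm : 1 ≤ m) (hK : Fintype.card K = 3 ^ (2 * m + 1)) (d : ℕ) :
    (∃ g : ↥(twistedG2 K (3 ^ m)), orderOf g = d) ↔
      (d ∣ 6 ∨ d ∣ 9 ∨ d ∣ 3 ^ (2 * m + 1) - 1 ∨ d ∣ (3 ^ (2 * m + 1) + 1) / 2 ∨
        d ∣ 3 ^ (2 * m + 1) - 3 ^ (m + 1) + 1 ∨ d ∣ 3 ^ (2 * m + 1) + 3 ^ (m + 1) + 1) := by
  have hfin : Finite ↥(Cfsg.Lie.twistedG2 K (3 ^ m)) := inferInstance
  obtain ⟨ρ, hρ⟩ := Cfsg.Agent.Lib.H12.ReeR.exists_faithful7 m hm hK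
  have D := reeRSys_data hm hK
  have hF := reeRSys_torusFacts m hK
  have hS := D.class_equation hF (q_ge_27 hm)
  constructor
  · rintro ⟨g, rfl⟩
    exact D.orderOf_cases hF ρ hρ (q_ge_27 hm) (r_sq m) hS g
  · intro hd
    exact D.exists_orderOf hF ρ hρ (q_ge_27 hm) (r_sq m) hS d hd

end Ree

end Cfsg.Agent.Lib.H12.ReeC
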