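import Cfsg.Agent.Lib.H12.ReeW1
import Cfsg.Agent.Lib.H12.ReeV6
import Cfsg.Agent.Lib.H12.ReeV8
import Cfsg.Agent.Lib.H14.ReeK3

/-!
# The number of elements of each order of the Ree groups `²G₂(q)`, `q ≥ 27` (helper12)
-/

set_option autoImplicit false
set_option linter.unusedSectionVars false
set_option linter.unusedSimpArgs false
set_option linter.unusedVariables false

namespace Cfsg.Agent.Lib.H12.ReeC

open Cfsg.Lie Matrix Cfsg.Agent.Lib.H29.Chev Cfsg.Agent.Lib.H12.ReeT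
open scoped MatrixGroups

section Ree

variable {K : Type*} [Field K] [CharP K 3] [Fintype K]

/-- **the number of elements of each order of the Ree groups** -/
theorem ree_element_counts {m : ℕ} (hm : 1 ≤ m) (hK : Fintype.card K = 3 ^ (2 * m + 1)) :
    Nat.card {g : ↥(twistedG2 K (3 ^ m)) // orderOf g = 2} =
      (3 ^ (2 * m + 1)) ^ 2 * ((3 ^ (2 * m + 1)) ^ 2 - 3 ^ (2 * m + 1) + 1) ∧
    Nat.card {g : ↥(twistedG2 K (3 ^ m)) // orderOf g = 3} =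
      ((3 ^ (2 * m + 1)) ^ 2 - 1) * ((3 ^ (2 * m + 1)) ^ 3 + 1) ∧
    Nat.card {g : ↥(twistedG2 K (3 ^ m)) // orderOf g = 6} =
      (3 ^ (2 * m + 1)) ^ 2 * (3 ^ (2 * m + 1) - 1) * ((3 ^ (2 * m + 1)) ^ 3 + 1) ∧
    Nat.card {g : ↥(twistedG2 K (3 ^ m)) // orderOf g = 9} =
      (3 ^ (2 * m + 1)) ^ 2 * (3 ^ (2 * m + 1) - 1) * ((3 ^ (2 * m + 1)) ^ 3 + 1) ∧
    (∀ i : ℕ, 2 < i → i ∣ 3 ^ (2 * m + 1) - 1 →
      2 * Nat.card {g : ↥(twistedG2 K (3 ^ m)) // orderOf g = i} =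
        Nat.totient i * (3 ^ (2 * m + 1)) ^ 3 * ((3 ^ (2 * m + 1)) ^ 3 + 1)) ∧
    (∀ i : ℕ, 1 < i → i ∣ (3 ^ (2 * m + 1) + 1) / 4 →
      6 * Nat.card {g : ↥(twistedG2 K (3 ^ m)) // orderOf g = i} =
          Nat.totient i * (3 ^ (2 * m + 1)) ^ 3 * (3 ^ (2 * m + 1) - 1) *
            ((3 ^ (2 * m + 1)) ^ 2 - 3 ^ (2 * m + 1) + 1) ∧
        2 * Nat.card {g : ↥(twistedG2 K (3 ^ m)) // orderOf g = 2 * i} =
          Nat.totient i * (3 ^ (2 * m + 1)) ^ 3 * (3 ^ (2 * m + 1) - 1) *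
            ((3 ^ (2 * m + 1)) ^ 2 - 3 ^ (2 * m + 1) + 1)) ∧
    (∀ i : ℕ, 1 < i → i ∣ 3 ^ (2 * m + 1) - 3 ^ (m + 1) + 1 →
      6 * Nat.card {g : ↥(twistedG2 K (3 ^ m)) // orderOf g = i} =
        Nat.totient i * (3 ^ (2 * m + 1)) ^ 3 * ((3 ^ (2 * m + 1)) ^ 2 - 1) *
          (3 ^ (2 * m + 1) + 3 ^ (m + 1) + 1)) ∧
    (∀ i : ℕ, 1 < i → i ∣ 3 ^ (2 * m + 1) + 3 ^ (m + 1) + 1 →
      6 * Nat.card {g : ↥(twistedG2 K (3 ^ m)) // orderOf g = i} =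
        Nat.totient i * (3 ^ (2 * m + 1)) ^ 3 * ((3 ^ (2 * m + 1)) ^ 2 - 1) *
          (3 ^ (2 * m + 1) - 3 ^ (m + 1) + 1)) := by
  have hfin : Finite ↥(Cfsg.Lie.twistedG2 K (3 ^ m)) := inferInstance
  obtain ⟨ρ, hρ⟩ := Cfsg.Agent.Lib.H12.ReeR.exists_faithful7 m hm hK
  have D := reeRSys_data hm hK
  have hF := reeRSys_torusFacts m hK
  have hS := D.class_equation hF (q_ge_27 hm)
  have h3 := D.card_order_three'
  have hN := D.card_order_N hF ρ hρ (q_ge_27 hm) (r_sq m) hS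
  exact ⟨Cfsg.Agent.Lib.H14.Ree.ReeData.card_involutions D, h3, D.card_order_six,
    D.card_order_nine' h3,
    fun i hi2 hi => D.card_order_split hF (q_ge_27 hm) i hi2 hi,
    fun i hi1 hi => D.card_order_nonsplit hF ρ hρ (q_ge_27 hm) (r_sq m) hS i hi1 hi,
    hN.1, hN.2⟩

end Ree

end Cfsg.Agent.Lib.H12.ReeC
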