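import Mathlib

/-!
# Avoidance lemmas over fields with at least four elements
-/

namespace Cfsg.Agent.Lib.H12.RegProd

open Module

/-- `BigK K`: every finset of at most three scalars misses some scalar (`|K| ≥ 4`). -/
def BigK (K : Type*) : Prop := ∀ B : Finset K, B.card ≤ 3 → ∃ t : K, t ∉ B

theorem bigK_of_card {K : Type*} (h : 4 ≤ Cardinal.mk K) : BigK K := by
  intro B hB
  by_contra hcon
  push Not at hcon
  have h1 : Cardinal.mk K ≤ (B.card : Cardinal) := by
    have hsub : (Set.univ : Set K) ⊆ (B : Set K) := fun t _ => hcon t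
    calc Cardinal.mk K = Cardinal.mk (Set.univ : Set K) := Cardinal.mk_univ.symm
      _ ≤ Cardinal.mk (B : Set K) := Cardinal.mk_le_mk_of_subset hsub
      _ = B.card := Cardinal.mk_coe_finset
  have h2 : (4 : Cardinal) ≤ (B.card : Cardinal) := le_trans h h1
  have h3 : (4 : ℕ) ≤ B.card := by exact_mod_cast h2
  omega

variable {K : Type*} [Field K] {M : Type*} [AddCommGroup M] [Module K M]

theorem exists_add_smul_notMem (hK : BigK K) (T : Finset K) (L : List (Submodule K M)) (x y : M)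
    (hx : ∀ H ∈ L, x ∉ H) (hL : L.length + T.card ≤ 3) :
    ∃ t : K, t ∉ T ∧ ∀ H ∈ L, y + t • x ∉ H := by
  classical
  let f : Submodule K M → K := fun H => if h : ∃ t : K, y + t • x ∈ H then h.choose else 0
  have hcard : ((L.map f).toFinset ∪ T).card ≤ 3 := by
    refine le_trans (Finset.card_union_le _ _) ?_
    have := List.toFinset_card_le (L.map f)
    simp only [List.length_map] at this
    omega
  obtain ⟨t, ht⟩ := hK _ hcard
  rw [Finset.mem_union, not_or] at ht
  refine ⟨t, ht.2, fun H hH hmem => ?_⟩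
  have hex : ∃ t : K, y + t • x ∈ H := ⟨t, hmem⟩
  have hf : f H = hex.choose := dif_pos hex
  have h1 : y + (f H) • x ∈ H := hf ▸ hex.choose_spec
  have hne : t ≠ f H := by
    intro h
    apply ht.1
    rw [List.mem_toFinset, List.mem_map]
    exact ⟨H, hH, h.symm⟩
  have h2 : (t - f H) • x ∈ H := by
    have := H.sub_mem hmem h1
    have e : y + t • x - (y + f H • x) = (t - f H) • x := by module
    rwa [e] at this
  exact hx H hH ((H.smul_mem_iff (sub_ne_zero.mpr hne)).mp h2)

theorem exists_notMem_list (hK : BigK K) : ∀ (L : List (Submodule K M)), (∀ H ∈ L, H ≠ ⊤) →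
    L.length ≤ 4 → ∃ x : M, ∀ H ∈ L, x ∉ H
  | [], _, _ => ⟨0, by simp⟩
  | H :: L, hL, hlen => by
    have hlen' : L.length ≤ 3 := by simp at hlen; omega
    obtain ⟨x, hx⟩ := exists_notMem_list hK L (fun H' h' => hL H' (List.mem_cons_of_mem _ h'))
      (by omega)
    by_cases hxH : x ∈ H
    · obtain ⟨y, hy⟩ : ∃ y, y ∉ H := by
        by_contra hcon
        push Not at hcon
        exact hL H List.mem_cons_self (eq_top_iff.mpr fun z _ => hcon z)
      obtain ⟨t, -, ht⟩ := exists_add_smul_notMem hK ∅ L x y hx (by simpa using hlen')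
      refine ⟨y + t • x, ?_⟩
      intro H' hH'
      rcases List.mem_cons.mp hH' with rfl | h'
      · intro hmem
        exact hy ((H'.add_mem_iff_left (H'.smul_mem t hxH)).mp hmem)
      · exact ht H' h'
    · refine ⟨x, ?_⟩
      intro H' hH'
      rcases List.mem_cons.mp hH' with rfl | h'
      · exact hxH
      · exact hx H' h'

/-- Avoiding four proper subspaces. -/
theorem avoid4 (hK : BigK K) (H1 H2 H3 H4 : Submodule K M) (h1 : H1 ≠ ⊤) (h2 : H2 ≠ ⊤)
    (h3 : H3 ≠ ⊤) (h4 : H4 ≠ ⊤) : ∃ x : M, x ∉ H1 ∧ x ∉ H2 ∧ x ∉ H3 ∧ x ∉ H4 := by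
  obtain ⟨x, hx⟩ := exists_notMem_list hK [H1, H2, H3, H4] (by
    intro H hH
    simp only [List.mem_cons, List.not_mem_nil, or_false] at hH
    rcases hH with rfl | rfl | rfl | rfl <;> assumption) (by simp)
  exact ⟨x, hx _ (by simp), hx _ (by simp), hx _ (by simp), hx _ (by simp)⟩

theorem avoid2 (hK : BigK K) (H1 H2 : Submodule K M) (h1 : H1 ≠ ⊤) (h2 : H2 ≠ ⊤) :
    ∃ x : M, x ∉ H1 ∧ x ∉ H2 := by
  obtain ⟨x, hx1, hx2, -, -⟩ := avoid4 hK H1 H2 H1 H2 h1 h2 h1 h2
  exact ⟨x, hx1, hx2⟩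

end Cfsg.Agent.Lib.H12.RegProd
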