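import Mathlib
import Cfsg.Agent.Lib.H12.RegProdA

/-!
# Selecting a vector outside all the ranges `range (g - μ)` for eigenvalues `μ`
-/

namespace Cfsg.Agent.Lib.H12.RegProd

open Module Polynomial

variable {K : Type*} [Field K] {V : Type*} [AddCommGroup V] [Module K V]

/-- `Rg g μ = range (g - μ)`. -/
def Rg (g : Module.End K V) (μ : K) : Submodule K V :=
  LinearMap.range (g - μ • (1 : Module.End K V))

/-- `μ` is an eigenvalue of `g`. -/
def IsEig (g : Module.End K V) (μ : K) : Prop := ∃ v : V, v ≠ 0 ∧ g v = μ • v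

theorem mem_Rg_iff (g : Module.End K V) (μ : K) (x : V) : x ∈ Rg g μ ↔ ∃ v, g v - μ • v = x := by
  unfold Rg
  rw [LinearMap.mem_range]
  simp only [LinearMap.sub_apply, LinearMap.smul_apply, Module.End.one_apply]

theorem aeval_sub_eval_mem (g : Module.End K V) (μ : K) (p : K[X]) (u : V) :
    aeval g p u - p.eval μ • u ∈ Rg g μ := by
  obtain ⟨q, hq⟩ : X - C μ ∣ p - C (p.eval μ) := X_sub_C_dvd_sub_C_eval
  have h1 : aeval g (p - C (p.eval μ)) = (g - μ • (1 : Module.End K V)) * aeval g q := by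
    rw [hq, map_mul, map_sub, aeval_X, aeval_C, Algebra.algebraMap_eq_smul_one]
  have h2 : aeval g p u - p.eval μ • u = aeval g (p - C (p.eval μ)) u := by
    rw [map_sub, aeval_C, Algebra.algebraMap_eq_smul_one, LinearMap.sub_apply,
      LinearMap.smul_apply, Module.End.one_apply]
  rw [h2, h1, Module.End.mul_apply]
  exact LinearMap.mem_range_self _ _

theorem aeval_mem_Rg_of_dvd (g : Module.End K V) (μ : K) (p : K[X]) (hp : X - C μ ∣ p) (u : V) :
    aeval g p u ∈ Rg g μ := by
  have h := aeval_sub_eval_mem g μ p u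
  have h0 : p.eval μ = 0 := by
    obtain ⟨q, rfl⟩ := hp
    simp
  rwa [h0, zero_smul, sub_zero] at h

theorem Rg_ne_top_of_isEig [FiniteDimensional K V] (g : Module.End K V) (μ : K)
    (h : IsEig g μ) : Rg g μ ≠ ⊤ := by
  obtain ⟨v, hv, hgv⟩ := h
  intro htop
  have hsurj : Function.Surjective (g - μ • (1 : Module.End K V)) :=
    LinearMap.range_eq_top.mp htop
  have hinj : Function.Injective (g - μ • (1 : Module.End K V)) :=
    LinearMap.injective_iff_surjective.mpr hsurj
  apply hv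
  apply hinj
  rw [map_zero, LinearMap.sub_apply, LinearMap.smul_apply, Module.End.one_apply, hgv, sub_self]

theorem exists_notMem_ranges (hK : BigK K) (g : Module.End K V) (H1 H2 : Submodule K V)
    (h1 : H1 ≠ ⊤) (h2 : H2 ≠ ⊤) (s : Finset K) (hs : ∀ μ ∈ s, Rg g μ ≠ ⊤) :
    ∃ e, e ∉ H1 ∧ e ∉ H2 ∧ ∀ μ ∈ s, e ∉ Rg g μ := by
  classical
  induction s using Finset.induction_on with
  | empty =>
    obtain ⟨e, he1, he2⟩ := avoid2 hK H1 H2 h1 h2
    exact ⟨e, he1, he2, by simp⟩
  | insert j s' hj ih =>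
    obtain ⟨e0, h01, h02, h0s⟩ := ih (fun μ hμ => hs μ (Finset.mem_insert_of_mem hμ))
    by_cases hj0 : e0 ∈ Rg g j
    · obtain ⟨u, hu⟩ : ∃ u, u ∉ Rg g j := by
        by_contra hcon
        push Not at hcon
        exact hs j (Finset.mem_insert_self _ _) (eq_top_iff.mpr fun z _ => hcon z)
      set p : K[X] := ∏ i ∈ s', (X - C i) with hp
      set v : V := aeval g p u with hv
      have hvi : ∀ i ∈ s', v ∈ Rg g i := fun i hi =>
        aeval_mem_Rg_of_dvd g i p (Finset.dvd_prod_of_mem _ hi) u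
      have hpj : p.eval j ≠ 0 := by
        rw [hp, eval_prod]
        apply Finset.prod_ne_zero_iff.mpr
        intro i hi
        simp only [eval_sub, eval_X, eval_C]
        intro h
        apply hj
        rw [sub_eq_zero] at h
        rwa [h]
      have hvj : v ∉ Rg g j := by
        intro hmem
        have h := aeval_sub_eval_mem g j p u
        have h3 : p.eval j • u ∈ Rg g j := by
          have := (Rg g j).sub_mem hmem h
          rwa [sub_sub_cancel] at this
        exact hu (((Rg g j).smul_mem_iff hpj).mp h3)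
      obtain ⟨t, ht0, ht⟩ := exists_add_smul_notMem hK {0} [H1, H2] e0 v (by
        intro H hH
        simp only [List.mem_cons, List.not_mem_nil, or_false] at hH
        rcases hH with rfl | rfl <;> assumption) (by simp)
      have ht0' : t ≠ 0 := by simpa using ht0
      refine ⟨v + t • e0, ht _ (by simp), ht _ (by simp), ?_⟩
      intro μ hμ
      rcases Finset.mem_insert.mp hμ with rfl | hμ'
      · intro hmem
        exact hvj (((Rg g μ).add_mem_iff_left ((Rg g μ).smul_mem t hj0)).mp hmem)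
      · intro hmem
        have : t • e0 ∈ Rg g μ := ((Rg g μ).add_mem_iff_right (hvi μ hμ')).mp hmem
        exact h0s μ hμ' (((Rg g μ).smul_mem_iff ht0').mp this)
    · refine ⟨e0, h01, h02, ?_⟩
      intro μ hμ
      rcases Finset.mem_insert.mp hμ with rfl | hμ'
      · exact hj0
      · exact h0s μ hμ'

/-- Selection of the vector `e`. -/
theorem exists_good_vector (hK : BigK K) [FiniteDimensional K V] (g : Module.End K V)
    (hns : ¬ ∃ a : K, g = a • (1 : Module.End K V))
    (H1 H2 : Submodule K V) (h1 : H1 ≠ ⊤) (h2 : H2 ≠ ⊤) :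
    ∃ e, e ∉ H1 ∧ e ∉ H2 ∧ (∀ μ, IsEig g μ → e ∉ Rg g μ) ∧ (∀ μ : K, g e ≠ μ • e) := by
  classical
  have hfin : Set.Finite {μ | g.HasEigenvalue μ} := g.finite_hasEigenvalue
  set s : Finset K := hfin.toFinset with hs
  have hs_iff : ∀ μ, μ ∈ s ↔ IsEig g μ := by
    intro μ
    rw [hs, Set.Finite.mem_toFinset]
    show g.HasEigenvalue μ ↔ _
    constructor
    · intro h
      obtain ⟨v, hv⟩ := h.exists_hasEigenvector
      exact ⟨v, hv.2, hv.apply_eq_smul⟩
    · rintro ⟨v, hv0, hv⟩
      exact Module.End.hasEigenvalue_of_hasEigenvector ⟨Module.End.mem_eigenspace_iff.mpr hv, hv0⟩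
  have hsR : ∀ μ ∈ s, Rg g μ ≠ ⊤ := fun μ hμ => Rg_ne_top_of_isEig g μ ((hs_iff μ).mp hμ)
  rcases Nat.lt_or_ge 1 s.card with hcard | hcard
  · -- at least two eigenvalues
    obtain ⟨e, he1, he2, hes⟩ := exists_notMem_ranges hK g H1 H2 h1 h2 s hsR
    refine ⟨e, he1, he2, fun μ hμ => hes μ ((hs_iff μ).mpr hμ), ?_⟩
    intro μ hμ
    have he0 : e ≠ 0 := fun h => he1 (h ▸ H1.zero_mem)
    have hμs : μ ∈ s := (hs_iff μ).mpr ⟨e, he0, hμ⟩
    obtain ⟨a, ha, b, hb, hab⟩ := Finset.one_lt_card.mp hcard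
    obtain ⟨l, hl, hlμ⟩ : ∃ l ∈ s, l ≠ μ := by
      by_cases h : a = μ
      · exact ⟨b, hb, fun hbμ => hab (h.trans hbμ.symm)⟩
      · exact ⟨a, ha, h⟩
    apply hes l hl
    rw [mem_Rg_iff]
    refine ⟨(μ - l)⁻¹ • e, ?_⟩
    rw [map_smul, hμ, smul_smul, smul_smul, ← sub_smul]
    have hne : μ - l ≠ 0 := sub_ne_zero.mpr (Ne.symm hlμ)
    have : (μ - l)⁻¹ * μ - l * (μ - l)⁻¹ = 1 := by field_simp
    rw [this, one_smul]
  · by_cases hne : s.Nonempty
    · obtain ⟨l, hl⟩ := hne
      have hEl : LinearMap.ker (g - l • (1 : Module.End K V)) ≠ ⊤ := by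
        intro htop
        apply hns
        refine ⟨l, ?_⟩
        have := LinearMap.ker_eq_top.mp htop
        exact sub_eq_zero.mp this
      obtain ⟨e, he1, he2, he3, he4⟩ := avoid4 hK H1 H2 (Rg g l) _ h1 h2 (hsR l hl) hEl
      have huniq : ∀ μ ∈ s, μ = l := fun μ hμ => Finset.card_le_one.mp hcard μ hμ l hl
      refine ⟨e, he1, he2, ?_, ?_⟩
      · intro μ hμ
        rw [huniq μ ((hs_iff μ).mpr hμ)]
        exact he3
      · intro μ hμ
        have he0 : e ≠ 0 := fun h => he1 (h ▸ H1.zero_mem)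
        have hμs : μ ∈ s := (hs_iff μ).mpr ⟨e, he0, hμ⟩
        apply he4
        rw [LinearMap.mem_ker, LinearMap.sub_apply, LinearMap.smul_apply, Module.End.one_apply,
          hμ, huniq μ hμs, sub_self]
    · rw [Finset.not_nonempty_iff_eq_empty] at hne
      obtain ⟨e, he1, he2⟩ := avoid2 hK H1 H2 h1 h2
      refine ⟨e, he1, he2, ?_, ?_⟩
      · intro μ hμ
        have := (hs_iff μ).mpr hμ
        rw [hne] at this
        simp at this
      · intro μ hμ
        have he0 : e ≠ 0 := fun h => he1 (h ▸ H1.zero_mem)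
        have := (hs_iff μ).mpr ⟨e, he0, hμ⟩
        rw [hne] at this
        simp at this

end Cfsg.Agent.Lib.H12.RegProd
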