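import Mathlib
import Cfsg.Agent.Lib.H12.RegProdB

/-!
# The Schur complement step: splitting `V = K e ⊕ ker ω`
-/

namespace Cfsg.Agent.Lib.H12.RegProd

open Module

variable {K : Type*} [Field K] {V : Type*} [AddCommGroup V] [Module K V]

/-- A vector `e` and a functional `ω` with `ω e = 1`. -/
structure Split (K V : Type*) [Field K] [AddCommGroup V] [Module K V] where
  e : V
  ω : Module.Dual K V
  h1 : ω e = 1

namespace Split

variable (P : Split K V)

/-- The hyperplane `ker ω`. -/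
abbrev W : Submodule K V := LinearMap.ker P.ω

/-- The projection onto `ker ω` along `e`. -/
def π : V →ₗ[K] P.W :=
  LinearMap.codRestrict P.W (LinearMap.id - P.ω.smulRight P.e) (by
    intro v
    simp [LinearMap.mem_ker, P.h1])

@[simp] theorem π_coe (v : V) : (P.π v : V) = v - P.ω v • P.e := by
  show ((LinearMap.id : V →ₗ[K] V) - P.ω.smulRight P.e) v = _
  simp

@[simp] theorem ω_coe (w : P.W) : P.ω (w : V) = 0 := LinearMap.mem_ker.mp w.2

@[simp] theorem π_W (w : P.W) : P.π (w : V) = w := by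
  ext
  simp

@[simp] theorem π_e : P.π P.e = 0 := by
  ext
  simp [P.h1]

theorem decomp (v : V) : v = P.ω v • P.e + (P.π v : V) := by
  rw [π_coe]
  abel

theorem e_ne_zero : P.e ≠ 0 := by
  intro h
  have := P.h1
  rw [h, map_zero] at this
  exact zero_ne_one this

theorem finrank_W [FiniteDimensional K V] : Module.finrank K P.W + 1 = Module.finrank K V := by
  have h := LinearMap.finrank_range_add_finrank_ker P.ω
  have hr : LinearMap.range P.ω = ⊤ := by
    rw [LinearMap.range_eq_top]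
    intro a
    exact ⟨a • P.e, by simp [P.h1]⟩
  have h3 : Module.finrank K (LinearMap.range P.ω) = 1 := by
    rw [hr, finrank_top, Module.finrank_self]
  have h4 : Module.finrank K (LinearMap.ker P.ω) = Module.finrank K P.W := rfl
  omega

/-- Compression of `g` to `ker ω` along a vector `u` with `ω u = 1`. -/
def compr (g : Module.End K V) (u : V) (hu : P.ω u = 1) : Module.End K P.W :=
  LinearMap.codRestrict P.W ((LinearMap.id - P.ω.smulRight u) ∘ₗ g ∘ₗ P.W.subtype) (by
    intro w
    simp [LinearMap.mem_ker, hu])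

@[simp] theorem compr_coe (g : Module.End K V) (u : V) (hu : P.ω u = 1) (w : P.W) :
    (P.compr g u hu w : V) = g w - P.ω (g w) • u := by
  show (((LinearMap.id : V →ₗ[K] V) - P.ω.smulRight u) ∘ₗ g ∘ₗ P.W.subtype) w = _
  simp

variable (g : Module.End K V)

/-- The Schur complement. -/
def S (h2 : P.ω (g P.e) = 1) : Module.End K P.W := P.compr g (g P.e) h2

theorem S_coe (h2 : P.ω (g P.e) = 1) (w : P.W) :
    (P.S g h2 w : V) = g w - P.ω (g w) • g P.e := by
  simp [S]

/-- The covector `β' = ω ∘ g` on `ker ω`. -/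
def β' : Module.Dual K P.W := P.ω ∘ₗ g ∘ₗ P.W.subtype

@[simp] theorem β'_apply (w : P.W) : P.β' g w = P.ω (g w) := rfl

/-- The vector `c' = g e - e` of `ker ω`. -/
def c' (h2 : P.ω (g P.e) = 1) : P.W := ⟨g P.e - P.e, by
  rw [LinearMap.mem_ker, map_sub, h2, P.h1, sub_self]⟩

@[simp] theorem c'_coe (h2 : P.ω (g P.e) = 1) : (P.c' g h2 : V) = g P.e - P.e := rfl

/-- Assembling the first factor. -/
def asmA (A' : Module.End K P.W) : Module.End K V :=
  P.ω.smulRight (g P.e) + P.W.subtype ∘ₗ A' ∘ₗ P.π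

/-- Assembling the second factor. -/
def asmB (B' : Module.End K P.W) : Module.End K V :=
  (P.ω + (P.β' g) ∘ₗ P.π).smulRight P.e + P.W.subtype ∘ₗ B' ∘ₗ P.π

theorem asmA_apply (A' : Module.End K P.W) (v : V) :
    P.asmA g A' v = P.ω v • g P.e + (A' (P.π v) : V) := by
  simp [asmA]

theorem asmB_apply (B' : Module.End K P.W) (v : V) :
    P.asmB g B' v = (P.ω v + P.ω (g (P.π v))) • P.e + (B' (P.π v) : V) := by
  simp [asmB]

theorem asm_mul (h2 : P.ω (g P.e) = 1) (A' B' : Module.End K P.W)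
    (hS : P.S g h2 = A' * B') : g = P.asmA g A' * P.asmB g B' := by
  ext v
  rw [Module.End.mul_apply, asmA_apply, asmB_apply]
  have hω : P.ω ((P.ω v + P.ω (g (P.π v))) • P.e + (B' (P.π v) : V))
      = P.ω v + P.ω (g (P.π v)) := by
    simp [P.h1]
  have hπ : P.π ((P.ω v + P.ω (g (P.π v))) • P.e + (B' (P.π v) : V)) = B' (P.π v) := by
    rw [map_add, map_smul, π_e, smul_zero, zero_add, π_W]
  rw [hω, hπ]
  have hS' : (A' (B' (P.π v)) : V) = g (P.π v) - P.ω (g (P.π v)) • g P.e := by
    rw [← Module.End.mul_apply, ← hS, S_coe]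
  rw [hS']
  conv_lhs => rw [P.decomp v]
  rw [map_add, map_smul]
  module

/-- Nilpotent part of `asmA`, as a map into `ker ω`. -/
def νA (h2 : P.ω (g P.e) = 1) (A' : Module.End K P.W) : V →ₗ[K] P.W :=
  P.ω.smulRight (P.c' g h2) + (A' - 1) ∘ₗ P.π

theorem νA_apply (h2 : P.ω (g P.e) = 1) (A' : Module.End K P.W) (v : V) :
    P.νA g h2 A' v = P.ω v • P.c' g h2 + (A' - 1) (P.π v) := by
  simp [νA]

theorem νA_W (h2 : P.ω (g P.e) = 1) (A' : Module.End K P.W) (w : P.W) :
    P.νA g h2 A' (w : V) = (A' - 1) w := by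
  rw [νA_apply, ω_coe, zero_smul, zero_add, π_W]

theorem asmA_sub_one (h2 : P.ω (g P.e) = 1) (A' : Module.End K P.W) :
    P.asmA g A' - 1 = P.W.subtype ∘ₗ P.νA g h2 A' := by
  ext v
  rw [LinearMap.sub_apply, Module.End.one_apply, asmA_apply, LinearMap.comp_apply, νA_apply]
  simp only [Submodule.subtype_apply, Submodule.coe_add, Submodule.coe_smul, c'_coe,
    LinearMap.sub_apply, Module.End.one_apply, Submodule.coe_sub]
  rw [P.π_coe v]
  module

theorem asmA_sub_one_pow (h2 : P.ω (g P.e) = 1) (A' : Module.End K P.W) (k : ℕ) :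
    (P.asmA g A' - 1) ^ (k + 1) = P.W.subtype ∘ₗ ((A' - 1) ^ k) ∘ₗ P.νA g h2 A' := by
  induction k with
  | zero =>
    rw [zero_add, pow_one, pow_zero, asmA_sub_one _ _ h2]
    rfl
  | succ k ih =>
    rw [pow_succ, ih, asmA_sub_one _ _ h2]
    ext v
    simp only [Module.End.mul_apply, LinearMap.comp_apply, Submodule.subtype_apply]
    rw [νA_W, pow_succ, Module.End.mul_apply]

/-- Nilpotent part of `asmB`, as a map from `ker ω`. -/
def τB (B' : Module.End K P.W) : P.W →ₗ[K] V :=
  (P.β' g).smulRight P.e + P.W.subtype ∘ₗ (B' - 1)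

theorem τB_apply (B' : Module.End K P.W) (w : P.W) :
    P.τB g B' w = P.ω (g w) • P.e + ((B' - 1) w : V) := by
  simp [τB]

theorem π_τB (B' : Module.End K P.W) (w : P.W) : P.π (P.τB g B' w) = (B' - 1) w := by
  rw [τB_apply, map_add, map_smul, π_e, smul_zero, zero_add, π_W]

theorem asmB_sub_one (B' : Module.End K P.W) :
    P.asmB g B' - 1 = P.τB g B' ∘ₗ P.π := by
  ext v
  rw [LinearMap.sub_apply, Module.End.one_apply, asmB_apply, LinearMap.comp_apply, τB_apply]
  simp only [LinearMap.sub_apply, Module.End.one_apply, Submodule.coe_sub]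
  rw [P.π_coe v]
  module

theorem asmB_sub_one_pow (B' : Module.End K P.W) (k : ℕ) :
    (P.asmB g B' - 1) ^ (k + 1) = P.τB g B' ∘ₗ ((B' - 1) ^ k) ∘ₗ P.π := by
  induction k with
  | zero =>
    rw [zero_add, pow_one, pow_zero, asmB_sub_one]
    rfl
  | succ k ih =>
    rw [pow_succ', ih, asmB_sub_one]
    ext v
    simp only [Module.End.mul_apply, LinearMap.comp_apply]
    rw [π_τB, pow_succ', Module.End.mul_apply]

end Split

end Cfsg.Agent.Lib.H12.RegProd
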