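import Mathlib
import Cfsg.Agent.Lib.H12.RegProdC

/-!
# The determinant of the Schur complement
-/

namespace Cfsg.Agent.Lib.H12.RegProd

open Module

variable {K : Type*} [Field K] {V : Type*} [AddCommGroup V] [Module K V]

namespace Split

variable (P : Split K V)

/-- The splitting `V ≃ K × ker ω`. -/
def Ψ : V ≃ₗ[K] K × P.W :=
  LinearEquiv.ofLinearMap (LinearMap.prod P.ω P.π)
    ((LinearMap.toSpanSingleton K V P.e).coprod P.W.subtype)
    (by
      ext a
      · simp [P.h1]
      · simp
      · simp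
      · simp)
    (by
      ext v
      simp only [LinearMap.comp_apply, LinearMap.prod_apply, LinearMap.coprod_apply,
        LinearMap.toSpanSingleton_apply, Submodule.subtype_apply, LinearMap.id_apply]
      exact (P.decomp v).symm)

theorem Ψ_apply (v : V) : P.Ψ v = (P.ω v, P.π v) := rfl

theorem Ψ_symm_apply (a : K) (w : P.W) : P.Ψ.symm (a, w) = a • P.e + (w : V) := rfl

variable (g : Module.End K V)

/-- The block-diagonal middle factor. -/
def midG (h2 : P.ω (g P.e) = 1) : Module.End K V :=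
  P.ω.smulRight P.e + P.W.subtype ∘ₗ P.S g h2 ∘ₗ P.π

theorem midG_apply (h2 : P.ω (g P.e) = 1) (v : V) :
    P.midG g h2 v = P.ω v • P.e + (P.S g h2 (P.π v) : V) := by
  simp [midG]

theorem det_midG [FiniteDimensional K V] (h2 : P.ω (g P.e) = 1) :
    LinearMap.det (P.midG g h2) = LinearMap.det (P.S g h2) := by
  have hconj : (P.Ψ : V →ₗ[K] K × P.W) ∘ₗ P.midG g h2 ∘ₗ (P.Ψ.symm : K × P.W →ₗ[K] V)
      = LinearMap.prodMap (LinearMap.id : K →ₗ[K] K) (P.S g h2) := by
    apply LinearMap.ext
    rintro ⟨a, w⟩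
    simp only [LinearMap.comp_apply, LinearEquiv.coe_coe, Ψ_symm_apply, LinearMap.prodMap_apply,
      LinearMap.id_apply]
    rw [midG_apply, Ψ_apply]
    have h1 : P.ω (a • P.e + (w : V)) = a := by simp [P.h1]
    have h3 : P.π (a • P.e + (w : V)) = w := by
      rw [map_add, map_smul, π_e, smul_zero, zero_add, π_W]
    rw [h1, h3]
    refine Prod.ext ?_ ?_
    · simp [P.h1]
    · show P.π (a • P.e + (P.S g h2 w : V)) = P.S g h2 w
      rw [map_add, map_smul, π_e, smul_zero, zero_add, π_W]
  have := LinearMap.det_conj (P.midG g h2) P.Ψ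
  rw [hconj, LinearMap.det_prodMap] at this
  rw [← this, LinearMap.det_id, one_mul]

theorem schur_factor (h2 : P.ω (g P.e) = 1) :
    g = LinearMap.transvection P.ω (P.c' g h2 : V) ∘ₗ P.midG g h2 ∘ₗ
      LinearMap.transvection (P.ω ∘ₗ (g - 1)) P.e := by
  ext v
  simp only [LinearMap.comp_apply, LinearMap.transvection.apply, LinearMap.sub_apply,
    Module.End.one_apply, map_sub]
  rw [midG_apply]
  have hω : P.ω (v + (P.ω (g v) - P.ω v) • P.e) = P.ω (g v) := by
    simp [P.h1]
  have hπ : P.π (v + (P.ω (g v) - P.ω v) • P.e) = P.π v := by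
    rw [map_add, map_smul, π_e, smul_zero, add_zero]
  rw [hω, hπ, S_coe]
  have h5 : P.ω (P.ω (g v) • P.e + (g (P.π v : V) - P.ω (g (P.π v : V)) • g P.e)) = P.ω (g v) := by
    simp only [map_add, map_smul, map_sub, P.h1, h2, smul_eq_mul, mul_one]
    ring
  rw [h5, c'_coe, P.π_coe v]
  simp only [map_sub, map_smul, h2, smul_eq_mul, mul_one]
  module

theorem det_S [FiniteDimensional K V] (h2 : P.ω (g P.e) = 1) :
    LinearMap.det (P.S g h2) = LinearMap.det g := by
  conv_rhs => rw [P.schur_factor g h2]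
  rw [LinearMap.det_comp, LinearMap.det_comp, LinearMap.transvection.det,
    LinearMap.transvection.det, det_midG]
  have e1 : P.ω (P.c' g h2 : V) = 0 := P.ω_coe _
  have e2 : (P.ω ∘ₗ (g - 1)) P.e = 0 := by
    simp [h2, P.h1]
  rw [e1, e2, add_zero, one_mul, mul_one]

end Split

end Cfsg.Agent.Lib.H12.RegProd
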