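import Mathlib
import Cfsg.Agent.Lib.H12.RegProdD

/-!
# Criterion: the Schur complement is non-scalar and `S - 1` has rank at least two
-/

namespace Cfsg.Agent.Lib.H12.RegProd

open Module

variable {K : Type*} [Field K] {V : Type*} [AddCommGroup V] [Module K V]

namespace Split

variable (P : Split K V) (g : Module.End K V)

theorem S_fix_iff (h2 : P.ω (g P.e) = 1) (w : P.W) (a : K) :
    P.S g h2 w = a • w ↔ g (w : V) - a • (w : V) = P.ω (g w) • g P.e := by
  rw [Subtype.ext_iff, S_coe, Submodule.coe_smul]
  constructor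
  · intro h
    rw [← h]
    abel
  · intro h
    rw [← h]
    abel

theorem ge_notMem_Rg (μ : K) (hμ : μ ≠ 0) (he : P.e ∉ Rg g μ) : g P.e ∉ Rg g μ := by
  intro hmem
  apply he
  have h1 : g P.e - μ • P.e ∈ Rg g μ := (mem_Rg_iff g μ _).mpr ⟨P.e, rfl⟩
  have h2 : μ • P.e ∈ Rg g μ := by
    have := (Rg g μ).sub_mem hmem h1
    rwa [sub_sub_cancel] at this
  exact ((Rg g μ).smul_mem_iff hμ).mp h2

/-- The Schur complement is not a scalar. -/
theorem S_nonscalar [FiniteDimensional K V] (h2 : P.ω (g P.e) = 1) (hn : 3 ≤ Module.finrank K V)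
    (hinj : Function.Injective g) (hns : ¬ ∃ a : K, g = a • (1 : Module.End K V))
    (hE : ∀ μ, IsEig g μ → P.e ∉ Rg g μ)
    (hO7 : ∀ μ : K, P.W ≠ LinearMap.ker (g - μ • (1 : Module.End K V))) :
    ¬ ∃ a : K, P.S g h2 = a • (1 : Module.End K P.W) := by
  rintro ⟨a, ha⟩
  have hW := P.finrank_W
  have hfix : ∀ w : P.W, g (w : V) - a • (w : V) = P.ω (g w) • g P.e := by
    intro w
    rw [← P.S_fix_iff g h2, ha, LinearMap.smul_apply, Module.End.one_apply]
  -- a nonzero element of W
  have hWnt : Nontrivial P.W := by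
    apply Module.nontrivial_of_finrank_pos (R := K)
    omega
  obtain ⟨w0, hw0⟩ := exists_ne (0 : P.W)
  have ha0 : a ≠ 0 := by
    rintro rfl
    have h := hfix w0
    rw [zero_smul, sub_zero] at h
    have h3 : g (w0 : V) = g (P.ω (g w0) • P.e) := by
      rw [map_smul]
      exact h
    have h4 := hinj h3
    have h5 : P.ω (w0 : V) = P.ω (g w0) := by
      conv_lhs => rw [h4]
      simp [P.h1]
    rw [P.ω_coe] at h5
    rw [← h5, zero_smul] at h4
    exact hw0 (Subtype.ext h4)
  by_cases heig : IsEig g a
  · have hge := P.ge_notMem_Rg g a ha0 (hE a heig)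
    have hle : P.W ≤ LinearMap.ker (g - a • (1 : Module.End K V)) := by
      intro w hw
      have h := hfix ⟨w, hw⟩
      simp only at h
      have hmem : g w - a • w ∈ Rg g a := (mem_Rg_iff g a _).mpr ⟨w, rfl⟩
      rw [h] at hmem
      have h0 : P.ω (g w) = 0 := by
        by_contra hne
        exact hge (((Rg g a).smul_mem_iff hne).mp hmem)
      rw [h0, zero_smul] at h
      rw [LinearMap.mem_ker, LinearMap.sub_apply, LinearMap.smul_apply, Module.End.one_apply]
      exact h
    have hne : LinearMap.ker (g - a • (1 : Module.End K V)) ≠ ⊤ := by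
      intro htop
      apply hns
      exact ⟨a, sub_eq_zero.mp (LinearMap.ker_eq_top.mp htop)⟩
    have hlt : Module.finrank K (LinearMap.ker (g - a • (1 : Module.End K V)))
        < Module.finrank K V := Submodule.finrank_lt hne
    have hle2 := Submodule.finrank_mono hle
    have heq : P.W = LinearMap.ker (g - a • (1 : Module.End K V)) :=
      Submodule.eq_of_le_of_finrank_eq hle (by omega)
    exact hO7 a heq
  · -- g - a injective
    have hinj' : Function.Injective (g - a • (1 : Module.End K V)) := by
      rw [← LinearMap.ker_eq_bot, Submodule.eq_bot_iff]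
      intro v hv
      by_contra hv0
      apply heig
      refine ⟨v, hv0, ?_⟩
      rw [LinearMap.mem_ker, LinearMap.sub_apply, LinearMap.smul_apply, Module.End.one_apply,
        sub_eq_zero] at hv
      exact hv
    let φ : P.W →ₗ[K] V := (g - a • (1 : Module.End K V)) ∘ₗ P.W.subtype
    have hφinj : Function.Injective φ := hinj'.comp (Submodule.injective_subtype _)
    have hφr : LinearMap.range φ ≤ Submodule.span K {g P.e} := by
      rintro _ ⟨w, rfl⟩
      have h := hfix w
      show (g - a • (1 : Module.End K V)) (w : V) ∈ _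
      rw [LinearMap.sub_apply, LinearMap.smul_apply, Module.End.one_apply, h]
      exact Submodule.smul_mem _ _ (Submodule.mem_span_singleton_self _)
    have h5 : Module.finrank K P.W = Module.finrank K (LinearMap.range φ) :=
      (LinearMap.finrank_range_of_inj hφinj).symm
    have h6 := Submodule.finrank_mono hφr
    have h7 : Module.finrank K (Submodule.span K ({g P.e} : Set V)) ≤ 1 := by
      have := finrank_span_finset_le_card (R := K) ({g P.e} : Finset V)
      simp only [Finset.coe_singleton, Finset.card_singleton] at this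
      exact this
    omega

theorem finrank_ker_sub_one_le [FiniteDimensional K V]
    (hr : 2 ≤ Module.finrank K (LinearMap.range (g - 1))) :
    Module.finrank K (LinearMap.ker (g - 1)) + 2 ≤ Module.finrank K V := by
  have := LinearMap.finrank_range_add_finrank_ker (g - 1)
  omega

/-- `S - 1` has rank at least two. -/
theorem S_rank [FiniteDimensional K V] (h2 : P.ω (g P.e) = 1) (hn : 3 ≤ Module.finrank K V)
    (hr : 2 ≤ Module.finrank K (LinearMap.range (g - 1)))
    (hE : ∀ μ, IsEig g μ → P.e ∉ Rg g μ)
    (hO8 : (∃ y, g y = y ∧ P.ω y ≠ 0) ∨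
      Module.finrank K (LinearMap.ker (g - 1)) + 3 ≤ Module.finrank K V)
    (h8c : (∀ y, g y - y = g P.e → P.ω y ≠ 0) ∨ 4 ≤ Module.finrank K V) :
    2 ≤ Module.finrank K (LinearMap.range (P.S g h2 - 1)) := by
  have hW := P.finrank_W
  have hrn := LinearMap.finrank_range_add_finrank_ker (P.S g h2 - 1)
  suffices hker : Module.finrank K (LinearMap.ker (P.S g h2 - 1)) + 3 ≤ Module.finrank K V by omega
  have hfix : ∀ w : P.W, w ∈ LinearMap.ker (P.S g h2 - 1) →
      g (w : V) - (w : V) = P.ω (g w) • g P.e := by
    intro w hw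
    rw [LinearMap.mem_ker, LinearMap.sub_apply, Module.End.one_apply, sub_eq_zero] at hw
    have := (P.S_fix_iff g h2 w 1).mp (by rw [hw, one_smul])
    rwa [one_smul] at this
  by_cases heig : IsEig g 1
  · have hge := P.ge_notMem_Rg g 1 one_ne_zero (hE 1 heig)
    have hfix0 : ∀ w : P.W, w ∈ LinearMap.ker (P.S g h2 - 1) → g (w : V) = w := by
      intro w hw
      have h := hfix w hw
      have hmem : g (w : V) - (1 : K) • (w : V) ∈ Rg g 1 := (mem_Rg_iff g 1 _).mpr ⟨w, rfl⟩
      rw [one_smul, h] at hmem
      have h0 : P.ω (g w) = 0 := by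
        by_contra hne
        exact hge (((Rg g 1).smul_mem_iff hne).mp hmem)
      rw [h0, zero_smul, sub_eq_zero] at h
      exact h
    -- ker (S-1) embeds in ker (g-1) ⊓ W
    let ι : LinearMap.ker (P.S g h2 - 1) →ₗ[K] (LinearMap.ker (g - 1) ⊓ P.W : Submodule K V) :=
      LinearMap.codRestrict _ (P.W.subtype ∘ₗ (LinearMap.ker (P.S g h2 - 1)).subtype) (by
        intro w
        refine Submodule.mem_inf.mpr ⟨?_, (w : P.W).2⟩
        show ((w : P.W) : V) ∈ LinearMap.ker (g - 1)
        rw [LinearMap.mem_ker, LinearMap.sub_apply, Module.End.one_apply, sub_eq_zero]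
        exact hfix0 w w.2)
    have hιinj : Function.Injective ι := by
      intro a b hab
      have : ((ι a : (LinearMap.ker (g - 1) ⊓ P.W : Submodule K V)) : V) = (ι b : V) := by rw [hab]
      exact Subtype.ext (Subtype.ext this)
    have h3 := LinearMap.finrank_le_finrank_of_injective hιinj
    have hd := finrank_ker_sub_one_le g hr
    rcases hO8 with ⟨y, hy1, hy2⟩ | hO8
    · have hlt : (LinearMap.ker (g - 1) ⊓ P.W : Submodule K V) < LinearMap.ker (g - 1) := by
        refine lt_of_le_of_ne inf_le_left ?_
        intro heq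
        have hy : y ∈ LinearMap.ker (g - 1) := by
          rw [LinearMap.mem_ker, LinearMap.sub_apply, Module.End.one_apply, hy1, sub_self]
        rw [← heq] at hy
        exact hy2 (LinearMap.mem_ker.mp hy.2)
      have := Submodule.finrank_lt_finrank_of_lt hlt
      omega
    · have := Submodule.finrank_mono (inf_le_left :
        (LinearMap.ker (g - 1) ⊓ P.W : Submodule K V) ≤ LinearMap.ker (g - 1))
      omega
  · -- h injective
    have hinj' : ∀ v : V, g v = v → v = 0 := by
      intro v hv
      by_contra hv0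
      exact heig ⟨v, hv0, by rw [hv, one_smul]⟩
    have hω0 : ∀ w : P.W, w ∈ LinearMap.ker (P.S g h2 - 1) → P.ω (g w) = 0 → w = 0 := by
      intro w hw h0
      have h := hfix w hw
      rw [h0, zero_smul, sub_eq_zero] at h
      exact Subtype.ext (hinj' _ h)
    rcases h8c with h8c | h8c
    · have hbot : LinearMap.ker (P.S g h2 - 1) = ⊥ := by
        rw [Submodule.eq_bot_iff]
        intro w hw
        by_contra hw0
        have ht : P.ω (g w) ≠ 0 := fun h0 => hw0 (hω0 w hw h0)
        have h := hfix w hw
        apply h8c ((P.ω (g w))⁻¹ • (w : V))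
        · rw [map_smul, ← smul_sub, h, smul_smul, inv_mul_cancel₀ ht, one_smul]
        · rw [map_smul, P.ω_coe, smul_zero]
      rw [hbot, finrank_bot]
      omega
    · let θ : LinearMap.ker (P.S g h2 - 1) →ₗ[K] K :=
        (P.β' g) ∘ₗ (LinearMap.ker (P.S g h2 - 1)).subtype
      have hθinj : Function.Injective θ := by
        rw [← LinearMap.ker_eq_bot, Submodule.eq_bot_iff]
        intro w hw
        have : P.ω (g (w : P.W)) = 0 := LinearMap.mem_ker.mp hw
        exact Subtype.ext (hω0 w w.2 this)
      have h3 := LinearMap.finrank_le_finrank_of_injective hθinj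
      rw [Module.finrank_self] at h3
      omega

end Split

end Cfsg.Agent.Lib.H12.RegProd
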