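import Mathlib
import Cfsg.Agent.Lib.H12.RegProdE

/-!
# Selection of the functional, and the three-dimensional determinant lemma
-/

namespace Cfsg.Agent.Lib.H12.RegProd

open Module

variable {K : Type*} [Field K] {V : Type*} [AddCommGroup V] [Module K V]

/-- A functional vanishing at `f`, equal to one at `e`, nonzero at three more vectors. -/
theorem exists_functional (hK : BigK K) (f e c x1 x2 : V)
    (he : e ∉ Submodule.span K {f}) (hc : c ∉ Submodule.span K {f})
    (hx1 : x1 ∉ Submodule.span K {f}) (hx2 : x2 ∉ Submodule.span K {f}) :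
    ∃ ω : Module.Dual K V, ω f = 0 ∧ ω e = 1 ∧ ω c ≠ 0 ∧ ω x1 ≠ 0 ∧ ω x2 ≠ 0 := by
  let Θ : Submodule K (Module.Dual K V) := LinearMap.ker (Module.Dual.eval K V f)
  let H : V → Submodule K Θ := fun x => LinearMap.ker ((Module.Dual.eval K V x) ∘ₗ Θ.subtype)
  have hH : ∀ x, x ∉ Submodule.span K {f} → H x ≠ ⊤ := by
    intro x hx htop
    obtain ⟨θ, hθx, hθf⟩ := Submodule.exists_le_ker_of_notMem hx
    have hθΘ : θ ∈ Θ := by
      show Module.Dual.eval K V f θ = 0
      rw [Module.Dual.eval_apply]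
      exact LinearMap.mem_ker.mp (hθf (Submodule.mem_span_singleton_self f))
    have : (⟨θ, hθΘ⟩ : Θ) ∈ H x := by rw [htop]; trivial
    exact hθx (LinearMap.mem_ker.mp this)
  obtain ⟨θ, h1, h2, h3, h4⟩ := avoid4 (M := Θ) hK (H e) (H c) (H x1) (H x2) (hH e he) (hH c hc)
    (hH x1 hx1) (hH x2 hx2)
  have hval : ∀ x, θ ∉ H x → (θ : Module.Dual K V) x ≠ 0 := by
    intro x hx h0
    apply hx
    show Module.Dual.eval K V x (θ : Module.Dual K V) = 0
    rw [Module.Dual.eval_apply]
    exact h0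
  have hθf : (θ : Module.Dual K V) f = 0 := by
    have := θ.2
    have h : Module.Dual.eval K V f (θ : Module.Dual K V) = 0 := LinearMap.mem_ker.mp this
    rwa [Module.Dual.eval_apply] at h
  have hθe := hval e h1
  refine ⟨((θ : Module.Dual K V) e)⁻¹ • (θ : Module.Dual K V), ?_, ?_, ?_, ?_, ?_⟩
  · rw [LinearMap.smul_apply, hθf, smul_zero]
  · rw [LinearMap.smul_apply, smul_eq_mul, inv_mul_cancel₀ hθe]
  · rw [LinearMap.smul_apply, smul_eq_mul]
    exact mul_ne_zero (inv_ne_zero hθe) (hval c h2)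
  · rw [LinearMap.smul_apply, smul_eq_mul]
    exact mul_ne_zero (inv_ne_zero hθe) (hval x1 h3)
  · rw [LinearMap.smul_apply, smul_eq_mul]
    exact mul_ne_zero (inv_ne_zero hθe) (hval x2 h4)

/-- On a one-dimensional space, an endomorphism of determinant one is the identity. -/
theorem eq_one_of_finrank_one {U : Type*} [AddCommGroup U] [Module K U]
    (h : Module.finrank K U = 1) (T : Module.End K U) (hdet : LinearMap.det T = 1) : T = 1 := by
  obtain ⟨u, hu0, hu⟩ := finrank_eq_one_iff'.mp h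
  obtain ⟨μ, hμ⟩ := hu (T u)
  have hT : T = μ • (1 : Module.End K U) := by
    ext w
    obtain ⟨c, rfl⟩ := hu w
    rw [map_smul, ← hμ, LinearMap.smul_apply, Module.End.one_apply, smul_comm]
  have hd : LinearMap.det T = μ := by
    rw [hT, LinearMap.det_smul, h, pow_one, map_one, mul_one]
  rw [hd] at hdet
  rw [hT, hdet, one_smul]

theorem injective_of_det_eq_one [FiniteDimensional K V] (g : Module.End K V)
    (hdet : LinearMap.det g = 1) : Function.Injective g := by
  rw [← LinearMap.ker_eq_bot]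
  by_contra hne
  have := LinearMap.det_eq_zero_iff_ker_ne_bot.mpr hne
  rw [this] at hdet
  exact zero_ne_one hdet

/-- In dimension three, an invariant plane on which `g` has determinant one forces
`g ≡ 1` modulo the plane. -/
theorem fix_mod_plane [FiniteDimensional K V] (hn : Module.finrank K V = 3) (g : Module.End K V)
    (hdet : LinearMap.det g = 1) (a b : V) (hab : a ∉ Submodule.span K {b}) (hb : b ≠ 0) (p : K)
    (hga : g a = a + b) (hgb : g b = p • a + (1 + p) • b) :
    ∀ v, g v - v ∈ Submodule.span K {a, b} := by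
  obtain ⟨θ, hθa, hθb⟩ := Submodule.exists_le_ker_of_notMem hab
  have hθb' : θ b = 0 := LinearMap.mem_ker.mp (hθb (Submodule.mem_span_singleton_self b))
  let P : Split K V := ⟨a, (θ a)⁻¹ • θ, by
    rw [LinearMap.smul_apply, smul_eq_mul, inv_mul_cancel₀ hθa]⟩
  have hωb : P.ω b = 0 := by
    show ((θ a)⁻¹ • θ) b = 0
    rw [LinearMap.smul_apply, hθb', smul_zero]
  have h2 : P.ω (g P.e) = 1 := by
    show P.ω (g a) = 1
    rw [hga, map_add, hωb, add_zero]
    exact P.h1
  have hdS : LinearMap.det (P.S g h2) = 1 := by rw [P.det_S g h2, hdet]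
  have hW := P.finrank_W
  let bW : P.W := ⟨b, LinearMap.mem_ker.mpr hωb⟩
  have hbW : bW ≠ 0 := fun h => hb (congrArg Subtype.val h)
  have hSb : P.S g h2 bW = bW := by
    apply Subtype.ext
    rw [Split.S_coe]
    show g b - P.ω (g b) • g a = b
    have : P.ω (g b) = p := by
      rw [hgb, map_add, map_smul, map_smul, hωb, smul_zero, add_zero]
      show p • P.ω a = p
      have : P.ω a = 1 := P.h1
      rw [this, smul_eq_mul, mul_one]
    rw [this, hga, hgb]
    module
  -- second split on W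
  obtain ⟨θ', hθ'b, -⟩ := Submodule.exists_le_ker_of_notMem (p := (⊥ : Submodule K P.W))
    (v := bW) (by simpa using hbW)
  let P' : Split K P.W := ⟨bW, (θ' bW)⁻¹ • θ', by
    rw [LinearMap.smul_apply, smul_eq_mul, inv_mul_cancel₀ hθ'b]⟩
  have h2' : P'.ω (P.S g h2 P'.e) = 1 := by
    show P'.ω (P.S g h2 bW) = 1
    rw [hSb]
    exact P'.h1
  have hW' := P'.finrank_W
  have hdS' : LinearMap.det (P'.S (P.S g h2) h2') = 1 := by rw [P'.det_S _ h2', hdS]
  have hS'1 : P'.S (P.S g h2) h2' = 1 :=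
    eq_one_of_finrank_one (by omega) _ hdS'
  -- S w - w ∈ span {bW}
  have hSw : ∀ w : P.W, ∃ t : K, P.S g h2 w = w + t • bW := by
    intro w
    have h3 : (P'.S (P.S g h2) h2' (P'.π w) : P.W) = P'.π w := by rw [hS'1, Module.End.one_apply]
    rw [Split.S_coe] at h3
    have h4 : P.S g h2 P'.e = bW := hSb
    rw [h4] at h3
    obtain ⟨t, ht⟩ : ∃ t : K, t = P'.ω (P.S g h2 (P'.π w : P.W)) := ⟨_, rfl⟩
    rw [← ht] at h3
    have h8 : P.S g h2 (P'.π w : P.W) = (P'.π w : P.W) + t • bW :=
      sub_eq_iff_eq_add.mp h3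
    refine ⟨t, ?_⟩
    have h5 : w = P'.ω w • bW + (P'.π w : P.W) := P'.decomp w
    have h7 : P.S g h2 w = P'.ω w • P.S g h2 bW + P.S g h2 (P'.π w : P.W) := by
      have := congrArg (P.S g h2) h5
      rw [map_add, map_smul] at this
      exact this
    rw [h7, hSb, h8, ← add_assoc, ← h5]
  intro v
  have hv : v = P.ω v • a + (P.π v : V) := P.decomp v
  obtain ⟨t, ht⟩ := hSw (P.π v)
  obtain ⟨s, hs⟩ : ∃ s : K, s = P.ω (g (P.π v : V)) := ⟨_, rfl⟩
  have h3 : (P.S g h2 (P.π v) : V) = g (P.π v) - s • g P.e := by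
    rw [hs]
    exact Split.S_coe _ _ _ _
  rw [ht] at h3
  have h4 : g (P.π v : V) = (P.π v : V) + t • b + s • (a + b) := by
    have h6 : g P.e = a + b := hga
    rw [h6] at h3
    have h7 : ((P.π v + t • bW : P.W) : V) = (P.π v : V) + t • b := rfl
    rw [h7] at h3
    exact (sub_eq_iff_eq_add.mp h3.symm)
  have hgv : g v = P.ω v • g a + g (P.π v : V) := by
    have := congrArg g hv
    rw [map_add, map_smul] at this
    exact this
  have h5 : g v - v = (P.ω v + t + s) • b + s • a := by
    have h8 : g v - v = g v - (P.ω v • a + (P.π v : V)) := by rw [← hv]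
    rw [h8, hgv, h4, hga]
    module
  rw [h5]
  refine Submodule.add_mem _ (Submodule.smul_mem _ _ ?_) (Submodule.smul_mem _ _ ?_)
  · exact Submodule.subset_span (by simp)
  · exact Submodule.subset_span (by simp)

end Cfsg.Agent.Lib.H12.RegProd
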