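import Mathlib
import Cfsg.Agent.Lib.H12.RegProdF

/-!
# The choice lemma
-/

namespace Cfsg.Agent.Lib.H12.RegProd

open Module

variable {K : Type*} [Field K] {V : Type*} [AddCommGroup V] [Module K V]

theorem finrank_span_one_le (x : V) : Module.finrank K (Submodule.span K ({x} : Set V)) ≤ 1 := by
  have := finrank_span_finset_le_card (R := K) ({x} : Finset V)
  simp only [Finset.coe_singleton, Finset.card_singleton] at this
  exact this

theorem finrank_span_two_le (x y : V) :
    Module.finrank K (Submodule.span K ({x, y} : Set V)) ≤ 2 := by
  classical
  have := finrank_span_finset_le_card (R := K) ({x, y} : Finset V)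
  simp only [Finset.coe_insert, Finset.coe_singleton] at this
  exact le_trans this Finset.card_le_two

theorem exists_notMem_span_of_rank [FiniteDimensional K V] (T : Module.End K V)
    (hr : 2 ≤ Module.finrank K (LinearMap.range T)) (x : V) :
    ∃ z, T z ∉ Submodule.span K {x} := by
  by_contra hcon
  push Not at hcon
  have hle : LinearMap.range T ≤ Submodule.span K {x} := by
    rintro _ ⟨z, rfl⟩
    exact hcon z
  have h1 := Submodule.finrank_mono hle
  have h2 := finrank_span_one_le (K := K) x
  omega

theorem choice [FiniteDimensional K V] (hK : BigK K) (g : Module.End K V)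
    (hdet : LinearMap.det g = 1)
    (hns : ¬ ∃ a : K, g = a • (1 : Module.End K V))
    (hr : 2 ≤ Module.finrank K (LinearMap.range (g - 1)))
    (c : V) (hc : c ≠ 0) (β : Module.Dual K V) (hβ : β ≠ 0) :
    ∃ (P : Split K V) (h2 : P.ω (g P.e) = 1), P.ω c ≠ 0 ∧ β P.e ≠ 0 ∧ P.c' g h2 ≠ 0 ∧
      P.β' g ≠ 0 ∧
      (3 ≤ Module.finrank K V → (¬ ∃ a : K, P.S g h2 = a • (1 : Module.End K P.W)) ∧
        2 ≤ Module.finrank K (LinearMap.range (P.S g h2 - 1))) := by
  classical
  have hinj := injective_of_det_eq_one g hdet
  have hH1 : LinearMap.ker β ≠ ⊤ := fun h => hβ (LinearMap.ker_eq_top.mp h)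
  have hH2 : (Submodule.span K {c}).comap (g - 1) ≠ ⊤ := by
    intro htop
    obtain ⟨z, hz⟩ := exists_notMem_span_of_rank (g - 1) hr c
    apply hz
    have : z ∈ (Submodule.span K {c}).comap (g - 1) := by
      rw [htop]
      trivial
    exact this
  obtain ⟨e, he1, he2, hE, hnev⟩ := exists_good_vector hK g hns _ _ hH1 hH2
  have hβe : β e ≠ 0 := fun h => he1 (LinearMap.mem_ker.mpr h)
  obtain ⟨f, hf⟩ : ∃ f : V, f = g e - e := ⟨_, rfl⟩
  have hge : g e = e + f := by
    rw [hf]
    abel
  have hfc : f ∉ Submodule.span K {c} := by
    intro h
    apply he2
    show (g - 1) e ∈ Submodule.span K {c}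
    rw [LinearMap.sub_apply, Module.End.one_apply, ← hf]
    exact h
  have hf0 : f ≠ 0 := fun h => hfc (h ▸ Submodule.zero_mem _)
  have he0 : e ≠ 0 := by
    intro h
    apply hnev 0
    rw [h, map_zero, smul_zero]
  have hef : e ∉ Submodule.span K {f} := by
    intro h
    obtain ⟨t, ht⟩ := Submodule.mem_span_singleton.mp h
    have ht0 : t ≠ 0 := by
      rintro rfl
      rw [zero_smul] at ht
      exact he0 ht.symm
    apply hnev (1 + t⁻¹)
    have : f = t⁻¹ • e := by
      rw [← ht, smul_smul, inv_mul_cancel₀ ht0, one_smul]
    rw [hge, add_smul, one_smul, ← this]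
  have hcf : c ∉ Submodule.span K {f} := by
    intro h
    obtain ⟨t, ht⟩ := Submodule.mem_span_singleton.mp h
    have ht0 : t ≠ 0 := by
      rintro rfl
      rw [zero_smul] at ht
      exact hc ht.symm
    apply hfc
    rw [Submodule.mem_span_singleton]
    exact ⟨t⁻¹, by rw [← ht, smul_smul, inv_mul_cancel₀ ht0, one_smul]⟩
  obtain ⟨z, hz⟩ := exists_notMem_span_of_rank (g - 1) hr f
  obtain ⟨x2, hx2def⟩ : ∃ x2 : V, x2 = (if hA : ∃ y, g y = y ∧ y ∉ Submodule.span K {f} then hA.choose
    else if hB : ∃ y, g y - y = g e ∧ y ∉ Submodule.span K {f} then hB.choose else e) := ⟨_, rfl⟩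
  have hx2 : x2 ∉ Submodule.span K {f} := by
    rw [hx2def]
    split_ifs with hA hB
    · exact hA.choose_spec.2
    · exact hB.choose_spec.2
    · exact hef
  obtain ⟨ω, hωf, hωe, hωc, hωz, hωx2⟩ :=
    exists_functional hK f e c ((g - 1) z) x2 hef hcf hz hx2
  let P : Split K V := ⟨e, ω, hωe⟩
  have h2 : P.ω (g P.e) = 1 := by
    show ω (g e) = 1
    rw [hge, map_add, hωe, hωf, add_zero]
  have hβ'ne : P.β' g ≠ 0 := by
    intro h
    apply hωz
    have h3 : P.β' g (P.π z) = 0 := by
      rw [h]
      rfl
    rw [Split.β'_apply, Split.π_coe, map_sub, map_smul, map_sub, map_smul] at h3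
    have h4 : P.ω (g P.e) = 1 := h2
    rw [h4, smul_eq_mul, mul_one] at h3
    rw [LinearMap.sub_apply, Module.End.one_apply, map_sub]
    exact h3
  refine ⟨P, h2, hωc, hβe, ?_, hβ'ne, ?_⟩
  · intro h
    apply hf0
    have := congrArg Subtype.val h
    rw [hf]
    exact this
  · intro hn3
    have hO7 : ∀ μ : K, P.W ≠ LinearMap.ker (g - μ • (1 : Module.End K V)) := by
      intro μ heq
      apply hβ'ne
      ext w
      have hw : (w : V) ∈ LinearMap.ker (g - μ • (1 : Module.End K V)) := by
        rw [← heq]
        exact w.2
      rw [LinearMap.mem_ker, LinearMap.sub_apply, LinearMap.smul_apply, Module.End.one_apply,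
        sub_eq_zero] at hw
      rw [Split.β'_apply, hw, map_smul, Split.ω_coe, smul_zero]
      rfl
    refine ⟨P.S_nonscalar g h2 hn3 hinj hns hE hO7, P.S_rank g h2 hn3 hr hE ?_ ?_⟩
    · -- hO8
      by_cases hA : ∃ y, g y = y ∧ y ∉ Submodule.span K {f}
      · left
        refine ⟨hA.choose, hA.choose_spec.1, ?_⟩
        have : x2 = hA.choose := by
          rw [hx2def, dif_pos hA]
        rw [← this]
        exact hωx2
      · right
        push Not at hA
        have hker_le : LinearMap.ker (g - 1) ≤ Submodule.span K {f} := by
          intro y hy
          rw [LinearMap.mem_ker, LinearMap.sub_apply, Module.End.one_apply, sub_eq_zero] at hy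
          exact hA y hy
        by_cases hn4 : 4 ≤ Module.finrank K V
        · have h5 := Submodule.finrank_mono hker_le
          have h6 := finrank_span_one_le (K := K) f
          omega
        · have hn3' : Module.finrank K V = 3 := by omega
          have hbot : LinearMap.ker (g - 1) = ⊥ := by
            rw [Submodule.eq_bot_iff]
            intro y hy
            by_contra hy0
            have hyf := hker_le hy
            obtain ⟨t, ht⟩ := Submodule.mem_span_singleton.mp hyf
            have ht0 : t ≠ 0 := by
              rintro rfl
              rw [zero_smul] at ht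
              exact hy0 ht.symm
            have hgy : g y = y := by
              rw [LinearMap.mem_ker, LinearMap.sub_apply, Module.End.one_apply, sub_eq_zero] at hy
              exact hy
            have hgf : g f = f := by
              have : f = t⁻¹ • y := by
                rw [← ht, smul_smul, inv_mul_cancel₀ ht0, one_smul]
              rw [this, map_smul, hgy]
            have hD := fix_mod_plane hn3' g hdet e f hef hf0 0 hge (by
              rw [hgf]
              simp)
            have heR : e ∈ Rg g 1 := by
              have hle : LinearMap.range (g - 1) ≤ Submodule.span K {e, f} := by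
                rintro _ ⟨v, rfl⟩
                rw [LinearMap.sub_apply, Module.End.one_apply]
                exact hD v
              have h1 := finrank_span_two_le (K := K) e f
              have heq : LinearMap.range (g - 1) = Submodule.span K {e, f} :=
                Submodule.eq_of_le_of_finrank_le hle (by omega)
              have : e ∈ LinearMap.range (g - 1) := by
                rw [heq]
                exact Submodule.subset_span (by simp)
              unfold Rg
              rwa [one_smul]
            exact hE 1 ⟨f, hf0, by rw [hgf, one_smul]⟩ heR
          rw [hbot, finrank_bot]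
          omega
    · -- h8c
      by_cases hn4 : 4 ≤ Module.finrank K V
      · right
        exact hn4
      · left
        have hn3' : Module.finrank K V = 3 := by omega
        intro y hy
        have hy' : g y - y = g e := hy
        by_cases heig : IsEig g 1
        · exfalso
          apply hE 1 heig
          rw [mem_Rg_iff]
          refine ⟨y - e, ?_⟩
          rw [one_smul, map_sub]
          have : g y - g e - (y - e) = (g y - y) - (g e - e) := by abel
          rw [this, hy', hge]
          abel
        · have hinj1 : ∀ v, g v = v → v = 0 := by
            intro v hv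
            by_contra hv0
            exact heig ⟨v, hv0, by rw [hv, one_smul]⟩
          have hyf : y ∉ Submodule.span K {f} := by
            intro hmem
            obtain ⟨s, hs⟩ := Submodule.mem_span_singleton.mp hmem
            have hs0 : s ≠ 0 := by
              rintro rfl
              rw [zero_smul] at hs
              rw [← hs, map_zero, sub_zero] at hy'
              exact he0 (hinj (by rw [← hy', map_zero]))
            have hgf : g f = s⁻¹ • e + (1 + s⁻¹) • f := by
              rw [← hs, map_smul, hge] at hy'
              have h3 : s • g f = s • f + (e + f) := by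
                rw [← hy']
                abel
              have h4 : g f = s⁻¹ • (s • g f) := by
                rw [smul_smul, inv_mul_cancel₀ hs0, one_smul]
              rw [h4, h3, smul_add, smul_smul, inv_mul_cancel₀ hs0, one_smul, smul_add]
              module
            have hD := fix_mod_plane hn3' g hdet e f hef hf0 s⁻¹ hge hgf
            have hle : LinearMap.range (g - 1) ≤ Submodule.span K {e, f} := by
              rintro _ ⟨v, rfl⟩
              rw [LinearMap.sub_apply, Module.End.one_apply]
              exact hD v
            have h1 := finrank_span_two_le (K := K) e f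
            have h5 := Submodule.finrank_mono hle
            have hker : LinearMap.ker (g - 1) ≠ ⊥ := by
              intro hb
              have := LinearMap.finrank_range_add_finrank_ker (g - 1)
              rw [hb, finrank_bot] at this
              omega
            obtain ⟨v, hv, hv0⟩ := Submodule.exists_mem_ne_zero_of_ne_bot hker
            rw [LinearMap.mem_ker, LinearMap.sub_apply, Module.End.one_apply, sub_eq_zero] at hv
            exact hv0 (hinj1 v hv)
          have hA : ¬ ∃ y, g y = y ∧ y ∉ Submodule.span K {f} := by
            rintro ⟨y0, hy0, hy0f⟩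
            have := hinj1 y0 hy0
            rw [this] at hy0f
            exact hy0f (Submodule.zero_mem _)
          have hB : ∃ y, g y - y = g e ∧ y ∉ Submodule.span K {f} := ⟨y, hy', hyf⟩
          have hx2eq : x2 = hB.choose := by
            rw [hx2def, dif_neg hA, dif_pos hB]
          have hyeq : hB.choose = y := by
            have h1 := hB.choose_spec.1
            have h3 : g (hB.choose - y) = hB.choose - y := by
              rw [map_sub]
              have : g hB.choose - g y - (hB.choose - y) = (g hB.choose - hB.choose) - (g y - y) := by
                abel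
              rw [← sub_eq_zero, this, h1, hy', sub_self]
            exact sub_eq_zero.mp (hinj1 _ h3)
          show ω y ≠ 0
          rw [← hyeq, ← hx2eq]
          exact hωx2

end Cfsg.Agent.Lib.H12.RegProd
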