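import Mathlib
import Cfsg.Agent.Lib.H12.RegProdG

/-!
# The induction: products of two regular unipotent maps with prescribed cyclic (co)vectors
-/

namespace Cfsg.Agent.Lib.H12.RegProd

open Module

universe u

variable {K : Type*} [Field K]

/-- `A` is regular unipotent with cyclic vector `c`. -/
def Reg {V : Type*} [AddCommGroup V] [Module K V] (A : Module.End K V) (n : ℕ) (c : V) : Prop :=
  (A - 1) ^ n = 0 ∧ ((A - 1) ^ (n - 1)) c ≠ 0

/-- `B` is regular unipotent with cyclic covector `β`. -/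
def RegD {V : Type*} [AddCommGroup V] [Module K V] (B : Module.End K V) (n : ℕ)
    (β : Module.Dual K V) : Prop :=
  (B - 1) ^ n = 0 ∧ β ∘ₗ ((B - 1) ^ (n - 1)) ≠ 0

theorem main_induction (hK : BigK K) : ∀ (m : ℕ) (V : Type u) [AddCommGroup V] [Module K V]
    [FiniteDimensional K V], Module.finrank K V = m + 1 → ∀ g : Module.End K V,
    LinearMap.det g = 1 →
    (1 ≤ m → (¬ ∃ a : K, g = a • (1 : Module.End K V)) ∧
      2 ≤ Module.finrank K (LinearMap.range (g - 1))) →
    ∀ c : V, c ≠ 0 → ∀ β : Module.Dual K V, β ≠ 0 →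
    ∃ A B : Module.End K V, g = A * B ∧ Reg A (m + 1) c ∧ RegD B (m + 1) β := by
  intro m
  induction m with
  | zero =>
    intro V _ _ _ hV g hdet _ c hc β hβ
    have hg : g = 1 := eq_one_of_finrank_one (by omega) g hdet
    refine ⟨1, 1, by rw [hg, mul_one], ⟨by simp, ?_⟩, ⟨by simp, ?_⟩⟩
    · simpa using hc
    · intro h
      apply hβ
      ext v
      have := LinearMap.congr_fun h v
      simpa using this
  | succ m ih =>
    intro V _ _ _ hV g hdet hyp c hc β hβ
    obtain ⟨hns, hr⟩ := hyp (by omega)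
    obtain ⟨P, h2, hωc, hβe, hc', hβ', hS⟩ := choice hK g hdet hns hr c hc β hβ
    have hW := P.finrank_W
    have hdS : LinearMap.det (P.S g h2) = 1 := by rw [P.det_S g h2, hdet]
    obtain ⟨A', B', hAB, ⟨hA1, hA2⟩, ⟨hB1, hB2⟩⟩ := ih P.W (by omega) (P.S g h2) hdS
      (fun hm => hS (by omega)) (P.c' g h2) hc' (P.β' g) hβ'
    rw [Nat.add_sub_cancel] at hA2 hB2
    refine ⟨P.asmA g A', P.asmB g B', P.asm_mul g h2 A' B' hAB, ⟨?_, ?_⟩, ⟨?_, ?_⟩⟩
    · rw [P.asmA_sub_one_pow g h2 A' (m + 1), hA1]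
      simp
    · rw [Nat.add_sub_cancel, P.asmA_sub_one_pow g h2 A' m]
      simp only [LinearMap.comp_apply, Submodule.subtype_apply]
      rw [Split.νA_apply, map_add, map_smul]
      have h0 : ((A' - 1) ^ m) ((A' - 1) (P.π c)) = 0 := by
        rw [← Module.End.mul_apply, ← pow_succ, hA1, LinearMap.zero_apply]
      rw [h0, add_zero]
      intro h
      have h3 : P.ω c • ((A' - 1) ^ m) (P.c' g h2) = 0 := Subtype.ext h
      rcases smul_eq_zero.mp h3 with h4 | h4
      · exact hωc h4
      · exact hA2 h4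
    · rw [P.asmB_sub_one_pow g B' (m + 1), hB1]
      simp
    · rw [Nat.add_sub_cancel, P.asmB_sub_one_pow g B' m]
      intro h
      apply hB2
      ext w
      have h3 := LinearMap.congr_fun h (w : V)
      simp only [LinearMap.comp_apply, LinearMap.zero_apply] at h3 ⊢
      rw [P.π_W, Split.τB_apply, map_add, map_smul] at h3
      have h0 : ((B' - 1) (((B' - 1) ^ m) w)) = 0 := by
        rw [← Module.End.mul_apply, ← pow_succ', hB1, LinearMap.zero_apply]
      rw [h0] at h3
      simp only [ZeroMemClass.coe_zero, map_zero, add_zero, smul_eq_mul] at h3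
      rcases mul_eq_zero.mp h3 with h4 | h4
      · exact h4
      · exact absurd h4 hβe

end Cfsg.Agent.Lib.H12.RegProd
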