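import Mathlib
import Cfsg.Agent.Lib.H12.RegProdH

/-!
# A regular unipotent endomorphism of `Fin n → K` is conjugate to the Jordan block
-/

namespace Cfsg.Agent.Lib.H12.RegProd

open Module

variable {K : Type*} [Field K]

theorem chain_li {V : Type*} [AddCommGroup V] [Module K V] (N : Module.End K V) (n : ℕ) (c : V)
    (hN : N ^ n = 0) (hc : (N ^ (n - 1)) c ≠ 0) :
    LinearIndependent K (fun i : Fin n => (N ^ (i : ℕ)) c) := by
  classical
  rw [Fintype.linearIndependent_iff]
  intro a ha
  by_contra hne
  push Not at hne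
  obtain ⟨i1, hi1⟩ := hne
  let S : Finset (Fin n) := Finset.univ.filter (fun i : Fin n => a i ≠ 0)
  have hS : S.Nonempty := ⟨i1, Finset.mem_filter.mpr ⟨Finset.mem_univ _, hi1⟩⟩
  let i0 := S.min' hS
  have hi0 : a i0 ≠ 0 := (Finset.mem_filter.mp (S.min'_mem hS)).2
  have hmin : ∀ i, a i ≠ 0 → i0 ≤ i := fun i hi =>
    S.min'_le i (Finset.mem_filter.mpr ⟨Finset.mem_univ _, hi⟩)
  have h1 := congrArg (N ^ (n - 1 - (i0 : ℕ))) ha
  rw [map_sum, map_zero] at h1
  rw [Finset.sum_eq_single i0] at h1
  · rw [map_smul, ← Module.End.mul_apply, ← pow_add] at h1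
    have : n - 1 - (i0 : ℕ) + (i0 : ℕ) = n - 1 := by
      have := i0.2
      omega
    rw [this] at h1
    rcases smul_eq_zero.mp h1 with h | h
    · exact hi0 h
    · exact hc h
  · intro i _ hi
    by_cases hai : a i = 0
    · rw [hai, zero_smul, map_zero]
    · have hlt : i0 < i := lt_of_le_of_ne (hmin i hai) (Ne.symm hi)
      rw [map_smul, ← Module.End.mul_apply, ← pow_add]
      have hle : n ≤ n - 1 - (i0 : ℕ) + (i : ℕ) := by
        have h3 : (i0 : ℕ) < (i : ℕ) := hlt
        have := i.2
        omega
      rw [pow_eq_zero_of_le hle hN, LinearMap.zero_apply, smul_zero]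
  · intro h
    exact absurd (Finset.mem_univ _) h

/-- Conjugating a regular unipotent endomorphism to the Jordan block. -/
theorem reg_conj {n : ℕ} (A : Module.End K (Fin n → K)) (c : Fin n → K) (hA : Reg A n c)
    (J : Matrix (Fin n) (Fin n) K)
    (hJ : ∀ i j : Fin n, J i j = if i = j then 1 else if j.val = i.val + 1 then 1 else 0) :
    ∃ X : Matrix (Fin n) (Fin n) K, IsUnit X ∧ LinearMap.toMatrix' A * X = X * J := by
  classical
  obtain ⟨hN, hc⟩ := hA
  set N : Module.End K (Fin n → K) := A - 1 with hNdef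
  let b : Fin n → (Fin n → K) := fun j => (N ^ ((Fin.rev j : Fin n) : ℕ)) c
  have hli : LinearIndependent K b :=
    (chain_li N n c hN hc).comp Fin.rev Fin.rev_injective
  let X : Matrix (Fin n) (Fin n) K := Matrix.of fun i j => b j i
  have hXcol : X.col = b := by
    funext j i
    rfl
  have hXu : IsUnit X := by
    rw [← Matrix.linearIndependent_cols_iff_isUnit, hXcol]
    exact hli
  refine ⟨X, hXu, ?_⟩
  have hAb : ∀ j : Fin n, A (b j) = b j + N (b j) := by
    intro j
    rw [hNdef, LinearMap.sub_apply, Module.End.one_apply]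
    abel
  ext i j
  have hL : (LinearMap.toMatrix' A * X) i j = (A (b j)) i := by
    rw [Matrix.mul_apply]
    have : (LinearMap.toMatrix' A).mulVec (b j) = A (b j) := LinearMap.toMatrix'_mulVec A (b j)
    rw [← this]
    rfl
  rw [hL, hAb, Pi.add_apply, Matrix.mul_apply]
  have hsplit : ∀ k : Fin n, X i k * J k j
      = (if k = j then b k i else 0) + (if j.val = k.val + 1 then b k i else 0) := by
    intro k
    rw [hJ]
    by_cases h1 : k = j
    · have h2 : ¬ (j.val = k.val + 1) := by
        rw [h1]
        omega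
      rw [if_pos h1, if_pos h1, if_neg h2, mul_one, add_zero]
      rfl
    · by_cases h2 : j.val = k.val + 1
      · rw [if_neg h1, if_pos h2, if_neg h1, if_pos h2, mul_one, zero_add]
        rfl
      · rw [if_neg h1, if_neg h2, if_neg h1, if_neg h2, mul_zero, add_zero]
  rw [Finset.sum_congr rfl (fun k _ => hsplit k), Finset.sum_add_distrib, Finset.sum_ite_eq' ,
    if_pos (Finset.mem_univ _)]
  congr 1
  by_cases hj : j.val = 0
  · have h0 : N (b j) = 0 := by
      show N ((N ^ ((Fin.rev j : Fin n) : ℕ)) c) = 0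
      rw [← Module.End.mul_apply, ← pow_succ']
      have : ((Fin.rev j : Fin n) : ℕ) + 1 = n := by
        rw [Fin.val_rev]
        have := j.2
        omega
      rw [this, hN, LinearMap.zero_apply]
    rw [h0, Pi.zero_apply]
    symm
    apply Finset.sum_eq_zero
    intro k _
    rw [if_neg]
    omega
  · have hjlt := j.2
    let k0 : Fin n := ⟨j.val - 1, by omega⟩
    have hk0 : N (b j) = b k0 := by
      show N ((N ^ ((Fin.rev j : Fin n) : ℕ)) c) = (N ^ ((Fin.rev k0 : Fin n) : ℕ)) c
      rw [← Module.End.mul_apply, ← pow_succ']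
      congr 2
      rw [Fin.val_rev, Fin.val_rev]
      show n - (j.val + 1) + 1 = n - (j.val - 1 + 1)
      omega
    rw [hk0]
    symm
    rw [Finset.sum_eq_single k0]
    · rw [if_pos]
      show j.val = j.val - 1 + 1
      omega
    · intro k _ hk
      rw [if_neg]
      intro h
      apply hk
      apply Fin.ext
      show k.val = j.val - 1
      omega
    · intro h
      exact absurd (Finset.mem_univ _) h

end Cfsg.Agent.Lib.H12.RegProd
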