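import Mathlib
import Cfsg.Agent.Lib.H12.RegProdI

/-!
# The transvection case
-/

namespace Cfsg.Agent.Lib.H12.RegProd

open Module

universe u

variable {K : Type*} [Field K]

namespace Split

variable {V : Type*} [AddCommGroup V] [Module K V] (P : Split K V)

/-- The map `v ↦ ω v • c' + N' (π v)` into `ker ω`. -/
def liftν (c' : P.W) (N' : Module.End K P.W) : V →ₗ[K] P.W :=
  P.ω.smulRight c' + N' ∘ₗ P.π

/-- Lifting an endomorphism of `ker ω`, sending `e` to `c'`. -/
def lift (c' : P.W) (N' : Module.End K P.W) : Module.End K V :=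
  P.W.subtype ∘ₗ P.liftν c' N'

theorem liftν_apply (c' : P.W) (N' : Module.End K P.W) (v : V) :
    P.liftν c' N' v = P.ω v • c' + N' (P.π v) := by
  simp [liftν]

theorem liftν_W (c' : P.W) (N' : Module.End K P.W) (w : P.W) :
    P.liftν c' N' (w : V) = N' w := by
  rw [liftν_apply, ω_coe, zero_smul, zero_add, π_W]

theorem lift_pow (c' : P.W) (N' : Module.End K P.W) (k : ℕ) :
    (P.lift c' N') ^ (k + 1) = P.W.subtype ∘ₗ (N' ^ k) ∘ₗ P.liftν c' N' := by
  induction k with
  | zero =>
    rw [zero_add, pow_one, pow_zero]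
    rfl
  | succ k ih =>
    rw [pow_succ, ih]
    ext v
    simp only [Module.End.mul_apply, LinearMap.comp_apply, Submodule.subtype_apply, lift]
    rw [liftν_W, pow_succ, Module.End.mul_apply]

end Split

/-- A regular nilpotent endomorphism with prescribed bottom vector, whose image is killed by a
given functional vanishing at that vector. -/
theorem exists_reg_nilp : ∀ (m : ℕ) (V : Type u) [AddCommGroup V] [Module K V]
    [FiniteDimensional K V], Module.finrank K V = m + 1 → ∀ u : V, u ≠ 0 →
    ∀ φ : Module.Dual K V, φ u = 0 →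
    ∃ (N : Module.End K V) (c : V), N ^ (m + 1) = 0 ∧ (N ^ m) c = u ∧ φ ∘ₗ N = 0 := by
  intro m
  induction m with
  | zero =>
    intro V _ _ _ hV u hu φ hφ
    exact ⟨0, u, by simp, by simp, by simp⟩
  | succ m ih =>
    intro V _ _ _ hV u hu φ hφ
    -- a nonzero functional vanishing at u, whose vanishing on the image implies that of φ
    obtain ⟨φ₁, hφ₁0, hφ₁u, himp⟩ : ∃ φ₁ : Module.Dual K V, φ₁ ≠ 0 ∧ φ₁ u = 0 ∧
        ∀ N : Module.End K V, φ₁ ∘ₗ N = 0 → φ ∘ₗ N = 0 := by
      by_cases h0 : φ = 0
      · have hlt : Submodule.span K {u} < ⊤ := by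
          rw [lt_top_iff_ne_top]
          intro htop
          have h1 := finrank_span_one_le (K := K) u
          rw [htop, finrank_top] at h1
          omega
        obtain ⟨φ₁, h1, h2⟩ := Submodule.exists_le_ker_of_lt_top _ hlt
        refine ⟨φ₁, h1, LinearMap.mem_ker.mp (h2 (Submodule.mem_span_singleton_self u)), ?_⟩
        intro N _
        rw [h0, LinearMap.zero_comp]
      · exact ⟨φ, h0, hφ, fun N h => h⟩
    obtain ⟨e0, he0⟩ : ∃ e0, φ₁ e0 ≠ 0 := by
      by_contra hcon
      push Not at hcon
      exact hφ₁0 (LinearMap.ext hcon)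
    let P : Split K V := ⟨(φ₁ e0)⁻¹ • e0, φ₁, by
      rw [map_smul, smul_eq_mul, inv_mul_cancel₀ he0]⟩
    have hW := P.finrank_W
    let uW : P.W := ⟨u, LinearMap.mem_ker.mpr hφ₁u⟩
    have huW : uW ≠ 0 := fun h => hu (congrArg Subtype.val h)
    obtain ⟨N', c', hN'1, hN'2, -⟩ := ih P.W (by omega) uW huW 0 (by simp)
    refine ⟨P.lift c' N', P.e, ?_, ?_, ?_⟩
    · rw [P.lift_pow c' N' (m + 1), hN'1]
      simp
    · rw [P.lift_pow c' N' m]
      simp only [LinearMap.comp_apply, Submodule.subtype_apply]
      rw [Split.liftν_apply, P.h1, one_smul, Split.π_e, map_zero, add_zero, hN'2]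
    · apply himp
      ext v
      simp only [LinearMap.comp_apply, LinearMap.zero_apply, Split.lift, Submodule.subtype_apply]
      exact P.ω_coe _

theorem neg_pow_apply {V : Type*} [AddCommGroup V] [Module K V] (N : Module.End K V) (k : ℕ)
    (v : V) : ((-N) ^ k) v = ((-1 : K) ^ k) • (N ^ k) v := by
  have : (-N) ^ k = ((-1 : K) ^ k) • N ^ k := by
    rw [neg_pow]
    rw [← smul_eq_mul]
    have h : ((-1 : Module.End K V)) ^ k = ((-1 : K) ^ k) • (1 : Module.End K V) := by
      induction k with
      | zero => simp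
      | succ k ih => rw [pow_succ, ih, pow_succ]; simp
    rw [h]
    simp
  rw [this, LinearMap.smul_apply]

theorem transvection_case {V : Type u} [AddCommGroup V] [Module K V] [FiniteDimensional K V]
    (n : ℕ) (hn : 3 ≤ n) (hV : Module.finrank K V = n) (g : Module.End K V)
    (hdet : LinearMap.det g = 1) (hns : ¬ ∃ a : K, g = a • (1 : Module.End K V))
    (hr : ¬ 2 ≤ Module.finrank K (LinearMap.range (g - 1))) :
    ∃ (A B : Module.End K V) (c d : V), g = A * B ∧ Reg A n c ∧ Reg B n d := by
  -- g ≠ 1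
  obtain ⟨v0, hv0⟩ : ∃ v0, (g - 1) v0 ≠ 0 := by
    by_contra hcon
    push Not at hcon
    apply hns
    refine ⟨1, ?_⟩
    rw [one_smul]
    exact sub_eq_zero.mp (LinearMap.ext hcon)
  set u : V := (g - 1) v0 with hu
  have hrange : LinearMap.range (g - 1) = Submodule.span K {u} := by
    symm
    apply Submodule.eq_of_le_of_finrank_le
    · rw [Submodule.span_singleton_le_iff_mem]
      exact LinearMap.mem_range_self _ _
    · rw [finrank_span_singleton hv0]
      omega
  obtain ⟨θ, hθu, -⟩ := Submodule.exists_le_ker_of_notMem (p := (⊥ : Submodule K V)) (v := u)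
    (by simpa using hv0)
  let φ : Module.Dual K V := ((θ u)⁻¹ • θ) ∘ₗ (g - 1)
  have hgφ : ∀ v, g v = v + φ v • u := by
    intro v
    have hmem : (g - 1) v ∈ Submodule.span K {u} := by
      rw [← hrange]
      exact LinearMap.mem_range_self _ _
    obtain ⟨a, ha⟩ := Submodule.mem_span_singleton.mp hmem
    have hφv : φ v = a := by
      show ((θ u)⁻¹ • θ) ((g - 1) v) = a
      rw [← ha, map_smul, LinearMap.smul_apply, smul_eq_mul, smul_eq_mul, ← mul_assoc, mul_comm a,
        mul_assoc, mul_comm a, ← mul_assoc, inv_mul_cancel₀ hθu, one_mul]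
    rw [hφv, ha, LinearMap.sub_apply, Module.End.one_apply]
    abel
  have hφu : φ u = 0 := by
    have h1 : g = LinearMap.transvection φ u := by
      ext v
      rw [hgφ, LinearMap.transvection.apply]
    have h2 := hdet
    rw [h1, LinearMap.transvection.det] at h2
    exact add_eq_left.mp h2
  obtain ⟨m, rfl⟩ : ∃ m, n = m + 1 := ⟨n - 1, by omega⟩
  obtain ⟨N, c, hN1, hN2, hN3⟩ := exists_reg_nilp m V hV u hv0 φ hφu
  have hφN : ∀ v, φ (N v) = 0 := fun v => LinearMap.congr_fun hN3 v
  have hNu : N u = 0 := by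
    rw [← hN2, ← Module.End.mul_apply, ← pow_succ', hN1, LinearMap.zero_apply]
  -- the two factors
  set N₁ : Module.End K V := N + φ.smulRight u with hN₁
  set B : Module.End K V := ∑ k ∈ Finset.range (m + 1), (-N) ^ k with hB
  have hN₁N : N₁ * N = N * N := by
    ext v
    simp only [hN₁, Module.End.mul_apply, LinearMap.add_apply, LinearMap.smulRight_apply, hφN,
      zero_smul, add_zero]
  have hN₁u : N₁ u = 0 := by
    simp only [hN₁, LinearMap.add_apply, LinearMap.smulRight_apply, hNu, hφu, zero_smul, add_zero]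
  have hN₁sq : N₁ * N₁ = N * N := by
    ext v
    have : N₁ (N₁ v) = N₁ (N v) + φ v • N₁ u := by
      rw [← map_smul, ← map_add]
      rfl
    rw [Module.End.mul_apply, this, hN₁u, smul_zero, add_zero, ← Module.End.mul_apply, hN₁N]
  have hpow : ∀ k, 2 ≤ k → N₁ ^ k = N ^ k := by
    intro k hk
    induction k, hk using Nat.le_induction with
    | base => rw [pow_two, pow_two, hN₁sq]
    | succ k hk ih =>
      rw [pow_succ, ih]
      obtain ⟨j, rfl⟩ : ∃ j, k = j + 1 := ⟨k - 1, by omega⟩
      rw [pow_succ N (j + 1), pow_succ N j, mul_assoc, mul_assoc]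
      have h3 : N * N₁ = N * N := by
        ext v
        simp only [hN₁, Module.End.mul_apply, LinearMap.add_apply, LinearMap.smulRight_apply,
          map_add, map_smul, hNu, smul_zero, add_zero]
      rw [h3]
  have hNn : (-N) ^ (m + 1) = 0 := by
    rw [neg_pow, hN1, mul_zero]
  have h1NB : (1 + N) * B = 1 := by
    have := mul_neg_geom_sum (-N) (m + 1)
    rw [sub_neg_eq_add, hNn, sub_zero] at this
    exact this
  have hcomm : Commute N B := by
    rw [hB]
    apply Commute.sum_right
    intro k _
    exact ((Commute.refl N).neg_right).pow_right k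
  have hB1N : B * (1 + N) = 1 := by
    have h : Commute (1 + N) B := (Commute.one_left B).add_left hcomm
    rw [← h.eq]
    exact h1NB
  have hg1N : g * (1 + N) = 1 + N₁ := by
    ext v
    simp only [Module.End.mul_apply, LinearMap.add_apply, Module.End.one_apply, hgφ, map_add, hφN,
      hN₁, LinearMap.smulRight_apply, add_zero]
    abel
  refine ⟨1 + N₁, B, c, ((1 + N) ^ m) c, ?_, ⟨?_, ?_⟩, ⟨?_, ?_⟩⟩
  · rw [← hg1N, mul_assoc, h1NB, mul_one]
  · rw [add_sub_cancel_left, hpow (m + 1) (by omega), hN1]
  · rw [add_sub_cancel_left, Nat.add_sub_cancel, hpow m (by omega), hN2]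
    exact hv0
  · have hB1 : B - 1 = (-N) * B := by
      have : B = 1 - N * B := by
        have h := h1NB
        rw [add_mul, one_mul] at h
        exact eq_sub_of_add_eq h
      rw [neg_mul]
      conv_lhs => rw [this]
      abel
    have hc2 : Commute (-N) B := hcomm.neg_left
    rw [hB1, hc2.mul_pow, hNn, zero_mul]
  · have hB1 : B - 1 = (-N) * B := by
      have : B = 1 - N * B := by
        have h := h1NB
        rw [add_mul, one_mul] at h
        exact eq_sub_of_add_eq h
      rw [neg_mul]
      conv_lhs => rw [this]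
      abel
    have hc2 : Commute (-N) B := hcomm.neg_left
    rw [Nat.add_sub_cancel, hB1, hc2.mul_pow, Module.End.mul_apply, ← Module.End.mul_apply (B ^ m),
      ← (show Commute B (1 + N) from ((Commute.one_left B).add_left hcomm).symm).mul_pow, hB1N,
      one_pow, Module.End.one_apply, neg_pow_apply, hN2]
    exact smul_ne_zero (pow_ne_zero _ (neg_ne_zero.mpr one_ne_zero)) hv0

end Cfsg.Agent.Lib.H12.RegProd
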