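import Mathlib
import Cfsg.Agent.Lib.H12.RootCntG
import Cfsg.Agent.Lib.H12.UnitK

/-!
# Self-dual (unitary type) monic divisors of `(X ^ r - 1) ^ N` over a finite field

They correspond to multiplicity functions on `ZMod r` invariant under multiplication by `|F|`
and by `-Q`, where `σ x = x ^ Q` is the involution.
-/

namespace Cfsg.Agent.Lib.H12.RootCnt

open Polynomial Cfsg.Agent.Lib.H12.USemi

section general

variable {K : Type*} [Field K] {r : ℕ} [NeZero r]

/-- the image of `prodPoly` under a power map -/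
theorem map_pow_prodPoly {ζ : K} (hζ : IsPrimitiveRoot ζ r) (φ : K →+* K) (Q : ℕ)
    (hφ : ∀ x, φ x = x ^ Q) (v : (ZMod r)ˣ) (hv : (v : ZMod r) = (Q : ZMod r))
    (a : ZMod r → ℕ) :
    (prodPoly ζ a).map φ = prodPoly ζ (fun j => a (((v⁻¹ : (ZMod r)ˣ) : ZMod r) * j)) := by
  unfold prodPoly
  rw [Polynomial.map_prod]
  have h1 : ∀ j : ZMod r, ((X - C (ev ζ j)) ^ a j).map φ =
      (fun k : ZMod r => (X - C (ev ζ k)) ^ a (((v⁻¹ : (ZMod r)ˣ) : ZMod r) * k))
        (Units.mulLeft v j) := by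
    intro j
    rw [Polynomial.map_pow, Polynomial.map_sub, Polynomial.map_X, Polynomial.map_C, hφ,
      ← ev_natCast_mul hζ]
    show _ = (X - C (ev ζ ((v : ZMod r) * j))) ^
      a (((v⁻¹ : (ZMod r)ˣ) : ZMod r) * ((v : ZMod r) * j))
    rw [Units.inv_mul_cancel_left, hv]
  rw [Finset.prod_congr rfl (fun j _ => h1 j)]
  exact Equiv.prod_comp (Units.mulLeft v)
    (fun k : ZMod r => (X - C (ev ζ k)) ^ a (((v⁻¹ : (ZMod r)ˣ) : ZMod r) * k))

end general

variable {F : Type*} [Field F] {K : Type*} [Field K] [Algebra F K]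
variable {r : ℕ} [NeZero r]

/-- the dual of a polynomial over `F` whose image over `K` is a `prodPoly` -/
theorem map_dualP_eq (σ : F →+* F) (φ : K →+* K) (Q : ℕ) (hσ : ∀ x, σ x = x ^ Q)
    (hφ : ∀ x, φ x = x ^ Q) {ζ : K} (hζ : IsPrimitiveRoot ζ r) (v : (ZMod r)ˣ)
    (hv : (v : ZMod r) = (Q : ZMod r)) (P : F[X]) (a : ZMod r → ℕ)
    (hP : P.map (algebraMap F K) = prodPoly ζ a) :
    ∃ c : K, c ≠ 0 ∧ (dualP σ P).map (algebraMap F K) =
      C c * prodPoly ζ (fun j => a ((((-v)⁻¹ : (ZMod r)ˣ) : ZMod r) * j)) := by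
  have h1 : (P.map σ).map (algebraMap F K) = (P.map (algebraMap F K)).map φ := by
    rw [Polynomial.map_map, Polynomial.map_map]
    congr 1
    ext x
    rw [RingHom.comp_apply, RingHom.comp_apply, hσ, hφ, map_pow]
  have h2 : (dualP σ P).map (algebraMap F K) = ((P.map σ).map (algebraMap F K)).reverse := by
    unfold dualP
    exact (reverse_map_of_injective (algebraMap F K) (P.map σ)).symm
  rw [h2, h1, hP, map_pow_prodPoly hζ φ Q hφ v hv, reverse_prodPoly hζ]
  refine ⟨∏ j : ZMod r, (-(ev ζ j)) ^ a (((v⁻¹ : (ZMod r)ˣ) : ZMod r) * j), ?_, ?_⟩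
  · apply Finset.prod_ne_zero_iff.mpr
    intro j _
    exact pow_ne_zero _ (neg_ne_zero.mpr (ev_ne_zero hζ j))
  · congr 2
    funext j
    congr 1
    rw [inv_neg, Units.val_neg, neg_mul, mul_neg]

variable [Fintype F] [IsAlgClosed K]

theorem count_twist_eq [DecidableEq K] {ζ : K} (hζ : IsPrimitiveRoot ζ r)
    (σ : F →+* F) (φ : K →+* K) (Q : ℕ) (hσ : ∀ x, σ x = x ^ Q)
    (hφ : ∀ x, φ x = x ^ Q) (v : (ZMod r)ˣ) (hv : (v : ZMod r) = (Q : ZMod r))
    (P : F[X]) (hm : P.Monic) (N : ℕ) (hd : P ∣ (X ^ r - 1) ^ N) (hsd : SD σ P) (j : ZMod r) :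
    (P.map (algebraMap F K)).roots.count (ev ζ (((-v : (ZMod r)ˣ) : ZMod r) * j)) =
      (P.map (algebraMap F K)).roots.count (ev ζ j) := by
  have h1 := map_eq_prodPoly hζ P hm N hd
  set a : ZMod r → ℕ := fun j => (P.map (algebraMap F K)).roots.count (ev ζ j) with ha
  obtain ⟨c, hc, h2⟩ := map_dualP_eq σ φ Q hσ hφ hζ v hv P a h1
  obtain ⟨e, he, h3⟩ := hsd
  rw [h3, Polynomial.map_mul, Polynomial.map_C, h1] at h2
  have he' : algebraMap F K e ≠ 0 := by
    rw [Ne, map_eq_zero]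
    exact he
  have h4 := congrArg (fun R : K[X] => R.roots.count (ev ζ (((-v : (ZMod r)ˣ) : ZMod r) * j))) h2
  simp only [roots_C_mul _ he', roots_C_mul _ hc, count_roots_prodPoly hζ] at h4
  rw [Units.inv_mul_cancel_left] at h4
  exact h4

omit [Fintype F] [IsAlgClosed K] in
theorem SD_of_invariant {ζ : K} (hζ : IsPrimitiveRoot ζ r)
    (σ : F →+* F) (φ : K →+* K) (Q : ℕ) (hσ : ∀ x, σ x = x ^ Q)
    (hφ : ∀ x, φ x = x ^ Q) (v : (ZMod r)ˣ) (hv : (v : ZMod r) = (Q : ZMod r))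
    (P : F[X]) (hm : P.Monic) (a : ZMod r → ℕ) (hP : P.map (algebraMap F K) = prodPoly ζ a)
    (ha : ∀ j, a (((-v : (ZMod r)ˣ) : ZMod r) * j) = a j) : SD σ P := by
  obtain ⟨c, hc, h2⟩ := map_dualP_eq σ φ Q hσ hφ hζ v hv P a hP
  have h3 : (fun j => a ((((-v)⁻¹ : (ZMod r)ˣ) : ZMod r) * j)) = a := by
    funext j
    rw [← ha, Units.mul_inv_cancel_left]
  rw [h3, ← hP] at h2
  have h4 := congrArg (fun R : K[X] => R.coeff P.natDegree) h2
  simp only [coeff_map, coeff_C_mul, hm.coeff_natDegree, map_one, mul_one] at h4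
  refine ⟨(dualP σ P).coeff P.natDegree, ?_, ?_⟩
  · intro h0
    rw [h0, map_zero] at h4
    exact hc h4.symm
  · apply Polynomial.map_injective _ (algebraMap F K).injective
    rw [h2, Polynomial.map_mul, Polynomial.map_C, h4]

theorem card_selfdual_dvd {ζ : K} (hζ : IsPrimitiveRoot ζ r)
    (σ : F →+* F) (φQ : K →+* K) (Q : ℕ) (hσ : ∀ x, σ x = x ^ Q) (hφQ : ∀ x, φQ x = x ^ Q)
    (φ : K →+* K) (hφ : ∀ x, φ x = x ^ Fintype.card F) (v U : (ZMod r)ˣ)
    (hv : (v : ZMod r) = (Q : ZMod r)) (hU : (U : ZMod r) = (Fintype.card F : ZMod r)) (N : ℕ) :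
    Nat.card {P : F[X] // P.Monic ∧ P.natDegree = N ∧ SD σ P ∧ P ∣ (X ^ r - 1) ^ N} =
      Nat.card {a : ZMod r → ℕ // ∑ j, a j = N ∧
        (∀ j, a ((U : ZMod r) * j) = a j) ∧
        ∀ j, a (((-v : (ZMod r)ˣ) : ZMod r) * j) = a j} := by
  classical
  have hex : ∀ a : {a : ZMod r → ℕ // ∑ j, a j = N ∧
        (∀ j, a ((U : ZMod r) * j) = a j) ∧
        ∀ j, a (((-v : (ZMod r)ˣ) : ZMod r) * j) = a j},
      ∃ P : F[X], P.map (algebraMap F K) = prodPoly ζ a.1 :=
    fun a => exists_lift_prodPoly hζ φ hφ U hU a.1 a.2.2.1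
  choose Pa hPa using hex
  apply Nat.card_congr
  exact
    { toFun := fun P => ⟨fun j => (P.1.map (algebraMap F K)).roots.count (ev ζ j), by
        refine ⟨?_, ?_, ?_⟩
        · rw [sum_count_eq hζ P.1 P.2.1 N P.2.2.2.2, P.2.2.1]
        · intro j
          rw [hU]
          exact count_roots_frobenius hζ φ hφ P.1 j
        · intro j
          exact count_twist_eq hζ σ φQ Q hσ hφQ v hv P.1 P.2.1 N P.2.2.2.2 P.2.2.2.1 j⟩
      invFun := fun a => ⟨Pa a, by
        have hmap := hPa a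
        have hmon : (Pa a).Monic := by
          apply monic_of_injective (algebraMap F K).injective
          rw [hmap]
          exact prodPoly_monic ζ a.1
        have hdeg : (Pa a).natDegree = N := by
          rw [← natDegree_map (algebraMap F K), hmap, prodPoly_natDegree, a.2.1]
        refine ⟨hmon, hdeg, ?_, ?_⟩
        · exact SD_of_invariant hζ σ φQ Q hσ hφQ v hv (Pa a) hmon a.1 hmap a.2.2.2
        · rw [← map_dvd_map' (algebraMap F K), map_X_pow_sub_one_pow, hmap]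
          have := prodPoly_dvd ζ hζ a.1
          rwa [a.2.1] at this⟩
      left_inv := fun P => by
        apply Subtype.ext
        apply Polynomial.map_injective _ (algebraMap F K).injective
        rw [hPa]
        exact (map_eq_prodPoly hζ P.1 P.2.1 N P.2.2.2.2).symm
      right_inv := fun a => by
        apply Subtype.ext
        funext j
        show ((Pa a).map (algebraMap F K)).roots.count (ev ζ j) = a.1 j
        rw [hPa, count_roots_prodPoly hζ] }

end Cfsg.Agent.Lib.H12.RootCnt
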