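import Mathlib

/-!
helper12: S3571 block GR, generic piece: a transitive imprimitive permutation group of degree `m`
has no element of prime order `p > m / 2`.
-/

set_option autoImplicit false

namespace Cfsg.Agent.Lib.H12.S3571Imp

open MulAction
open scoped Pointwise

/-- An element of prime order `p` acting on a finite type with fewer than `p` elements fixes
every point. -/
theorem smul_eq_of_card_lt {M Y : Type*} [Group M] [MulAction M Y] [Finite Y] (g : M) (p : ℕ)
    (hp : p.Prime) (hg : orderOf g = p) (hY : Nat.card Y < p) (y : Y) : g • y = y := by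
  have : Fintype Y := Fintype.ofFinite Y
  have h1 : period g y ∣ p := hg ▸ period_dvd_orderOf g y
  have h2 : period g y ≤ Fintype.card Y := Function.minimalPeriod_le_card
  rw [← Nat.card_eq_fintype_card] at h2
  rcases (Nat.dvd_prime hp).mp h1 with h | h
  · exact period_eq_one_iff.mp h
  · omega

theorem not_dvd_card_of_imprimitive {α : Type*} [Fintype α] [DecidableEq α]
    (H : Subgroup (Equiv.Perm α)) [IsPretransitive H α] (himp : ¬ IsPreprimitive H α)
    (p : ℕ) (hp : p.Prime) (hpm : Fintype.card α < 2 * p) : ¬ p ∣ Nat.card H := by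
  intro hdvd
  -- a nontrivial block
  obtain ⟨B, hB, hBt⟩ : ∃ B : Set α, IsBlock H B ∧ ¬ IsTrivialBlock B := by
    by_contra hno
    apply himp
    refine ⟨fun {B} hB => ?_⟩
    by_contra hBt
    exact hno ⟨B, hB, hBt⟩
  have hBsub : ¬ B.Subsingleton := fun h => hBt (Or.inl h)
  have hBuniv : B ≠ Set.univ := fun h => hBt (Or.inr h)
  have hBne : B.Nonempty := by
    rw [Set.nonempty_iff_ne_empty]
    intro h; apply hBsub; rw [h]; exact Set.subsingleton_empty
  have ha2 : 2 ≤ B.ncard := by
    by_contra hlt
    apply hBsub
    have : B.ncard ≤ 1 := by omega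
    exact Set.ncard_le_one_iff_subsingleton.mp this
  have hprod := hB.ncard_block_mul_ncard_orbit_eq hBne
  rw [Nat.card_eq_fintype_card] at hprod
  have hb2 : 2 ≤ (orbit H B).ncard := by
    by_contra hlt
    have hle : (orbit H B).ncard ≤ 1 := by omega
    have hpos : 0 < Fintype.card α := Fintype.card_pos_iff.mpr ⟨hBne.some⟩
    have h1 : (orbit H B).ncard = 1 := by
      rcases Nat.eq_zero_or_pos (orbit H B).ncard with h0 | h0
      · rw [h0, mul_zero] at hprod; omega
      · omega
    rw [h1, mul_one] at hprod
    apply hBuniv
    apply Set.eq_of_subset_of_ncard_le (Set.subset_univ B)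
    rw [Set.ncard_univ, Nat.card_eq_fintype_card, hprod]
  have hap : B.ncard < p := by nlinarith
  have hbp : (orbit H B).ncard < p := by nlinarith
  -- an element of order `p`
  have : Fact p.Prime := ⟨hp⟩
  obtain ⟨g, hg⟩ := exists_prime_orderOf_dvd_card' p hdvd
  -- `g` fixes every translate
  have hfixB : ∀ B' ∈ orbit H B, g • B' = B' := by
    intro B' hB'
    have hfin : Finite (orbit H B) := Set.toFinite _
    have hcard : Nat.card (orbit H B) < p := by
      rw [Nat.card_coe_set_eq]; exact hbp
    have := smul_eq_of_card_lt g p hp hg hcard (⟨B', hB'⟩ : orbit H B)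
    exact congrArg Subtype.val this
  -- hence every point
  have hg1 : g = 1 := by
    apply Subtype.ext
    apply Equiv.ext
    intro x
    by_contra hx
    have hx' : g • x ≠ x := hx
    obtain ⟨b₀, hb₀⟩ := hBne
    obtain ⟨h, hh⟩ := exists_smul_eq H b₀ x
    have hxB' : x ∈ h • B := by
      rw [← hh]; exact Set.smul_mem_smul_set hb₀
    have hB'orb : h • B ∈ orbit H B := ⟨h, rfl⟩
    have hgB' := hfixB _ hB'orb
    have hpow : ∀ i : ℕ, g ^ i • x ∈ h • B := by
      intro i
      induction i with
      | zero => simpa using hxB'
      | succ i ih =>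
        rw [pow_succ', mul_smul, ← hgB']
        exact Set.smul_mem_smul_set ih
    have hper : period g x = p := by
      have h1 : period g x ∣ p := hg ▸ period_dvd_orderOf g x
      rcases (Nat.dvd_prime hp).mp h1 with h | h
      · exact absurd (period_eq_one_iff.mp h) hx'
      · exact h
    have hinj : Set.InjOn (fun i : ℕ => g ^ i • x) (Set.Iio p) := by
      have := Function.iterate_injOn_Iio_minimalPeriod (f := (g • ·)) (x := x)
      intro i hi j hj hij
      apply this
      · show i < Function.minimalPeriod (g • ·) x
        have : Function.minimalPeriod (g • ·) x = p := hper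
        rw [this]; exact hi
      · show j < Function.minimalPeriod (g • ·) x
        have : Function.minimalPeriod (g • ·) x = p := hper
        rw [this]; exact hj
      · simp only [smul_iterate]
        exact hij
    have hsub : (fun i : ℕ => g ^ i • x) '' (Set.Iio p) ⊆ h • B := by
      rintro _ ⟨i, -, rfl⟩
      exact hpow i
    have hle := Set.ncard_le_ncard hsub (Set.toFinite _)
    rw [hinj.ncard_image] at hle
    have hIio : (Set.Iio p).ncard = p := by
      rw [← Finset.coe_range, Set.ncard_coe_finset, Finset.card_range]
    rw [hIio, Set.ncard_smul_set] at hle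
    omega
  rw [hg1, orderOf_one] at hg
  exact hp.one_lt.ne hg

end Cfsg.Agent.Lib.H12.S3571Imp
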