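import Cfsg.Agent.Lib.H9.S3571Defs
import Cfsg.Agent.Lib.H12.S3571Imp

/-!
helper12: S3571 block GR, piece (C3) in the exact shape of helper9's cut.
-/

set_option autoImplicit false

namespace Cfsg.Agent.Lib.H12.S3571C3

open Cfsg.Agent.Lib.H9.S3571

theorem c3 : C3Stmt := by
  intro m H htr himp p' hp' hm
  have := htr
  apply Cfsg.Agent.Lib.H12.S3571Imp.not_dvd_card_of_imprimitive H himp p' hp'
  rw [Fintype.card_fin]
  exact hm

end Cfsg.Agent.Lib.H12.S3571C3
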