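import Cfsg.Agent.Lib.H9.S3571Defs
import Cfsg.Agent.S2119

/-!
helper12: S3571 block GR, piece (EMB): for `m ≠ 6` the group `G` embeds in `Sym(m)` extending `eT`.
-/

set_option autoImplicit false

namespace Cfsg.Agent.Lib.H12.S3571Emb

open Cfsg.Agent.Lib.H9.S3571 Equiv

theorem emb : EmbStmt := by
  intro G _ _ T hT hTc m hm h6 eT
  have := hT
  have hbij : Function.Bijective
      (MulAut.conjNormal : Perm (Fin m) →* MulAut ↥(alternatingGroup (Fin m))) :=
    Cfsg.Agent.S2119.result m (by omega) h6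
  let Φ : Perm (Fin m) ≃* MulAut ↥(alternatingGroup (Fin m)) := MulEquiv.ofBijective _ hbij
  have hΦ : ∀ σ : Perm (Fin m), Φ σ = MulAut.conjNormal σ := fun σ => rfl
  let tr : MulAut ↥T ≃* MulAut ↥(alternatingGroup (Fin m)) := MulAut.congr eT
  have htr : ∀ (f : MulAut ↥T) (x : ↥(alternatingGroup (Fin m))), tr f x = eT (f (eT.symm x)) :=
    fun f x => rfl
  let ψ : G →* Perm (Fin m) :=
    (Φ.symm.toMonoidHom.comp tr.toMonoidHom).comp (MulAut.conjNormal : G →* MulAut ↥T)
  have hψ : ∀ g : G, Φ (ψ g) = tr (MulAut.conjNormal g) := by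
    intro g
    show Φ (Φ.symm (tr (MulAut.conjNormal g))) = _
    rw [MulEquiv.apply_symm_apply]
  refine ⟨ψ, ?_, ?_⟩
  · rw [injective_iff_map_eq_one]
    intro g hg
    have h0 : tr (MulAut.conjNormal g) = 1 := by
      rw [← hψ g, hg, map_one]
    have h1 : (MulAut.conjNormal g : MulAut ↥T) = 1 := by
      have := congrArg tr.symm h0
      simpa using this
    have h2 : g ∈ Subgroup.centralizer (T : Set G) := by
      rw [Subgroup.mem_centralizer_iff]
      intro t ht
      have h3 : ((MulAut.conjNormal g : MulAut ↥T) ⟨t, ht⟩ : G) = t := by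
        rw [h1]; rfl
      rw [MulAut.conjNormal_apply] at h3
      calc t * g = (g * t * g⁻¹) * g := by rw [h3]
        _ = g * t := by group
    rw [hTc] at h2
    exact Subgroup.mem_bot.mp h2
  · intro t
    apply Φ.injective
    rw [hψ, hΦ]
    ext x
    rw [htr, MulAut.conjNormal_val, MulAut.conjNormal_val]
    simp only [MulAut.conj_apply, map_mul, map_inv, MulEquiv.apply_symm_apply]

end Cfsg.Agent.Lib.H12.S3571Emb
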