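import Mathlib

/-!
helper12: S3571 block GR, piece (M6C), sub-case `r = 3`: a subgroup `K` of `A_6` whose index is
divisible by `3` misses a whole `A_6`-class of elements of order `3`.
-/

set_option autoImplicit false

namespace Cfsg.Agent.Lib.H12.S3571M6C3

open Equiv

/-- The invariant: the size of the support. -/
def sz (x : ↥(alternatingGroup (Fin 6))) : ℕ := (x : Perm (Fin 6)).support.card

theorem sz_conj (g t : ↥(alternatingGroup (Fin 6))) : sz (g⁻¹ * t * g) = sz t := by
  unfold sz
  have : ((g⁻¹ * t * g : ↥(alternatingGroup (Fin 6))) : Perm (Fin 6)) =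
      ((g : Perm (Fin 6))⁻¹) * t * ((g : Perm (Fin 6))⁻¹)⁻¹ := by simp
  rw [this, Perm.card_support_conj]

theorem sz_zpow_le (x : ↥(alternatingGroup (Fin 6))) (n : ℤ) : sz (x ^ n) ≤ sz x := by
  unfold sz
  rw [Subgroup.coe_zpow]
  exact Finset.card_le_card (Perm.support_zpow_le _ n)

theorem orderOf_conj' (g t : ↥(alternatingGroup (Fin 6))) :
    orderOf (g⁻¹ * t * g) = orderOf t := by
  have h := MulEquiv.orderOf_eq (MulAut.conj g⁻¹) t
  rw [MulAut.conj_apply, inv_inv] at h
  exact h

/-- a `3`-cycle -/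
def t3 : ↥(alternatingGroup (Fin 6)) :=
  ⟨swap 0 1 * swap 1 2, Perm.mem_alternatingGroup.mpr (by decide)⟩

/-- a product of two disjoint `3`-cycles -/
def t33 : ↥(alternatingGroup (Fin 6)) :=
  ⟨swap 0 1 * swap 1 2 * (swap 3 4 * swap 4 5), Perm.mem_alternatingGroup.mpr (by decide)⟩

theorem orderOf_t3 : orderOf t3 = 3 := by
  have : Fact (Nat.Prime 3) := ⟨by norm_num⟩
  apply orderOf_eq_prime
  · apply Subtype.ext
    show (swap (0 : Fin 6) 1 * swap 1 2) ^ 3 = 1
    decide
  · intro h
    have := congrArg (fun x : ↥(alternatingGroup (Fin 6)) => (x : Perm (Fin 6)) 0) h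
    revert this
    simp only [t3]
    decide

theorem orderOf_t33 : orderOf t33 = 3 := by
  have : Fact (Nat.Prime 3) := ⟨by norm_num⟩
  apply orderOf_eq_prime
  · apply Subtype.ext
    show (swap (0 : Fin 6) 1 * swap 1 2 * (swap 3 4 * swap 4 5)) ^ 3 = 1
    decide
  · intro h
    have := congrArg (fun x : ↥(alternatingGroup (Fin 6)) => (x : Perm (Fin 6)) 0) h
    revert this
    simp only [t33]
    decide

theorem sz_t3 : sz t3 = 3 := by
  unfold sz t3
  decide

theorem sz_t33 : sz t33 = 6 := by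
  unfold sz t33
  decide

/-- In a group of order `3` inside `A_6`, the nontrivial elements have the same support size. -/
theorem sz_eq_of_card_three (P : Subgroup ↥(alternatingGroup (Fin 6))) (hP : Nat.card ↥P = 3)
    (x y : ↥(alternatingGroup (Fin 6))) (hx : x ∈ P) (hy : y ∈ P) (hx1 : x ≠ 1) (hy1 : y ≠ 1) :
    sz x = sz y := by
  have : Fact (Nat.Prime 3) := ⟨by norm_num⟩
  have key : ∀ a b : ↥(alternatingGroup (Fin 6)), a ∈ P → b ∈ P → a ≠ 1 → sz b ≤ sz a := by
    intro a b ha hb ha1
    have ha1' : (⟨a, ha⟩ : ↥P) ≠ 1 := by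
      intro h; exact ha1 (congrArg Subtype.val h)
    have htop := zpowers_eq_top_of_prime_card hP ha1'
    have hbmem : (⟨b, hb⟩ : ↥P) ∈ Subgroup.zpowers (⟨a, ha⟩ : ↥P) := by rw [htop]; trivial
    obtain ⟨n, hn⟩ := Subgroup.mem_zpowers_iff.mp hbmem
    have hb' : b = a ^ n := by
      have := congrArg Subtype.val hn
      simpa using this.symm
    rw [hb']
    exact sz_zpow_le a n
  exact le_antisymm (key y x hy hx hy1) (key x y hx hy hx1)

theorem m6c3 (K : Subgroup ↥(alternatingGroup (Fin 6))) (h3 : 3 ∣ K.index) :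
    ∃ t : ↥(alternatingGroup (Fin 6)), orderOf t = 3 ∧ ∀ g, g⁻¹ * t * g ∉ K := by
  classical
  have hp3 : Fact (Nat.Prime 3) := ⟨by norm_num⟩
  have hcardA : Nat.card ↥(alternatingGroup (Fin 6)) = 360 := by
    rw [nat_card_alternatingGroup]
    simp [Nat.factorial]
  have hmul : K.index * Nat.card ↥K = 360 := by rw [← hcardA]; exact K.index_mul_card
  have h9 : ¬ 9 ∣ Nat.card ↥K := by
    intro h
    obtain ⟨a, ha⟩ := h3
    obtain ⟨b, hb⟩ := h
    rw [ha, hb] at hmul
    have : 27 * (a * b) = 360 := by rw [← hmul]; ring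
    omega
  by_cases hK3 : 3 ∣ Nat.card ↥K
  · -- a Sylow 3-subgroup of `K` has order 3
    let P : Sylow 3 ↥K := default
    have hPcard : Nat.card ↥(P : Subgroup ↥K) = 3 := by
      rw [Sylow.card_eq_multiplicity]
      have hpos : Nat.card ↥K ≠ 0 := Nat.card_pos.ne'
      have h1 : 1 ≤ (Nat.card ↥K).factorization 3 :=
        (Nat.Prime.factorization_pos_of_dvd (by norm_num) hpos hK3)
      have h2 : (Nat.card ↥K).factorization 3 < 2 := by
        by_contra hge
        have hge' : 2 ≤ (Nat.card ↥K).factorization 3 := by omega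
        apply h9
        have : 3 ^ 2 ∣ Nat.card ↥K :=
          (pow_dvd_pow 3 hge').trans (Nat.ordProj_dvd _ _)
        simpa using this
      have : (Nat.card ↥K).factorization 3 = 1 := by omega
      rw [this, pow_one]
    -- the image of `P` in `A_6`
    let P' : Subgroup ↥(alternatingGroup (Fin 6)) := (P : Subgroup ↥K).map K.subtype
    have hP'card : Nat.card ↥P' = 3 := by
      rw [← hPcard]
      exact Nat.card_congr
        ((P : Subgroup ↥K).equivMapOfInjective K.subtype K.subtype_injective).symm.toEquiv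
    -- a nontrivial element of `P'`
    obtain ⟨c, hcP, hc1⟩ : ∃ c : ↥(alternatingGroup (Fin 6)), c ∈ P' ∧ c ≠ 1 := by
      have hnt : Nontrivial ↥P' := by
        rw [← Finite.one_lt_card_iff_nontrivial, hP'card]; norm_num
      obtain ⟨⟨c, hc⟩, hc1⟩ := exists_ne (1 : ↥P')
      exact ⟨c, hc, fun h => hc1 (Subtype.ext h)⟩
    -- every element of order 3 of `K` has the support size of `c`
    have hall : ∀ x : ↥(alternatingGroup (Fin 6)), x ∈ K → orderOf x = 3 → sz x = sz c := by
      intro x hxK hx3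
      have hpg : IsPGroup 3 ↥(Subgroup.zpowers (⟨x, hxK⟩ : ↥K)) := by
        apply IsPGroup.of_card (n := 1)
        rw [Nat.card_zpowers, pow_one]
        rw [← hx3]
        exact Subgroup.orderOf_mk x hxK
      obtain ⟨Q, hQ⟩ := hpg.exists_le_sylow
      obtain ⟨k, hk⟩ := MulAction.exists_smul_eq ↥K Q P
      have hxQ : (⟨x, hxK⟩ : ↥K) ∈ (Q : Subgroup ↥K) := hQ (Subgroup.mem_zpowers _)
      have hyP : k * ⟨x, hxK⟩ * k⁻¹ ∈ (P : Subgroup ↥K) := by
        rw [← hk, Sylow.coe_subgroup_smul]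
        exact Subgroup.smul_mem_pointwise_smul _ (MulAut.conj k) _ hxQ
      have hyP' : (k : ↥(alternatingGroup (Fin 6))) * x * (k : ↥(alternatingGroup (Fin 6)))⁻¹ ∈ P' :=
        ⟨_, hyP, by simp⟩
      have hy1 : (k : ↥(alternatingGroup (Fin 6))) * x * (k : ↥(alternatingGroup (Fin 6)))⁻¹ ≠ 1 := by
        intro h
        have hx1 : x = 1 := by
          have := congrArg (fun y => (k : ↥(alternatingGroup (Fin 6)))⁻¹ * y * k) h
          simpa [mul_assoc] using this
        rw [hx1, orderOf_one] at hx3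
        omega
      have h1 := sz_eq_of_card_three P' hP'card _ c hyP' hcP hy1 hc1
      have h2 := sz_conj (k : ↥(alternatingGroup (Fin 6)))⁻¹ x
      rw [inv_inv] at h2
      rw [← h1, h2]
    by_cases hc3 : sz c = 3
    · refine ⟨t33, orderOf_t33, ?_⟩
      intro g hg
      have := hall _ hg (by rw [orderOf_conj', orderOf_t33])
      rw [sz_conj, sz_t33, hc3] at this
      omega
    · refine ⟨t3, orderOf_t3, ?_⟩
      intro g hg
      have := hall _ hg (by rw [orderOf_conj', orderOf_t3])
      rw [sz_conj, sz_t3] at this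
      exact hc3 this.symm
  · refine ⟨t3, orderOf_t3, ?_⟩
    intro g hg
    apply hK3
    have h1 : orderOf (⟨g⁻¹ * t3 * g, hg⟩ : ↥K) = 3 := by
      rw [Subgroup.orderOf_mk, orderOf_conj', orderOf_t3]
    rw [← h1]
    exact orderOf_dvd_natCard _

end Cfsg.Agent.Lib.H12.S3571M6C3
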