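import Cfsg.Agent.Lib.H9.S3571Defs
import Cfsg.Agent.Lib.H12.S3571M6C3

/-!
helper12: S3571 block GR, piece (M6C): the pure `A_6` core, all three cases `r = 5, 3, 2`.
-/

set_option autoImplicit false

namespace Cfsg.Agent.Lib.H12.S3571M6C

open Equiv Cfsg.Agent.Lib.H12.S3571M6C3

theorem card_A6 : Nat.card ↥(alternatingGroup (Fin 6)) = 360 := by
  rw [nat_card_alternatingGroup]
  simp [Nat.factorial]

/-- a `5`-cycle -/
def t5 : ↥(alternatingGroup (Fin 6)) :=
  ⟨swap 0 1 * swap 1 2 * swap 2 3 * swap 3 4, Perm.mem_alternatingGroup.mpr (by decide)⟩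

/-- a double transposition -/
def t2 : ↥(alternatingGroup (Fin 6)) :=
  ⟨swap 0 1 * swap 2 3, Perm.mem_alternatingGroup.mpr (by decide)⟩

theorem orderOf_t5 : orderOf t5 = 5 := by
  have : Fact (Nat.Prime 5) := ⟨by norm_num⟩
  apply orderOf_eq_prime
  · apply Subtype.ext
    show (swap (0 : Fin 6) 1 * swap 1 2 * swap 2 3 * swap 3 4) ^ 5 = 1
    decide
  · intro h
    have := congrArg (fun x : ↥(alternatingGroup (Fin 6)) => (x : Perm (Fin 6)) 0) h
    revert this
    simp only [t5]
    decide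

theorem orderOf_t2 : orderOf t2 = 2 := by
  have : Fact (Nat.Prime 2) := ⟨by norm_num⟩
  apply orderOf_eq_prime
  · apply Subtype.ext
    show (swap (0 : Fin 6) 1 * swap 2 3) ^ 2 = 1
    decide
  · intro h
    have := congrArg (fun x : ↥(alternatingGroup (Fin 6)) => (x : Perm (Fin 6)) 0) h
    revert this
    simp only [t2]
    decide

/-- If the prime `r` does not divide `|K|`, any element of order `r` has no conjugate in `K`. -/
theorem no_conj_of_not_dvd (K : Subgroup ↥(alternatingGroup (Fin 6))) (r : ℕ)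
    (t : ↥(alternatingGroup (Fin 6))) (ht : orderOf t = r) (hr : ¬ r ∣ Nat.card ↥K) :
    ∀ g, g⁻¹ * t * g ∉ K := by
  intro g hg
  apply hr
  have h1 : orderOf (⟨g⁻¹ * t * g, hg⟩ : ↥K) = r := by
    rw [Subgroup.orderOf_mk, orderOf_conj', ht]
  rw [← h1]
  exact orderOf_dvd_natCard _

theorem m6c5 (K : Subgroup ↥(alternatingGroup (Fin 6))) (h5 : 5 ∣ K.index) :
    ∃ t : ↥(alternatingGroup (Fin 6)), orderOf t = 5 ∧ ∀ g, g⁻¹ * t * g ∉ K := by
  have hmul : K.index * Nat.card ↥K = 360 := by rw [← card_A6]; exact K.index_mul_card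
  refine ⟨t5, orderOf_t5, no_conj_of_not_dvd K 5 t5 orderOf_t5 ?_⟩
  intro h
  obtain ⟨a, ha⟩ := h5
  obtain ⟨b, hb⟩ := h
  rw [ha, hb] at hmul
  have : 25 * (a * b) = 360 := by rw [← hmul]; ring
  omega

theorem m6c2 (K : Subgroup ↥(alternatingGroup (Fin 6))) (hK : K ≠ ⊤) (h3 : ¬ 3 ∣ K.index)
    (h5 : ¬ 5 ∣ K.index) :
    ∃ t : ↥(alternatingGroup (Fin 6)), orderOf t = 2 ∧ ∀ g, g⁻¹ * t * g ∉ K := by
  have hmul : K.index * Nat.card ↥K = 360 := by rw [← card_A6]; exact K.index_mul_card
  -- the index divides 8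
  have hcop : Nat.Coprime K.index 45 := by
    have h45 : (45 : ℕ) = 3 ^ 2 * 5 := by norm_num
    rw [h45]
    apply Nat.Coprime.mul_right
    · apply Nat.Coprime.pow_right
      exact (Nat.Prime.coprime_iff_not_dvd (by norm_num)).mpr h3 |>.symm
    · exact (Nat.Prime.coprime_iff_not_dvd (by norm_num)).mpr h5 |>.symm
  have hd8 : K.index ∣ 8 := by
    have h360 : K.index ∣ 45 * 8 := ⟨Nat.card ↥K, by rw [hmul]⟩
    exact hcop.dvd_of_dvd_mul_left h360
  have hne1 : K.index ≠ 1 := fun h => hK (Subgroup.index_eq_one.mp h)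
  -- simplicity: 360 divides (index)!
  have hsimple : IsSimpleGroup ↥(alternatingGroup (Fin 6)) :=
    alternatingGroup.isSimpleGroup (by simp)
  have hcore : K.normalCore = ⊥ := by
    rcases (K.normalCore_normal).eq_bot_or_eq_top with h | h
    · exact h
    · exfalso
      apply hK
      exact top_le_iff.mp (h ▸ K.normalCore_le)
  have hfact : 360 ∣ (K.index).factorial := by
    have h : K.normalCore.index ∣ (K.index).factorial := by
      rw [Subgroup.normalCore_eq_ker, Subgroup.index_ker, Subgroup.index_eq_card,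
        ← Nat.card_perm]
      exact Subgroup.card_subgroup_dvd_card
        (MulAction.toPermHom ↥(alternatingGroup (Fin 6)) (↥(alternatingGroup (Fin 6)) ⧸ K)).range
    rw [hcore, Subgroup.index_bot, card_A6] at h
    exact h
  have hle : K.index ≤ 8 := Nat.le_of_dvd (by norm_num) hd8
  have h8 : K.index = 8 := by
    interval_cases hi : K.index
    · simp at hd8
    · exact absurd rfl hne1
    · exfalso; revert hfact; decide
    · exfalso; revert hd8; decide
    · exfalso; revert hfact; decide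
    · exfalso; revert hd8; decide
    · exfalso; revert hd8; decide
    · exfalso; revert hd8; decide
    · rfl
  have hK45 : Nat.card ↥K = 45 := by
    rw [h8] at hmul; omega
  refine ⟨t2, orderOf_t2, no_conj_of_not_dvd K 2 t2 orderOf_t2 ?_⟩
  rw [hK45]; decide

theorem m6core : Cfsg.Agent.Lib.H9.S3571.M6CoreStmt := by
  intro K r hK hr hrd hmax
  have hmul : K.index * Nat.card ↥K = 360 := by rw [← card_A6]; exact K.index_mul_card
  have hr360 : r ∣ 360 := hrd.trans ⟨Nat.card ↥K, hmul.symm⟩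
  have h360 : (360 : ℕ) = 2 ^ 3 * 3 ^ 2 * 5 := by norm_num
  have hr235 : r = 2 ∨ r = 3 ∨ r = 5 := by
    rw [h360] at hr360
    rcases (Nat.Prime.dvd_mul hr).mp hr360 with h | h
    · rcases (Nat.Prime.dvd_mul hr).mp h with h | h
      · left
        exact (Nat.prime_dvd_prime_iff_eq hr (by norm_num)).mp (hr.dvd_of_dvd_pow h)
      · right; left
        exact (Nat.prime_dvd_prime_iff_eq hr (by norm_num)).mp (hr.dvd_of_dvd_pow h)
    · right; right
      exact (Nat.prime_dvd_prime_iff_eq hr (by norm_num)).mp h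
  rcases hr235 with rfl | rfl | rfl
  · apply m6c2 K hK
    · intro h
      have := hmax 3 (by norm_num) h
      omega
    · intro h
      have := hmax 5 (by norm_num) h
      omega
  · exact m6c3 K hrd
  · exact m6c5 K hrd

end Cfsg.Agent.Lib.H12.S3571M6C
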