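import Mathlib
import Cfsg.Agent.Lib.H12.LinPoly

/-!
# S3776, LEMMA E (helper9's frame): the field-model core (helper12)

`conj_of_semieig`: two additive maps `f, g : T → F` (`f` injective, `g ≠ 0`) that are
semi-eigenvectors of an additive `θ : T → T` with eigenvalues `lam`, `mu` have Galois-conjugate
eigenvalues: `mu = lam ^ (2 ^ s)`.

`lemmaE_core_of_nc`: the field-model Lemma E, with the number-theoretic Lemma NC as a hypothesis.
-/

set_option autoImplicit false

namespace Cfsg.Agent.Lib.H12.S3776ECore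

open Polynomial Finset

/-- the shape of the number-theoretic lemma NC (helper22) -/
def NCStmt : Prop :=
  ∀ {n k m i j t : ℕ}, k ∣ n → m * k = 2 ^ n - 1 → i < n → j < n → t < n →
    2 ^ (i + t) + 1 ≡ 2 ^ j + 2 ^ t [MOD m] → i = j

section Conj

variable {F : Type*} [Field F] [Fintype F] [CharP F 2]

theorem finrank_eq (n : ℕ) (hcard : Fintype.card F = 2 ^ n) :
    letI : Algebra (ZMod 2) F := ZMod.algebra F 2
    Module.finrank (ZMod 2) F = n := by
  let _ : Algebra (ZMod 2) F := ZMod.algebra F 2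
  have hfin : Module.Finite (ZMod 2) F := Module.Finite.of_finite
  have h2 : Nat.card F = Nat.card (ZMod 2) ^ Module.finrank (ZMod 2) F :=
    Module.natCard_eq_pow_finrank
  rw [Nat.card_eq_fintype_card, hcard, Nat.card_eq_fintype_card, ZMod.card] at h2
  exact (Nat.pow_right_injective (le_refl 2) h2).symm

theorem conj_of_semieig (n : ℕ) (hcard : Fintype.card F = 2 ^ n)
    {T : Type*} [AddCommGroup T] (hT2 : ∀ t : T, t + t = 0)
    (θ : T →+ T) (f g : T →+ F) (lam mu : F)
    (hf : ∀ t, f (θ t) = lam * f t) (hg : ∀ t, g (θ t) = mu * g t)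
    (hfinj : Function.Injective f) (hg0 : ∃ t, g t ≠ 0) :
    ∃ s : ℕ, s < n ∧ mu = lam ^ (2 ^ s) := by
  let _ : Algebra (ZMod 2) F := ZMod.algebra F 2
  let _ : Module (ZMod 2) T := AddCommGroup.zmodModule (n := 2) (by
    intro t; rw [two_nsmul]; exact hT2 t)
  let θL : T →ₗ[ZMod 2] T := θ.toZModLinearMap 2
  let fL : T →ₗ[ZMod 2] F := f.toZModLinearMap 2
  let gL : T →ₗ[ZMod 2] F := g.toZModLinearMap 2
  have key : ∀ (h : T →ₗ[ZMod 2] F) (c : F), (∀ t, h (θL t) = c * h t) →
      ∀ (P : (ZMod 2)[X]) (t : T), h (aeval θL P t) = aeval c P * h t := by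
    intro h c hc
    have hpow : ∀ (k : ℕ) (t : T), h ((θL ^ k) t) = c ^ k * h t := by
      intro k
      induction k with
      | zero => intro t; simp
      | succ k ih =>
        intro t
        rw [pow_succ, Module.End.mul_apply, ih, hc, pow_succ, mul_assoc]
    intro P
    induction P using Polynomial.induction_on' with
    | add p q hp hq =>
      intro t
      rw [map_add, map_add, LinearMap.add_apply, map_add, hp, hq, add_mul]
    | monomial k a =>
      intro t
      rw [aeval_monomial, aeval_monomial, Algebra.algebraMap_eq_smul_one, smul_mul_assoc, one_mul,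
        LinearMap.smul_apply, map_smul, hpow, Algebra.smul_def, mul_assoc]
  have hfL : ∀ t, fL (θL t) = lam * fL t := hf
  have hgL : ∀ t, gL (θL t) = mu * gL t := hg
  -- the minimal polynomial of `lam` kills `θ`
  have hkill : ∀ t : T, aeval θL (minpoly (ZMod 2) lam) t = 0 := by
    intro t
    apply hfinj
    have := key fL lam hfL (minpoly (ZMod 2) lam) t
    rw [minpoly.aeval, zero_mul] at this
    rw [map_zero]
    exact this
  -- hence `mu` is a root
  have hroot : aeval mu (minpoly (ZMod 2) lam) = 0 := by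
    obtain ⟨t, ht⟩ := hg0
    have := key gL mu hgL (minpoly (ZMod 2) lam) t
    rw [hkill t, map_zero] at this
    rcases mul_eq_zero.mp this.symm with h | h
    · exact h
    · exact absurd h ht
  have halg : IsAlgebraic (ZMod 2) lam := Algebra.IsAlgebraic.isAlgebraic lam
  obtain ⟨σ, hσ⟩ := minpoly.exists_algEquiv_of_root' halg hroot
  obtain ⟨s, hs⟩ := (FiniteField.bijective_frobeniusAlgEquivOfAlgebraic_pow (ZMod 2) F).2 σ
  refine ⟨s.1, ?_, ?_⟩
  · exact lt_of_lt_of_eq s.2 (finrank_eq n hcard)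
  · rw [← hσ, ← hs]
    simp only [AlgEquiv.coe_pow, FiniteField.coe_frobeniusAlgEquivOfAlgebraic_iterate, ZMod.card]

end Conj


section Main

variable {F : Type*} [Field F] [Fintype F] [CharP F 2]

open Cfsg.Agent.Lib.H12.LinPoly in
/-- **LEMMA E, field model**, with the number-theoretic lemma NC as a hypothesis. -/
theorem lemmaE_core_of_nc (hNC : NCStmt) (n : ℕ) (hcard : Fintype.card F = 2 ^ n)
    {Γ : Type*} {T : Type*} [AddCommGroup T] (hT2 : ∀ t : T, t + t = 0)
    (actF : Γ → F → F) (actT : Γ → T → T)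
    (hsemi : ∀ γ : Γ, ∃ (a : F) (σ : F ≃+* F), ∀ x, actF γ x = a * σ x)
    (hinj : ∀ γ, Function.Injective (actF γ))
    (hTadd : ∀ γ t t', actT γ (t + t') = actT γ t + actT γ t')
    (hirr : ∀ S : AddSubgroup T, (∀ γ, ∀ t ∈ S, actT γ t ∈ S) → S = ⊥ ∨ S = ⊤)
    (ζ : F) (m k : ℕ) (hmk : m * k = 2 ^ n - 1) (hkn : k ∣ n) (hζ : orderOf ζ = m)
    (γ0 : Γ) (hγ0 : ∀ x, actF γ0 x = ζ * x)
    (b : T → F → F) (hbl : ∀ t t' x, b (t + t') x = b t x + b t' x)
    (hbr : ∀ t x y, b t (x + y) = b t x + b t y)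
    (hbeq : ∀ γ t x, b (actT γ t) (actF γ x) = actF γ (b t x))
    (hb0 : ∃ t x, b t x ≠ 0) :
    ∀ t x, t ≠ 0 → x ≠ 0 → b t x ≠ 0 := by
  have : Fact (Nat.Prime 2) := ⟨Nat.prime_two⟩
  have h12 : (1 : ℕ) < 2 := by norm_num
  -- `n ≥ 1`, `m ≥ 1`, `ζ ≠ 0`
  have hn1 : 1 ≤ n := by
    have h1 : 1 < Fintype.card F := Fintype.one_lt_card
    rw [hcard] at h1
    rcases Nat.eq_zero_or_pos n with h | h
    · rw [h] at h1; simp at h1
    · exact h
  have h2n : 2 ≤ 2 ^ n := by
    calc 2 = 2 ^ 1 := by norm_num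
      _ ≤ 2 ^ n := Nat.pow_le_pow_right (by norm_num) hn1
  have hm1 : 1 ≤ m := by
    rcases Nat.eq_zero_or_pos m with h | h
    · rw [h, zero_mul] at hmk; omega
    · exact h
  have hζm : ζ ^ m = 1 := by rw [← hζ]; exact pow_orderOf_eq_one ζ
  have hζ0 : ζ ≠ 0 := by
    intro h
    rw [h, zero_pow (by omega)] at hζm
    exact zero_ne_one hζm
  -- the coefficient functions
  have hbz : ∀ t, b t 0 = 0 := by
    intro t
    have := hbr t 0 0
    rw [add_zero] at this
    exact left_eq_add.mp this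
  have hb0l : ∀ x, b 0 x = 0 := by
    intro x
    have := hbl 0 0 x
    rw [add_zero] at this
    exact left_eq_add.mp this
  have h1 : ∀ t : T, ∃ c : Fin n → F, ∀ x : F, b t x = ∑ i : Fin n, c i * x ^ (2 ^ (i : ℕ)) := by
    intro t
    exact exists_linearized 2 n hcard
      { toFun := b t, map_zero' := hbz t, map_add' := hbr t }
  choose f hf using h1
  have hfadd : ∀ t t' : T, f (t + t') = f t + f t' := by
    intro t t'
    apply coeff_unique 2 n h12 hcard
    intro x
    rw [← hf (t + t') x, hbl, hf t x, hf t' x, ← Finset.sum_add_distrib]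
    apply Finset.sum_congr rfl
    intro i _
    rw [Pi.add_apply, add_mul]
  have hf0 : f 0 = 0 := by
    have := hfadd 0 0
    rw [add_zero] at this
    exact left_eq_add.mp this
  -- the equivariance relation on coefficients
  have rel : ∀ (γ : Γ) (a : F) (σ : F ≃+* F), (∀ x, actF γ x = a * σ x) →
      ∀ (t : T) (i : Fin n), f (actT γ t) i * a ^ (2 ^ (i : ℕ)) = a * σ (f t i) := by
    intro γ a σ hγ t
    have hvec : (fun i : Fin n => f (actT γ t) i * a ^ (2 ^ (i : ℕ))) =
        (fun i : Fin n => a * σ (f t i)) := by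
      apply coeff_unique 2 n h12 hcard
      intro y
      have hx := hbeq γ t (σ.symm y)
      rw [hγ (σ.symm y), RingEquiv.apply_symm_apply, hγ (b t (σ.symm y)), hf (actT γ t) (a * y),
        hf t (σ.symm y), map_sum, Finset.mul_sum] at hx
      have e1 : ∀ i : Fin n, (f (actT γ t) i * a ^ (2 ^ (i : ℕ))) * y ^ (2 ^ (i : ℕ)) =
          f (actT γ t) i * (a * y) ^ (2 ^ (i : ℕ)) := by
        intro i; rw [mul_pow, mul_assoc]
      have e2 : ∀ i : Fin n, (a * σ (f t i)) * y ^ (2 ^ (i : ℕ)) =
          a * σ (f t i * σ.symm y ^ (2 ^ (i : ℕ))) := by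
        intro i; rw [map_mul, map_pow, RingEquiv.apply_symm_apply, mul_assoc]
      show ∑ i : Fin n, (f (actT γ t) i * a ^ (2 ^ (i : ℕ))) * y ^ (2 ^ (i : ℕ)) =
        ∑ i : Fin n, (a * σ (f t i)) * y ^ (2 ^ (i : ℕ))
      rw [Finset.sum_congr rfl (fun i _ => e1 i), Finset.sum_congr rfl (fun i _ => e2 i)]
      exact hx
    intro i
    exact congrFun hvec i
  -- the kernels of the coefficient functions
  let K : Fin n → AddSubgroup T := fun i =>
    { carrier := {t | f t i = 0}
      zero_mem' := by change f 0 i = 0; rw [hf0]; rfl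
      add_mem' := by
        intro t t' ht ht'
        change f (t + t') i = 0
        rw [hfadd, Pi.add_apply, ht, ht', add_zero]
      neg_mem' := by
        intro t ht
        have h2 : -t = t := by
          have := hT2 t
          exact (eq_neg_of_add_eq_zero_left this).symm
        rw [h2]
        exact ht }
  have hKmem : ∀ i t, t ∈ K i ↔ f t i = 0 := fun i t => Iff.rfl
  have hKinv : ∀ i, K i = ⊥ ∨ K i = ⊤ := by
    intro i
    apply hirr
    intro γ t ht
    rw [hKmem] at ht ⊢
    obtain ⟨a, σ, hγ⟩ := hsemi γ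
    have ha : a ≠ 0 := by
      intro ha
      have h01 : actF γ 0 = actF γ 1 := by rw [hγ 0, hγ 1, ha, zero_mul, zero_mul]
      exact zero_ne_one (hinj γ h01)
    have := rel γ a σ hγ t i
    rw [ht, map_zero, mul_zero] at this
    rcases mul_eq_zero.mp this with h | h
    · exact h
    · exact absurd h (pow_ne_zero _ ha)
  -- some `t0 ≠ 0` and an index with nonzero coefficient
  obtain ⟨t0, x0, htx⟩ := hb0
  have ht0 : t0 ≠ 0 := by
    intro h
    rw [h, hb0l] at htx
    exact htx rfl
  obtain ⟨i0, hi0⟩ : ∃ i0 : Fin n, f t0 i0 ≠ 0 := by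
    by_contra hcon
    push Not at hcon
    apply htx
    rw [hf t0 x0]
    apply Finset.sum_eq_zero
    intro i _
    rw [hcon i, zero_mul]
  have hKi0 : K i0 = ⊥ := by
    rcases hKinv i0 with h | h
    · exact h
    · exfalso
      have : t0 ∈ K i0 := by rw [h]; exact AddSubgroup.mem_top t0
      exact hi0 this
  -- all other kernels are everything
  have hother : ∀ j : Fin n, j ≠ i0 → K j = ⊤ := by
    intro j hj
    rcases hKinv j with hjb | hjt
    · exfalso
      apply hj
      -- both `f · i0` and `f · j` are injective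
      let θ : T →+ T :=
        { toFun := actT γ0
          map_zero' := by
            have := hTadd γ0 0 0
            rw [add_zero] at this
            exact left_eq_add.mp this
          map_add' := hTadd γ0 }
      let fi : Fin n → (T →+ F) := fun i =>
        { toFun := fun t => f t i
          map_zero' := by rw [hf0]; rfl
          map_add' := fun t t' => by rw [hfadd]; rfl }
      have hrel0 : ∀ (i : Fin n) (t : T),
          fi i (θ t) = (ζ * (ζ ^ (2 ^ (i : ℕ)))⁻¹) * fi i t := by
        intro i t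
        have := rel γ0 ζ (RingEquiv.refl F) (fun x => hγ0 x) t i
        change f (actT γ0 t) i = _ * f t i
        have hz : ζ ^ (2 ^ (i : ℕ)) ≠ 0 := pow_ne_zero _ hζ0
        rw [RingEquiv.refl_apply] at this
        field_simp
        exact this
      have hinj_i : ∀ i : Fin n, K i = ⊥ → Function.Injective (fi i) := by
        intro i hi
        rw [injective_iff_map_eq_zero]
        intro t ht
        have : t ∈ K i := ht
        rw [hi] at this
        exact (AddSubgroup.mem_bot).mp this
      obtain ⟨s, hs, hconj⟩ := conj_of_semieig n hcard hT2 θ (fi i0) (fi j)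
        (ζ * (ζ ^ (2 ^ (i0 : ℕ)))⁻¹) (ζ * (ζ ^ (2 ^ (j : ℕ)))⁻¹) (hrel0 i0) (hrel0 j)
        (hinj_i i0 hKi0) ⟨t0, fun h => ht0 (hinj_i j hjb (by rw [h, map_zero]))⟩
      -- translate to exponents
      have hpow : ζ ^ (2 ^ ((i0 : ℕ) + s) + 1) = ζ ^ (2 ^ (j : ℕ) + 2 ^ s) := by
        have hzi : ζ ^ (2 ^ (i0 : ℕ)) ≠ 0 := pow_ne_zero _ hζ0
        have hzj : ζ ^ (2 ^ (j : ℕ)) ≠ 0 := pow_ne_zero _ hζ0
        rw [mul_pow, inv_pow] at hconj
        have hzis : (ζ ^ (2 ^ (i0 : ℕ))) ^ (2 ^ s) ≠ 0 := pow_ne_zero _ hzi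
        have h3 : ζ * (ζ ^ (2 ^ (i0 : ℕ))) ^ (2 ^ s) = ζ ^ (2 ^ s) * ζ ^ (2 ^ (j : ℕ)) := by
          field_simp at hconj
          linear_combination hconj
        rw [pow_add, pow_add, pow_one, pow_add, pow_mul, mul_comm (ζ ^ (2 ^ (j:ℕ)))]
        rw [mul_comm] at h3
        exact h3
      have hmod : 2 ^ ((i0 : ℕ) + s) + 1 ≡ 2 ^ (j : ℕ) + 2 ^ s [MOD m] := by
        have hu : (Units.mk0 ζ hζ0) ^ (2 ^ ((i0 : ℕ) + s) + 1) =
            (Units.mk0 ζ hζ0) ^ (2 ^ (j : ℕ) + 2 ^ s) := by
          apply Units.ext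
          rw [Units.val_pow_eq_pow_val, Units.val_pow_eq_pow_val, Units.val_mk0]
          exact hpow
        have hmod' := pow_eq_pow_iff_modEq.mp hu
        rw [← orderOf_units, Units.val_mk0, hζ] at hmod'
        exact hmod'
      have := hNC hkn hmk i0.2 j.2 hs hmod
      exact (Fin.ext this).symm
    · exact hjt
  -- conclusion
  intro t x ht hx
  have hsingle : b t x = f t i0 * x ^ (2 ^ (i0 : ℕ)) := by
    rw [hf t x]
    apply Finset.sum_eq_single i0
    · intro j _ hj
      have : t ∈ K j := by rw [hother j hj]; exact AddSubgroup.mem_top t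
      rw [(hKmem j t).mp this, zero_mul]
    · intro h; exact absurd (Finset.mem_univ i0) h
  rw [hsingle]
  apply mul_ne_zero
  · intro h
    have : t ∈ K i0 := h
    rw [hKi0] at this
    exact ht ((AddSubgroup.mem_bot).mp this)
  · exact pow_ne_zero _ hx

end Main

end Cfsg.Agent.Lib.H12.S3776ECore
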