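import Mathlib
import Cfsg.Agent.Lib.H12.S3776ECore
import Cfsg.Agent.Lib.H24.S3776NC

/-!
# S3776, LEMMA E: the field-model core with Lemma NC plugged in (helper12)

`lemmaE_core` = `S3776ECore.lemmaE_core_of_nc` with helper24's landed `nc`.
-/

set_option autoImplicit false

namespace Cfsg.Agent.Lib.H12.S3776E

theorem ncStmt : Cfsg.Agent.Lib.H12.S3776ECore.NCStmt :=
  fun {_ _ _ _ _ _} hk hm hi hj ht h => Cfsg.Agent.Lib.H24.S3776NC.nc hk hm hi hj ht h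

/-- **LEMMA E, field model.** -/
theorem lemmaE_core {F : Type*} [Field F] [Fintype F] [CharP F 2] (n : ℕ)
    (hcard : Fintype.card F = 2 ^ n)
    {Γ : Type*} {T : Type*} [AddCommGroup T] (hT2 : ∀ t : T, t + t = 0)
    (actF : Γ → F → F) (actT : Γ → T → T)
    (hsemi : ∀ γ : Γ, ∃ (a : F) (σ : F ≃+* F), ∀ x, actF γ x = a * σ x)
    (hinj : ∀ γ, Function.Injective (actF γ))
    (hTadd : ∀ γ t t', actT γ (t + t') = actT γ t + actT γ t')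
    (hirr : ∀ S : AddSubgroup T, (∀ γ, ∀ t ∈ S, actT γ t ∈ S) → S = ⊥ ∨ S = ⊤)
    (ζ : F) (m k : ℕ) (hmk : m * k = 2 ^ n - 1) (hkn : k ∣ n) (hζ : orderOf ζ = m)
    (γ0 : Γ) (hγ0 : ∀ x, actF γ0 x = ζ * x)
    (b : T → F → F) (hbl : ∀ t t' x, b (t + t') x = b t x + b t' x)
    (hbr : ∀ t x y, b t (x + y) = b t x + b t y)
    (hbeq : ∀ γ t x, b (actT γ t) (actF γ x) = actF γ (b t x))
    (hb0 : ∃ t x, b t x ≠ 0) :
    ∀ t x, t ≠ 0 → x ≠ 0 → b t x ≠ 0 :=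
  Cfsg.Agent.Lib.H12.S3776ECore.lemmaE_core_of_nc ncStmt n hcard hT2 actF actT hsemi hinj hTadd
    hirr ζ m k hmk hkn hζ γ0 hγ0 b hbl hbr hbeq hb0

end Cfsg.Agent.Lib.H12.S3776E
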