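import Mathlib
import Cfsg.Agent.Lib.H18.S3776LemE
import Cfsg.Agent.Lib.H12.S3776E

/-!
# S3776, piece (3) LEME: helper18's glue `leme_of` with helper12's `lemmaE_core` plugged in
(twin of the plug file of helper18)
-/

set_option autoImplicit false

namespace Cfsg.Agent.Lib.H12.S3776LemE

universe u

open Cfsg.Agent.Lib.H18.S3776LemE Cfsg.Agent.Lib.H9.S3776

theorem ecore : ECoreStmt.{u} := by
  intro F _ _ _ n hn Γ T _ hT2 actF actT hsemi hinj hTadd hirr ζ m k hmk hkn hζ γ0 hγ0 b hbl hbr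
    hbeq hb0
  exact Cfsg.Agent.Lib.H12.S3776E.lemmaE_core n hn hT2 actF actT hsemi hinj hTadd hirr ζ m k hmk
    hkn hζ γ0 hγ0 b hbl hbr hbeq hb0

/-- **LEMMA E** in the exact shape of helper9's cut. -/
theorem leme : LemEStmt.{u} := leme_of ecore.{u}

example : LemEStmt.{0} := leme

end Cfsg.Agent.Lib.H12.S3776LemE
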