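import Mathlib

/-!
helper12: S3777 (Vaughan-Lee) generic core lemmas.

* `comm_card`: the set of commutators `⁅g, u⁆` has exactly `|G : C_G(u)|` elements.
* `comm_mem`: if `B` is an abelian normal subgroup of `Q` and `Q = B ⊔ ⟨u⟩`, then every element of
  the derived subgroup of `Q` has the form `⁅b, u⁆` with `b ∈ B`.
* `stepA`: if `K` is normal in `G` and `G = K ⊔ ⟨u⟩`, then `|G'| ≤ |G : C_G(u)| * |K'|`.
-/

set_option autoImplicit false

namespace Cfsg.Agent.Lib.H12.S3777Core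

open Subgroup
open scoped commutatorElement

section comm
variable {Q : Type*} [Group Q]

/-- `⁅b, u⁆` lies in the normal subgroup `B` when `b ∈ B`. -/
theorem comm_mem_of_mem (B : Subgroup Q) [hBn : B.Normal] {b : Q} (hb : b ∈ B) (u : Q) :
    ⁅b, u⁆ ∈ B := by
  have h1 : u * b⁻¹ * u⁻¹ ∈ B := hBn.conj_mem _ (inv_mem hb) u
  have : ⁅b, u⁆ = b * (u * b⁻¹ * u⁻¹) := by rw [commutatorElement_def]; group
  rw [this]; exact mul_mem hb h1

/-- product rule for `b ↦ ⁅b, u⁆` on an abelian normal subgroup. -/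
theorem comm_mul (B : Subgroup Q) [hBn : B.Normal] (hB : ∀ a ∈ B, ∀ b ∈ B, a * b = b * a)
    (u : Q) {a b : Q} (ha : a ∈ B) (hb : b ∈ B) : ⁅a * b, u⁆ = ⁅a, u⁆ * ⁅b, u⁆ := by
  have hc : u * b⁻¹ * u⁻¹ ∈ B := hBn.conj_mem _ (inv_mem hb) u
  have hd : u * a⁻¹ * u⁻¹ ∈ B := hBn.conj_mem _ (inv_mem ha) u
  have e1 : ⁅a * b, u⁆ = a * ((b * (u * b⁻¹ * u⁻¹)) * (u * a⁻¹ * u⁻¹)) := by
    rw [commutatorElement_def]; group
  have e2 : ⁅a, u⁆ * ⁅b, u⁆ = a * ((u * a⁻¹ * u⁻¹) * (b * (u * b⁻¹ * u⁻¹))) := by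
    rw [commutatorElement_def, commutatorElement_def]; group
  rw [e1, e2, hB _ (mul_mem hb hc) _ hd]

/-- the set of all `⁅b, u⁆`, `b ∈ B`, as a subgroup. -/
def commSub (B : Subgroup Q) [hBn : B.Normal] (hB : ∀ a ∈ B, ∀ b ∈ B, a * b = b * a) (u : Q) :
    Subgroup Q where
  carrier := {x | ∃ b ∈ B, ⁅b, u⁆ = x}
  one_mem' := ⟨1, one_mem _, by simp⟩
  mul_mem' := by
    rintro x y ⟨a, ha, rfl⟩ ⟨b, hb, rfl⟩
    exact ⟨a * b, mul_mem ha hb, comm_mul B hB u ha hb⟩
  inv_mem' := by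
    rintro x ⟨a, ha, rfl⟩
    refine ⟨a⁻¹, inv_mem ha, ?_⟩
    have h := comm_mul B hB u ha (inv_mem ha)
    rw [mul_inv_cancel, commutatorElement_one_left] at h
    exact (eq_inv_of_mul_eq_one_right h.symm)

theorem mem_commSub {B : Subgroup Q} [hBn : B.Normal] {hB : ∀ a ∈ B, ∀ b ∈ B, a * b = b * a}
    {u x : Q} : x ∈ commSub B hB u ↔ ∃ b ∈ B, ⁅b, u⁆ = x := Iff.rfl

theorem commSub_le (B : Subgroup Q) [hBn : B.Normal] (hB : ∀ a ∈ B, ∀ b ∈ B, a * b = b * a)
    (u : Q) : commSub B hB u ≤ B := by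
  rintro x ⟨b, hb, rfl⟩
  exact comm_mem_of_mem B hb u

/-- `⁅b, u ^ m⁆ ∈ commSub` for all natural `m`. -/
theorem comm_pow_mem (B : Subgroup Q) [hBn : B.Normal] (hB : ∀ a ∈ B, ∀ b ∈ B, a * b = b * a)
    (u : Q) (m : ℕ) : ∀ b ∈ B, ⁅b, u ^ m⁆ ∈ commSub B hB u := by
  induction m with
  | zero => intro b _; simp [one_mem]
  | succ m ih =>
    intro b hb
    have hb' : u * b * u⁻¹ ∈ B := hBn.conj_mem _ hb u
    have e : ⁅b, u ^ (m + 1)⁆ = ⁅b, u⁆ * ⁅u * b * u⁻¹, u ^ m⁆ := by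
      rw [commutatorElement_def, commutatorElement_def, commutatorElement_def, pow_succ']; group
    rw [e]
    exact mul_mem ⟨b, hb, rfl⟩ (ih _ hb')

/-- key identity: `⁅b₁ s, b₂ t⁆ = ⁅b₁, t⁆ ⁅b₂, s⁆⁻¹` for commuting `s t`. -/
theorem comm_pair (B : Subgroup Q) [hBn : B.Normal] (hB : ∀ a ∈ B, ∀ b ∈ B, a * b = b * a)
    (u : Q) (m n : ℕ) {b₁ b₂ : Q} (h₁ : b₁ ∈ B) (h₂ : b₂ ∈ B) :
    ⁅b₁ * u ^ m, b₂ * u ^ n⁆ = ⁅b₁, u ^ n⁆ * ⁅b₂, u ^ m⁆⁻¹ := by
  have hc : u ^ m * b₂ * (u ^ m)⁻¹ ∈ B := hBn.conj_mem _ h₂ _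
  have hd : u ^ n * b₁⁻¹ * (u ^ n)⁻¹ ∈ B := hBn.conj_mem _ (inv_mem h₁) _
  have e1 : ⁅b₁ * u ^ m, b₂ * u ^ n⁆
      = b₁ * ((u ^ m * b₂ * (u ^ m)⁻¹) * (u ^ n * b₁⁻¹ * (u ^ n)⁻¹)) * b₂⁻¹ := by
    rw [commutatorElement_def]; group
  have e2 : ⁅b₁, u ^ n⁆ * ⁅b₂, u ^ m⁆⁻¹
      = b₁ * ((u ^ n * b₁⁻¹ * (u ^ n)⁻¹) * (u ^ m * b₂ * (u ^ m)⁻¹)) * b₂⁻¹ := by
    rw [commutatorElement_def, commutatorElement_def]; group
  rw [e1, e2, hB _ hc _ hd]

/-- every element of a finite group `Q = B ⊔ ⟨u⟩` (B normal) is `b * u ^ m`. -/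
theorem exists_mul_pow [Finite Q] (B : Subgroup Q) [hBn : B.Normal] (u : Q)
    (hsup : B ⊔ zpowers u = ⊤) (g : Q) : ∃ b ∈ B, ∃ m : ℕ, g = b * u ^ m := by
  have hg : g ∈ B ⊔ zpowers u := by rw [hsup]; trivial
  rw [← SetLike.mem_coe, Subgroup.normal_mul] at hg
  obtain ⟨b, hb, z, hz, rfl⟩ := hg
  have hz' : z ∈ Submonoid.powers u := mem_powers_iff_mem_zpowers.mpr hz
  obtain ⟨m, rfl⟩ := hz'
  exact ⟨b, hb, m, rfl⟩

/-- **Core**: in a finite group `Q = B ⊔ ⟨u⟩` with `B` abelian normal, the derived subgroup is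
`{⁅b, u⁆ : b ∈ B}`. -/
theorem commutator_le_commSub [Finite Q] (B : Subgroup Q) [hBn : B.Normal]
    (hB : ∀ a ∈ B, ∀ b ∈ B, a * b = b * a) (u : Q) (hsup : B ⊔ zpowers u = ⊤) :
    commutator Q ≤ commSub B hB u := by
  rw [commutator_eq_closure, Subgroup.closure_le]
  rintro x ⟨g, h, rfl⟩
  obtain ⟨b₁, h₁, m, rfl⟩ := exists_mul_pow B u hsup g
  obtain ⟨b₂, h₂, n, rfl⟩ := exists_mul_pow B u hsup h
  rw [SetLike.mem_coe, comm_pair B hB u m n h₁ h₂]
  exact mul_mem (comm_pow_mem B hB u n _ h₁) (inv_mem (comm_pow_mem B hB u m _ h₂))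

theorem comm_mem [Finite Q] (B : Subgroup Q) [hBn : B.Normal]
    (hB : ∀ a ∈ B, ∀ b ∈ B, a * b = b * a) (u : Q) (hsup : B ⊔ zpowers u = ⊤)
    {x : Q} (hx : x ∈ commutator Q) : ∃ b ∈ B, ⁅b, u⁆ = x :=
  commutator_le_commSub B hB u hsup hx

end comm

section count
variable {G : Type*} [Group G]

/-- (T4) `|G'| = |(G/N)'| * |N|` for a normal subgroup `N ≤ G'`. -/
theorem card_commutator_quotient (N : Subgroup G) [N.Normal] (hN : N ≤ commutator G) :
    Nat.card (commutator G) = Nat.card (commutator (G ⧸ N)) * Nat.card N := by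
  have h1 : (commutator G).map (QuotientGroup.mk' N) = commutator (G ⧸ N) := by
    rw [map_commutator_eq, MonoidHom.range_eq_top.mpr (QuotientGroup.mk'_surjective N),
      _root_.commutator_def]
  have h2 := Subgroup.relIndex_ker (QuotientGroup.mk' N) (K := commutator G)
  rw [QuotientGroup.ker_mk', h1] at h2
  have h3 := Subgroup.relIndex_mul_relIndex ⊥ N (commutator G) bot_le hN
  rw [Subgroup.relIndex_bot_left, Subgroup.relIndex_bot_left, h2] at h3
  rw [← h3, mul_comm]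

/-- a set of images of commutators `⁅g, u⁆` has at most `|G : C_G(u)|` elements. -/
theorem ncard_le_index_centralizer [Finite G] {Q : Type*} (F : G → Q) (u : G) (S : Set Q)
    (hS : ∀ x ∈ S, ∃ g : G, F ⁅g, u⁆ = x) :
    S.ncard ≤ (Subgroup.centralizer ({u} : Set G)).index := by
  classical
  have hsub : S ⊆ (fun c : G => F (c * u⁻¹)) '' (MulAction.orbit (ConjAct G) u) := by
    intro x hx
    obtain ⟨g, rfl⟩ := hS x hx
    refine ⟨g * u * g⁻¹, ⟨ConjAct.toConjAct g, ?_⟩, ?_⟩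
    · simp [ConjAct.smul_def]
    · simp [commutatorElement_def]
  have h1 : S.ncard ≤ ((fun c : G => F (c * u⁻¹)) '' (MulAction.orbit (ConjAct G) u)).ncard :=
    Set.ncard_le_ncard hsub (Set.toFinite _)
  have h2 := Set.ncard_image_le (f := fun c : G => F (c * u⁻¹))
    (s := MulAction.orbit (ConjAct G) u) (Set.toFinite _)
  have h3 : (MulAction.orbit (ConjAct G) u).ncard = (Subgroup.centralizer ({u} : Set G)).index := by
    rw [← MulAction.index_stabilizer, Subgroup.centralizer_eq_comap_stabilizer]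
    exact (Subgroup.index_comap_of_surjective _ (ConjAct.toConjAct (G := G)).surjective).symm
  omega

end count

section stepA
variable {G : Type*} [Group G] [Finite G]

/-- **(A)**: `K` normal in `G`, `G = K ⊔ ⟨u⟩`; then `|G'| ≤ |G : C_G(u)| * |K'|`. -/
theorem stepA (K : Subgroup G) [hK : K.Normal] (u : G) (hsup : K ⊔ zpowers u = ⊤) :
    Nat.card (commutator G) ≤
      (Subgroup.centralizer ({u} : Set G)).index * Nat.card (⁅K, K⁆ : Subgroup G) := by
  set N : Subgroup G := ⁅K, K⁆ with hNdef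
  have : N.Normal := by rw [hNdef]; infer_instance
  have hN : N ≤ commutator G := by
    rw [hNdef, _root_.commutator_def]; exact Subgroup.commutator_mono le_top le_top
  rw [card_commutator_quotient N hN]
  refine Nat.mul_le_mul_right _ ?_
  set f : G →* G ⧸ N := QuotientGroup.mk' N with hf
  have hfs : Function.Surjective f := QuotientGroup.mk'_surjective N
  set B : Subgroup (G ⧸ N) := K.map f with hBdef
  have : B.Normal := hK.map f hfs
  have hB : ∀ a ∈ B, ∀ b ∈ B, a * b = b * a := by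
    rintro _ ⟨k₁, h₁, rfl⟩ _ ⟨k₂, h₂, rfl⟩
    rw [← map_mul, ← map_mul, hf]
    refine (QuotientGroup.eq).mpr ?_
    have : (k₁ * k₂)⁻¹ * (k₂ * k₁) = ⁅k₂⁻¹, k₁⁻¹⁆ := by rw [commutatorElement_def]; group
    rw [this, hNdef]
    exact Subgroup.commutator_mem_commutator (inv_mem h₂) (inv_mem h₁)
  have hsup' : B ⊔ zpowers (f u) = ⊤ := by
    rw [hBdef, ← MonoidHom.map_zpowers, ← Subgroup.map_sup, hsup,
      ← MonoidHom.range_eq_map, MonoidHom.range_eq_top.mpr hfs]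
  have hle := commutator_le_commSub B hB (f u) hsup'
  have h1 : Nat.card (commutator (G ⧸ N)) ≤ Nat.card (commSub B hB (f u)) :=
    Subgroup.card_le_of_le hle
  have h2 : Nat.card (commSub B hB (f u)) ≤ (Subgroup.centralizer ({u} : Set G)).index := by
    have h := ncard_le_index_centralizer (fun g : G => f g) u
      ((commSub B hB (f u) : Subgroup (G ⧸ N)) : Set (G ⧸ N)) (by
        rintro x ⟨b, ⟨k, hk, rfl⟩, rfl⟩
        exact ⟨k, by simp [map_commutatorElement]⟩)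
    rwa [← Nat.card_coe_set_eq] at h
  exact h1.trans h2

/-- a subgroup of prime index together with an outside element generates. -/
theorem sup_zpowers_eq_top {p : ℕ} [hp : Fact p.Prime] (K : Subgroup G) (hK : K.index = p)
    {u : G} (hu : u ∉ K) : K ⊔ zpowers u = ⊤ := by
  have hle : K ≤ K ⊔ zpowers u := le_sup_left
  have h1 := Subgroup.relIndex_mul_index hle
  rw [hK] at h1
  have hdvd : (K ⊔ zpowers u).index ∣ p := Dvd.intro_left _ h1
  rcases (Nat.dvd_prime hp.out).mp hdvd with h | h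
  · exact Subgroup.index_eq_one.mp h
  · exfalso
    rw [h] at h1
    have hp0 := hp.out.pos
    have h2 : K.relIndex (K ⊔ zpowers u) = 1 := by
      have : K.relIndex (K ⊔ zpowers u) * p = 1 * p := by rw [h1, one_mul]
      exact Nat.eq_of_mul_eq_mul_right hp0 this
    rw [Subgroup.relIndex_eq_one] at h2
    exact hu (h2 (le_sup_right (a := K) (Subgroup.mem_zpowers u)))

/-- in a finite `p`-group a subgroup of index `p` is normal. -/
theorem normal_of_index_p {p : ℕ} [hp : Fact p.Prime] (hG : IsPGroup p G) (K : Subgroup G)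
    (hK : K.index = p) : K.Normal := by
  obtain ⟨n, hn⟩ := IsPGroup.iff_card.mp hG
  have hn0 : n ≠ 0 := by
    rintro rfl
    rw [pow_zero] at hn
    have : K.index = 1 := by
      have := Subgroup.index_dvd_card K
      rw [hn] at this
      exact Nat.dvd_one.mp this
    rw [hK] at this
    exact hp.out.one_lt.ne' this
  apply Subgroup.normal_of_index_eq_minFac_card
  rw [hK, hn, hp.out.pow_minFac hn0]

/-- **(A)**, index-`p` form: `K` of index `p` in the finite `p`-group `G`, `u ∉ K`. -/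
theorem stepA_p {p : ℕ} [hp : Fact p.Prime] (hG : IsPGroup p G) (K : Subgroup G)
    (hK : K.index = p) {u : G} (hu : u ∉ K) :
    Nat.card (commutator G) ≤
      (Subgroup.centralizer ({u} : Set G)).index * Nat.card (⁅K, K⁆ : Subgroup G) := by
  have := normal_of_index_p hG K hK
  exact stepA K u (sup_zpowers_eq_top K hK hu)

/-- **(A)**, normal index-`p` form without the `p`-group hypothesis. -/
theorem stepA_n {p : ℕ} [hp : Fact p.Prime] (K : Subgroup G) [K.Normal]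
    (hK : K.index = p) {u : G} (hu : u ∉ K) :
    Nat.card (commutator G) ≤
      (Subgroup.centralizer ({u} : Set G)).index * Nat.card (⁅K, K⁆ : Subgroup G) :=
  stepA K u (sup_zpowers_eq_top K hK hu)

end stepA

end Cfsg.Agent.Lib.H12.S3777Core
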