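import Cfsg.Agent.Lib.H25.S3777P2Defs
import Cfsg.Agent.Lib.H12.S3777Core

/-!
helper12: S3777, P2 step, piece (GEO) in the exact shape of `Lib/H25/S3777P2Defs`:
a non-abelian finite `p`-group with a subgroup `M` of index `p` has two further normal subgroups
`K0 ≠ K1` of index `p` with `K0 ⊓ M = K1 ⊓ M`, and `M` is cyclic over this intersection.
-/

set_option autoImplicit false

namespace Cfsg.Agent.Lib.H12.S3777Geo

open Subgroup
open Cfsg.Agent.Lib.H12.S3777Core

universe u

section
variable {G : Type u} [Group G] [Finite G] {p : ℕ} [hp : Fact p.Prime]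

/-- a subgroup of prime index and any subgroup with an element outside it generate. -/
theorem sup_eq_top_of_mem (M K : Subgroup G) (hM : M.index = p) {y : G} (hyK : y ∈ K)
    (hyM : y ∉ M) : M ⊔ K = ⊤ := by
  have h := sup_zpowers_eq_top M hM hyM
  rw [eq_top_iff, ← h]
  exact sup_le_sup_left (zpowers_le.mpr hyK) M

omit [Finite G] hp in
/-- `|M : K ⊓ M| = |G : K|` when `K` is normal and `K M = G`. -/
theorem relIndex_inf_eq (K M : Subgroup G) [K.Normal] (hsup : K ⊔ M = ⊤) :
    (K ⊓ M).relIndex M = K.index := by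
  rw [Subgroup.inf_relIndex_right, ← Subgroup.relIndex_sup_left M K, hsup,
    Subgroup.relIndex_top_right]

omit [Finite G] in
/-- the cyclic extension `N ⊔ ⟨g⟩` of a normal subgroup by an element with `g ^ p ∈ N`,
`g ∉ N` has relative index `p`. -/
theorem relIndex_sup_zpowers (N : Subgroup G) [N.Normal] {g : G} (hgp : g ^ p ∈ N)
    (hg : g ∉ N) : N.relIndex (N ⊔ zpowers g) = p := by
  have h1 := Subgroup.relIndex_ker (QuotientGroup.mk' N) (K := N ⊔ zpowers g)
  rw [QuotientGroup.ker_mk'] at h1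
  rw [h1, Subgroup.map_sup, QuotientGroup.map_mk'_self, bot_sup_eq, MonoidHom.map_zpowers,
    Nat.card_zpowers]
  have hdvd : orderOf (QuotientGroup.mk' N g) ∣ p := by
    apply orderOf_dvd_of_pow_eq_one
    rw [← map_pow]
    exact (QuotientGroup.eq_one_iff _).mpr hgp
  rcases (Nat.dvd_prime hp.out).mp hdvd with h | h
  · exfalso
    rw [orderOf_eq_one_iff] at h
    exact hg ((QuotientGroup.eq_one_iff _).mp h)
  · exact h

end

theorem geo : Cfsg.Agent.Lib.H25.S3777P2.GeoStmt.{u} := by
  intro p hp G _ _ hG M hM hcomm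
  have hpp : p.Prime := hp.out
  obtain ⟨N, hN⟩ := IsPGroup.iff_card.mp hG
  have hMn : M.Normal := normal_of_index_p hG M hM
  -- an element outside `M`
  have hMtop : M ≠ ⊤ := by
    intro h
    rw [h, Subgroup.index_top] at hM
    exact hpp.one_lt.ne hM
  obtain ⟨y, hy⟩ : ∃ y, y ∉ M := by
    by_contra h
    apply hMtop
    rw [eq_top_iff]
    intro x _
    by_contra hx
    exact h ⟨x, hx⟩
  -- `⟨y⟩` is proper since `G` is not commutative
  have hzy : zpowers y ≠ ⊤ := by
    intro h
    apply hcomm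
    rw [_root_.commutator_def, Subgroup.commutator_eq_bot_iff_le_centralizer]
    intro a _
    rw [Subgroup.mem_centralizer_iff]
    intro b _
    have ha : a ∈ zpowers y := by rw [h]; trivial
    have hb : b ∈ zpowers y := by rw [h]; trivial
    obtain ⟨i, rfl⟩ := Subgroup.mem_zpowers_iff.mp ha
    obtain ⟨j, rfl⟩ := Subgroup.mem_zpowers_iff.mp hb
    rw [← zpow_add, ← zpow_add, add_comm]
  -- `K0` of index `p` containing `y`
  obtain ⟨n, hn⟩ := IsPGroup.iff_card.mp (hG.to_subgroup (zpowers y))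
  have hN0 : N ≠ 0 := by
    rintro rfl
    rw [pow_zero] at hN
    have h1 : M.index = 1 := Nat.dvd_one.mp (hN ▸ Subgroup.index_dvd_card M)
    rw [hM] at h1
    exact hpp.one_lt.ne' h1
  have hnN : n ≤ N - 1 := by
    have hdvd : p ^ n ∣ p ^ N := by
      rw [← hn, ← hN]; exact Subgroup.card_subgroup_dvd_card _
    have hle : n ≤ N := (Nat.pow_dvd_pow_iff_le_right hpp.one_lt).mp hdvd
    have hne : n ≠ N := by
      rintro rfl
      apply hzy
      exact Subgroup.eq_top_of_card_eq _ (hn.trans hN.symm)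
    omega
  obtain ⟨K0, hK0c, hyK0'⟩ := Sylow.exists_subgroup_card_pow_prime_le p
    (show p ^ (N - 1) ∣ Nat.card G by rw [hN]; exact pow_dvd_pow p (Nat.sub_le N 1))
    (zpowers y) hn hnN
  have hyK0 : y ∈ K0 := hyK0' (Subgroup.mem_zpowers y)
  have hK0 : K0.index = p := by
    have h := Subgroup.card_mul_index K0
    rw [hK0c, hN] at h
    have hN' : N = (N - 1) + 1 := by omega
    rw [hN', pow_succ] at h
    simp only [Nat.add_sub_cancel] at h
    exact Nat.eq_of_mul_eq_mul_left (pow_pos hpp.pos _) h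
  have hK0n : K0.Normal := normal_of_index_p hG K0 hK0
  have hsup0 : K0 ⊔ M = ⊤ := by
    rw [sup_comm]; exact sup_eq_top_of_mem M K0 hM hyK0 hy
  -- an element of `M` outside `K0`
  obtain ⟨m, hmM, hmK0⟩ : ∃ m, m ∈ M ∧ m ∉ K0 := by
    by_contra h
    have hle : M ≤ K0 := by
      intro x hx
      by_contra hx'
      exact h ⟨x, hx, hx'⟩
    rw [sup_eq_left.mpr hle] at hsup0
    rw [hsup0, Subgroup.index_top] at hK0
    exact hpp.one_lt.ne hK0
  have hKm : K0 ⊔ zpowers m = ⊤ := sup_zpowers_eq_top K0 hK0 hmK0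
  -- `M` is cyclic over `M0 = K0 ⊓ M`
  have hMcyc : M = (K0 ⊓ M) ⊔ zpowers m := by
    apply le_antisymm
    · intro x hx
      have hx' : x ∈ K0 ⊔ zpowers m := by rw [hKm]; trivial
      rw [← SetLike.mem_coe, Subgroup.normal_mul] at hx'
      obtain ⟨k, hk, z, hz, rfl⟩ := hx'
      have hzM : z ∈ M := (zpowers_le.mpr hmM) hz
      have hkM : k ∈ M := by
        have := M.mul_mem hx (M.inv_mem hzM)
        simpa using this
      exact Subgroup.mul_mem_sup ⟨hk, hkM⟩ hz
    · exact sup_le inf_le_right (zpowers_le.mpr hmM)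
  -- the third subgroup
  set M0 : Subgroup G := K0 ⊓ M with hM0
  have hM0n : M0.Normal := by rw [hM0]; infer_instance
  set g : G := y * m with hg
  have hgM : g ∉ M := by
    intro h
    apply hy
    have := M.mul_mem h (M.inv_mem hmM)
    simpa [hg] using this
  have hgp : g ^ p ∈ M0 := by
    refine ⟨?_, ?_⟩
    · have := Subgroup.pow_index_mem K0 g
      rwa [hK0] at this
    · have := Subgroup.pow_index_mem M g
      rwa [hM] at this
  have hgM0 : g ∉ M0 := fun h => hgM h.2
  set K1 : Subgroup G := M0 ⊔ zpowers g with hK1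
  have hgK1 : g ∈ K1 := (le_sup_right : zpowers g ≤ K1) (Subgroup.mem_zpowers g)
  have hrel1 : M0.relIndex K1 = p := relIndex_sup_zpowers M0 hgp hgM0
  have hM0idx : M0.index = p * p := by
    have h1 := Subgroup.relIndex_mul_index (inf_le_right : K0 ⊓ M ≤ M)
    rw [relIndex_inf_eq K0 M hsup0, hK0, hM] at h1
    exact h1.symm
  have hK1idx : K1.index = p := by
    have h1 := Subgroup.relIndex_mul_index (le_sup_left : M0 ≤ K1)
    rw [hrel1, hM0idx] at h1
    exact Nat.eq_of_mul_eq_mul_left hpp.pos h1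
  have hK1n : K1.Normal := normal_of_index_p hG K1 hK1idx
  have hK1M : K1 ≠ M := by
    intro h
    exact hgM (h ▸ hgK1)
  have hsup01 : K0 ⊔ K1 = ⊤ := by
    rw [eq_top_iff, ← hKm]
    apply sup_le le_sup_left
    rw [zpowers_le]
    have : m = y⁻¹ * g := by rw [hg]; group
    rw [this]
    exact Subgroup.mul_mem_sup (K0.inv_mem hyK0) hgK1
  have hinf : K0 ⊓ M = K1 ⊓ M := by
    apply le_antisymm
    · exact le_inf ((le_sup_left : M0 ≤ K1)) inf_le_right
    · have hle : M0 ≤ K1 ⊓ M := le_inf (le_sup_left : M0 ≤ K1) inf_le_right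
      have h1 := Subgroup.relIndex_mul_relIndex M0 (K1 ⊓ M) K1 hle inf_le_left
      rw [hrel1, Subgroup.inf_relIndex_left] at h1
      have hne1 : M.relIndex K1 ≠ 1 := by
        intro h
        exact hgM ((Subgroup.relIndex_eq_one.mp h) hgK1)
      have hdvd : M.relIndex K1 ∣ p := Dvd.intro_left _ h1
      rcases (Nat.dvd_prime hpp).mp hdvd with h | h
      · exact absurd h hne1
      · rw [h] at h1
        have h2 : M0.relIndex (K1 ⊓ M) = 1 := by
          have : M0.relIndex (K1 ⊓ M) * p = 1 * p := by rw [h1, one_mul]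
          exact Nat.eq_of_mul_eq_mul_right hpp.pos this
        exact Subgroup.relIndex_eq_one.mp h2
  exact ⟨K0, K1, hK0n, hK1n, hK0, hK1idx, fun h => hy (h ▸ hyK0), hK1M, hsup01, hinf, hM0n,
    m, hmM, hMcyc⟩

end Cfsg.Agent.Lib.H12.S3777Geo
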