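import Cfsg.Agent.Lib.H19.S3797Defs
import Cfsg.Agent.S0093
import Cfsg.Agent.S0121
import Cfsg.Agent.Lib.H1.PGroupBasic

/-!
# S3797, piece CRIT (helper12)

A critical subgroup `K` of the normal 2-subgroup `Q`, seen inside `G`
(landed S0093 for existence, landed S0121 for the faithfulness of odd-order elements).
-/

set_option autoImplicit false
open scoped commutatorElement

namespace Cfsg.Agent.Lib.H12.S3797Crit

universe u

open Cfsg.Agent.Lib.H19.S3797

theorem crit : CritStmt.{u} := by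
  intro G _ _ Q hQn hQ2
  have : Fact (Nat.Prime 2) := ⟨Nat.prime_two⟩
  have := hQn
  obtain ⟨H, hHchar, hΦ, hcomm, hcent⟩ := Cfsg.Agent.S0093.result (P := ↥Q) (p := 2) hQ2
  have := hHchar
  have hH2 : IsPGroup 2 ↥H := hQ2.to_subgroup H
  -- membership in `K`
  have hKmem : ∀ k : G, k ∈ H.map Q.subtype → ∃ k' : ↥Q, k' ∈ H ∧ (k' : G) = k := by
    rintro k ⟨k', hk', rfl⟩
    exact ⟨k', hk', rfl⟩
  -- elements of the image of `Φ(H)` are central in `H`
  have hZ : ∀ z : ↥Q, z ∈ (frattini ↥H).map H.subtype → ∀ c : ↥Q, c ∈ H → z * c = c * z := by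
    intro z hz c hc
    have h1 : z ∈ Subgroup.centralizer (H : Set ↥Q) := hΦ hz
    exact (Subgroup.mem_centralizer_iff.mp h1 c hc).symm
  -- elements of `[Q, H]` are central in `H`
  have hZ2 : ∀ z : ↥Q, z ∈ ⁅H, (⊤ : Subgroup ↥Q)⁆ → ∀ c : ↥Q, c ∈ H → z * c = c * z := by
    intro z hz c hc
    have h1 : z ∈ Subgroup.centralizer (H : Set ↥Q) := (hcomm hz).2
    exact (Subgroup.mem_centralizer_iff.mp h1 c hc).symm
  refine ⟨H.map Q.subtype, ?_⟩
  refine
    { KQ := Subgroup.map_subtype_le H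
      Kn := ConjAct.normal_of_characteristic_of_normal
      sqc := ?_
      comc := ?_
      KQc := ?_
      selfc := ?_
      faith := ?_ }
  · -- squares are central
    intro k hk c hc
    obtain ⟨k', hk', rfl⟩ := hKmem k hk
    obtain ⟨c', hc', rfl⟩ := hKmem c hc
    have h1 : (⟨k', hk'⟩ : ↥H) ^ 2 ∈ frattini ↥H :=
      Cfsg.Agent.Lib.H1.isPGroup_pow_mem_frattini hH2 _
    have h2 : k' ^ 2 ∈ (frattini ↥H).map H.subtype := ⟨_, h1, rfl⟩
    have h3 := hZ _ h2 c' hc'
    have h4 := congrArg (Subtype.val : ↥Q → G) h3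
    simpa using h4
  · -- commutators are central
    intro a ha b hb c hc
    obtain ⟨a', ha', rfl⟩ := hKmem a ha
    obtain ⟨b', hb', rfl⟩ := hKmem b hb
    obtain ⟨c', hc', rfl⟩ := hKmem c hc
    have h1 : ⁅(⟨a', ha'⟩ : ↥H), ⟨b', hb'⟩⁆ ∈ frattini ↥H :=
      Cfsg.Agent.Lib.H1.isPGroup_commutator_le_frattini hH2
        (Subgroup.commutator_mem_commutator (Subgroup.mem_top _) (Subgroup.mem_top _))
    have h2 : a' * b' * a'⁻¹ * b'⁻¹ ∈ (frattini ↥H).map H.subtype :=
      ⟨_, h1, by simp [commutatorElement_def]⟩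
    have h3 := hZ _ h2 c' hc'
    have h4 := congrArg (Subtype.val : ↥Q → G) h3
    simpa using h4
  · -- `[Q, K]` is central in `K`
    intro k hk q hq c hc
    obtain ⟨k', hk', rfl⟩ := hKmem k hk
    obtain ⟨c', hc', rfl⟩ := hKmem c hc
    have h1 : ⁅(⟨q, hq⟩ : ↥Q), k'⁆ ∈ ⁅H, (⊤ : Subgroup ↥Q)⁆ := by
      rw [Subgroup.commutator_comm]
      exact Subgroup.commutator_mem_commutator (Subgroup.mem_top _) hk'
    have h3 := hZ2 _ h1 c' hc'
    have h4 := congrArg (Subtype.val : ↥Q → G) h3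
    simpa [commutatorElement_def] using h4
  · -- `C_Q(K) ≤ K`
    intro q hq hcen
    have h1 : (⟨q, hq⟩ : ↥Q) ∈ Subgroup.centralizer (H : Set ↥Q) := by
      rw [Subgroup.mem_centralizer_iff]
      intro h hh
      apply Subtype.ext
      have := hcen (h : G) ⟨h, hh, rfl⟩
      simpa using this.symm
    exact ⟨⟨q, hq⟩, hcent h1, rfl⟩
  · -- odd-order elements centralising `K` centralise `Q`
    intro y hy hyK q hq
    have ha : Nat.Coprime (orderOf (MulAut.conjNormal (H := Q) y)) 2 := by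
      have hdvd : orderOf (MulAut.conjNormal (H := Q) y) ∣ orderOf y :=
        orderOf_map_dvd (MulAut.conjNormal (H := Q)) y
      have h2 : Nat.Coprime (orderOf y) 2 := Nat.coprime_two_right.mpr hy
      exact Nat.Coprime.coprime_dvd_left hdvd h2
    have hfix : ∀ x ∈ H, MulAut.conjNormal (H := Q) y x = x := by
      intro x hx
      apply Subtype.ext
      rw [MulAut.conjNormal_apply]
      exact hyK (x : G) ⟨x, hx, rfl⟩
    have h1 : MulAut.conjNormal (H := Q) y = 1 :=
      Cfsg.Agent.S0121.result hQ2 H hHchar hΦ hcomm hcent _ ha hfix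
    have h2 := congrArg (fun f : MulAut ↥Q => ((f ⟨q, hq⟩ : ↥Q) : G)) h1
    simpa using h2

example : CritStmt.{0} := crit

end Cfsg.Agent.Lib.H12.S3797Crit
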