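import Cfsg.Agent.Lib.H19.S3797Defs
import Cfsg.Agent.Lib.H22.PPrimeCore

/-!
# S3797, piece DESC (helper12, twin)

A normal subgroup `G1` of index 2 is impossible under `THyp G` + the induction hypothesis:
the Sylow 2-subgroup `S1` of `G1` is normal in `G`; for every odd prime `p` the Frattini argument
gives a 2-element `s ∉ G1` normalising a Sylow `p`-subgroup `P` of `G1`; `s² ∈ S1` is not `1`
and `[s², P] ≤ S1 ∩ P = 1`, so `P` centralises an involution; hence the number of involutions
`|G : C_G(t)|` is prime to every prime: there is only one involution, against `four`.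
No Schur–Zassenhaus is needed.
-/

set_option autoImplicit false

namespace Cfsg.Agent.Lib.H12.S3797Desc

universe u

open Cfsg.Agent.Lib.H19.S3797

/-- a Sylow 2-subgroup is not inside a subgroup of index 2 -/
theorem sylow_not_le {G : Type u} [Group G] [Finite G] (G1 : Subgroup G) (h2 : G1.index = 2)
    (S : Sylow 2 G) : ¬ (S : Subgroup G) ≤ G1 := by
  have : Fact (Nat.Prime 2) := ⟨Nat.prime_two⟩
  intro h
  have h1 : G1.index ∣ (S : Subgroup G).index := Subgroup.index_dvd_of_le h
  rw [h2] at h1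
  exact S.not_dvd_index h1

/-- a nontrivial Sylow 2-subgroup has a central involution -/
theorem exists_central_invol {G : Type u} [Group G] [Finite G] (S : Sylow 2 G)
    (hne : (S : Subgroup G) ≠ ⊥) :
    ∃ z : G, z ∈ (S : Subgroup G) ∧ z ≠ 1 ∧ z ^ 2 = 1 ∧ ∀ s ∈ (S : Subgroup G), s * z = z * s := by
  have : Fact (Nat.Prime 2) := ⟨Nat.prime_two⟩
  have hnt : Nontrivial ↥(S : Subgroup G) := (Subgroup.nontrivial_iff_ne_bot _).mpr hne
  have hcn : Nontrivial (Subgroup.center ↥(S : Subgroup G)) := S.isPGroup'.center_nontrivial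
  have hpc : IsPGroup 2 (Subgroup.center ↥(S : Subgroup G)) := S.isPGroup'.to_subgroup _
  obtain ⟨k, hk⟩ := IsPGroup.iff_card.mp hpc
  have hk0 : k ≠ 0 := by
    rintro rfl
    have h1 : 1 < Nat.card (Subgroup.center ↥(S : Subgroup G)) := Finite.one_lt_card
    omega
  have hdvd : 2 ∣ Nat.card (Subgroup.center ↥(S : Subgroup G)) := by
    rw [hk]; exact dvd_pow_self 2 hk0
  obtain ⟨c, hc⟩ := exists_prime_orderOf_dvd_card' 2 hdvd
  refine ⟨((c : ↥(S : Subgroup G)) : G), (c : ↥(S : Subgroup G)).2, ?_, ?_, ?_⟩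
  · intro h1
    have h2 : c = 1 := by
      apply Subtype.ext; apply Subtype.ext; simpa using h1
    rw [h2, orderOf_one] at hc
    omega
  · have h1 : c ^ 2 = 1 := by
      have h0 := pow_orderOf_eq_one c
      rwa [hc] at h0
    have h2 := congrArg (fun x : Subgroup.center ↥(S : Subgroup G) => ((x : ↥(S : Subgroup G)) : G)) h1
    simpa using h2
  · intro s hs
    have h1 := Subgroup.mem_center_iff.mp c.2 ⟨s, hs⟩
    have h2 := congrArg (fun x : ↥(S : Subgroup G) => (x : G)) h1
    simpa using h2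

/-- the 2-part of an element outside a normal subgroup of index 2 -/
theorem exists_two_part {G : Type u} [Group G] [Finite G] (G1 : Subgroup G) (h2 : G1.index = 2)
    (x : G) (hx : x ∉ G1) :
    ∃ m : ℕ, x ^ m ∉ G1 ∧ ∃ a : ℕ, orderOf (x ^ m) = 2 ^ a := by
  have hn : orderOf x ≠ 0 := (orderOf_pos x).ne'
  obtain ⟨a, m, hm, hnm⟩ := Nat.exists_eq_two_pow_mul_odd hn
  refine ⟨m, ?_, a, ?_⟩
  · obtain ⟨j, rfl⟩ := hm
    intro h
    apply hx
    have h1 : (x ^ 2) ^ j ∈ G1 := G1.pow_mem (Subgroup.sq_mem_of_index_two h2 x) j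
    have h3 : x = ((x ^ 2) ^ j)⁻¹ * x ^ (2 * j + 1) := by
      rw [← pow_mul, pow_succ, inv_mul_cancel_left]
    rw [h3]
    exact G1.mul_mem (G1.inv_mem h1) h
  · have hm0 : m ≠ 0 := by
      rintro rfl
      simp at hm
    have hdvd : m ∣ orderOf x := ⟨2 ^ a, by rw [hnm, mul_comm]⟩
    rw [orderOf_pow_of_dvd hm0 hdvd, hnm]
    exact Nat.mul_div_cancel _ (Nat.pos_of_ne_zero hm0)

/-- conjugate elements have centralizers of the same index -/
theorem index_centralizer_conj {G : Type u} [Group G] (g z : G) :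
    (Subgroup.centralizer ({g * z * g⁻¹} : Set G)).index =
      (Subgroup.centralizer ({z} : Set G)).index := by
  have h : Subgroup.centralizer ({g * z * g⁻¹} : Set G) =
      (Subgroup.centralizer ({z} : Set G)).map ((MulAut.conj g : G ≃* G) : G →* G) := by
    ext y
    simp only [Subgroup.mem_map, Subgroup.mem_centralizer_iff, Set.mem_singleton_iff, forall_eq,
      MonoidHom.coe_coe, MulAut.conj_apply]
    constructor
    · intro hy
      refine ⟨g⁻¹ * y * g, ?_, by group⟩
      have : z * (g⁻¹ * y * g) = g⁻¹ * ((g * z * g⁻¹) * y) * g := by group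
      rw [this, hy]; group
    · rintro ⟨w, hw, rfl⟩
      have : g * z * g⁻¹ * (g * w * g⁻¹) = g * (z * w) * g⁻¹ := by group
      rw [this, hw]; group
  rw [h, Subgroup.index_map_equiv]

theorem desc : DescStmt.{u} := by
  intro G _ _ hT hIH Q V hF G1 hG1n hG1i S
  exfalso
  obtain ⟨hsolv, hO, hconj, hfour⟩ := hT
  have : Fact (Nat.Prime 2) := ⟨Nat.prime_two⟩
  have := hG1n
  have := hsolv
  -- index 2 facts
  have hmul : ∀ a b : G, a ∉ G1 → b ∉ G1 → a * b ∈ G1 := fun a b ha hb =>
    (Subgroup.mul_mem_iff_of_index_two hG1i).mpr (iff_of_false ha hb)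
  have hsq : ∀ a : G, a ^ 2 ∈ G1 := Subgroup.sq_mem_of_index_two hG1i
  have hinvV : ∀ x : G, x ^ 2 = 1 → x ∈ V := fun x hx => (hF.Vmem x).mpr hx
  -- (a) `V ≤ G1`
  have hVG1 : V ≤ G1 := by
    by_contra hcon
    obtain ⟨v0, hv0V, hv0⟩ := SetLike.not_le_iff_exists.mp hcon
    have hv01 : v0 ≠ 1 := fun h => hv0 (h ▸ G1.one_mem)
    have hnoinv : ∀ w : G, w ≠ 1 → w ^ 2 = 1 → w ∉ G1 := by
      intro w hw1 hw2 hwG
      obtain ⟨g, hg⟩ := hF.trans w v0 (hinvV w hw2) hv0V hw1 hv01
      exact hv0 (hg ▸ hG1n.conj_mem w hwG g)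
    have hodd : Odd (Nat.card G1) := by
      by_contra hne
      have hdvd : 2 ∣ Nat.card G1 := even_iff_two_dvd.mp (Nat.not_odd_iff_even.mp hne)
      obtain ⟨w, hw⟩ := exists_prime_orderOf_dvd_card' 2 hdvd
      have hw1 : (w : G) ≠ 1 := by
        intro h1
        have h2 : w = 1 := Subtype.ext (by simpa using h1)
        rw [h2, orderOf_one] at hw
        omega
      have hw2 : (w : G) ^ 2 = 1 := by
        have h1 : w ^ 2 = 1 := by
          have h0 := pow_orderOf_eq_one w
          rwa [hw] at h0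
        have h2 := congrArg (fun x : ↥G1 => (x : G)) h1
        simpa using h2
      exact hnoinv (w : G) hw1 hw2 w.2
    have hbot : G1 = ⊥ := hO G1 hG1n hodd
    obtain ⟨x, y, hxy, hx1, hx2, hy1, hy2⟩ := hfour
    have h1 := hmul x y (hnoinv x hx1 hx2) (hnoinv y hy1 hy2)
    rw [hbot, Subgroup.mem_bot] at h1
    apply hxy
    have h2 : y * y = 1 := by rw [← pow_two]; exact hy2
    calc x = x * (y * y) := by rw [h2, mul_one]
      _ = (x * y) * y := by rw [mul_assoc]
      _ = y := by rw [h1, one_mul]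
  -- (b) a central involution of `S` and an element of `S` outside `G1`
  have hSnot : ¬ (S : Subgroup G) ≤ G1 := sylow_not_le G1 hG1i S
  obtain ⟨s0, hs0S, hs0⟩ := SetLike.not_le_iff_exists.mp hSnot
  obtain ⟨z, hzS, hz1, hz2, hzc⟩ :=
    exists_central_invol S (by intro h; exact hSnot (h ▸ bot_le))
  -- (c) every involution commutes with an element outside `G1`
  have hcent : ∀ x : G, x ≠ 1 → x ^ 2 = 1 → ∃ c : G, c ∉ G1 ∧ c * x = x * c := by
    intro x hx1 hx2
    obtain ⟨h, hh⟩ := isConj_iff.mp (hconj z x hz1 hz2 hx1 hx2)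
    refine ⟨h * s0 * h⁻¹, ?_, ?_⟩
    · intro hc
      apply hs0
      have h1 := hG1n.conj_mem _ hc h⁻¹
      have h2 : h⁻¹ * (h * s0 * h⁻¹) * h⁻¹⁻¹ = s0 := by group
      rwa [h2] at h1
    · rw [← hh]
      have h1 := hzc s0 hs0S
      calc h * s0 * h⁻¹ * (h * z * h⁻¹) = h * (s0 * z) * h⁻¹ := by group
        _ = h * (z * s0) * h⁻¹ := by rw [h1]
        _ = h * z * h⁻¹ * (h * s0 * h⁻¹) := by group
  -- (e) the induction hypothesis applies to `G1`
  have hcardlt : Nat.card ↥G1 < Nat.card G := by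
    have h1 := Subgroup.card_mul_index G1
    rw [hG1i] at h1
    have h2 : 0 < Nat.card ↥G1 := Nat.card_pos
    omega
  have hT1 : THyp ↥G1 := by
    refine ⟨inferInstance, ?_, ?_, ?_⟩
    · intro N hN hNodd
      have hNle : N ≤ Cfsg.pPrimeCore 2 ↥G1 :=
        Cfsg.Agent.Lib.H22.le_pPrimeCore 2 N hN (Nat.coprime_two_right.mpr hNodd)
      have hchar : (Cfsg.pPrimeCore 2 ↥G1).Characteristic :=
        Subgroup.characteristic_iff_map_le.mpr
          (fun φ => Cfsg.Agent.Lib.H22.pPrimeCore_map_le 2 φ)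
      have hnorm : ((Cfsg.pPrimeCore 2 ↥G1).map G1.subtype).Normal :=
        ConjAct.normal_of_characteristic_of_normal
      have hcard : Nat.card ((Cfsg.pPrimeCore 2 ↥G1).map G1.subtype) =
          Nat.card (Cfsg.pPrimeCore 2 ↥G1) :=
        Nat.card_congr ((Cfsg.pPrimeCore 2 ↥G1).equivMapOfInjective G1.subtype
          G1.subtype_injective).toEquiv.symm
      have hodd : Odd (Nat.card ((Cfsg.pPrimeCore 2 ↥G1).map G1.subtype)) := by
        rw [hcard]
        exact Nat.coprime_two_right.mp (Cfsg.Agent.Lib.H22.card_pPrimeCore_coprime 2)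
      have hbot := hO _ hnorm hodd
      have hbot' : Cfsg.pPrimeCore 2 ↥G1 = ⊥ :=
        (Subgroup.map_eq_bot_iff_of_injective _ G1.subtype_injective).mp hbot
      rw [hbot'] at hNle
      exact le_bot_iff.mp hNle
    · intro x y hx1 hx2 hy1 hy2
      have hx1' : (x : G) ≠ 1 := fun h => hx1 (Subtype.ext (by simpa using h))
      have hy1' : (y : G) ≠ 1 := fun h => hy1 (Subtype.ext (by simpa using h))
      have hx2' : (x : G) ^ 2 = 1 := by
        have := congrArg (fun w : ↥G1 => (w : G)) hx2; simpa using this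
      have hy2' : (y : G) ^ 2 = 1 := by
        have := congrArg (fun w : ↥G1 => (w : G)) hy2; simpa using this
      obtain ⟨g, hg⟩ := isConj_iff.mp (hconj (x : G) (y : G) hx1' hx2' hy1' hy2')
      by_cases hgG : g ∈ G1
      · exact isConj_iff.mpr ⟨⟨g, hgG⟩, Subtype.ext (by simpa using hg)⟩
      · obtain ⟨c, hcG, hcx⟩ := hcent (x : G) hx1' hx2'
        have hgc : g * c ∈ G1 := hmul g c hgG hcG
        refine isConj_iff.mpr ⟨⟨g * c, hgc⟩, Subtype.ext ?_⟩
        have h1 : g * c * (x : G) * (g * c)⁻¹ = g * (c * x * c⁻¹) * g⁻¹ := by group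
        have h2 : c * (x : G) * c⁻¹ = x := by rw [hcx]; group
        simp only [Subgroup.coe_mul, Subgroup.coe_inv]
        rw [h1, h2, hg]
    · obtain ⟨x, y, hxy, hx1, hx2, hy1, hy2⟩ := hfour
      refine ⟨⟨x, hVG1 (hinvV x hx2)⟩, ⟨y, hVG1 (hinvV y hy2)⟩, ?_, ?_, ?_, ?_, ?_⟩
      · intro h; exact hxy (congrArg Subtype.val h)
      · intro h; exact hx1 (congrArg Subtype.val h)
      · exact Subtype.ext (by simpa using hx2)
      · intro h; exact hy1 (congrArg Subtype.val h)
      · exact Subtype.ext (by simpa using hy2)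
  have hS1all := hIH ↥G1 hcardlt hT1
  -- the normal Sylow 2-subgroup of `G1`
  let S1 : Sylow 2 ↥G1 := default
  have hS1n : (S1 : Subgroup ↥G1).Normal := hS1all S1
  have hS1c : (S1 : Subgroup ↥G1).Characteristic := Sylow.characteristic_of_normal S1 hS1n
  have hS1'n : ((S1 : Subgroup ↥G1).map G1.subtype).Normal :=
    ConjAct.normal_of_characteristic_of_normal
  have hS1'2 : IsPGroup 2 ((S1 : Subgroup ↥G1).map G1.subtype) := S1.isPGroup'.map _
  -- every 2-element of `G1` lies in `S1`
  have h2elt : ∀ x : G, x ∈ G1 → (∃ a : ℕ, orderOf x = 2 ^ a) →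
      x ∈ (S1 : Subgroup ↥G1).map G1.subtype := by
    intro x hx ⟨a, ha⟩
    have hP : IsPGroup 2 (Subgroup.zpowers (⟨x, hx⟩ : ↥G1)) := by
      apply IsPGroup.of_card (n := a)
      rw [Nat.card_zpowers, ← ha]
      exact (Subgroup.orderOf_mk x hx)
    obtain ⟨S2, hS2⟩ := hP.exists_le_sylow
    have := Sylow.unique_of_normal S1 hS1n
    have hS21 : S2 = S1 := Subsingleton.elim _ _
    rw [hS21] at hS2
    exact ⟨⟨x, hx⟩, hS2 (Subgroup.mem_zpowers _), rfl⟩
  -- (g) no prime divides `n = |G : C_G(z)|`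
  have hn1 : (Subgroup.centralizer ({z} : Set G)).index = 1 := by
    rw [Nat.eq_one_iff_not_exists_prime_dvd]
    intro p hp hpn
    have : Fact p.Prime := ⟨hp⟩
    by_cases hp2 : p = 2
    · subst hp2
      have hle : (S : Subgroup G) ≤ Subgroup.centralizer ({z} : Set G) := by
        intro s hs
        rw [Subgroup.mem_centralizer_iff]
        intro w hw
        rw [Set.mem_singleton_iff] at hw
        rw [hw]
        exact (hzc s hs).symm
      exact S.not_dvd_index (dvd_trans hpn (Subgroup.index_dvd_of_le hle))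
    · -- odd prime
      let P : Sylow p ↥G1 := default
      have hfr := Sylow.normalizer_sup_eq_top P
      obtain ⟨x, hxN, hxG⟩ : ∃ x : G, x ∈ Subgroup.normalizer
          (((P : Subgroup ↥G1).map G1.subtype : Subgroup G) : Set G) ∧ x ∉ G1 := by
        by_contra hcon
        have hle : Subgroup.normalizer
            (((P : Subgroup ↥G1).map G1.subtype : Subgroup G) : Set G) ≤ G1 := by
          intro w hw
          by_contra hwG
          exact hcon ⟨w, hw, hwG⟩
        have htop : G1 = ⊤ := by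
          rw [← top_le_iff, ← hfr]
          exact sup_le hle le_rfl
        rw [htop, Subgroup.index_top] at hG1i
        omega
      obtain ⟨m, hsG, a, hsa⟩ := exists_two_part G1 hG1i x hxG
      have hsN : x ^ m ∈ Subgroup.normalizer
          (((P : Subgroup ↥G1).map G1.subtype : Subgroup G) : Set G) := Subgroup.pow_mem _ hxN m
      set s := x ^ m with hs_def
      -- `u = s²`
      have huG : s ^ 2 ∈ G1 := hsq s
      have huo : ∃ b : ℕ, orderOf (s ^ 2) = 2 ^ b := by
        have h1 : orderOf (s ^ 2) ∣ 2 ^ a := hsa ▸ orderOf_pow_dvd 2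
        obtain ⟨b, _, hb⟩ := (Nat.dvd_prime_pow Nat.prime_two).mp h1
        exact ⟨b, hb⟩
      have huS1 := h2elt (s ^ 2) huG huo
      have hu1 : s ^ 2 ≠ 1 := by
        intro h1
        exact hsG (hVG1 (hinvV s h1))
      obtain ⟨b, hb⟩ := huo
      have hb0 : b ≠ 0 := by
        rintro rfl
        rw [pow_zero, orderOf_eq_one_iff] at hb
        exact hu1 hb
      -- the involution of `⟨u⟩`
      set t := (s ^ 2) ^ (2 ^ (b - 1)) with ht_def
      have hto : orderOf t = 2 := by
        have hdvd : 2 ^ (b - 1) ∣ orderOf (s ^ 2) := by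
          rw [hb]; exact pow_dvd_pow 2 (Nat.sub_le b 1)
        rw [ht_def, orderOf_pow_of_dvd (by positivity) hdvd, hb]
        have : 2 ^ b = 2 ^ (b - 1) * 2 := by
          rw [← pow_succ]; congr 1; omega
        rw [this, Nat.mul_div_cancel_left _ (by positivity)]
      have ht1 : t ≠ 1 := by
        intro h1
        rw [h1, orderOf_one] at hto
        omega
      have ht2 : t ^ 2 = 1 := by
        have h0 := pow_orderOf_eq_one t
        rwa [hto] at h0
      -- `P` centralises `u`
      have huN : s ^ 2 ∈ Subgroup.normalizer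
          (((P : Subgroup ↥G1).map G1.subtype : Subgroup G) : Set G) := Subgroup.pow_mem _ hsN 2
      have hdisj : Disjoint ((S1 : Subgroup ↥G1).map G1.subtype)
          ((P : Subgroup ↥G1).map G1.subtype) :=
        IsPGroup.disjoint_of_ne 2 p (Ne.symm hp2) _ _ hS1'2 (P.isPGroup'.map _)
      have hPu : ∀ y ∈ (P : Subgroup ↥G1).map G1.subtype, s ^ 2 * y = y * s ^ 2 := by
        intro y hy
        have h1 : s ^ 2 * y * (s ^ 2)⁻¹ ∈ (P : Subgroup ↥G1).map G1.subtype :=
          (Subgroup.mem_normalizer_iff.mp huN y).mp hy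
        have h2 : s ^ 2 * y * (s ^ 2)⁻¹ * y⁻¹ ∈ (P : Subgroup ↥G1).map G1.subtype :=
          Subgroup.mul_mem _ h1 (Subgroup.inv_mem _ hy)
        have h3 : y * (s ^ 2)⁻¹ * y⁻¹ ∈ (S1 : Subgroup ↥G1).map G1.subtype :=
          hS1'n.conj_mem _ (Subgroup.inv_mem _ huS1) y
        have h4 : s ^ 2 * y * (s ^ 2)⁻¹ * y⁻¹ ∈ (S1 : Subgroup ↥G1).map G1.subtype := by
          have : s ^ 2 * y * (s ^ 2)⁻¹ * y⁻¹ = s ^ 2 * (y * (s ^ 2)⁻¹ * y⁻¹) := by group
          rw [this]
          exact Subgroup.mul_mem _ huS1 h3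
        have h5 : s ^ 2 * y * (s ^ 2)⁻¹ * y⁻¹ = 1 := by
          have := Subgroup.disjoint_def.mp hdisj h4 h2
          exact this
        calc s ^ 2 * y = (s ^ 2 * y * (s ^ 2)⁻¹ * y⁻¹) * (y * s ^ 2) := by group
          _ = y * s ^ 2 := by rw [h5, one_mul]
      have hPt : (P : Subgroup ↥G1).map G1.subtype ≤ Subgroup.centralizer ({t} : Set G) := by
        intro y hy
        rw [Subgroup.mem_centralizer_iff]
        intro w hw
        rw [Set.mem_singleton_iff] at hw
        rw [hw, ht_def]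
        exact ((Commute.pow_left (show Commute (s ^ 2) y from hPu y hy) _).eq)
      -- `p` does not divide `|G : C_G(t)|`
      have hidx : ¬ p ∣ (Subgroup.centralizer ({t} : Set G)).index := by
        intro hdvd
        have h1 : p ∣ ((P : Subgroup ↥G1).map G1.subtype).index :=
          dvd_trans hdvd (Subgroup.index_dvd_of_le hPt)
        rw [Subgroup.index_map_subtype, hG1i] at h1
        rcases (Nat.Prime.dvd_mul hp).mp h1 with h2 | h2
        · exact P.not_dvd_index h2
        · exact hp2 ((Nat.prime_dvd_prime_iff_eq hp Nat.prime_two).mp h2)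
      -- `t` is conjugate to `z`
      obtain ⟨g, hg⟩ := isConj_iff.mp (hconj z t hz1 hz2 ht1 ht2)
      rw [← hg, index_centralizer_conj] at hidx
      exact hidx hpn
  -- so `z` is central and there is only one involution
  have htop : Subgroup.centralizer ({z} : Set G) = ⊤ := Subgroup.index_eq_one.mp hn1
  have hzcen : ∀ g : G, g * z * g⁻¹ = z := by
    intro g
    have h1 : g ∈ Subgroup.centralizer ({z} : Set G) := htop ▸ Subgroup.mem_top g
    have h2 := Subgroup.mem_centralizer_iff.mp h1 z (Set.mem_singleton z)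
    rw [← h2]; group
  obtain ⟨x, y, hxy, hx1, hx2, hy1, hy2⟩ := hfour
  obtain ⟨g, hg⟩ := isConj_iff.mp (hconj z x hz1 hz2 hx1 hx2)
  obtain ⟨g', hg'⟩ := isConj_iff.mp (hconj z y hz1 hz2 hy1 hy2)
  rw [hzcen] at hg hg'
  exact hxy (hg.symm.trans hg')

example : DescStmt.{0} := desc

end Cfsg.Agent.Lib.H12.S3797Desc
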