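import Mathlib
import Cfsg.Agent.S0058
import Cfsg.Agent.Lib.H1.Hall

/-!
# S3814, FRAME A: shape-independent bricks for step (A3) (helper12)

* `exists_conj_mem_hall`: an element of order prime to the index is conjugate into a Hall subgroup;
* `exists_orderOf_eq_in_hall`: so a Hall subgroup has elements of every such order;
* `exists_commute_of_rank_two`: a noncyclic abelian `t`-group `E` acting on a nontrivial normal
  `a`-subgroup `N` (`a ≠ t`) has a nonidentity element `e` commuting with an element of order `a`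
  of `N`; hence `N E` has an element of order `t * a`.
-/

set_option autoImplicit false

namespace Cfsg.Agent.Lib.H12.S3814A3

universe u

open Pointwise

variable {G : Type u} [Group G] [Finite G]

/-- an element of order prime to the index of a Hall subgroup is conjugate into it -/
theorem exists_conj_mem_hall [Group.IsSolvable G] {m n : ℕ} (hG : Nat.card G = m * n)
    (hmn : m.Coprime n) (H : Subgroup G) (hH : Nat.card H = m) (g : G)
    (hg : (orderOf g).Coprime n) : ∃ x : G, x * g * x⁻¹ ∈ H := by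
  have hK : (Nat.card (Subgroup.zpowers g)).Coprime n := by
    rw [Nat.card_zpowers]; exact hg
  obtain ⟨H', hH', hKH'⟩ := Cfsg.Agent.Lib.H1.hall_contain hG hmn (Subgroup.zpowers g) hK
  obtain ⟨x, hx⟩ := Cfsg.Agent.Lib.H1.hall_conj hG hmn H' H hH' hH
  refine ⟨x, ?_⟩
  rw [← hx]
  have hgH' : g ∈ H' := hKH' (Subgroup.mem_zpowers g)
  exact ⟨g, hgH', rfl⟩

/-- a Hall subgroup contains elements of every order prime to its index that occurs in `G` -/
theorem exists_orderOf_eq_in_hall [Group.IsSolvable G] {m n : ℕ} (hG : Nat.card G = m * n)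
    (hmn : m.Coprime n) (H : Subgroup G) (hH : Nat.card H = m) (g : G)
    (hg : (orderOf g).Coprime n) : ∃ h ∈ H, orderOf h = orderOf g := by
  obtain ⟨x, hx⟩ := exists_conj_mem_hall hG hmn H hH g hg
  refine ⟨x * g * x⁻¹, hx, ?_⟩
  exact orderOf_injective (MulAut.conj x).toMonoidHom (MulAut.conj x).injective g

/-- coprime generation with a witness: a noncyclic abelian `E` of order prime to `|N|` acting on
`N ≠ 1` has a nonidentity element with a nonidentity fixed point in `N` -/
theorem exists_fixed_of_noncyclic (N E : Subgroup G) [N.Normal] [IsMulCommutative E]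
    (hE : ¬ IsCyclic E) (hcop : (Nat.card E).Coprime (Nat.card N)) (hN : N ≠ ⊥) :
    ∃ e ∈ E, e ≠ 1 ∧ ∃ n ∈ N, n ≠ 1 ∧ Commute e n := by
  have hEN : E ≤ Subgroup.normalizer (N : Set G) := by
    rw [Subgroup.normalizer_eq_top]
    exact le_top
  have hgen := Cfsg.Agent.S0058.result E N hE hEN hcop
  by_contra hcon
  push Not at hcon
  apply hN
  rw [← hgen]
  rw [eq_bot_iff]
  apply iSup₂_le
  intro e he
  obtain ⟨heE, he1⟩ := he
  intro n hn
  rw [Subgroup.mem_inf] at hn
  rw [Subgroup.mem_bot]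
  by_contra hn1
  have hc : Commute e n := by
    have := Subgroup.mem_centralizer_iff.mp hn.2 e (Set.mem_singleton e)
    exact this
  exact hcon e heE he1 n hn.1 hn1 hc

/-- the element of order `t * a` in `N E` -/
theorem exists_orderOf_eq_mul (N E : Subgroup G) [N.Normal] [IsMulCommutative E]
    {a t : ℕ} (ha : a.Prime) (ht : t.Prime) (hat : a ≠ t) (hNa : IsPGroup a N)
    (hEt : ∀ e ∈ E, e ^ t = 1) (hE : ¬ IsCyclic E) (hN : N ≠ ⊥) :
    ∃ e ∈ E, ∃ n ∈ N, orderOf e = t ∧ orderOf n = a ∧ Commute e n ∧ orderOf (e * n) = t * a := by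
  have : Fact a.Prime := ⟨ha⟩
  have : Fact t.Prime := ⟨ht⟩
  have hEp : IsPGroup t E := by
    intro e
    refine ⟨1, ?_⟩
    rw [pow_one]
    exact Subtype.ext (hEt e e.2)
  have hcop : (Nat.card E).Coprime (Nat.card N) := by
    obtain ⟨i, hi⟩ := IsPGroup.iff_card.mp hEp
    obtain ⟨j, hj⟩ := IsPGroup.iff_card.mp hNa
    rw [hi, hj]
    exact Nat.Coprime.pow _ _ ((Nat.coprime_primes ht ha).mpr (Ne.symm hat))
  obtain ⟨e, heE, he1, n, hnN, hn1, hc⟩ := exists_fixed_of_noncyclic N E hE hcop hN
  have heo : orderOf e = t := orderOf_eq_prime (hEt e heE) he1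
  -- a power of `n` of order `a`
  obtain ⟨k, hk⟩ := (IsPGroup.iff_orderOf.mp hNa) ⟨n, hnN⟩
  have hk' : orderOf n = a ^ k := by
    rw [← Subgroup.orderOf_coe] at hk
    exact hk
  have hk0 : k ≠ 0 := by
    intro h
    rw [h, pow_zero, orderOf_eq_one_iff] at hk'
    exact hn1 hk'
  obtain ⟨k', rfl⟩ : ∃ k', k = k' + 1 := ⟨k - 1, by omega⟩
  set n' := n ^ (a ^ k') with hn'
  have hn'o : orderOf n' = a := by
    have h1 : orderOf n ≠ 0 := by rw [hk']; exact pow_ne_zero _ ha.ne_zero
    have h2 : a ∣ orderOf n := by rw [hk']; exact dvd_pow_self a (by omega)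
    have h3 := orderOf_pow_orderOf_div h1 h2
    have h4 : orderOf n / a = a ^ k' := by
      rw [hk', pow_succ, Nat.mul_div_cancel _ ha.pos]
    rw [h4] at h3
    exact h3
  have hc' : Commute e n' := hc.pow_right _
  refine ⟨e, heE, n', N.pow_mem hnN _, heo, hn'o, hc', ?_⟩
  have hcop' : Nat.Coprime (orderOf e) (orderOf n') := by
    rw [heo, hn'o]
    exact (Nat.coprime_primes ht ha).mpr (Ne.symm hat)
  rw [hc'.orderOf_mul_eq_mul_orderOf_of_coprime hcop', heo, hn'o]

end Cfsg.Agent.Lib.H12.S3814A3
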