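import Cfsg.Agent.Lib.H27.S3814C1Defs
import Cfsg.Agent.Lib.H4.S3814NSyl

/-!
# S3814, Case 1, piece (11) A0UNIQ (helper12, twin)

`a0uniq : Cfsg.Agent.H27.S3814C1.A0UniqStmt.{u}`: `A0 = C_X(M)` has at most one subgroup of
prime order.  Route of the docstring: `A0` is a `q`-group; a central element of order `q`
gives a rank-2 pair together with `y` or with `z`; coprime generation (helper4's
`rank2_fixed`) on `C_V(x_g)`, `x_g` the good element of `M`; `x_g e` has order `c q` and a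
fixed point on `V`, against `KFacts.n1`.
-/

set_option autoImplicit false

namespace Cfsg.Agent.Lib.H12.S3814C1A0Uniq

open Cfsg.Agent.H7.S3814Defs Cfsg.Agent.H27.S3814C1

universe u

/-- An element commuting with `x` normalises `C_V(x)` for a normal `V`. -/
theorem mem_normalizer_inf_centralizer {G : Type*} [Group G] (V : Subgroup G) (hV : V.Normal)
    {e x : G} (h : e * x = x * e) :
    e ∈ Subgroup.normalizer
      ((V ⊓ Subgroup.centralizer ({x} : Set G) : Subgroup G) : Set G) := by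
  have hxe : Commute x e := h.symm
  rw [Subgroup.mem_normalizer_iff]
  intro n
  simp only [Subgroup.mem_inf, Subgroup.mem_centralizer_iff, Set.mem_singleton_iff, forall_eq]
  constructor
  · rintro ⟨hn, hc⟩
    have hxn : Commute x n := hc
    exact ⟨hV.conj_mem n hn e, ((hxe.mul_right hxn).mul_right hxe.inv_right).eq⟩
  · rintro ⟨hn, hc⟩
    have hxn : Commute x (e * n * e⁻¹) := hc
    have h1 : n = e⁻¹ * (e * n * e⁻¹) * e⁻¹⁻¹ := by group
    constructor
    · rw [h1]; exact hV.conj_mem _ hn e⁻¹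
    · have h2 : Commute x (e⁻¹ * (e * n * e⁻¹) * e⁻¹⁻¹) :=
        (hxe.inv_right.mul_right hxn).mul_right hxe.inv_right.inv_right
      rw [← h1] at h2
      exact h2.eq

theorem a0uniq : A0UniqStmt.{u} := by
  intro G _ σ p V K c M X t t' h hP y hy z hz hcy hcz hpy hoz
  by_contra hzy
  haveI : Finite G := h.c0.cex.fin
  have hq : (orderOf y).Prime := hpy
  haveI : Fact (orderOf y).Prime := ⟨hq⟩
  -- `A0`
  set A0 : Subgroup G := X ⊓ Subgroup.centralizer (M : Set G) with hA0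
  have hmemA0 : ∀ x : G, x ∈ A0 ↔ x ∈ X ∧ Cent x M := by
    intro x
    rw [hA0, Subgroup.mem_inf, Subgroup.mem_centralizer_iff]
    constructor
    · rintro ⟨h1, h2⟩
      exact ⟨h1, fun m hm => (h2 m hm).symm⟩
    · rintro ⟨h1, h2⟩
      exact ⟨h1, fun m hm => (h2 m hm).symm⟩
  have hyA : y ∈ A0 := (hmemA0 y).2 ⟨hy, hcy⟩
  have hzA : z ∈ A0 := (hmemA0 z).2 ⟨hz, hcz⟩
  have hy1 : y ≠ 1 := by
    intro h1
    rw [h1, orderOf_one] at hq
    exact Nat.not_prime_one hq
  -- `A0` is a `q`-group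
  have hA0p : IsPGroup (orderOf y) A0 := by
    apply IsPGroup.of_card (n := (Nat.card A0).primeFactorsList.length)
    apply Nat.eq_prime_pow_of_unique_prime_dvd Nat.card_pos.ne'
    intro d hd hdvd
    haveI : Fact d.Prime := ⟨hd⟩
    obtain ⟨w, hw⟩ := exists_prime_orderOf_dvd_card' d hdvd
    have hwA := (hmemA0 (w : G)).1 w.2
    have hwo : orderOf (w : G) = d := by rw [Subgroup.orderOf_coe, hw]
    have := hP (w : G) hwA.1 y hy hwA.2 hcy (by rw [hwo]; exact hd) hpy
    rw [← hwo, this]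
  -- a central element of order `q`
  haveI : Nontrivial A0 := ⟨⟨⟨y, hyA⟩, 1, fun h1 => hy1 (congrArg Subtype.val h1)⟩⟩
  haveI : Nontrivial (Subgroup.center A0) := hA0p.center_nontrivial
  have hcp : IsPGroup (orderOf y) (Subgroup.center A0) := hA0p.to_subgroup _
  obtain ⟨k, hk⟩ := IsPGroup.iff_card.mp hcp
  have hk0 : k ≠ 0 := by
    intro h0
    rw [h0, pow_zero] at hk
    have := Finite.one_lt_card (α := Subgroup.center A0)
    omega
  have hdvd : orderOf y ∣ Nat.card (Subgroup.center A0) := by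
    rw [hk]; exact dvd_pow_self _ hk0
  obtain ⟨z0, hz0⟩ := exists_prime_orderOf_dvd_card' (orderOf y) hdvd
  have hz0o : orderOf ((z0 : A0) : G) = orderOf y := by
    rw [Subgroup.orderOf_coe, Subgroup.orderOf_coe, hz0]
  have hz0A : ((z0 : A0) : G) ∈ A0 := (z0 : A0).2
  have hz0c : ∀ a ∈ A0, ((z0 : A0) : G) * a = a * ((z0 : A0) : G) := by
    intro a ha
    have := Subgroup.mem_center_iff.1 z0.2 ⟨a, ha⟩
    exact (congrArg Subtype.val this).symm
  -- the rank-2 pair
  obtain ⟨e₂, he₂A, he₂o, hye₂, he₂n⟩ : ∃ e₂ ∈ A0, orderOf e₂ = orderOf y ∧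
      y * e₂ = e₂ * y ∧ e₂ ∉ Subgroup.zpowers y := by
    by_cases hz0y : ((z0 : A0) : G) ∈ Subgroup.zpowers y
    · -- `⟨y⟩ = ⟨z0⟩` is central
      have hle : Subgroup.zpowers ((z0 : A0) : G) ≤ Subgroup.zpowers y :=
        Subgroup.zpowers_le.2 hz0y
      have hcard : Nat.card (Subgroup.zpowers y) ≤ Nat.card (Subgroup.zpowers ((z0 : A0) : G)) := by
        rw [Nat.card_zpowers, Nat.card_zpowers, hz0o]
      have heq : Subgroup.zpowers ((z0 : A0) : G) = Subgroup.zpowers y :=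
        Subgroup.eq_of_le_of_card_ge hle hcard
      have hyz0 : y ∈ Subgroup.zpowers ((z0 : A0) : G) := by
        rw [heq]; exact Subgroup.mem_zpowers y
      obtain ⟨i, hi⟩ := Subgroup.mem_zpowers_iff.1 hyz0
      refine ⟨z, hzA, hoz, ?_, hzy⟩
      rw [← hi]
      have hc : Commute ((z0 : A0) : G) z := hz0c z hzA
      exact (hc.zpow_left i).eq
    · exact ⟨((z0 : A0) : G), hz0A, hz0o, (hz0c y hyA).symm, hz0y⟩
  -- the good element of `M`
  obtain ⟨xg, hxgM, hoxg, hnf⟩ := h.good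
  unfold Fpf at hnf
  push Not at hnf
  obtain ⟨v, hvV, hvc, hv1⟩ := hnf
  have hVn : V.Normal := h.c0.shape.normal
  have hpP : p.Prime := h.c0.cex.prime p h.c0.shape.hp
  haveI : Fact p.Prime := ⟨hpP⟩
  set N : Subgroup G := V ⊓ Subgroup.centralizer ({xg} : Set G) with hN
  have hvN : v ∈ N := by
    rw [hN, Subgroup.mem_inf, Subgroup.mem_centralizer_iff]
    refine ⟨hvV, ?_⟩
    intro m hm
    rw [Set.mem_singleton_iff.1 hm]
    exact hvc
  have hNne : N ≠ ⊥ := by
    intro hb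
    rw [hb, Subgroup.mem_bot] at hvN
    exact hv1 hvN
  -- `q ∣ |X|`, so `q ∣ |K|`, `q ∈ σ`, `q ≠ p`, `q ≠ c`
  have hqX : orderOf y ∣ Nat.card X := by
    have := orderOf_dvd_natCard (⟨y, hy⟩ : X)
    rwa [Subgroup.orderOf_mk] at this
  have hqK : orderOf y ∣ Nat.card K := hqX.trans (Subgroup.card_dvd_of_le h.compl.le)
  obtain ⟨hqσ, hqp⟩ := h.c0.kf.primes (orderOf y) hq hqK
  have hqc : orderOf y ≠ c := by
    intro hqc
    have hcop := h.compl.cop
    have h2 : c ∣ Nat.gcd (Nat.card X) c := Nat.dvd_gcd (hqc ▸ hqX) dvd_rfl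
    rw [Nat.Coprime.gcd_eq_one hcop] at h2
    exact h.c0.hc.one_lt.ne' (Nat.dvd_one.1 h2)
  -- `|N|` is prime to `q`
  have hVp : IsPGroup p V := fun v' => ⟨1, by
    rw [pow_one]
    exact Subtype.ext (h.c0.shape.elem.2 v' v'.2)⟩
  have hNp : IsPGroup p N := hVp.to_le inf_le_left
  obtain ⟨kN, hkN⟩ := IsPGroup.iff_card.mp hNp
  have hcop : (Nat.card N).Coprime (orderOf y) := by
    rw [hkN]
    exact Nat.Coprime.pow_left kN ((Nat.coprime_primes hpP hq).2 (Ne.symm hqp))
  -- the pair normalises `N`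
  have hyxg : y * xg = xg * y := hcy xg hxgM
  have he₂xg : e₂ * xg = xg * e₂ := ((hmemA0 e₂).1 he₂A).2 xg hxgM
  obtain ⟨x, hxcl, hxo, n, hnN, hn1, hnx⟩ :=
    Cfsg.Agent.Lib.H4.S3814NSyl.rank2_fixed hq N hNne hcop y e₂ rfl he₂o hye₂ he₂n
      (mem_normalizer_inf_centralizer V hVn hyxg) (mem_normalizer_inf_centralizer V hVn he₂xg)
  -- `x ∈ A0`
  have hxA : x ∈ A0 := by
    have hle : Subgroup.closure ({e₂, y} : Set G) ≤ A0 := by
      rw [Subgroup.closure_le]
      intro a ha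
      rcases ha with rfl | ha
      · exact he₂A
      · rw [Set.mem_singleton_iff.1 ha]; exact hyA
    exact hle hxcl
  have hxX : x ∈ X := ((hmemA0 x).1 hxA).1
  have hxxg : Commute xg x := (((hmemA0 x).1 hxA).2 xg hxgM).symm
  -- the element `xg * x` of order `c * q`
  have hgK : xg * x ∈ K := K.mul_mem (h.c0.hMK hxgM) (h.compl.le hxX)
  have hcq : Nat.Coprime (orderOf xg) (orderOf x) := by
    rw [hoxg, hxo]
    exact (Nat.coprime_primes h.c0.hc hq).2 (Ne.symm hqc)
  have hgo : orderOf (xg * x) = c * orderOf y := by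
    rw [hxxg.orderOf_mul_eq_mul_orderOf_of_coprime hcq, hoxg, hxo]
  have hfpf : Fpf (xg * x) V :=
    h.c0.kf.n1 (xg * x) hgK c h.oth.hc (orderOf y) hqσ h.oth.cp hqp (Ne.symm hqc)
      (by rw [hgo])
  have hnV : n ∈ V := (Subgroup.mem_inf.1 hnN).1
  have hnxg : Commute xg n := by
    have := Subgroup.mem_centralizer_iff.1 (Subgroup.mem_inf.1 hnN).2 xg (Set.mem_singleton xg)
    exact this
  have hxn : Commute x n := hnx.symm
  exact hn1 (hfpf n hnV ((hnxg.mul_left hxn).eq))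

example : A0UniqStmt.{0} := a0uniq

end Cfsg.Agent.Lib.H12.S3814C1A0Uniq
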