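import Cfsg.Agent.Lib.H27.S3814C1Defs
import Cfsg.Agent.Lib.H7.DihedralLemma2
import Cfsg.Agent.Lib.H1.Fitting

/-!
# S3814, Case 1, piece (19) A12 (helper12)

`a12 : Cfsg.Agent.H27.S3814C1.A12Stmt.{u}`: in `X1 = C_X(u0)` (a solvable `{t,t'}`-group
with `O_{t'}(X1) = 1`) the Fitting subgroup is `O_t(X1)`, a `t`-group which is
self-centralising in `X1`.
-/

set_option autoImplicit false

namespace Cfsg.Agent.Lib.H12.S3814C1A12

open Cfsg.Agent.H7.S3814Defs Cfsg.Agent.H27.S3814C1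

universe u

/-- The image in `G` of a normal subgroup of `↥L` is normalised by `L`. -/
theorem le_normalizer_map_subtype_of_normal {G : Type*} [Group G] (L : Subgroup G)
    (N : Subgroup ↥L) (hN : N.Normal) :
    L ≤ Subgroup.normalizer ((N.map L.subtype : Subgroup G) : Set G) := by
  intro x hx
  rw [Subgroup.mem_normalizer_iff]
  intro y
  constructor
  · rintro ⟨n, hn, rfl⟩
    exact ⟨⟨x, hx⟩ * n * ⟨x, hx⟩⁻¹, hN.conj_mem n hn ⟨x, hx⟩, by simp⟩
  · rintro ⟨n, hn, hny⟩
    refine ⟨⟨x, hx⟩⁻¹ * n * ⟨x, hx⟩, ?_, ?_⟩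
    · have := hN.conj_mem n hn ⟨x, hx⟩⁻¹
      simpa using this
    · have h1 : (L.subtype n : G) = x * y * x⁻¹ := hny
      simp only [Subgroup.subtype_apply, Subgroup.coe_mul, Subgroup.coe_inv] at h1 ⊢
      rw [h1]
      group

theorem a12 : A12Stmt.{u} := by
  intro G _ σ p V K c M X t t' u0 h a11
  haveI : Finite G := h.c1.c0.cex.fin
  haveI : Group.IsSolvable G := h.c1.c0.cex.sol
  have ht : t.Prime := h.c1.c0.cex.prime t h.c1.oth.ht
  have ht' : t'.Prime := h.c1.c0.cex.prime t' h.c1.oth.ht'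
  have hLs : Group.IsSolvable ↥(X1 X u0) := inferInstance
  -- the primes of `X1`
  have hprimes : ∀ q : ℕ, q.Prime → q ∣ Nat.card ↥(X1 X u0) → q = t ∨ q = t' := by
    intro q hq hqL
    have hLX : X1 X u0 ≤ X := inf_le_left
    have hqX : q ∣ Nat.card X := hqL.trans (Subgroup.card_dvd_of_le hLX)
    have hqK : q ∣ Nat.card K := hqX.trans (Subgroup.card_dvd_of_le h.c1.compl.le)
    obtain ⟨hqσ, hqp⟩ := h.c1.c0.kf.primes q hq hqK
    rcases h.c1.oth.all q hqσ with h1 | h1 | h1 | h1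
    · exact absurd h1 hqp
    · exfalso
      subst h1
      have hcop := h.c1.compl.cop
      have h2 : q ∣ Nat.gcd (Nat.card X) q := Nat.dvd_gcd hqX dvd_rfl
      rw [Nat.Coprime.gcd_eq_one hcop] at h2
      exact hq.one_lt.ne' (Nat.dvd_one.1 h2)
    · exact Or.inl h1
    · exact Or.inr h1
  -- `F(X1) = O_t(X1)`
  have hF : Cfsg.fittingSubgroup ↥(X1 X u0) = Cfsg.pCore t ↥(X1 X u0) := by
    rw [Cfsg.Agent.Lib.H1.fittingSubgroup_eq_iSup_pCore]
    apply le_antisymm
    · apply iSup_le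
      intro q
      haveI : Fact (q : ℕ).Prime := ⟨q.2⟩
      by_cases hqt : (q : ℕ) = t
      · rw [hqt]
      · have hbot : Cfsg.pCore (q : ℕ) ↥(X1 X u0) = ⊥ := by
          by_cases hqt' : (q : ℕ) = t'
          · rw [hqt']
            haveI : Fact t'.Prime := ⟨ht'⟩
            have h1 := a11 ((Cfsg.pCore t' ↥(X1 X u0)).map (X1 X u0).subtype)
              (Subgroup.map_subtype_le _)
              (le_normalizer_map_subtype_of_normal _ _
                (Cfsg.Agent.Lib.H1.pCore_normal t' ↥(X1 X u0)))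
              ((Cfsg.Agent.Lib.H1.pCore_isPGroup t' ↥(X1 X u0)).map _)
            exact (Subgroup.map_eq_bot_iff_of_injective _ (X1 X u0).subtype_injective).1 h1
          · apply Cfsg.Agent.Lib.H1.pCore_eq_bot_of_not_dvd
            intro hd
            rcases hprimes q q.2 hd with h1 | h1
            · exact hqt h1
            · exact hqt' h1
        rw [hbot]; exact bot_le
    · exact le_iSup (fun q : Nat.Primes => Cfsg.pCore (q : ℕ) ↥(X1 X u0)) ⟨t, ht⟩
  refine ⟨(Cfsg.fittingSubgroup ↥(X1 X u0)).map (X1 X u0).subtype,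
    Subgroup.map_subtype_le _, ?_, ?_, ?_⟩
  · exact le_normalizer_map_subtype_of_normal _ _
      (Cfsg.Agent.Lib.H1.fittingSubgroup_normal ↥(X1 X u0))
  · rw [hF]
    haveI : Fact t.Prime := ⟨ht⟩
    exact (Cfsg.Agent.Lib.H1.pCore_isPGroup t ↥(X1 X u0)).map _
  · intro x hx hcomm
    apply Cfsg.Agent.Lib.H7.inf_centralizer_fittingG_le (X1 X u0) hLs
    refine Subgroup.mem_inf.2 ⟨hx, ?_⟩
    rw [Subgroup.mem_centralizer_iff]
    intro a ha
    exact (hcomm a ha).symm

example : A12Stmt.{0} := a12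

end Cfsg.Agent.Lib.H12.S3814C1A12
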