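import Mathlib
import Cfsg.Agent.Lib.H7.S3814Defs2
import Cfsg.Agent.Lib.H1.SolvableBasic
import Cfsg.Agent.Lib.H1.IndexBasic

/-!
# S3814, piece DICH-ASM (helper12): the dichotomy from NSYL and NSTRUCT

`dichAsm : DichAsmStmt.{u}` in the exact shape of helper7's cut (`Lib/H7/S3814Defs2`).
-/

set_option autoImplicit false

namespace Cfsg.Agent.Lib.H12.S3814Dich

open Cfsg.Agent.H7.S3814Defs

universe u

variable {G : Type u} [Group G]

/-- Schur–Zassenhaus complement with its order -/
theorem exists_compl [Finite G] (N : Subgroup G) [N.Normal]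
    (hcop : (Nat.card N).Coprime N.index) :
    ∃ K : Subgroup G, Nat.card K = N.index ∧ N ⊓ K = ⊥ ∧ N ⊔ K = ⊤ := by
  obtain ⟨K, hK⟩ := Subgroup.exists_right_complement'_of_coprime hcop
  refine ⟨K, ?_, hK.disjoint.eq_bot, hK.sup_eq_top⟩
  have h1 := hK.card_mul_card
  have h2 := N.card_mul_index
  exact Nat.eq_of_mul_eq_mul_left Nat.card_pos (h1.trans h2.symm)

/-- a nontrivial normal subgroup of a finite solvable group contains a nontrivial normal
`t`-subgroup of the whole group -/
theorem exists_normal_pgroup_le [Finite G] [Group.IsSolvable G] (D : Subgroup G) [hDn : D.Normal]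
    (hD : D ≠ ⊥) :
    ∃ (t : ℕ) (T : Subgroup G), t.Prime ∧ T.Normal ∧ T ≠ ⊥ ∧ IsPGroup t T ∧ T ≤ D := by
  classical
  have : Nontrivial D := (Subgroup.nontrivial_iff_ne_bot D).mpr hD
  obtain ⟨D0, hD0c, hD0comm, hD0ne⟩ :=
    Cfsg.Agent.Lib.H1.exists_characteristic_commutative_ne_bot_of_isSolvable (G := D)
  set A : Subgroup G := D0.map D.subtype with hA
  have hAn : A.Normal := ConjAct.normal_of_characteristic_of_normal
  have hAD : A ≤ D := Subgroup.map_subtype_le D0
  have hAne : A ≠ ⊥ := by
    intro h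
    apply hD0ne
    exact (Subgroup.map_eq_bot_iff_of_injective D0 D.subtype_injective).mp h
  have hAcomm : ∀ x ∈ A, ∀ y ∈ A, x * y = y * x := by
    rintro x ⟨x', hx', rfl⟩ y ⟨y', hy', rfl⟩
    have := hD0comm.is_comm.comm (⟨x', hx'⟩ : D0) ⟨y', hy'⟩
    have h2 : x' * y' = y' * x' := congrArg Subtype.val this
    rw [← map_mul, ← map_mul, h2]
  have hcard : Nat.card A ≠ 1 := fun h => hAne (Subgroup.card_eq_one.mp h)
  obtain ⟨t, ht, htd⟩ := Nat.exists_prime_and_dvd hcard
  have : Fact t.Prime := ⟨ht⟩
  let T : Subgroup G :=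
    { carrier := {x | x ∈ A ∧ x ^ t = 1}
      mul_mem' := by
        rintro x y ⟨hx, hxt⟩ ⟨hy, hyt⟩
        refine ⟨A.mul_mem hx hy, ?_⟩
        have hc : Commute x y := hAcomm x hx y hy
        rw [hc.mul_pow, hxt, hyt, one_mul]
      one_mem' := ⟨A.one_mem, one_pow t⟩
      inv_mem' := by
        rintro x ⟨hx, hxt⟩
        exact ⟨A.inv_mem hx, by rw [inv_pow, hxt, inv_one]⟩ }
  have hTmem : ∀ x, x ∈ T ↔ x ∈ A ∧ x ^ t = 1 := fun x => Iff.rfl
  refine ⟨t, T, ht, ?_, ?_, ?_, ?_⟩
  · refine ⟨fun x hx g => ?_⟩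
    rw [hTmem] at hx ⊢
    refine ⟨hAn.conj_mem x hx.1 g, ?_⟩
    rw [conj_pow, hx.2, mul_one, mul_inv_cancel]
  · obtain ⟨x, hx⟩ := exists_prime_orderOf_dvd_card' (G := A) t htd
    intro hbot
    have hxT : (x : G) ∈ T := by
      rw [hTmem]
      refine ⟨x.2, ?_⟩
      have : x ^ t = 1 := by rw [← hx]; exact pow_orderOf_eq_one x
      have := congrArg Subtype.val this
      simpa using this
    rw [hbot, Subgroup.mem_bot] at hxT
    have hx1 : x = 1 := Subtype.ext hxT
    rw [hx1, orderOf_one] at hx
    exact ht.one_lt.ne hx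
  · intro g
    refine ⟨1, ?_⟩
    rw [pow_one]
    exact Subtype.ext ((hTmem g).mp g.2).2
  · intro x hx
    exact hAD ((hTmem x).mp hx).1

/-- **DICH-ASM** in the exact shape of the cut. -/
theorem dichAsm : DichAsmStmt.{u} := by
  intro hNS hST G _ σ hG hM
  classical
  haveI := hG.fin
  haveI := hG.sol
  have nsyl := hNS G σ hG hM
  have nstr := hST hNS G σ hG hM
  -- `G` is nontrivial
  have hnt : Nontrivial G := by
    have h1 : 1 < σ.card := by rw [hG.card4]; norm_num
    obtain ⟨p, hp, q, hq, hpq⟩ := Finset.one_lt_card.mp h1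
    obtain ⟨g, hg⟩ := hG.pairs p hp q hq hpq
    refine ⟨⟨g, 1, ?_⟩⟩
    intro h
    rw [h, orderOf_one] at hg
    have h2 := (hG.prime p hp).two_le
    have h3 := (hG.prime q hq).two_le
    nlinarith
  -- general facts on nontrivial normal `a`-subgroups
  have hcop : ∀ (a : ℕ) (N : Subgroup G), a.Prime → N.Normal → N ≠ ⊥ → IsPGroup a N →
      (Nat.card N).Coprime N.index := by
    intro a N ha hNn hN hNa
    haveI : Fact a.Prime := ⟨ha⟩
    obtain ⟨k, hk⟩ := IsPGroup.iff_card.mp hNa
    rw [hk]
    exact Nat.Coprime.pow_left k ((Nat.Prime.coprime_iff_not_dvd ha).mpr (nsyl a N ha hNn hN hNa))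
  have hdvd : ∀ (a : ℕ) (N : Subgroup G), a.Prime → N ≠ ⊥ → IsPGroup a N → a ∣ Nat.card N := by
    intro a N ha hN hNa
    haveI : Fact a.Prime := ⟨ha⟩
    obtain ⟨k, hk⟩ := IsPGroup.iff_card.mp hNa
    have hk0 : k ≠ 0 := by
      intro h
      rw [h, pow_zero] at hk
      exact hN (Subgroup.card_eq_one.mp hk)
    rw [hk]
    exact dvd_pow_self a hk0
  have hmem : ∀ (a : ℕ) (N : Subgroup G), a.Prime → N ≠ ⊥ → IsPGroup a N → a ∈ σ := by
    intro a N ha hN hNa
    exact hG.sgrp a ha (dvd_trans (hdvd a N ha hN hNa) (Subgroup.card_subgroup_dvd_card N))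
  -- a first prime
  obtain ⟨p, hpF, V, hVn, hVp, hVne⟩ :=
    Cfsg.Agent.Lib.H1.exists_normal_isPGroup_ne_bot_of_isSolvable (G := G)
  have hp : p.Prime := hpF.out
  have hpσ : p ∈ σ := hmem p V hp hVne hVp
  obtain ⟨hVe, hVmin⟩ := nstr p V hp hVn hVne hVp
  by_cases h2 : ∃ (q : ℕ) (W : Subgroup G), q.Prime ∧ q ≠ p ∧ W.Normal ∧ W ≠ ⊥ ∧ IsPGroup q W
  · -- shape (II)
    right
    obtain ⟨q, W, hq, hqp, hWn, hWne, hWq⟩ := h2
    have hqσ : q ∈ σ := hmem q W hq hWne hWq
    obtain ⟨hWe, -⟩ := nstr q W hq hWn hWne hWq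
    haveI := hVn
    haveI := hWn
    haveI : Fact q.Prime := ⟨hq⟩
    have hVWn : (V ⊔ W).Normal := inferInstance
    obtain ⟨i, hi⟩ := IsPGroup.iff_card.mp hVp
    obtain ⟨j, hj⟩ := IsPGroup.iff_card.mp hWq
    have hpq : Nat.Coprime p q := (Nat.coprime_primes hp hq).mpr (Ne.symm hqp)
    have hinf : W ⊓ V = ⊥ := by
      apply disjoint_iff.mp
      apply Subgroup.disjoint_of_coprime_natCard
      rw [hi, hj]
      exact Nat.Coprime.pow _ _ hpq.symm
    have hcardVW : Nat.card (V ⊔ W : Subgroup G) = p ^ i * q ^ j := by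
      have := Cfsg.Agent.Lib.H1.card_sup_mul_card_inf V W
      rw [hinf, Subgroup.card_bot, mul_one, hi, hj] at this
      exact this
    have hpi : ¬ p ∣ (V ⊔ W).index := by
      intro h
      exact nsyl p V hp hVn hVne hVp (dvd_trans h (Subgroup.index_dvd_of_le le_sup_left))
    have hqi : ¬ q ∣ (V ⊔ W).index := by
      intro h
      exact nsyl q W hq hWn hWne hWq (dvd_trans h (Subgroup.index_dvd_of_le le_sup_right))
    have hcopVW : (Nat.card (V ⊔ W : Subgroup G)).Coprime (V ⊔ W).index := by
      rw [hcardVW]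
      exact Nat.Coprime.mul_left
        (Nat.Coprime.pow_left i ((Nat.Prime.coprime_iff_not_dvd hp).mpr hpi))
        (Nat.Coprime.pow_left j ((Nat.Prime.coprime_iff_not_dvd hq).mpr hqi))
    obtain ⟨X, hXcard, hXinf, hXsup⟩ := exists_compl (V ⊔ W) hcopVW
    refine ⟨p, q, V, W, X, ?_⟩
    exact
      { hp := hpσ
        hq := hqσ
        hpq := Ne.symm hqp
        normalV := hVn
        normalW := hWn
        elemV := hVe
        elemW := hWe
        neV := hVne
        neW := hWne
        compl_inf := hXinf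
        compl_sup := hXsup
        coprimeP := by
          rw [hXcard]
          exact ((Nat.Prime.coprime_iff_not_dvd hp).mpr hpi).symm
        coprimeQ := by
          rw [hXcard]
          exact ((Nat.Prime.coprime_iff_not_dvd hq).mpr hqi).symm }
  · -- shape (I)
    left
    haveI := hVn
    obtain ⟨K, hKcard, hKinf, hKsup⟩ := exists_compl V (hcop p V hp hVn hVne hVp)
    have hKp : (Nat.card K).Coprime p := by
      rw [hKcard]
      exact ((Nat.Prime.coprime_iff_not_dvd hp).mpr (nsyl p V hp hVn hVne hVp)).symm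
    have hVC : ∀ v ∈ V, v ∈ Subgroup.centralizer (V : Set G) := by
      intro v hv
      rw [Subgroup.mem_centralizer_iff]
      intro w hw
      exact hVe.1 w hw v hv
    refine ⟨p, V, K, ?_⟩
    refine
      { hp := hpσ
        normal := hVn
        elem := hVe
        ne_bot := hVne
        compl_inf := hKinf
        compl_sup := hKsup
        coprime := hKp
        faithful := ?_
        irred := ?_ }
    · -- faithfulness
      intro k hkK hkc
      by_contra hk1
      -- `D = C_K(V)` is a normal subgroup of `G`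
      let D : Subgroup G := Subgroup.centralizer (V : Set G) ⊓ K
      have hkD : k ∈ D := by
        refine Subgroup.mem_inf.mpr ⟨?_, hkK⟩
        rw [Subgroup.mem_centralizer_iff]
        intro v hv
        exact (hkc v hv).symm
      have hDn : D.Normal := by
        refine ⟨fun d hd g => ?_⟩
        obtain ⟨hdC, hdK⟩ := hd
        have hyC : g * d * g⁻¹ ∈ Subgroup.centralizer (V : Set G) :=
          (inferInstance : (Subgroup.centralizer (V : Set G)).Normal).conj_mem d hdC g
        have hytop : g * d * g⁻¹ ∈ (V ⊔ K : Subgroup G) := by rw [hKsup]; exact Subgroup.mem_top _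
        have hyset : g * d * g⁻¹ ∈ ((V ⊔ K : Subgroup G) : Set G) := hytop
        rw [Subgroup.normal_mul] at hyset
        obtain ⟨v, hv, k', hk', hvk⟩ := Set.mem_mul.mp hyset
        have hk'C : k' ∈ Subgroup.centralizer (V : Set G) := by
          have : k' = v⁻¹ * (g * d * g⁻¹) := by rw [← hvk]; group
          rw [this]
          exact Subgroup.mul_mem _ (Subgroup.inv_mem _ (hVC v hv)) hyC
        have hcomm : Commute v k' := by
          have := Subgroup.mem_centralizer_iff.mp hk'C v hv
          exact this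
        set o := orderOf d with ho
        have hyo : (g * d * g⁻¹) ^ o = 1 := by
          rw [conj_pow, ho, pow_orderOf_eq_one, mul_one, mul_inv_cancel]
        have hvo : v ^ o = 1 := by
          have h1 : v ^ o * k' ^ o = 1 := by rw [← hcomm.mul_pow, hvk, hyo]
          have h2 : v ^ o ∈ V ⊓ K := by
            refine ⟨V.pow_mem hv o, ?_⟩
            have : v ^ o = (k' ^ o)⁻¹ := eq_inv_of_mul_eq_one_left h1
            rw [this]
            exact K.inv_mem (K.pow_mem hk' o)
          rw [hKinf, Subgroup.mem_bot] at h2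
          exact h2
        have hop : Nat.Coprime o p := by
          have h1 : o ∣ Nat.card K := by
            have := orderOf_dvd_natCard (⟨d, hdK⟩ : K)
            rwa [Subgroup.orderOf_mk] at this
          exact Nat.Coprime.coprime_dvd_left h1 hKp
        have hv1 : v = 1 := by
          have := (pow_gcd_eq_one (a := v) (m := o) (n := p)).mpr ⟨hvo, hVe.2 v hv⟩
          rwa [Nat.Coprime.gcd_eq_one hop, pow_one] at this
        rw [hv1, one_mul] at hvk
        refine ⟨hyC, ?_⟩
        rw [← hvk]
        exact hk'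
      have hDne : D ≠ ⊥ := by
        intro h
        rw [h, Subgroup.mem_bot] at hkD
        exact hk1 hkD
      obtain ⟨t, T, ht, hTn, hTne, hTt, hTD⟩ := exists_normal_pgroup_le D hDne
      apply h2
      refine ⟨t, T, ht, ?_, hTn, hTne, hTt⟩
      intro htp
      have h1 : t ∣ Nat.card K :=
        dvd_trans (hdvd t T ht hTne hTt)
          (Subgroup.card_dvd_of_le (le_trans hTD inf_le_right))
      rw [htp] at h1
      have := Nat.Coprime.eq_one_of_dvd hKp.symm h1
      exact hp.one_lt.ne' this
    · -- irreducibility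
      intro U hUV hKU
      have hUn : U.Normal := by
        rw [← Subgroup.normalizer_eq_top_iff, eq_top_iff, ← hKsup]
        apply sup_le _ hKU
        intro v hv
        rw [Subgroup.mem_normalizer_iff]
        intro h
        constructor
        · intro hh
          have : v * h * v⁻¹ = h := by
            rw [hVe.1 v hv h (hUV hh), mul_assoc, mul_inv_cancel, mul_one]
          rw [this]
          exact hh
        · intro hh
          have hu : v * h * v⁻¹ ∈ V := hUV hh
          have : h = v * h * v⁻¹ := by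
            have h3 : v⁻¹ * (v * h * v⁻¹) * v = h := by group
            have h4 : v⁻¹ * (v * h * v⁻¹) * v = v * h * v⁻¹ := by
              rw [mul_assoc, hVe.1 (v * h * v⁻¹) hu v hv, ← mul_assoc, inv_mul_cancel, one_mul]
            exact h3.symm.trans h4
          rw [this]
          exact hh
      exact hVmin U hUn hUV

example : DichAsmStmt.{0} := dichAsm

end Cfsg.Agent.Lib.H12.S3814Dich
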