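import Mathlib
import Cfsg.Agent.Lib.H8.S3814MPDefs
import Cfsg.Agent.S0058

/-!
# S3814, block (MP), piece (1) LINE (helper12)

`line : LineStmt.{u}` in the exact shape of helper8's cut, plus reusable facts on the subgroup
`closure {a, b}` of a rank-2 pair.
-/

set_option autoImplicit false

namespace Cfsg.Agent.Lib.H12.S3814MPLine

open Cfsg.Agent.H7.S3814Defs Cfsg.Agent.Lib.H8.S3814MP

universe u

variable {G : Type u} [Group G]

/-- elements of `closure {a, b}` commute with everything that commutes with `a` and `b` -/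
theorem commute_of_mem_closure_pair {a b z : G} (ha : a * z = z * a) (hb : b * z = z * b)
    {e : G} (he : e ∈ Subgroup.closure ({a, b} : Set G)) : e * z = z * e := by
  have hle : Subgroup.closure ({a, b} : Set G) ≤ Subgroup.centralizer ({z} : Set G) := by
    rw [Subgroup.closure_le]
    intro x hx
    rcases hx with rfl | hx
    · exact Subgroup.mem_centralizer_iff.mpr (fun h hh => by rw [Set.mem_singleton_iff.mp hh]; exact ha.symm)
    · rw [Set.mem_singleton_iff] at hx
      subst hx
      exact Subgroup.mem_centralizer_iff.mpr (fun h hh => by rw [Set.mem_singleton_iff.mp hh]; exact hb.symm)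
  have := Subgroup.mem_centralizer_iff.mp (hle he) z (Set.mem_singleton z)
  exact this.symm

/-- the closure of a commuting pair is commutative -/
theorem isMulCommutative_closure_pair {a b : G} (hab : a * b = b * a) :
    IsMulCommutative (Subgroup.closure ({a, b} : Set G)) := by
  apply Subgroup.isMulCommutative_closure
  intro x hx y hy
  rcases hx with rfl | hx <;> rcases hy with rfl | hy
  · rfl
  · rw [Set.mem_singleton_iff.mp hy]; exact hab
  · rw [Set.mem_singleton_iff.mp hx]; exact hab.symm
  · rw [Set.mem_singleton_iff.mp hx, Set.mem_singleton_iff.mp hy]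

/-- exponent `t` -/
theorem pow_eq_one_of_mem_closure_pair {t : ℕ} {a b : G} (hab : a * b = b * a) (hat : a ^ t = 1)
    (hbt : b ^ t = 1) {e : G} (he : e ∈ Subgroup.closure ({a, b} : Set G)) : e ^ t = 1 := by
  induction he using Subgroup.closure_induction with
  | mem x hx =>
    rcases hx with rfl | hx
    · exact hat
    · rw [Set.mem_singleton_iff.mp hx]; exact hbt
  | one => exact one_pow t
  | mul x y hx hy hxt hyt =>
    have hc : Commute x y := by
      have := (isMulCommutative_closure_pair hab).is_comm.comm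
        (⟨x, hx⟩ : Subgroup.closure ({a, b} : Set G)) ⟨y, hy⟩
      have h2 : x * y = y * x := congrArg Subtype.val this
      exact h2
    rw [hc.mul_pow, hxt, hyt, one_mul]
  | inv x hx hxt => rw [inv_pow, hxt, inv_one]

/-- forward normalisation by an element of finite order gives membership in the normaliser -/
theorem mem_normalizer_of_forward {t : ℕ} {a : G} (hat : a ^ t = 1) (ht : 0 < t) (U : Subgroup G)
    (h : ∀ u ∈ U, a * u * a⁻¹ ∈ U) : a ∈ Subgroup.normalizer (U : Set G) := by
  have hpow : ∀ n : ℕ, ∀ u ∈ U, a ^ n * u * (a ^ n)⁻¹ ∈ U := by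
    intro n
    induction n with
    | zero => intro u hu; simpa using hu
    | succ n ih =>
      intro u hu
      have := h _ (ih u hu)
      have e : a ^ (n + 1) * u * (a ^ (n + 1))⁻¹ = a * (a ^ n * u * (a ^ n)⁻¹) * a⁻¹ := by
        rw [pow_succ']; group
      rw [e]; exact this
  have hinv : a⁻¹ = a ^ (t - 1) := by
    have h1 : a ^ (t - 1) * a = 1 := by
      rw [← pow_succ, Nat.sub_add_cancel ht, hat]
    exact (eq_inv_of_mul_eq_one_left h1).symm
  rw [Subgroup.mem_normalizer_iff]
  intro u
  constructor
  · exact h u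
  · intro hu
    have := hpow (t - 1) _ hu
    rw [← hinv] at this
    have e : a⁻¹ * (a * u * a⁻¹) * a⁻¹⁻¹ = u := by group
    rw [e] at this
    exact this

/-- the closure of a rank-2 pair is not cyclic -/
theorem not_isCyclic_closure_pair [Finite G] {t : ℕ} (ht : t.Prime) {a b : G}
    (h : IsRank2Pair t a b) : ¬ IsCyclic (Subgroup.closure ({a, b} : Set G)) := by
  obtain ⟨hao, hbo, hab, hb⟩ := h
  intro hcyc
  set A := Subgroup.closure ({a, b} : Set G) with hA
  have hat : a ^ t = 1 := by rw [← hao]; exact pow_orderOf_eq_one a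
  have hbt : b ^ t = 1 := by rw [← hbo]; exact pow_orderOf_eq_one b
  obtain ⟨g, hg⟩ := hcyc.exists_generator
  have hgt : g ^ t = 1 := Subtype.ext (by
    have := pow_eq_one_of_mem_closure_pair hab hat hbt g.2
    simpa using this)
  have hcard : Nat.card A ∣ t := by
    rw [← orderOf_eq_card_of_forall_mem_zpowers hg]
    exact orderOf_dvd_of_pow_eq_one hgt
  have haA : a ∈ A := Subgroup.subset_closure (Set.mem_insert a _)
  have hbA : b ∈ A := Subgroup.subset_closure (Set.mem_insert_of_mem a (Set.mem_singleton b))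
  have hle : Subgroup.zpowers a ≤ A := (Subgroup.zpowers_le).mpr haA
  have hz : Nat.card (Subgroup.zpowers a) = t := by rw [Nat.card_zpowers, hao]
  have hge : Nat.card A ≤ Nat.card (Subgroup.zpowers a) := by
    rw [hz]; exact Nat.le_of_dvd ht.pos hcard
  have heq := Subgroup.eq_of_le_of_card_ge hle hge
  apply hb
  rw [heq]
  exact hbA

/-- the core of (LINE), without `Hyp` -/
theorem line_core [Finite G] {t : ℕ} (ht : t.Prime) {a b : G} (h : IsRank2Pair t a b)
    (U : Subgroup G) (hU : U ≠ ⊥)
    (hcop : (Nat.card (Subgroup.closure ({a, b} : Set G))).Coprime (Nat.card U))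
    (hna : ∀ u ∈ U, a * u * a⁻¹ ∈ U) (hnb : ∀ u ∈ U, b * u * b⁻¹ ∈ U) :
    ∃ e ∈ Subgroup.closure ({a, b} : Set G), e ≠ 1 ∧ Col e U := by
  have hnc := not_isCyclic_closure_pair ht h
  obtain ⟨hao, hbo, hab, hb⟩ := h
  have hat : a ^ t = 1 := by rw [← hao]; exact pow_orderOf_eq_one a
  have hbt : b ^ t = 1 := by rw [← hbo]; exact pow_orderOf_eq_one b
  haveI := isMulCommutative_closure_pair hab
  have hAU : Subgroup.closure ({a, b} : Set G) ≤ Subgroup.normalizer (U : Set G) := by
    rw [Subgroup.closure_le]
    intro x hx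
    rcases hx with rfl | hx
    · exact mem_normalizer_of_forward hat ht.pos U hna
    · rw [Set.mem_singleton_iff.mp hx]
      exact mem_normalizer_of_forward hbt ht.pos U hnb
  have hgen := Cfsg.Agent.S0058.result (Subgroup.closure ({a, b} : Set G)) U hnc hAU hcop
  by_contra hcon
  push Not at hcon
  apply hU
  rw [← hgen, eq_bot_iff]
  apply iSup₂_le
  intro e he
  obtain ⟨heA, he1⟩ := he
  intro v hv
  rw [Subgroup.mem_inf] at hv
  rw [Subgroup.mem_bot]
  by_contra hv1
  apply hcon e heA he1
  refine ⟨v, hv.1, hv1, ?_⟩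
  have := Subgroup.mem_centralizer_iff.mp hv.2 e (Set.mem_singleton e)
  exact this

/-- **PIECE (1) LINE** in the exact shape of the cut. -/
theorem line : LineStmt.{u} := by
  intro G _ _ r s V W X hyp t a b ht ha hb hpair U hUV hU hna hnb
  apply line_core ht hpair U hU _ hna hnb
  have hAX : Subgroup.closure ({a, b} : Set G) ≤ X := by
    rw [Subgroup.closure_le]
    intro x hx
    rcases hx with rfl | hx
    · exact ha
    · rw [Set.mem_singleton_iff.mp hx]; exact hb
  have h1 : Nat.card (Subgroup.closure ({a, b} : Set G)) ∣ Nat.card X :=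
    Subgroup.card_dvd_of_le hAX
  have h2 : Nat.card U ∣ Nat.card V := Subgroup.card_dvd_of_le hUV
  exact Nat.Coprime.coprime_dvd_left h1 (Nat.Coprime.coprime_dvd_right h2 hyp.copV.symm)

example : LineStmt.{0} := line

end Cfsg.Agent.Lib.H12.S3814MPLine
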