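import Mathlib
import Cfsg.Agent.Lib.H8.S3814MPDefs
import Cfsg.Agent.Lib.H12.S3814MPLine

/-!
# S3814, block (MP), piece (2) NCF (helper12)

`ncf : NcfStmt.{u}` in the exact shape of helper8's cut.
-/

set_option autoImplicit false

namespace Cfsg.Agent.Lib.H12.S3814MPNcf

open Cfsg.Agent.H7.S3814Defs Cfsg.Agent.Lib.H8.S3814MP Cfsg.Agent.Lib.H12.S3814MPLine

universe u

/-- an element of the normaliser normalises forward -/
theorem forward_of_mem_normalizer {G : Type u} [Group G] {x : G} {U : Subgroup G}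
    (hx : x ∈ Subgroup.normalizer (U : Set G)) : ∀ u ∈ U, x * u * x⁻¹ ∈ U :=
  fun u hu => (Subgroup.mem_normalizer_iff.mp hx u).mp hu

/-- **PIECE (2) NCF** in the exact shape of the cut. -/
theorem ncf : NcfStmt.{u} := by
  intro hL G _ _ r s V W X hyp t a b ht ha hb hpair v hv hav hbv
  by_contra hv1
  have hAX : Subgroup.closure ({a, b} : Set G) ≤ X := by
    rw [Subgroup.closure_le]
    intro x hx
    rcases hx with rfl | hx
    · exact ha
    · rw [Set.mem_singleton_iff.mp hx]; exact hb
  obtain ⟨e, heA, he1, heW⟩ := hL hyp.swapVW ht ha hb hpair W le_rfl hyp.neW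
    (forward_of_mem_normalizer (hyp.normW ha)) (forward_of_mem_normalizer (hyp.normW hb))
  have heV : Col e V := ⟨v, hv, hv1, commute_of_mem_closure_pair hav hbv heA⟩
  exact hyp.h1 e (hAX heA) he1 heV heW

example : NcfStmt.{0} := ncf

end Cfsg.Agent.Lib.H12.S3814MPNcf
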