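import Mathlib
import Cfsg.Agent.Lib.H8.S3814MPDefs
import Cfsg.Agent.Lib.H12.S3814MPLine
import Cfsg.Agent.Lib.H12.S3814MPNcf

/-!
# S3814, block (MP), piece (3) K1 (helper12)

`k1 : K1Stmt.{u}` in the exact shape of helper8's cut: no elementary abelian subgroup of rank 3.
-/

set_option autoImplicit false

namespace Cfsg.Agent.Lib.H12.S3814MPK1

open Cfsg.Agent.H7.S3814Defs Cfsg.Agent.Lib.H8.S3814MP Cfsg.Agent.Lib.H12.S3814MPLine
  Cfsg.Agent.Lib.H12.S3814MPNcf

universe u

variable {G : Type u} [Group G]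

/-- elements of the closure of a commuting pair are `a ^ m * b ^ n` -/
theorem exists_zpow_of_mem_closure_pair {a b : G} (hab : a * b = b * a) {x : G}
    (hx : x ∈ Subgroup.closure ({a, b} : Set G)) : ∃ m n : ℤ, x = a ^ m * b ^ n := by
  have hc : Commute a b := hab
  induction hx using Subgroup.closure_induction with
  | mem y hy =>
    rcases hy with rfl | hy
    · exact ⟨1, 0, by simp⟩
    · rw [Set.mem_singleton_iff.mp hy]; exact ⟨0, 1, by simp⟩
  | one => exact ⟨0, 0, by simp⟩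
  | mul y z _ _ hy hz =>
    obtain ⟨m, n, rfl⟩ := hy
    obtain ⟨m', n', rfl⟩ := hz
    refine ⟨m + m', n + n', ?_⟩
    have h1 : Commute (b ^ n) (a ^ m') := (hc.zpow_zpow m' n).symm
    calc a ^ m * b ^ n * (a ^ m' * b ^ n') = a ^ m * (b ^ n * a ^ m') * b ^ n' := by group
      _ = a ^ m * (a ^ m' * b ^ n) * b ^ n' := by rw [h1.eq]
      _ = a ^ (m + m') * b ^ (n + n') := by rw [zpow_add, zpow_add]; group
  | inv y _ hy =>
    obtain ⟨m, n, rfl⟩ := hy
    refine ⟨-m, -n, ?_⟩
    have h1 : Commute (a ^ m) (b ^ n) := hc.zpow_zpow m n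
    rw [mul_inv_rev, zpow_neg, zpow_neg]
    exact (h1.inv_inv).eq.symm

/-- `x` of prime order `t`, `x ^ n ∈ H`, `t ∤ n`: then `x ∈ H` -/
theorem mem_of_zpow_mem {t : ℕ} (ht : t.Prime) {x : G} (hx : orderOf x = t) (H : Subgroup G)
    (n : ℤ) (hn : ¬ (t : ℤ) ∣ n) (h : x ^ n ∈ H) : x ∈ H := by
  have hcop : Nat.Coprime t n.natAbs := by
    rw [Nat.Prime.coprime_iff_not_dvd ht]
    intro hd
    exact hn (Int.natCast_dvd.mpr hd)
  have hg : Int.gcd n (t : ℤ) = 1 := by
    rw [Int.gcd_comm]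
    simpa [Int.gcd] using hcop
  have hbez := Int.gcd_eq_gcd_ab n (t : ℤ)
  rw [hg] at hbez
  have hxt : x ^ (t : ℤ) = 1 := by rw [zpow_natCast, ← hx]; exact pow_orderOf_eq_one x
  have : x = (x ^ n) ^ (Int.gcdA n t) := by
    calc x = x ^ (1 : ℤ) := (zpow_one x).symm
      _ = x ^ (n * Int.gcdA n t + t * Int.gcdB n t) := by rw [← hbez]; simp
      _ = (x ^ n) ^ (Int.gcdA n t) * (x ^ (t : ℤ)) ^ (Int.gcdB n t) := by
        rw [zpow_add, zpow_mul, zpow_mul]
      _ = (x ^ n) ^ (Int.gcdA n t) := by rw [hxt, one_zpow, mul_one]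
  rw [this]
  exact H.zpow_mem h _

/-- `x ^ n = 1` when the prime order of `x` divides `n` -/
theorem zpow_eq_one_of_dvd {t : ℕ} {x : G} (hx : orderOf x = t) {n : ℤ} (hn : (t : ℤ) ∣ n) :
    x ^ n = 1 := by
  rw [← hx] at hn
  exact orderOf_dvd_iff_zpow_eq_one.mp hn

/-- order of a nonidentity element of exponent `t` -/
theorem orderOf_eq_of_mem_closure_pair {t : ℕ} (ht : t.Prime) {a b : G} (hab : a * b = b * a)
    (hao : orderOf a = t) (hbo : orderOf b = t) {x : G}
    (hx : x ∈ Subgroup.closure ({a, b} : Set G)) (hx1 : x ≠ 1) : orderOf x = t := by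
  haveI : Fact t.Prime := ⟨ht⟩
  have hat : a ^ t = 1 := by rw [← hao]; exact pow_orderOf_eq_one a
  have hbt : b ^ t = 1 := by rw [← hbo]; exact pow_orderOf_eq_one b
  exact orderOf_eq_prime (pow_eq_one_of_mem_closure_pair hab hat hbt hx) hx1

/-- **PIECE (3) K1** in the exact shape of the cut. -/
theorem k1 : K1Stmt.{u} := by
  intro hL hN G _ _ r s V W X hyp t e f g ht he hf hg heo hfo hgo hef heg hfg hfe hgef
  -- closures inside `X`
  have hclX : ∀ {a b : G}, a ∈ X → b ∈ X → Subgroup.closure ({a, b} : Set G) ≤ X := by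
    intro a b ha hb
    rw [Subgroup.closure_le]
    intro x hx
    rcases hx with rfl | hx
    · exact ha
    · rw [Set.mem_singleton_iff.mp hx]; exact hb
  have heA : e ∈ Subgroup.closure ({e, f} : Set G) := Subgroup.subset_closure (Set.mem_insert e _)
  have hfA : f ∈ Subgroup.closure ({e, f} : Set G) :=
    Subgroup.subset_closure (Set.mem_insert_of_mem e (Set.mem_singleton f))
  -- a `V`-coloured element `e'` of `⟨e, f⟩`
  obtain ⟨e', he'A, he'1, v0, hv0V, hv01, hv0c⟩ := hL hyp ht he hf ⟨heo, hfo, hef, hfe⟩ V le_rfl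
    hyp.neV (forward_of_mem_normalizer (hyp.normV he)) (forward_of_mem_normalizer (hyp.normV hf))
  have he'X : e' ∈ X := hclX he hf he'A
  have he'o : orderOf e' = t := orderOf_eq_of_mem_closure_pair ht hef heo hfo he'A he'1
  -- `e'` commutes with `e, f, g`
  have hce : e' * e = e * e' := commute_of_mem_closure_pair rfl hef.symm he'A
  have hcf : e' * f = f * e' := commute_of_mem_closure_pair hef rfl he'A
  have hcg : e' * g = g * e' := commute_of_mem_closure_pair heg hfg he'A
  -- the fixed points of `e'` on `V`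
  let U : Subgroup G := V ⊓ Subgroup.centralizer ({e'} : Set G)
  have hUV : U ≤ V := inf_le_left
  have hUmem : ∀ u, u ∈ U ↔ u ∈ V ∧ e' * u = u * e' := by
    intro u
    constructor
    · intro hu
      refine ⟨hu.1, ?_⟩
      exact Subgroup.mem_centralizer_iff.mp hu.2 e' (Set.mem_singleton e')
    · intro hu
      refine ⟨hu.1, Subgroup.mem_centralizer_iff.mpr ?_⟩
      intro h hh
      rw [Set.mem_singleton_iff.mp hh]
      exact hu.2
  have hUne : U ≠ ⊥ := by
    intro h
    have : v0 ∈ U := (hUmem v0).mpr ⟨hv0V, hv0c⟩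
    rw [h, Subgroup.mem_bot] at this
    exact hv01 this
  have hfwd : ∀ x ∈ X, e' * x = x * e' → ∀ u ∈ U, x * u * x⁻¹ ∈ U := by
    intro x hx hxc u hu
    rw [hUmem] at hu ⊢
    refine ⟨forward_of_mem_normalizer (hyp.normV hx) u hu.1, ?_⟩
    calc e' * (x * u * x⁻¹) = (e' * x) * u * x⁻¹ := by group
      _ = x * (e' * u) * x⁻¹ := by rw [hxc]; group
      _ = x * (u * e') * x⁻¹ := by rw [hu.2]
      _ = x * u * (e' * x⁻¹) := by group
      _ = x * u * (x⁻¹ * e') := by
        have : e' * x⁻¹ = x⁻¹ * e' := by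
          have h1 : Commute e' x := hxc
          exact h1.inv_right.eq
        rw [this]
      _ = x * u * x⁻¹ * e' := by group
  -- the final step: a pair `(f', g)` whose closure meets `⟨e'⟩` trivially
  have final : ∀ f' : G, f' ∈ X → orderOf f' = t → e' * f' = f' * e' → f' * g = g * f' →
      g ∉ Subgroup.zpowers f' →
      (∀ y ∈ Subgroup.closure ({f', g} : Set G), y ≠ 1 → y ∉ Subgroup.zpowers e') → False := by
    intro f' hf'X hf'o hcf' hf'g hgf' hmeet
    obtain ⟨y, hyA, hy1, v, hvU, hv1, hvy⟩ := hL hyp ht hf'X hg ⟨hf'o, hgo, hf'g, hgf'⟩ U hUV hUne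
      (hfwd f' hf'X hcf') (hfwd g hg hcg)
    have hyX : y ∈ X := hclX hf'X hg hyA
    have hyo : orderOf y = t := orderOf_eq_of_mem_closure_pair ht hf'g hf'o hgo hyA hy1
    have hye' : y * e' = e' * y := commute_of_mem_closure_pair hcf'.symm hcg.symm hyA
    have hvV := ((hUmem v).mp hvU)
    have := hN hyp ht he'X hyX ⟨he'o, hyo, hye'.symm, hmeet y hyA hy1⟩ v hvV.1 hvV.2 hvy
    exact hv1 this
  -- write `e' = e ^ i * f ^ j`
  obtain ⟨i, j, hij⟩ := exists_zpow_of_mem_closure_pair hef he'A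
  have hcef : Commute e f := hef
  by_cases hj : (t : ℤ) ∣ j
  · -- `e' = e ^ i`, use the pair `(f, g)`
    have hfj : f ^ j = 1 := zpow_eq_one_of_dvd hfo hj
    rw [hfj, mul_one] at hij
    have hgf : g ∉ Subgroup.zpowers f := by
      intro h
      apply hgef
      exact (Subgroup.zpowers_le.mpr hfA) h
    apply final f hf hfo hcf hfg hgf
    intro y hyA hy1 hyz
    obtain ⟨k, hk⟩ := Subgroup.mem_zpowers_iff.mp hyz
    obtain ⟨m, n, hmn⟩ := exists_zpow_of_mem_closure_pair hfg hyA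
    -- `f ^ m * g ^ n = e ^ (i * k)`
    have h1 : f ^ m * g ^ n = e ^ (i * k) := by
      rw [← hmn, ← hk, hij, ← zpow_mul]
    have hgn : g ^ n = (f ^ m)⁻¹ * e ^ (i * k) := by
      rw [← h1]; group
    have hn : (t : ℤ) ∣ n := by
      by_contra hn
      apply hgef
      apply mem_of_zpow_mem ht hgo _ n hn
      rw [hgn]
      exact Subgroup.mul_mem _ (Subgroup.inv_mem _ (Subgroup.zpow_mem _ hfA m))
        (Subgroup.zpow_mem _ heA _)
    rw [zpow_eq_one_of_dvd hgo hn, mul_one] at h1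
    have hm : (t : ℤ) ∣ m := by
      by_contra hm
      apply hfe
      apply mem_of_zpow_mem ht hfo _ m hm
      rw [h1]
      exact Subgroup.zpow_mem _ (Subgroup.mem_zpowers e) _
    apply hy1
    rw [hmn, zpow_eq_one_of_dvd hgo hn, zpow_eq_one_of_dvd hfo hm, mul_one]
  · -- use the pair `(e, g)`
    have hge : g ∉ Subgroup.zpowers e := by
      intro h
      apply hgef
      exact (Subgroup.zpowers_le.mpr heA) h
    apply final e he heo hce heg hge
    intro y hyA hy1 hyz
    obtain ⟨k, hk⟩ := Subgroup.mem_zpowers_iff.mp hyz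
    obtain ⟨m, n, hmn⟩ := exists_zpow_of_mem_closure_pair heg hyA
    -- `e ^ m * g ^ n = e ^ (i * k) * f ^ (j * k)`
    have h1 : e ^ m * g ^ n = e ^ (i * k) * f ^ (j * k) := by
      rw [← hmn, ← hk, hij, (hcef.zpow_zpow i j).mul_zpow, ← zpow_mul, ← zpow_mul]
    have hgn : g ^ n = (e ^ m)⁻¹ * (e ^ (i * k) * f ^ (j * k)) := by
      rw [← h1]; group
    have hn : (t : ℤ) ∣ n := by
      by_contra hn
      apply hgef
      apply mem_of_zpow_mem ht hgo _ n hn
      rw [hgn]
      exact Subgroup.mul_mem _ (Subgroup.inv_mem _ (Subgroup.zpow_mem _ heA m))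
        (Subgroup.mul_mem _ (Subgroup.zpow_mem _ heA _) (Subgroup.zpow_mem _ hfA _))
    rw [zpow_eq_one_of_dvd hgo hn, mul_one] at h1
    have hfjk : f ^ (j * k) = (e ^ (i * k))⁻¹ * e ^ m := by
      rw [h1]; group
    have hjk : (t : ℤ) ∣ j * k := by
      by_contra hjk
      apply hfe
      apply mem_of_zpow_mem ht hfo _ (j * k) hjk
      rw [hfjk]
      exact Subgroup.mul_mem _ (Subgroup.inv_mem _ (Subgroup.zpow_mem _ (Subgroup.mem_zpowers e) _))
        (Subgroup.zpow_mem _ (Subgroup.mem_zpowers e) _)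
    have hk' : (t : ℤ) ∣ k := by
      have hp : Prime (t : ℤ) := Nat.prime_iff_prime_int.mp ht
      rcases hp.dvd_or_dvd hjk with h | h
      · exact absurd h hj
      · exact h
    apply hy1
    rw [← hk]
    exact zpow_eq_one_of_dvd he'o hk'

example : K1Stmt.{0} := k1

end Cfsg.Agent.Lib.H12.S3814MPK1
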