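import Cfsg.Agent.Lib.H12.S4415G5e

/-!
helper12: S4415 GOOD block, FourStmt part (a): the product of the signs is `1` on `R = [R, b]`
(any number `n` of lines).
-/

set_option autoImplicit false

namespace Cfsg.Agent.Lib.H12.S4415G5a

open Cfsg.Agent.Lib.H10.S4415 Cfsg.Agent.Lib.H24.S4415G Cfsg.Agent.Lib.H12.S4415
  Cfsg.Agent.Lib.H12.S4415G5e

variable {S E : Type*} [Group S] [AddCommGroup E] [Module (ZMod 3) E]
variable {ρ : Representation (ZMod 3) S E} {R : Subgroup S} {b : S} {W : Submodule (ZMod 3) E}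
  {n : ℕ} {f : Fin n → E} {φ : ↥(RB R b) → Equiv.Perm (Fin n)}

/-- The product of the signs, as a monoid homomorphism to `ZMod 3`. -/
noncomputable def prodSg (hM : MonoFrame ρ R b W f φ) : ↥(RB R b) →* ZMod 3 where
  toFun g := ∏ i, sg ρ f φ g i
  map_one' := by
    simp only [sg_one hM, Finset.prod_const_one]
  map_mul' g h := by
    have h1 : ∀ i, sg ρ f φ (g * h) i = sg ρ f φ h i * sg ρ f φ g (φ h i) := sg_mul hM g h
    simp only [h1]
    rw [Finset.prod_mul_distrib, Equiv.prod_comp (φ h) (fun k => sg ρ f φ g k), mul_comm]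

theorem prodSg_apply (hM : MonoFrame ρ R b W f φ) (g : ↥(RB R b)) :
    prodSg hM g = ∏ i, sg ρ f φ g i := rfl

theorem prodSg_mul_inv (hM : MonoFrame ρ R b W f φ) (g : ↥(RB R b)) :
    prodSg hM g * prodSg hM g⁻¹ = 1 := by
  rw [← map_mul, mul_inv_cancel, map_one]

/-- Part (a): the product of the signs is `1` on `R = [R, b]`. -/
theorem prodSg_eq_one (hL : LinCtx ρ R b W) (hM : MonoFrame ρ R b W f φ) (r : ↥(RB R b))
    (hr : (r : S) ∈ R) : prodSg hM r = 1 := by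
  have hle : ⁅R, Subgroup.zpowers b⁆ ≤ (MonoidHom.ker (prodSg hM)).map (RB R b).subtype := by
    rw [Subgroup.commutator_le]
    intro g₁ hg₁ g₂ hg₂
    have h1 : g₁ ∈ RB R b := R_le_RB R b hg₁
    have h2 : g₂ ∈ RB R b := (le_sup_right : Subgroup.zpowers b ≤ RB R b) hg₂
    refine ⟨(⟨g₁, h1⟩ : ↥(RB R b)) * ⟨g₂, h2⟩ * (⟨g₁, h1⟩ : ↥(RB R b))⁻¹ *
      (⟨g₂, h2⟩ : ↥(RB R b))⁻¹, ?_, ?_⟩
    swap
    · rw [commutatorElement_def]; rfl
    rw [SetLike.mem_coe, MonoidHom.mem_ker, map_mul, map_mul, map_mul]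
    calc prodSg hM ⟨g₁, h1⟩ * prodSg hM ⟨g₂, h2⟩ * prodSg hM (⟨g₁, h1⟩ : ↥(RB R b))⁻¹ *
          prodSg hM (⟨g₂, h2⟩ : ↥(RB R b))⁻¹
        = (prodSg hM ⟨g₁, h1⟩ * prodSg hM (⟨g₁, h1⟩ : ↥(RB R b))⁻¹) *
          (prodSg hM ⟨g₂, h2⟩ * prodSg hM (⟨g₂, h2⟩ : ↥(RB R b))⁻¹) := by ring
      _ = 1 := by rw [prodSg_mul_inv, prodSg_mul_inv, one_mul]
  rw [hL.R_comm] at hle
  obtain ⟨r', hr', hrr'⟩ := hle hr
  have : r' = r := Subtype.ext hrr'
  rw [← this]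
  exact hr'

/-- Part (a) in the input shape `hP` of `xs_of_mono`. -/
theorem hP_of (hL : LinCtx ρ R b W) (hM : MonoFrame ρ R b W f φ) :
    ∀ r : ↥(RB R b), (r : S) ∈ R → ∀ c : Fin n → ZMod 3,
      (∀ i, ρ (r : S) (f i) = c i • f (φ r i)) → ∏ i, c i = 1 := by
  intro r hr c hc
  have h1 : ∀ i, c i = sg ρ f φ r i := fun i => sg_uniq hM r i (c i) (hc i)
  simp only [h1]
  exact prodSg_eq_one hL hM r hr

end Cfsg.Agent.Lib.H12.S4415G5a
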