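import Cfsg.Agent.Lib.H12.S4415G5a
import Cfsg.Agent.Lib.H10.S4415BadAsm

/-!
helper12: S4415 GOOD block, FourStmt part (c): the six weight-two diagonal elements and `z = -1`
lie in `R` (four lines).
-/

set_option autoImplicit false

namespace Cfsg.Agent.Lib.H12.S4415G5c

open Cfsg.Agent.Lib.H10.S4415 Cfsg.Agent.Lib.H24.S4415G Cfsg.Agent.Lib.H12.S4415
  Cfsg.Agent.Lib.H12.S4415G5e Cfsg.Agent.Lib.H12.S4415G5a

variable {S E : Type*} [Group S] [AddCommGroup E] [Module (ZMod 3) E]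
variable {ρ : Representation (ZMod 3) S E} {R : Subgroup S} {b : S} {W : Submodule (ZMod 3) E}
  {n : ℕ} {f : Fin n → E} {φ : ↥(RB R b) → Equiv.Perm (Fin n)}

theorem phi_inv (hM : MonoFrame ρ R b W f φ) (g : ↥(RB R b)) : φ g⁻¹ = (φ g)⁻¹ :=
  map_inv (phiHom hM) g

/-- Conjugating a diagonal element permutes its signs. -/
theorem conj_diag (hM : MonoFrame ρ R b W f φ) (g a : ↥(RB R b)) (ha : φ a = 1) :
    φ (g * a * g⁻¹) = 1 ∧ ∀ k, sg ρ f φ (g * a * g⁻¹) (φ g k) = sg ρ f φ a k := by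
  constructor
  · rw [phi_mul hM, phi_mul hM, ha, mul_one, phi_inv hM, mul_inv_cancel]
  · intro k
    rw [sg_mul hM, sg_mul hM, ha]
    simp only [Equiv.Perm.coe_one, id_eq]
    have h1 : φ g⁻¹ (φ g k) = k := by rw [phi_inv hM]; simp
    rw [h1]
    have h2 : sg ρ f φ g⁻¹ (φ g k) * sg ρ f φ g k = 1 := by
      have := sg_mul hM g⁻¹ g k
      rw [inv_mul_cancel, sg_one hM] at this
      rw [mul_comm]; exact this.symm
    calc sg ρ f φ g⁻¹ (φ g k) * (sg ρ f φ a k * sg ρ f φ g k)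
        = (sg ρ f φ g⁻¹ (φ g k) * sg ρ f φ g k) * sg ρ f φ a k := by ring
      _ = sg ρ f φ a k := by rw [h2, one_mul]

set_option synthInstance.maxSize 1000 in
set_option synthInstance.maxHeartbeats 200000 in
set_option maxRecDepth 100000 in
theorem two_neg : ∀ s : Fin 4 → ZMod 3, (∀ i, s i = 1 ∨ s i = -1) → ∏ i, s i = 1 →
    (∃ i, s i = 1) → (∃ j, s j = -1) →
    ∃ p q, p ≠ q ∧ s p = -1 ∧ s q = -1 ∧ ∀ k, k ≠ p → k ≠ q → s k = 1 := by
  decide

set_option synthInstance.maxSize 1000 in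
set_option synthInstance.maxHeartbeats 200000 in
set_option maxRecDepth 100000 in
theorem three_cycle_shape : ∀ c : Equiv.Perm (Fin 4), c ^ 3 = 1 → c ≠ 1 →
    ∃ x₀, c x₀ = x₀ ∧ ∀ u v, u ≠ x₀ → v ≠ x₀ → (v = u ∨ v = c u ∨ v = c (c u)) := by
  decide

/-- `R<b>` is transitive on ordered pairs of distinct lines. -/
theorem two_trans {f : Fin 4 → E} {φ : ↥(RB R b) → Equiv.Perm (Fin 4)}
    (hM : MonoFrame ρ R b W f φ) (p q i j : Fin 4) (hpq : p ≠ q) (hij : i ≠ j) :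
    ∃ g : ↥(RB R b), φ g p = i ∧ φ g q = j := by
  have h3 := hM.three
  have hc3 : (φ (bRB R b)) ^ 3 = 1 := by
    have := h3.orderOf
    rw [← this]; exact pow_orderOf_eq_one _
  have hc1 : φ (bRB R b) ≠ 1 := by
    intro h
    have := h3.orderOf
    rw [h, orderOf_one] at this
    omega
  obtain ⟨x₀, hx₀, hcyc⟩ := three_cycle_shape _ hc3 hc1
  obtain ⟨g₁, hg₁⟩ := hM.trans p x₀
  obtain ⟨g₂, hg₂⟩ := hM.trans i x₀
  have hq' : φ g₁ q ≠ x₀ := by
    intro h; rw [← hg₁] at h; exact hpq ((φ g₁).injective h).symm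
  have hj' : φ g₂ j ≠ x₀ := by
    intro h; rw [← hg₂] at h; exact hij ((φ g₂).injective h).symm
  have hinv : ∀ m, φ g₂ m = x₀ → m = i := by
    intro m hm; rw [← hg₂] at hm; exact (φ g₂).injective hm
  have hfin : ∀ h : ↥(RB R b), φ h x₀ = x₀ → φ h (φ g₁ q) = φ g₂ j →
      ∃ g : ↥(RB R b), φ g p = i ∧ φ g q = j := by
    intro h hh1 hh2
    refine ⟨g₂⁻¹ * h * g₁, ?_, ?_⟩
    · rw [phi_mul hM, phi_mul hM, phi_inv hM, Equiv.Perm.mul_apply, Equiv.Perm.mul_apply, hg₁, hh1,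
        ← hg₂]
      simp
    · rw [phi_mul hM, phi_mul hM, phi_inv hM, Equiv.Perm.mul_apply, Equiv.Perm.mul_apply, hh2]
      simp
  rcases hcyc (φ g₁ q) (φ g₂ j) hq' hj' with h | h | h
  · apply hfin 1
    · rw [phi_one hM]; rfl
    · rw [phi_one hM, h]; rfl
  · apply hfin (bRB R b) hx₀
    exact h.symm
  · apply hfin (bRB R b * bRB R b)
    · rw [phi_mul hM, Equiv.Perm.mul_apply, hx₀, hx₀]
    · rw [phi_mul hM, Equiv.Perm.mul_apply]; exact h.symm

/-- Part (c), first half: the six weight-two diagonal elements lie in `R`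
(the input `hD` of `xs_of_mono`). -/
theorem hD_of [Finite S] (hL : LinCtx ρ R b W) {f : Fin 4 → E}
    {φ : ↥(RB R b) → Equiv.Perm (Fin 4)} (hM : MonoFrame ρ R b W f φ) :
    ∀ i j : Fin 4, i ≠ j → ∃ r : ↥(RB R b), (r : S) ∈ R ∧ φ r = 1 ∧
      ρ (r : S) (f i) = -f i ∧ ρ (r : S) (f j) = -f j ∧
      ∀ k, k ≠ i → k ≠ j → ρ (r : S) (f k) = f k := by
  intro i j hij
  obtain ⟨a, haR, hφa, i₀, j₀, hai, haj⟩ := hM.nonscalar
  have hs1 : sg ρ f φ a i₀ = 1 := by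
    symm; apply sg_uniq hM; rw [hφa, hai]; simp
  have hs2 : sg ρ f φ a j₀ = -1 := by
    symm; apply sg_uniq hM; rw [hφa, haj]; simp
  have hprod : ∏ k, sg ρ f φ a k = 1 := prodSg_eq_one hL hM a haR
  obtain ⟨p, q, hpq, hsp, hsq, hsk⟩ :=
    two_neg (sg ρ f φ a) (sg_pm a) hprod ⟨i₀, hs1⟩ ⟨j₀, hs2⟩
  obtain ⟨g, hgp, hgq⟩ := two_trans hM p q i j hpq hij
  obtain ⟨hφd, hsd⟩ := conj_diag hM g a hφa
  have hdR : ((g * a * g⁻¹ : ↥(RB R b)) : S) ∈ R := by
    have := normBy_R (R := R) (b := b) hL.b_norm (g : S) g.2 (a : S) haR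
    simpa using this
  refine ⟨g * a * g⁻¹, hdR, hφd, ?_, ?_, ?_⟩
  · rw [sg_spec hM, hφd, ← hgp, hsd, hsp]; simp
  · rw [sg_spec hM, hφd, ← hgq, hsd, hsq]; simp
  · intro k hki hkj
    obtain ⟨m, rfl⟩ := (φ g).surjective k
    have hmp : m ≠ p := by
      intro h; apply hki; rw [h, hgp]
    have hmq : m ≠ q := by
      intro h; apply hkj; rw [h, hgq]
    rw [sg_spec hM, hφd, hsd, hsk m hmp hmq]; simp

/-- Part (c), second half: `z = -1` lies in `R`. -/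
theorem exists_neg [Finite S] (hL : LinCtx ρ R b W) {f : Fin 4 → E}
    {φ : ↥(RB R b) → Equiv.Perm (Fin 4)} (hM : MonoFrame ρ R b W f φ) :
    ∃ z ∈ R, IsNeg ρ W z := by
  obtain ⟨d, hdR, -, hd0, hd1, hdk⟩ := hD_of hL hM 0 1 (by decide)
  obtain ⟨e, heR, -, he2, he3, hek⟩ := hD_of hL hM 2 3 (by decide)
  refine ⟨(d : S) * e, R.mul_mem hdR heR, ?_⟩
  intro w hw
  have hw' := hM.span w hw
  have hEq : Set.EqOn (⇑(ρ ((d : S) * e))) (⇑(-(LinearMap.id : E →ₗ[ZMod 3] E)))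
      (Set.range f) := by
    rintro _ ⟨k, rfl⟩
    have hneg : ∀ x : E, (-(LinearMap.id : E →ₗ[ZMod 3] E)) x = -x := fun x => by simp
    rw [hneg, map_mul, Module.End.mul_apply]
    fin_cases k
    · have h1 := hek 0 (by decide) (by decide)
      simp only [Fin.zero_eta]
      rw [h1, hd0]
    · have h1 := hek 1 (by decide) (by decide)
      simp only [Fin.mk_one]
      rw [h1, hd1]
    · have h1 := hdk 2 (by decide) (by decide)
      simp only [Fin.reduceFinMk]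
      rw [he2, map_neg, h1]
    · have h1 := hdk 3 (by decide) (by decide)
      simp only [Fin.reduceFinMk]
      rw [he3, map_neg, h1]
  have := LinearMap.eqOn_span hEq hw'
  simpa using this

end Cfsg.Agent.Lib.H12.S4415G5c
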