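import Cfsg.Agent.Lib.H24.S4415GD
import Cfsg.Agent.Lib.H10.S4415BadDefs
import Cfsg.Agent.Lib.H12.S4415B10
import Cfsg.Agent.Lib.H23.S4415B9

/-!
helper12: S4415 GOOD block, FourStmt part (e): in a monomial frame with four lines, a subgroup `R`
whose permutation part lies in `V4`, whose signs have product `1`, containing the weight-two
diagonal elements and transitive on the lines, is an `XS`-group with centre `{1, z}`.
-/

set_option autoImplicit false

namespace Cfsg.Agent.Lib.H12.S4415G5e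

open Cfsg.Agent.Lib.H10.S4415 Cfsg.Agent.Lib.H24.S4415G Cfsg.Agent.Lib.H12.S4415

variable {S E : Type*} [Group S] [AddCommGroup E] [Module (ZMod 3) E]
variable {ρ : Representation (ZMod 3) S E} {R : Subgroup S} {b : S} {W : Submodule (ZMod 3) E}
  {n : ℕ} {f : Fin n → E} {φ : ↥(RB R b) → Equiv.Perm (Fin n)}

open Classical in
/-- The sign of `g` at the index `i`. -/
noncomputable def sg (ρ : Representation (ZMod 3) S E) (f : Fin n → E)
    (φ : ↥(RB R b) → Equiv.Perm (Fin n)) (g : ↥(RB R b)) (i : Fin n) : ZMod 3 :=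
  if ρ (g : S) (f i) = f (φ g i) then 1 else -1

theorem sg_spec (hM : MonoFrame ρ R b W f φ) (g : ↥(RB R b)) (i : Fin n) :
    ρ (g : S) (f i) = sg ρ f φ g i • f (φ g i) := by
  unfold sg
  split_ifs with h
  · rw [one_smul]; exact h
  · rcases hM.mono g i with h1 | h1
    · exact absurd h1 h
    · rw [neg_smul, one_smul]; exact h1

theorem sg_pm (g : ↥(RB R b)) (i : Fin n) : sg ρ f φ g i = 1 ∨ sg ρ f φ g i = -1 := by
  unfold sg; split_ifs <;> simp

theorem sg_mul_self (g : ↥(RB R b)) (i : Fin n) : sg ρ f φ g i * sg ρ f φ g i = 1 := by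
  rcases sg_pm (ρ := ρ) (f := f) (φ := φ) g i with h | h <;> rw [h] <;> simp

theorem sg_uniq (hM : MonoFrame ρ R b W f φ) (g : ↥(RB R b)) (i : Fin n) (c : ZMod 3)
    (h : ρ (g : S) (f i) = c • f (φ g i)) : c = sg ρ f φ g i := by
  have h2 := sg_spec hM g i
  rw [h] at h2
  exact smul_left_injective (ZMod 3) (f_ne_zero hM _) h2

theorem sg_mul (hM : MonoFrame ρ R b W f φ) (g h : ↥(RB R b)) (i : Fin n) :
    sg ρ f φ (g * h) i = sg ρ f φ h i * sg ρ f φ g (φ h i) := by
  symm
  apply sg_uniq hM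
  rw [Subgroup.coe_mul, map_mul, Module.End.mul_apply, sg_spec hM h i, map_smul,
    sg_spec hM g (φ h i), smul_smul, phi_mul hM, Equiv.Perm.mul_apply]

theorem sg_one (hM : MonoFrame ρ R b W f φ) (i : Fin n) : sg ρ f φ 1 i = 1 := by
  symm
  apply sg_uniq hM
  rw [phi_one hM]
  simp

theorem eq_of_phi_sg (hL : LinCtx ρ R b W) (hM : MonoFrame ρ R b W f φ) (g h : ↥(RB R b))
    (hφ : φ g = φ h) (hs : ∀ i, sg ρ f φ g i = sg ρ f φ h i) : g = h := by
  apply Subtype.ext
  apply b10_eq_of_act hL g.2 h.2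
  intro w hw
  have hw' := hM.span w hw
  have : Set.EqOn (ρ (g : S)) (ρ (h : S)) (Set.range f) := by
    rintro _ ⟨i, rfl⟩
    rw [sg_spec hM g i, sg_spec hM h i, hφ, hs]
  exact LinearMap.eqOn_span this hw'

/-- The combinatorial heart: for `σ ∈ V4` and a sign vector of product `1`, `s i * s (σ i)` does not
depend on `i`. -/
theorem lemmaA (σ : Equiv.Perm (Fin 4)) (hσ2 : ∀ i, σ (σ i) = i) (hσf : (∃ i, σ i = i) → σ = 1)
    (s : Fin 4 → ZMod 3) (hs : ∀ i, s i = 1 ∨ s i = -1) (hp : ∏ i, s i = 1) (i j : Fin 4) :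
    s i * s (σ i) = s j * s (σ j) := by
  have hsq : ∀ k, s k * s k = 1 := by
    intro k; rcases hs k with h | h <;> rw [h] <;> simp
  by_cases hfix : ∃ k, σ k = k
  · rw [hσf hfix]
    simp only [Equiv.Perm.coe_one, id_eq]
    rw [hsq, hsq]
  · simp only [not_exists] at hfix
    by_cases hij : j = i
    · rw [hij]
    by_cases hij' : j = σ i
    · rw [hij', hσ2, mul_comm]
    · have h1 : i ≠ σ i := fun h => hfix i h.symm
      have h2 : i ≠ j := fun h => hij h.symm
      have h3 : i ≠ σ j := by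
        intro h
        apply hij'
        rw [h, hσ2]
      have h4 : σ i ≠ j := fun h => hij' h.symm
      have h5 : σ i ≠ σ j := by
        intro h
        exact h2 (σ.injective h)
      have h6 : j ≠ σ j := fun h => hfix j h.symm
      have huniv : (Finset.univ : Finset (Fin 4)) = {i, σ i, j, σ j} := by
        symm
        apply Finset.eq_univ_of_card
        rw [Finset.card_insert_of_notMem, Finset.card_insert_of_notMem, Finset.card_pair h6]
        · simp
        · simp [h4, h5]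
        · simp [h1, h2, h3]
      rw [huniv, Finset.prod_insert (by simp [h1, h2, h3]), Finset.prod_insert (by simp [h4, h5]),
        Finset.prod_pair h6] at hp
      have hc : (s j * s (σ j)) * (s j * s (σ j)) = 1 := by
        calc (s j * s (σ j)) * (s j * s (σ j)) = (s j * s j) * (s (σ j) * s (σ j)) := by ring
          _ = 1 := by rw [hsq, hsq, one_mul]
      calc s i * s (σ i) = (s i * (s (σ i) * (s j * s (σ j)))) * (s j * s (σ j)) := by
            rw [mul_assoc, mul_assoc, hc, mul_one]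
        _ = s j * s (σ j) := by rw [hp, one_mul]


theorem sg_const_cases (s : Fin 4 → ZMod 3) (hs : ∀ i, s i = 1 ∨ s i = -1)
    (hc : ∀ i j, s i = s j) : (∀ i, s i = 1) ∨ (∀ i, s i = -1) := by
  rcases hs 0 with h | h
  · left; intro i; rw [hc i 0, h]
  · right; intro i; rw [hc i 0, h]

/-- FourStmt part (e): the `XS` structure of `R` from the monomial data. -/
theorem xs_of_mono (hL : LinCtx ρ R b W) {f : Fin 4 → E}
    {φ : ↥(RB R b) → Equiv.Perm (Fin 4)} (hM : MonoFrame ρ R b W f φ)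
    (hV : ∀ r : ↥(RB R b), (r : S) ∈ R →
      (∀ i, φ r (φ r i) = i) ∧ ((∃ i, φ r i = i) → φ r = 1))
    (hP : ∀ r : ↥(RB R b), (r : S) ∈ R → ∀ c : Fin 4 → ZMod 3,
      (∀ i, ρ (r : S) (f i) = c i • f (φ r i)) → ∏ i, c i = 1)
    (hD : ∀ i j : Fin 4, i ≠ j → ∃ r : ↥(RB R b), (r : S) ∈ R ∧ φ r = 1 ∧
      ρ (r : S) (f i) = -f i ∧ ρ (r : S) (f j) = -f j ∧
      ∀ k, k ≠ i → k ≠ j → ρ (r : S) (f k) = f k)
    (hT : ∀ i j : Fin 4, ∃ r : ↥(RB R b), (r : S) ∈ R ∧ φ r i = j)
    (z : S) (hzR : z ∈ R) (hz : IsNeg ρ W z) : XS z R := by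
  have hRle := R_le_RB R b
  obtain ⟨z', hz'⟩ : ∃ z' : ↥(RB R b), (z' : S) = z := ⟨⟨z, hRle hzR⟩, rfl⟩
  have hz'R : (z' : S) ∈ R := by rw [hz']; exact hzR
  -- the data of `z`
  have hzf : ∀ i, ρ (z' : S) (f i) = -f i := by
    intro i; rw [hz']; exact hz _ (hM.fW i)
  have hφz : φ z' = 1 := by
    apply Equiv.ext
    intro i
    have h2 := hM.mono z' i
    rw [hzf i] at h2
    have h3 : f i = f (φ z' i) ∨ f i = -f (φ z' i) := by
      rcases h2 with h2 | h2
      · right; rw [← h2, neg_neg]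
      · left; exact neg_injective h2
    have := idx_eq_of_pm hM h3
    rw [← this]; rfl
  have hsz : ∀ i, sg ρ f φ z' i = -1 := by
    intro i
    symm
    apply sg_uniq hM
    rw [hφz, hzf i]
    simp
  have hφzk : ∀ k : ↥(RB R b), φ (z' * k) = φ k := by
    intro k; rw [phi_mul hM, hφz, one_mul]
  have hszk : ∀ (k : ↥(RB R b)) (i : Fin 4), sg ρ f φ (z' * k) i = -sg ρ f φ k i := by
    intro k i; rw [sg_mul hM, hsz]; ring
  -- reading off an element from its data
  have h_one : ∀ g' : ↥(RB R b), φ g' = 1 → (∀ i, sg ρ f φ g' i = 1) → g' = 1 := by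
    intro g' h1 h2
    apply eq_of_phi_sg hL hM
    · rw [h1, phi_one hM]
    · intro i; rw [h2, sg_one hM]
  have h_z : ∀ g' : ↥(RB R b), φ g' = 1 → (∀ i, sg ρ f φ g' i = -1) → g' = z' := by
    intro g' h1 h2
    apply eq_of_phi_sg hL hM
    · rw [h1, hφz]
    · intro i; rw [h2, hsz]
  -- the key dichotomy
  have key : ∀ g' h' : ↥(RB R b), (g' : S) ∈ R → (h' : S) ∈ R →
      g' * h' = h' * g' ∨ g' * h' = z' * (h' * g') := by
    intro g' h' hg hh
    obtain ⟨hσ2, hσf⟩ := hV g' hg
    obtain ⟨hτ2, hτf⟩ := hV h' hh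
    have hgh : ((g' * h' : ↥(RB R b)) : S) ∈ R := R.mul_mem hg hh
    obtain ⟨hστ2, -⟩ := hV (g' * h') hgh
    have hcomm : φ (g' * h') = φ (h' * g') := by
      apply Equiv.ext
      intro i
      have h1 := hστ2 (φ h' (φ g' i))
      rw [phi_mul hM] at h1
      simp only [Equiv.Perm.mul_apply] at h1
      rw [hτ2, hσ2] at h1
      rw [phi_mul hM, phi_mul hM, Equiv.Perm.mul_apply, Equiv.Perm.mul_apply]
      exact h1
    have hPg := hP g' hg (sg ρ f φ g') (sg_spec hM g')
    have hPh := hP h' hh (sg ρ f φ h') (sg_spec hM h')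
    have hA1 := lemmaA (φ h') hτ2 hτf (sg ρ f φ g') (sg_pm g') hPg
    have hA2 := lemmaA (φ g') hσ2 hσf (sg ρ f φ h') (sg_pm h') hPh
    -- the ratio
    have hratio : ∀ i j, sg ρ f φ (g' * h') i * sg ρ f φ (h' * g') i =
        sg ρ f φ (g' * h') j * sg ρ f φ (h' * g') j := by
      intro i j
      rw [sg_mul hM, sg_mul hM, sg_mul hM, sg_mul hM]
      have e1 := hA1 i j
      have e2 := hA2 i j
      calc sg ρ f φ h' i * sg ρ f φ g' (φ h' i) * (sg ρ f φ g' i * sg ρ f φ h' (φ g' i))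
          = (sg ρ f φ g' i * sg ρ f φ g' (φ h' i)) * (sg ρ f φ h' i * sg ρ f φ h' (φ g' i)) := by
            ring
        _ = (sg ρ f φ g' j * sg ρ f φ g' (φ h' j)) * (sg ρ f φ h' j * sg ρ f φ h' (φ g' j)) := by
            rw [e1, e2]
        _ = sg ρ f φ h' j * sg ρ f φ g' (φ h' j) * (sg ρ f φ g' j * sg ρ f φ h' (φ g' j)) := by
            ring
    rcases sg_pm (ρ := ρ) (f := f) (φ := φ) (g' * h') 0 with a0 | a0 <;>
      rcases sg_pm (ρ := ρ) (f := f) (φ := φ) (h' * g') 0 with b0 | b0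
    all_goals
      have hr : ∀ i, sg ρ f φ (g' * h') i * sg ρ f φ (h' * g') i = _ := fun i => by
        rw [hratio i 0, a0, b0]
    · left
      apply eq_of_phi_sg hL hM _ _ hcomm
      intro i
      have h1 := hr i
      have h2 := sg_mul_self (ρ := ρ) (f := f) (φ := φ) (h' * g') i
      calc sg ρ f φ (g' * h') i = sg ρ f φ (g' * h') i * (sg ρ f φ (h' * g') i * sg ρ f φ (h' * g') i) := by
            rw [h2, mul_one]
        _ = (sg ρ f φ (g' * h') i * sg ρ f φ (h' * g') i) * sg ρ f φ (h' * g') i := by ring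
        _ = sg ρ f φ (h' * g') i := by rw [h1]; ring
    · right
      apply eq_of_phi_sg hL hM _ _ (by rw [hφzk]; exact hcomm)
      intro i
      rw [hszk]
      have h1 := hr i
      have h2 := sg_mul_self (ρ := ρ) (f := f) (φ := φ) (h' * g') i
      calc sg ρ f φ (g' * h') i = sg ρ f φ (g' * h') i * (sg ρ f φ (h' * g') i * sg ρ f φ (h' * g') i) := by
            rw [h2, mul_one]
        _ = (sg ρ f φ (g' * h') i * sg ρ f φ (h' * g') i) * sg ρ f φ (h' * g') i := by ring
        _ = -sg ρ f φ (h' * g') i := by rw [h1]; ring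
    · right
      apply eq_of_phi_sg hL hM _ _ (by rw [hφzk]; exact hcomm)
      intro i
      rw [hszk]
      have h1 := hr i
      have h2 := sg_mul_self (ρ := ρ) (f := f) (φ := φ) (h' * g') i
      calc sg ρ f φ (g' * h') i = sg ρ f φ (g' * h') i * (sg ρ f φ (h' * g') i * sg ρ f φ (h' * g') i) := by
            rw [h2, mul_one]
        _ = (sg ρ f φ (g' * h') i * sg ρ f φ (h' * g') i) * sg ρ f φ (h' * g') i := by ring
        _ = -sg ρ f φ (h' * g') i := by rw [h1]; ring
    · left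
      apply eq_of_phi_sg hL hM _ _ hcomm
      intro i
      have h1 := hr i
      have h2 := sg_mul_self (ρ := ρ) (f := f) (φ := φ) (h' * g') i
      calc sg ρ f φ (g' * h') i = sg ρ f φ (g' * h') i * (sg ρ f φ (h' * g') i * sg ρ f φ (h' * g') i) := by
            rw [h2, mul_one]
        _ = (sg ρ f φ (g' * h') i * sg ρ f φ (h' * g') i) * sg ρ f φ (h' * g') i := by ring
        _ = sg ρ f φ (h' * g') i := by rw [h1]; ring
  -- lift from `S` to the subtype
  have lift : ∀ g ∈ R, ∃ g' : ↥(RB R b), (g' : S) = g := fun g hg => ⟨⟨g, hRle hg⟩, rfl⟩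
  have hz1 : z ≠ 1 := by
    intro h
    have h1 := hz _ (hM.fW 0)
    rw [h, map_one, Module.End.one_apply] at h1
    exact f_ne_zero hM 0 (eq_zero_of_eq_neg h1)
  have hzc : ∀ g ∈ R, g * z = z * g := by
    intro g hg
    apply b10_eq_of_act hL (Subgroup.mul_mem _ (hRle hg) (hRle hzR))
      (Subgroup.mul_mem _ (hRle hzR) (hRle hg))
    intro w hw
    rw [b10_rho_mul, b10_rho_mul, hz w hw, hz _ (hL.W_inv g (hRle hg) w hw), map_neg]
  have hzz : z * z = 1 := by
    apply b10_eq_of_act hL (Subgroup.mul_mem _ (hRle hzR) (hRle hzR)) (Subgroup.one_mem _)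
    intro w hw
    rw [b10_rho_mul, hz w hw, map_neg, hz w hw, neg_neg]
    simp
  refine ⟨hzR, hz1, hzz, hzc, ?_, ?_, ?_, ?_⟩
  · -- squares
    intro g hg
    obtain ⟨g', rfl⟩ := lift g hg
    obtain ⟨hσ2, hσf⟩ := hV g' hg
    have hPg := hP g' hg (sg ρ f φ g') (sg_spec hM g')
    have hA := lemmaA (φ g') hσ2 hσf (sg ρ f φ g') (sg_pm g') hPg
    have hφ : φ (g' * g') = 1 := by
      apply Equiv.ext
      intro i
      rw [phi_mul hM, Equiv.Perm.mul_apply, hσ2]; rfl
    have hcst : ∀ i j, sg ρ f φ (g' * g') i = sg ρ f φ (g' * g') j := by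
      intro i j; rw [sg_mul hM, sg_mul hM]; exact hA i j
    rcases sg_const_cases _ (sg_pm (g' * g')) hcst with h | h
    · left
      have := h_one _ hφ h
      have h2 := congrArg (Subtype.val) this
      simpa using h2
    · right
      have := h_z _ hφ h
      have h2 := congrArg (Subtype.val) this
      rw [hz'] at h2
      simpa using h2
  · -- commutators
    intro g hg h hh
    obtain ⟨g', rfl⟩ := lift g hg
    obtain ⟨h', rfl⟩ := lift h hh
    rcases key g' h' hg hh with e | e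
    · left
      have e2 : (g' : S) * h' = h' * g' := by
        have := congrArg (Subtype.val) e
        simpa using this
      calc (g' : S) * h' * (g' : S)⁻¹ * (h' : S)⁻¹ = ((g' : S) * h') * ((h' : S) * g')⁻¹ := by group
        _ = 1 := by rw [e2]; group
    · right
      have e2 : (g' : S) * h' = z * (h' * g') := by
        have := congrArg (Subtype.val) e
        rw [← hz']
        simpa using this
      calc (g' : S) * h' * (g' : S)⁻¹ * (h' : S)⁻¹ = ((g' : S) * h') * ((h' : S) * g')⁻¹ := by group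
        _ = z := by rw [e2]; group
  · -- centre
    intro g hg hcen
    obtain ⟨g', rfl⟩ := lift g hg
    obtain ⟨hσ2, hσf⟩ := hV g' hg
    have hcen' : ∀ h' : ↥(RB R b), (h' : S) ∈ R → g' * h' = h' * g' := by
      intro h' hh
      apply Subtype.ext
      simpa using hcen h' hh
    -- `φ g' = 1`
    have hφg : φ g' = 1 := by
      apply hσf
      by_contra hno
      simp only [not_exists] at hno
      have hm : φ g' 0 ≠ 0 := hno 0
      obtain ⟨j, hj0, hjm⟩ : ∃ j : Fin 4, j ≠ 0 ∧ j ≠ φ g' 0 := by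
        have : ∀ m : Fin 4, ∃ j : Fin 4, j ≠ 0 ∧ j ≠ m := by decide
        exact this _
      obtain ⟨d, hdR, hφd, hd0, hdj, hdk⟩ := hD 0 j (Ne.symm hj0)
      have e := hcen' d hdR
      have e0 : sg ρ f φ (g' * d) 0 = sg ρ f φ (d * g') 0 := by rw [e]
      rw [sg_mul hM, sg_mul hM, hφd] at e0
      simp only [Equiv.Perm.coe_one, id_eq] at e0
      have hs0 : sg ρ f φ d 0 = -1 := by
        symm; apply sg_uniq hM; rw [hφd, hd0]; simp
      have hsm : sg ρ f φ d (φ g' 0) = 1 := by
        symm; apply sg_uniq hM; rw [hφd, hdk _ hm (Ne.symm hjm)]; simp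
      rw [hs0, hsm] at e0
      rcases sg_pm (ρ := ρ) (f := f) (φ := φ) g' 0 with h | h <;> rw [h] at e0 <;>
        revert e0 <;> decide
    -- constant signs
    have hcst : ∀ i j, sg ρ f φ g' i = sg ρ f φ g' j := by
      intro i j
      obtain ⟨h', hh, hij⟩ := hT i j
      have e := hcen' h' hh
      have e0 : sg ρ f φ (g' * h') i = sg ρ f φ (h' * g') i := by rw [e]
      rw [sg_mul hM, sg_mul hM, hφg] at e0
      simp only [Equiv.Perm.coe_one, id_eq] at e0
      rw [hij] at e0
      have h2 := sg_mul_self (ρ := ρ) (f := f) (φ := φ) h' i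
      calc sg ρ f φ g' i = (sg ρ f φ h' i * sg ρ f φ h' i) * sg ρ f φ g' i := by rw [h2, one_mul]
        _ = sg ρ f φ h' i * (sg ρ f φ g' i * sg ρ f φ h' i) := by ring
        _ = sg ρ f φ h' i * (sg ρ f φ h' i * sg ρ f φ g' j) := by rw [e0]
        _ = sg ρ f φ g' j := by rw [← mul_assoc, h2, one_mul]
    rcases sg_const_cases _ (sg_pm g') hcst with h | h
    · left
      have := h_one _ hφg h
      rw [this]; rfl
    · right
      have := h_z _ hφg h
      rw [this, hz']
  · -- big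
    obtain ⟨d, hdR, hφd, hd0, hd1, hdk⟩ := hD 0 1 (by decide)
    refine ⟨d, hdR, ?_, ?_⟩
    · intro h
      rw [h, map_one, Module.End.one_apply] at hd0
      exact f_ne_zero hM 0 (eq_zero_of_eq_neg hd0)
    · intro h
      have h2 := hdk 2 (by decide) (by decide)
      rw [h, hz _ (hM.fW 2)] at h2
      exact f_ne_zero hM 2 (eq_zero_of_eq_neg h2.symm)

/-- The plug: `XS z R`, `|R| = 32` and an `E_8` inside `R` give the conclusion of `FourStmt`. -/
theorem four_of_xs {S : Type*} [Group S] [Finite S] (z : S) (R : Subgroup S) (hXS : XS z R)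
    (hcard : Nat.card ↥R = 32)
    (hA : ∃ A : Subgroup S, A ≤ R ∧ Cfsg.IsElementaryAbelian 2 A ∧ Nat.card ↥A = 8) :
    Cfsg.IsExtraspecial 2 ↥R ∧ Nat.card ↥R = 32 ∧
      ∃ A : Subgroup S, A ≤ R ∧ Cfsg.IsElementaryAbelian 2 A ∧ Nat.card ↥A = 8 := by
  rcases Cfsg.Agent.Lib.H23.S4415B9.b9 z R hXS hcard hA with h | h
  · exfalso
    have h2 := h.2
    rw [hcard] at h2
    omega
  · exact h

end Cfsg.Agent.Lib.H12.S4415G5e
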