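import Cfsg.Agent.Lib.H1.S77.Hyp
import Cfsg.Agent.Lib.H10.S77EE

/-!
S0429 piece (T3): three pairwise non-adjacent vertices of srg(77,16,0,4) do not have exactly three
common neighbours (PSD certificate, groups {x,y,z}, T, W, weights (3,2,1), value -12).
-/

set_option autoImplicit false
set_option linter.unusedSectionVars false
open Cfsg

namespace Cfsg.Agent.Lib.H12.S77

open Cfsg.Agent.Lib.H1.S77 Cfsg.Agent.Lib.H10.S77 Finset

section
variable {V : Type*} [Fintype V] [DecidableEq V] {G : SimpleGraph V} [DecidableRel G.Adj]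

/-- the common neighbours of `y`, `z` that are not neighbours of `x` -/
def wOf (G : SimpleGraph V) [DecidableRel G.Adj] (x y z : V) : Finset V :=
  (G.neighborFinset y ∩ G.neighborFinset z) \ G.neighborFinset x

theorem mem_wOf {x y z u : V} : u ∈ wOf G x y z ↔ G.Adj y u ∧ G.Adj z u ∧ ¬ G.Adj x u := by
  unfold wOf
  rw [Finset.mem_sdiff, Finset.mem_inter, SimpleGraph.mem_neighborFinset,
    SimpleGraph.mem_neighborFinset, SimpleGraph.mem_neighborFinset]
  tauto

theorem card_wOf (hG : G.IsSRGWith 77 16 0 4) {x y z : V} (hyz : y ≠ z) (nyz : ¬ G.Adj y z)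
    (hT : (G.neighborFinset x ∩ G.neighborFinset y ∩ G.neighborFinset z).card = 3) :
    (wOf G x y z).card = 1 := by
  have h4 := nadj_common hG hyz nyz
  have h := Finset.card_inter_add_card_sdiff (G.neighborFinset y ∩ G.neighborFinset z)
    (G.neighborFinset x)
  have e : G.neighborFinset y ∩ G.neighborFinset z ∩ G.neighborFinset x
      = G.neighborFinset x ∩ G.neighborFinset y ∩ G.neighborFinset z := by
    ext u; simp only [Finset.mem_inter]; tauto
  rw [e, hT, h4] at h
  unfold wOf
  omega

/-- (T3) groups {x,y,z}, T, W; weights (3,2,1); value -12 -/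
theorem triple_ne_three (hG : G.IsSRGWith 77 16 0 4) (hp : HPsdFam G) {x y z : V}
    (hxy : x ≠ y) (hxz : x ≠ z) (hyz : y ≠ z)
    (nxy : ¬ G.Adj x y) (nxz : ¬ G.Adj x z) (nyz : ¬ G.Adj y z) :
    (G.neighborFinset x ∩ G.neighborFinset y ∩ G.neighborFinset z).card ≠ 3 := by
  intro hT
  have nyx : ¬ G.Adj y x := fun h => nxy h.symm
  have nzx : ¬ G.Adj z x := fun h => nxz h.symm
  have nzy : ¬ G.Adj z y := fun h => nyz h.symm
  -- the three one-element sets
  have hTy : (G.neighborFinset y ∩ G.neighborFinset x ∩ G.neighborFinset z).card = 3 := by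
    rw [← hT]; congr 1; ext u; simp only [Finset.mem_inter]; tauto
  have hTz : (G.neighborFinset z ∩ G.neighborFinset x ∩ G.neighborFinset y).card = 3 := by
    rw [← hT]; congr 1; ext u; simp only [Finset.mem_inter]; tauto
  set T : Finset V := G.neighborFinset x ∩ G.neighborFinset y ∩ G.neighborFinset z with hTdef
  have memT : ∀ t, t ∈ T ↔ G.Adj x t ∧ G.Adj y t ∧ G.Adj z t := by
    intro t
    rw [hTdef, Finset.mem_inter, Finset.mem_inter, SimpleGraph.mem_neighborFinset,
      SimpleGraph.mem_neighborFinset, SimpleGraph.mem_neighborFinset]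
    tauto
  have cWx : (wOf G x y z).card = 1 := card_wOf hG hyz nyz hT
  have cWy : (wOf G y x z).card = 1 := card_wOf hG hxz nxz hTy
  have cWz : (wOf G z x y).card = 1 := card_wOf hG hxy nxy hTz
  have dxy : Disjoint (wOf G x y z) (wOf G y x z) := by
    rw [Finset.disjoint_left]; intro u h1 h2
    rw [mem_wOf] at h1 h2; exact h2.2.2 h1.1
  have dxz : Disjoint (wOf G x y z) (wOf G z x y) := by
    rw [Finset.disjoint_left]; intro u h1 h2
    rw [mem_wOf] at h1 h2; exact h2.2.2 h1.2.1
  have dyz : Disjoint (wOf G y x z) (wOf G z x y) := by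
    rw [Finset.disjoint_left]; intro u h1 h2
    rw [mem_wOf] at h1 h2; exact h2.2.2 h1.2.1
  set W : Finset V := wOf G x y z ∪ wOf G y x z ∪ wOf G z x y with hWdef
  have memW : ∀ u, u ∈ W ↔ (G.Adj y u ∧ G.Adj z u ∧ ¬ G.Adj x u) ∨
      (G.Adj x u ∧ G.Adj z u ∧ ¬ G.Adj y u) ∨ (G.Adj x u ∧ G.Adj y u ∧ ¬ G.Adj z u) := by
    intro u
    rw [hWdef, Finset.mem_union, Finset.mem_union, mem_wOf, mem_wOf, mem_wOf]
    tauto
  have hWcard : W.card = 3 := by
    rw [hWdef, Finset.card_union_of_disjoint, Finset.card_union_of_disjoint dxy, cWx, cWy, cWz]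
    rw [Finset.disjoint_union_left]
    exact ⟨dxz, dyz⟩
  have hS0card : ({x, y, z} : Finset V).card = 3 := by
    rw [Finset.card_insert_of_notMem, Finset.card_insert_of_notMem, Finset.card_singleton]
    · simpa using hyz
    · simp [hxy, hxz]
  have mem0 : ∀ u, u ∈ ({x, y, z} : Finset V) ↔ u = x ∨ u = y ∨ u = z := by
    intro u; simp
  -- edge counts
  have e00 : ee G ({x, y, z} : Finset V) {x, y, z} = 0 := by
    apply ee_eq_zero
    intro u hu w hw
    rw [mem0] at hu hw
    rcases hu with rfl | rfl | rfl <;> rcases hw with rfl | rfl | rfl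
    · exact G.irrefl
    · exact nxy
    · exact nxz
    · exact nyx
    · exact G.irrefl
    · exact nyz
    · exact nzx
    · exact nzy
    · exact G.irrefl
  have e01 : ee G ({x, y, z} : Finset V) T = 9 := by
    rw [ee_complete, hS0card, hT]; · norm_num
    intro u hu t ht
    rw [mem0] at hu; rw [memT] at ht
    rcases hu with rfl | rfl | rfl
    · exact ht.1
    · exact ht.2.1
    · exact ht.2.2
  have e10 : ee G T ({x, y, z} : Finset V) = 9 := by rw [ee_comm, e01]
  have e11 : ee G T T = 0 := by
    apply ee_eq_zero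
    intro t ht t' ht'
    rw [memT] at ht ht'
    exact no_tri hG ht.1 ht'.1
  have nWx : G.neighborFinset x ∩ W = wOf G y x z ∪ wOf G z x y := by
    ext w
    rw [Finset.mem_inter, SimpleGraph.mem_neighborFinset, memW, Finset.mem_union,
      mem_wOf, mem_wOf]
    by_cases h1 : G.Adj x w <;> by_cases h2 : G.Adj y w <;> by_cases h3 : G.Adj z w <;>
      simp [h1, h2, h3]
  have nWy : G.neighborFinset y ∩ W = wOf G x y z ∪ wOf G z x y := by
    ext w
    rw [Finset.mem_inter, SimpleGraph.mem_neighborFinset, memW, Finset.mem_union,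
      mem_wOf, mem_wOf]
    by_cases h1 : G.Adj x w <;> by_cases h2 : G.Adj y w <;> by_cases h3 : G.Adj z w <;>
      simp [h1, h2, h3]
  have nWz : G.neighborFinset z ∩ W = wOf G x y z ∪ wOf G y x z := by
    ext w
    rw [Finset.mem_inter, SimpleGraph.mem_neighborFinset, memW, Finset.mem_union,
      mem_wOf, mem_wOf]
    by_cases h1 : G.Adj x w <;> by_cases h2 : G.Adj y w <;> by_cases h3 : G.Adj z w <;>
      simp [h1, h2, h3]
  have e02 : ee G ({x, y, z} : Finset V) W = 6 := by
    rw [ee_eq_mul (d := 2), hS0card]; · norm_num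
    intro u hu
    rw [mem0] at hu
    rcases hu with rfl | rfl | rfl
    · rw [nWx, Finset.card_union_of_disjoint dyz, cWy, cWz]
    · rw [nWy, Finset.card_union_of_disjoint dxz, cWx, cWz]
    · rw [nWz, Finset.card_union_of_disjoint dxy, cWx, cWy]
  have e20 : ee G W ({x, y, z} : Finset V) = 6 := by rw [ee_comm, e02]
  have e12 : ee G T W = 0 := by
    apply ee_eq_zero
    intro t ht w hw
    rw [memT] at ht; rw [memW] at hw
    rcases hw with hw | hw | hw
    · exact no_tri hG ht.2.1 hw.1
    · exact no_tri hG ht.1 hw.1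
    · exact no_tri hG ht.1 hw.1
  have e21 : ee G W T = 0 := by rw [ee_comm, e12]
  have e22 : ee G W W = 0 := by
    apply ee_eq_zero
    intro w hw w' hw'
    rw [memW] at hw hw'
    rcases hw with hw | hw | hw <;> rcases hw' with hw' | hw' | hw'
    · exact no_tri hG hw.1 hw'.1
    · exact no_tri hG hw.2.1 hw'.2.1
    · exact no_tri hG hw.1 hw'.2.1
    · exact no_tri hG hw.2.1 hw'.2.1
    · exact no_tri hG hw.1 hw'.1
    · exact no_tri hG hw.1 hw'.1
    · exact no_tri hG hw.2.1 hw'.1
    · exact no_tri hG hw.1 hw'.1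
    · exact no_tri hG hw.1 hw'.1
  -- disjointness of the three groups
  have d01 : Disjoint ({x, y, z} : Finset V) T := by
    rw [Finset.disjoint_left]
    intro u hu ht
    rw [mem0] at hu; rw [memT] at ht
    rcases hu with rfl | rfl | rfl
    · exact G.irrefl ht.1
    · exact G.irrefl ht.2.1
    · exact G.irrefl ht.2.2
  have d02 : Disjoint ({x, y, z} : Finset V) W := by
    rw [Finset.disjoint_left]
    intro u hu hw
    rw [mem0] at hu; rw [memW] at hw
    rcases hu with rfl | rfl | rfl
    · rcases hw with hw | hw | hw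
      · exact nyx hw.1
      · exact G.irrefl hw.1
      · exact G.irrefl hw.1
    · rcases hw with hw | hw | hw
      · exact G.irrefl hw.1
      · exact nxy hw.1
      · exact G.irrefl hw.2.1
    · rcases hw with hw | hw | hw
      · exact G.irrefl hw.2.1
      · exact G.irrefl hw.2.1
      · exact nxz hw.1
  have d12 : Disjoint T W := by
    rw [Finset.disjoint_left]
    intro u ht hw
    rw [memT] at ht; rw [memW] at hw
    rcases hw with hw | hw | hw
    · exact hw.2.2 ht.1
    · exact hw.2.2 ht.2.1
    · exact hw.2.2 ht.2.2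
  have hdisj : ∀ i j : Fin 3, i ≠ j →
      Disjoint ((![({x, y, z} : Finset V), T, W]) i) ((![({x, y, z} : Finset V), T, W]) j) := by
    intro i j hij
    fin_cases i <;> fin_cases j
    · exact absurd rfl hij
    · exact d01
    · exact d02
    · exact d01.symm
    · exact absurd rfl hij
    · exact d12
    · exact d02.symm
    · exact d12.symm
    · exact absurd rfl hij
  have key := hp 3 (![({x, y, z} : Finset V), T, W]) hdisj (![3, 2, 1])
  simp only [Fin.sum_univ_three, Matrix.cons_val_zero, Matrix.cons_val_one, Matrix.cons_val_two,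
    Matrix.head_cons, Matrix.tail_cons, e00, e01, e10, e11, e02, e20, e12, e21, e22,
    hS0card, hT, hWcard] at key
  norm_num at key

end

end Cfsg.Agent.Lib.H12.S77
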