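import Mathlib
import Cfsg.Prelude.Def_ChevStructure
import Cfsg.Prelude.Def_LieTwisted
import Cfsg.Agent.Lib.H29.F4Inv6
import Cfsg.Agent.Lib.H29.ChevF4x
import Cfsg.Agent.Lib.H6.SEADefs

/-!
# S4625, piece TF4: the Sylow `2`-subgroups `P` of the large Ree groups `²F₄(2^(2m+1))`, `m ≥ 1`,
have `P / P'` elementary abelian

`U¹ = U ∩ ²F₄(q)` is a Sylow `2`-subgroup (orders: helper29's `card_f4`, `card_f4_U`), every element of
`U¹` is a product `x₁ y₂ x₃ y₄ x₅ y₆ x₇ y₈` of elements of the eight root subgroups (`f4_normal`); the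
pair elements `x_i(t)` are involutions, and the class elements `y_i(t, u)` form a group of Suzuki type:
`y(a, b) y(c, d) = y(a + c, b + d + θ(a) c)`, so that `y(t, u)² = y(0, θ(t) t)` is a commutator
`[y(a, 0), y(s a, 0)]` (`θ(s) ≠ s`, which needs `q > 2`).
-/

set_option autoImplicit false
set_option linter.unusedSectionVars false
set_option linter.unusedSimpArgs false
set_option linter.unusedVariables false

namespace Cfsg.Agent.Lib.H12.SEA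

open Cfsg Cfsg.Agent.Lib.H6.SEA Cfsg.Lie Cfsg.Agent.Lib.H29.Chev Matrix

open scoped commutatorElement

/-- a "Suzuki type" family `y a b` with `y a b * y c d = y (a + c) (b + d + θ a * c)`, `θ² = √`,
`θ ≠ 1`: the squares are commutators. -/
theorem suz_sq_mem {K : Type*} [Field K] [CharP K 2] {G : Type*} [Group G] (V : Subgroup G)
    (θ : K →+* K) (hθ : ∀ x : K, θ (θ x) ^ 2 = x) (hne : ∃ s : K, θ s ≠ s)
    (y : K → K → G) (hy : ∀ a b : K, y a b ∈ V)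
    (hmul : ∀ a b c d : K, y a b * y c d = y (a + c) (b + d + θ a * c)) (t u : K) :
    y t u ^ 2 ∈ ⁅V, V⁆ := by
  have h00 : y 0 0 = 1 := by
    have h := hmul 0 0 0 0
    simp only [add_zero, map_zero, mul_zero] at h
    exact mul_eq_left.mp h
  have key : ∀ v : K, y 0 v ∈ ⁅V, V⁆ := by
    intro v
    obtain ⟨s, hs⟩ := hne
    have hh : s + θ s ≠ 0 := by
      intro h
      exact hs (CharTwo.add_eq_zero.mp h).symm
    by_cases hv : v = 0
    · rw [hv, h00]; exact Subgroup.one_mem _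
    set l : K := v / (s + θ s) with hl
    have hl0 : l ≠ 0 := div_ne_zero hv hh
    have hθl0 : θ l ≠ 0 := (map_ne_zero θ).mpr hl0
    set a : K := l ^ 2 / (θ l) ^ 2 with ha
    set c : K := s * a with hc
    have hθa : θ a = (θ l) ^ 2 / l := by
      rw [ha, map_div₀, map_pow, map_pow, hθ]
    have haa : a * θ a = l := by
      rw [hθa, ha]
      field_simp
    have hv' : θ a * c + θ c * a = v := by
      have e : θ a * c + θ c * a = (a * θ a) * (s + θ s) := by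
        rw [hc, map_mul]; ring
      rw [e, haa, hl]
      field_simp
    have e : y a 0 * y c 0 = y 0 v * (y c 0 * y a 0) := by
      rw [hmul, hmul, hmul]
      have e1 : a + c = 0 + (c + a) := by ring
      have e2 : (0 : K) + 0 + θ a * c = v + (0 + 0 + θ c * a) + θ 0 * (c + a) := by
        have h2 : θ c * a + θ c * a = 0 := CharTwo.add_self_eq_zero _
        rw [map_zero, ← hv']
        linear_combination (-1 : K) * h2
      rw [e1, e2]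
    have e' : y 0 v = ⁅y a 0, y c 0⁆ := by
      rw [commutatorElement_def, e]
      group
    rw [e']
    exact Subgroup.commutator_mem_commutator (hy a 0) (hy c 0)
  have hsq : y t u ^ 2 = y 0 (θ t * t) := by
    rw [sq, hmul, CharTwo.add_self_eq_zero, CharTwo.add_self_eq_zero, zero_add]
  rw [hsq]
  exact key _

section F4

variable {K : Type*} [Field K] [CharP K 2] (m : ℕ)

/-- the elements of the eight root subgroups of `U¹` -/
def f4Gens (K : Type*) [Field K] [CharP K 2] (m : ℕ) : Set (GL chevF4.Idx K) :=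
  {g | (∃ t : K, g = f4x1 m t) ∨ (∃ t u : K, g = f4y2 m t u) ∨ (∃ t : K, g = f4x3 m t) ∨
    (∃ t u : K, g = f4y4 m t u) ∨ (∃ t : K, g = f4x5 m t) ∨ (∃ t u : K, g = f4y6 m t u) ∨
    (∃ t : K, g = f4x7 m t) ∨ (∃ t u : K, g = f4y8 m t u)}

theorem f4Gens_mem_pos (g : GL chevF4.Idx K) (hg : g ∈ f4Gens K m) : g ∈ chevF4.posUnipotent K := by
  rcases hg with ⟨t, rfl⟩ | ⟨t, u, rfl⟩ | ⟨t, rfl⟩ | ⟨t, u, rfl⟩ | ⟨t, rfl⟩ | ⟨t, u, rfl⟩ | ⟨t, rfl⟩ |
    ⟨t, u, rfl⟩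
  · rw [f4E_s1]; exact f4E_mem_pos m _ _ _ _ _ _ _ _ _ _ _ _
  · rw [f4E_s2]; exact f4E_mem_pos m _ _ _ _ _ _ _ _ _ _ _ _
  · rw [f4E_s3]; exact f4E_mem_pos m _ _ _ _ _ _ _ _ _ _ _ _
  · rw [f4E_s4]; exact f4E_mem_pos m _ _ _ _ _ _ _ _ _ _ _ _
  · rw [f4E_s5]; exact f4E_mem_pos m _ _ _ _ _ _ _ _ _ _ _ _
  · rw [f4E_s6]; exact f4E_mem_pos m _ _ _ _ _ _ _ _ _ _ _ _
  · rw [f4E_s7]; exact f4E_mem_pos m _ _ _ _ _ _ _ _ _ _ _ _
  · rw [f4E_s8]; exact f4E_mem_pos m _ _ _ _ _ _ _ _ _ _ _ _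

theorem f4Gens_mem_tw (g : GL chevF4.Idx K) (hg : g ∈ f4Gens K m) : g ∈ twistedF4 K (2 ^ m) := by
  rcases hg with ⟨t, rfl⟩ | ⟨t, u, rfl⟩ | ⟨t, rfl⟩ | ⟨t, u, rfl⟩ | ⟨t, rfl⟩ | ⟨t, u, rfl⟩ | ⟨t, rfl⟩ |
    ⟨t, u, rfl⟩
  · exact f4x1_mem m t
  · exact f4y2_mem m t u
  · exact f4x3_mem m t
  · exact f4y4_mem m t u
  · exact f4x5_mem m t
  · exact f4y6_mem m t u
  · exact f4x7_mem m t
  · exact f4y8_mem m t u

theorem f4E_mem_closure (a1 a2 b2 a3 a4 b4 a5 a6 b6 a7 a8 b8 : K) :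
    f4E m a1 a2 b2 a3 a4 b4 a5 a6 b6 a7 a8 b8 ∈ Subgroup.closure (f4Gens K m) := by
  unfold f4E
  have h1 : ∀ t : K, f4x1 m t ∈ Subgroup.closure (f4Gens K m) :=
    fun t => Subgroup.subset_closure (Or.inl ⟨t, rfl⟩)
  have h2 : ∀ t u : K, f4y2 m t u ∈ Subgroup.closure (f4Gens K m) :=
    fun t u => Subgroup.subset_closure (Or.inr (Or.inl ⟨t, u, rfl⟩))
  have h3 : ∀ t : K, f4x3 m t ∈ Subgroup.closure (f4Gens K m) :=
    fun t => Subgroup.subset_closure (Or.inr (Or.inr (Or.inl ⟨t, rfl⟩)))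
  have h4 : ∀ t u : K, f4y4 m t u ∈ Subgroup.closure (f4Gens K m) :=
    fun t u => Subgroup.subset_closure (Or.inr (Or.inr (Or.inr (Or.inl ⟨t, u, rfl⟩))))
  have h5 : ∀ t : K, f4x5 m t ∈ Subgroup.closure (f4Gens K m) :=
    fun t => Subgroup.subset_closure (Or.inr (Or.inr (Or.inr (Or.inr (Or.inl ⟨t, rfl⟩)))))
  have h6 : ∀ t u : K, f4y6 m t u ∈ Subgroup.closure (f4Gens K m) :=
    fun t u => Subgroup.subset_closure (Or.inr (Or.inr (Or.inr (Or.inr (Or.inr (Or.inl ⟨t, u, rfl⟩))))))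
  have h7 : ∀ t : K, f4x7 m t ∈ Subgroup.closure (f4Gens K m) :=
    fun t => Subgroup.subset_closure
      (Or.inr (Or.inr (Or.inr (Or.inr (Or.inr (Or.inr (Or.inl ⟨t, rfl⟩)))))))
  have h8 : ∀ t u : K, f4y8 m t u ∈ Subgroup.closure (f4Gens K m) :=
    fun t u => Subgroup.subset_closure
      (Or.inr (Or.inr (Or.inr (Or.inr (Or.inr (Or.inr (Or.inr ⟨t, u, rfl⟩)))))))
  exact mul_mem (h1 _) (mul_mem (h2 _ _) (mul_mem (h3 _) (mul_mem (h4 _ _)
    (mul_mem (h5 _) (mul_mem (h6 _ _) (mul_mem (h7 _) (h8 _ _)))))))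

variable (hθ : ∀ x : K, f4Theta K m (f4Theta K m x) ^ 2 = x)
include hθ

theorem f4x1_mul (a b : K) : f4x1 m a * f4x1 m b = f4x1 m (a + b) := by
  rw [f4E_s1 m a, f4E_mul_1 m hθ, f4E_s1 m (a + b)]
  apply f4E_congr <;> simp

theorem f4x3_mul (a b : K) : f4x3 m a * f4x3 m b = f4x3 m (a + b) := by
  rw [f4E_s3 m a, f4E_mul_3 m hθ, f4E_s3 m (a + b)]
  apply f4E_congr <;> simp

theorem f4x5_mul (a b : K) : f4x5 m a * f4x5 m b = f4x5 m (a + b) := by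
  rw [f4E_s5 m a, f4E_mul_5 m hθ, f4E_s5 m (a + b)]
  apply f4E_congr <;> simp

theorem f4x7_mul (a b : K) : f4x7 m a * f4x7 m b = f4x7 m (a + b) := by
  rw [f4E_s7 m a, f4E_mul_7 m hθ, f4E_s7 m (a + b)]

theorem f4y2_mul (a b c d : K) :
    f4y2 m a b * f4y2 m c d = f4y2 m (a + c) (b + d + f4Theta K m a * c) := by
  rw [f4E_s2 m a b, f4E_mul_2 m hθ, f4E_s2 m (a + c)]
  apply f4E_congr <;> simp

theorem f4y4_mul (a b c d : K) :
    f4y4 m a b * f4y4 m c d = f4y4 m (a + c) (b + d + f4Theta K m a * c) := by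
  rw [f4E_s4 m a b, f4E_mul_4 m hθ, f4E_s4 m (a + c)]
  apply f4E_congr <;> simp

theorem f4y6_mul (a b c d : K) :
    f4y6 m a b * f4y6 m c d = f4y6 m (a + c) (b + d + f4Theta K m a * c) := by
  rw [f4E_s6 m a b, f4E_mul_6 m hθ, f4E_s6 m (a + c)]
  apply f4E_congr <;> simp

theorem f4y8_mul (a b c d : K) :
    f4y8 m a b * f4y8 m c d = f4y8 m (a + c) (b + d + f4Theta K m a * c) := by
  rw [f4E_s8 m a b, f4E_mul_8 m hθ, f4E_s8 m (a + c)]

theorem f4x1_sq (t : K) : f4x1 m t ^ 2 = 1 := by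
  rw [sq, f4x1_mul m hθ, CharTwo.add_self_eq_zero]; exact pairEl_zero m _ _

theorem f4x3_sq (t : K) : f4x3 m t ^ 2 = 1 := by
  rw [sq, f4x3_mul m hθ, CharTwo.add_self_eq_zero]; exact pairEl_zero m _ _

theorem f4x5_sq (t : K) : f4x5 m t ^ 2 = 1 := by
  rw [sq, f4x5_mul m hθ, CharTwo.add_self_eq_zero]; exact pairEl_zero m _ _

theorem f4x7_sq (t : K) : f4x7 m t ^ 2 = 1 := by
  rw [sq, f4x7_mul m hθ, CharTwo.add_self_eq_zero]; exact pairEl_zero m _ _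

/-- the squares of the generators lie in the derived subgroup of `U¹` -/
theorem f4Gens_sq (hne : ∃ s : K, f4Theta K m s ≠ s) (g : GL chevF4.Idx K) (hg : g ∈ f4Gens K m) :
    g ^ 2 ∈ ⁅chevF4.posUnipotent K ⊓ twistedF4 K (2 ^ m), chevF4.posUnipotent K ⊓ twistedF4 K (2 ^ m)⁆ := by
  have hV : ∀ g ∈ f4Gens K m, g ∈ chevF4.posUnipotent K ⊓ twistedF4 K (2 ^ m) :=
    fun g hg => Subgroup.mem_inf.mpr ⟨f4Gens_mem_pos m g hg, f4Gens_mem_tw m g hg⟩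
  rcases hg with ⟨t, rfl⟩ | ⟨t, u, rfl⟩ | ⟨t, rfl⟩ | ⟨t, u, rfl⟩ | ⟨t, rfl⟩ | ⟨t, u, rfl⟩ | ⟨t, rfl⟩ |
    ⟨t, u, rfl⟩
  · rw [f4x1_sq m hθ]; exact Subgroup.one_mem _
  · exact suz_sq_mem _ (f4Theta K m) hθ hne (fun a b => f4y2 m a b)
      (fun a b => hV _ (Or.inr (Or.inl ⟨a, b, rfl⟩))) (f4y2_mul m hθ) t u
  · rw [f4x3_sq m hθ]; exact Subgroup.one_mem _
  · exact suz_sq_mem _ (f4Theta K m) hθ hne (fun a b => f4y4 m a b)
      (fun a b => hV _ (Or.inr (Or.inr (Or.inr (Or.inl ⟨a, b, rfl⟩))))) (f4y4_mul m hθ) t u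
  · rw [f4x5_sq m hθ]; exact Subgroup.one_mem _
  · exact suz_sq_mem _ (f4Theta K m) hθ hne (fun a b => f4y6 m a b)
      (fun a b => hV _ (Or.inr (Or.inr (Or.inr (Or.inr (Or.inr (Or.inl ⟨a, b, rfl⟩)))))))
      (f4y6_mul m hθ) t u
  · rw [f4x7_sq m hθ]; exact Subgroup.one_mem _
  · exact suz_sq_mem _ (f4Theta K m) hθ hne (fun a b => f4y8 m a b)
      (fun a b => hV _ (Or.inr (Or.inr (Or.inr (Or.inr (Or.inr (Or.inr (Or.inr ⟨a, b, rfl⟩))))))))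
      (f4y8_mul m hθ) t u

end F4

section Main

variable {K : Type*} [Field K] [Fintype K] [CharP K 2]

/-- `θ` is not the identity when `q > 2` -/
theorem f4Theta_ne_id (m : ℕ) (hm : 1 ≤ m) (hK : Fintype.card K = 2 ^ (2 * m + 1)) :
    ∃ s : K, f4Theta K m s ≠ s := by
  obtain ⟨z, hz0, hz1⟩ := exists_ne_zero_one (K := K) m hK hm
  refine ⟨z, fun h => ?_⟩
  have h2 := f4_theta_theta_sq (K := K) m hK z
  rw [h, h] at h2
  have : z * (z - 1) = 0 := by rw [mul_sub, mul_one, ← sq, h2, sub_self]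
  rcases mul_eq_zero.mp this with h3 | h3
  · exact hz0 h3
  · exact hz1 (sub_eq_zero.mp h3)

/-- `U¹ / (U¹)'` is elementary abelian -/
theorem ea_f4_U (m : ℕ) (hm : 1 ≤ m) (hK : Fintype.card K = 2 ^ (2 * m + 1)) :
    EA ↥(chevF4.posUnipotent K ⊓ twistedF4 K (2 ^ m)) := by
  have hθ := f4_theta_theta_sq (K := K) m hK
  refine EA.of_gen _ (f4Gens K m) ?_ ?_ ?_
  · intro g hg
    exact Subgroup.mem_inf.mpr ⟨f4Gens_mem_pos m g hg, f4Gens_mem_tw m g hg⟩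
  · intro g hg
    rw [f4_U_eq m hK] at hg
    obtain ⟨a1, a2, b2, a3, a4, b4, a5, a6, b6, a7, a8, b8, rfl⟩ := f4_normal m hK g hg
    exact f4E_mem_closure m _ _ _ _ _ _ _ _ _ _ _ _
  · intro g hg
    exact f4Gens_sq m hθ (f4Theta_ne_id m hm hK) g hg

/-- the `2`-part of the order of the large Ree group -/
theorem f4_factorization_two (m : ℕ) (hK : Fintype.card K = 2 ^ (2 * m + 1)) :
    (Nat.card ↥(twistedF4 K (2 ^ m))).factorization 2 = (2 * m + 1) * 12 := by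
  rw [card_f4 m hK]
  have hq : 2 ∣ 2 ^ (2 * m + 1) := dvd_pow_self 2 (by omega)
  have hq1 : 1 ≤ 2 ^ (2 * m + 1) := Nat.one_le_two_pow
  have hodd : ¬ 2 ∣ (2 ^ (2 * m + 1) - 1) * ((2 ^ (2 * m + 1)) ^ 3 + 1) * ((2 ^ (2 * m + 1)) ^ 4 - 1) *
      ((2 ^ (2 * m + 1)) ^ 6 + 1) := by
    generalize 2 ^ (2 * m + 1) = q at hq hq1
    obtain ⟨k, rfl⟩ := hq
    have h4 : 1 ≤ (2 * k) ^ 4 := Nat.one_le_pow _ _ (by omega)
    intro h
    rw [Nat.Prime.dvd_mul Nat.prime_two, Nat.Prime.dvd_mul Nat.prime_two, Nat.Prime.dvd_mul Nat.prime_two] at h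
    have e3 : (2 * k) ^ 3 = 2 * (4 * k ^ 3) := by ring
    have e4 : (2 * k) ^ 4 = 2 * (8 * k ^ 4) := by ring
    have e6 : (2 * k) ^ 6 = 2 * (32 * k ^ 6) := by ring
    rcases h with ((h | h) | h) | h
    · omega
    · omega
    · omega
    · omega
  have e : (2 ^ (2 * m + 1)) ^ 12 * (2 ^ (2 * m + 1) - 1) * ((2 ^ (2 * m + 1)) ^ 3 + 1) * ((2 ^ (2 * m + 1)) ^ 4 - 1) *
      ((2 ^ (2 * m + 1)) ^ 6 + 1) = 2 ^ ((2 * m + 1) * 12) * ((2 ^ (2 * m + 1) - 1) * ((2 ^ (2 * m + 1)) ^ 3 + 1) *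
      ((2 ^ (2 * m + 1)) ^ 4 - 1) * ((2 ^ (2 * m + 1)) ^ 6 + 1)) := by
    rw [← pow_mul]; ring
  rw [e, Nat.factorization_mul (by positivity) (by
    intro h0
    apply hodd
    rw [h0]; exact dvd_zero 2), Finsupp.add_apply, Nat.Prime.factorization_pow Nat.prime_two,
    Nat.factorization_eq_zero_of_not_dvd hodd]
  simp

end Main

/-- TF4 : the large Ree groups `²F₄(q)`, `q = 2^{2m+1} ≥ 8`. -/
theorem sylEA_2F4 (K : Type*) [Field K] [Fintype K] (m : ℕ) (hm : 1 ≤ m)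
    (hK : Fintype.card K = 2 ^ (2 * m + 1)) : SylEA ↥(Lie.twistedF4 K (2 ^ m)) := by
  have : CharP K 2 := charP_of_card_pow 2 (2 * m + 1) (by norm_num) hK
  have hle : chevF4.posUnipotent K ⊓ twistedF4 K (2 ^ m) ≤ twistedF4 K (2 ^ m) := inf_le_right
  have hcardU : Nat.card ↥((chevF4.posUnipotent K ⊓ twistedF4 K (2 ^ m)).subgroupOf (twistedF4 K (2 ^ m))) =
      2 ^ ((2 * m + 1) * 12) := by
    rw [Nat.card_congr (Subgroup.subgroupOfEquivOfLe hle).toEquiv, card_f4_U m hK, ← pow_mul]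
  refine sylEA_of_card ((chevF4.posUnipotent K ⊓ twistedF4 K (2 ^ m)).subgroupOf (twistedF4 K (2 ^ m)))
    (by rw [hcardU, f4_factorization_two m hK]) ?_
  exact EA.of_equiv (Subgroup.subgroupOfEquivOfLe hle) (ea_f4_U m hm hK)

end Cfsg.Agent.Lib.H12.SEA
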