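import Mathlib
import Cfsg.Agent.Lib.H12.SHGLUEA
import Cfsg.Agent.Lib.H11.SHCSG
import Cfsg.Agent.Lib.H6.SHENDA
import Cfsg.Agent.Lib.H23.BlockPrincipal
import Cfsg.Agent.Lib.H23.BlockOsima
import Cfsg.Agent.Lib.L0.CharExceptional

/-!
# S3017 (Shult), CASE A on the group side (helper12)

`caseA`: under the LOC output in character form (`H11.SH.LocData`), fusion control of `N_G(H)` in `H`,
`⟨H^G⟩ = G` and non-transitivity of `N_G(H)` on `H#`, the normalizer of `H` centralizes `H`.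
It is helper6's pure `H6.SH.enda` applied to `A := ↥H`, `N := ↥(normalizer H)`, `ι := ↥(principalBlock M G)`.
-/

set_option autoImplicit false

namespace Cfsg.Agent.Lib.H12.SH

open scoped ComplexConjugate
open Cfsg

variable {G : Type*} [Group G]

section gamma

variable [Finite G] {p : ℕ} [Fact p.Prime]

open Classical in
/-- `Γ(h,c) = [h ~ c] γ_c` for `p`-elements `h`, `c` (block orthogonality S0925(ii)). -/
theorem gamma_eval (M : Ideal AlgInt) (hM : IsPModular p M) (h c : G)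
    (hh : ∃ k : ℕ, orderOf h = p ^ k) (hc : ∃ k : ℕ, orderOf c = p ^ k) :
    ∑ᶠ χ ∈ principalBlock M G, (χ : G → ℂ) h * (χ : G → ℂ) c⁻¹ =
      if IsConj h c then ∑ᶠ χ ∈ principalBlock M G, (χ : G → ℂ) c * (χ : G → ℂ) c⁻¹ else 0 := by
  have hp : p.Prime := Fact.out
  split_ifs with hconj
  · refine finsum_mem_congr rfl (fun χ _ => ?_)
    rw [Cfsg.Agent.Lib.H24.irr_eq_of_isConj χ hconj]
  · have h1 : IsPPart p h h := by
      refine ⟨1, mul_one h, Commute.one_right h, hh, ?_⟩
      rw [orderOf_one]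
      exact hp.one_lt.ne' ∘ Nat.dvd_one.1
    have h2 : IsPPart p c c := by
      refine ⟨1, mul_one c, Commute.one_right c, hc, ?_⟩
      rw [orderOf_one]
      exact hp.one_lt.ne' ∘ Nat.dvd_one.1
    have hB : IsPBlock M (principalBlock M G) :=
      ⟨⟨fun _ => 1, Cfsg.Agent.Lib.H24.isIrrCharacter_one⟩, rfl⟩
    exact (Cfsg.Agent.S0925.result p M hM).2 h c h c h1 h2 hconj (principalBlock M G) hB

omit [Finite G] in
/-- elements of a `p`-subgroup are `p`-elements. -/
theorem exists_orderOf_eq_pow {H : Subgroup G} (hHp : IsPGroup p H) {h : G} (hh : h ∈ H) :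
    ∃ k : ℕ, orderOf h = p ^ k := by
  have hp : p.Prime := Fact.out
  obtain ⟨k, hk⟩ := hHp ⟨h, hh⟩
  have h1 : h ^ p ^ k = 1 := by
    have := congrArg Subtype.val hk
    simpa using this
  obtain ⟨m, -, hm⟩ := (Nat.dvd_prime_pow hp).1 (orderOf_dvd_of_pow_eq_one h1)
  exact ⟨m, hm⟩

/-- ORTH in orbit-count form, in group terms. -/
theorem orth_orbit [DecidableEq G] {H : Subgroup G} [Fintype ↥(Subgroup.normalizer (H : Set G))]
    (M : Ideal AlgInt) (hM : IsPModular p M) (hHp : IsPGroup p H)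
    (hloc : Cfsg.Agent.Lib.H11.SH.LocData p H (principalBlock M G))
    (hfus : ∀ h ∈ H, ∀ c ∈ H, IsConj h c →
      ∃ n ∈ Subgroup.normalizer (H : Set G), n * c * n⁻¹ = h)
    (a b c : G) (ha : a ∈ H) (hb : b ∈ H) (hc : c ∈ H) (hc1 : c ≠ 1) :
    (Nat.card ↥(Subgroup.normalizer (H : Set G)) : ℂ) *
        ∑ᶠ χ ∈ principalBlock M G,
          (χ : G → ℂ) a * (χ : G → ℂ) b * (χ : G → ℂ) c⁻¹ / (χ : G → ℂ) 1 =
      (∑ᶠ χ ∈ principalBlock M G, (χ : G → ℂ) c * (χ : G → ℂ) c⁻¹) *
        ((Finset.univ.filter (fun n : ↥(Subgroup.normalizer (H : Set G)) =>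
          ∃ n' : ↥(Subgroup.normalizer (H : Set G)),
            a * ((n : G) * b * (n : G)⁻¹) = (n' : G) * c * (n' : G)⁻¹)).card : ℂ) := by
  rw [Cfsg.Agent.Lib.H11.SH.orth M hM hloc a b ha hb c (exists_orderOf_eq_pow hHp hc) hc1]
  have h1 : ∀ n : ↥(Subgroup.normalizer (H : Set G)),
      ∑ᶠ χ ∈ principalBlock M G,
        (χ : G → ℂ) (a * ((n : G) * b * (n : G)⁻¹)) * (χ : G → ℂ) c⁻¹ =
      if (∃ n' : ↥(Subgroup.normalizer (H : Set G)),
            a * ((n : G) * b * (n : G)⁻¹) = (n' : G) * c * (n' : G)⁻¹) then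
        ∑ᶠ χ ∈ principalBlock M G, (χ : G → ℂ) c * (χ : G → ℂ) c⁻¹ else 0 := by
    intro n
    have hmem : a * ((n : G) * b * (n : G)⁻¹) ∈ H :=
      H.mul_mem ha (Cfsg.Agent.Lib.H11.SH.conj_mem_of_mem_normalizer n.2 hb)
    rw [gamma_eval M hM _ c (exists_orderOf_eq_pow hHp hmem) (exists_orderOf_eq_pow hHp hc)]
    have hiff : IsConj (a * ((n : G) * b * (n : G)⁻¹)) c ↔
        ∃ n' : ↥(Subgroup.normalizer (H : Set G)),
          a * ((n : G) * b * (n : G)⁻¹) = (n' : G) * c * (n' : G)⁻¹ := by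
      constructor
      · intro hconj
        obtain ⟨n', hn', h⟩ := hfus _ hmem c hc hconj
        exact ⟨⟨n', hn'⟩, h.symm⟩
      · rintro ⟨n', h⟩
        rw [h]
        exact isConj_iff.2 ⟨(n' : G)⁻¹, by group⟩
    by_cases hconj : IsConj (a * ((n : G) * b * (n : G)⁻¹)) c
    · rw [if_pos hconj, if_pos (hiff.1 hconj)]
    · rw [if_neg hconj, if_neg (fun h => hconj (hiff.2 h))]
  rw [Finset.sum_congr rfl (fun n _ => h1 n), Finset.sum_ite, Finset.sum_const_zero, add_zero,
    Finset.sum_const, nsmul_eq_mul, mul_comm]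

end gamma

section main

variable [Finite G] {p : ℕ} [Fact p.Prime]

/-- **CASE A** on the group side: `N_G(H)` centralizes `H`. -/
theorem caseA (M : Ideal AlgInt) (hM : IsPModular p M) (H : Subgroup G)
    (hHp : IsPGroup p H) (hHab : ∀ a ∈ H, ∀ b ∈ H, a * b = b * a)
    (hloc : Cfsg.Agent.Lib.H11.SH.LocData p H (principalBlock M G))
    (hfus : ∀ h ∈ H, ∀ c ∈ H, IsConj h c →
      ∃ n ∈ Subgroup.normalizer (H : Set G), n * c * n⁻¹ = h)
    (hncl : Subgroup.normalClosure (H : Set G) = ⊤) (hnt : ¬ TransN H) :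
    ∀ n ∈ Subgroup.normalizer (H : Set G), ∀ a ∈ H, n * a * n⁻¹ = a := by
  classical
  haveI : Fintype G := Fintype.ofFinite G
  haveI hPr : M.IsPrime := Cfsg.Agent.Lib.H23.isPrime_of_isPModular hM
  letI instA : CommGroup ↥H :=
    { (inferInstance : Group ↥H) with mul_comm := fun a b => Subtype.ext (hHab a a.2 b b.2) }
  haveI : Fintype ↥H := Fintype.ofFinite _
  haveI : Fintype ↥(Subgroup.normalizer (H : Set G)) := Fintype.ofFinite _
  haveI : Fintype ↥(principalBlock M G) := Fintype.ofFinite _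
  have hdeg : ∀ i : ↥(principalBlock M G), ∃ n : ℕ, 0 < n ∧ (i.1 : G → ℂ) 1 = n :=
    fun i => Cfsg.Agent.Lib.L0.irr_apply_one_pos i.1.2
  choose f hf0 hf1 using hdeg
  have key : ∀ (n : ↥(Subgroup.normalizer (H : Set G))) (a : ↥H),
      H.normalizerMonoidHom n a = a := by
    refine Cfsg.Agent.Lib.H6.SH.enda (A := ↥H) (N := ↥(Subgroup.normalizer (H : Set G)))
      (ι := ↥(principalBlock M G)) H.normalizerMonoidHom
      (fun i a => (i.1 : G → ℂ) (a : G)) f ?_
      ⟨Cfsg.Agent.Lib.H24.trivialIrr G, Cfsg.Agent.Lib.H23.trivialIrr_mem_principalBlock⟩ ?_ ?_ ?_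
      (fun c => (∑ i : ↥(principalBlock M G), Complex.normSq ((i.1 : G → ℂ) (c : G))) /
        ((Fintype.card ↥(Subgroup.normalizer (H : Set G)) : ℝ) *
          ((Finset.univ.filter (fun n' : ↥(Subgroup.normalizer (H : Set G)) =>
            H.normalizerMonoidHom n' c = c)).card : ℝ)))
      ?_ ?_ ?_
    · -- hf
      intro i
      exact ⟨hf0 i, hf1 i⟩
    · -- hi₀
      intro a
      rfl
    · -- hker
      intro i hconst
      have h1 : (i.1 : G → ℂ) = fun _ => 1 :=
        ker i.1.2 H hncl (fun a ha => hconst ⟨a, ha⟩)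
      exact Subtype.ext (Subtype.ext h1)
    · -- hm
      intro i l
      exact mult (Cfsg.Agent.Lib.L0.isCharacter_of_irr i.1.2) H l
    · -- hORTH
      intro a b c hc1
      have hc1' : (c : G) ≠ 1 := fun h => hc1 (Subtype.ext h)
      have hO := orth_orbit M hM hHp hloc hfus (a : G) (b : G) (c : G) a.2 b.2 c.2 hc1'
      have e1 : ∑ i : ↥(principalBlock M G), (i.1 : G → ℂ) (a : G) * (i.1 : G → ℂ) (b : G) *
            conj ((i.1 : G → ℂ) (c : G)) / (i.1 : G → ℂ) ((1 : ↥H) : G) =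
          ∑ᶠ χ ∈ principalBlock M G,
            (χ : G → ℂ) (a : G) * (χ : G → ℂ) (b : G) * (χ : G → ℂ) (c : G)⁻¹ / (χ : G → ℂ) 1 := by
        rw [← finsum_set_coe_eq_finsum_mem, finsum_eq_sum_of_fintype]
        refine Finset.sum_congr rfl (fun i _ => ?_)
        rw [Cfsg.Agent.Lib.H24.irr_inv]
        rfl
      have e2 : ∑ᶠ χ ∈ principalBlock M G, (χ : G → ℂ) (c : G) * (χ : G → ℂ) (c : G)⁻¹ =
          ((∑ i : ↥(principalBlock M G), Complex.normSq ((i.1 : G → ℂ) (c : G)) : ℝ) : ℂ) := by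
        rw [← finsum_set_coe_eq_finsum_mem, finsum_eq_sum_of_fintype, Complex.ofReal_sum]
        refine Finset.sum_congr rfl (fun i _ => ?_)
        rw [Cfsg.Agent.Lib.H24.irr_inv, Complex.mul_conj]
      have e3 := Cfsg.Agent.Lib.H6.SH.card_pairs_eq H.normalizerMonoidHom a b c
      have e4 : (Finset.univ.filter (fun n : ↥(Subgroup.normalizer (H : Set G)) =>
            ∃ n' : ↥(Subgroup.normalizer (H : Set G)),
              a * H.normalizerMonoidHom n b = H.normalizerMonoidHom n' c)).card =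
          (Finset.univ.filter (fun n : ↥(Subgroup.normalizer (H : Set G)) =>
            ∃ n' : ↥(Subgroup.normalizer (H : Set G)),
              (a : G) * ((n : G) * (b : G) * (n : G)⁻¹) = (n' : G) * (c : G) * (n' : G)⁻¹)).card := by
        congr 1
        apply Finset.filter_congr
        intro n _
        constructor
        · rintro ⟨n', h⟩
          exact ⟨n', congrArg Subtype.val h⟩
        · rintro ⟨n', h⟩
          exact ⟨n', Subtype.ext h⟩
      have hstab : 0 < (Finset.univ.filter (fun n' : ↥(Subgroup.normalizer (H : Set G)) =>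
            H.normalizerMonoidHom n' c = c)).card := by
        apply Finset.card_pos.2
        exact ⟨1, by simp⟩
      have hN0 : (Nat.card ↥(Subgroup.normalizer (H : Set G)) : ℂ) ≠ 0 := by
        have : 0 < Nat.card ↥(Subgroup.normalizer (H : Set G)) := Nat.card_pos
        exact_mod_cast this.ne'
      show ∑ i : ↥(principalBlock M G), (i.1 : G → ℂ) (a : G) * (i.1 : G → ℂ) (b : G) *
            conj ((i.1 : G → ℂ) (c : G)) / (i.1 : G → ℂ) ((1 : ↥H) : G) = _
      rw [e1]
      have hS : ∑ᶠ χ ∈ principalBlock M G,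
            (χ : G → ℂ) (a : G) * (χ : G → ℂ) (b : G) * (χ : G → ℂ) (c : G)⁻¹ / (χ : G → ℂ) 1 =
          (∑ᶠ χ ∈ principalBlock M G, (χ : G → ℂ) (c : G) * (χ : G → ℂ) (c : G)⁻¹) *
            ((Finset.univ.filter (fun n : ↥(Subgroup.normalizer (H : Set G)) =>
              ∃ n' : ↥(Subgroup.normalizer (H : Set G)),
                (a : G) * ((n : G) * (b : G) * (n : G)⁻¹) = (n' : G) * (c : G) * (n' : G)⁻¹)).card : ℂ) /
            (Nat.card ↥(Subgroup.normalizer (H : Set G)) : ℂ) := by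
        rw [eq_div_iff hN0, mul_comm]
        exact hO
      rw [hS, e2, e3, e4, Nat.card_eq_fintype_card]
      have hstabC : ((Finset.univ.filter (fun n' : ↥(Subgroup.normalizer (H : Set G)) =>
            H.normalizerMonoidHom n' c = c)).card : ℂ) ≠ 0 := by
        exact_mod_cast hstab.ne'
      have hN0' : (Fintype.card ↥(Subgroup.normalizer (H : Set G)) : ℂ) ≠ 0 := by
        rw [← Nat.card_eq_fintype_card]
        exact hN0
      push_cast
      field_simp
    · -- hCS0
      intro i a b hab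
      have h := Cfsg.Agent.Lib.H11.SH.cs_good hloc i.1 i.2 (a : G) (b : G) a.2 b.2
        (fun n h' => hab n (Subtype.ext h'))
      rw [Nat.card_eq_fintype_card] at h
      exact h
    · -- hnt
      obtain ⟨a, ha, b, hb, ha1, hb1, h⟩ := nt hnt
      exact ⟨⟨a, ha⟩, ⟨b, hb⟩, fun h' => ha1 (congrArg Subtype.val h'),
        fun h' => hb1 (congrArg Subtype.val h'),
        fun n h' => h n n.2 (congrArg Subtype.val h')⟩
  intro n hn a ha
  exact congrArg Subtype.val (key ⟨n, hn⟩ ⟨a, ha⟩)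

end main

end Cfsg.Agent.Lib.H12.SH
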