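import Mathlib
import Cfsg.Agent.Lib.H12.SHCASEA
import Cfsg.Agent.Lib.H8.SHZST

/-!
# S3017 (Shult), step (α) and the CASE A contradiction on the group side (helper12)

`alpha`       : LOC output + `N_G(H)` centralizes `H` + `O(G) = 1` ⇒ every involution of `H` is central.
`alpha_false` : ... contradicting `H ⊓ Z(G) = ⊥`, `H ≠ ⊥`.
`caseA_false` : CASE A (`N_G(H)` not transitive on `H#`) is impossible in the minimal configuration.
-/

set_option autoImplicit false

namespace Cfsg.Agent.Lib.H12.SH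

open Cfsg

variable {G : Type*} [Group G] [Finite G]

/-- (α): if `N_G(H)` centralizes `H` and `O(G) = 1`, every involution of `H` is central. -/
theorem alpha {H : Subgroup G} {B : Set (IrrCharacter G)}
    (hloc : Cfsg.Agent.Lib.H11.SH.LocData 2 H B)
    (hcen : ∀ n ∈ Subgroup.normalizer (H : Set G), ∀ a ∈ H, n * a * n⁻¹ = a)
    (hO : Cfsg.oddCore G = ⊥) (a : G) (ha : a ∈ H) (ha2 : orderOf a = 2) :
    a ∈ Subgroup.center G := by
  apply Cfsg.Agent.Lib.H8.SH.zst_core hO a ha2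
  intro g
  obtain ⟨ν, hν, h⟩ := hloc g
  have haa : a * a = 1 := by
    rw [← sq, ← ha2]
    exact pow_orderOf_eq_one a
  have h1 : a * (ν * a * ν⁻¹) = 1 := by
    rw [hcen ν hν a ha, haa]
  have h2 := (h a ha a ha).2 h1
  rw [← Nat.not_even_iff_odd, even_iff_two_dvd]
  exact h2

/-- (α) as a contradiction. -/
theorem alpha_false {H : Subgroup G} {B : Set (IrrCharacter G)} (hH2 : IsPGroup 2 H) (hH : H ≠ ⊥)
    (hloc : Cfsg.Agent.Lib.H11.SH.LocData 2 H B)
    (hcen : ∀ n ∈ Subgroup.normalizer (H : Set G), ∀ a ∈ H, n * a * n⁻¹ = a)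
    (hO : Cfsg.oddCore G = ⊥) (hZ : H ⊓ Subgroup.center G = ⊥) : False := by
  obtain ⟨a, ha, ha2⟩ := exists_involution hH2 hH
  have hc := alpha hloc hcen hO a ha ha2
  have hmem : a ∈ H ⊓ Subgroup.center G := ⟨ha, hc⟩
  rw [hZ, Subgroup.mem_bot] at hmem
  rw [hmem, orderOf_one] at ha2
  exact absurd ha2 (by norm_num)

/-- CASE A is impossible in the minimal configuration. -/
theorem caseA_false (M : Ideal AlgInt) (hM : IsPModular 2 M) (H : Subgroup G)
    (hH2 : IsPGroup 2 H) (hH : H ≠ ⊥) (hHab : ∀ a ∈ H, ∀ b ∈ H, a * b = b * a)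
    (hloc : Cfsg.Agent.Lib.H11.SH.LocData 2 H (principalBlock M G))
    (hfus : ∀ h ∈ H, ∀ c ∈ H, IsConj h c →
      ∃ n ∈ Subgroup.normalizer (H : Set G), n * c * n⁻¹ = h)
    (hncl : Subgroup.normalClosure (H : Set G) = ⊤)
    (hO : Cfsg.oddCore G = ⊥) (hZ : H ⊓ Subgroup.center G = ⊥) (hnt : ¬ TransN H) : False := by
  haveI : Fact (Nat.Prime 2) := ⟨Nat.prime_two⟩
  exact alpha_false hH2 hH hloc (caseA M hM H hH2 hHab hloc hfus hncl hnt) hO hZ

end Cfsg.Agent.Lib.H12.SH
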