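import Mathlib
import Cfsg.Agent.Lib.H12.SHALPHA

/-!
# S3017 (Shult): fusion control from the LOC output alone, and CASE A without the `hfus` hypothesis (helper12)

`fus_of_locData` : `LocData p H (principalBlock M G)` ⇒ `N_G(H)` controls `G`-fusion in `H`
                   (S0925(ii) at the pair `(1, x)`).
`caseA'`, `caseA_false'` : `caseA`, `caseA_false` with `hfus` discharged.
-/

set_option autoImplicit false

namespace Cfsg.Agent.Lib.H12.SH

open scoped ComplexConjugate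
open Cfsg

variable {G : Type*} [Group G] [Finite G]

/-- FUS from LocData: `N_G(H)` controls fusion in `H`. -/
theorem fus_of_locData {p : ℕ} [Fact p.Prime] (M : Ideal AlgInt) (hM : IsPModular p M)
    {H : Subgroup G} (hHp : IsPGroup p H)
    (hloc : Cfsg.Agent.Lib.H11.SH.LocData p H (principalBlock M G)) :
    ∀ h ∈ H, ∀ c ∈ H, IsConj h c →
      ∃ n ∈ Subgroup.normalizer (H : Set G), n * c * n⁻¹ = h := by
  classical
  haveI : Fintype G := Fintype.ofFinite G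
  haveI hPr : M.IsPrime := Cfsg.Agent.Lib.H23.isPrime_of_isPModular hM
  intro h hh c hc hconj
  obtain ⟨g, hg⟩ := isConj_iff.1 hconj.symm
  obtain ⟨ν, hν, hprop⟩ := hloc g
  by_cases hx : h⁻¹ * (ν * c * ν⁻¹) = 1
  · exact ⟨ν, hν, (inv_mul_eq_one.1 hx).symm⟩
  · exfalso
    have hxH : h⁻¹ * (ν * c * ν⁻¹) ∈ H :=
      H.mul_mem (H.inv_mem hh) (Cfsg.Agent.Lib.H11.SH.conj_mem_of_mem_normalizer hν hc)
    have hval : ∀ χ ∈ principalBlock M G,
        (χ : G → ℂ) 1 = (χ : G → ℂ) (h⁻¹ * (ν * c * ν⁻¹)) := by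
      intro χ hχ
      have := (hprop h⁻¹ (H.inv_mem hh) c hc).1 hx χ hχ
      rw [hg, inv_mul_cancel] at this
      exact this
    have hnc : ¬ IsConj (1 : G) (h⁻¹ * (ν * c * ν⁻¹)) := fun hc' => hx (isConj_one_right.1 hc')
    have hsum := gamma_eval M hM (1 : G) (h⁻¹ * (ν * c * ν⁻¹)) ⟨0, by simp⟩
      (exists_orderOf_eq_pow hHp hxH)
    rw [if_neg hnc, finsum_mem_eq_finite_toFinset_sum _ (Set.toFinite (principalBlock M G))] at hsum
    have hpos : ∀ χ ∈ (Set.toFinite (principalBlock M G)).toFinset, ∃ r : ℝ, 0 < r ∧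
        (χ : G → ℂ) 1 * (χ : G → ℂ) (h⁻¹ * (ν * c * ν⁻¹))⁻¹ = (r : ℂ) := by
      intro χ hχ
      obtain ⟨n, hn, h1⟩ := Cfsg.Agent.Lib.L0.irr_apply_one_pos χ.2
      refine ⟨(n : ℝ) ^ 2, by positivity, ?_⟩
      rw [Cfsg.Agent.Lib.H24.irr_inv, ← hval χ ((Set.Finite.mem_toFinset _).1 hχ), h1]
      simp [sq]
    have hlt : 0 < (∑ χ ∈ (Set.toFinite (principalBlock M G)).toFinset,
        (χ : G → ℂ) 1 * (χ : G → ℂ) (h⁻¹ * (ν * c * ν⁻¹))⁻¹).re := by
      rw [Complex.re_sum]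
      apply Finset.sum_pos
      · intro χ hχ
        obtain ⟨r, hr, hχr⟩ := hpos χ hχ
        rw [hχr, Complex.ofReal_re]
        exact hr
      · exact ⟨Cfsg.Agent.Lib.H24.trivialIrr G,
          (Set.Finite.mem_toFinset _).2 Cfsg.Agent.Lib.H23.trivialIrr_mem_principalBlock⟩
    rw [hsum] at hlt
    simp at hlt

/-- CASE A without the fusion hypothesis. -/
theorem caseA' {p : ℕ} [Fact p.Prime] (M : Ideal AlgInt) (hM : IsPModular p M) (H : Subgroup G)
    (hHp : IsPGroup p H) (hHab : ∀ a ∈ H, ∀ b ∈ H, a * b = b * a)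
    (hloc : Cfsg.Agent.Lib.H11.SH.LocData p H (principalBlock M G))
    (hncl : Subgroup.normalClosure (H : Set G) = ⊤) (hnt : ¬ TransN H) :
    ∀ n ∈ Subgroup.normalizer (H : Set G), ∀ a ∈ H, n * a * n⁻¹ = a :=
  caseA M hM H hHp hHab hloc (fus_of_locData M hM hHp hloc) hncl hnt

/-- CASE A is impossible in the minimal configuration (no fusion hypothesis). -/
theorem caseA_false' (M : Ideal AlgInt) (hM : IsPModular 2 M) (H : Subgroup G)
    (hH2 : IsPGroup 2 H) (hH : H ≠ ⊥) (hHab : ∀ a ∈ H, ∀ b ∈ H, a * b = b * a)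
    (hloc : Cfsg.Agent.Lib.H11.SH.LocData 2 H (principalBlock M G))
    (hncl : Subgroup.normalClosure (H : Set G) = ⊤)
    (hO : Cfsg.oddCore G = ⊥) (hZ : H ⊓ Subgroup.center G = ⊥) (hnt : ¬ TransN H) : False := by
  haveI : Fact (Nat.Prime 2) := ⟨Nat.prime_two⟩
  exact caseA_false M hM H hH2 hH hHab hloc (fus_of_locData M hM hH2 hloc) hncl hO hZ hnt

end Cfsg.Agent.Lib.H12.SH
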