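import Mathlib
import Cfsg.Agent.Lib.H12.SHFUS
import Cfsg.Agent.Lib.H11.SHCSG2
import Cfsg.Agent.Lib.H9.SHLOCD
import Cfsg.Agent.Lib.H4.SHIHC
import Cfsg.Agent.Lib.H4.SHREDQ
import Cfsg.Agent.Lib.L0.PRegCongP

/-!
# S3017 (Shult): the minimal configuration (helper12; twin of helper7's MIN)

`shult_min` : in the minimal configuration (`O(G) = 1`, `⟨H^G⟩ = G`, `H ∩ Z(G) = 1`, theorem known for
smaller groups) `H` is normal.  `shult` : S3017 for every finite group, via helper4's `red_of_min`.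
-/

set_option autoImplicit false

namespace Cfsg.Agent.Lib.H12.SH

open Cfsg

universe u

/-- MIN: the minimal configuration. -/
theorem shult_min (G : Type u) [Group G] [Finite G] (H : Subgroup G) (hH2 : IsPGroup 2 H)
    (hHab : IsMulCommutative H) (hcl : IsExtremelyClosed H)
    (IH : Cfsg.Agent.Lib.H2.SH.SmallerOK G) (hO : oddCore G = ⊥)
    (hncl : Subgroup.normalClosure (H : Set G) = ⊤) (hZ : H ⊓ Subgroup.center G = ⊥) :
    H.Normal := by
  classical
  by_cases hH : H = ⊥
  · subst hH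
    infer_instance
  exfalso
  obtain ⟨M, hM⟩ := Cfsg.Agent.Lib.L0.PRegP.exists_isPModular Nat.prime_two
  have hIH := Cfsg.Agent.Lib.H4.SH.ih_centralizer hH2 hHab hcl IH hZ
  have hloc := Cfsg.Agent.Lib.H9.SH.locData_of_loc hH2 hHab hcl hIH M hM
  have hHab' : ∀ a ∈ H, ∀ b ∈ H, a * b = b * a := fun a ha b hb =>
    congrArg Subtype.val (hHab.is_comm.comm (⟨a, ha⟩ : ↥H) ⟨b, hb⟩)
  by_cases htr : TransN H
  · -- CASE B
    have hnc : ¬ ∀ n ∈ Subgroup.normalizer (H : Set G), ∀ a ∈ H, n * a * n⁻¹ = a :=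
      fun hcen => alpha_false hH2 hH hloc hcen hO hZ
    push Not at hnc
    obtain ⟨n, hn, b, hb, hnb⟩ := hnc
    have hb1 : b ≠ 1 := by
      rintro rfl
      apply hnb
      group
    have hnbH : n * b * n⁻¹ ∈ H := Cfsg.Agent.Lib.H11.SH.conj_mem_of_mem_normalizer hn hb
    have hnb1 : n * b * n⁻¹ ≠ 1 := by
      intro h
      apply hb1
      have : b = n⁻¹ * (n * b * n⁻¹) * n := by group
      rw [this, h]
      group
    -- `4 ≤ |H|`
    have hq : 4 ≤ Nat.card ↥H := by
      obtain ⟨k, hk⟩ := (IsPGroup.iff_card).mp hH2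
      have h3 : 3 ≤ Nat.card ↥H := by
        have hinj : Function.Injective (fun i : Fin 3 =>
            (![⟨1, H.one_mem⟩, ⟨b, hb⟩, ⟨n * b * n⁻¹, hnbH⟩] i : ↥H)) := by
          intro i j hij
          fin_cases i <;> fin_cases j <;> first | rfl | (exfalso; simp [Subtype.ext_iff] at hij; first | exact hb1 hij | exact hb1 hij.symm | exact hnb1 hij | exact hnb1 hij.symm | exact hnb hij | exact hnb hij.symm)
        have := Nat.card_le_card_of_injective _ hinj
        simpa using this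
      rw [hk] at h3 ⊢
      rcases k with _ | _ | k
      · norm_num at h3
      · norm_num at h3
      · have : 2 ^ (k + 1 + 1) = 4 * 2 ^ k := by ring
        rw [this]
        have : 1 ≤ 2 ^ k := Nat.one_le_two_pow
        omega
    obtain ⟨a, ha, ha2⟩ := exists_involution hH2 hH
    have ha1 : a ≠ 1 := by
      rintro rfl
      rw [orderOf_one] at ha2
      norm_num at ha2
    have haa : a * a = 1 := by
      rw [← sq, ← ha2]
      exact pow_orderOf_eq_one a
    have htr' : ∀ b ∈ H, b ≠ 1 → ∃ n ∈ Subgroup.normalizer (H : Set G), n * a * n⁻¹ = b :=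
      fun b hb hb1 => htr b hb a ha hb1 ha1
    refine Cfsg.Agent.Lib.H11.SH.caseB M hM hloc hq a ha ha1 haa htr' ?_
    intro χ hχ hχa
    apply ker χ.2 H hncl
    intro x hx
    by_cases hx1 : x = 1
    · rw [hx1]
    · obtain ⟨m, -, hm⟩ := htr' x hx hx1
      rw [← hm, Cfsg.Agent.Lib.H24.irr_conj, hχa]
  · exact caseA_false' M hM H hH2 hH hHab' hloc hncl hO hZ htr

/-- S3017 for every finite group. -/
theorem shult (G : Type u) [Group G] [Finite G] (H : Subgroup G) (hH2 : IsPGroup 2 H)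
    (hHab : IsMulCommutative H) (hcl : Cfsg.IsExtremelyClosed H) :
    Subgroup.normalizer (H : Set G) ⊔ Cfsg.oddCore G = ⊤ :=
  Cfsg.Agent.Lib.H4.SH.red_of_min shult_min G H hH2 hHab hcl

end Cfsg.Agent.Lib.H12.SH
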