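import Mathlib
import Cfsg.Agent.S3021
import Cfsg.Agent.Lib.H6.SHCASEAK
import Cfsg.Agent.Lib.H12.SHFUS

/-!
# S3016 (Shult, general prime `p`): the SYL ending of CASE A (helper12)

CASE A = `N_G(H)` is not transitive on `H#`.  By `H12.SH.caseA` the normalizer centralizes `H`, and by
helper6's `H6.SHK.caseA_sq` the principal-block column sum at every `c ∈ H#` equals `|H|`.

* `theta_eval`  : for `y` in a Sylow `p`-subgroup `P ≥ H` the function
  `θ(y) = ∑_{χ ∈ B₀} χ(y) χ(c⁻¹)` equals `|H| [y = c]` (S0925(ii), `H` strongly closed in `P` by the landed S3021,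
  `N_G(H)` controls fusion in `H` and centralizes `H`).
* `sylow_eq`    : `H = P`: `|H| = ∑_{y ∈ P} θ(y) = |P| ∑_χ m_χ χ(c⁻¹)` with `m_χ ∈ ℕ` the multiplicity of `1_P`
  in `χ|_P`; so `|H| / |P|` is a rational algebraic integer.
* `caseA_top_of_fus`, `caseA_top` : Burnside's transfer theorem gives a normal `p`-complement, which lies in
  `O_{p'}(G) = 1`; hence `H = ⊤`.  No parity assumption on `p`.
-/

set_option autoImplicit false

namespace Cfsg.Agent.Lib.H12.SHP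

open scoped ComplexConjugate
open Cfsg
open Cfsg.Agent.Lib.H12.SH

variable {G : Type*} [Group G] [Finite G] {p : ℕ} [Fact p.Prime]

open Classical in
/-- the values of `θ = ∑_{B₀} χ(·) χ(c⁻¹)` on a `p`-subgroup in which `H` is strongly closed -/
theorem theta_eval (M : Ideal AlgInt) (hM : IsPModular p M) (H P : Subgroup G)
    (hHp : IsPGroup p H) (hPp : IsPGroup p P) (hstr : Cfsg.IsStronglyClosed H P)
    (hfus : ∀ h ∈ H, ∀ c ∈ H, IsConj h c →
      ∃ n ∈ Subgroup.normalizer (H : Set G), n * c * n⁻¹ = h)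
    (hcen : ∀ n ∈ Subgroup.normalizer (H : Set G), ∀ a ∈ H, n * a * n⁻¹ = a)
    (c : G) (hc : c ∈ H) (q : ℂ)
    (hq : ∑ᶠ χ ∈ principalBlock M G, (χ : G → ℂ) c * (χ : G → ℂ) c⁻¹ = q)
    (y : G) (hy : y ∈ P) :
    ∑ᶠ χ ∈ principalBlock M G, (χ : G → ℂ) y * (χ : G → ℂ) c⁻¹ = if y = c then q else 0 := by
  rw [gamma_eval M hM y c (exists_orderOf_eq_pow hPp hy) (exists_orderOf_eq_pow hHp hc), hq]
  by_cases hyc : y = c
  · rw [if_pos hyc, if_pos]
    rw [hyc]
  · rw [if_neg hyc, if_neg]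
    intro hconj
    apply hyc
    obtain ⟨g, hg⟩ := isConj_iff.1 hconj.symm
    have hyH : y ∈ H := by
      have h1 : g * c * g⁻¹ ∈ P := by rw [hg]; exact hy
      have h2 := hstr.2 c hc g h1
      rw [hg] at h2
      exact h2
    obtain ⟨n, hn, hnc⟩ := hfus y hyH c hc hconj
    rw [← hnc]
    exact hcen n hn c hc

/-- rational algebraic integers are integers -/
theorem int_of_integral_rat {z : ℂ} (hz : IsIntegral ℤ z) (r : ℚ) (hr : z = (r : ℂ)) :
    ∃ n : ℤ, z = (n : ℂ) := by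
  rw [hr] at hz
  have h2 : IsIntegral ℤ r := (isIntegral_algebraMap_iff (algebraMap ℚ ℂ).injective).mp hz
  obtain ⟨n, hn⟩ := IsIntegrallyClosed.isIntegral_iff.mp h2
  exact ⟨n, by rw [hr, ← hn]; simp⟩

/-- **SYL**: in CASE A the subgroup `H` is a Sylow `p`-subgroup. -/
theorem sylow_eq (M : Ideal AlgInt) (hM : IsPModular p M) (H : Subgroup G) (P : Sylow p G)
    (hHp : IsPGroup p H) (hstr : Cfsg.IsStronglyClosed H (P : Subgroup G))
    (hfus : ∀ h ∈ H, ∀ c ∈ H, IsConj h c →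
      ∃ n ∈ Subgroup.normalizer (H : Set G), n * c * n⁻¹ = h)
    (hcen : ∀ n ∈ Subgroup.normalizer (H : Set G), ∀ a ∈ H, n * a * n⁻¹ = a)
    (c : G) (hc : c ∈ H)
    (hq : ∑ᶠ χ ∈ principalBlock M G, (χ : G → ℂ) c * (χ : G → ℂ) c⁻¹ = (Nat.card ↥H : ℂ)) :
    H = (P : Subgroup G) := by
  classical
  letI : Fintype G := Fintype.ofFinite G
  letI : Fintype ↥(P : Subgroup G) := Fintype.ofFinite _
  have hHP : H ≤ (P : Subgroup G) := hstr.1
  set B := principalBlock M G with hB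
  have hfin : B.Finite := Set.toFinite B
  -- multiplicities of the trivial character of `P`
  have hm : ∀ χ : IrrCharacter G, ∃ m : ℕ,
      ∑ y : ↥(P : Subgroup G), (χ : G → ℂ) (y : G) = (Fintype.card ↥(P : Subgroup G) : ℂ) * m := by
    intro χ
    obtain ⟨m, hm⟩ := mult (Cfsg.Agent.Lib.L0.isCharacter_of_irr χ.2) (P : Subgroup G)
      (1 : ↥(P : Subgroup G) →* ℂˣ)
    refine ⟨m, ?_⟩
    rw [← hm]
    refine Finset.sum_congr rfl (fun y _ => ?_)
    simp
  choose m hm using hm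
  -- the sum of `θ` over `P`, first evaluation
  have h1 : ∑ y : ↥(P : Subgroup G), ∑ᶠ χ ∈ B, (χ : G → ℂ) (y : G) * (χ : G → ℂ) c⁻¹ =
      (Nat.card ↥H : ℂ) := by
    have h2 : ∀ y : ↥(P : Subgroup G), ∑ᶠ χ ∈ B, (χ : G → ℂ) (y : G) * (χ : G → ℂ) c⁻¹ =
        if y = (⟨c, hHP hc⟩ : ↥(P : Subgroup G)) then (Nat.card ↥H : ℂ) else 0 := by
      intro y
      rw [theta_eval M hM H (P : Subgroup G) hHp P.isPGroup' hstr hfus hcen c hc _ hq (y : G) y.2]
      by_cases hyc : (y : G) = c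
      · rw [if_pos hyc, if_pos (Subtype.ext hyc)]
      · rw [if_neg hyc, if_neg (fun h => hyc (congrArg Subtype.val h))]
    rw [Finset.sum_congr rfl (fun y _ => h2 y), Finset.sum_ite_eq' Finset.univ, if_pos (Finset.mem_univ _)]
  -- second evaluation
  have h3 : ∑ y : ↥(P : Subgroup G), ∑ᶠ χ ∈ B, (χ : G → ℂ) (y : G) * (χ : G → ℂ) c⁻¹ =
      (Fintype.card ↥(P : Subgroup G) : ℂ) *
        ∑ χ ∈ hfin.toFinset, ((m χ : ℕ) : ℂ) * (χ : G → ℂ) c⁻¹ := by
    simp only [finsum_mem_eq_finite_toFinset_sum _ hfin]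
    rw [Finset.sum_comm, Finset.mul_sum]
    refine Finset.sum_congr rfl (fun χ _ => ?_)
    rw [← Finset.sum_mul, hm χ]
    ring
  -- the algebraic integer
  have hint : IsIntegral ℤ (∑ χ ∈ hfin.toFinset, ((m χ : ℕ) : ℂ) * (χ : G → ℂ) c⁻¹) := by
    refine IsIntegral.sum _ (fun χ _ => ?_)
    refine IsIntegral.mul ?_ (Cfsg.Agent.Lib.H23.irr_isIntegral χ c⁻¹)
    exact isIntegral_algebraMap (R := ℤ) (A := ℂ) (x := ((m χ : ℕ) : ℤ)) |> fun h => by
      simpa using h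
  have hP0 : (Fintype.card ↥(P : Subgroup G) : ℂ) ≠ 0 :=
    Nat.cast_ne_zero.2 Fintype.card_ne_zero
  have hZ : ∑ χ ∈ hfin.toFinset, ((m χ : ℕ) : ℂ) * (χ : G → ℂ) c⁻¹ =
      (((Nat.card ↥H : ℚ) / (Fintype.card ↥(P : Subgroup G) : ℚ) : ℚ) : ℂ) := by
    push_cast
    rw [eq_div_iff hP0, mul_comm, ← h3, h1]
  obtain ⟨n, hn⟩ := int_of_integral_rat hint _ hZ
  -- `|H| = |P| * n` in `ℤ`
  have h4 : (Nat.card ↥H : ℂ) = (Fintype.card ↥(P : Subgroup G) : ℂ) * (n : ℂ) := by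
    rw [← hn, ← h3, h1]
  have h5 : (Nat.card ↥H : ℤ) = (Fintype.card ↥(P : Subgroup G) : ℤ) * n := by
    exact_mod_cast h4
  have hHpos : (0 : ℤ) < (Nat.card ↥H : ℤ) := by exact_mod_cast Nat.card_pos
  have hPpos : (0 : ℤ) < (Fintype.card ↥(P : Subgroup G) : ℤ) := by
    exact_mod_cast Fintype.card_pos
  have hn1 : 1 ≤ n := by
    by_contra hlt
    have hn0 : n ≤ 0 := by omega
    have : (Fintype.card ↥(P : Subgroup G) : ℤ) * n ≤ 0 :=
      mul_nonpos_of_nonneg_of_nonpos hPpos.le hn0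
    omega
  have hge : (Fintype.card ↥(P : Subgroup G) : ℤ) ≤ (Nat.card ↥H : ℤ) := by
    rw [h5]
    nlinarith
  have hge' : Nat.card ↥(P : Subgroup G) ≤ Nat.card ↥H := by
    rw [Nat.card_eq_fintype_card]
    exact_mod_cast hge
  exact Subgroup.eq_of_le_of_card_ge hHP hge'

/-- **CASE A ending (SYL + Burnside transfer)**, any prime `p`. -/
theorem caseA_top_of_fus (M : Ideal AlgInt) (hM : IsPModular p M) (H : Subgroup G)
    (hHp : IsPGroup p H) (hHab : ∀ a ∈ H, ∀ b ∈ H, a * b = b * a)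
    (hcl : Cfsg.IsExtremelyClosed H)
    (hloc : Cfsg.Agent.Lib.H11.SH.LocData p H (principalBlock M G))
    (hfus : ∀ h ∈ H, ∀ c ∈ H, IsConj h c →
      ∃ n ∈ Subgroup.normalizer (H : Set G), n * c * n⁻¹ = h)
    (hncl : Subgroup.normalClosure (H : Set G) = ⊤)
    (hO : Cfsg.pPrimeCore p G = ⊥) (hnt : ¬ TransN H) : H = ⊤ := by
  have hcen := caseA M hM H hHp hHab hloc hfus hncl hnt
  have hsq := Cfsg.Agent.Lib.H6.SHK.caseA_sq M hM H hHp hHab hloc hfus hncl hnt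
  obtain ⟨c, hc, -, -, hc1, -, -⟩ := nt hnt
  obtain ⟨P, hHP⟩ := hHp.exists_le_sylow
  obtain ⟨-, hstr⟩ := (Cfsg.Agent.S3021.result H hHp hcl).2 P hHP
  have hHeq : H = (P : Subgroup G) := sylow_eq M hM H P hHp hstr hfus hcen c hc (hsq c hc hc1)
  have hNC : Subgroup.normalizer ((P : Subgroup G) : Set G) ≤
      Subgroup.centralizer ((P : Subgroup G) : Set G) := by
    rw [← hHeq]
    exact centr hcen
  have hcompl := MonoidHom.ker_transferSylow_isComplement' P hNC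
  have hndvd := MonoidHom.not_dvd_card_ker_transferSylow P hNC
  have hp : p.Prime := Fact.out
  have hle : (MonoidHom.transferSylow P hNC).ker ≤ Cfsg.pPrimeCore p G := by
    apply le_sSup
    refine ⟨inferInstance, ?_⟩
    exact (Nat.Prime.coprime_iff_not_dvd hp).2 hndvd |>.symm
  rw [hO, le_bot_iff] at hle
  rw [hle] at hcompl
  rw [hHeq]
  exact Subgroup.isComplement'_bot_left.1 hcompl

/-- CASE A ending with the fusion hypothesis discharged from the LOC output. -/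
theorem caseA_top (M : Ideal AlgInt) (hM : IsPModular p M) (H : Subgroup G)
    (hHp : IsPGroup p H) (hHab : ∀ a ∈ H, ∀ b ∈ H, a * b = b * a)
    (hcl : Cfsg.IsExtremelyClosed H)
    (hloc : Cfsg.Agent.Lib.H11.SH.LocData p H (principalBlock M G))
    (hncl : Subgroup.normalClosure (H : Set G) = ⊤)
    (hO : Cfsg.pPrimeCore p G = ⊥) (hnt : ¬ TransN H) : H = ⊤ :=
  caseA_top_of_fus M hM H hHp hHab hcl hloc (fus_of_locData M hM hHp hloc) hncl hO hnt

end Cfsg.Agent.Lib.H12.SHP
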