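import Mathlib
import Cfsg.Agent.Lib.H12.SHPSYL
import Cfsg.Agent.Lib.H6.SHPCASEB
import Cfsg.Agent.Lib.H16.SHINVp
import Cfsg.Agent.Lib.H9.SHLOCpD
import Cfsg.Agent.Lib.H4.SHPIHC
import Cfsg.Agent.Lib.H26.SH16Min
import Cfsg.Agent.Lib.L0.PRegCongP

/-!
# S3016 (Shult, odd `p`), conclusion (II): adapters to the architect's cut and the assembly (helper12)

* `caseB_ge5`    : helper6's `caseB_p` with the rank bound discharged by helper16's `char_mul_order_p_ge'`.
* `caseA_stmt`   : `H26.SH16.CaseAStmtP p` (EVERY prime `p`) from `SHP.caseA_top_of_fus`.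
* `caseB5_stmt`  : `H26.SH16.CaseB5StmtP p` for `p ≠ 2`.
* `concl_II`     : conclusion (II) of S3016 for every finite group from `H26.SH16.CaseB3Stmt` alone:
  helper4's `red_p` ∘ helper26's `min_normal_p` ∘ helper4's `ih_centralizer_p`.
* `shult_min_p`, `shult_II_p` : the same assembly written out directly (independent of `H26.SH16Min`), with the
  `|H| = 3` CASE B as the hypothesis `CaseB3 p` (all data of the minimal configuration available).
-/

set_option autoImplicit false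

namespace Cfsg.Agent.Lib.H12.SHP

open Cfsg
open Cfsg.Agent.Lib.H12.SH

universe u

/-- CASE B for `|H| ≥ 5`, odd `p`, no extra hypothesis. -/
theorem caseB_ge5 {G : Type*} [Group G] [Finite G] {p : ℕ} [Fact p.Prime] (hp2 : p ≠ 2)
    (M : Ideal AlgInt) (hM : IsPModular p M) (H : Subgroup G) (hHp : IsPGroup p H)
    (hloc : Cfsg.Agent.Lib.H11.SH.LocData p H (principalBlock M G))
    (hncl : Subgroup.normalClosure (H : Set G) = ⊤) (htr : TransN H)
    (hq : 5 ≤ Nat.card ↥H) : False := by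
  have hp : p.Prime := Fact.out
  refine Cfsg.Agent.Lib.H6.SHP.caseB_p hp2 M hM H hHp hloc hncl htr hq ?_
  intro χ hχ x y hx hy d hdx hdy
  have h := Cfsg.Agent.Lib.H16.SHp.char_mul_order_p_ge' χ hχ p hp.pos x y hx hy (d : ℂ) hdx hdy
  rw [Complex.ofReal_re] at h
  exact h

/-- the architect's CASE A statement, every prime `p` -/
theorem caseA_stmt {p : ℕ} [Fact p.Prime] : Cfsg.Agent.Lib.H26.SH16.CaseAStmtP.{u} p := by
  intro G _ _ M hM H hHp hHab hcl hloc hfus hncl hO _ hnt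
  have hHab' : ∀ a ∈ H, ∀ b ∈ H, a * b = b * a := fun a ha b hb =>
    congrArg Subtype.val (hHab.is_comm.comm (⟨a, ha⟩ : ↥H) ⟨b, hb⟩)
  exact caseA_top_of_fus M hM H hHp hHab' hcl hloc hfus hncl hO hnt

/-- the architect's CASE B statement for `5 ≤ |H|`, odd `p` -/
theorem caseB5_stmt {p : ℕ} [Fact p.Prime] (hp2 : p ≠ 2) :
    Cfsg.Agent.Lib.H26.SH16.CaseB5StmtP.{u} p := by
  intro G _ _ M hM H hHp _ hloc hncl htr hq
  exact caseB_ge5 hp2 M hM H hHp hloc hncl htr hq

/-- **Conclusion (II) of S3016** for every finite group, given only the architect's `CaseB3Stmt`. -/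
theorem concl_II {p : ℕ} [Fact p.Prime] (hp2 : p ≠ 2)
    (caseB3 : Cfsg.Agent.Lib.H26.SH16.CaseB3Stmt.{u})
    (G : Type u) [Group G] [Finite G] (H : Subgroup G) (hHp : IsPGroup p H)
    (hHab : IsMulCommutative H) (hcl : IsExtremelyClosed H) :
    Subgroup.normalizer (H : Set G) ⊔ pPrimeCore p G = ⊤ := by
  refine Cfsg.Agent.Lib.H4.SHP.red_p ?_ G H hHp hHab hcl
  intro G' _ _ H' hHp' hHab' hcl' IH hO hncl hZ
  exact Cfsg.Agent.Lib.H26.SH16.min_normal_p hp2 caseA_stmt (caseB5_stmt hp2) caseB3 G' H' hHp' hHab'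
    hcl' (Cfsg.Agent.Lib.H4.SHP.ih_centralizer_p hHp' hHab' hcl' IH hZ) hO hncl

/-- the CASE B hypothesis for `|H| = 3` with all data of the minimal configuration -/
def CaseB3 (p : ℕ) : Prop :=
  ∀ (G : Type u) [Group G] [Finite G] (H : Subgroup G), IsPGroup p H → IsMulCommutative H →
    IsExtremelyClosed H → Cfsg.Agent.Lib.H4.SHP.SmallerOKp p G → pPrimeCore p G = ⊥ →
    Subgroup.normalClosure (H : Set G) = ⊤ → H ⊓ Subgroup.center G = ⊥ → TransN H →
    Nat.card ↥H = 3 → False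

/-- MIN at odd `p`, written out directly. -/
theorem shult_min_p {p : ℕ} [Fact p.Prime] (hp2 : p ≠ 2) (hB3 : CaseB3.{u} p)
    (G : Type u) [Group G] [Finite G] (H : Subgroup G) (hHp : IsPGroup p H)
    (hHab : IsMulCommutative H) (hcl : IsExtremelyClosed H)
    (IH : Cfsg.Agent.Lib.H4.SHP.SmallerOKp p G) (hO : pPrimeCore p G = ⊥)
    (hncl : Subgroup.normalClosure (H : Set G) = ⊤) (hZ : H ⊓ Subgroup.center G = ⊥) :
    H.Normal := by
  classical
  have hp : p.Prime := Fact.out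
  obtain ⟨M, hM⟩ := Cfsg.Agent.Lib.L0.PRegP.exists_isPModular hp
  have hIH := Cfsg.Agent.Lib.H4.SHP.ih_centralizer_p hHp hHab hcl IH hZ
  have hloc := Cfsg.Agent.Lib.H9.SHp.locData_of_loc hHp hHab hcl hIH M hM
  have hHab' : ∀ a ∈ H, ∀ b ∈ H, a * b = b * a := fun a ha b hb =>
    congrArg Subtype.val (hHab.is_comm.comm (⟨a, ha⟩ : ↥H) ⟨b, hb⟩)
  by_cases htr : TransN H
  · -- CASE B
    by_cases hH : H = ⊥
    · subst hH
      infer_instance
    exfalso
    rcases Cfsg.Agent.Lib.H26.SH16.card_cases hp2 hHp hH with ⟨hq3, -⟩ | hq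
    · exact hB3 G H hHp hHab hcl IH hO hncl hZ htr hq3
    · exact caseB_ge5 hp2 M hM H hHp hloc hncl htr hq
  · -- CASE A
    have htop := caseA_top M hM H hHp hHab' hcl hloc hncl hO htr
    rw [htop]
    infer_instance

/-- Conclusion (II) of S3016 for every finite group, given `CaseB3 p`. -/
theorem shult_II_p {p : ℕ} [Fact p.Prime] (hp2 : p ≠ 2) (hB3 : CaseB3.{u} p)
    (G : Type u) [Group G] [Finite G] (H : Subgroup G) (hHp : IsPGroup p H)
    (hHab : IsMulCommutative H) (hcl : IsExtremelyClosed H) :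
    Subgroup.normalizer (H : Set G) ⊔ pPrimeCore p G = ⊤ :=
  Cfsg.Agent.Lib.H4.SHP.red_p (shult_min_p hp2 hB3) G H hHp hHab hcl

end Cfsg.Agent.Lib.H12.SHP
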