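import Mathlib
import Cfsg.Agent.Lib.H12.SL2Count

set_option autoImplicit false

/-!
# Values of the irreducible characters of `SL₂(F)` on split, elliptic and unipotent elements
-/

namespace Cfsg.Agent.Lib.H12

open Matrix Cfsg.Agent.Lib.L0 Cfsg.Agent.Lib.H24
open scoped ComplexConjugate

variable {F : Type*} [Field F]

local notation "SL2" => Matrix.SpecialLinearGroup (Fin 2) F

/-- The upper unitriangular element `[[1, e], [0, 1]]` of `SL₂`. -/
def upSL (e : F) : SL2 := ⟨!![1, e; 0, 1], by simp [Matrix.det_fin_two_of]⟩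

@[simp] theorem upSL_val (e : F) : ((upSL e : SL2) : Matrix (Fin 2) (Fin 2) F) = !![1, e; 0, 1] := rfl

theorem upSL_zero : upSL (0 : F) = 1 := by
  apply Subtype.ext
  rw [upSL_val]
  ext i j
  fin_cases i <;> fin_cases j <;> simp

theorem upSL_injective : Function.Injective (upSL : F → SL2) := by
  intro e e' h
  have := congrArg (fun g : SL2 => (g : Matrix (Fin 2) (Fin 2) F) 0 1) h
  simpa using this

theorem toGL_upSL (e : F) :
    Matrix.SpecialLinearGroup.toGL (upSL e) =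
      ((borelMk (1, 1, e) : Cfsg.upperTriangularGL 2 F) : GL (Fin 2) F) := by
  apply Matrix.GeneralLinearGroup.ext
  intro i j
  rw [Matrix.SpecialLinearGroup.coe_GL_coe_matrix, upSL_val, borelMk_val]
  simp

/-- an element of `SL₂` is determined by its matrix -/
theorem eq_upSL_of_val {u : SL2} {e : F} (hu : (u : Matrix (Fin 2) (Fin 2) F) = !![1, e; 0, 1]) :
    u = upSL e := Subtype.ext hu

theorem conjSL_dg_upSL (δ : Fˣ) (e : F) : conjSL (dg δ) (upSL e) = upSL ((δ : F) * e) := by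
  apply toGL_injective
  rw [toGL_conjSL, mul_inv_eq_iff_eq_mul]
  apply Matrix.GeneralLinearGroup.ext
  intro i j
  simp only [Matrix.GeneralLinearGroup.coe_mul, Matrix.SpecialLinearGroup.coe_GL_coe_matrix, upSL_val,
    dg_val]
  fin_cases i <;> fin_cases j <;> simp [Matrix.mul_apply, Fin.sum_univ_two]

/-- Diagonal elements of `SL₂` commute with `diag(δ, 1)`. -/
theorem conjSL_dg_of_diag (δ : Fˣ) (g : SL2) (h01 : (g : Matrix (Fin 2) (Fin 2) F) 0 1 = 0)
    (h10 : (g : Matrix (Fin 2) (Fin 2) F) 1 0 = 0) : conjSL (dg δ) g = g := by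
  apply toGL_injective
  rw [toGL_conjSL, mul_inv_eq_iff_eq_mul]
  apply Matrix.GeneralLinearGroup.ext
  intro i j
  simp only [Matrix.GeneralLinearGroup.coe_mul, Matrix.SpecialLinearGroup.coe_GL_coe_matrix, dg_val]
  fin_cases i <;> fin_cases j <;> simp [Matrix.mul_apply, Fin.sum_univ_two, h01, h10, mul_comm]

section fin

variable [Fintype F] [DecidableEq F]

/-- Sums over the upper unitriangular elements of `SL₂`. -/
theorem sum_upSL (f : SL2 → ℂ) :
    ∑ g : SL2, (if (g : Matrix (Fin 2) (Fin 2) F) 1 0 = 0 ∧ (g : Matrix (Fin 2) (Fin 2) F) 0 0 = 1 ∧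
      (g : Matrix (Fin 2) (Fin 2) F) 1 1 = 1 then f g else 0) = ∑ e : F, f (upSL e) := by
  rw [← Finset.sum_filter]
  have himg : (Finset.univ.filter fun g : SL2 => (g : Matrix (Fin 2) (Fin 2) F) 1 0 = 0 ∧
      (g : Matrix (Fin 2) (Fin 2) F) 0 0 = 1 ∧ (g : Matrix (Fin 2) (Fin 2) F) 1 1 = 1) =
      Finset.univ.image (upSL : F → SL2) := by
    ext g
    simp only [Finset.mem_filter, Finset.mem_univ, true_and, Finset.mem_image]
    constructor
    · rintro ⟨h10, h00, h11⟩
      refine ⟨(g : Matrix (Fin 2) (Fin 2) F) 0 1, ?_⟩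
      apply Subtype.ext
      rw [upSL_val]
      ext i j
      fin_cases i <;> fin_cases j <;> simp [h10, h00, h11]
    · rintro ⟨e, rfl⟩
      simp
  rw [himg, Finset.sum_image]
  intro a _ b _ h
  exact upSL_injective h

/-- `psCharSL γ` as a restriction. -/
theorem psCharSL_eq_resSL (γ : MulChar F ℂ) : psCharSL γ = resSL (psChar γ 1) := by
  rw [resSL_psChar, inv_one, mul_one]

theorem sl2_entries_det (g : SL2) :
    (g : Matrix (Fin 2) (Fin 2) F) 0 0 * (g : Matrix (Fin 2) (Fin 2) F) 1 1 -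
      (g : Matrix (Fin 2) (Fin 2) F) 0 1 * (g : Matrix (Fin 2) (Fin 2) F) 1 0 = 1 := by
  have := g.2
  rw [Matrix.det_fin_two] at this
  exact this

theorem sl2_diag_ne (g : SL2) (h01 : (g : Matrix (Fin 2) (Fin 2) F) 0 1 = 0)
    (hsq : (g : Matrix (Fin 2) (Fin 2) F) 0 0 ^ 2 ≠ 1) :
    (g : Matrix (Fin 2) (Fin 2) F) 0 0 ≠ (g : Matrix (Fin 2) (Fin 2) F) 1 1 := by
  intro h
  apply hsq
  have := sl2_entries_det g
  rw [h01, zero_mul, sub_zero, ← h] at this
  rw [sq, this]

/-- Values of the principal series of `SL₂` at split semisimple elements. -/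
theorem psCharSL_apply_split (γ : MulChar F ℂ) (g : SL2) (h01 : (g : Matrix (Fin 2) (Fin 2) F) 0 1 = 0)
    (h10 : (g : Matrix (Fin 2) (Fin 2) F) 1 0 = 0) (hsq : (g : Matrix (Fin 2) (Fin 2) F) 0 0 ^ 2 ≠ 1) :
    psCharSL γ g = γ ((g : Matrix (Fin 2) (Fin 2) F) 0 0) + γ ((g : Matrix (Fin 2) (Fin 2) F) 1 1) := by
  rw [psCharSL_eq_resSL, resSL_apply, psChar_apply_diag γ 1 _ h01 h10 (sl2_diag_ne g h01 hsq)]
  simp only [Matrix.SpecialLinearGroup.coe_GL_coe_matrix]
  have hdet := sl2_entries_det g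
  rw [h01, zero_mul, sub_zero] at hdet
  have h0 : IsUnit ((g : Matrix (Fin 2) (Fin 2) F) 0 0) := IsUnit.of_mul_eq_one _ hdet
  have h1 : IsUnit ((g : Matrix (Fin 2) (Fin 2) F) 1 1) := IsUnit.of_mul_eq_one _ (by rw [mul_comm]; exact hdet)
  rw [MulChar.one_apply h0, MulChar.one_apply h1, mul_one, mul_one]

/-- The principal series of `SL₂` vanishes at elliptic elements. -/
theorem psCharSL_apply_elliptic (γ : MulChar F ℂ) (g : SL2)
    (hA : ∀ (c : F) (v : Fin 2 → F), v ≠ 0 → (g : Matrix (Fin 2) (Fin 2) F).mulVec v ≠ c • v) :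
    psCharSL γ g = 0 := by
  rw [psCharSL_eq_resSL, resSL_apply]
  exact psChar_apply_elliptic γ 1 _ hA

/-- Values of the principal series of `SL₂` at `±` unipotent elements. -/
theorem psCharSL_apply_unip (γ : MulChar F ℂ) (g : SL2) (h10 : (g : Matrix (Fin 2) (Fin 2) F) 1 0 = 0)
    (h00 : (g : Matrix (Fin 2) (Fin 2) F) 0 0 = (g : Matrix (Fin 2) (Fin 2) F) 1 1)
    (h01 : (g : Matrix (Fin 2) (Fin 2) F) 0 1 ≠ 0) :
    psCharSL γ g = γ ((g : Matrix (Fin 2) (Fin 2) F) 0 0) := by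
  rw [psCharSL_eq_resSL, resSL_apply, psChar_apply_unip γ 1 _ h10 h00 h01]
  simp only [Matrix.SpecialLinearGroup.coe_GL_coe_matrix]
  have hdet := sl2_entries_det g
  rw [h10, mul_zero, sub_zero] at hdet
  have h0 : IsUnit ((g : Matrix (Fin 2) (Fin 2) F) 0 0) := IsUnit.of_mul_eq_one _ hdet
  rw [MulChar.one_apply h0, mul_one]

theorem psCharSL_upSL (γ : MulChar F ℂ) {e : F} (he : e ≠ 0) : psCharSL γ (upSL e) = 1 := by
  rw [psCharSL_apply_unip γ (upSL e) (by simp) (by simp) (by simpa using he)]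
  simp

/-- Values of a cuspidal character of `GL₂` at split semisimple elements of `SL₂`. -/
theorem cusp_apply_split {π : GL (Fin 2) F → ℂ} (hπ : IsCuspGL2 π) (g : SL2)
    (h01 : (g : Matrix (Fin 2) (Fin 2) F) 0 1 = 0)
    (h10 : (g : Matrix (Fin 2) (Fin 2) F) 1 0 = 0) (hsq : (g : Matrix (Fin 2) (Fin 2) F) 0 0 ^ 2 ≠ 1) :
    resSL π g = 0 := by
  have hdet := sl2_entries_det g
  rw [h01, zero_mul, sub_zero] at hdet
  have hne := sl2_diag_ne g h01 hsq
  have h0 : (g : Matrix (Fin 2) (Fin 2) F) 0 0 ≠ 0 := left_ne_zero_of_mul_eq_one hdet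
  have h1 : (g : Matrix (Fin 2) (Fin 2) F) 1 1 ≠ 0 := right_ne_zero_of_mul_eq_one hdet
  have hg : Matrix.SpecialLinearGroup.toGL g =
      ((borelMk (Units.mk0 _ h0, Units.mk0 _ h1, 0) : Cfsg.upperTriangularGL 2 F) : GL (Fin 2) F) := by
    apply Matrix.GeneralLinearGroup.ext
    intro i j
    rw [Matrix.SpecialLinearGroup.coe_GL_coe_matrix, borelMk_val]
    fin_cases i <;> fin_cases j <;> simp [h01, h10]
  rw [resSL_apply, hg]
  apply cuspidal_apply_of_ne π (isClassFunction_of_isCharacter (isCharacter_of_irr hπ.1)) hπ.2.1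
  intro h
  apply hne
  have := congrArg Units.val h
  simpa using this

/-- A cuspidal character of `GL₂` takes the value `-1` at nontrivial unipotent elements. -/
theorem cusp_apply_upSL {π : GL (Fin 2) F → ℂ} (hπ : IsCuspGL2 π) {e : F} (he : e ≠ 0) :
    resSL π (upSL e) = -1 := by
  rw [resSL_apply, toGL_upSL,
    classFunction_borelMk_of_eq π (isClassFunction_of_isCharacter (isCharacter_of_irr hπ.1)) 1 e he]
  exact hπ.2.2.2

/-- A cuspidal character of `GL₂` sums to zero over the upper unitriangular group. -/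
theorem cusp_sum_upSL {π : GL (Fin 2) F → ℂ} (hπ : IsCuspGL2 π) : ∑ e : F, resSL π (upSL e) = 0 := by
  simp only [resSL_apply, toGL_upSL]
  exact sum_borelMk_eq_zero_of_cuspidal π (isClassFunction_of_isCharacter (isCharacter_of_irr hπ.1))
    hπ.2.1 1 1

/-- The sum of a principal series character of `SL₂` over the upper unitriangular group. -/
theorem psCharSL_sum_upSL (γ : MulChar F ℂ) : ∑ e : F, psCharSL γ (upSL e) = 2 * (Fintype.card F : ℂ) := by
  rw [← Finset.add_sum_erase Finset.univ _ (Finset.mem_univ (0 : F)), upSL_zero, psCharSL_one_apply]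
  rw [Finset.sum_congr rfl (fun e he => psCharSL_upSL γ (Finset.ne_of_mem_erase he)), Finset.sum_const,
    Finset.card_erase_of_mem (Finset.mem_univ _), Finset.card_univ, nsmul_eq_mul, mul_one,
    Nat.cast_sub Fintype.card_pos]
  push_cast
  ring

/-- Conjugate halves have the same sum over the upper unitriangular group. -/
theorem sum_upSL_of_conj {χ χ' : SL2 → ℂ} {δ : Fˣ} (hx : ∀ n, χ' (conjSL (dg δ) n) = χ n) :
    ∑ e : F, χ' (upSL e) = ∑ e : F, χ (upSL e) := by
  symm
  apply Fintype.sum_equiv (Equiv.mulLeft₀ (δ : F) δ.ne_zero)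
  intro e
  rw [← hx, conjSL_dg_upSL]
  rfl

end fin

end Cfsg.Agent.Lib.H12
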