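import Mathlib
import Cfsg.Agent.Lib.H12.SL2Values
import Cfsg.Agent.Lib.H12.SL2Odd

set_option autoImplicit false

/-!
# Elements of `SL₂(F)`: elliptic elements versus conjugates of upper triangular elements,
and the Frobenius reciprocity weighting by the number of fixed points on the projective line.
-/

namespace Cfsg.Agent.Lib.H12

open Matrix Cfsg.Agent.Lib.L0 Cfsg.Agent.Lib.H24
open scoped ComplexConjugate

variable {F : Type*} [Field F]

local notation "SL2" => Matrix.SpecialLinearGroup (Fin 2) F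

/-- `g` has no eigenvector over `F`. -/
def IsElliptic (g : SL2) : Prop :=
  ∀ (c : F) (v : Fin 2 → F), v ≠ 0 → (g : Matrix (Fin 2) (Fin 2) F).mulVec v ≠ c • v

theorem IsElliptic.lower_ne_zero {g : SL2} (hg : IsElliptic g) :
    (g : Matrix (Fin 2) (Fin 2) F) 1 0 ≠ 0 := by
  intro h10
  apply hg ((g : Matrix (Fin 2) (Fin 2) F) 0 0) ![1, 0] (by
    intro h
    have := congrFun h 0
    simp at this)
  ext i
  fin_cases i <;> simp [Matrix.mulVec, dotProduct, Fin.sum_univ_two, h10]

theorem IsElliptic.nonScalar {g : SL2} (hg : IsElliptic g) :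
    NonScalar (g : Matrix (Fin 2) (Fin 2) F) := by
  rintro ⟨-, h10, -⟩
  exact hg.lower_ne_zero h10

/-- Ellipticity is invariant under conjugation by `GL₂`. -/
theorem isElliptic_conjSL {g : SL2} (hg : IsElliptic g) (x : GL (Fin 2) F) : IsElliptic (conjSL x g) := by
  intro c v hv hcv
  have hmat : ((conjSL x g : SL2) : Matrix (Fin 2) (Fin 2) F) =
      (x : Matrix (Fin 2) (Fin 2) F) * (g : Matrix (Fin 2) (Fin 2) F) *
        ((x⁻¹ : GL (Fin 2) F) : Matrix (Fin 2) (Fin 2) F) := by
    have := congrArg (fun y : GL (Fin 2) F => (y : Matrix (Fin 2) (Fin 2) F)) (toGL_conjSL x g)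
    simpa using this
  rw [hmat] at hcv
  set w := ((x⁻¹ : GL (Fin 2) F) : Matrix (Fin 2) (Fin 2) F).mulVec v with hw
  have hxw : (x : Matrix (Fin 2) (Fin 2) F).mulVec w = v := by
    rw [hw, Matrix.mulVec_mulVec, ← Matrix.GeneralLinearGroup.coe_mul, mul_inv_cancel]
    simp
  have hw0 : w ≠ 0 := by
    intro h0
    apply hv
    rw [← hxw, h0, Matrix.mulVec_zero]
  apply hg c w hw0
  have h1 : (x : Matrix (Fin 2) (Fin 2) F).mulVec ((g : Matrix (Fin 2) (Fin 2) F).mulVec w) = c • v := by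
    rw [← hcv, hw, Matrix.mulVec_mulVec, Matrix.mulVec_mulVec, Matrix.mul_assoc]
  have h2 : ((x⁻¹ : GL (Fin 2) F) : Matrix (Fin 2) (Fin 2) F).mulVec
      ((x : Matrix (Fin 2) (Fin 2) F).mulVec ((g : Matrix (Fin 2) (Fin 2) F).mulVec w)) =
      (g : Matrix (Fin 2) (Fin 2) F).mulVec w := by
    rw [Matrix.mulVec_mulVec, ← Matrix.GeneralLinearGroup.coe_mul, inv_mul_cancel]
    simp
  rw [← h2, h1, Matrix.mulVec_smul, hw]

theorem isElliptic_conj {g : SL2} (hg : IsElliptic g) (m : SL2) : IsElliptic (m * g * m⁻¹) := by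
  rw [← conjSL_toGL]
  exact isElliptic_conjSL hg _

/-- An element of `SL₂` which is not elliptic is conjugate to an upper triangular element. -/
theorem exists_conj_borelMkSL' {g : SL2} (hg : ¬ IsElliptic g) :
    ∃ (h : SL2) (a : Fˣ) (e : F), g = h * borelMkSL' (a, e) * h⁻¹ := by
  unfold IsElliptic at hg
  push Not at hg
  obtain ⟨c, v, hv, hcv⟩ := hg
  -- an element of `SL₂` with first column `v`
  have hh : ∃ h : SL2, (h : Matrix (Fin 2) (Fin 2) F) 0 0 = v 0 ∧ (h : Matrix (Fin 2) (Fin 2) F) 1 0 = v 1 := by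
    by_cases h0 : v 0 = 0
    · have h1 : v 1 ≠ 0 := by
        intro h1
        apply hv
        ext i
        fin_cases i <;> simp [h0, h1]
      refine ⟨⟨!![0, -(v 1)⁻¹; v 1, 0], ?_⟩, ?_, ?_⟩
      · rw [Matrix.det_fin_two_of]
        field_simp
        ring
      · simp [h0]
      · simp
    · refine ⟨⟨!![v 0, 0; v 1, (v 0)⁻¹], ?_⟩, ?_, ?_⟩
      · rw [Matrix.det_fin_two_of]
        field_simp
        ring
      · simp
      · simp
  obtain ⟨h, h00, h10⟩ := hh
  -- `h⁻¹ g h` is upper triangular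
  have hmem : h⁻¹ * g * h ∈ borelSL F := by
    rw [mem_borelSL]
    have hdet := h.2
    rw [Matrix.det_fin_two] at hdet
    have e0 := congrFun hcv 0
    have e1 := congrFun hcv 1
    simp only [Matrix.mulVec, dotProduct, Fin.sum_univ_two, Pi.smul_apply, smul_eq_mul] at e0 e1
    rw [Matrix.SpecialLinearGroup.coe_mul, Matrix.SpecialLinearGroup.coe_mul,
      Matrix.SpecialLinearGroup.coe_inv, Matrix.adjugate_fin_two]
    simp only [Matrix.mul_apply, Fin.sum_univ_two, Matrix.of_apply, Matrix.cons_val', Matrix.cons_val_zero,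
      Matrix.cons_val_one]
    rw [h00, h10]
    linear_combination (v 0) * e1 - (v 1) * e0
  obtain ⟨⟨a, e⟩, hae⟩ := (borelMkSL_bijective (F := F)).2 ⟨h⁻¹ * g * h, hmem⟩
  refine ⟨h, a, e, ?_⟩
  have : borelMkSL' (a, e) = h⁻¹ * g * h := congrArg Subtype.val hae
  rw [this]
  group

theorem borelMkSL'_val (x : Fˣ × F) :
    ((borelMkSL' x : SL2) : Matrix (Fin 2) (Fin 2) F) = !![(x.1 : F), x.2; 0, ((x.1⁻¹ : Fˣ) : F)] := rfl

/-- Upper triangular elements of `SL₂` with distinct diagonal entries are conjugate to diagonal ones. -/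
theorem classFunction_borelMkSL'_of_ne (χ : SL2 → ℂ) (hχ : Cfsg.IsClassFunction SL2 χ)
    (a : Fˣ) (ha : (a : F) ^ 2 ≠ 1) (e : F) : χ (borelMkSL' (a, e)) = χ (borelMkSL' (a, 0)) := by
  have hne : ((a⁻¹ : Fˣ) : F) - (a : F) ≠ 0 := by
    intro h
    apply ha
    have h1 : ((a⁻¹ : Fˣ) : F) = (a : F) := sub_eq_zero.mp h
    rw [sq]
    nth_rewrite 1 [← h1]
    rw [← Units.val_mul, inv_mul_cancel, Units.val_one]
  apply classFunction_eq_of_mul_eq χ hχ (h := upSL (e / (((a⁻¹ : Fˣ) : F) - (a : F))))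
  apply Subtype.ext
  rw [Matrix.SpecialLinearGroup.coe_mul, Matrix.SpecialLinearGroup.coe_mul, borelMkSL'_val, borelMkSL'_val,
    upSL_val]
  ext i j
  fin_cases i <;> fin_cases j <;> simp [Matrix.mul_apply, Fin.sum_univ_two]
  field_simp
  ring

/-- Scaling the off-diagonal entry of a unipotent element by a square. -/
theorem classFunction_upSL_sq (χ : SL2 → ℂ) (hχ : Cfsg.IsClassFunction SL2 χ)
    (s : Fˣ) (e : F) : χ (upSL ((s : F) ^ 2 * e)) = χ (upSL e) := by
  apply classFunction_eq_of_mul_eq χ hχ (h := borelMkSL' (s, 0))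
  apply Subtype.ext
  rw [Matrix.SpecialLinearGroup.coe_mul, Matrix.SpecialLinearGroup.coe_mul, borelMkSL'_val,
    upSL_val, upSL_val]
  ext i j
  fin_cases i <;> fin_cases j <;> simp [Matrix.mul_apply, Fin.sum_univ_two]
  field_simp

section fin

variable [Fintype F]

/-- For odd `q`, an elliptic element of `SL₂` is `SL₂`-conjugate to each of its `GL₂`-conjugates. -/
theorem isConj_conjSL_of_isElliptic (hodd : Odd (Fintype.card F)) (x : GL (Fin 2) F) {g : SL2}
    (hg : IsElliptic g) : IsConj g (conjSL x g) := by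
  have h2 : (2 : F) ≠ 0 := two_ne_zero_of_odd hodd
  apply sl2_isConj_of_trace_regular hodd g (conjSL x g) (isElliptic_conjSL hg x).nonScalar
  · have hmat : ((conjSL x g : SL2) : Matrix (Fin 2) (Fin 2) F) =
        (x : Matrix (Fin 2) (Fin 2) F) * (g : Matrix (Fin 2) (Fin 2) F) *
          ((x⁻¹ : GL (Fin 2) F) : Matrix (Fin 2) (Fin 2) F) := by
      have := congrArg (fun y : GL (Fin 2) F => (y : Matrix (Fin 2) (Fin 2) F)) (toGL_conjSL x g)
      simpa using this
    rw [hmat]
    exact (Matrix.trace_units_conj x (g : Matrix (Fin 2) (Fin 2) F)).symm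
  · intro ht
    -- `t / 2` is an eigenvalue
    set t := (g : Matrix (Fin 2) (Fin 2) F).trace with htdef
    have hdet := g.2
    rw [Matrix.det_fin_two] at hdet
    rw [Matrix.trace_fin_two] at htdef
    have hsing : ((g : Matrix (Fin 2) (Fin 2) F) - Matrix.scalar (Fin 2) (t / 2)).det = 0 := by
      rw [Matrix.det_fin_two]
      simp only [Matrix.sub_apply, Matrix.scalar_apply, Matrix.diagonal_apply_eq, ne_eq, zero_ne_one,
        not_false_eq_true, Matrix.diagonal_apply_ne, one_ne_zero, sub_zero]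
      have h4 : (4 : F) ≠ 0 := by
        have : (4 : F) = 2 * 2 := by norm_num
        rw [this]; exact mul_ne_zero h2 h2
      field_simp
      rw [htdef] at ht ⊢
      linear_combination 4 * hdet - ht
    obtain ⟨v, hv, hv0⟩ := Matrix.exists_mulVec_eq_zero_iff.mpr hsing
    apply hg (t / 2) v hv
    rw [Matrix.sub_mulVec, sub_eq_zero] at hv0
    rw [hv0]
    ext i
    simp [Matrix.mulVec, dotProduct, Fin.sum_univ_two, Matrix.scalar_apply, Matrix.diagonal_apply]

variable [DecidableEq F]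

/-- Frobenius reciprocity for the permutation character of `SL₂` on the projective line. -/
theorem sum_psCharSL_one_mul (f : SL2 → ℂ) (hf : Cfsg.IsClassFunction SL2 f) :
    ∑ g : SL2, psCharSL (1 : MulChar F ℂ) g * conj (f g) =
      ((Fintype.card F : ℂ) + 1) * ∑ a : Fˣ, ∑ e : F, conj (f (borelMkSL' (a, e))) := by
  have : Fintype (borelSL F) := Fintype.ofFinite _
  have h := frobenius_reciprocity (borelSL F) (borelCharSL (1 : MulChar F ℂ)) f hf
  unfold Cfsg.classInner at h
  rw [sum_borelSL] at h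
  have h1 : ∀ (a : Fˣ) (e : F), borelCharSL (1 : MulChar F ℂ) (borelMkSL (a, e)) *
      conj (f ((borelMkSL (a, e) : borelSL F) : SL2)) = conj (f (borelMkSL' (a, e))) := by
    intro a e
    rw [borelCharSL_apply, borelMkSL_val]
    simp only [Matrix.of_apply, Matrix.cons_val', Matrix.cons_val_zero]
    rw [MulChar.one_apply_coe, one_mul]
    rfl
  simp only [h1] at h
  have hq0 : (Fintype.card F : ℂ) ≠ 0 := card_ne_zero_complex
  have hq1 : (Fintype.card F : ℂ) - 1 ≠ 0 := sub_ne_zero.mpr card_ne_one_complex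
  have hG : (Nat.card SL2 : ℂ) = (Fintype.card F : ℂ) * ((Fintype.card F : ℂ) ^ 2 - 1) := by
    rw [card_SL2, Nat.cast_mul, Nat.cast_sub (Nat.one_le_pow _ _ Fintype.card_pos)]
    push_cast
    ring
  have hB : (Nat.card (borelSL F) : ℂ) = ((Fintype.card F : ℂ) - 1) * (Fintype.card F : ℂ) := by
    rw [card_borelSL, Nat.cast_mul, Nat.cast_sub Fintype.card_pos, Nat.cast_one]
  rw [hG, hB] at h
  have hq2 : (Fintype.card F : ℂ) ^ 2 - 1 ≠ 0 := by
    have : (Fintype.card F : ℂ) ^ 2 - 1 = ((Fintype.card F : ℂ) - 1) * ((Fintype.card F : ℂ) + 1) := by ring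
    rw [this]
    apply mul_ne_zero hq1
    have hpos : (0 : ℝ) < (Fintype.card F : ℝ) + 1 := by positivity
    intro h0
    have : ((Fintype.card F + 1 : ℕ) : ℂ) = 0 := by push_cast; exact h0
    exact absurd (Nat.cast_eq_zero.mp this) (by omega)
  have key : ∑ g : SL2, psCharSL (1 : MulChar F ℂ) g * conj (f g) =
      ((Fintype.card F : ℂ) * ((Fintype.card F : ℂ) ^ 2 - 1)) *
        ((((Fintype.card F : ℂ) - 1) * (Fintype.card F : ℂ))⁻¹ *
          ∑ a : Fˣ, ∑ e : F, conj (f (borelMkSL' (a, e)))) := by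
    rw [← h, ← mul_assoc, mul_inv_cancel₀ (mul_ne_zero hq0 hq2), one_mul]
  rw [key]
  field_simp
  ring

end fin

end Cfsg.Agent.Lib.H12
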