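import Mathlib
import Cfsg.Agent.Lib.H12.SL2Borel

set_option autoImplicit false

/-!
# Pairs of `GL₂`-conjugate irreducible characters of `SL₂(F)`, `q` odd

For irreducible `χ ≠ χ'` with `χ' ∘ conj(diag(δ,1)) = χ`:
`(χ u - χ' u)² = (-1)^((q-1)/2) q` where `u = [[1,1],[0,1]]`.
-/

namespace Cfsg.Agent.Lib.H12

open Matrix Cfsg.Agent.Lib.L0 Cfsg.Agent.Lib.H24
open scoped ComplexConjugate

variable {F : Type*} [Field F]

local notation "SL2" => Matrix.SpecialLinearGroup (Fin 2) F

/-- The central element `-1` of `SL₂`. -/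
noncomputable def negOneSL : SL2 := borelMkSL' ((-1 : Fˣ), (0 : F))

theorem negOneSL_val : ((negOneSL : SL2) : Matrix (Fin 2) (Fin 2) F) = !![-1, 0; 0, -1] := by
  rw [negOneSL, borelMkSL'_val]
  simp

theorem negOneSL_mem_center : (negOneSL : SL2) ∈ Subgroup.center SL2 := by
  rw [Matrix.SpecialLinearGroup.mem_center_iff]
  refine ⟨-1, by simp, ?_⟩
  rw [negOneSL_val]
  ext i j
  fin_cases i <;> fin_cases j <;> simp

theorem negOneSL_mul_self : (negOneSL : SL2) * negOneSL = 1 := by
  apply Subtype.ext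
  rw [Matrix.SpecialLinearGroup.coe_mul, negOneSL_val]
  ext i j
  fin_cases i <;> fin_cases j <;> simp [Matrix.mul_apply, Fin.sum_univ_two]

theorem borelMkSL'_one (e : F) : borelMkSL' ((1 : Fˣ), e) = upSL e := by
  apply Subtype.ext
  rw [borelMkSL'_val, upSL_val]
  simp

theorem borelMkSL'_neg_one (e : F) : borelMkSL' ((-1 : Fˣ), e) = upSL (-e) * negOneSL := by
  apply Subtype.ext
  rw [Matrix.SpecialLinearGroup.coe_mul, borelMkSL'_val, upSL_val, negOneSL_val]
  ext i j
  fin_cases i <;> fin_cases j <;> simp [Matrix.mul_apply, Fin.sum_univ_two]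

section fin

variable [Fintype F] [DecidableEq F]

/-- The central character sign of an irreducible character of `SL₂`. -/
theorem irr_mul_negOneSL {χ : SL2 → ℂ} (hχ : Cfsg.IsIrrCharacter SL2 χ) :
    (χ negOneSL / χ 1) ^ 2 = 1 ∧ ∀ g, χ (g * negOneSL) = (χ negOneSL / χ 1) * χ g := by
  have h1 : χ 1 ≠ 0 := irr_one_ne_zero ⟨χ, hχ⟩
  have key := fun g => Cfsg.Agent.Lib.H23.irr_mul_center ⟨χ, hχ⟩ g negOneSL_mem_center
  simp only at key
  constructor
  · have := key negOneSL
    rw [negOneSL_mul_self] at this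
    field_simp
    rw [sq, sq, ← this]
  · intro g
    have := key g
    field_simp
    linear_combination this

end fin

section main

variable [Fintype F] [DecidableEq F]

theorem eq_of_isConj_conjSL {χ χ' : SL2 → ℂ} {δ : Fˣ} (hχ' : Cfsg.IsIrrCharacter SL2 χ')
    (hx : ∀ n, χ' (conjSL (dg δ) n) = χ n) {g : SL2} (hg : IsConj g (conjSL (dg δ) g)) : χ g = χ' g := by
  obtain ⟨m, hm⟩ := isConj_iff.mp hg
  rw [← hx g, ← hm]
  exact isClassFunction_of_isCharacter (isCharacter_of_irr hχ') g m

theorem eq_of_diag {χ χ' : SL2 → ℂ} {δ : Fˣ} (hx : ∀ n, χ' (conjSL (dg δ) n) = χ n) {g : SL2}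
    (h01 : (g : Matrix (Fin 2) (Fin 2) F) 0 1 = 0) (h10 : (g : Matrix (Fin 2) (Fin 2) F) 1 0 = 0) :
    χ g = χ' g := by
  rw [← hx g, conjSL_dg_of_diag δ g h01 h10]

theorem eq_of_isElliptic {χ χ' : SL2 → ℂ} {δ : Fˣ} (hodd : Odd (Fintype.card F)) (hχ' : Cfsg.IsIrrCharacter SL2 χ')
    (hx : ∀ n, χ' (conjSL (dg δ) n) = χ n) {g : SL2} (hg : IsElliptic g) : χ g = χ' g :=
  eq_of_isConj_conjSL hχ' hx (isConj_conjSL_of_isElliptic hodd (dg δ) hg)

/-- Scaling by `δ` swaps the values of `χ` and `χ'` at unipotent elements. -/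
theorem apply_upSL_mul {χ χ' : SL2 → ℂ} {δ : Fˣ} (hχ : Cfsg.IsIrrCharacter SL2 χ) (hχ' : Cfsg.IsIrrCharacter SL2 χ')
    (hx : ∀ n, χ' (conjSL (dg δ) n) = χ n) (e : F) :
    χ' (upSL ((δ : F) * e)) = χ (upSL e) ∧ χ (upSL ((δ : F) * e)) = χ' (upSL e) := by
  have hcf := isClassFunction_of_isCharacter (isCharacter_of_irr hχ)
  have hcf' := isClassFunction_of_isCharacter (isCharacter_of_irr hχ')
  constructor
  · rw [← conjSL_dg_upSL, hx]
  · rw [← hx (upSL ((δ : F) * e)), conjSL_dg_upSL, ← mul_assoc, ← sq, classFunction_upSL_sq χ' hcf' δ e]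

/-- The difference `χ - χ'` takes the values `± d₁` at nontrivial unipotent elements. -/
theorem sub_upSL_cases {χ χ' : SL2 → ℂ} {δ : Fˣ} (hodd : Odd (Fintype.card F)) (hχ : Cfsg.IsIrrCharacter SL2 χ)
    (hχ' : Cfsg.IsIrrCharacter SL2 χ') (hx : ∀ n, χ' (conjSL (dg δ) n) = χ n) {e : F} (he : e ≠ 0) :
    (IsSquare e → χ (upSL e) - χ' (upSL e) = χ (upSL 1) - χ' (upSL 1)) ∧
    (¬ IsSquare e → χ (upSL e) - χ' (upSL e) = -(χ (upSL 1) - χ' (upSL 1))) := by
  have hcf := isClassFunction_of_isCharacter (isCharacter_of_irr hχ)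
  have hcf' := isClassFunction_of_isCharacter (isCharacter_of_irr hχ')
  have hsq : ∀ s : F, s ≠ 0 → ∀ e' : F, χ (upSL (s * s * e')) - χ' (upSL (s * s * e')) =
      χ (upSL e') - χ' (upSL e') := by
    intro s hs e'
    have h1 := classFunction_upSL_sq χ hcf (Units.mk0 s hs) e'
    have h2 := classFunction_upSL_sq χ' hcf' (Units.mk0 s hs) e'
    simp only [Units.val_mk0, sq] at h1 h2
    rw [h1, h2]
  have hδ : ∀ e' : F, χ (upSL ((δ : F) * e')) - χ' (upSL ((δ : F) * e')) =
      -(χ (upSL e') - χ' (upSL e')) := by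
    intro e'
    obtain ⟨h1, h2⟩ := apply_upSL_mul hχ hχ' hx e'
    rw [h1, h2]
    ring
  constructor
  · rintro ⟨s, rfl⟩
    have hs : s ≠ 0 := fun h => he (by rw [h, mul_zero])
    have := hsq s hs 1
    rwa [mul_one] at this
  · intro hns
    by_cases hδsq : IsSquare (δ : F)
    · -- then everything vanishes
      obtain ⟨t, ht⟩ := hδsq
      have ht0 : t ≠ 0 := fun h => δ.ne_zero (by rw [ht, h, mul_zero])
      have hz : ∀ e' : F, χ (upSL e') - χ' (upSL e') = 0 := by
        intro e'
        have h1 := hδ e'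
        rw [ht, hsq t ht0 e'] at h1
        have : (2 : ℂ) * (χ (upSL e') - χ' (upSL e')) = 0 := by linear_combination h1
        exact (mul_eq_zero.mp this).resolve_left two_ne_zero
      rw [hz e, hz 1, neg_zero]
    · have hdiv : IsSquare (e / (δ : F)) := (isSquare_div_iff he δ.ne_zero).mpr (by tauto)
      obtain ⟨s, hs⟩ := hdiv
      have hs0 : s ≠ 0 := by
        intro h
        rw [h, mul_zero] at hs
        exact he ((div_eq_zero_iff.mp hs).resolve_right δ.ne_zero)
      have he' : e = (δ : F) * (s * s * 1) := by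
        rw [mul_one, ← hs, mul_div_cancel₀ _ δ.ne_zero]
      rw [he', hδ, hsq s hs0 1]

/-- The squared absolute value of `χ u - χ' u` is `q`. -/
theorem sub_upSL_one_mul_conj {χ χ' : SL2 → ℂ} {δ : Fˣ} (hodd : Odd (Fintype.card F))
    (hχ : Cfsg.IsIrrCharacter SL2 χ) (hχ' : Cfsg.IsIrrCharacter SL2 χ') (hne : χ' ≠ χ)
    (hx : ∀ n, χ' (conjSL (dg δ) n) = χ n) :
    (χ (upSL 1) - χ' (upSL 1)) * conj (χ (upSL 1) - χ' (upSL 1)) = (Fintype.card F : ℂ) := by
  classical
  have h2F : (2 : F) ≠ 0 := two_ne_zero_of_odd hodd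
  have hcf := isClassFunction_of_isCharacter (isCharacter_of_irr hχ)
  have hcf' := isClassFunction_of_isCharacter (isCharacter_of_irr hχ')
  set D : SL2 → ℂ := χ - χ' with hD
  set d₁ : ℂ := χ (upSL 1) - χ' (upSL 1) with hd₁
  set f : SL2 → ℂ := fun g => D g * conj (D g) with hf
  have hDcf : Cfsg.IsClassFunction SL2 D := isClassFunction_sub hcf hcf'
  have hfcf : Cfsg.IsClassFunction SL2 f := by
    intro g h
    simp only [hf]
    rw [hDcf g h]
  -- the norm of `D`
  have hnorm : Cfsg.classInner D D = 2 := by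
    rw [hD, classInner_sub_left, classInner_sub_right, classInner_sub_right, irr_classInner_self hχ,
      irr_classInner_self hχ', irr_classInner_ne hχ hχ' (fun h => hne h.symm),
      irr_classInner_ne hχ' hχ hne]
    norm_num
  have hG : (Nat.card SL2 : ℂ) = (Fintype.card F : ℂ) * ((Fintype.card F : ℂ) ^ 2 - 1) := by
    rw [card_SL2, Nat.cast_mul, Nat.cast_sub (Nat.one_le_pow _ _ Fintype.card_pos)]
    push_cast
    ring
  have hGne : (Nat.card SL2 : ℂ) ≠ 0 := by
    exact_mod_cast (Nat.card_pos (α := SL2)).ne'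
  have hsumf : ∑ g : SL2, f g = 2 * (Nat.card SL2 : ℂ) := by
    unfold Cfsg.classInner at hnorm
    have : ∑ g : SL2, D g * conj (D g) = (Nat.card SL2 : ℂ) * 2 := by
      rw [← hnorm, ← mul_assoc, mul_inv_cancel₀ hGne, one_mul]
    rw [mul_comm]
    exact this
  -- `f` is real valued
  have hfreal : ∀ g, conj (f g) = f g := by
    intro g
    simp only [hf, map_mul, Complex.conj_conj]
    ring
  -- `D` vanishes where `χ = χ'`
  have hD0 : ∀ g, χ g = χ' g → f g = 0 := by
    intro g h
    simp only [hf, hD, Pi.sub_apply, h, sub_self, zero_mul]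
  -- weighting by the number of fixed points does not change `f`
  have hweight : ∀ g : SL2, psCharSL (1 : MulChar F ℂ) g * conj (f g) = f g := by
    intro g
    rw [hfreal]
    by_cases hell : IsElliptic g
    · rw [hD0 g (eq_of_isElliptic hodd hχ' hx hell), mul_zero]
    · obtain ⟨h, a, e, rfl⟩ := exists_conj_borelMkSL' hell
      have hps : Cfsg.IsClassFunction SL2 (psCharSL (1 : MulChar F ℂ)) :=
        isClassFunction_of_isCharacter (isCharacter_psCharSL 1)
      rw [hps, hfcf]
      by_cases ha : (a : F) ^ 2 = 1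
      · by_cases he : e = 0
        · rw [hD0 _ (eq_of_diag hx (by rw [borelMkSL'_val]; simp [he]) (by rw [borelMkSL'_val]; simp)),
            mul_zero]
        · have hinv : ((a⁻¹ : Fˣ) : F) = (a : F) := by
            rw [Units.val_inv_eq_inv_val]
            rw [inv_eq_iff_eq_inv, eq_comm, inv_eq_of_mul_eq_one_left]
            rw [← sq]; exact ha
          rw [psCharSL_apply_unip 1 _ (by rw [borelMkSL'_val]; simp)
            (by rw [borelMkSL'_val]; simp [hinv]) (by rw [borelMkSL'_val]; simpa using he)]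
          rw [borelMkSL'_val]
          simp
      · have h0 : f (borelMkSL' (a, e)) = f (borelMkSL' (a, 0)) := by
          simp only [hf]
          rw [classFunction_borelMkSL'_of_ne D hDcf a ha e]
        rw [h0, hD0 _ (eq_of_diag hx (by rw [borelMkSL'_val]; simp) (by rw [borelMkSL'_val]; simp)),
          mul_zero]
  -- values of `f` on the Borel subgroup
  have hfup : ∀ e : F, e ≠ 0 → f (upSL e) = d₁ * conj d₁ := by
    intro e he
    obtain ⟨h1, h2⟩ := sub_upSL_cases hodd hχ hχ' hx he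
    simp only [hf, hD, Pi.sub_apply]
    by_cases hsq : IsSquare e
    · rw [h1 hsq]
    · rw [h2 hsq, map_neg]
      ring
  obtain ⟨hω, hωg⟩ := irr_mul_negOneSL hχ
  obtain ⟨hω', hωg'⟩ := irr_mul_negOneSL hχ'
  have hωeq : χ' negOneSL / χ' 1 = χ negOneSL / χ 1 := by
    have e1 : χ' negOneSL = χ negOneSL :=
      (eq_of_diag hx (by rw [negOneSL_val]; simp) (by rw [negOneSL_val]; simp)).symm
    have e2 : χ' 1 = χ 1 := by
      have := hx 1
      rwa [conjSL_one] at this
    rw [e1, e2]
  set ω := χ negOneSL / χ 1 with hωdef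
  have hωconj : ω * conj ω = 1 := by
    have h : (ω - 1) * (ω + 1) = 0 := by linear_combination hω
    rcases mul_eq_zero.mp h with h | h
    · have : ω = 1 := by linear_combination h
      rw [this]; simp
    · have : ω = -1 := by linear_combination h
      rw [this]; simp
  have hfneg : ∀ g, f (g * negOneSL) = f g := by
    intro g
    simp only [hf, hD, Pi.sub_apply]
    rw [hωg, hωg', hωeq]
    have : ω * χ g - ω * χ' g = ω * (χ g - χ' g) := by ring
    rw [this, map_mul]
    linear_combination (χ g - χ' g) * conj (χ g - χ' g) * hωconj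
  have hfb : ∀ (a : Fˣ) (e : F), f (borelMkSL' (a, e)) =
      if (a = 1 ∨ a = -1) ∧ e ≠ 0 then d₁ * conj d₁ else 0 := by
    intro a e
    by_cases ha : (a : F) ^ 2 = 1
    · have ha' : a = 1 ∨ a = -1 := by
        have h : ((a : F) - 1) * ((a : F) + 1) = 0 := by linear_combination ha
        rcases mul_eq_zero.mp h with h | h
        · left; apply Units.ext; rw [Units.val_one]; linear_combination h
        · right; apply Units.ext; rw [Units.val_neg, Units.val_one]; linear_combination h
      by_cases he : e = 0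
      · rw [if_neg (by tauto)]
        exact hD0 _ (eq_of_diag hx (by rw [borelMkSL'_val]; simp [he]) (by rw [borelMkSL'_val]; simp))
      · rw [if_pos ⟨ha', he⟩]
        rcases ha' with rfl | rfl
        · rw [borelMkSL'_one, hfup e he]
        · rw [borelMkSL'_neg_one, hfneg, hfup (-e) (neg_ne_zero.mpr he)]
    · have ha' : ¬ (a = 1 ∨ a = -1) := by
        rintro (rfl | rfl)
        · apply ha; simp
        · apply ha; simp
      rw [if_neg (by tauto)]
      have h0 : f (borelMkSL' (a, e)) = f (borelMkSL' (a, 0)) := by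
        simp only [hf]
        rw [classFunction_borelMkSL'_of_ne D hDcf a ha e]
      rw [h0]
      exact hD0 _ (eq_of_diag hx (by rw [borelMkSL'_val]; simp) (by rw [borelMkSL'_val]; simp))
  -- the Borel sum
  have hne1 : (1 : Fˣ) ≠ -1 := by
    intro h
    have := congrArg Units.val h
    rw [Units.val_neg, Units.val_one] at this
    apply h2F
    linear_combination this
  have hBsum : ∑ a : Fˣ, ∑ e : F, conj (f (borelMkSL' (a, e))) =
      2 * (((Fintype.card F : ℂ) - 1) * (d₁ * conj d₁)) := by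
    simp only [hfreal]
    simp only [hfb]
    have hinner : ∀ a : Fˣ, ∑ e : F, (if (a = 1 ∨ a = -1) ∧ e ≠ 0 then d₁ * conj d₁ else 0) =
        if a = 1 ∨ a = -1 then ((Fintype.card F : ℂ) - 1) * (d₁ * conj d₁) else 0 := by
      intro a
      by_cases ha : a = 1 ∨ a = -1
      · simp only [ha, true_and, if_true]
        rw [← Finset.sum_filter, Finset.sum_const, nsmul_eq_mul,
          Finset.filter_ne' Finset.univ (0 : F), Finset.card_erase_of_mem (Finset.mem_univ _),
          Finset.card_univ, Nat.cast_sub Fintype.card_pos, Nat.cast_one]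
      · simp only [ha, false_and, if_false, Finset.sum_const_zero]
    rw [Finset.sum_congr rfl (fun a _ => hinner a)]
    rw [← Finset.sum_filter]
    have hfilter : (Finset.univ.filter fun a : Fˣ => a = 1 ∨ a = -1) = {1, -1} := by
      ext a
      simp
    rw [hfilter, Finset.sum_pair hne1]
    ring
  -- combine
  have hmain := sum_psCharSL_one_mul f hfcf
  rw [Finset.sum_congr rfl (fun g _ => hweight g), hsumf, hBsum, hG] at hmain
  have hq0 : (Fintype.card F : ℂ) ≠ 0 := card_ne_zero_complex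
  have hq1 : (Fintype.card F : ℂ) - 1 ≠ 0 := sub_ne_zero.mpr card_ne_one_complex
  have hq2 : (Fintype.card F : ℂ) + 1 ≠ 0 := by
    intro h0
    have : ((Fintype.card F + 1 : ℕ) : ℂ) = 0 := by push_cast; exact h0
    exact absurd (Nat.cast_eq_zero.mp this) (by omega)
  have hfin : ((Fintype.card F : ℂ) + 1) * ((Fintype.card F : ℂ) - 1) * 2 *
      (d₁ * conj d₁ - (Fintype.card F : ℂ)) = 0 := by
    linear_combination -hmain
  rcases mul_eq_zero.mp hfin with h | h
  · exfalso
    rcases mul_eq_zero.mp h with h | h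
    · rcases mul_eq_zero.mp h with h | h
      · exact hq2 h
      · exact hq1 h
    · norm_num at h
  · exact sub_eq_zero.mp h

theorem upSL_one_inv : (upSL (1 : F))⁻¹ = upSL (-1) := by
  apply inv_eq_of_mul_eq_one_right
  apply Subtype.ext
  rw [Matrix.SpecialLinearGroup.coe_mul, upSL_val, upSL_val]
  ext i j
  fin_cases i <;> fin_cases j <;> simp [Matrix.mul_apply, Fin.sum_univ_two]

/-- `(χ u - χ' u)² = (-1)^((q-1)/2) q`. -/
theorem sub_upSL_one_sq {χ χ' : SL2 → ℂ} {δ : Fˣ} (hodd : Odd (Fintype.card F))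
    (hχ : Cfsg.IsIrrCharacter SL2 χ) (hχ' : Cfsg.IsIrrCharacter SL2 χ') (hne : χ' ≠ χ)
    (hx : ∀ n, χ' (conjSL (dg δ) n) = χ n) :
    (χ (upSL 1) - χ' (upSL 1)) ^ 2 = (-1 : ℂ) ^ ((Fintype.card F - 1) / 2) * (Fintype.card F : ℂ) := by
  have habs := sub_upSL_one_mul_conj hodd hχ hχ' hne hx
  have hconj : conj (χ (upSL 1) - χ' (upSL 1)) = χ (upSL (-1)) - χ' (upSL (-1)) := by
    rw [map_sub, ← isCharacter_apply_inv (isCharacter_of_irr hχ),
      ← isCharacter_apply_inv (isCharacter_of_irr hχ'), upSL_one_inv]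
  have h2F : (2 : F) ≠ 0 := two_ne_zero_of_odd hodd
  have hm1 : (-1 : F) ≠ 0 := by simp
  obtain ⟨h1, h2⟩ := sub_upSL_cases hodd hχ hχ' hx hm1
  obtain ⟨m, hm⟩ := hodd
  by_cases hsq : IsSquare (-1 : F)
  · have h4 : Fintype.card F % 4 ≠ 3 := FiniteField.isSquare_neg_one_iff.mp hsq
    have heven : Even ((Fintype.card F - 1) / 2) := by
      rw [Nat.even_iff]
      omega
    rw [heven.neg_one_pow, one_mul, ← habs, hconj, h1 hsq, sq]
  · have h4 : Fintype.card F % 4 = 3 := by
      by_contra h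
      exact hsq (FiniteField.isSquare_neg_one_iff.mpr h)
    have hodd' : Odd ((Fintype.card F - 1) / 2) := by
      rw [Nat.odd_iff]
      omega
    rw [hodd'.neg_one_pow, ← habs, hconj, h2 hsq]
    ring

end main

end Cfsg.Agent.Lib.H12
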