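import Mathlib
import Cfsg.Agent.Lib.H12.LocalArith
import Cfsg.Agent.Lib.H12.SL2Half
import Cfsg.Agent.Lib.H12.SL2RegCard
import Cfsg.Agent.Lib.H12.SL2OddUnip
import Cfsg.Agent.Lib.H23.CentralChar
import Cfsg.Agent.Lib.H24.CharSchur

set_option autoImplicit false

/-!
# The `p`-blocks of `SL₂(q)`, `q` a power of the odd prime `p` (helper12)
-/

namespace Cfsg.Agent.Lib.H12

open Matrix Cfsg Cfsg.Agent.Lib.L0 Cfsg.Agent.Lib.H24
open scoped ComplexConjugate

section general

variable {G : Type*} [Group G] [Finite G]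

theorem centralChar_eq_of_isConj {χ : G → ℂ} (hcf : IsClassFunction G χ) {g h : G}
    (hc : IsConj g h) : centralChar χ g = centralChar χ h := by
  unfold centralChar
  rw [isClassFunction_eq_of_isConj hcf hc, index_centralizer_eq_card_conj g,
    index_centralizer_eq_card_conj h]
  have : {x : G // IsConj g x} = {x : G // IsConj h x} := by
    congr 1
    ext x
    exact ⟨fun hx => hc.symm.trans hx, fun hx => hc.trans hx⟩
  rw [this]

theorem centralizer_mul_central {z : G} (hz : z ∈ Subgroup.center G) (g : G) :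
    Subgroup.centralizer ({g * z} : Set G) = Subgroup.centralizer ({g} : Set G) := by
  ext x
  rw [Subgroup.mem_centralizer_singleton_iff, Subgroup.mem_centralizer_singleton_iff]
  have hzx : z * x = x * z := (Subgroup.mem_center_iff.mp hz x).symm
  constructor
  · intro h
    have : x * g * z = g * x * z := by
      calc x * g * z = x * (g * z) := by group
        _ = g * z * x := h
        _ = g * (z * x) := by group
        _ = g * (x * z) := by rw [hzx]
        _ = g * x * z := by group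
    exact mul_right_cancel this
  · intro h
    calc x * (g * z) = x * g * z := by group
      _ = g * x * z := by rw [h]
      _ = g * (x * z) := by group
      _ = g * (z * x) := by rw [hzx]
      _ = g * z * x := by group

theorem centralChar_mul_central (χ : IrrCharacter G) {z : G} (hz : z ∈ Subgroup.center G) (g : G) :
    centralChar (χ : G → ℂ) (g * z) = ((χ : G → ℂ) z / (χ : G → ℂ) 1) * centralChar (χ : G → ℂ) g := by
  unfold centralChar
  rw [centralizer_mul_central hz]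
  have h1 := Cfsg.Agent.Lib.H23.irr_mul_center χ g hz
  have h0 : (χ : G → ℂ) 1 ≠ 0 := irr_one_ne_zero χ
  field_simp
  linear_combination ((Subgroup.centralizer ({g} : Set G)).index : ℂ) * h1

theorem centralChar_one (χ : IrrCharacter G) : centralChar (χ : G → ℂ) 1 = 1 := by
  unfold centralChar
  have hc : Subgroup.centralizer ({1} : Set G) = ⊤ := by
    ext x
    simp [Subgroup.mem_centralizer_iff]
  rw [hc, Subgroup.index_top, Nat.cast_one, one_mul, div_self (irr_one_ne_zero χ)]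

theorem centralChar_central (χ : IrrCharacter G) {z : G} (hz : z ∈ Subgroup.center G) :
    centralChar (χ : G → ℂ) z = (χ : G → ℂ) z / (χ : G → ℂ) 1 := by
  have := centralChar_mul_central χ hz 1
  rw [one_mul, centralChar_one, mul_one] at this
  exact this

/-- `d * ω_χ(g) = |cl g| * χ(g)`. -/
theorem apply_one_mul_centralChar (χ : IrrCharacter G) (g : G) :
    (χ : G → ℂ) 1 * centralChar (χ : G → ℂ) g =
      ((Subgroup.centralizer ({g} : Set G)).index : ℂ) * (χ : G → ℂ) g := by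
  unfold centralChar
  have h0 : (χ : G → ℂ) 1 ≠ 0 := irr_one_ne_zero χ
  field_simp

theorem irr_isIntegral (χ : IrrCharacter G) (g : G) : IsIntegral ℤ ((χ : G → ℂ) g) :=
  isCharacter_isIntegral (isCharacter_of_irr χ.2) g

/-- A Sylow `p`-subgroup is a defect group of `B` as soon as `1` represents a defect class. -/
theorem isDefectGroup_of_isDefectClass_one {p : ℕ} {M : Ideal AlgInt} {B : Set (IrrCharacter G)}
    (h : IsDefectClass M B (1 : G)) (P : Sylow p G) :
    IsDefectGroup p M B (P : Subgroup G) := by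
  refine ⟨1, h, ?_⟩
  have hc : Subgroup.centralizer ({1} : Set G) = ⊤ := by
    ext x
    simp [Subgroup.mem_centralizer_iff]
  have hle : (P : Subgroup G) ≤ Subgroup.centralizer ({1} : Set G) := by
    rw [hc]
    exact le_top
  refine ⟨P.subtype hle, ?_⟩
  rw [Sylow.coe_subtype, Subgroup.map_subgroupOf_eq_of_le hle]

theorem blockCoeff_one (B : Set (IrrCharacter G)) :
    blockCoeff B (1 : G) = (Nat.card G : ℂ)⁻¹ * ∑ᶠ χ ∈ B, (χ : G → ℂ) 1 ^ 2 := by
  unfold blockCoeff
  congr 1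
  apply finsum_congr
  intro χ
  apply finsum_congr
  intro _
  obtain ⟨n, _, hn⟩ := irr_one_eq χ
  rw [hn, Complex.conj_natCast, sq]

theorem finsum_mem_setOf_eq_sum_filter {α : Type*} [Fintype α] (P : α → Prop) [DecidablePred P]
    (f : α → ℂ) : ∑ᶠ x ∈ {x | P x}, f x = ∑ x ∈ Finset.univ.filter P, f x := by
  rw [finsum_mem_eq_finite_toFinset_sum _ (Set.toFinite _)]
  congr 1
  ext x
  simp

end general

section sl2

variable {F : Type*} [Field F] [Fintype F] [DecidableEq F]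

local notation "SL2" => Matrix.SpecialLinearGroup (Fin 2) F

theorem card_field_facts (p : ℕ) [hp : Fact p.Prime] [CharP F p] (hp2 : p ≠ 2) :
    p ∣ Fintype.card F ∧ Odd (Fintype.card F) ∧ 3 ≤ Fintype.card F := by
  obtain ⟨n, hpp, hn⟩ := FiniteField.card F p
  have hodd : Odd p := hpp.odd_of_ne_two hp2
  have h3 : 3 ≤ p := by
    have := hpp.two_le
    omega
  refine ⟨?_, ?_, ?_⟩
  · rw [hn]
    exact dvd_pow_self p n.ne_zero
  · rw [hn]
    exact hodd.pow
  · rw [hn]
    calc 3 ≤ p := h3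
      _ = p ^ 1 := (pow_one p).symm
      _ ≤ p ^ (n : ℕ) := Nat.pow_le_pow_right hpp.pos n.pos

/-- A non-Steinberg irreducible character of `SL₂(q)`: degree prime to `p`, and values at
nontrivial unipotent elements congruent to the degree modulo `M`. -/
structure NonSt (p : ℕ) (M : Ideal AlgInt) (χ : SL2 → ℂ) : Prop where
  deg : ∃ d : ℕ, χ 1 = d ∧ ¬ p ∣ d
  unip : ∀ β : F, β ≠ 0 → InM M (χ (upSL β) - χ 1)

theorem inM_half_diff {p : ℕ} {M : Ideal AlgInt} (hM : IsPModular p M) (hpq : p ∣ Fintype.card F)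
    (hodd : Odd (Fintype.card F)) {χ χ' : SL2 → ℂ} {δ : Fˣ}
    (hχ : IsIrrCharacter SL2 χ) (hχ' : IsIrrCharacter SL2 χ') (hne : χ' ≠ χ)
    (hx : ∀ n, χ' (conjSL (dg δ) n) = χ n) {β : F} (hβ : β ≠ 0) :
    InM M (χ (upSL β) - χ' (upSL β)) := by
  have hint : ∀ e : F, IsIntegral ℤ (χ (upSL e) - χ' (upSL e)) := fun e =>
    (isCharacter_isIntegral (isCharacter_of_irr hχ) _).sub
      (isCharacter_isIntegral (isCharacter_of_irr hχ') _)
  have hsq := sub_upSL_one_sq hodd hχ hχ' hne hx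
  have hq : InM M (Fintype.card F : ℂ) := (inM_natCast_iff hM _).mpr hpq
  have h1 : InM M (χ (upSL 1) - χ' (upSL 1)) := by
    apply inM_of_sq hM (hint 1)
    rw [hsq]
    exact InM.mul_left ((IsIntegral.neg isIntegral_one).pow _) hq
  obtain ⟨hs, hns⟩ := sub_upSL_cases hodd hχ hχ' hx hβ
  by_cases hb : IsSquare β
  · rw [hs hb]
    exact h1
  · rw [hns hb]
    exact h1.neg

theorem nonSt_of_irr {p : ℕ} [hp : Fact p.Prime] [CharP F p] (hp2 : p ≠ 2) {M : Ideal AlgInt}
    (hM : IsPModular p M) {χ : SL2 → ℂ} (hχ : IsIrrCharacter SL2 χ) (hne : χ ≠ stCharSL) :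
    NonSt p M χ := by
  obtain ⟨hpq, hodd, hq3⟩ := card_field_facts (F := F) p hp2
  have hp1 : ¬ p ∣ 1 := fun h => hp.out.one_lt.ne' (Nat.dvd_one.mp h)
  have hq : InM M (Fintype.card F : ℂ) := (inM_natCast_iff hM _).mpr hpq
  have h2 : ¬ p ∣ 2 := by
    intro h
    exact hp2 ((Nat.prime_dvd_prime_iff_eq hp.out Nat.prime_two).mp h)
  obtain ⟨k, hk, hcase⟩ := sl2_irr_classification_deg hχ
  rcases hcase with ⟨h, hk1⟩ | ⟨h, -⟩ | ⟨γ, hγ, h, hk1⟩ | ⟨γ, χ', δ, hγ1, hγ2, hχ', hne', hsum, hx, hk1⟩ |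
      ⟨π, hπ, h, hk1⟩ | ⟨π, χ', δ, hπ, hχ', hne', hsum, hx, hk1⟩
  · -- trivial character
    refine ⟨⟨k, hk, by rw [hk1]; exact hp1⟩, fun β _ => ?_⟩
    rw [h]
    simp only [Pi.one_apply, sub_self]
    exact inM_zero
  · exact absurd h hne
  · -- principal series
    refine ⟨⟨k, hk, ?_⟩, fun β hβ => ?_⟩
    · rw [hk1]
      intro hd
      exact hp1 ((Nat.dvd_add_right hpq).mp hd)
    · rw [h, psCharSL_upSL γ hβ, psCharSL_one_apply]
      have : (1 : ℂ) - ((Fintype.card F : ℂ) + 1) = -(Fintype.card F : ℂ) := by ring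
      rw [this]
      exact hq.neg
  · -- half of a principal series
    refine ⟨⟨k, hk, ?_⟩, fun β hβ => ?_⟩
    · intro hd
      have : p ∣ Fintype.card F + 1 := by
        rw [← hk1]
        exact Dvd.dvd.mul_left hd 2
      exact hp1 ((Nat.dvd_add_right hpq).mp this)
    · have hD := inM_half_diff hM hpq hodd hχ hχ' hne' hx hβ
      have hS : χ (upSL β) + χ' (upSL β) = 1 := by
        have := congrFun hsum (upSL β)
        rw [psCharSL_upSL γ hβ, Pi.add_apply] at this
        exact this.symm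
      have hk2 : 2 * χ 1 = (Fintype.card F : ℂ) + 1 := by
        rw [hk]
        exact_mod_cast hk1
      have hint : IsIntegral ℤ (χ (upSL β) - χ 1) :=
        (isCharacter_isIntegral (isCharacter_of_irr hχ) _).sub
          (isCharacter_isIntegral (isCharacter_of_irr hχ) _)
      apply inM_of_natCast_mul hM h2 hint
      have : ((2 : ℕ) : ℂ) * (χ (upSL β) - χ 1) =
          (χ (upSL β) - χ' (upSL β)) - (Fintype.card F : ℂ) := by
        push_cast
        linear_combination hS - hk2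
      rw [this]
      exact hD.sub hq
  · -- cuspidal
    have hq1 : 1 ≤ Fintype.card F := by omega
    refine ⟨⟨k, hk, ?_⟩, fun β hβ => ?_⟩
    · intro hd
      have : p ∣ k + 1 := by rw [hk1]; exact hpq
      exact hp1 ((Nat.dvd_add_right hd).mp this)
    · rw [h, cusp_apply_upSL hπ hβ, resSL_one, hπ.2.2.1]
      have : (-1 : ℂ) - ((Fintype.card F : ℂ) - 1) = -(Fintype.card F : ℂ) := by ring
      rw [this]
      exact hq.neg
  · -- half of a cuspidal
    refine ⟨⟨k, hk, ?_⟩, fun β hβ => ?_⟩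
    · intro hd
      have : p ∣ 2 * k + 1 := by rw [hk1]; exact hpq
      exact hp1 ((Nat.dvd_add_right (Dvd.dvd.mul_left hd 2)).mp this)
    · have hD := inM_half_diff hM hpq hodd hχ hχ' hne' hx hβ
      have hS : χ (upSL β) + χ' (upSL β) = -1 := by
        have := congrFun hsum (upSL β)
        rw [cusp_apply_upSL hπ hβ, Pi.add_apply] at this
        exact this.symm
      have hk2 : 2 * χ 1 + 1 = (Fintype.card F : ℂ) := by
        rw [hk]
        exact_mod_cast hk1
      have hint : IsIntegral ℤ (χ (upSL β) - χ 1) :=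
        (isCharacter_isIntegral (isCharacter_of_irr hχ) _).sub
          (isCharacter_isIntegral (isCharacter_of_irr hχ) _)
      apply inM_of_natCast_mul hM h2 hint
      have : ((2 : ℕ) : ℂ) * (χ (upSL β) - χ 1) =
          (χ (upSL β) - χ' (upSL β)) - (Fintype.card F : ℂ) := by
        push_cast
        linear_combination hS - hk2
      rw [this]
      exact hD.sub hq

/-! ### Representatives -/

theorem sl2Up_true_eq (β : F) : (sl2Up true β : SL2) = upSL β := by
  apply Subtype.ext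
  rw [sl2Up_val, upSL_val]
  simp [sgn]

theorem sl2Up_false_eq (β : F) : (sl2Up false β : SL2) = upSL (-β) * negOneSL := by
  apply Subtype.ext
  rw [Matrix.SpecialLinearGroup.coe_mul, sl2Up_val, upSL_val, negOneSL_val]
  ext i j
  fin_cases i <;> fin_cases j <;> simp [sgn, Matrix.mul_apply, Fin.sum_univ_two]

theorem sl2Sc_true_eq : (sl2Sc true : SL2) = 1 := by
  apply Subtype.ext
  rw [sl2Sc_val]
  ext i j
  fin_cases i <;> fin_cases j <;> simp [sgn]

theorem sl2Sc_false_eq : (sl2Sc false : SL2) = negOneSL := by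
  apply Subtype.ext
  rw [sl2Sc_val, negOneSL_val]
  simp [sgn]

theorem negOneSL_eq_neg_one : (negOneSL : SL2) = -1 := by
  apply Subtype.ext
  rw [negOneSL_val]
  ext i j
  fin_cases i <;> fin_cases j <;> simp

/-! ### Class sizes -/

theorem index_centralizer_upSL (h2 : (2 : F) ≠ 0) {β : F} (hβ : β ≠ 0) :
    (Subgroup.centralizer ({upSL β} : Set SL2)).index * 2 = Fintype.card F ^ 2 - 1 := by
  have h1 := Subgroup.index_mul_card (Subgroup.centralizer ({upSL β} : Set SL2))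
  have hc := card_centralizer_sl2Up h2 hβ
  rw [sl2Up_true_eq] at hc
  rw [hc, card_SL2] at h1
  have hq : 0 < Fintype.card F := Fintype.card_pos
  apply Nat.eq_of_mul_eq_mul_left hq
  rw [← h1]
  ring

theorem index_centralizer_upSL_cast (h2 : (2 : F) ≠ 0) {β : F} (hβ : β ≠ 0) :
    ((Subgroup.centralizer ({upSL β} : Set SL2)).index : ℂ) * 2 = (Fintype.card F : ℂ) ^ 2 - 1 := by
  have h := index_centralizer_upSL h2 hβ
  have hq : 1 ≤ Fintype.card F ^ 2 := Nat.one_le_pow _ _ Fintype.card_pos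
  have h' := congrArg (fun n : ℕ => (n : ℂ)) h
  rw [Nat.cast_sub hq] at h'
  push_cast at h'
  exact h'

theorem card_dvd_index_of_regular (hodd : Odd (Fintype.card F)) (g : SL2)
    (ht : (g : Matrix (Fin 2) (Fin 2) F).trace ^ 2 ≠ 4) :
    Fintype.card F ∣ (Subgroup.centralizer ({g} : Set SL2)).index := by
  have h1 := Subgroup.index_mul_card (Subgroup.centralizer ({g} : Set SL2))
  rw [card_SL2] at h1
  obtain ⟨-, hs, hns⟩ := regular_centralizer hodd g ht
  have hq : 1 < Fintype.card F := Fintype.one_lt_card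
  have hdvd : Fintype.card F ∣ (Subgroup.centralizer ({g} : Set SL2)).index *
      Nat.card (Subgroup.centralizer ({g} : Set SL2)) := by
    rw [h1]
    exact Dvd.intro _ rfl
  by_cases hsq : IsSquare ((g : Matrix (Fin 2) (Fin 2) F).trace ^ 2 - 4)
  · rw [hs hsq] at hdvd
    have hcop : Nat.Coprime (Fintype.card F) (Fintype.card F - 1) := by
      have : Fintype.card F = (Fintype.card F - 1) + 1 := by omega
      rw [this, Nat.add_sub_cancel]
      exact (Nat.coprime_self_add_left).mpr (Nat.coprime_one_left _)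
    exact hcop.dvd_of_dvd_mul_right hdvd
  · rw [hns hsq] at hdvd
    have hcop : Nat.Coprime (Fintype.card F) (Fintype.card F + 1) := by
      exact (Nat.coprime_self_add_right).mpr (Nat.coprime_one_right _)
    exact hcop.dvd_of_dvd_mul_right hdvd

/-! ### Central characters modulo `M` -/

theorem NonSt.inM_two_mul_centralChar_add_one {p : ℕ} {M : Ideal AlgInt} (hM : IsPModular p M)
    (h2 : (2 : F) ≠ 0) (hpq : p ∣ Fintype.card F) (χ : IrrCharacter SL2)
    (hns : NonSt p M (χ : SL2 → ℂ)) {β : F} (hβ : β ≠ 0) :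
    InM M (2 * centralChar (χ : SL2 → ℂ) (upSL β) + 1) := by
  obtain ⟨d, hd, hpd⟩ := hns.deg
  have hω : IsIntegral ℤ (centralChar (χ : SL2 → ℂ) (upSL β)) :=
    Cfsg.Agent.Lib.H23.isIntegral_centralChar _ χ.2 _
  have hint : IsIntegral ℤ (2 * centralChar (χ : SL2 → ℂ) (upSL β) + 1) :=
    ((isIntegral_natCast (R := ℤ) (B := ℂ) 2).mul hω).add isIntegral_one
  apply inM_of_natCast_mul hM hpd hint
  have hq : InM M (Fintype.card F : ℂ) := (inM_natCast_iff hM _).mpr hpq
  have h1 := apply_one_mul_centralChar χ (upSL β)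
  have h3 := index_centralizer_upSL_cast h2 hβ
  have key : (d : ℂ) * (2 * centralChar (χ : SL2 → ℂ) (upSL β) + 1) =
      ((Fintype.card F : ℂ) ^ 2 - 1) * ((χ : SL2 → ℂ) (upSL β) - (χ : SL2 → ℂ) 1) +
        (Fintype.card F : ℂ) * ((Fintype.card F : ℂ) * (χ : SL2 → ℂ) 1) := by
    rw [← hd]
    linear_combination 2 * h1 + (χ : SL2 → ℂ) (upSL β) * h3
  rw [key]
  refine InM.add (InM.mul_left ?_ (hns.unip β hβ)) (InM.mul_right hq ?_)
  · exact ((isIntegral_natCast (R := ℤ) (B := ℂ) _).pow 2).sub isIntegral_one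
  · exact (isIntegral_natCast (R := ℤ) (B := ℂ) _).mul (irr_isIntegral χ 1)

theorem NonSt.inM_centralChar_regular {p : ℕ} {M : Ideal AlgInt} (hM : IsPModular p M)
    (hodd : Odd (Fintype.card F)) (hpq : p ∣ Fintype.card F) (χ : IrrCharacter SL2)
    (hns : NonSt p M (χ : SL2 → ℂ)) (g : SL2)
    (ht : (g : Matrix (Fin 2) (Fin 2) F).trace ^ 2 ≠ 4) :
    InM M (centralChar (χ : SL2 → ℂ) g) := by
  obtain ⟨d, hd, hpd⟩ := hns.deg
  have hω : IsIntegral ℤ (centralChar (χ : SL2 → ℂ) g) :=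
    Cfsg.Agent.Lib.H23.isIntegral_centralChar _ χ.2 _
  apply inM_of_natCast_mul hM hpd hω
  have hq : InM M (Fintype.card F : ℂ) := (inM_natCast_iff hM _).mpr hpq
  obtain ⟨m, hm⟩ := card_dvd_index_of_regular hodd g ht
  have h1 := apply_one_mul_centralChar χ g
  rw [hd, hm] at h1
  rw [h1]
  push_cast
  rw [mul_assoc]
  exact InM.mul_right hq ((isIntegral_natCast (R := ℤ) (B := ℂ) _).mul (irr_isIntegral χ g))

/-- The central sign of an irreducible character of `SL₂`. -/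
noncomputable def csign (χ : SL2 → ℂ) : ℂ := χ negOneSL / χ 1

theorem csign_cases (χ : IrrCharacter SL2) :
    csign (χ : SL2 → ℂ) = 1 ∨ csign (χ : SL2 → ℂ) = -1 := by
  have h := (irr_mul_negOneSL χ.2).1
  have : (csign (χ : SL2 → ℂ) - 1) * (csign (χ : SL2 → ℂ) + 1) = 0 := by
    unfold csign
    linear_combination h
  rcases mul_eq_zero.mp this with h | h
  · left; exact sub_eq_zero.mp h
  · right; exact eq_neg_of_add_eq_zero_left h

theorem csign_isIntegral (χ : IrrCharacter SL2) : IsIntegral ℤ (csign (χ : SL2 → ℂ)) := by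
  rcases csign_cases χ with h | h <;> rw [h]
  · exact isIntegral_one
  · exact isIntegral_one.neg

theorem centralChar_negOneSL (χ : IrrCharacter SL2) :
    centralChar (χ : SL2 → ℂ) negOneSL = csign (χ : SL2 → ℂ) :=
  centralChar_central χ negOneSL_mem_center

theorem centralChar_sl2Up_false (χ : IrrCharacter SL2) (β : F) :
    centralChar (χ : SL2 → ℂ) (sl2Up false β) =
      csign (χ : SL2 → ℂ) * centralChar (χ : SL2 → ℂ) (upSL (-β)) := by
  rw [sl2Up_false_eq, centralChar_mul_central χ negOneSL_mem_center]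
  rfl

theorem apply_negOneSL_eq (χ : IrrCharacter SL2) :
    (χ : SL2 → ℂ) negOneSL = csign (χ : SL2 → ℂ) * (χ : SL2 → ℂ) 1 := by
  unfold csign
  rw [div_mul_cancel₀ _ (irr_one_ne_zero χ)]

/-- Two non-Steinberg irreducible characters with the same central sign lie in the same block. -/
theorem sameBlock_of_csign_eq {p : ℕ} [hp : Fact p.Prime] [CharP F p] (hp2 : p ≠ 2)
    {M : Ideal AlgInt} (hM : IsPModular p M) (χ ψ : IrrCharacter SL2)
    (hχ : NonSt p M (χ : SL2 → ℂ)) (hψ : NonSt p M (ψ : SL2 → ℂ))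
    (hε : csign (χ : SL2 → ℂ) = csign (ψ : SL2 → ℂ)) :
    SameBlock M (χ : SL2 → ℂ) (ψ : SL2 → ℂ) := by
  obtain ⟨hpq, hodd, hq3⟩ := card_field_facts (F := F) p hp2
  have h2F : (2 : F) ≠ 0 := two_ne_zero_of_odd hodd
  have h2 : ¬ p ∣ 2 := by
    intro h
    exact hp2 ((Nat.prime_dvd_prime_iff_eq hp.out Nat.prime_two).mp h)
  have hcfχ := isClassFunction_of_isCharacter (isCharacter_of_irr χ.2)
  have hcfψ := isClassFunction_of_isCharacter (isCharacter_of_irr ψ.2)
  have hωχ : ∀ g, IsIntegral ℤ (centralChar (χ : SL2 → ℂ) g) := fun g =>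
    Cfsg.Agent.Lib.H23.isIntegral_centralChar _ χ.2 g
  have hωψ : ∀ g, IsIntegral ℤ (centralChar (ψ : SL2 → ℂ) g) := fun g =>
    Cfsg.Agent.Lib.H23.isIntegral_centralChar _ ψ.2 g
  -- unipotent elements
  have hunip : ∀ β : F, β ≠ 0 →
      InM M (centralChar (χ : SL2 → ℂ) (upSL β) - centralChar (ψ : SL2 → ℂ) (upSL β)) := by
    intro β hβ
    apply inM_of_natCast_mul hM h2 ((hωχ _).sub (hωψ _))
    have h1 := hχ.inM_two_mul_centralChar_add_one hM h2F hpq χ hβ
    have h3 := hψ.inM_two_mul_centralChar_add_one hM h2F hpq ψ hβ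
    have := h1.sub h3
    have e : ((2 : ℕ) : ℂ) * (centralChar (χ : SL2 → ℂ) (upSL β) - centralChar (ψ : SL2 → ℂ) (upSL β)) =
        2 * centralChar (χ : SL2 → ℂ) (upSL β) + 1 - (2 * centralChar (ψ : SL2 → ℂ) (upSL β) + 1) := by
      push_cast
      ring
    rw [e]
    exact this
  intro g
  apply InM.memLocalIdeal hM
  by_cases hg : NonScalar (g : Matrix (Fin 2) (Fin 2) F)
  · by_cases ht : (g : Matrix (Fin 2) (Fin 2) F).trace ^ 2 = 4
    · have ht' : ((g : Matrix (Fin 2) (Fin 2) F).trace - 2) * ((g : Matrix (Fin 2) (Fin 2) F).trace + 2) = 0 := by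
        linear_combination ht
      have hb : ∃ b : Bool, (g : Matrix (Fin 2) (Fin 2) F).trace = 2 * sgn b := by
        rcases mul_eq_zero.mp ht' with h | h
        · exact ⟨true, by simp only [sgn, if_true]; linear_combination h⟩
        · exact ⟨false, by simp only [sgn, Bool.false_eq_true, if_false]; linear_combination h⟩
      obtain ⟨b, hb⟩ := hb
      obtain ⟨ν, hν⟩ := FiniteField.exists_nonsquare (ringChar_ne_two_of_odd hodd)
      have hν0 : ν ≠ 0 := by rintro rfl; exact hν IsSquare.zero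
      obtain ⟨s, hs⟩ := exists_isConj_sl2Up ν hν g hg b hb
      have hβ : (if s then (1 : F) else ν) ≠ 0 := by
        cases s <;> simp [hν0]
      rw [← centralChar_eq_of_isConj hcfχ hs, ← centralChar_eq_of_isConj hcfψ hs]
      cases b
      · rw [centralChar_sl2Up_false, centralChar_sl2Up_false, ← hε, ← mul_sub]
        exact InM.mul_left (csign_isIntegral χ) (hunip _ (neg_ne_zero.mpr hβ))
      · rw [sl2Up_true_eq]
        exact hunip _ hβ
    · exact (hχ.inM_centralChar_regular hM hodd hpq χ g ht).sub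
        (hψ.inM_centralChar_regular hM hodd hpq ψ g ht)
  · obtain ⟨b, rfl⟩ := exists_eq_sl2Sc g hg
    cases b
    · rw [sl2Sc_false_eq, centralChar_negOneSL, centralChar_negOneSL, hε, sub_self]
      exact inM_zero
    · rw [sl2Sc_true_eq, centralChar_one, centralChar_one, sub_self]
      exact inM_zero

/-- Irreducible characters with different central signs lie in different blocks. -/
theorem not_sameBlock_of_csign_ne {p : ℕ} (hp2 : p ≠ 2)
    {M : Ideal AlgInt} (hM : IsPModular p M) (χ ψ : IrrCharacter SL2)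
    (hε : csign (χ : SL2 → ℂ) ≠ csign (ψ : SL2 → ℂ)) :
    ¬ SameBlock M (χ : SL2 → ℂ) (ψ : SL2 → ℂ) := by
  intro h
  have h1 := h negOneSL
  rw [centralChar_negOneSL, centralChar_negOneSL] at h1
  have h2 : ¬ p ∣ 2 := by
    intro h
    exact hp2 ((Nat.prime_dvd_prime_iff_eq hM.1 Nat.prime_two).mp h)
  have h2M : ¬ InM M 2 := by
    have := (inM_natCast_iff hM 2).not.mpr h2
    simpa using this
  rw [memLocalIdeal_iff_inM hM ((csign_isIntegral χ).sub (csign_isIntegral ψ))] at h1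
  rcases csign_cases χ with h3 | h3 <;> rcases csign_cases ψ with h4 | h4
  · exact hε (h3.trans h4.symm)
  · rw [h3, h4] at h1
    apply h2M
    have e : (1 : ℂ) - -1 = 2 := by norm_num
    rwa [e] at h1
  · rw [h3, h4] at h1
    apply h2M
    have e : (-1 : ℂ) - 1 = -2 := by norm_num
    rw [e] at h1
    have := h1.neg
    rwa [neg_neg] at this
  · exact hε (h3.trans h4.symm)

theorem stCharSL_upSL {β : F} (hβ : β ≠ 0) : stCharSL (upSL β) = 0 := by
  unfold stCharSL
  rw [Pi.sub_apply, psCharSL_upSL 1 hβ, Pi.one_apply, sub_self]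

/-- The Steinberg character is alone in its block. -/
theorem not_sameBlock_stCharSL {p : ℕ} [hp : Fact p.Prime] [CharP F p] (hp2 : p ≠ 2)
    {M : Ideal AlgInt} (hM : IsPModular p M) (ψ : IrrCharacter SL2)
    (hψ : NonSt p M (ψ : SL2 → ℂ)) :
    ¬ SameBlock M (stCharSL : SL2 → ℂ) (ψ : SL2 → ℂ) := by
  obtain ⟨hpq, hodd, hq3⟩ := card_field_facts (F := F) p hp2
  have h2F : (2 : F) ≠ 0 := two_ne_zero_of_odd hodd
  intro h
  have h1 := h (upSL 1)
  have h0 : centralChar (stCharSL : SL2 → ℂ) (upSL 1) = 0 := by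
    unfold centralChar
    rw [stCharSL_upSL one_ne_zero, mul_zero, zero_div]
  rw [h0, zero_sub] at h1
  have hω : IsIntegral ℤ (centralChar (ψ : SL2 → ℂ) (upSL 1)) :=
    Cfsg.Agent.Lib.H23.isIntegral_centralChar _ ψ.2 _
  rw [memLocalIdeal_iff_inM hM hω.neg] at h1
  have h3 := hψ.inM_two_mul_centralChar_add_one hM h2F hpq ψ (one_ne_zero (α := F))
  apply not_inM_one hM
  have := h3.add (InM.mul_left (isIntegral_natCast (R := ℤ) (B := ℂ) 2) h1)
  have e : 2 * centralChar (ψ : SL2 → ℂ) (upSL 1) + 1 +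
      ((2 : ℕ) : ℂ) * -centralChar (ψ : SL2 → ℂ) (upSL 1) = 1 := by
    push_cast
    ring
  rwa [e] at this

/-! ### The three blocks -/

theorem psCharSL_one_negOneSL :
    psCharSL (1 : MulChar F ℂ) (negOneSL : SL2) = (Fintype.card F : ℂ) + 1 := by
  rw [psCharSL_eq_resSL, resSL_apply, psChar, indFun_borelChar_apply]
  simp only [Matrix.SpecialLinearGroup.coe_GL_coe_matrix, negOneSL_val]
  have h1 : (1 : MulChar F ℂ) (-1 : F) = 1 := MulChar.one_apply (isUnit_one.neg)
  simp [h1]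
  ring

theorem stCharSL_negOneSL : stCharSL (negOneSL : SL2) = (Fintype.card F : ℂ) := by
  unfold stCharSL
  rw [Pi.sub_apply, psCharSL_one_negOneSL, Pi.one_apply]
  ring

theorem csign_eq_one_iff (χ : IrrCharacter SL2) :
    csign (χ : SL2 → ℂ) = 1 ↔ (χ : SL2 → ℂ) negOneSL = (χ : SL2 → ℂ) 1 := by
  unfold csign
  rw [div_eq_one_iff_eq (irr_one_ne_zero χ)]

theorem csign_eq_neg_one_iff (χ : IrrCharacter SL2) :
    csign (χ : SL2 → ℂ) = -1 ↔ (χ : SL2 → ℂ) negOneSL = -(χ : SL2 → ℂ) 1 := by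
  unfold csign
  rw [div_eq_iff (irr_one_ne_zero χ), neg_one_mul]

theorem apply_one_eq_card_iff (χ : IrrCharacter SL2) :
    (χ : SL2 → ℂ) 1 = (Fintype.card F : ℂ) ↔ (χ : SL2 → ℂ) = stCharSL := by
  constructor
  · intro h
    have hq : 1 < Fintype.card F := Fintype.one_lt_card
    obtain ⟨k, hk, hcase⟩ := sl2_irr_classification_deg χ.2
    have hkq : k = Fintype.card F := by
      rw [hk] at h
      exact_mod_cast h
    rcases hcase with ⟨-, hk1⟩ | ⟨h', -⟩ | ⟨γ, -, -, hk1⟩ | ⟨γ, χ', δ, -, -, -, -, -, -, hk1⟩ |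
        ⟨π, -, -, hk1⟩ | ⟨π, χ', δ, -, -, -, -, -, hk1⟩
    · omega
    · exact h'
    · omega
    · omega
    · omega
    · omega
  · intro h
    rw [h, stCharSL_one]

/-- The Steinberg character as an element of `IrrCharacter`. -/
noncomputable def stIrr : IrrCharacter SL2 := ⟨stCharSL, isIrrCharacter_stCharSL⟩

theorem eq_stIrr_iff (χ : IrrCharacter SL2) :
    χ = stIrr ↔ (χ : SL2 → ℂ) 1 = (Fintype.card F : ℂ) := by
  rw [apply_one_eq_card_iff]
  constructor
  · intro h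
    rw [h]
    rfl
  · intro h
    exact Subtype.ext h

section blocks

variable {p : ℕ} [hp : Fact p.Prime] [CharP F p] (hp2 : p ≠ 2) {M : Ideal AlgInt}
  (hM : IsPModular p M)

include hp2 hM

theorem nonSt_of_ne (χ : IrrCharacter SL2) (h : (χ : SL2 → ℂ) 1 ≠ (Fintype.card F : ℂ)) :
    NonSt p M (χ : SL2 → ℂ) :=
  nonSt_of_irr hp2 hM χ.2 (fun h' => h ((apply_one_eq_card_iff χ).mpr h'))

theorem blockOf_st (χ : IrrCharacter SL2) (h : (χ : SL2 → ℂ) 1 = (Fintype.card F : ℂ)) :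
    blockOf M (χ : SL2 → ℂ) =
      {ψ : IrrCharacter SL2 | (ψ : SL2 → ℂ) 1 = (Fintype.card F : ℂ)} := by
  have hχ := (apply_one_eq_card_iff χ).mp h
  ext ψ
  rw [mem_blockOf, Set.mem_ofPred_eq]
  constructor
  · intro hs
    by_contra hne
    rw [hχ] at hs
    exact not_sameBlock_stCharSL hp2 hM ψ (nonSt_of_ne hp2 hM ψ hne) hs
  · intro hψ
    rw [hχ, ← (apply_one_eq_card_iff ψ).mp hψ]
    exact sameBlock_refl hM _

theorem blockOf_pos (χ : IrrCharacter SL2)
    (h1 : (χ : SL2 → ℂ) negOneSL = (χ : SL2 → ℂ) 1)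
    (h2 : (χ : SL2 → ℂ) 1 ≠ (Fintype.card F : ℂ)) :
    blockOf M (χ : SL2 → ℂ) =
      {ψ : IrrCharacter SL2 | (ψ : SL2 → ℂ) negOneSL = (ψ : SL2 → ℂ) 1 ∧
        (ψ : SL2 → ℂ) 1 ≠ (Fintype.card F : ℂ)} := by
  have hχ := nonSt_of_ne hp2 hM χ h2
  have hε := (csign_eq_one_iff χ).mpr h1
  ext ψ
  rw [mem_blockOf, Set.mem_ofPred_eq]
  constructor
  · intro hs
    have hne : (ψ : SL2 → ℂ) 1 ≠ (Fintype.card F : ℂ) := by
      intro hψ
      have hψ' := (apply_one_eq_card_iff ψ).mp hψ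
      rw [hψ'] at hs
      exact not_sameBlock_stCharSL hp2 hM χ hχ (sameBlock_symm hs)
    refine ⟨?_, hne⟩
    rw [← csign_eq_one_iff, ← hε]
    by_contra hne'
    exact not_sameBlock_of_csign_ne hp2 hM χ ψ (fun h => hne' h.symm) hs
  · rintro ⟨hψ1, hψ2⟩
    apply sameBlock_of_csign_eq hp2 hM χ ψ hχ (nonSt_of_ne hp2 hM ψ hψ2)
    rw [hε, (csign_eq_one_iff ψ).mpr hψ1]

theorem blockOf_neg (χ : IrrCharacter SL2)
    (h1 : (χ : SL2 → ℂ) negOneSL = -(χ : SL2 → ℂ) 1) :
    blockOf M (χ : SL2 → ℂ) =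
      {ψ : IrrCharacter SL2 | (ψ : SL2 → ℂ) negOneSL = -(ψ : SL2 → ℂ) 1} := by
  have hq0 : (Fintype.card F : ℂ) ≠ 0 := by exact_mod_cast Fintype.card_ne_zero
  have hne_of : ∀ ψ : IrrCharacter SL2, (ψ : SL2 → ℂ) negOneSL = -(ψ : SL2 → ℂ) 1 →
      (ψ : SL2 → ℂ) 1 ≠ (Fintype.card F : ℂ) := by
    intro ψ hψ hq
    have hψ' := (apply_one_eq_card_iff ψ).mp hq
    rw [hψ', stCharSL_negOneSL, stCharSL_one] at hψ
    apply hq0
    linear_combination (1 / 2 : ℂ) * hψ
  have hχ := nonSt_of_ne hp2 hM χ (hne_of χ h1)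
  have hε := (csign_eq_neg_one_iff χ).mpr h1
  ext ψ
  rw [mem_blockOf, Set.mem_ofPred_eq]
  constructor
  · intro hs
    rw [← csign_eq_neg_one_iff, ← hε]
    by_contra hne'
    exact not_sameBlock_of_csign_ne hp2 hM χ ψ (fun h => hne' h.symm) hs
  · intro hψ
    apply sameBlock_of_csign_eq hp2 hM χ ψ hχ (nonSt_of_ne hp2 hM ψ (hne_of ψ hψ))
    rw [hε, (csign_eq_neg_one_iff ψ).mpr hψ]

end blocks

/-! ### Sums of squares of degrees by central sign -/

theorem negOneSL_ne_one_blk (h2 : (2 : F) ≠ 0) : (negOneSL : SL2) ≠ 1 := by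
  intro h
  have := congrArg (fun g : SL2 => (g : Matrix (Fin 2) (Fin 2) F) 0 0) h
  simp only [negOneSL_val] at this
  simp at this
  apply h2
  linear_combination -this

theorem neg_iff_not_pos (χ : IrrCharacter SL2) :
    (χ : SL2 → ℂ) negOneSL = -(χ : SL2 → ℂ) 1 ↔ ¬ (χ : SL2 → ℂ) negOneSL = (χ : SL2 → ℂ) 1 := by
  have h0 := irr_one_ne_zero χ
  constructor
  · intro h h'
    apply h0
    have : (χ : SL2 → ℂ) 1 = -(χ : SL2 → ℂ) 1 := h'.symm.trans h
    linear_combination (1 / 2 : ℂ) * this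
  · intro h
    rcases csign_cases χ with h1 | h1
    · exact absurd ((csign_eq_one_iff χ).mp h1) h
    · exact (csign_eq_neg_one_iff χ).mp h1

theorem sum_sq_by_sign [Fintype (IrrCharacter SL2)] (h2 : (2 : F) ≠ 0) :
    ∑ χ ∈ Finset.univ.filter (fun χ : IrrCharacter SL2 =>
        (χ : SL2 → ℂ) negOneSL = (χ : SL2 → ℂ) 1), (χ : SL2 → ℂ) 1 ^ 2 =
      (Nat.card SL2 : ℂ) / 2 ∧
    ∑ χ ∈ Finset.univ.filter (fun χ : IrrCharacter SL2 =>
        (χ : SL2 → ℂ) negOneSL = -(χ : SL2 → ℂ) 1), (χ : SL2 → ℂ) 1 ^ 2 =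
      (Nat.card SL2 : ℂ) / 2 := by
  classical
  have hA := sum_irr_one_sq (G := SL2)
  have hT := sum_irr_one_mul (G := SL2) negOneSL
  rw [if_neg (negOneSL_ne_one_blk h2)] at hT
  have hfilter : Finset.univ.filter (fun χ : IrrCharacter SL2 =>
        (χ : SL2 → ℂ) negOneSL = -(χ : SL2 → ℂ) 1) =
      Finset.univ.filter (fun χ : IrrCharacter SL2 =>
        ¬ (χ : SL2 → ℂ) negOneSL = (χ : SL2 → ℂ) 1) := by
    ext χ
    simp only [Finset.mem_filter, Finset.mem_univ, true_and]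
    exact neg_iff_not_pos χ
  rw [hfilter]
  rw [← Finset.sum_filter_add_sum_filter_not Finset.univ
    (fun χ : IrrCharacter SL2 => (χ : SL2 → ℂ) negOneSL = (χ : SL2 → ℂ) 1)] at hA hT
  have h1 : ∑ χ ∈ Finset.univ.filter (fun χ : IrrCharacter SL2 =>
        (χ : SL2 → ℂ) negOneSL = (χ : SL2 → ℂ) 1), (χ : SL2 → ℂ) 1 * (χ : SL2 → ℂ) negOneSL =
      ∑ χ ∈ Finset.univ.filter (fun χ : IrrCharacter SL2 =>
        (χ : SL2 → ℂ) negOneSL = (χ : SL2 → ℂ) 1), (χ : SL2 → ℂ) 1 ^ 2 := by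
    apply Finset.sum_congr rfl
    intro χ hχ
    rw [(Finset.mem_filter.mp hχ).2, sq]
  have h3 : ∑ χ ∈ Finset.univ.filter (fun χ : IrrCharacter SL2 =>
        ¬ (χ : SL2 → ℂ) negOneSL = (χ : SL2 → ℂ) 1), (χ : SL2 → ℂ) 1 * (χ : SL2 → ℂ) negOneSL =
      -∑ χ ∈ Finset.univ.filter (fun χ : IrrCharacter SL2 =>
        ¬ (χ : SL2 → ℂ) negOneSL = (χ : SL2 → ℂ) 1), (χ : SL2 → ℂ) 1 ^ 2 := by
    rw [← Finset.sum_neg_distrib]
    apply Finset.sum_congr rfl
    intro χ hχ
    rw [(neg_iff_not_pos χ).mpr (Finset.mem_filter.mp hχ).2]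
    ring
  rw [h1, h3] at hT
  constructor
  · linear_combination (1 / 2 : ℂ) * hA + (1 / 2 : ℂ) * hT
  · linear_combination (1 / 2 : ℂ) * hA - (1 / 2 : ℂ) * hT

theorem exists_irr_neg (h2 : (2 : F) ≠ 0) :
    ∃ χ : IrrCharacter SL2, (χ : SL2 → ℂ) negOneSL = -(χ : SL2 → ℂ) 1 := by
  classical
  have : Fintype (IrrCharacter SL2) := Fintype.ofFinite _
  by_contra hne
  push Not at hne
  have h := (sum_sq_by_sign (F := F) h2).2
  rw [Finset.filter_false_of_mem (fun χ _ => hne χ), Finset.sum_empty] at h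
  have hG : (Nat.card SL2 : ℂ) ≠ 0 := by exact_mod_cast (Nat.card_pos (α := SL2)).ne'
  apply hG
  linear_combination -2 * h

/-! ### Defect classes -/

theorem filter_pos_st [Fintype (IrrCharacter SL2)] :
    Finset.univ.filter (fun χ : IrrCharacter SL2 =>
        (χ : SL2 → ℂ) negOneSL = (χ : SL2 → ℂ) 1 ∧ (χ : SL2 → ℂ) 1 = (Fintype.card F : ℂ)) =
      {stIrr} := by
  ext χ
  simp only [Finset.mem_filter, Finset.mem_univ, true_and, Finset.mem_singleton]
  constructor
  · rintro ⟨-, h⟩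
    exact (eq_stIrr_iff χ).mpr h
  · rintro rfl
    exact ⟨stCharSL_negOneSL.trans stCharSL_one.symm, stCharSL_one⟩

theorem sum_sq_pos_nonSt [Fintype (IrrCharacter SL2)] (h2 : (2 : F) ≠ 0) :
    ∑ χ ∈ Finset.univ.filter (fun χ : IrrCharacter SL2 =>
        (χ : SL2 → ℂ) negOneSL = (χ : SL2 → ℂ) 1 ∧ (χ : SL2 → ℂ) 1 ≠ (Fintype.card F : ℂ)),
        (χ : SL2 → ℂ) 1 ^ 2 =
      (Nat.card SL2 : ℂ) / 2 - (Fintype.card F : ℂ) ^ 2 := by
  classical
  have h := (sum_sq_by_sign (F := F) h2).1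
  rw [← Finset.sum_filter_add_sum_filter_not _
    (fun χ : IrrCharacter SL2 => (χ : SL2 → ℂ) 1 = (Fintype.card F : ℂ)),
    Finset.filter_filter, Finset.filter_filter, filter_pos_st, Finset.sum_singleton] at h
  have e : ((stIrr : IrrCharacter SL2) : SL2 → ℂ) 1 = (Fintype.card F : ℂ) := stCharSL_one
  rw [e] at h
  linear_combination h

section defect

variable {p : ℕ} [hp : Fact p.Prime] [CharP F p] (hp2 : p ≠ 2) {M : Ideal AlgInt}
  (hM : IsPModular p M)

include hp2 hM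

theorem isDefectClass_neg :
    IsDefectClass M {χ : IrrCharacter SL2 | (χ : SL2 → ℂ) negOneSL = -(χ : SL2 → ℂ) 1} (1 : SL2) := by
  classical
  have : Fintype (IrrCharacter SL2) := Fintype.ofFinite _
  obtain ⟨hpq, hodd, hq3⟩ := card_field_facts (F := F) p hp2
  have h2F : (2 : F) ≠ 0 := two_ne_zero_of_odd hodd
  have hp1 : ¬ p ∣ 1 := fun h => hp.out.one_lt.ne' (Nat.dvd_one.mp h)
  have h2 : ¬ p ∣ 2 := by
    intro h
    exact hp2 ((Nat.prime_dvd_prime_iff_eq hp.out Nat.prime_two).mp h)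
  have hG : (Nat.card SL2 : ℂ) ≠ 0 := by exact_mod_cast (Nat.card_pos (α := SL2)).ne'
  have hval : blockCoeff {χ : IrrCharacter SL2 | (χ : SL2 → ℂ) negOneSL = -(χ : SL2 → ℂ) 1} (1 : SL2) =
      ((1 : ℕ) : ℂ) / ((2 : ℕ) : ℂ) := by
    rw [blockCoeff_one, finsum_mem_setOf_eq_sum_filter, (sum_sq_by_sign (F := F) h2F).2]
    push_cast
    field_simp
  refine ⟨?_, ?_, ?_⟩
  · rw [hval]
    exact memLocalRing_div hM (isIntegral_natCast (R := ℤ) (B := ℂ) 1) h2
  · rw [hval]
    exact not_memLocalIdeal_natCast_div hM hp1 h2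
  · intro χ _
    rw [centralChar_one]
    exact not_memLocalIdeal_one hM

theorem isDefectClass_pos :
    IsDefectClass M {χ : IrrCharacter SL2 | (χ : SL2 → ℂ) negOneSL = (χ : SL2 → ℂ) 1 ∧
      (χ : SL2 → ℂ) 1 ≠ (Fintype.card F : ℂ)} (1 : SL2) := by
  classical
  have : Fintype (IrrCharacter SL2) := Fintype.ofFinite _
  obtain ⟨hpq, hodd, hq3⟩ := card_field_facts (F := F) p hp2
  have h2F : (2 : F) ≠ 0 := two_ne_zero_of_odd hodd
  have hp1 : ¬ p ∣ 1 := fun h => hp.out.one_lt.ne' (Nat.dvd_one.mp h)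
  have h2 : ¬ p ∣ 2 := by
    intro h
    exact hp2 ((Nat.prime_dvd_prime_iff_eq hp.out Nat.prime_two).mp h)
  have hG : (Nat.card SL2 : ℂ) ≠ 0 := by exact_mod_cast (Nat.card_pos (α := SL2)).ne'
  -- the numerator and denominator
  have hqq : 2 * Fintype.card F + 1 ≤ Fintype.card F ^ 2 := by nlinarith
  have hq1 : 1 ≤ Fintype.card F ^ 2 := by nlinarith
  have hpsq : p ∣ Fintype.card F ^ 2 := dvd_pow hpq two_ne_zero
  have hm : ¬ p ∣ Fintype.card F ^ 2 - (2 * Fintype.card F + 1) := by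
    intro hd
    have hsum : Fintype.card F ^ 2 - (2 * Fintype.card F + 1) + 2 * Fintype.card F + 1 =
        Fintype.card F ^ 2 := by omega
    have h3 : p ∣ Fintype.card F ^ 2 - (2 * Fintype.card F + 1) + 2 * Fintype.card F :=
      dvd_add hd (Dvd.dvd.mul_left hpq 2)
    rw [← hsum] at hpsq
    exact hp1 ((Nat.dvd_add_right h3).mp hpsq)
  have hn : ¬ p ∣ 2 * (Fintype.card F ^ 2 - 1) := by
    intro hd
    rcases (Nat.Prime.dvd_mul hp.out).mp hd with h | h
    · exact h2 h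
    · have hsum : Fintype.card F ^ 2 - 1 + 1 = Fintype.card F ^ 2 := by omega
      rw [← hsum] at hpsq
      exact hp1 ((Nat.dvd_add_right h).mp hpsq)
  have hval : blockCoeff {χ : IrrCharacter SL2 | (χ : SL2 → ℂ) negOneSL = (χ : SL2 → ℂ) 1 ∧
      (χ : SL2 → ℂ) 1 ≠ (Fintype.card F : ℂ)} (1 : SL2) =
      ((Fintype.card F ^ 2 - (2 * Fintype.card F + 1) : ℕ) : ℂ) /
        ((2 * (Fintype.card F ^ 2 - 1) : ℕ) : ℂ) := by
    rw [blockCoeff_one, finsum_mem_setOf_eq_sum_filter, sum_sq_pos_nonSt h2F, card_SL2]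
    have hq0 : (Fintype.card F : ℂ) ≠ 0 := by exact_mod_cast Fintype.card_ne_zero
    have hq21 : (Fintype.card F : ℂ) ^ 2 - 1 ≠ 0 := by
      have : ((Fintype.card F ^ 2 - 1 : ℕ) : ℂ) ≠ 0 := by
        have : Fintype.card F ^ 2 - 1 ≠ 0 := by
          have : 9 ≤ Fintype.card F ^ 2 := by nlinarith
          omega
        exact_mod_cast this
      rw [Nat.cast_sub hq1] at this
      push_cast at this
      exact this
    rw [Nat.cast_sub hqq, Nat.cast_mul, Nat.cast_sub hq1, Nat.cast_mul, Nat.cast_sub hq1]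
    push_cast
    field_simp
    ring
  refine ⟨?_, ?_, ?_⟩
  · rw [hval]
    exact memLocalRing_div hM (isIntegral_natCast (R := ℤ) (B := ℂ) _) hn
  · rw [hval]
    exact not_memLocalIdeal_natCast_div hM hm hn
  · intro χ _
    rw [centralChar_one]
    exact not_memLocalIdeal_one hM

end defect

/-- **The `p`-blocks of `SL₂(q)`**, `q` a power of the odd prime `p`. -/
theorem sl2_blocks_main (p : ℕ) [hp : Fact p.Prime] [CharP F p] (hp2 : p ≠ 2) (M : Ideal AlgInt)
    (hM : IsPModular p M) :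
    (∀ B : Set (IrrCharacter SL2), IsPBlock M B ↔
      (B = {χ : IrrCharacter SL2 | (χ : SL2 → ℂ) 1 = (Fintype.card F : ℂ)} ∨
       B = {χ : IrrCharacter SL2 | (χ : SL2 → ℂ) negOneSL = (χ : SL2 → ℂ) 1 ∧
          (χ : SL2 → ℂ) 1 ≠ (Fintype.card F : ℂ)} ∨
       B = {χ : IrrCharacter SL2 | (χ : SL2 → ℂ) negOneSL = -(χ : SL2 → ℂ) 1})) ∧
    Nat.card {B : Set (IrrCharacter SL2) // IsPBlock M B} = 3 ∧
    ∀ P : Sylow p SL2,
      IsDefectGroup p M {χ : IrrCharacter SL2 | (χ : SL2 → ℂ) negOneSL = (χ : SL2 → ℂ) 1 ∧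
          (χ : SL2 → ℂ) 1 ≠ (Fintype.card F : ℂ)} (P : Subgroup SL2) ∧
      IsDefectGroup p M {χ : IrrCharacter SL2 | (χ : SL2 → ℂ) negOneSL = -(χ : SL2 → ℂ) 1}
        (P : Subgroup SL2) := by
  classical
  obtain ⟨hpq, hodd, hq3⟩ := card_field_facts (F := F) p hp2
  have h2F : (2 : F) ≠ 0 := two_ne_zero_of_odd hodd
  obtain ⟨χm, hχm⟩ := exists_irr_neg (F := F) h2F
  have hq1 : (1 : ℂ) ≠ (Fintype.card F : ℂ) := by
    have : (1 : ℕ) ≠ Fintype.card F := by omega
    exact_mod_cast this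
  have htriv1 : ((trivialIrr SL2 : IrrCharacter SL2) : SL2 → ℂ) negOneSL =
      ((trivialIrr SL2 : IrrCharacter SL2) : SL2 → ℂ) 1 := by
    rw [trivialIrr_apply, trivialIrr_apply]
  have htriv2 : ((trivialIrr SL2 : IrrCharacter SL2) : SL2 → ℂ) 1 ≠ (Fintype.card F : ℂ) := by
    rw [trivialIrr_apply]
    exact hq1
  have hpart1 : ∀ B : Set (IrrCharacter SL2), IsPBlock M B ↔
      (B = {χ : IrrCharacter SL2 | (χ : SL2 → ℂ) 1 = (Fintype.card F : ℂ)} ∨
       B = {χ : IrrCharacter SL2 | (χ : SL2 → ℂ) negOneSL = (χ : SL2 → ℂ) 1 ∧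
          (χ : SL2 → ℂ) 1 ≠ (Fintype.card F : ℂ)} ∨
       B = {χ : IrrCharacter SL2 | (χ : SL2 → ℂ) negOneSL = -(χ : SL2 → ℂ) 1}) := by
    intro B
    constructor
    · rintro ⟨χ, rfl⟩
      by_cases h : (χ : SL2 → ℂ) 1 = (Fintype.card F : ℂ)
      · left
        exact blockOf_st hp2 hM χ h
      · rcases csign_cases χ with h1 | h1
        · right; left
          exact blockOf_pos hp2 hM χ ((csign_eq_one_iff χ).mp h1) h
        · right; right
          exact blockOf_neg hp2 hM χ ((csign_eq_neg_one_iff χ).mp h1)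
    · rintro (rfl | rfl | rfl)
      · exact ⟨stIrr, (blockOf_st hp2 hM stIrr stCharSL_one).symm⟩
      · exact ⟨trivialIrr SL2, (blockOf_pos hp2 hM (trivialIrr SL2) htriv1 htriv2).symm⟩
      · exact ⟨χm, (blockOf_neg hp2 hM χm hχm).symm⟩
  refine ⟨hpart1, ?_, ?_⟩
  · -- three blocks
    have e : {B : Set (IrrCharacter SL2) // IsPBlock M B} ≃
        {B : Set (IrrCharacter SL2) // B ∈ ({
          {χ : IrrCharacter SL2 | (χ : SL2 → ℂ) 1 = (Fintype.card F : ℂ)},
          {χ : IrrCharacter SL2 | (χ : SL2 → ℂ) negOneSL = (χ : SL2 → ℂ) 1 ∧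
            (χ : SL2 → ℂ) 1 ≠ (Fintype.card F : ℂ)},
          {χ : IrrCharacter SL2 | (χ : SL2 → ℂ) negOneSL = -(χ : SL2 → ℂ) 1}} :
            Set (Set (IrrCharacter SL2)))} :=
      Equiv.subtypeEquivRight (fun B => by
        rw [hpart1 B]
        simp only [Set.mem_insert_iff, Set.mem_singleton_iff])
    rw [Nat.card_congr e, Nat.card_coe_set_eq, Set.ncard_eq_three]
    refine ⟨_, _, _, ?_, ?_, ?_, rfl⟩
    · intro h
      have : trivialIrr SL2 ∈ {χ : IrrCharacter SL2 | (χ : SL2 → ℂ) 1 = (Fintype.card F : ℂ)} := by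
        rw [h]
        exact ⟨htriv1, htriv2⟩
      exact htriv2 this
    · intro h
      have : χm ∈ {χ : IrrCharacter SL2 | (χ : SL2 → ℂ) 1 = (Fintype.card F : ℂ)} := by
        rw [h]
        exact hχm
      have hst := (apply_one_eq_card_iff χm).mp this
      rw [hst, stCharSL_negOneSL, stCharSL_one] at hχm
      have hq0 : (Fintype.card F : ℂ) ≠ 0 := by exact_mod_cast Fintype.card_ne_zero
      apply hq0
      linear_combination (1 / 2 : ℂ) * hχm
    · intro h
      have : trivialIrr SL2 ∈ {χ : IrrCharacter SL2 | (χ : SL2 → ℂ) negOneSL = -(χ : SL2 → ℂ) 1} := by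
        rw [← h]
        exact ⟨htriv1, htriv2⟩
      simp only [Set.mem_ofPred_eq, trivialIrr_apply] at this
      norm_num at this
  · intro P
    exact ⟨isDefectGroup_of_isDefectClass_one (isDefectClass_pos hp2 hM) P,
      isDefectGroup_of_isDefectClass_one (isDefectClass_neg hp2 hM) P⟩

end sl2

end Cfsg.Agent.Lib.H12
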