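import Mathlib
import Cfsg.Agent.Lib.H12.SL2Half

set_option autoImplicit false

/-!
# The elliptic norm of a cuspidal character of `GL₂(F)` restricting irreducibly to `SL₂(F)`

For `q` odd, `π` cuspidal with `Res π` irreducible:
`∑_{g elliptic} |π g|² = q (q - 1) (q - 3)`; in particular `π` vanishes at elliptic elements when `q = 3`.
-/

namespace Cfsg.Agent.Lib.H12

open Matrix Cfsg.Agent.Lib.L0 Cfsg.Agent.Lib.H24
open scoped ComplexConjugate

variable {F : Type*} [Field F] [Fintype F] [DecidableEq F]

local notation "SL2" => Matrix.SpecialLinearGroup (Fin 2) F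

theorem toGL_borelMkSL' (a : Fˣ) (e : F) :
    Matrix.SpecialLinearGroup.toGL (borelMkSL' (a, e)) =
      ((borelMk (a, a⁻¹, e) : Cfsg.upperTriangularGL 2 F) : GL (Fin 2) F) := by
  apply Matrix.GeneralLinearGroup.ext
  intro i j
  rw [Matrix.SpecialLinearGroup.coe_GL_coe_matrix, borelMkSL'_val, borelMk_val]

theorem sq_eq_one_cases (a : Fˣ) (ha : (a : F) ^ 2 = 1) : a = 1 ∨ a = -1 := by
  have h : ((a : F) - 1) * ((a : F) + 1) = 0 := by linear_combination ha
  rcases mul_eq_zero.mp h with h | h
  · left; apply Units.ext; rw [Units.val_one]; linear_combination h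
  · right; apply Units.ext; rw [Units.val_neg, Units.val_one]; linear_combination h

theorem psCharSL_one_neg_one :
    psCharSL (1 : MulChar F ℂ) (borelMkSL' ((-1 : Fˣ), (0 : F))) = (Fintype.card F : ℂ) + 1 := by
  have h := psCharSL_borelMkSL (1 : MulChar F ℂ) (-1 : Fˣ) (0 : F)
  have h' : psCharSL (1 : MulChar F ℂ) (borelMkSL' ((-1 : Fˣ), (0 : F))) = _ := h
  rw [h']
  have hc : ∀ t : F, (((-1 : Fˣ) : F) * t + 0 = t * (((-1 : Fˣ)⁻¹ : Fˣ) : F)) := by
    intro t
    simp
  simp only [hc, if_true, Finset.sum_const, Finset.card_univ, nsmul_eq_mul]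
  rw [MulChar.one_apply_coe, MulChar.one_apply_coe]
  ring

open Classical in
/-- The elliptic norm of a cuspidal character whose restriction to `SL₂` is irreducible. -/
theorem cusp_elliptic_norm (hodd : Odd (Fintype.card F)) {π : GL (Fin 2) F → ℂ} (hπ : IsCuspGL2 π)
    (hirr : Cfsg.IsIrrCharacter SL2 (resSL π)) :
    ∑ g : SL2, (if IsElliptic g then resSL π g * conj (resSL π g) else 0) =
      (Fintype.card F : ℂ) * ((Fintype.card F : ℂ) - 1) * ((Fintype.card F : ℂ) - 3) := by
  have h2F : (2 : F) ≠ 0 := two_ne_zero_of_odd hodd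
  set χ : SL2 → ℂ := resSL π with hχdef
  have hcf := isClassFunction_of_isCharacter (isCharacter_of_irr hirr)
  set f : SL2 → ℂ := fun g => χ g * conj (χ g) with hf
  have hfcf : Cfsg.IsClassFunction SL2 f := by
    intro g h
    simp only [hf]
    rw [hcf g h]
  have hfreal : ∀ g, conj (f g) = f g := by
    intro g
    simp only [hf, map_mul, Complex.conj_conj]
    ring
  have hG : (Nat.card SL2 : ℂ) = (Fintype.card F : ℂ) * ((Fintype.card F : ℂ) ^ 2 - 1) := by
    rw [card_SL2, Nat.cast_mul, Nat.cast_sub (Nat.one_le_pow _ _ Fintype.card_pos)]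
    push_cast
    ring
  have hGne : (Nat.card SL2 : ℂ) ≠ 0 := by
    exact_mod_cast (Nat.card_pos (α := SL2)).ne'
  have hsumf : ∑ g : SL2, f g = (Nat.card SL2 : ℂ) := by
    have hnorm := irr_classInner_self hirr
    unfold Cfsg.classInner at hnorm
    have : ∑ g : SL2, χ g * conj (χ g) = (Nat.card SL2 : ℂ) * 1 := by
      rw [← hnorm, ← mul_assoc, mul_inv_cancel₀ hGne, one_mul]
    rw [mul_one] at this
    exact this
  -- values of `f` on the Borel subgroup
  have hχ1 : χ 1 = (Fintype.card F : ℂ) - 1 := by
    rw [hχdef, resSL_one]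
    exact hπ.2.2.1
  obtain ⟨hω, hωg⟩ := irr_mul_negOneSL hirr
  set ω := χ negOneSL / χ 1 with hωdef
  have hωconj : ω * conj ω = 1 := by
    have h : (ω - 1) * (ω + 1) = 0 := by linear_combination hω
    rcases mul_eq_zero.mp h with h | h
    · have : ω = 1 := by linear_combination h
      rw [this]; simp
    · have : ω = -1 := by linear_combination h
      rw [this]; simp
  have hfneg : ∀ g, f (g * negOneSL) = f g := by
    intro g
    simp only [hf]
    rw [hωg, map_mul]
    linear_combination (χ g) * conj (χ g) * hωconj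
  have hf1 : f 1 = ((Fintype.card F : ℂ) - 1) ^ 2 := by
    simp only [hf]
    rw [hχ1, map_sub, map_one, Complex.conj_natCast]
    ring
  have hfup : ∀ e : F, e ≠ 0 → f (upSL e) = 1 := by
    intro e he
    simp only [hf]
    rw [hχdef, cusp_apply_upSL hπ he]
    simp
  have hfb : ∀ (a : Fˣ) (e : F), f (borelMkSL' (a, e)) =
      if a = 1 ∨ a = -1 then (if e = 0 then ((Fintype.card F : ℂ) - 1) ^ 2 else 1) else 0 := by
    intro a e
    by_cases ha : (a : F) ^ 2 = 1
    · have ha' := sq_eq_one_cases a ha
      rw [if_pos ha']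
      rcases ha' with rfl | rfl
      · rw [borelMkSL'_one]
        by_cases he : e = 0
        · rw [if_pos he, he, upSL_zero, hf1]
        · rw [if_neg he, hfup e he]
      · rw [borelMkSL'_neg_one, hfneg]
        by_cases he : e = 0
        · rw [if_pos he, he, neg_zero, upSL_zero, hf1]
        · rw [if_neg he, hfup (-e) (neg_ne_zero.mpr he)]
    · have ha' : ¬ (a = 1 ∨ a = -1) := by
        rintro (rfl | rfl)
        · apply ha; simp
        · apply ha; simp
      rw [if_neg ha']
      simp only [hf]
      have : χ (borelMkSL' (a, e)) = 0 := by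
        rw [hχdef, resSL_apply, toGL_borelMkSL']
        apply cuspidal_apply_of_ne π (isClassFunction_of_isCharacter (isCharacter_of_irr hπ.1)) hπ.2.1
        intro h
        apply ha
        have h1 := congrArg Units.val h
        rw [sq]
        nth_rewrite 2 [h1]
        rw [← Units.val_mul, mul_inv_cancel, Units.val_one]
      rw [this, zero_mul]
  have hne1 : (1 : Fˣ) ≠ -1 := by
    intro h
    have := congrArg Units.val h
    rw [Units.val_neg, Units.val_one] at this
    apply h2F
    linear_combination this
  have hBsum : ∑ a : Fˣ, ∑ e : F, conj (f (borelMkSL' (a, e))) =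
      2 * (((Fintype.card F : ℂ) - 1) ^ 2 + ((Fintype.card F : ℂ) - 1)) := by
    simp only [hfreal]
    simp only [hfb]
    have hinner : ∀ a : Fˣ, ∑ e : F, (if a = 1 ∨ a = -1 then
        (if e = 0 then ((Fintype.card F : ℂ) - 1) ^ 2 else 1) else 0) =
        if a = 1 ∨ a = -1 then (((Fintype.card F : ℂ) - 1) ^ 2 + ((Fintype.card F : ℂ) - 1)) else 0 := by
      intro a
      by_cases ha : a = 1 ∨ a = -1
      · simp only [ha, if_true]
        rw [← Finset.add_sum_erase Finset.univ _ (Finset.mem_univ (0 : F)), if_pos rfl]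
        congr 1
        rw [Finset.sum_congr rfl (fun e he => if_neg (Finset.ne_of_mem_erase he)), Finset.sum_const,
          nsmul_eq_mul, mul_one, Finset.card_erase_of_mem (Finset.mem_univ _), Finset.card_univ,
          Nat.cast_sub Fintype.card_pos, Nat.cast_one]
      · simp only [ha, if_false, Finset.sum_const_zero]
    rw [Finset.sum_congr rfl (fun a _ => hinner a), ← Finset.sum_filter]
    have hfilter : (Finset.univ.filter fun a : Fˣ => a = 1 ∨ a = -1) = {1, -1} := by
      ext a
      simp
    rw [hfilter, Finset.sum_pair hne1]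
    ring
  have hweighted := sum_psCharSL_one_mul f hfcf
  rw [hBsum] at hweighted
  -- the pointwise identity
  have hcentral : negOneSL ≠ (1 : SL2) := by
    intro h
    have := congrArg (fun g : SL2 => (g : Matrix (Fin 2) (Fin 2) F) 0 0) h
    simp only [negOneSL_val] at this
    apply h2F
    have h' : (-1 : F) = 1 := by simpa using this
    linear_combination -h'
  have hpt : ∀ g : SL2, (if IsElliptic g then f g else 0) =
      f g - psCharSL (1 : MulChar F ℂ) g * conj (f g) +
        (Fintype.card F : ℂ) * (if g = 1 ∨ g = negOneSL then f g else 0) := by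
    intro g
    rw [hfreal]
    by_cases hell : IsElliptic g
    · rw [if_pos hell, psCharSL_apply_elliptic 1 g hell, if_neg]
      · ring
      · rintro (rfl | rfl)
        · exact hell.lower_ne_zero (by simp)
        · exact hell.lower_ne_zero (by rw [negOneSL_val]; simp)
    · rw [if_neg hell]
      obtain ⟨h, a, e, rfl⟩ := exists_conj_borelMkSL' hell
      have hps : Cfsg.IsClassFunction SL2 (psCharSL (1 : MulChar F ℂ)) :=
        isClassFunction_of_isCharacter (isCharacter_psCharSL 1)
      have hcentral_iff : (h * borelMkSL' (a, e) * h⁻¹ = 1 ∨ h * borelMkSL' (a, e) * h⁻¹ = negOneSL) ↔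
          ((a = 1 ∨ a = -1) ∧ e = 0) := by
        have hc1 : ∀ z : SL2, z ∈ Subgroup.center SL2 →
            (h * borelMkSL' (a, e) * h⁻¹ = z ↔ borelMkSL' (a, e) = z) := by
          intro z hz
          have hcomm := Subgroup.mem_center_iff.mp hz
          constructor
          · intro heq
            have : borelMkSL' (a, e) = h⁻¹ * z * h := by rw [← heq]; group
            rw [this, hcomm h⁻¹, inv_mul_cancel_right]
          · intro heq
            rw [heq, hcomm h, mul_inv_cancel_right]
        rw [hc1 1 (Subgroup.one_mem _), hc1 negOneSL negOneSL_mem_center]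
        constructor
        · rintro (h1 | h1)
          · have e1 := congrArg (fun g : SL2 => (g : Matrix (Fin 2) (Fin 2) F) 0 0) h1
            have e2 := congrArg (fun g : SL2 => (g : Matrix (Fin 2) (Fin 2) F) 0 1) h1
            simp only [borelMkSL'_val] at e1 e2
            refine ⟨Or.inl (Units.ext ?_), ?_⟩
            · simpa using e1
            · simpa using e2
          · have e1 := congrArg (fun g : SL2 => (g : Matrix (Fin 2) (Fin 2) F) 0 0) h1
            have e2 := congrArg (fun g : SL2 => (g : Matrix (Fin 2) (Fin 2) F) 0 1) h1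
            simp only [borelMkSL'_val, negOneSL_val] at e1 e2
            refine ⟨Or.inr (Units.ext ?_), ?_⟩
            · simpa using e1
            · simpa using e2
        · rintro ⟨(rfl | rfl), rfl⟩
          · left; rw [borelMkSL'_one, upSL_zero]
          · right; rfl
      rw [hps, hfcf]
      by_cases hcz : (a = 1 ∨ a = -1) ∧ e = 0
      · rw [if_pos (hcentral_iff.mpr hcz)]
        obtain ⟨ha, rfl⟩ := hcz
        have hval : psCharSL (1 : MulChar F ℂ) (borelMkSL' (a, (0 : F))) = (Fintype.card F : ℂ) + 1 := by
          rcases ha with rfl | rfl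
          · rw [borelMkSL'_one, upSL_zero, psCharSL_one_apply]
          · exact psCharSL_one_neg_one
        rw [hval]
        ring
      · rw [if_neg (fun hc => hcz (hcentral_iff.mp hc)), mul_zero, add_zero]
        by_cases ha : a = 1 ∨ a = -1
        · have he : e ≠ 0 := fun he => hcz ⟨ha, he⟩
          have hinv : ((a⁻¹ : Fˣ) : F) = (a : F) := by
            rcases ha with rfl | rfl <;> simp
          rw [psCharSL_apply_unip 1 _ (by rw [borelMkSL'_val]; simp)
            (by rw [borelMkSL'_val]; simp [hinv]) (by rw [borelMkSL'_val]; simpa using he)]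
          rw [borelMkSL'_val]
          simp
        · rw [hfb, if_neg ha]
          ring
  have hfm1 : f negOneSL = ((Fintype.card F : ℂ) - 1) ^ 2 := by
    have := hfneg 1
    rw [one_mul] at this
    rw [this, hf1]
  have hcsum : ∑ g : SL2, (if g = 1 ∨ g = negOneSL then f g else 0) =
      2 * ((Fintype.card F : ℂ) - 1) ^ 2 := by
    rw [← Finset.sum_filter]
    have hfilter : (Finset.univ.filter fun g : SL2 => g = 1 ∨ g = negOneSL) = {1, negOneSL} := by
      ext g
      simp
    rw [hfilter, Finset.sum_pair (fun h => hcentral h.symm), hf1, hfm1]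
    ring
  have hfinal : ∑ g : SL2, (if IsElliptic g then χ g * conj (χ g) else 0) =
      ∑ g : SL2, (f g - psCharSL (1 : MulChar F ℂ) g * conj (f g) +
        (Fintype.card F : ℂ) * (if g = 1 ∨ g = negOneSL then f g else 0)) :=
    Finset.sum_congr rfl (fun g _ => hpt g)
  rw [hfinal, Finset.sum_add_distrib, Finset.sum_sub_distrib, ← Finset.mul_sum, hsumf, hweighted, hcsum, hG]
  ring

/-- For `q = 3` a cuspidal character of `GL₂` restricting irreducibly to `SL₂` vanishes at the elliptic
elements of `SL₂`. -/
theorem cusp_apply_elliptic_of_card_three (hq : Fintype.card F = 3) {π : GL (Fin 2) F → ℂ}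
    (hπ : IsCuspGL2 π) (hirr : Cfsg.IsIrrCharacter SL2 (resSL π)) {g : SL2} (hg : IsElliptic g) :
    resSL π g = 0 := by
  classical
  have hodd : Odd (Fintype.card F) := by rw [hq]; decide
  have h := cusp_elliptic_norm hodd hπ hirr
  rw [hq] at h
  have h0 : ∑ g : SL2, (if IsElliptic g then resSL π g * conj (resSL π g) else 0) = 0 := by
    rw [h]; norm_num
  -- pass to real numbers
  have hreal : ∀ g : SL2, (if IsElliptic g then resSL π g * conj (resSL π g) else 0) =
      (((if IsElliptic g then Complex.normSq (resSL π g) else 0 : ℝ)) : ℂ) := by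
    intro g
    split_ifs
    · rw [Complex.mul_conj]
    · simp
  rw [Finset.sum_congr rfl (fun g _ => hreal g), ← Complex.ofReal_sum] at h0
  have h1 : ∑ g : SL2, (if IsElliptic g then Complex.normSq (resSL π g) else 0 : ℝ) = 0 := by
    exact_mod_cast h0
  have h2 := (Finset.sum_eq_zero_iff_of_nonneg (fun g _ => by
    split_ifs
    · exact Complex.normSq_nonneg _
    · exact le_refl _)).mp h1 g (Finset.mem_univ _)
  rw [if_pos hg] at h2
  exact Complex.normSq_eq_zero.mp h2

end Cfsg.Agent.Lib.H12
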