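import Mathlib
import Cfsg.Agent.Lib.H12.SL2CuspEll

set_option autoImplicit false

/-!
# Sums over the elliptic elements of `SL₂(q)`, `q` odd

For a class function `f` vanishing at the split regular semisimple elements,
`∑_{g elliptic} f g = ∑_g f g - (q + 1) ∑_{e} (f (u_e) + f (-u_e)) + q (f 1 + f (-1))`.
Applied to the restriction of a cuspidal character of `GL₂`.
-/

namespace Cfsg.Agent.Lib.H12

open Matrix Cfsg.Agent.Lib.L0 Cfsg.Agent.Lib.H24
open scoped ComplexConjugate

variable {F : Type*} [Field F] [Fintype F] [DecidableEq F]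

local notation "SL2" => Matrix.SpecialLinearGroup (Fin 2) F

theorem sum_psCharSL_one_mul' (f : SL2 → ℂ) (hf : Cfsg.IsClassFunction SL2 f) :
    ∑ g : SL2, psCharSL (1 : MulChar F ℂ) g * f g =
      ((Fintype.card F : ℂ) + 1) * ∑ a : Fˣ, ∑ e : F, f (borelMkSL' (a, e)) := by
  have hcf : Cfsg.IsClassFunction SL2 (fun g => conj (f g)) := by
    intro g h
    simp only
    rw [hf g h]
  have h := sum_psCharSL_one_mul (fun g => conj (f g)) hcf
  simpa using h

omit [Fintype F] [DecidableEq F] in
theorem negOneSL_ne_one (h2F : (2 : F) ≠ 0) : (negOneSL : SL2) ≠ 1 := by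
  intro h
  have := congrArg (fun g : SL2 => (g : Matrix (Fin 2) (Fin 2) F) 0 0) h
  simp only [negOneSL_val] at this
  apply h2F
  have h' : (-1 : F) = 1 := by simpa using this
  linear_combination -h'

omit [Fintype F] [DecidableEq F] in
theorem neg_one_units_ne (h2F : (2 : F) ≠ 0) : (1 : Fˣ) ≠ -1 := by
  intro h
  have := congrArg Units.val h
  rw [Units.val_neg, Units.val_one] at this
  apply h2F
  linear_combination this

/-- the sum over the Borel subgroup of a function vanishing at the split regular elements -/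
theorem sum_borel_eq (h2F : (2 : F) ≠ 0) (f : SL2 → ℂ)
    (hsplit : ∀ (a : Fˣ) (e : F), (a : F) ^ 2 ≠ 1 → f (borelMkSL' (a, e)) = 0) :
    ∑ a : Fˣ, ∑ e : F, f (borelMkSL' (a, e)) =
      ∑ e : F, f (upSL e) + ∑ e : F, f (upSL e * negOneSL) := by
  have hinner : ∀ a : Fˣ, ∑ e : F, f (borelMkSL' (a, e)) =
      if a = 1 ∨ a = -1 then ∑ e : F, f (borelMkSL' (a, e)) else 0 := by
    intro a
    by_cases ha : a = 1 ∨ a = -1
    · rw [if_pos ha]
    · rw [if_neg ha]
      apply Finset.sum_eq_zero
      intro e _
      apply hsplit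
      intro hsq
      exact ha (sq_eq_one_cases a hsq)
  rw [Finset.sum_congr rfl (fun a _ => hinner a), ← Finset.sum_filter]
  have hfilter : (Finset.univ.filter fun a : Fˣ => a = 1 ∨ a = -1) = {1, -1} := by
    ext a
    simp
  rw [hfilter, Finset.sum_pair (neg_one_units_ne h2F)]
  have hA : ∑ e : F, f (borelMkSL' ((1 : Fˣ), e)) = ∑ e : F, f (upSL e) :=
    Finset.sum_congr rfl (fun e _ => by rw [borelMkSL'_one])
  have hB : ∑ e : F, f (borelMkSL' ((-1 : Fˣ), e)) = ∑ e : F, f (upSL e * negOneSL) := by
    rw [← Equiv.sum_comp (Equiv.neg F) (fun e => f (upSL e * negOneSL))]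
    exact Finset.sum_congr rfl (fun e _ => by rw [borelMkSL'_neg_one]; rfl)
  rw [hA, hB]

open Classical in
/-- the sum over elliptic elements of a class function vanishing at the split regular elements -/
theorem sum_elliptic_eq (hodd : Odd (Fintype.card F)) (f : SL2 → ℂ) (hf : Cfsg.IsClassFunction SL2 f)
    (hsplit : ∀ (a : Fˣ) (e : F), (a : F) ^ 2 ≠ 1 → f (borelMkSL' (a, e)) = 0) :
    ∑ g : SL2, (if IsElliptic g then f g else 0) =
      ∑ g : SL2, f g -
        ((Fintype.card F : ℂ) + 1) * (∑ e : F, f (upSL e) + ∑ e : F, f (upSL e * negOneSL)) +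
        (Fintype.card F : ℂ) * (f 1 + f negOneSL) := by
  have h2F : (2 : F) ≠ 0 := two_ne_zero_of_odd hodd
  have hweighted := sum_psCharSL_one_mul' f hf
  rw [sum_borel_eq h2F f hsplit] at hweighted
  have hcentral : negOneSL ≠ (1 : SL2) := negOneSL_ne_one h2F
  have hpt : ∀ g : SL2, (if IsElliptic g then f g else 0) =
      f g - psCharSL (1 : MulChar F ℂ) g * f g +
        (Fintype.card F : ℂ) * (if g = 1 ∨ g = negOneSL then f g else 0) := by
    intro g
    by_cases hell : IsElliptic g
    · rw [if_pos hell, psCharSL_apply_elliptic 1 g hell, if_neg]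
      · ring
      · rintro (rfl | rfl)
        · exact hell.lower_ne_zero (by simp)
        · exact hell.lower_ne_zero (by rw [negOneSL_val]; simp)
    · rw [if_neg hell]
      obtain ⟨h, a, e, rfl⟩ := exists_conj_borelMkSL' hell
      have hps : Cfsg.IsClassFunction SL2 (psCharSL (1 : MulChar F ℂ)) :=
        isClassFunction_of_isCharacter (isCharacter_psCharSL 1)
      have hcentral_iff : (h * borelMkSL' (a, e) * h⁻¹ = 1 ∨ h * borelMkSL' (a, e) * h⁻¹ = negOneSL) ↔
          ((a = 1 ∨ a = -1) ∧ e = 0) := by
        have hc1 : ∀ z : SL2, z ∈ Subgroup.center SL2 →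
            (h * borelMkSL' (a, e) * h⁻¹ = z ↔ borelMkSL' (a, e) = z) := by
          intro z hz
          have hcomm := Subgroup.mem_center_iff.mp hz
          constructor
          · intro heq
            have : borelMkSL' (a, e) = h⁻¹ * z * h := by rw [← heq]; group
            rw [this, hcomm h⁻¹, inv_mul_cancel_right]
          · intro heq
            rw [heq, hcomm h, mul_inv_cancel_right]
        rw [hc1 1 (Subgroup.one_mem _), hc1 negOneSL negOneSL_mem_center]
        constructor
        · rintro (h1 | h1)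
          · have e1 := congrArg (fun g : SL2 => (g : Matrix (Fin 2) (Fin 2) F) 0 0) h1
            have e2 := congrArg (fun g : SL2 => (g : Matrix (Fin 2) (Fin 2) F) 0 1) h1
            simp only [borelMkSL'_val] at e1 e2
            refine ⟨Or.inl (Units.ext ?_), ?_⟩
            · simpa using e1
            · simpa using e2
          · have e1 := congrArg (fun g : SL2 => (g : Matrix (Fin 2) (Fin 2) F) 0 0) h1
            have e2 := congrArg (fun g : SL2 => (g : Matrix (Fin 2) (Fin 2) F) 0 1) h1
            simp only [borelMkSL'_val, negOneSL_val] at e1 e2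
            refine ⟨Or.inr (Units.ext ?_), ?_⟩
            · simpa using e1
            · simpa using e2
        · rintro ⟨(rfl | rfl), rfl⟩
          · left; rw [borelMkSL'_one, upSL_zero]
          · right; rfl
      rw [hps, hf]
      by_cases hcz : (a = 1 ∨ a = -1) ∧ e = 0
      · rw [if_pos (hcentral_iff.mpr hcz)]
        obtain ⟨ha, rfl⟩ := hcz
        have hval : psCharSL (1 : MulChar F ℂ) (borelMkSL' (a, (0 : F))) = (Fintype.card F : ℂ) + 1 := by
          rcases ha with rfl | rfl
          · rw [borelMkSL'_one, upSL_zero, psCharSL_one_apply]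
          · exact psCharSL_one_neg_one
        rw [hval]
        ring
      · rw [if_neg (fun hc => hcz (hcentral_iff.mp hc)), mul_zero, add_zero]
        by_cases ha : a = 1 ∨ a = -1
        · have he : e ≠ 0 := fun he => hcz ⟨ha, he⟩
          have hinv : ((a⁻¹ : Fˣ) : F) = (a : F) := by
            rcases ha with rfl | rfl <;> simp
          rw [psCharSL_apply_unip 1 _ (by rw [borelMkSL'_val]; simp)
            (by rw [borelMkSL'_val]; simp [hinv]) (by rw [borelMkSL'_val]; simpa using he)]
          rw [borelMkSL'_val]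
          simp
        · have hsq : (a : F) ^ 2 ≠ 1 := fun hsq => ha (sq_eq_one_cases a hsq)
          rw [hsplit a e hsq]
          ring
  have hcsum : ∑ g : SL2, (if g = 1 ∨ g = negOneSL then f g else 0) = f 1 + f negOneSL := by
    rw [← Finset.sum_filter]
    have hfilter : (Finset.univ.filter fun g : SL2 => g = 1 ∨ g = negOneSL) = {1, negOneSL} := by
      ext g
      simp
    rw [hfilter, Finset.sum_pair (fun h => hcentral h.symm)]
  rw [Finset.sum_congr rfl (fun g _ => hpt g), Finset.sum_add_distrib, Finset.sum_sub_distrib,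
    ← Finset.mul_sum, hweighted, hcsum]


/-! ### Cuspidal characters -/

theorem isClassFunction_resSL_cusp {π : GL (Fin 2) F → ℂ} (hπ : IsCuspGL2 π) :
    Cfsg.IsClassFunction SL2 (resSL π) :=
  isClassFunction_of_isCharacter (isCharacter_resSL (isCharacter_of_irr hπ.1))

theorem cusp_apply_borel_split {π : GL (Fin 2) F → ℂ} (hπ : IsCuspGL2 π) (a : Fˣ) (e : F)
    (ha : (a : F) ^ 2 ≠ 1) : resSL π (borelMkSL' (a, e)) = 0 := by
  rw [classFunction_borelMkSL'_of_ne _ (isClassFunction_resSL_cusp hπ) a ha e]
  apply cusp_apply_split hπ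
  · rw [borelMkSL'_val]; simp
  · rw [borelMkSL'_val]; simp
  · rw [borelMkSL'_val]; simpa using ha

open Classical in
/-- the sum of a cuspidal restriction over the elliptic elements -/
theorem cusp_sum_elliptic (hodd : Odd (Fintype.card F)) {π : GL (Fin 2) F → ℂ} (hπ : IsCuspGL2 π)
    (ω : ℂ) (hωg : ∀ g, resSL π (g * negOneSL) = ω * resSL π g) :
    ∑ g : SL2, (if IsElliptic g then resSL π g else 0) =
      ∑ g : SL2, resSL π g +
        (Fintype.card F : ℂ) * ((Fintype.card F : ℂ) - 1) * (1 + ω) := by
  rw [sum_elliptic_eq hodd (resSL π) (isClassFunction_resSL_cusp hπ)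
    (fun a e ha => cusp_apply_borel_split hπ a e ha)]
  have h1 : resSL π 1 = (Fintype.card F : ℂ) - 1 := by
    rw [resSL_one]; exact hπ.2.2.1
  have hm1 : resSL π negOneSL = ω * ((Fintype.card F : ℂ) - 1) := by
    have := hωg 1
    rw [one_mul, h1] at this
    exact this
  have hs2 : ∑ e : F, resSL π (upSL e * negOneSL) = 0 := by
    rw [Finset.sum_congr rfl (fun e _ => hωg (upSL e)), ← Finset.mul_sum, cusp_sum_upSL hπ, mul_zero]
  rw [cusp_sum_upSL hπ, hs2, h1, hm1]
  ring

open Classical in
/-- the norm of a cuspidal restriction over the elliptic elements -/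
theorem cusp_sum_elliptic_norm (hodd : Odd (Fintype.card F)) {π : GL (Fin 2) F → ℂ} (hπ : IsCuspGL2 π)
    (ω : ℂ) (hω : ω * conj ω = 1) (hωg : ∀ g, resSL π (g * negOneSL) = ω * resSL π g) :
    ∑ g : SL2, (if IsElliptic g then resSL π g * conj (resSL π g) else 0) =
      ∑ g : SL2, resSL π g * conj (resSL π g) -
        4 * (Fintype.card F : ℂ) * ((Fintype.card F : ℂ) - 1) := by
  have hcf := isClassFunction_resSL_cusp hπ
  have hfcf : Cfsg.IsClassFunction SL2 (fun g => resSL π g * conj (resSL π g)) := by
    intro g h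
    simp only
    rw [hcf g h]
  rw [sum_elliptic_eq hodd (fun g => resSL π g * conj (resSL π g)) hfcf
    (fun a e ha => by rw [cusp_apply_borel_split hπ a e ha, zero_mul])]
  have h1 : resSL π 1 = (Fintype.card F : ℂ) - 1 := by
    rw [resSL_one]; exact hπ.2.2.1
  have hneg : ∀ g, resSL π (g * negOneSL) * conj (resSL π (g * negOneSL)) =
      resSL π g * conj (resSL π g) := by
    intro g
    rw [hωg, map_mul]
    linear_combination (resSL π g) * conj (resSL π g) * hω
  have hm1 : resSL π negOneSL * conj (resSL π negOneSL) = resSL π 1 * conj (resSL π 1) := by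
    have := hneg 1
    rwa [one_mul] at this
  have hs1 : ∑ e : F, resSL π (upSL e) * conj (resSL π (upSL e)) =
      ((Fintype.card F : ℂ) - 1) ^ 2 + ((Fintype.card F : ℂ) - 1) := by
    rw [← Finset.add_sum_erase Finset.univ _ (Finset.mem_univ (0 : F)), upSL_zero, h1]
    congr 1
    · rw [map_sub, map_one, Complex.conj_natCast]; ring
    · have : ∀ e ∈ Finset.univ.erase (0 : F), resSL π (upSL e) * conj (resSL π (upSL e)) = 1 := by
        intro e he
        rw [cusp_apply_upSL hπ (Finset.ne_of_mem_erase he)]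
        simp
      rw [Finset.sum_congr rfl this, Finset.sum_const, nsmul_eq_mul, mul_one,
        Finset.card_erase_of_mem (Finset.mem_univ _), Finset.card_univ,
        Nat.cast_sub Fintype.card_pos, Nat.cast_one]
  have hs2 : ∑ e : F, resSL π (upSL e * negOneSL) * conj (resSL π (upSL e * negOneSL)) =
      ((Fintype.card F : ℂ) - 1) ^ 2 + ((Fintype.card F : ℂ) - 1) := by
    rw [Finset.sum_congr rfl (fun e _ => hneg (upSL e)), hs1]
  rw [hs1, hs2, hm1, h1, map_sub, map_one, Complex.conj_natCast]
  ring

end Cfsg.Agent.Lib.H12
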