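import Mathlib
import Cfsg.Agent.Lib.H12.SL2Syl2
import Cfsg.Agent.Lib.H12.SL2Ell
import Cfsg.Agent.Lib.H12.SL2Borel
import Cfsg.Agent.S2430

set_option autoImplicit false

/-!
# Cyclic subgroups of order `q + 1` of `SL₂(q)`, `q` odd, and sums over elliptic elements

A cyclic subgroup `C` of order `q + 1` is the centralizer of each of its non-central elements, which
are elliptic; every elliptic element is conjugate into `C`; and for a class function `f`
`2 (q + 1) ∑_{g elliptic} f g = |G| ∑_{c ∈ C \ Z} f c`.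
-/

namespace Cfsg.Agent.Lib.H12

open Matrix

variable {F : Type*} [Field F]

local notation "SL2" => Matrix.SpecialLinearGroup (Fin 2) F
local notation "M2" => Matrix (Fin 2) (Fin 2) F

/-! ### Ellipticity and the discriminant -/

theorem isElliptic_of_disc (g : SL2) (hd : ¬ IsSquare ((g : M2).trace ^ 2 - 4)) : IsElliptic g := by
  intro c v hv hcv
  apply hd
  have h1 : ((g : M2) - c • (1 : M2)).mulVec v = 0 := by
    rw [Matrix.sub_mulVec, hcv, Matrix.smul_mulVec, Matrix.one_mulVec, sub_self]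
  have h2 : ((g : M2) - c • (1 : M2)).det = 0 :=
    Matrix.exists_mulVec_eq_zero_iff.mp ⟨v, hv, h1⟩
  have h3 := g.det_coe
  rw [Matrix.det_fin_two] at h2 h3
  simp only [Matrix.sub_apply, Matrix.smul_apply, Matrix.one_apply_eq, Matrix.one_apply_ne,
    ne_eq, zero_ne_one, one_ne_zero, not_false_eq_true, smul_eq_mul, mul_one, mul_zero, sub_zero] at h2
  refine ⟨2 * c - (g : M2).trace, ?_⟩
  rw [Matrix.trace_fin_two]
  linear_combination (-4 : F) * h2 + 4 * h3

theorem IsElliptic.not_mem_center {g : SL2} (hg : IsElliptic g) : g ∉ Subgroup.center SL2 := by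
  intro hz
  have h10 := hg.lower_ne_zero
  rcases sl2_center_cases g hz with h | h
  · apply h10; rw [h]; simp
  · apply h10; rw [h]; simp

theorem IsElliptic.trace_sq_ne {g : SL2} (hg : IsElliptic g) (h2 : (2 : F) ≠ 0) :
    (g : M2).trace ^ 2 ≠ 4 :=
  (noRoot_of_noEigen g hg).trace_sq_ne h2

/-- a non-scalar element commuting with an elliptic element is elliptic -/
theorem isElliptic_of_mem_centralizer {d c : SL2} (hd : IsElliptic d)
    (hcN : Cfsg.Agent.Lib.H12.NonScalar (c : M2))
    (hc : c ∈ Subgroup.centralizer ({d} : Set SL2)) : IsElliptic c := by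
  obtain ⟨α, β, hαβ⟩ := (mem_centralizer_iff_span hd.nonScalar c).mp hc
  have hβ : β ≠ 0 := by
    rintro rfl
    apply hcN
    rw [hαβ]
    simp
  intro l v hv hlv
  apply hd (β⁻¹ * (l - α)) v hv
  rw [hαβ, Matrix.add_mulVec, Matrix.smul_mulVec, Matrix.smul_mulVec, Matrix.one_mulVec] at hlv
  have h1 : β • (d : M2).mulVec v = (l - α) • v := by
    rw [sub_smul, ← hlv]; abel
  rw [mul_smul, ← h1, smul_smul, inv_mul_cancel₀ hβ, one_smul]

/-! ### Cyclic subgroups of order `q + 1` -/

section Torus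

variable [Fintype F]

/-- The data of a non-split torus: a subgroup which is the centralizer of an elliptic element. -/
structure IsNonsplitTorus (C : Subgroup SL2) : Prop where
  card : Nat.card C = Fintype.card F + 1
  exists_gen : ∃ c₀ : SL2, IsElliptic c₀ ∧ C = Subgroup.centralizer ({c₀} : Set SL2)

theorem isNonsplitTorus_of_cyclic (hodd : Odd (Fintype.card F)) (C : Subgroup SL2) (hC : IsCyclic C)
    (hcard : Nat.card C = Fintype.card F + 1) : IsNonsplitTorus C := by
  have h2 : (2 : F) ≠ 0 := two_ne_zero_of_odd hodd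
  have hq : 1 < Fintype.card F := Fintype.one_lt_card
  obtain ⟨c, hc⟩ := IsCyclic.exists_ofOrder_eq_natCard (α := C)
  have hord : orderOf (c : SL2) = Fintype.card F + 1 := by
    rw [Subgroup.orderOf_coe, hc, hcard]
  have ht : ((c : SL2) : M2).trace ^ 2 ≠ 4 := by
    intro ht
    have h1 := Cfsg.Agent.S2430.pow_two_card_eq_one_of_trace_sq (c : SL2) ht
    have h3 := orderOf_dvd_of_pow_eq_one h1
    rw [hord] at h3
    have hcop : Nat.Coprime (Fintype.card F + 1) (Fintype.card F) := by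
      rw [Nat.coprime_comm]; simp
    have h4 := hcop.dvd_of_dvd_mul_right h3
    have := Nat.le_of_dvd (by norm_num) h4
    omega
  obtain ⟨hcyc, hsq, hnsq⟩ := regular_centralizer hodd (c : SL2) ht
  have hd : ¬ IsSquare (((c : SL2) : M2).trace ^ 2 - 4) := by
    intro hd
    have h1 := hsq hd
    have h3 : orderOf (c : SL2) ∣ Nat.card (Subgroup.centralizer ({(c : SL2)} : Set SL2)) := by
      have h4 := orderOf_dvd_natCard (⟨(c : SL2), self_mem_centralizer _⟩ :
        Subgroup.centralizer ({(c : SL2)} : Set SL2))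
      rwa [← Subgroup.orderOf_coe] at h4
    rw [hord, h1] at h3
    have := Nat.le_of_dvd (by omega) h3
    omega
  refine ⟨hcard, (c : SL2), isElliptic_of_disc _ hd, ?_⟩
  have hle : C ≤ Subgroup.centralizer ({(c : SL2)} : Set SL2) := by
    intro x hx
    have hx' : (⟨x, hx⟩ : C) ∈ Subgroup.zpowers c := by
      have hgen : Subgroup.zpowers c = ⊤ := by
        apply Subgroup.eq_top_of_card_eq
        rw [Nat.card_zpowers, hc]
      rw [hgen]; trivial
    obtain ⟨k, hk⟩ := Subgroup.mem_zpowers_iff.mp hx'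
    have hxk : x = (c : SL2) ^ k := by
      have := congrArg Subtype.val hk
      simpa using this.symm
    rw [Subgroup.mem_centralizer_singleton_iff, hxk]
    exact ((Commute.refl (c : SL2)).zpow_left k).eq
  apply Subgroup.eq_of_le_of_card_ge hle
  rw [hnsq hd, hcard]

theorem IsNonsplitTorus.center_le {C : Subgroup SL2} (hC : IsNonsplitTorus C) : Subgroup.center SL2 ≤ C := by
  obtain ⟨c₀, -, rfl⟩ := hC.exists_gen
  exact Subgroup.center_le_centralizer _

theorem IsNonsplitTorus.nonScalar {C : Subgroup SL2} (_hC : IsNonsplitTorus C) {c : SL2}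
    (hcZ : c ∉ Subgroup.center SL2) : Cfsg.Agent.Lib.H12.NonScalar (c : M2) := by
  by_contra h
  exact hcZ (sl2_mem_center_of_not_nonScalar c h)

theorem IsNonsplitTorus.isElliptic {C : Subgroup SL2} (hC : IsNonsplitTorus C) {c : SL2} (hc : c ∈ C)
    (hcZ : c ∉ Subgroup.center SL2) : IsElliptic c := by
  obtain ⟨c₀, h0, rfl⟩ := hC.exists_gen
  exact isElliptic_of_mem_centralizer h0 (hC.nonScalar hcZ) hc

theorem IsNonsplitTorus.centralizer_eq {C : Subgroup SL2} (hC : IsNonsplitTorus C) {c : SL2} (hc : c ∈ C)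
    (hcZ : c ∉ Subgroup.center SL2) : Subgroup.centralizer ({c} : Set SL2) = C := by
  obtain ⟨c₀, h0, rfl⟩ := hC.exists_gen
  exact centralizer_eq_of_mem h0.nonScalar (hC.nonScalar hcZ) hc

theorem IsNonsplitTorus.comm {C : Subgroup SL2} (hC : IsNonsplitTorus C) {a b : SL2} (ha : a ∈ C) (hb : b ∈ C) :
    a * b = b * a := by
  obtain ⟨c₀, h0, rfl⟩ := hC.exists_gen
  exact centralizer_comm h0.nonScalar ha hb

/-- every elliptic element is conjugate into `C` -/
theorem IsNonsplitTorus.exists_conj_mem {C : Subgroup SL2} (hC : IsNonsplitTorus C) (hodd : Odd (Fintype.card F))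
    {g : SL2} (hg : IsElliptic g) : ∃ y : SL2, y * g * y⁻¹ ∈ C := by
  have h2 : (2 : F) ≠ 0 := two_ne_zero_of_odd hodd
  obtain ⟨c₀, h0, rfl⟩ := hC.exists_gen
  have hno := noRoot_of_noEigen c₀ h0
  obtain ⟨y, hy⟩ := exists_conj_mem_torusT hodd hno g hg
  rw [← centralizer_sl2Comp] at hy
  have hconj : IsConj (sl2Comp (c₀ : M2).trace) c₀ :=
    sl2_isConj_of_trace_regular hodd _ _ h0.nonScalar (trace_sl2Comp _)
      (by rw [trace_sl2Comp]; exact hno.trace_sq_ne h2)
  obtain ⟨k, hk⟩ := isConj_iff.mp hconj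
  refine ⟨k * y, ?_⟩
  rw [Subgroup.mem_centralizer_singleton_iff] at hy ⊢
  rw [← hk]
  calc k * y * g * (k * y)⁻¹ * (k * sl2Comp (c₀ : M2).trace * k⁻¹)
      = k * ((y * g * y⁻¹) * sl2Comp (c₀ : M2).trace) * k⁻¹ := by group
    _ = k * (sl2Comp (c₀ : M2).trace * (y * g * y⁻¹)) * k⁻¹ := by rw [hy]
    _ = k * sl2Comp (c₀ : M2).trace * k⁻¹ * (k * y * g * (k * y)⁻¹) := by group

/-- for `c ∈ C` non-central: `y⁻¹ c y ∈ C` iff `y` normalizes `C` -/
theorem IsNonsplitTorus.conj_mem_iff {C : Subgroup SL2} (hC : IsNonsplitTorus C) {c : SL2} (hc : c ∈ C)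
    (hcZ : c ∉ Subgroup.center SL2) (y : SL2) :
    y⁻¹ * c * y ∈ C ↔ y ∈ Subgroup.normalizer (C : Set SL2) := by
  constructor
  · intro h
    have hcZ' : y⁻¹ * c * y ∉ Subgroup.center SL2 := by
      intro hz
      apply hcZ
      have hcomm := Subgroup.mem_center_iff.mp hz
      have : c = y * (y⁻¹ * c * y) * y⁻¹ := by group
      rw [this, hcomm y, mul_inv_cancel_right]
      exact hz
    have hCeq := hC.centralizer_eq h hcZ'
    have hyinv : y⁻¹ ∈ Subgroup.normalizer (C : Set SL2) := by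
      apply Subgroup.mem_normalizer_fintype
      intro n hn
      have hn' : y⁻¹ * n * y⁻¹⁻¹ ∈ Subgroup.centralizer ({y⁻¹ * c * y} : Set SL2) := by
        rw [Subgroup.mem_centralizer_singleton_iff, inv_inv]
        calc y⁻¹ * n * y * (y⁻¹ * c * y) = y⁻¹ * (n * c) * y := by group
          _ = y⁻¹ * (c * n) * y := by rw [hC.comm hn hc]
          _ = y⁻¹ * c * y * (y⁻¹ * n * y) := by group
      rw [hCeq] at hn'
      exact hn'
    have := Subgroup.inv_mem _ hyinv
    rwa [inv_inv] at this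
  · intro hy
    have hyinv := Subgroup.inv_mem _ hy
    have := (Subgroup.mem_normalizer_iff.mp hyinv c).mp hc
    rwa [inv_inv] at this

theorem IsNonsplitTorus.card_normalizer {C : Subgroup SL2} (hC : IsNonsplitTorus C) (hodd : Odd (Fintype.card F)) :
    Nat.card (Subgroup.normalizer (C : Set SL2)) = 2 * (Fintype.card F + 1) := by
  have h2 : (2 : F) ≠ 0 := two_ne_zero_of_odd hodd
  have hcard := hC.card
  obtain ⟨c₀, h0, rfl⟩ := hC.exists_gen
  rw [(classes_normalizer hodd (h0.trace_sq_ne h2)).1, hcard]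


/-! ### The sum over the elliptic elements -/

open Classical in
theorem IsNonsplitTorus.card_conj_mem [DecidableEq F] {C : Subgroup SL2} (hC : IsNonsplitTorus C)
    (hodd : Odd (Fintype.card F)) (g : SL2) :
    (Finset.univ.filter fun y : SL2 => y⁻¹ * g * y ∈ C ∧ y⁻¹ * g * y ∉ Subgroup.center SL2).card =
      if IsElliptic g then 2 * (Fintype.card F + 1) else 0 := by
  by_cases hg : IsElliptic g
  · rw [if_pos hg]
    obtain ⟨y₀, hy₀⟩ := hC.exists_conj_mem hodd hg
    have hcZ : y₀ * g * y₀⁻¹ ∉ Subgroup.center SL2 := (isElliptic_conj hg y₀).not_mem_center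
    have hiff : ∀ y : SL2, (y⁻¹ * g * y ∈ C ∧ y⁻¹ * g * y ∉ Subgroup.center SL2) ↔
        y₀ * y ∈ Subgroup.normalizer (C : Set SL2) := by
      intro y
      rw [← hC.conj_mem_iff hy₀ hcZ (y₀ * y)]
      have h1 : (y₀ * y)⁻¹ * (y₀ * g * y₀⁻¹) * (y₀ * y) = y⁻¹ * g * y := by group
      rw [h1]
      constructor
      · exact fun h => h.1
      · intro h
        refine ⟨h, ?_⟩
        have h3 := isElliptic_conj hg y⁻¹
        rw [inv_inv] at h3
        exact h3.not_mem_center
    rw [← hC.card_normalizer hodd, ← Fintype.card_subtype, ← Nat.card_eq_fintype_card]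
    apply Nat.card_congr
    exact (Equiv.mulLeft y₀).subtypeEquiv (fun y => by
      rw [hiff y]
      rfl)
  · rw [if_neg hg]
    rw [Finset.card_eq_zero, Finset.filter_eq_empty_iff]
    intro y _ hy
    apply hg
    have h1 := hC.isElliptic hy.1 hy.2
    have h3 := isElliptic_conj h1 y
    have h4 : y * (y⁻¹ * g * y) * y⁻¹ = g := by group
    rwa [h4] at h3

open Classical in
/-- the torus form of the sum over elliptic elements -/
theorem IsNonsplitTorus.sum_elliptic [DecidableEq F] {C : Subgroup SL2} (hC : IsNonsplitTorus C)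
    (hodd : Odd (Fintype.card F)) (f : SL2 → ℂ) (hf : Cfsg.IsClassFunction SL2 f) :
    (2 * ((Fintype.card F : ℂ) + 1)) * ∑ g : SL2, (if IsElliptic g then f g else 0) =
      (Nat.card SL2 : ℂ) *
        ∑ c : SL2, (if c ∈ C ∧ c ∉ Subgroup.center SL2 then f c else 0) := by
  have h1 : ∀ y : SL2, ∑ c : SL2, (if c ∈ C ∧ c ∉ Subgroup.center SL2 then f c else 0) =
      ∑ g : SL2, (if y⁻¹ * g * y ∈ C ∧ y⁻¹ * g * y ∉ Subgroup.center SL2 then f g else 0) := by
    intro y
    rw [← Equiv.sum_comp (MulAut.conj y).toEquiv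
      (fun g => if y⁻¹ * g * y ∈ C ∧ y⁻¹ * g * y ∉ Subgroup.center SL2 then f g else 0)]
    refine Finset.sum_congr rfl (fun c _ => ?_)
    have h3 : (MulAut.conj y).toEquiv c = y * c * y⁻¹ := rfl
    have h4 : y⁻¹ * (y * c * y⁻¹) * y = c := by group
    rw [h3, h4, hf c y]
  have h3 : ∑ y : SL2, ∑ c : SL2, (if c ∈ C ∧ c ∉ Subgroup.center SL2 then f c else 0) =
      (Nat.card SL2 : ℂ) * ∑ c : SL2, (if c ∈ C ∧ c ∉ Subgroup.center SL2 then f c else 0) := by
    rw [Finset.sum_const, Finset.card_univ, nsmul_eq_mul, Nat.card_eq_fintype_card]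
  rw [← h3, Finset.sum_congr rfl (fun y _ => h1 y), Finset.sum_comm, Finset.mul_sum]
  refine Finset.sum_congr rfl (fun g _ => ?_)
  rw [← Finset.sum_filter, Finset.sum_const, nsmul_eq_mul, hC.card_conj_mem hodd g]
  by_cases hg : IsElliptic g
  · rw [if_pos hg, if_pos hg]
    push_cast
    ring
  · rw [if_neg hg, if_neg hg]
    simp

end Torus

end Cfsg.Agent.Lib.H12
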