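import Mathlib
import Cfsg.Agent.Lib.H12.SL2TorusFrob
import Cfsg.Agent.Lib.H12.SL2EllSum
import Cfsg.Agent.Lib.H12.AbelianGC

set_option autoImplicit false

/-!
# Restriction of characters of `SL₂(q)` to a non-split torus
-/

namespace Cfsg.Agent.Lib.H12

open Matrix Cfsg Cfsg.Agent.Lib.L0 Cfsg.Agent.Lib.H24
open scoped ComplexConjugate

variable {F : Type*} [Field F] [Fintype F] [DecidableEq F]

local notation "SL2" => Matrix.SpecialLinearGroup (Fin 2) F
local notation "M2" => Matrix (Fin 2) (Fin 2) F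

omit [Fintype F] [DecidableEq F] in
theorem negOneSL_eq : (negOneSL : SL2) = -1 := by
  apply Subtype.ext
  rw [negOneSL_val]
  ext i j
  fin_cases i <;> fin_cases j <;> simp

omit [Fintype F] [DecidableEq F] in
theorem mem_center_iff_eq (c : SL2) : c ∈ Subgroup.center SL2 ↔ c = 1 ∨ c = negOneSL := by
  constructor
  · intro h
    rcases sl2_center_cases c h with h1 | h1
    · left; exact h1
    · right; rw [h1, negOneSL_eq]
  · rintro (h | h)
    · rw [h]; exact Subgroup.one_mem _
    · rw [h]; exact negOneSL_mem_center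

/-- splitting off two points of a finite sum -/
theorem sum_eq_add_add_of_ne {α : Type*} [Fintype α] [DecidableEq α] (a b : α) (hab : a ≠ b)
    (φ : α → ℂ) : ∑ x, φ x = φ a + φ b + ∑ x, (if x = a ∨ x = b then 0 else φ x) := by
  have h1 : ∀ x, φ x = (if x = a then φ a else 0) + (if x = b then φ b else 0) +
      (if x = a ∨ x = b then 0 else φ x) := by
    intro x
    by_cases hxa : x = a
    · subst hxa
      simp [hab]
    · by_cases hxb : x = b
      · subst hxb
        simp [hxa]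
      · simp [hxa, hxb]
  rw [Finset.sum_congr rfl (fun x _ => h1 x), Finset.sum_add_distrib, Finset.sum_add_distrib,
    Finset.sum_ite_eq' Finset.univ a, Finset.sum_ite_eq' Finset.univ b]
  simp

open Classical in
/-- sums over the non-central part of a subgroup -/
theorem sum_subgroup_noncentral (C : Subgroup SL2) [Fintype C] (G : SL2 → ℂ) :
    ∑ c : C, (if (c : SL2) ∈ Subgroup.center SL2 then 0 else G c) =
      ∑ c : SL2, (if c ∈ C ∧ c ∉ Subgroup.center SL2 then G c else 0) := by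
  have h1 : ∑ c : SL2, (if c ∈ C ∧ c ∉ Subgroup.center SL2 then G c else 0) =
      ∑ c ∈ Finset.univ.filter (fun c : SL2 => c ∈ C),
        (if c ∈ Subgroup.center SL2 then 0 else G c) := by
    rw [Finset.sum_filter]
    refine Finset.sum_congr rfl (fun c _ => ?_)
    by_cases hc : c ∈ C
    · by_cases hz : c ∈ Subgroup.center SL2
      · simp [hc, hz]
      · simp [hc, hz]
    · simp [hc]
  rw [h1]
  symm
  rw [Finset.sum_subtype (Finset.univ.filter (fun c : SL2 => c ∈ C)) (p := fun c => c ∈ C)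
    (fun c => by simp)]


/-! ### The modified restriction -/

/-- `k ρ_ε - χ|_C`: the value `k` at `1`, `k ε` at `-1`, and `-χ` elsewhere -/
noncomputable def torusH (C : Subgroup SL2) (χ : SL2 → ℂ) (k ε : ℂ) : C → ℂ := fun c =>
  if (c : SL2) = 1 then k else if (c : SL2) = negOneSL then k * ε else -χ c

section Core

omit [DecidableEq F] in
theorem IsNonsplitTorus.comm' {C : Subgroup SL2} (hC : IsNonsplitTorus C) : ∀ a b : C, a * b = b * a := by
  intro a b
  apply Subtype.ext
  exact hC.comm a.2 b.2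

/-- the element `-1` of the torus -/
noncomputable def IsNonsplitTorus.z {C : Subgroup SL2} (hC : IsNonsplitTorus C) : C :=
  ⟨negOneSL, hC.center_le negOneSL_mem_center⟩

omit [DecidableEq F] in
theorem IsNonsplitTorus.z_ne {C : Subgroup SL2} (hC : IsNonsplitTorus C) (h2F : (2 : F) ≠ 0) :
    (1 : C) ≠ hC.z := by
  intro h
  have := congrArg Subtype.val h
  exact negOneSL_ne_one h2F this.symm

omit [DecidableEq F] in
theorem IsNonsplitTorus.mem_center_iff {C : Subgroup SL2} (hC : IsNonsplitTorus C) (c : C) :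
    (c : SL2) ∈ Subgroup.center SL2 ↔ c = 1 ∨ c = hC.z := by
  rw [mem_center_iff_eq]
  constructor
  · rintro (h | h)
    · left; exact Subtype.ext h
    · right; exact Subtype.ext h
  · rintro (h | h)
    · left; rw [h]; rfl
    · right; rw [h]; rfl

open Classical in
/-- splitting a sum over the torus -/
theorem IsNonsplitTorus.sum_eq {C : Subgroup SL2} [Fintype C] (hC : IsNonsplitTorus C)
    (h2F : (2 : F) ≠ 0) (φ : C → ℂ) :
    ∑ c : C, φ c = φ 1 + φ hC.z +
      ∑ c : C, (if (c : SL2) ∈ Subgroup.center SL2 then 0 else φ c) := by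
  rw [sum_eq_add_add_of_ne (1 : C) hC.z (hC.z_ne h2F) φ]
  congr 1
  refine Finset.sum_congr rfl (fun c _ => ?_)
  by_cases hc : (c : SL2) ∈ Subgroup.center SL2
  · rw [if_pos hc, if_pos ((hC.mem_center_iff c).mp hc)]
  · rw [if_neg hc, if_neg (fun h => hc ((hC.mem_center_iff c).mpr h))]

omit [Fintype F] in
theorem torusH_one (C : Subgroup SL2) (χ : SL2 → ℂ) (k ε : ℂ) : torusH C χ k ε 1 = k := by
  simp [torusH]

theorem torusH_z {C : Subgroup SL2} (hC : IsNonsplitTorus C) (h2F : (2 : F) ≠ 0) (χ : SL2 → ℂ) (k ε : ℂ) :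
    torusH C χ k ε hC.z = k * ε := by
  have h1 : ((hC.z : C) : SL2) = negOneSL := rfl
  simp [torusH, h1, negOneSL_ne_one h2F]

omit [Fintype F] in
theorem torusH_of_not_mem {C : Subgroup SL2} (χ : SL2 → ℂ) (k ε : ℂ) (c : C)
    (hc : (c : SL2) ∉ Subgroup.center SL2) : torusH C χ k ε c = -χ c := by
  rw [mem_center_iff_eq] at hc
  push Not at hc
  simp only [torusH]
  rw [if_neg hc.1, if_neg hc.2]


omit [DecidableEq F] in
theorem card_torus_cast {C : Subgroup SL2} (hC : IsNonsplitTorus C) :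
    (Nat.card C : ℂ) = (Fintype.card F : ℂ) + 1 := by
  rw [hC.card]; push_cast; ring

omit [DecidableEq F] in
theorem card_torus_ne_zero {C : Subgroup SL2} (hC : IsNonsplitTorus C) :
    (Fintype.card F : ℂ) + 1 ≠ 0 := by
  rw [← card_torus_cast hC]
  have : 0 < Nat.card C := by rw [hC.card]; omega
  exact_mod_cast this.ne'

open Classical in
theorem torusH_norm {C : Subgroup SL2} [Fintype C] (hC : IsNonsplitTorus C)
    (h2F : (2 : F) ≠ 0) (χ : SL2 → ℂ) (ε : ℂ) (hε : ε * conj ε = 1) (k : ℕ)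
    (hS2 : ∑ c : SL2, (if c ∈ C ∧ c ∉ Subgroup.center SL2 then χ c * conj (χ c) else 0) =
      k * ((Fintype.card F : ℂ) + 1) - 2 * (k : ℂ) ^ 2) :
    classInner (torusH C χ k ε) (torusH C χ k ε) = k := by
  unfold Cfsg.classInner
  rw [hC.sum_eq h2F, torusH_one, torusH_z hC h2F, card_torus_cast hC]
  have h1 : ∑ c : C, (if (c : SL2) ∈ Subgroup.center SL2 then 0
      else torusH C χ k ε c * conj (torusH C χ k ε c)) =
      ∑ c : C, (if (c : SL2) ∈ Subgroup.center SL2 then 0 else χ c * conj (χ c)) := by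
    refine Finset.sum_congr rfl (fun c _ => ?_)
    by_cases hc : (c : SL2) ∈ Subgroup.center SL2
    · rw [if_pos hc, if_pos hc]
    · rw [if_neg hc, if_neg hc, torusH_of_not_mem χ k ε c hc, map_neg]
      ring
  rw [h1, sum_subgroup_noncentral C (fun c => χ c * conj (χ c)), hS2]
  have hne := card_torus_ne_zero hC
  rw [map_mul, Complex.conj_natCast]
  field_simp
  linear_combination (k : ℂ) ^ 2 * hε

open Classical in
theorem torusH_inner_one {C : Subgroup SL2} [Fintype C] (hC : IsNonsplitTorus C)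
    (h2F : (2 : F) ≠ 0) (χ : SL2 → ℂ) (ε : ℂ) (k : ℕ)
    (hS1 : ∑ c : SL2, (if c ∈ C ∧ c ∉ Subgroup.center SL2 then χ c else 0) = k * (1 + ε)) :
    classInner (torusH C χ k ε) (fun _ => 1) = 0 := by
  unfold Cfsg.classInner
  simp only [map_one, mul_one]
  rw [hC.sum_eq h2F, torusH_one, torusH_z hC h2F]
  have h1 : ∑ c : C, (if (c : SL2) ∈ Subgroup.center SL2 then 0 else torusH C χ k ε c) =
      - ∑ c : C, (if (c : SL2) ∈ Subgroup.center SL2 then 0 else χ c) := by
    rw [← Finset.sum_neg_distrib]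
    refine Finset.sum_congr rfl (fun c _ => ?_)
    by_cases hc : (c : SL2) ∈ Subgroup.center SL2
    · rw [if_pos hc, if_pos hc, neg_zero]
    · rw [if_neg hc, if_neg hc, torusH_of_not_mem χ k ε c hc]
  rw [h1, sum_subgroup_noncentral C χ, hS1]
  ring

theorem torusH_inv {C : Subgroup SL2} (hC : IsNonsplitTorus C) (hodd : Odd (Fintype.card F))
    (χ : SL2 → ℂ) (hχ : IsClassFunction SL2 χ) (k ε : ℂ) (c : C) :
    torusH C χ k ε c⁻¹ = torusH C χ k ε c := by
  have h2F : (2 : F) ≠ 0 := two_ne_zero_of_odd hodd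
  by_cases hc : (c : SL2) ∈ Subgroup.center SL2
  · rcases (hC.mem_center_iff c).mp hc with h | h
    · rw [h, inv_one]
    · rw [h]
      have : (hC.z)⁻¹ = hC.z := by
        apply Subtype.ext
        show (negOneSL : SL2)⁻¹ = negOneSL
        exact inv_eq_of_mul_eq_one_right negOneSL_mul_self
      rw [this]
  · have hc' : ((c⁻¹ : C) : SL2) ∉ Subgroup.center SL2 := by
      intro h
      apply hc
      have := Subgroup.inv_mem _ h
      simpa using this
    rw [torusH_of_not_mem χ k ε c hc, torusH_of_not_mem χ k ε c⁻¹ hc']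
    have hell := hC.isElliptic c.2 hc
    obtain ⟨w, hw⟩ := exists_inverting hodd (hell.trace_sq_ne h2F)
    have : ((c⁻¹ : C) : SL2) = w * (c : SL2) * w⁻¹ := by
      rw [hw]; rfl
    rw [this, hχ]


open Classical in
theorem torusH_intCoeff {C : Subgroup SL2} [Fintype C] (hC : IsNonsplitTorus C)
    (h2F : (2 : F) ≠ 0) {χ : SL2 → ℂ} (hχ : IsCharacter SL2 χ) (ε : ℂ) (hε : ε = 1 ∨ ε = -1)
    (hεg : ∀ g, χ (g * negOneSL) = ε * χ g) (k : ℕ)
    (hk : 2 * χ 1 = k * ((Fintype.card F : ℂ) - 1)) :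
    IntCoeff (torusH C χ k ε) := by
  intro ψ
  have hcomm := hC.comm'
  obtain ⟨n, hn⟩ := classInner_char_irr_nat (isCharacter_restrict C hχ) ψ.2
  -- the function `h + χ|_C`
  set r : C → ℂ := fun c => torusH C χ k ε c + χ c with hr
  have hsplit : classInner (torusH C χ k ε) (ψ : C → ℂ) =
      classInner r (ψ : C → ℂ) - classInner (fun c : C => χ c) (ψ : C → ℂ) := by
    have : torusH C χ k ε = r - (fun c : C => χ c) := by
      funext c
      simp [hr]
    nth_rewrite 1 [this]
    rw [classInner_sub_left]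
  have hψ1 : (ψ : C → ℂ) 1 = 1 := Cfsg.Agent.Lib.H24.irr_apply_one_of_comm hcomm ψ
  have hψz : (ψ : C → ℂ) hC.z = 1 ∨ (ψ : C → ℂ) hC.z = -1 := by
    have h1 : (irrHom hcomm ψ hC.z) * (irrHom hcomm ψ hC.z) = 1 := by
      rw [← map_mul]
      have : hC.z * hC.z = 1 := by
        apply Subtype.ext
        exact negOneSL_mul_self
      rw [this, map_one]
    have h3 : ((ψ : C → ℂ) hC.z - 1) * ((ψ : C → ℂ) hC.z + 1) = 0 := by
      have := congrArg Units.val h1
      rw [Units.val_mul, Units.val_one, irrHom_apply] at this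
      linear_combination this
    rcases mul_eq_zero.mp h3 with h | h
    · left; linear_combination h
    · right; linear_combination h
  have hχz : χ negOneSL = ε * χ 1 := by
    have := hεg 1
    rwa [one_mul] at this
  have hr1 : r 1 = k * (((Fintype.card F : ℂ) + 1) / 2) := by
    simp only [hr, torusH_one]
    have : χ ((1 : C) : SL2) = χ 1 := rfl
    rw [this]
    linear_combination (1 / 2 : ℂ) * hk
  have hrz : r hC.z = ε * (k * (((Fintype.card F : ℂ) + 1) / 2)) := by
    simp only [hr, torusH_z hC h2F]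
    have : χ ((hC.z : C) : SL2) = χ negOneSL := rfl
    rw [this, hχz]
    linear_combination (ε / 2 : ℂ) * hk
  have hr0 : ∀ c : C, (c : SL2) ∉ Subgroup.center SL2 → r c = 0 := by
    intro c hc
    simp only [hr, torusH_of_not_mem χ k ε c hc]
    ring
  have hinner : classInner r (ψ : C → ℂ) = (k : ℂ) / 2 * (1 + ε * conj ((ψ : C → ℂ) hC.z)) := by
    unfold Cfsg.classInner
    rw [hC.sum_eq h2F, card_torus_cast hC]
    have h0 : ∑ c : C, (if (c : SL2) ∈ Subgroup.center SL2 then 0
        else r c * conj ((ψ : C → ℂ) c)) = 0 := by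
      apply Finset.sum_eq_zero
      intro c _
      by_cases hc : (c : SL2) ∈ Subgroup.center SL2
      · rw [if_pos hc]
      · rw [if_neg hc, hr0 c hc, zero_mul]
    rw [h0, hr1, hrz, hψ1, map_one]
    have hne := card_torus_ne_zero hC
    field_simp
    ring
  rw [hsplit, hinner, hn]
  rcases hε with rfl | rfl <;> rcases hψz with h | h <;> rw [h]
  · exact ⟨(k : ℤ) - n, by push_cast; simp; ring⟩
  · exact ⟨-(n : ℤ), by push_cast; simp⟩
  · exact ⟨-(n : ℤ), by push_cast; simp⟩
  · exact ⟨(k : ℤ) - n, by push_cast; simp; ring⟩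

end Core

/-! ### The main theorems -/

section Main

omit [DecidableEq F] in
theorem card_SL2_cast :
    (Nat.card SL2 : ℂ) = (Fintype.card F : ℂ) * ((Fintype.card F : ℂ) - 1) * ((Fintype.card F : ℂ) + 1) := by
  rw [card_SL2, Nat.cast_mul, Nat.cast_sub (Nat.one_le_pow _ _ Fintype.card_pos)]
  push_cast
  ring

theorem sign_cases {ω : ℂ} (h : ω ^ 2 = 1) : ω = 1 ∨ ω = -1 := by
  have h' : (ω - 1) * (ω + 1) = 0 := by linear_combination h
  rcases mul_eq_zero.mp h' with h | h
  · left; linear_combination h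
  · right; linear_combination h

theorem sign_mul_conj {ω : ℂ} (h : ω = 1 ∨ ω = -1) : ω * conj ω = 1 := by
  rcases h with rfl | rfl <;> simp

theorem sum_eq_zero_of_irr_ne_one {χ : SL2 → ℂ} (hχ : IsIrrCharacter SL2 χ) (h1 : χ 1 ≠ 1) :
    ∑ g : SL2, χ g = 0 := by
  have hne : χ ≠ (1 : SL2 → ℂ) := by
    intro h
    apply h1
    rw [h]; rfl
  have h := irr_classInner_ne hχ Cfsg.Agent.Lib.L0.isIrrCharacter_one hne
  unfold Cfsg.classInner at h
  have hG : (Nat.card SL2 : ℂ) ≠ 0 := by
    exact_mod_cast (Nat.card_pos (α := SL2)).ne'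
  have h3 := (mul_eq_zero.mp h).resolve_left (inv_ne_zero hG)
  simpa using h3

/-- **Values of the cuspidal characters of degree `q - 1` on a non-split torus.** -/
theorem cusp_torus_values_central {C : Subgroup SL2} (hC : IsNonsplitTorus C) (hcyc : IsCyclic C)
    (hodd : Odd (Fintype.card F)) {π : GL (Fin 2) F → ℂ} (hπ : IsCuspGL2 π)
    (hirr : IsIrrCharacter SL2 (resSL π)) :
    ∃ θ : C →* ℂˣ, (∃ c : C, θ c ^ 2 ≠ 1) ∧
      (∀ c : C, (c : SL2) ∉ Subgroup.center SL2 →
        resSL π c = -((θ c).val + (θ c)⁻¹.val)) ∧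
      ∀ g : SL2, resSL π (g * negOneSL) = ((θ hC.z : ℂˣ) : ℂ) * resSL π g := by
  classical
  have : Fintype C := Fintype.ofFinite C
  have h2F : (2 : F) ≠ 0 := two_ne_zero_of_odd hodd
  have hq3 : 3 ≤ Fintype.card F := by
    have hq : 1 < Fintype.card F := Fintype.one_lt_card
    obtain ⟨m, hm⟩ := hodd
    omega
  set χ : SL2 → ℂ := resSL π with hχdef
  have hχ : IsCharacter SL2 χ := isCharacter_of_irr hirr
  have hcf := isClassFunction_of_isCharacter hχ
  obtain ⟨hω2, hωg⟩ := irr_mul_negOneSL hirr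
  set ω := χ negOneSL / χ 1 with hωdef
  have hω := sign_cases hω2
  have hχ1 : χ 1 = (Fintype.card F : ℂ) - 1 := by
    rw [hχdef, resSL_one]; exact hπ.2.2.1
  have hk : 2 * χ 1 = ((2 : ℕ) : ℂ) * ((Fintype.card F : ℂ) - 1) := by
    rw [hχ1]; norm_num
  have hq0 : (Fintype.card F : ℂ) ≠ 0 := by
    exact_mod_cast (Fintype.card_pos (α := F)).ne'
  have hq1 : (Fintype.card F : ℂ) - 1 ≠ 0 := by
    have : ((Fintype.card F - 1 : ℕ) : ℂ) ≠ 0 := by
      have : 0 < Fintype.card F - 1 := by omega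
      exact_mod_cast this.ne'
    rwa [Nat.cast_sub (by omega), Nat.cast_one] at this
  have hqp := card_torus_ne_zero hC
  -- the two sums over the torus
  have hS2 : ∑ c : SL2, (if c ∈ C ∧ c ∉ Subgroup.center SL2 then χ c * conj (χ c) else 0) =
      ((2 : ℕ) : ℂ) * ((Fintype.card F : ℂ) + 1) - 2 * ((2 : ℕ) : ℂ) ^ 2 := by
    have hfcf : IsClassFunction SL2 (fun g => χ g * conj (χ g)) := by
      intro g h
      simp only
      rw [hcf g h]
    have h1 := hC.sum_elliptic hodd (fun g => χ g * conj (χ g)) hfcf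
    have h3 := cusp_elliptic_norm hodd hπ hirr
    rw [← hχdef] at h3
    have h4 : ∑ g : SL2, (if IsElliptic g then χ g * conj (χ g) else 0) =
        (Fintype.card F : ℂ) * ((Fintype.card F : ℂ) - 1) * ((Fintype.card F : ℂ) - 3) := by
      rw [← h3]
    rw [h4, card_SL2_cast] at h1
    have h5 : (Fintype.card F : ℂ) * ((Fintype.card F : ℂ) - 1) * ((Fintype.card F : ℂ) + 1) ≠ 0 :=
      mul_ne_zero (mul_ne_zero hq0 hq1) hqp
    apply mul_left_cancel₀ h5
    rw [← h1]
    push_cast
    ring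
  have hS1 : ∑ c : SL2, (if c ∈ C ∧ c ∉ Subgroup.center SL2 then χ c else 0) =
      ((2 : ℕ) : ℂ) * (1 + ω) := by
    have h1 := hC.sum_elliptic hodd χ hcf
    have h3 := cusp_sum_elliptic hodd hπ ω hωg
    rw [← hχdef] at h3
    have h0 : ∑ g : SL2, χ g = 0 := by
      apply sum_eq_zero_of_irr_ne_one hirr
      rw [hχ1]
      intro h
      have : (Fintype.card F : ℂ) = 2 := by linear_combination h
      have : Fintype.card F = 2 := by exact_mod_cast this
      omega
    have h4 : ∑ g : SL2, (if IsElliptic g then χ g else 0) =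
        (Fintype.card F : ℂ) * ((Fintype.card F : ℂ) - 1) * (1 + ω) := by
      rw [h3, h0, zero_add]
    rw [h4, card_SL2_cast] at h1
    have h5 : (Fintype.card F : ℂ) * ((Fintype.card F : ℂ) - 1) * ((Fintype.card F : ℂ) + 1) ≠ 0 :=
      mul_ne_zero (mul_ne_zero hq0 hq1) hqp
    apply mul_left_cancel₀ h5
    rw [← h1]
    push_cast
    ring
  -- the properties of `h`
  have hint := torusH_intCoeff hC h2F hχ ω hω hωg 2 hk
  have hnorm := torusH_norm hC h2F χ ω (sign_mul_conj hω) 2 hS2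
  have hone := torusH_inner_one hC h2F χ ω 2 hS1
  have hinv := torusH_inv hC hodd χ hcf ((2 : ℕ) : ℂ) ω
  have h1 := torusH_one C χ ((2 : ℕ) : ℂ) ω
  obtain ⟨θ₁, θ₂, hne, hh⟩ := gc_two hC.comm' _ hint (by simpa using hnorm) (by simpa using h1)
  have hreal := real_of_gc_two θ₁ θ₂ hne (fun a => by
    simp only [homFun_apply]
    rw [← hh, ← hh, hinv])
  have hone' : (if θ₁ = 1 then (1 : ℂ) else 0) + (if θ₂ = 1 then (1 : ℂ) else 0) = 0 := by
    have h3 : torusH C χ ((2 : ℕ) : ℂ) ω = homFun θ₁ + homFun θ₂ := by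
      funext a
      rw [hh a]; rfl
    have h4 : (fun _ : C => (1 : ℂ)) = homFun (1 : C →* ℂˣ) := by
      funext a
      rw [homFun_one]
    rw [h3, h4, classInner_add_left, classInner_homFun, classInner_homFun] at hone
    exact hone
  have hθ₁ : θ₁ ≠ 1 := by
    intro h
    rw [if_pos h] at hone'
    by_cases h' : θ₂ = 1
    · rw [if_pos h'] at hone'; norm_num at hone'
    · rw [if_neg h'] at hone'; norm_num at hone'
  have hθ₂ : θ₂ ≠ 1 := by
    intro h
    rw [if_pos h, if_neg hθ₁] at hone'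
    norm_num at hone'
  have h21 : θ₂ = θ₁⁻¹ := by
    rcases hreal with h | ⟨h, h'⟩
    · exact h
    · exfalso
      exact hne (hom_real_unique θ₁ θ₂ h h' hθ₁ hθ₂)
  refine ⟨θ₁, ?_, ?_, ?_⟩
  · by_contra hall
    push Not at hall
    apply hne
    rw [h21]
    apply MonoidHom.ext
    intro c
    have h3 := hall c
    rw [MonoidHom.inv_apply]
    have h4 : (θ₁ c) * (θ₁ c) = 1 := by rw [← sq]; exact h3
    exact eq_inv_of_mul_eq_one_left h4
  · intro c hc
    have h3 := hh c
    rw [torusH_of_not_mem χ _ ω c hc, h21, MonoidHom.inv_apply] at h3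
    rw [← h3]
    ring
  · intro g
    rw [hωg g]
    congr 1
    have h3 := hh hC.z
    rw [torusH_z hC h2F, h21, MonoidHom.inv_apply] at h3
    have hzz : (θ₁ hC.z) * (θ₁ hC.z) = 1 := by
      rw [← map_mul]
      have : hC.z * hC.z = 1 := by
        apply Subtype.ext
        exact negOneSL_mul_self
      rw [this, map_one]
    have hinv' : (θ₁ hC.z)⁻¹ = θ₁ hC.z := inv_eq_of_mul_eq_one_left hzz
    rw [hinv'] at h3
    push_cast at h3
    linear_combination (1 / 2 : ℂ) * h3

/-- **Values of the cuspidal characters of degree `q - 1` on a non-split torus.** -/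
theorem cusp_torus_values {C : Subgroup SL2} (hC : IsNonsplitTorus C) (hcyc : IsCyclic C)
    (hodd : Odd (Fintype.card F)) {π : GL (Fin 2) F → ℂ} (hπ : IsCuspGL2 π)
    (hirr : IsIrrCharacter SL2 (resSL π)) :
    ∃ θ : C →* ℂˣ, (∃ c : C, θ c ^ 2 ≠ 1) ∧
      ∀ c : C, (c : SL2) ∉ Subgroup.center SL2 →
        resSL π c = -((θ c).val + (θ c)⁻¹.val) := by
  obtain ⟨θ, h1, h2, -⟩ := cusp_torus_values_central hC hcyc hodd hπ hirr
  exact ⟨θ, h1, h2⟩


/-- **Values of the characters of degree `(q - 1) / 2` on a non-split torus.** -/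
theorem half_cusp_torus_values {C : Subgroup SL2} (hC : IsNonsplitTorus C)
    (hodd : Odd (Fintype.card F)) (hq5 : 5 ≤ Fintype.card F) {π : GL (Fin 2) F → ℂ}
    {χ χ' : SL2 → ℂ} {δ : Fˣ} (hπ : IsCuspGL2 π) (hχi : IsIrrCharacter SL2 χ)
    (hχ'i : IsIrrCharacter SL2 χ') (hne : χ' ≠ χ) (hsum : resSL π = χ + χ')
    (hx : ∀ n, χ' (conjSL (dg δ) n) = χ n) :
    ∃ θ : C →* ℂˣ, θ⁻¹ = θ ∧ θ ≠ 1 ∧
      ∀ c : C, (c : SL2) ∉ Subgroup.center SL2 → χ c = -((θ c : ℂˣ) : ℂ) := by
  classical
  have : Fintype C := Fintype.ofFinite C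
  have h2F : (2 : F) ≠ 0 := two_ne_zero_of_odd hodd
  have hχ : IsCharacter SL2 χ := isCharacter_of_irr hχi
  have hcf := isClassFunction_of_isCharacter hχ
  have hcf' := isClassFunction_of_isCharacter (isCharacter_of_irr hχ'i)
  obtain ⟨hω2, hωg⟩ := irr_mul_negOneSL hχi
  obtain ⟨-, hωg'⟩ := irr_mul_negOneSL hχ'i
  set ω := χ negOneSL / χ 1 with hωdef
  have hω := sign_cases hω2
  -- `χ` and `χ'` agree at diagonal and at elliptic elements
  have h11 : χ 1 = χ' 1 := eq_of_diag hx (by simp) (by simp)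
  have hzz : χ negOneSL = χ' negOneSL :=
    eq_of_diag hx (by rw [negOneSL_val]; simp) (by rw [negOneSL_val]; simp)
  have hell : ∀ g : SL2, IsElliptic g → resSL π g = 2 * χ g := by
    intro g hg
    rw [hsum, Pi.add_apply, ← eq_of_isElliptic hodd hχ'i hx hg]
    ring
  have hfω : ∀ g, resSL π (g * negOneSL) = ω * resSL π g := by
    intro g
    rw [hsum, Pi.add_apply, Pi.add_apply, hωg, hωg', ← hzz, ← h11]
    ring
  have hf1 : resSL π 1 = (Fintype.card F : ℂ) - 1 := by
    rw [resSL_one]; exact hπ.2.2.1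
  have hk : 2 * χ 1 = ((1 : ℕ) : ℂ) * ((Fintype.card F : ℂ) - 1) := by
    rw [← hf1, hsum, Pi.add_apply, ← h11]
    push_cast
    ring
  have hq0 : (Fintype.card F : ℂ) ≠ 0 := by
    exact_mod_cast (Fintype.card_pos (α := F)).ne'
  have hq1 : (Fintype.card F : ℂ) - 1 ≠ 0 := by
    have : ((Fintype.card F - 1 : ℕ) : ℂ) ≠ 0 := by
      have : 0 < Fintype.card F - 1 := by omega
      exact_mod_cast this.ne'
    rwa [Nat.cast_sub (by omega), Nat.cast_one] at this
  have hqp := card_torus_ne_zero hC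
  have h5 : (Fintype.card F : ℂ) * ((Fintype.card F : ℂ) - 1) * ((Fintype.card F : ℂ) + 1) ≠ 0 :=
    mul_ne_zero (mul_ne_zero hq0 hq1) hqp
  have hχ1ne : χ 1 ≠ 1 := by
    intro h
    rw [h] at hk
    have : (Fintype.card F : ℂ) = 3 := by
      push_cast at hk
      linear_combination -hk
    have : Fintype.card F = 3 := by exact_mod_cast this
    omega
  have hχ'1ne : χ' 1 ≠ 1 := by rw [← h11]; exact hχ1ne
  have hcfπ := isClassFunction_resSL_cusp hπ
  -- sums over the torus of `resSL π`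
  have hT : ∀ (Φ : SL2 → ℂ) (Ψ : SL2 → ℂ), (∀ g, IsElliptic g → Φ g = Ψ g) →
      ∑ c : SL2, (if c ∈ C ∧ c ∉ Subgroup.center SL2 then Φ c else 0) =
      ∑ c : SL2, (if c ∈ C ∧ c ∉ Subgroup.center SL2 then Ψ c else 0) := by
    intro Φ Ψ h
    refine Finset.sum_congr rfl (fun c _ => ?_)
    by_cases hc : c ∈ C ∧ c ∉ Subgroup.center SL2
    · rw [if_pos hc, if_pos hc, h c (hC.isElliptic hc.1 hc.2)]
    · rw [if_neg hc, if_neg hc]
  have hS2 : ∑ c : SL2, (if c ∈ C ∧ c ∉ Subgroup.center SL2 then χ c * conj (χ c) else 0) =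
      ((1 : ℕ) : ℂ) * ((Fintype.card F : ℂ) + 1) - 2 * ((1 : ℕ) : ℂ) ^ 2 := by
    have hfcf : IsClassFunction SL2 (fun g => resSL π g * conj (resSL π g)) := by
      intro g h
      simp only
      rw [hcfπ g h]
    have h1 := hC.sum_elliptic hodd (fun g => resSL π g * conj (resSL π g)) hfcf
    have h3 := cusp_sum_elliptic_norm hodd hπ ω (sign_mul_conj hω) hfω
    have hnorm : ∑ g : SL2, resSL π g * conj (resSL π g) = 2 * (Nat.card SL2 : ℂ) := by
      have hG : (Nat.card SL2 : ℂ) ≠ 0 := by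
        exact_mod_cast (Nat.card_pos (α := SL2)).ne'
      have e1 := irr_classInner_self hχi
      have e2 := irr_classInner_self hχ'i
      have e3 := irr_classInner_ne hχi hχ'i (fun h => hne h.symm)
      have e4 := irr_classInner_ne hχ'i hχi hne
      have e5 : classInner (resSL π) (resSL π) = 2 := by
        rw [hsum, classInner_add_left, classInner_add_right, classInner_add_right, e1, e2, e3, e4]
        norm_num
      unfold Cfsg.classInner at e5
      have : ∑ g : SL2, resSL π g * conj (resSL π g) = (Nat.card SL2 : ℂ) * 2 := by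
        rw [← e5, ← mul_assoc, mul_inv_cancel₀ hG, one_mul]
      rw [this]; ring
    rw [hnorm, card_SL2_cast] at h3
    rw [h3, card_SL2_cast] at h1
    have h4 := hT (fun c => χ c * conj (χ c)) (fun c => (1 / 4 : ℂ) * (resSL π c * conj (resSL π c)))
      (fun g hg => by
        rw [hell g hg, map_mul]
        have : conj (2 : ℂ) = 2 := Complex.conj_ofNat 2
        rw [this]
        ring)
    rw [h4]
    have h6 : ∑ c : SL2, (if c ∈ C ∧ c ∉ Subgroup.center SL2 then
        (1 / 4 : ℂ) * (resSL π c * conj (resSL π c)) else 0) =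
        (1 / 4 : ℂ) * ∑ c : SL2, (if c ∈ C ∧ c ∉ Subgroup.center SL2 then
          resSL π c * conj (resSL π c) else 0) := by
      rw [Finset.mul_sum]
      refine Finset.sum_congr rfl (fun c _ => ?_)
      split_ifs <;> simp
    rw [h6]
    apply mul_left_cancel₀ h5
    have h7 : (Fintype.card F : ℂ) * ((Fintype.card F : ℂ) - 1) * ((Fintype.card F : ℂ) + 1) *
        ((1 / 4 : ℂ) * ∑ c : SL2, (if c ∈ C ∧ c ∉ Subgroup.center SL2 then
          resSL π c * conj (resSL π c) else 0)) =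
        (1 / 4 : ℂ) * ((Fintype.card F : ℂ) * ((Fintype.card F : ℂ) - 1) * ((Fintype.card F : ℂ) + 1) *
          ∑ c : SL2, (if c ∈ C ∧ c ∉ Subgroup.center SL2 then
            resSL π c * conj (resSL π c) else 0)) := by ring
    rw [h7, ← h1]
    push_cast
    ring
  have hS1 : ∑ c : SL2, (if c ∈ C ∧ c ∉ Subgroup.center SL2 then χ c else 0) =
      ((1 : ℕ) : ℂ) * (1 + ω) := by
    have h1 := hC.sum_elliptic hodd (resSL π) hcfπ
    have h3 := cusp_sum_elliptic hodd hπ ω hfω
    have h0 : ∑ g : SL2, resSL π g = 0 := by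
      rw [hsum]
      simp only [Pi.add_apply]
      rw [Finset.sum_add_distrib, sum_eq_zero_of_irr_ne_one hχi hχ1ne,
        sum_eq_zero_of_irr_ne_one hχ'i hχ'1ne, add_zero]
    rw [h0, zero_add] at h3
    rw [h3, card_SL2_cast] at h1
    have h4 := hT (fun c => χ c) (fun c => (1 / 2 : ℂ) * resSL π c)
      (fun g hg => by
        rw [hell g hg]
        ring)
    rw [h4]
    have h6 : ∑ c : SL2, (if c ∈ C ∧ c ∉ Subgroup.center SL2 then
        (1 / 2 : ℂ) * resSL π c else 0) =
        (1 / 2 : ℂ) * ∑ c : SL2, (if c ∈ C ∧ c ∉ Subgroup.center SL2 then resSL π c else 0) := by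
      rw [Finset.mul_sum]
      refine Finset.sum_congr rfl (fun c _ => ?_)
      split_ifs <;> simp
    rw [h6]
    apply mul_left_cancel₀ h5
    have h7 : (Fintype.card F : ℂ) * ((Fintype.card F : ℂ) - 1) * ((Fintype.card F : ℂ) + 1) *
        ((1 / 2 : ℂ) * ∑ c : SL2, (if c ∈ C ∧ c ∉ Subgroup.center SL2 then resSL π c else 0)) =
        (1 / 2 : ℂ) * ((Fintype.card F : ℂ) * ((Fintype.card F : ℂ) - 1) * ((Fintype.card F : ℂ) + 1) *
          ∑ c : SL2, (if c ∈ C ∧ c ∉ Subgroup.center SL2 then resSL π c else 0)) := by ring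
    rw [h7, ← h1]
    push_cast
    ring
  -- the properties of `h`
  have hint := torusH_intCoeff hC h2F hχ ω hω hωg 1 hk
  have hnorm := torusH_norm hC h2F χ ω (sign_mul_conj hω) 1 hS2
  have hone := torusH_inner_one hC h2F χ ω 1 hS1
  have hinv := torusH_inv hC hodd χ hcf ((1 : ℕ) : ℂ) ω
  have h1 := torusH_one C χ ((1 : ℕ) : ℂ) ω
  obtain ⟨θ, hh⟩ := gc_one hC.comm' _ hint (by simpa using hnorm) (by simpa using h1)
  refine ⟨θ, ?_, ?_, ?_⟩
  · apply MonoidHom.ext
    intro c
    rw [MonoidHom.inv_apply, ← map_inv]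
    apply Units.ext
    rw [← hh, ← hh, hinv]
  · intro hθ
    have h3 : torusH C χ ((1 : ℕ) : ℂ) ω = homFun θ := by
      funext a
      rw [hh a]; rfl
    have h4 : (fun _ : C => (1 : ℂ)) = homFun (1 : C →* ℂˣ) := by
      funext a
      rw [homFun_one]
    rw [h3, h4, classInner_homFun, if_pos hθ] at hone
    exact one_ne_zero hone
  · intro c hc
    have h3 := hh c
    rw [torusH_of_not_mem χ _ ω c hc] at h3
    rw [← h3]
    ring

end Main

end Cfsg.Agent.Lib.H12
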