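import Mathlib
import Cfsg.Agent.Lib.H12.SL2TorusRes
import Cfsg.Agent.Lib.H12.SL2Count2
import Cfsg.Agent.Lib.H12.AbelianGC

set_option autoImplicit false

/-!
# Parametrization of the cuspidal characters of degree `q - 1` of `SL₂(q)` by the characters of a
non-split torus
-/

namespace Cfsg.Agent.Lib.H12

open Matrix Cfsg Cfsg.Agent.Lib.L0 Cfsg.Agent.Lib.H24
open scoped ComplexConjugate

section homs

variable {A : Type*} [Group A]

/-- number of homs from a finite commutative group to `ℂˣ` -/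
theorem card_hom_of_comm [Finite A] (hcomm : ∀ a b : A, a * b = b * a) :
    Nat.card (A →* ℂˣ) = Nat.card A := by
  let _ : CommGroup A := { (inferInstance : Group A) with mul_comm := hcomm }
  exact CommGroup.card_monoidHom_of_hasEnoughRootsOfUnity A ℂ

theorem finite_hom_of_comm [Finite A] (hcomm : ∀ a b : A, a * b = b * a) : Finite (A →* ℂˣ) := by
  apply Nat.finite_of_card_ne_zero
  rw [card_hom_of_comm hcomm]
  exact Nat.card_pos.ne'

theorem neg_one_units_ne_one : (-1 : ℂˣ) ≠ 1 := by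
  intro h
  have := congrArg Units.val h
  rw [Units.val_neg, Units.val_one] at this
  norm_num at this

/-- a cyclic group of even order has a homomorphism of order two to `ℂˣ` -/
theorem exists_real_hom [Finite A] [IsCyclic A] (heven : Even (Nat.card A)) :
    ∃ θ : A →* ℂˣ, θ ≠ 1 ∧ ∀ a, θ a ^ 2 = 1 := by
  obtain ⟨g, hg⟩ := IsCyclic.exists_generator (α := A)
  have hord : orderOf g = Nat.card A := orderOf_eq_card_of_forall_mem_zpowers hg
  have h2 : orderOf (-1 : ℂˣ) ∣ orderOf g := by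
    rw [hord]
    apply orderOf_dvd_of_pow_eq_one
    exact heven.neg_one_pow
  refine ⟨monoidHomOfForallMemZpowers hg h2, ?_, ?_⟩
  · intro h
    have h1 := monoidHomOfForallMemZpowers_apply_gen hg h2
    rw [h, MonoidHom.one_apply] at h1
    exact neg_one_units_ne_one h1.symm
  · intro a
    obtain ⟨k, rfl⟩ := Subgroup.mem_zpowers_iff.mp (hg a)
    rw [map_zpow, monoidHomOfForallMemZpowers_apply_gen, ← zpow_natCast, ← _root_.zpow_mul, mul_comm,
      _root_.zpow_mul, zpow_natCast]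
    simp

/-- the number of homomorphisms `θ` with `θ² ≠ 1` of a cyclic group of even order -/
theorem card_hom_sq_ne_one_le [Finite A] [IsCyclic A] [Fintype (A →* ℂˣ)] [DecidableEq (A →* ℂˣ)]
    (hcomm : ∀ a b : A, a * b = b * a) (heven : Even (Nat.card A))
    (T : Finset (A →* ℂˣ)) (hT : ∀ θ ∈ T, ∃ c : A, θ c ^ 2 ≠ 1) :
    T.card + 2 ≤ Nat.card A := by
  obtain ⟨θ₀, h0, h0'⟩ := exists_real_hom (A := A) heven
  have hdisj : Disjoint T {1, θ₀} := by
    rw [Finset.disjoint_left]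
    intro θ hθ hθ'
    obtain ⟨c, hc⟩ := hT θ hθ
    rw [Finset.mem_insert, Finset.mem_singleton] at hθ'
    rcases hθ' with rfl | rfl
    · apply hc
      rw [MonoidHom.one_apply, one_pow]
    · exact hc (h0' c)
  have h1 := Finset.card_le_univ (T ∪ {1, θ₀})
  rw [Finset.card_union_of_disjoint hdisj, Finset.card_pair (fun h => h0 h.symm),
    ← Nat.card_eq_fintype_card, card_hom_of_comm hcomm] at h1
  exact h1

end homs

section pigeon

theorem pigeonhole_inv {I H : Type*} [Finite I] [Group H] [DecidableEq H] (Θ : I → H) (T : Finset H)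
    (hΘT : ∀ i, Θ i ∈ T) (hTinv : ∀ t ∈ T, t⁻¹ ∈ T) (hne : ∀ t ∈ T, t⁻¹ ≠ t)
    (hinj : ∀ i j, (Θ j = Θ i ∨ Θ j = (Θ i)⁻¹) → i = j)
    (hcard : T.card ≤ 2 * Nat.card I) :
    ∀ t ∈ T, ∃ i, t = Θ i ∨ t = (Θ i)⁻¹ := by
  classical
  have : Fintype I := Fintype.ofFinite I
  set S₁ := Finset.univ.image Θ with hS₁
  set S₂ := Finset.univ.image (fun i => (Θ i)⁻¹) with hS₂
  have hΘinj : Function.Injective Θ := fun i j h => hinj i j (Or.inl h.symm)
  have hc1 : S₁.card = Nat.card I := by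
    rw [hS₁, Finset.card_image_of_injective _ hΘinj, Finset.card_univ, Nat.card_eq_fintype_card]
  have hc2 : S₂.card = Nat.card I := by
    rw [hS₂, Finset.card_image_of_injective _ (fun i j h => hΘinj (inv_injective h)), Finset.card_univ,
      Nat.card_eq_fintype_card]
  have hdisj : Disjoint S₁ S₂ := by
    rw [Finset.disjoint_left]
    intro t ht ht'
    rw [hS₁, Finset.mem_image] at ht
    rw [hS₂, Finset.mem_image] at ht'
    obtain ⟨i, -, rfl⟩ := ht
    obtain ⟨j, -, hj⟩ := ht'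
    have hij : j = i := hinj j i (Or.inr hj.symm)
    rw [hij] at hj
    exact hne _ (hΘT i) hj
  have hsub : S₁ ∪ S₂ ⊆ T := by
    intro t ht
    rw [Finset.mem_union, hS₁, hS₂, Finset.mem_image, Finset.mem_image] at ht
    rcases ht with ⟨i, -, rfl⟩ | ⟨i, -, rfl⟩
    · exact hΘT i
    · exact hTinv _ (hΘT i)
  have hcardS : (S₁ ∪ S₂).card = 2 * Nat.card I := by
    rw [Finset.card_union_of_disjoint hdisj, hc1, hc2, two_mul]
  have heq : S₁ ∪ S₂ = T := Finset.eq_of_subset_of_card_le hsub (by rw [hcardS]; exact hcard)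
  intro t ht
  rw [← heq, Finset.mem_union, hS₁, hS₂, Finset.mem_image, Finset.mem_image] at ht
  rcases ht with ⟨i, -, rfl⟩ | ⟨i, -, rfl⟩
  · exact ⟨i, Or.inl rfl⟩
  · exact ⟨i, Or.inr rfl⟩

end pigeon

variable {F : Type*} [Field F] [Fintype F] [DecidableEq F]

local notation "SL2" => Matrix.SpecialLinearGroup (Fin 2) F
local notation "M2" => Matrix (Fin 2) (Fin 2) F

/-- `θ` describes `f` on the torus `C` and on the centre -/
def TorusParam {C : Subgroup SL2} (hC : IsNonsplitTorus C) (f : SL2 → ℂ) (θ : C →* ℂˣ) : Prop :=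
  (∀ c : C, (c : SL2) ∉ Subgroup.center SL2 → f c = -((θ c).val + (θ c)⁻¹.val)) ∧
    ∀ g : SL2, f (g * negOneSL) = ((θ hC.z : ℂˣ) : ℂ) * f g

omit [DecidableEq F] in
theorem hom_z_inv {C : Subgroup SL2} (hC : IsNonsplitTorus C) (θ : C →* ℂˣ) :
    (θ hC.z)⁻¹ = θ hC.z := by
  have hzz : (θ hC.z) * (θ hC.z) = 1 := by
    rw [← map_mul]
    have : hC.z * hC.z = 1 := by
      apply Subtype.ext
      exact negOneSL_mul_self
    rw [this, map_one]
  exact inv_eq_of_mul_eq_one_left hzz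

theorem cusp_upSL_eq {π π' : GL (Fin 2) F → ℂ} (hπ : IsCuspGL2 π) (hπ' : IsCuspGL2 π') (e : F) :
    resSL π (upSL e) = resSL π' (upSL e) := by
  by_cases he : e = 0
  · rw [he, upSL_zero, resSL_one, resSL_one, hπ.2.2.1, hπ'.2.2.1]
  · rw [cusp_apply_upSL hπ he, cusp_apply_upSL hπ' he]

/-- a cuspidal restriction is determined by its parameter up to inversion -/
theorem cusp_eq_of_param {C : Subgroup SL2} (hC : IsNonsplitTorus C) (hodd : Odd (Fintype.card F))
    {π π' : GL (Fin 2) F → ℂ} (hπ : IsCuspGL2 π) (hπ' : IsCuspGL2 π') (θ θ' : C →* ℂˣ)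
    (h : TorusParam hC (resSL π) θ) (h' : TorusParam hC (resSL π') θ') (hθ : θ' = θ ∨ θ' = θ⁻¹) :
    resSL π = resSL π' := by
  have hcf := isClassFunction_resSL_cusp hπ
  have hcf' := isClassFunction_resSL_cusp hπ'
  have hz : ((θ' hC.z : ℂˣ) : ℂ) = ((θ hC.z : ℂˣ) : ℂ) := by
    rcases hθ with rfl | rfl
    · rfl
    · rw [MonoidHom.inv_apply, hom_z_inv hC θ]
  funext g
  by_cases hell : IsElliptic g
  · obtain ⟨y, hy⟩ := hC.exists_conj_mem hodd hell
    have hcZ : y * g * y⁻¹ ∉ Subgroup.center SL2 := (isElliptic_conj hell y).not_mem_center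
    have h1 := h.1 ⟨y * g * y⁻¹, hy⟩ hcZ
    have h1' := h'.1 ⟨y * g * y⁻¹, hy⟩ hcZ
    simp only at h1 h1'
    rw [hcf g y] at h1
    rw [hcf' g y] at h1'
    rw [h1, h1']
    rcases hθ with rfl | rfl
    · rfl
    · rw [MonoidHom.inv_apply, inv_inv]
      ring
  · obtain ⟨x, a, e, rfl⟩ := exists_conj_borelMkSL' hell
    rw [hcf, hcf']
    by_cases ha : (a : F) ^ 2 = 1
    · rcases sq_eq_one_cases a ha with rfl | rfl
      · rw [borelMkSL'_one]
        exact cusp_upSL_eq hπ hπ' e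
      · rw [borelMkSL'_neg_one, h.2, h'.2, hz, cusp_upSL_eq hπ hπ']
    · rw [cusp_apply_borel_split hπ a e ha, cusp_apply_borel_split hπ' a e ha]

/-- the irreducible characters of `SL₂(F)` that are restrictions of cuspidal characters of `GL₂(F)` -/
def CuspIrr (F : Type*) [Field F] [Fintype F] [DecidableEq F] : Type _ :=
  {f : Matrix.SpecialLinearGroup (Fin 2) F → ℂ //
    IsIrrCharacter (Matrix.SpecialLinearGroup (Fin 2) F) f ∧ ∃ π : GL (Fin 2) F → ℂ, IsCuspGL2 π ∧ f = resSL π}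

instance : Finite (CuspIrr F) := by
  have hinj : Function.Injective (fun f : CuspIrr F => (⟨f.1, f.2.1⟩ : IrrCharacter SL2)) := by
    intro f g h
    apply Subtype.ext
    have h' := congrArg Subtype.val h
    exact h'
  exact Finite.of_injective _ hinj

/-- The Steinberg character is the only irreducible character of degree `q`. -/
theorem natCard_irr_deg_q' :
    Nat.card {χ : Cfsg.IrrCharacter SL2 // (χ : SL2 → ℂ) 1 = ((Fintype.card F : ℕ) : ℂ)} = 1 := by
  classical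
  rw [natCard_irr_subtype_eq_card (fun f => f 1 = ((Fintype.card F : ℕ) : ℂ)) {(stCharSL : SL2 → ℂ)}]
  · rfl
  · intro f
    rw [Finset.mem_singleton]
    constructor
    · rintro rfl
      exact ⟨isIrrCharacter_stCharSL, stCharSL_one⟩
    · rintro ⟨hf, h1⟩
      obtain ⟨k, hk, hcases⟩ := sl2_irr_classification_deg hf
      rw [hk] at h1
      have hk1 : k = Fintype.card F := by exact_mod_cast h1
      have hq : 1 < Fintype.card F := Fintype.one_lt_card
      rcases hcases with ⟨-, h⟩ | ⟨h, -⟩ | ⟨γ, -, -, h⟩ | ⟨γ, χ', δ, -, -, -, -, -, -, h⟩ |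
        ⟨π, -, -, h⟩ | ⟨π, χ', δ, -, -, -, -, -, h⟩
      · exfalso; omega
      · exact h
      all_goals (exfalso; omega)

/-- If no cuspidal restriction were irreducible, there would be just two characters of degree
`(q + 1) / 2`. -/
theorem natCard_irr_deg_half_add_of_no_cusp (hodd : Odd (Fintype.card F))
    (hno : ∀ π : GL (Fin 2) F → ℂ, IsCuspGL2 π → ¬ IsIrrCharacter SL2 (resSL π)) :
    Nat.card {χ : Cfsg.IrrCharacter SL2 // (χ : SL2 → ℂ) 1 = (((Fintype.card F + 1) / 2 : ℕ) : ℂ)} = 2 := by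
  classical
  obtain ⟨γ₀, h0, h0'⟩ := exists_mulChar_order_two hodd
  obtain ⟨χ₁, χ₂, h₁, h₂, h12, hsum, hd₁, hd₂, -⟩ := Cfsg.Agent.S2307.result hodd γ₀ h0' h0
  have hsum' : psCharSL γ₀ = χ₁ + χ₂ := hsum
  rw [natCard_irr_subtype_eq_card (fun f => f 1 = (((Fintype.card F + 1) / 2 : ℕ) : ℂ)) {χ₁, χ₂}]
  · exact Finset.card_pair h12
  · intro f
    rw [Finset.mem_insert, Finset.mem_singleton]
    constructor
    · rintro (rfl | rfl)
      · exact ⟨h₁, hd₁⟩
      · exact ⟨h₂, hd₂⟩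
    · rintro ⟨hf, h1⟩
      obtain ⟨k, hk, hcases⟩ := sl2_irr_classification_deg hf
      rw [hk] at h1
      have hk1 : k = (Fintype.card F + 1) / 2 := by exact_mod_cast h1
      have hq : 1 < Fintype.card F := Fintype.one_lt_card
      obtain ⟨m, hm⟩ := hodd
      rcases hcases with ⟨-, h⟩ | ⟨-, h⟩ | ⟨γ, -, -, h⟩ | ⟨γ, χ', δ, hγ1, hγ2, hχ', hne, hs, -, h⟩ |
        ⟨π, hπ, hfπ, h⟩ | ⟨π, χ', δ, -, -, -, -, -, h⟩
      · exfalso; omega
      · exfalso; omega
      · exfalso; omega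
      · have hγ : γ = γ₀ := mulChar_order_two_unique h0 h0' hγ1 hγ2
        rw [hγ, hsum'] at hs
        by_contra hcon
        rw [not_or] at hcon
        have e1 : Cfsg.classInner (χ₁ + χ₂) f = 0 := by
          rw [classInner_add_left, irr_classInner_ne h₁ hf (fun h => hcon.1 h.symm),
            irr_classInner_ne h₂ hf (fun h => hcon.2 h.symm), add_zero]
        rw [hs, classInner_add_left, irr_classInner_self hf, irr_classInner_ne hχ' hf hne] at e1
        norm_num at e1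
      · exfalso
        apply hno π hπ
        rw [← hfπ]
        exact hf
      · exfalso; omega

/-- For `q = 3` there is a cuspidal character of `GL₂` with irreducible restriction to `SL₂`. -/
theorem exists_cusp_irr_of_card_three (hq3 : Fintype.card F = 3) :
    ∃ π : GL (Fin 2) F → ℂ, IsCuspGL2 π ∧ IsIrrCharacter SL2 (resSL π) := by
  classical
  by_contra hcon
  have hno : ∀ π : GL (Fin 2) F → ℂ, IsCuspGL2 π → ¬ IsIrrCharacter SL2 (resSL π) := by
    intro π hπ hirr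
    exact hcon ⟨π, hπ, hirr⟩
  have hodd : Odd (Fintype.card F) := by rw [hq3]; decide
  have : Fintype (Cfsg.IrrCharacter SL2) := Fintype.ofFinite _
  have : Fintype (MulChar F ℂ) := Fintype.ofFinite _
  set c : ℕ → ℕ := fun v => Nat.card {χ : Cfsg.IrrCharacter SL2 // (χ : SL2 → ℂ) 1 = ((v : ℕ) : ℂ)} with hc
  have h2 : c 2 = 2 := by
    have := natCard_irr_deg_half_add_of_no_cusp hodd hno
    rw [hq3] at this
    exact this
  have h3 : c 3 = 1 := by
    have := natCard_irr_deg_q' (F := F)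
    rw [hq3] at this
    exact this
  have h4 : c 4 = 0 := by
    have := natCard_irr_deg_q_add_one (F := F)
    rw [card_mulChar_sq_ne_one_odd hodd, hq3] at this
    have h4' : 2 * c 4 = 0 := this
    omega
  have hs : ∑ v ∈ ({1, Fintype.card F, Fintype.card F + 1, Fintype.card F - 1,
      (Fintype.card F + 1) / 2, (Fintype.card F - 1) / 2} : Finset ℕ), c v = Fintype.card F + 4 := by
    rw [sum_natCard_deg _ degN_mem_list, card_irr_eq_card_conjClasses, card_conjClasses_sl2_odd hodd]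
  have hs2 : ∑ v ∈ ({1, Fintype.card F, Fintype.card F + 1, Fintype.card F - 1,
      (Fintype.card F + 1) / 2, (Fintype.card F - 1) / 2} : Finset ℕ), c v * v ^ 2 =
      Fintype.card F * (Fintype.card F ^ 2 - 1) := by
    rw [sum_natCard_deg_sq _ degN_mem_list, card_SL2]
  rw [hq3] at hs hs2
  have hV : ({1, 3, 3 + 1, 3 - 1, (3 + 1) / 2, (3 - 1) / 2} : Finset ℕ) = {1, 2, 3, 4} := by decide
  rw [hV] at hs hs2
  rw [Finset.sum_insert (by decide), Finset.sum_insert (by decide), Finset.sum_insert (by decide),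
    Finset.sum_singleton] at hs hs2
  rw [h2, h3, h4] at hs hs2
  omega


/-- for `q ≥ 5` the irreducible characters of degree `q - 1` are cuspidal restrictions -/
theorem cusp_of_deg (hq : 5 ≤ Fintype.card F) {χ : SL2 → ℂ} (hχ : IsIrrCharacter SL2 χ)
    (h1 : χ 1 = ((Fintype.card F - 1 : ℕ) : ℂ)) :
    ∃ π : GL (Fin 2) F → ℂ, IsCuspGL2 π ∧ χ = resSL π := by
  obtain ⟨k, hk, hcases⟩ := sl2_irr_classification_deg hχ
  rw [hk] at h1
  have hk1 : k = Fintype.card F - 1 := by exact_mod_cast h1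
  rcases hcases with ⟨-, h⟩ | ⟨-, h⟩ | ⟨γ, -, -, h⟩ | ⟨γ, χ', δ, -, -, -, -, -, -, h⟩ |
    ⟨π, hπ, hfπ, h⟩ | ⟨π, χ', δ, -, -, -, -, -, h⟩
  · exfalso; omega
  · exfalso; omega
  · exfalso; omega
  · exfalso; omega
  · exact ⟨π, hπ, hfπ⟩
  · exfalso; omega

theorem card_cuspIrr_ge (hodd : Odd (Fintype.card F)) :
    (Fintype.card F - 1) / 2 ≤ Nat.card (CuspIrr F) := by
  by_cases hq : 5 ≤ Fintype.card F
  · rw [← (natCard_irr_deg_cusp_odd hodd hq).1]
    apply Nat.card_le_card_of_injective (β := CuspIrr F)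
      (fun χ : {χ : Cfsg.IrrCharacter SL2 // (χ : SL2 → ℂ) 1 = ((Fintype.card F - 1 : ℕ) : ℂ)} =>
        (⟨χ.1.1, χ.1.2, cusp_of_deg hq χ.1.2 χ.2⟩ : CuspIrr F))
    intro χ χ' h
    apply Subtype.ext
    apply Subtype.ext
    have h' := congrArg Subtype.val h
    exact h'
  · have hq3 : Fintype.card F = 3 := by
      obtain ⟨m, hm⟩ := hodd
      have := Fintype.one_lt_card (α := F)
      omega
    rw [hq3]
    obtain ⟨π, hπ, hirr⟩ := exists_cusp_irr_of_card_three hq3
    have : Nonempty (CuspIrr F) := ⟨⟨resSL π, hirr, π, hπ, rfl⟩⟩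
    have := Nat.card_pos (α := CuspIrr F)
    omega

theorem cuspIrr_exists_param {C : Subgroup SL2} (hC : IsNonsplitTorus C) (hcyc : IsCyclic C)
    (hodd : Odd (Fintype.card F)) (f : CuspIrr F) :
    ∃ θ : C →* ℂˣ, (∃ c : C, θ c ^ 2 ≠ 1) ∧ TorusParam hC f.1 θ := by
  obtain ⟨f, hf, π, hπ, rfl⟩ := f
  obtain ⟨θ, h1, h2, h3⟩ := cusp_torus_values_central hC hcyc hodd hπ hf
  exact ⟨θ, h1, h2, h3⟩

theorem cuspIrr_eq_of_param {C : Subgroup SL2} (hC : IsNonsplitTorus C) (hodd : Odd (Fintype.card F))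
    (f g : CuspIrr F) (θ θ' : C →* ℂˣ) (h : TorusParam hC f.1 θ) (h' : TorusParam hC g.1 θ')
    (hθ : θ' = θ ∨ θ' = θ⁻¹) : f = g := by
  obtain ⟨f, hf, π, hπ, rfl⟩ := f
  obtain ⟨g, hg, π', hπ', rfl⟩ := g
  apply Subtype.ext
  exact cusp_eq_of_param hC hodd hπ hπ' θ θ' h h' hθ

omit [DecidableEq F] in
theorem TorusParam.inv {C : Subgroup SL2} {hC : IsNonsplitTorus C} {f : SL2 → ℂ} {θ : C →* ℂˣ}
    (h : TorusParam hC f θ) : TorusParam hC f θ⁻¹ := by
  refine ⟨fun c hc => ?_, fun g => ?_⟩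
  · rw [h.1 c hc, MonoidHom.inv_apply, inv_inv]
    ring
  · rw [h.2 g, MonoidHom.inv_apply, hom_z_inv hC θ]

/-- **Every character `θ` of the non-split torus with `θ² ≠ 1` parametrizes a cuspidal character of
degree `q - 1`.** -/
theorem exists_cusp_of_hom {C : Subgroup SL2} (hC : IsNonsplitTorus C) (hcyc : IsCyclic C)
    (hodd : Odd (Fintype.card F)) (θ : C →* ℂˣ) (hθ : ∃ c : C, θ c ^ 2 ≠ 1) :
    ∃ π : GL (Fin 2) F → ℂ, IsCuspGL2 π ∧ IsIrrCharacter SL2 (resSL π) ∧
      TorusParam hC (resSL π) θ := by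
  classical
  have hfin : Finite C := Nat.finite_of_card_ne_zero (by rw [hC.card]; omega)
  have : Finite (C →* ℂˣ) := finite_hom_of_comm hC.comm'
  have : Fintype (C →* ℂˣ) := Fintype.ofFinite _
  set T : Finset (C →* ℂˣ) := Finset.univ.filter (fun θ => ∃ c : C, θ c ^ 2 ≠ 1) with hT
  have hmemT : ∀ φ : C →* ℂˣ, φ ∈ T ↔ ∃ c : C, φ c ^ 2 ≠ 1 := by
    intro φ
    rw [hT, Finset.mem_filter]
    exact ⟨fun h => h.2, fun h => ⟨Finset.mem_univ _, h⟩⟩
  set Θ : CuspIrr F → (C →* ℂˣ) := fun f => (cuspIrr_exists_param hC hcyc hodd f).choose with hΘ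
  have hΘspec : ∀ f, (∃ c : C, Θ f c ^ 2 ≠ 1) ∧ TorusParam hC f.1 (Θ f) :=
    fun f => (cuspIrr_exists_param hC hcyc hodd f).choose_spec
  have hcardT : T.card + 2 ≤ Nat.card C := by
    apply card_hom_sq_ne_one_le hC.comm'
    · rw [hC.card]
      obtain ⟨m, hm⟩ := hodd
      exact ⟨m + 1, by omega⟩
    · intro φ hφ
      exact (hmemT φ).mp hφ
  have hI := card_cuspIrr_ge (F := F) hodd
  have key := pigeonhole_inv Θ T (fun f => (hmemT _).mpr (hΘspec f).1) ?_ ?_ ?_ ?_ θ ((hmemT θ).mpr hθ)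
  · obtain ⟨f, hf⟩ := key
    obtain ⟨f, hfirr, π, hπ, rfl⟩ := f
    refine ⟨π, hπ, hfirr, ?_⟩
    have hp := (hΘspec ⟨resSL π, hfirr, π, hπ, rfl⟩).2
    rcases hf with hf | hf
    · rw [hf]
      exact hp
    · rw [hf]
      exact hp.inv
  · intro φ hφ
    rw [hmemT] at hφ ⊢
    obtain ⟨c, hc⟩ := hφ
    refine ⟨c, ?_⟩
    rw [MonoidHom.inv_apply, inv_pow]
    intro h
    exact hc (inv_eq_one.mp h)
  · intro φ hφ h
    rw [hmemT] at hφ
    obtain ⟨c, hc⟩ := hφ
    apply hc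
    have h1 : (φ c)⁻¹ = φ c := by
      have := congrArg (fun ψ : C →* ℂˣ => ψ c) h
      simpa using this
    rw [sq]
    nth_rewrite 1 [← h1]
    exact inv_mul_cancel _
  · intro f g h
    exact cuspIrr_eq_of_param hC hodd f g (Θ f) (Θ g) (hΘspec f).2 (hΘspec g).2 h
  · rw [hC.card] at hcardT
    obtain ⟨m, hm⟩ := hodd
    omega

/-- for `q = 3` every irreducible character of degree `2` vanishes at the elliptic elements -/
theorem deg_two_apply_elliptic_of_card_three (hq3 : Fintype.card F = 3) {χ : SL2 → ℂ}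
    (hχ : IsIrrCharacter SL2 χ) (h1 : χ 1 = 2) {g : SL2} (hg : IsElliptic g) : χ g = 0 := by
  have hodd : Odd (Fintype.card F) := by rw [hq3]; decide
  obtain ⟨k, hk, hcases⟩ := sl2_irr_classification_deg hχ
  rw [hk] at h1
  have hk1 : k = 2 := by exact_mod_cast h1
  rcases hcases with ⟨-, h⟩ | ⟨-, h⟩ | ⟨γ, -, -, h⟩ | ⟨γ, χ', δ, -, -, hχ', -, hsum, hx, h⟩ |
    ⟨π, hπ, hfπ, h⟩ | ⟨π, χ', δ, -, -, -, -, -, h⟩
  · exfalso; omega
  · exfalso; omega
  · exfalso; omega
  · have h2 : χ g = χ' g := eq_of_isElliptic hodd hχ' hx hg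
    have h3 : psCharSL γ g = 0 := psCharSL_apply_elliptic γ g hg
    rw [hsum, Pi.add_apply, ← h2] at h3
    have h4 : (2 : ℂ) * χ g = 0 := by rw [← h3]; ring
    exact (mul_eq_zero.mp h4).resolve_left two_ne_zero
  · rw [hfπ] at hχ ⊢
    exact cusp_apply_elliptic_of_card_three hq3 hπ hχ hg
  · exfalso; omega

/-- **The values of the irreducible characters of degree `q - 1` on a non-split torus.** -/
theorem irr_deg_torus_values {C : Subgroup SL2} (hC : IsNonsplitTorus C) (hcyc : IsCyclic C)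
    (hodd : Odd (Fintype.card F)) {χ : SL2 → ℂ} (hχ : IsIrrCharacter SL2 χ)
    (h1 : χ 1 = (Fintype.card F : ℂ) - 1) :
    ∃ θ : C →* ℂˣ, (∃ c : C, θ c ^ 2 ≠ 1) ∧
      ∀ c : C, (c : SL2) ∉ Subgroup.center SL2 → χ c = -((θ c).val + (θ c)⁻¹.val) := by
  have hq1 : 1 < Fintype.card F := Fintype.one_lt_card
  by_cases hq : 5 ≤ Fintype.card F
  · have h1' : χ 1 = ((Fintype.card F - 1 : ℕ) : ℂ) := by
      rw [h1, Nat.cast_sub hq1.le, Nat.cast_one]
    obtain ⟨π, hπ, rfl⟩ := cusp_of_deg hq hχ h1'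
    exact cusp_torus_values hC hcyc hodd hπ hχ
  · have hq3 : Fintype.card F = 3 := by
      obtain ⟨m, hm⟩ := hodd
      omega
    have h1' : χ 1 = 2 := by
      rw [h1, hq3]; norm_num
    obtain ⟨π, hπ, hirr⟩ := exists_cusp_irr_of_card_three hq3
    obtain ⟨θ, hθ, hval⟩ := cusp_torus_values hC hcyc hodd hπ hirr
    refine ⟨θ, hθ, fun c hc => ?_⟩
    have hell : IsElliptic (c : SL2) := hC.isElliptic c.2 hc
    rw [← hval c hc, deg_two_apply_elliptic_of_card_three hq3 hχ h1' hell,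
      cusp_apply_elliptic_of_card_three hq3 hπ hirr hell]

end Cfsg.Agent.Lib.H12
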