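import Mathlib
import Cfsg.Agent.Lib.H12.McKayCount
import Cfsg.Agent.Lib.H12.SL2CuspParam

set_option autoImplicit false

/-!
# The McKay counts of `SL₂(q)`, `q` odd
-/

namespace Cfsg.Agent.Lib.H12

open Matrix Cfsg Cfsg.Agent.Lib.L0 Cfsg.Agent.Lib.H24

section G

variable {F : Type*} [Field F] [Fintype F] [DecidableEq F]

local notation "SL2" => Matrix.SpecialLinearGroup (Fin 2) F

/-- the McKay count in terms of the six degree counts, `q = 2m + 1 ≥ 5` -/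
theorem mckay_sl2_formula (hodd : Odd (Fintype.card F)) (hq : 5 ≤ Fintype.card F) (ℓ : ℕ) (m : ℕ)
    (hm : Fintype.card F = 2 * m + 1) :
    mckay ℓ SL2 = (if ℓ ∣ 1 then 0 else 1) + (if ℓ ∣ 2 * m + 1 then 0 else 1) +
      (if ℓ ∣ 2 * m + 2 then 0 else m - 1) + (if ℓ ∣ 2 * m then 0 else m) +
      (if ℓ ∣ m + 1 then 0 else 2) + (if ℓ ∣ m then 0 else 2) := by
  classical
  have : Fintype (Cfsg.IrrCharacter SL2) := Fintype.ofFinite _
  have : Fintype (MulChar F ℂ) := Fintype.ofFinite _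
  have hm2 : 2 ≤ m := by omega
  set c : ℕ → ℕ := fun v => Nat.card {χ : Cfsg.IrrCharacter SL2 // (χ : SL2 → ℂ) 1 = (v : ℂ)} with hc
  have h1 : c 1 = 1 := natCard_irr_deg_one (by omega)
  have h2 : c (2 * m + 1) = 1 := by
    have := natCard_irr_deg_q (F := F) (by omega)
    rw [hm] at this
    exact this
  have h3 : c (2 * m + 2) = m - 1 := by
    have := natCard_irr_deg_q_add_one (F := F)
    rw [card_mulChar_sq_ne_one_odd hodd, hm] at this
    have h' : 2 * c (2 * m + 1 + 1) = 2 * m + 1 - 3 := this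
    have e : 2 * m + 1 + 1 = 2 * m + 2 := by ring
    rw [e] at h'
    omega
  have h4 : c (m + 1) = 2 := by
    have := natCard_irr_deg_half_add hodd hq
    rw [hm] at this
    have e : (2 * m + 1 + 1) / 2 = m + 1 := by omega
    rw [e] at this
    exact this
  obtain ⟨h5', h6'⟩ := natCard_irr_deg_cusp_odd hodd hq
  rw [hm] at h5' h6'
  have e1 : 2 * m + 1 - 1 = 2 * m := by omega
  have e2 : 2 * m / 2 = m := by omega
  rw [e1, e2] at h5' h6'
  have h5 : c (2 * m) = m := h5'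
  have h6 : c m = 2 := h6'
  have hV : ∀ χ : Cfsg.IrrCharacter SL2,
      degN χ ∈ ({1, 2 * m + 1, 2 * m + 2, 2 * m, m + 1, m} : Finset ℕ) := by
    intro χ
    have := degN_mem_list χ
    rw [hm] at this
    have e3 : (2 * m + 1 + 1) / 2 = m + 1 := by omega
    have e4 : 2 * m + 1 + 1 = 2 * m + 2 := by ring
    rw [e1, e2, e3, e4] at this
    exact this
  have hmk : mckay ℓ SL2 = ∑ v ∈ ({1, 2 * m + 1, 2 * m + 2, 2 * m, m + 1, m} : Finset ℕ),
      if ℓ ∣ v then 0 else c v := mckay_eq_sum ℓ _ hV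
  rw [hmk, Finset.sum_insert (by simp only [Finset.mem_insert, Finset.mem_singleton]; omega),
    Finset.sum_insert (by simp only [Finset.mem_insert, Finset.mem_singleton]; omega),
    Finset.sum_insert (by simp only [Finset.mem_insert, Finset.mem_singleton]; omega),
    Finset.sum_insert (by simp only [Finset.mem_insert, Finset.mem_singleton]; omega),
    Finset.sum_insert (by simp only [Finset.mem_insert, Finset.mem_singleton]; omega),
    Finset.sum_singleton, h1, h2, h3, h4, h5, h6]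
  ring

theorem not_dvd_one_of_prime {ℓ : ℕ} (hℓ : ℓ.Prime) : ¬ ℓ ∣ 1 :=
  fun h => hℓ.one_lt.ne' (Nat.dvd_one.mp h)

/-- if a prime divides `a` it does not divide `a + 1` -/
theorem not_dvd_succ_of_dvd {ℓ a : ℕ} (hℓ : ℓ.Prime) (h : ℓ ∣ a) : ¬ ℓ ∣ a + 1 := by
  intro h'
  have := (Nat.dvd_add_right h).mp h'
  exact not_dvd_one_of_prime hℓ this

/-- an odd prime dividing `a` does not divide `a + 2` -/
theorem not_dvd_add_two_of_dvd {ℓ a : ℕ} (hℓ : ℓ.Prime) (h2 : ℓ ≠ 2) (h : ℓ ∣ a) : ¬ ℓ ∣ a + 2 := by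
  intro h'
  have := (Nat.dvd_add_right h).mp h'
  exact h2 ((Nat.prime_dvd_prime_iff_eq hℓ Nat.prime_two).mp this)

theorem dvd_of_dvd_two_mul {ℓ a : ℕ} (hℓ : ℓ.Prime) (h2 : ℓ ≠ 2) (h : ℓ ∣ 2 * a) : ℓ ∣ a := by
  rcases (Nat.Prime.dvd_mul hℓ).mp h with h' | h'
  · exact absurd ((Nat.prime_dvd_prime_iff_eq hℓ Nat.prime_two).mp h') h2
  · exact h'

/-- **The McKay counts of `SL₂(q)`, `q ≥ 5` odd.** -/
theorem mckay_sl2_cases (hodd : Odd (Fintype.card F)) (hq : 5 ≤ Fintype.card F) (ℓ : ℕ)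
    (hℓ : ℓ.Prime) :
    (ℓ ∣ Fintype.card F → mckay ℓ SL2 = Fintype.card F + 3) ∧
    (ℓ = 2 → mckay ℓ SL2 = 4) ∧
    (ℓ ≠ 2 → ℓ ∣ Fintype.card F - 1 → 2 * mckay ℓ SL2 = Fintype.card F + 5) ∧
    (ℓ ≠ 2 → ℓ ∣ Fintype.card F + 1 → 2 * mckay ℓ SL2 = Fintype.card F + 7) := by
  obtain ⟨m, hm⟩ := hodd
  have hodd' : Odd (Fintype.card F) := ⟨m, hm⟩
  have hm2 : 2 ≤ m := by omega
  have hf := mckay_sl2_formula hodd' hq ℓ m hm
  have h1 := not_dvd_one_of_prime hℓ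
  rw [if_neg h1] at hf
  refine ⟨?_, ?_, ?_, ?_⟩
  · intro hd
    rw [hm] at hd
    have hne2 : ℓ ≠ 2 := by
      rintro rfl
      omega
    have a1 : ¬ ℓ ∣ 2 * m + 2 := by
      have := not_dvd_succ_of_dvd hℓ hd
      exact this
    have a2 : ¬ ℓ ∣ 2 * m := by
      intro h'
      exact not_dvd_succ_of_dvd hℓ h' hd
    have a3 : ¬ ℓ ∣ m + 1 := by
      intro h'
      apply a1
      have : 2 * m + 2 = 2 * (m + 1) := by ring
      rw [this]
      exact Dvd.dvd.mul_left h' 2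
    have a4 : ¬ ℓ ∣ m := fun h' => a2 (Dvd.dvd.mul_left h' 2)
    rw [if_pos hd, if_neg a1, if_neg a2, if_neg a3, if_neg a4] at hf
    rw [hf, hm]
    omega
  · rintro rfl
    have a1 : ¬ 2 ∣ 2 * m + 1 := by omega
    have a2 : 2 ∣ 2 * m + 2 := by omega
    have a3 : 2 ∣ 2 * m := by omega
    rw [if_neg a1, if_pos a2, if_pos a3] at hf
    rw [hf]
    rcases Nat.even_or_odd m with ⟨k, hk⟩ | ⟨k, hk⟩
    · have b1 : ¬ 2 ∣ m + 1 := by omega
      have b2 : 2 ∣ m := by omega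
      rw [if_neg b1, if_pos b2]
    · have b1 : 2 ∣ m + 1 := by omega
      have b2 : ¬ 2 ∣ m := by omega
      rw [if_pos b1, if_neg b2]
  · intro hne2 hd
    rw [hm] at hd
    have e1 : 2 * m + 1 - 1 = 2 * m := by omega
    rw [e1] at hd
    have hdm : ℓ ∣ m := dvd_of_dvd_two_mul hℓ hne2 hd
    have a1 : ¬ ℓ ∣ 2 * m + 1 := not_dvd_succ_of_dvd hℓ hd
    have a2 : ¬ ℓ ∣ 2 * m + 2 := not_dvd_add_two_of_dvd hℓ hne2 hd
    have a3 : ¬ ℓ ∣ m + 1 := not_dvd_succ_of_dvd hℓ hdm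
    rw [if_neg a1, if_neg a2, if_pos hd, if_neg a3, if_pos hdm] at hf
    rw [hf, hm]
    omega
  · intro hne2 hd
    rw [hm] at hd
    have e1 : 2 * m + 1 + 1 = 2 * (m + 1) := by ring
    rw [e1] at hd
    have hdm : ℓ ∣ m + 1 := dvd_of_dvd_two_mul hℓ hne2 hd
    have hd' : ℓ ∣ 2 * m + 2 := by
      have : 2 * m + 2 = 2 * (m + 1) := by ring
      rw [this]; exact hd
    have a1 : ¬ ℓ ∣ 2 * m + 1 := by
      intro h'
      exact not_dvd_succ_of_dvd hℓ h' hd'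
    have a2 : ¬ ℓ ∣ 2 * m := by
      intro h'
      exact not_dvd_add_two_of_dvd hℓ hne2 h' hd'
    have a3 : ¬ ℓ ∣ m := by
      intro h'
      exact not_dvd_succ_of_dvd hℓ h' hdm
    rw [if_neg a1, if_pos hd', if_neg a2, if_pos hdm, if_neg a3] at hf
    rw [hf, hm]
    omega

/-- **The McKay counts of `SL₂(3)`.** -/
theorem mckay_sl2_card_three (hq3 : Fintype.card F = 3) :
    mckay 2 SL2 = 4 ∧ mckay 3 SL2 = 6 := by
  classical
  have hodd : Odd (Fintype.card F) := by rw [hq3]; decide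
  have : Fintype (Cfsg.IrrCharacter SL2) := Fintype.ofFinite _
  have : Fintype (MulChar F ℂ) := Fintype.ofFinite _
  set c : ℕ → ℕ := fun v => Nat.card {χ : Cfsg.IrrCharacter SL2 // (χ : SL2 → ℂ) 1 = ((v : ℕ) : ℂ)} with hc
  have h3 : c 3 = 1 := by
    have := natCard_irr_deg_q' (F := F)
    rw [hq3] at this
    exact this
  have h4 : c 4 = 0 := by
    have := natCard_irr_deg_q_add_one (F := F)
    rw [card_mulChar_sq_ne_one_odd hodd, hq3] at this
    have h4' : 2 * c 4 = 0 := this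
    omega
  have hV : ∀ χ : Cfsg.IrrCharacter SL2, degN χ ∈ ({1, 2, 3, 4} : Finset ℕ) := by
    intro χ
    have := degN_mem_list χ
    rw [hq3] at this
    have hV' : ({1, 3, 3 + 1, 3 - 1, (3 + 1) / 2, (3 - 1) / 2} : Finset ℕ) = {1, 2, 3, 4} := by decide
    rwa [hV'] at this
  have hs : ∑ v ∈ ({1, 2, 3, 4} : Finset ℕ), c v = Nat.card (Cfsg.IrrCharacter SL2) :=
    sum_natCard_deg _ hV
  have hs2 : ∑ v ∈ ({1, 2, 3, 4} : Finset ℕ), c v * v ^ 2 = Nat.card SL2 :=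
    sum_natCard_deg_sq _ hV
  rw [card_irr_eq_card_conjClasses, card_conjClasses_sl2_odd hodd, hq3] at hs
  rw [card_SL2, hq3] at hs2
  have hm2 : mckay 2 SL2 = ∑ v ∈ ({1, 2, 3, 4} : Finset ℕ), if 2 ∣ v then 0 else c v :=
    mckay_eq_sum 2 _ hV
  have hm3 : mckay 3 SL2 = ∑ v ∈ ({1, 2, 3, 4} : Finset ℕ), if 3 ∣ v then 0 else c v :=
    mckay_eq_sum 3 _ hV
  rw [Finset.sum_insert (by decide), Finset.sum_insert (by decide), Finset.sum_insert (by decide),
    Finset.sum_singleton] at hs hs2 hm2 hm3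
  rw [if_neg (by decide), if_pos (by decide), if_neg (by decide), if_pos (by decide)] at hm2
  rw [if_neg (by decide), if_neg (by decide), if_pos (by decide), if_neg (by decide)] at hm3
  rw [h3, h4] at hs hs2
  rw [hm2, hm3, h3, h4]
  constructor <;> omega

end G

end Cfsg.Agent.Lib.H12
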