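import Mathlib
import Cfsg.Agent.Lib.H12.SL2Reg

set_option autoImplicit false

/-!
# Products of two elements of prescribed trace in `SL₂(F)`

Every non-scalar element of `SL₂(F)` (`F` finite of odd order) is, up to sign, a product of two
elements of trace `t`, for each `t ≠ 0`.
-/

namespace Cfsg.Agent.Lib.H12

open Matrix

variable {F : Type*} [Field F]

local notation "SL2" => Matrix.SpecialLinearGroup (Fin 2) F
local notation "M2" => Matrix (Fin 2) (Fin 2) F

/-! ### Conjugation by an invertible matrix -/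

/-- conjugation of an element of `SL₂` by an invertible matrix -/
noncomputable def conjMat (P : M2) (hP : P.det ≠ 0) (A : SL2) : SL2 :=
  ⟨P * (A : M2) * P⁻¹, by
    rw [Matrix.det_mul, Matrix.det_mul, Matrix.det_nonsing_inv, A.det_coe, mul_one,
      Ring.inverse_eq_inv', mul_inv_cancel₀ hP]⟩

theorem conjMat_val (P : M2) (hP : P.det ≠ 0) (A : SL2) :
    ((conjMat P hP A : SL2) : M2) = P * (A : M2) * P⁻¹ := rfl

theorem conjMat_mul (P : M2) (hP : P.det ≠ 0) (A B : SL2) :
    conjMat P hP (A * B) = conjMat P hP A * conjMat P hP B := by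
  apply Subtype.ext
  rw [Matrix.SpecialLinearGroup.coe_mul, conjMat_val, conjMat_val, conjMat_val,
    Matrix.SpecialLinearGroup.coe_mul]
  have hPu : IsUnit P.det := isUnit_iff_ne_zero.mpr hP
  calc P * ((A : M2) * (B : M2)) * P⁻¹ = P * (A : M2) * (1 : M2) * (B : M2) * P⁻¹ := by
        simp only [Matrix.mul_one, Matrix.mul_assoc]
    _ = P * (A : M2) * (P⁻¹ * P) * (B : M2) * P⁻¹ := by rw [Matrix.nonsing_inv_mul _ hPu]
    _ = P * (A : M2) * P⁻¹ * (P * (B : M2) * P⁻¹) := by simp only [Matrix.mul_assoc]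

theorem conjMat_neg (P : M2) (hP : P.det ≠ 0) (A : SL2) :
    conjMat P hP (-A) = -conjMat P hP A := by
  apply Subtype.ext
  rw [Matrix.SpecialLinearGroup.coe_neg, conjMat_val, conjMat_val, Matrix.SpecialLinearGroup.coe_neg]
  simp

theorem trace_conjMat (P : M2) (hP : P.det ≠ 0) (A : SL2) :
    ((conjMat P hP A : SL2) : M2).trace = (A : M2).trace := by
  have hPu : IsUnit P.det := isUnit_iff_ne_zero.mpr hP
  rw [conjMat_val, Matrix.trace_mul_comm, ← Matrix.mul_assoc, Matrix.nonsing_inv_mul _ hPu,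
    Matrix.one_mul]

theorem eq_conjMat (P : M2) (hP : P.det ≠ 0) (g C : SL2) (h : (g : M2) * P = P * (C : M2)) :
    g = conjMat P hP C := by
  have hPu : IsUnit P.det := isUnit_iff_ne_zero.mpr hP
  apply Subtype.ext
  rw [conjMat_val, ← h, Matrix.mul_assoc, Matrix.mul_nonsing_inv _ hPu, Matrix.mul_one]

/-- every non-scalar element is conjugate to the companion matrix by an invertible matrix -/
theorem exists_eq_conjMat_sl2Comp (g : SL2) (hg : NonScalar (g : M2)) :
    ∃ (P : M2) (hP : P.det ≠ 0), g = conjMat P hP (sl2Comp (g : M2).trace) := by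
  obtain ⟨x, y, hxy⟩ := exists_cycMat_det_ne_zero _ hg
  refine ⟨cycMat (g : M2) x y, hxy, ?_⟩
  apply eq_conjMat
  have := mul_cycMat (g : M2) x y
  rw [g.det_coe] at this
  exact this

/-! ### The conic -/

/-- The conic `a² - s a b + b² - t a + τ b + 1 = 0` has a point for `τ = t` or `τ = -t`. -/
theorem exists_conic_point [Fintype F] (hodd : Odd (Fintype.card F)) (s t : F) (ht : t ≠ 0) :
    ∃ τ a b : F, (τ = t ∨ τ = -t) ∧ a ^ 2 - s * a * b + b ^ 2 - t * a + τ * b + 1 = 0 := by
  have h2 : (2 : F) ≠ 0 := two_ne_zero_of_odd hodd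
  by_cases hs : s ^ 2 = 4
  · have hs' : (s - 2) * (s + 2) = 0 := by linear_combination hs
    rcases mul_eq_zero.mp hs' with h | h
    · have hs2 : s = 2 := sub_eq_zero.mp h
      refine ⟨-t, 1 / (2 * t), 1 / (2 * t), Or.inr rfl, ?_⟩
      rw [hs2]
      field_simp
      ring
    · have hs2 : s = -2 := eq_neg_of_add_eq_zero_left h
      refine ⟨t, 1 / (2 * t), -(1 / (2 * t)), Or.inl rfl, ?_⟩
      rw [hs2]
      field_simp
      ring
  · have hD : (4 : F) - s ^ 2 ≠ 0 := fun h => hs (sub_eq_zero.mp h).symm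
    set α := (2 * t - s * t) / (4 - s ^ 2) with hα
    set β := (s * t - 2 * t) / (4 - s ^ 2) with hβ
    have h1 : 2 * α - s * β - t = 0 := by
      rw [hα, hβ]
      field_simp
      ring
    have h2' : 2 * β - s * α + t = 0 := by
      rw [hα, hβ]
      field_simp
      ring
    have hdisc : (-s) ^ 2 - 4 * 1 * 1 ≠ 0 := by
      intro h
      apply hs
      linear_combination h
    obtain ⟨u, v, huv⟩ := binary_form_universal hodd 1 (-s) 1
      (-(α ^ 2 - s * α * β + β ^ 2 - t * α + t * β + 1)) hdisc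
    refine ⟨t, u + α, v + β, Or.inl rfl, ?_⟩
    linear_combination huv + u * h1 + v * h2'

/-- Every non-scalar element of `SL₂(F)` is, up to sign, a product of two elements of trace `t`. -/
theorem exists_mul_of_trace [Fintype F] (hodd : Odd (Fintype.card F)) (g : SL2)
    (hg : NonScalar (g : M2)) (t : F) (ht : t ≠ 0) :
    ∃ A B : SL2, (A : M2).trace = t ∧ (B : M2).trace = t ∧ (g = A * B ∨ g = -(A * B)) := by
  obtain ⟨P, hP, hgP⟩ := exists_eq_conjMat_sl2Comp g hg
  set s := (g : M2).trace with hs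
  obtain ⟨τ, a, b, hτ, hab⟩ := exists_conic_point hodd s t ht
  have hdetA : (!![a, b; τ + b - a * s, t - a] : M2).det = 1 := by
    rw [Matrix.det_fin_two_of]
    linear_combination (-1 : F) * hab
  let A₀ : SL2 := ⟨!![a, b; τ + b - a * s, t - a], hdetA⟩
  have hdetB : (!![-b, -(t - a) - b * s; a, (τ + b - a * s) + a * s] : M2).det = 1 := by
    rw [Matrix.det_fin_two_of]
    linear_combination (-1 : F) * hab
  let B₀ : SL2 := ⟨!![-b, -(t - a) - b * s; a, (τ + b - a * s) + a * s], hdetB⟩
  have hAB : sl2Comp s = A₀ * B₀ := by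
    apply Subtype.ext
    rw [Matrix.SpecialLinearGroup.coe_mul, sl2Comp_val']
    show !![0, -1; 1, s] = (!![a, b; τ + b - a * s, t - a] : M2) *
      !![-b, -(t - a) - b * s; a, (τ + b - a * s) + a * s]
    rw [Matrix.det_fin_two_of] at hdetA
    ext i j
    fin_cases i <;> fin_cases j <;> simp [Matrix.mul_apply, Fin.sum_univ_two]
    · ring
    · linear_combination hdetA
    · linear_combination (-1 : F) * hdetA
    · linear_combination (-s) * hdetA
  have htrA : (A₀ : M2).trace = t := by
    show (!![a, b; τ + b - a * s, t - a] : M2).trace = t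
    rw [Matrix.trace_fin_two_of]
    ring
  have htrB : (B₀ : M2).trace = τ := by
    show (!![-b, -(t - a) - b * s; a, (τ + b - a * s) + a * s] : M2).trace = τ
    rw [Matrix.trace_fin_two_of]
    ring
  rcases hτ with h | h
  · refine ⟨conjMat P hP A₀, conjMat P hP B₀, ?_, ?_, Or.inl ?_⟩
    · rw [trace_conjMat, htrA]
    · rw [trace_conjMat, htrB, h]
    · rw [← conjMat_mul, ← hAB]
      exact hgP
  · refine ⟨conjMat P hP A₀, conjMat P hP (-B₀), ?_, ?_, Or.inr ?_⟩
    · rw [trace_conjMat, htrA]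
    · rw [trace_conjMat, Matrix.SpecialLinearGroup.coe_neg, Matrix.trace_neg, htrB, h, neg_neg]
    · rw [← conjMat_mul, mul_neg, conjMat_neg, neg_neg, ← hAB]
      exact hgP

end Cfsg.Agent.Lib.H12
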