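import Mathlib
import Cfsg.Agent.Lib.H12.SL2Prod

set_option autoImplicit false

/-!
# Products of two elements of prescribed trace in `SL₂(F)`: the general algebraic step
-/

namespace Cfsg.Agent.Lib.H12

open Matrix

variable {F : Type*} [Field F]

local notation "SL2" => Matrix.SpecialLinearGroup (Fin 2) F
local notation "M2" => Matrix (Fin 2) (Fin 2) F

/-- A point of the conic `a² - s a b + b² - t a + τ b + 1 = 0`, `s = tr g`, gives a factorisation
`g = A B` with `tr A = t`, `tr B = τ`. -/
theorem exists_mul_of_conic (g : SL2) (hg : NonScalar (g : M2)) (t τ a b : F)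
    (hab : a ^ 2 - (g : M2).trace * a * b + b ^ 2 - t * a + τ * b + 1 = 0) :
    ∃ A B : SL2, (A : M2).trace = t ∧ (B : M2).trace = τ ∧ g = A * B := by
  obtain ⟨P, hP, hgP⟩ := exists_eq_conjMat_sl2Comp g hg
  set s := (g : M2).trace with hs
  have hdetA : (!![a, b; τ + b - a * s, t - a] : M2).det = 1 := by
    rw [Matrix.det_fin_two_of]
    linear_combination (-1 : F) * hab
  let A₀ : SL2 := ⟨!![a, b; τ + b - a * s, t - a], hdetA⟩
  have hdetB : (!![-b, -(t - a) - b * s; a, (τ + b - a * s) + a * s] : M2).det = 1 := by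
    rw [Matrix.det_fin_two_of]
    linear_combination (-1 : F) * hab
  let B₀ : SL2 := ⟨!![-b, -(t - a) - b * s; a, (τ + b - a * s) + a * s], hdetB⟩
  have hAB : sl2Comp s = A₀ * B₀ := by
    apply Subtype.ext
    rw [Matrix.SpecialLinearGroup.coe_mul, sl2Comp_val']
    show !![0, -1; 1, s] = (!![a, b; τ + b - a * s, t - a] : M2) *
      !![-b, -(t - a) - b * s; a, (τ + b - a * s) + a * s]
    rw [Matrix.det_fin_two_of] at hdetA
    ext i j
    fin_cases i <;> fin_cases j <;> simp [Matrix.mul_apply, Fin.sum_univ_two]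
    · ring
    · linear_combination hdetA
    · linear_combination (-1 : F) * hdetA
    · linear_combination (-s) * hdetA
  have htrA : (A₀ : M2).trace = t := by
    show (!![a, b; τ + b - a * s, t - a] : M2).trace = t
    rw [Matrix.trace_fin_two_of]
    ring
  have htrB : (B₀ : M2).trace = τ := by
    show (!![-b, -(t - a) - b * s; a, (τ + b - a * s) + a * s] : M2).trace = τ
    rw [Matrix.trace_fin_two_of]
    ring
  refine ⟨conjMat P hP A₀, conjMat P hP B₀, ?_, ?_, ?_⟩
  · rw [trace_conjMat, htrA]
  · rw [trace_conjMat, htrB]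
  · rw [← conjMat_mul, ← hAB]
    exact hgP

/-- In characteristic two, the conic has a point when `X² - tX + 1` has a root. -/
theorem exists_conic_point_char_two [CharP F 2] (hF : ∀ a : F, IsSquare a) (s t r : F)
    (hr : r ^ 2 - t * r + 1 = 0) :
    ∃ a b : F, a ^ 2 - s * a * b + b ^ 2 - t * a + t * b + 1 = 0 := by
  have h20 : (2 : F) = 0 := CharTwo.two_eq_zero
  by_cases hs : s = 0
  · refine ⟨r, 0, ?_⟩
    rw [hs]
    linear_combination hr
  · set α := t / s with hα
    have h1 : 2 * α - s * α - t = 0 := by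
      have e : 2 * α - s * α - t = 2 * (α - t) := by
        rw [hα]
        field_simp
        ring
      rw [e, h20, zero_mul]
    have h2' : 2 * α - s * α + t = 0 := by
      have : 2 * α - s * α + t = (2 * α - s * α - t) + 2 * t := by ring
      rw [this, h1, h20]
      ring
    obtain ⟨u, hu⟩ := hF (-(α ^ 2 - s * α * α + α ^ 2 - t * α + t * α + 1))
    refine ⟨u + α, 0 + α, ?_⟩
    linear_combination (-1 : F) * hu + u * h1 + 0 * h2'

end Cfsg.Agent.Lib.H12
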