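import Mathlib
import Cfsg.Agent.Lib.H2.SLGen
import Cfsg.Agent.Lib.H12.CardSL

set_option autoImplicit false

/-!
# The rank-one Steinberg presentation of `SL₂` over a finite field (helper12)
-/

namespace Cfsg.Agent.Lib.H12.StPres

open Matrix

variable {K : Type*} [Field K]

/-- The relators of the rank-one Steinberg presentation. -/
def stRels (K : Type*) [Field K] : Set (FreeGroup (Bool × K)) :=
  {g : FreeGroup (Bool × K) | ∃ (b : Bool) (t u : K), g = FreeGroup.of (b, t) * FreeGroup.of (b, u) * (FreeGroup.of (b, t + u))⁻¹} ∪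
    {g | ∃ (b : Bool) (t u : K), t ≠ 0 ∧
      g = (FreeGroup.of (b, t) * FreeGroup.of (!b, -t⁻¹) * FreeGroup.of (b, t)) * FreeGroup.of (b, u) *
            (FreeGroup.of (b, t) * FreeGroup.of (!b, -t⁻¹) * FreeGroup.of (b, t))⁻¹ * (FreeGroup.of (!b, -(t⁻¹ ^ 2 * u)))⁻¹}

/-- The presented group. -/
abbrev St (K : Type*) [Field K] := PresentedGroup (stRels K)

/-- The generators. -/
def X (b : Bool) (t : K) : St K := PresentedGroup.of (b, t)

/-- The elements `w_b(t) = x_b(t) x_{!b}(-t⁻¹) x_b(t)`. -/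
def W (b : Bool) (t : K) : St K := X b t * X (!b) (-t⁻¹) * X b t

theorem X_add (b : Bool) (t u : K) : X b t * X b u = X b (t + u) := by
  have h : (FreeGroup.of (b, t) * FreeGroup.of (b, u) * (FreeGroup.of (b, t + u))⁻¹ :
      FreeGroup (Bool × K)) ∈ stRels K := Or.inl ⟨b, t, u, rfl⟩
  have h1 := PresentedGroup.one_of_mem h
  rw [map_mul, map_mul, map_inv] at h1
  exact mul_inv_eq_one.mp h1

theorem W_conj (b : Bool) {t : K} (ht : t ≠ 0) (u : K) :
    W b t * X b u * (W b t)⁻¹ = X (!b) (-(t⁻¹ ^ 2 * u)) := by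
  have h : ((FreeGroup.of (b, t) * FreeGroup.of (!b, -t⁻¹) * FreeGroup.of (b, t)) * FreeGroup.of (b, u) *
      (FreeGroup.of (b, t) * FreeGroup.of (!b, -t⁻¹) * FreeGroup.of (b, t))⁻¹ *
      (FreeGroup.of (!b, -(t⁻¹ ^ 2 * u)))⁻¹ : FreeGroup (Bool × K)) ∈ stRels K :=
    Or.inr ⟨b, t, u, ht, rfl⟩
  have h1 := PresentedGroup.one_of_mem h
  simp only [map_mul, map_inv] at h1
  exact mul_inv_eq_one.mp h1

theorem X_zero (b : Bool) : X b (0 : K) = 1 := by
  have := X_add b (0 : K) 0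
  rw [add_zero] at this
  exact mul_eq_left.mp this

theorem X_neg (b : Bool) (t : K) : (X b t)⁻¹ = X b (-t) := by
  apply inv_eq_of_mul_eq_one_right
  rw [X_add, add_neg_cancel, X_zero]

theorem X_comm (b : Bool) (t u : K) : X b t * X b u = X b u * X b t := by
  rw [X_add, X_add, add_comm]

theorem W_inv (b : Bool) (t : K) : (W b t)⁻¹ = W b (-t) := by
  unfold W
  rw [_root_.mul_inv_rev, _root_.mul_inv_rev, X_neg, X_neg, mul_assoc, inv_neg, neg_neg]

/-- `w_b(t)` conjugates the opposite root group back. -/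
theorem W_conj' (b : Bool) {t : K} (ht : t ≠ 0) (v : K) :
    W b t * X (!b) v * (W b t)⁻¹ = X b (-(t ^ 2 * v)) := by
  have h := W_conj b (neg_ne_zero.mpr ht) (-(t ^ 2 * v))
  rw [← W_inv, inv_inv] at h
  have e : -((-t)⁻¹ ^ 2 * -(t ^ 2 * v)) = v := by
    field_simp
  rw [e] at h
  rw [← h]
  group

theorem W_swap (b : Bool) {t : K} (ht : t ≠ 0) : W b t = W (!b) (-t⁻¹) := by
  have h1 : W b t = (W b t * X b t * (W b t)⁻¹) * (W b t * X (!b) (-t⁻¹) * (W b t)⁻¹) *
      (W b t * X b t * (W b t)⁻¹) := by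
    have : W b t = W b t * (X b t * X (!b) (-t⁻¹) * X b t) * (W b t)⁻¹ := by
      show W b t = W b t * W b t * (W b t)⁻¹
      group
    nth_rewrite 1 [this]
    group
  rw [W_conj b ht, W_conj' b ht] at h1
  rw [h1]
  unfold W
  have e1 : -(t⁻¹ ^ 2 * t) = -t⁻¹ := by field_simp
  have e2 : -(t ^ 2 * -t⁻¹) = t := by field_simp
  have e3 : -(-t⁻¹)⁻¹ = t := by field_simp
  rw [e1, e2, e3, Bool.not_not]

local notation "xx" => X true
local notation "yy" => X false
local notation "ww" => W true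

theorem w_conj_x {t : K} (ht : t ≠ 0) (u : K) :
    ww t * xx u * (ww t)⁻¹ = yy (-(t⁻¹ ^ 2 * u)) := W_conj true ht u

theorem w_conj_y {t : K} (ht : t ≠ 0) (v : K) :
    ww t * yy v * (ww t)⁻¹ = xx (-(t ^ 2 * v)) := W_conj' true ht v

theorem w_inv (t : K) : (ww t)⁻¹ = ww (-t) := W_inv true t

theorem Wfalse_eq {s : K} (hs : s ≠ 0) : W false s = ww (-s⁻¹) := W_swap false hs

theorem w_def (t : K) : ww t = xx t * yy (-t⁻¹) * xx t := rfl

theorem w_conj_w {t u : K} (ht : t ≠ 0) (hu : u ≠ 0) :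
    ww t * ww u * (ww t)⁻¹ = ww (t ^ 2 * u⁻¹) := by
  have h1 : ww t * ww u * (ww t)⁻¹ = (ww t * xx u * (ww t)⁻¹) * (ww t * yy (-u⁻¹) * (ww t)⁻¹) *
      (ww t * xx u * (ww t)⁻¹) := by
    rw [w_def u]
    group
  rw [h1, w_conj_x ht, w_conj_y ht]
  have hs : -(t⁻¹ ^ 2 * u) ≠ 0 := by
    simp [ht, hu]
  have e : ww (t ^ 2 * u⁻¹) = W false (-(t⁻¹ ^ 2 * u)) := by
    rw [Wfalse_eq hs]
    congr 1
    field_simp
  rw [e]
  unfold W
  have e2 : -(-(t⁻¹ ^ 2 * u))⁻¹ = -(t ^ 2 * -u⁻¹) := by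
    field_simp
  rw [e2]
  rfl

theorem y_eq {c : K} (hc : c ≠ 0) : yy c = xx c⁻¹ * ww (-c⁻¹) * xx c⁻¹ := by
  rw [w_def]
  have e : -(-c⁻¹)⁻¹ = c := by field_simp
  rw [e]
  have h1 : xx c⁻¹ * xx (-c⁻¹) = (1 : St K) := by rw [X_add, add_neg_cancel, X_zero]
  have h2 : xx (-c⁻¹) * xx c⁻¹ = (1 : St K) := by rw [X_add, neg_add_cancel, X_zero]
  calc yy c = (xx c⁻¹ * xx (-c⁻¹)) * yy c * (xx (-c⁻¹) * xx c⁻¹) := by rw [h1, h2, one_mul, mul_one]
    _ = xx c⁻¹ * (xx (-c⁻¹) * yy c * xx (-c⁻¹)) * xx c⁻¹ := by group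

/-- The torus elements. -/
def h (t : K) : St K := ww t * ww (-1)

theorem h_one : h (1 : K) = 1 := by
  unfold h
  rw [← w_inv, mul_inv_cancel]

theorem w_eq_h (s : K) : ww s = h s * ww 1 := by
  unfold h
  rw [← w_inv]
  group

theorem h_conj_x {t : K} (ht : t ≠ 0) (u : K) : h t * xx u * (h t)⁻¹ = xx (t ^ 2 * u) := by
  have h1 : h t * xx u * (h t)⁻¹ = ww t * (ww (-1) * xx u * (ww (-1))⁻¹) * (ww t)⁻¹ := by
    unfold h
    group
  rw [h1, w_conj_x (neg_ne_zero.mpr one_ne_zero), w_conj_y ht]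
  congr 1
  field_simp

theorem h_conj_y {t : K} (ht : t ≠ 0) (u : K) : h t * yy u * (h t)⁻¹ = yy (t⁻¹ ^ 2 * u) := by
  have h1 : h t * yy u * (h t)⁻¹ = ww t * (ww (-1) * yy u * (ww (-1))⁻¹) * (ww t)⁻¹ := by
    unfold h
    group
  rw [h1, w_conj_y (neg_ne_zero.mpr one_ne_zero), w_conj_x ht]
  congr 1
  field_simp

theorem h_conj_w {t u : K} (ht : t ≠ 0) (hu : u ≠ 0) : h t * ww u * (h t)⁻¹ = ww (t ^ 2 * u) := by
  have h1 : h t * ww u * (h t)⁻¹ = ww t * (ww (-1) * ww u * (ww (-1))⁻¹) * (ww t)⁻¹ := by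
    unfold h
    group
  rw [h1, w_conj_w (neg_ne_zero.mpr one_ne_zero) hu, w_conj_w ht (by simp [hu])]
  congr 1
  field_simp

theorem h_conj_h {t u : K} (ht : t ≠ 0) (hu : u ≠ 0) :
    h t * h u * (h t)⁻¹ = h (t ^ 2 * u) * (h (t ^ 2))⁻¹ := by
  have h1 : h t * h u * (h t)⁻¹ = (h t * ww u * (h t)⁻¹) * (h t * ww (-1) * (h t)⁻¹) := by
    nth_rewrite 2 [h]
    group
  rw [h1, h_conj_w ht hu, h_conj_w ht (neg_ne_zero.mpr one_ne_zero)]
  unfold h
  have e : t ^ 2 * (-1 : K) = -(t ^ 2) := by ring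
  rw [e, ← w_inv (t ^ 2)]
  group

theorem w_one_conj_h {s : K} (hs : s ≠ 0) : ww 1 * h s * (ww 1)⁻¹ = h s⁻¹ := by
  have h1 : ww (1 : K) * h s * (ww 1)⁻¹ = (ww 1 * ww s * (ww 1)⁻¹) * ww (-1) := by
    unfold h
    rw [← w_inv (1 : K)]
    group
  rw [h1, w_conj_w one_ne_zero hs]
  unfold h
  congr 2
  ring

/-! ### The map to `SL₂(K)` -/

local notation "SL2" => Matrix.SpecialLinearGroup (Fin 2) K

/-- Upper unitriangular matrices. -/
def upM (t : K) : SL2 := ⟨!![1, t; 0, 1], by simp [Matrix.det_fin_two_of]⟩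

/-- Lower unitriangular matrices. -/
def loM (t : K) : SL2 := ⟨!![1, 0; t, 1], by simp [Matrix.det_fin_two_of]⟩

@[simp] theorem upM_val (t : K) : ((upM t : SL2) : Matrix (Fin 2) (Fin 2) K) = !![1, t; 0, 1] := rfl

@[simp] theorem loM_val (t : K) : ((loM t : SL2) : Matrix (Fin 2) (Fin 2) K) = !![1, 0; t, 1] := rfl

/-- The images of the generators. -/
def gen (p : Bool × K) : SL2 := if p.1 then upM p.2 else loM p.2

theorem gen_true (t : K) : gen (true, t) = upM t := rfl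

theorem gen_false (t : K) : gen (false, t) = loM t := rfl

theorem sl2_ext {A B : SL2} (h00 : (A : Matrix (Fin 2) (Fin 2) K) 0 0 = (B : Matrix (Fin 2) (Fin 2) K) 0 0)
    (h01 : (A : Matrix (Fin 2) (Fin 2) K) 0 1 = (B : Matrix (Fin 2) (Fin 2) K) 0 1)
    (h10 : (A : Matrix (Fin 2) (Fin 2) K) 1 0 = (B : Matrix (Fin 2) (Fin 2) K) 1 0)
    (h11 : (A : Matrix (Fin 2) (Fin 2) K) 1 1 = (B : Matrix (Fin 2) (Fin 2) K) 1 1) : A = B := by
  apply Subtype.ext
  ext i j
  fin_cases i <;> fin_cases j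
  · exact h00
  · exact h01
  · exact h10
  · exact h11

theorem gen_add (b : Bool) (t u : K) : gen (b, t) * gen (b, u) = gen (b, t + u) := by
  cases b
  · rw [gen_false, gen_false, gen_false]
    apply sl2_ext <;>
      simp [Matrix.SpecialLinearGroup.coe_mul, Matrix.mul_apply, Fin.sum_univ_two, add_comm]
  · rw [gen_true, gen_true, gen_true]
    apply sl2_ext <;>
      simp [Matrix.SpecialLinearGroup.coe_mul, Matrix.mul_apply, Fin.sum_univ_two, add_comm]

theorem gen_conj (b : Bool) {t : K} (ht : t ≠ 0) (u : K) :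
    (gen (b, t) * gen (!b, -t⁻¹) * gen (b, t)) * gen (b, u) =
      gen (!b, -(t⁻¹ ^ 2 * u)) * (gen (b, t) * gen (!b, -t⁻¹) * gen (b, t)) := by
  cases b
  · simp only [Bool.not_false, gen_false, gen_true]
    apply Subtype.ext
    simp only [Matrix.SpecialLinearGroup.coe_mul, upM_val, loM_val, Matrix.mul_fin_two]
    congr 1
    ext i j
    fin_cases i <;> fin_cases j <;>
      simp only [Fin.zero_eta, Fin.mk_one, Matrix.cons_val', Matrix.cons_val_zero, Matrix.cons_val_one,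
        Matrix.cons_val_fin_one, Matrix.empty_val', Fin.isValue] <;> field_simp <;> ring
  · simp only [Bool.not_true, gen_false, gen_true]
    apply Subtype.ext
    simp only [Matrix.SpecialLinearGroup.coe_mul, upM_val, loM_val, Matrix.mul_fin_two]
    congr 1
    ext i j
    fin_cases i <;> fin_cases j <;>
      simp only [Fin.zero_eta, Fin.mk_one, Matrix.cons_val', Matrix.cons_val_zero, Matrix.cons_val_one,
        Matrix.cons_val_fin_one, Matrix.empty_val', Fin.isValue] <;> field_simp <;> ring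

theorem lift_gen_rels : ∀ r ∈ stRels K, FreeGroup.lift (gen (K := K)) r = 1 := by
  rintro r (⟨b, t, u, rfl⟩ | ⟨b, t, u, ht, rfl⟩)
  · simp only [map_mul, map_inv, FreeGroup.lift_apply_of]
    rw [gen_add, mul_inv_cancel]
  · simp only [map_mul, map_inv, FreeGroup.lift_apply_of]
    rw [gen_conj b ht u]
    group

/-- The canonical homomorphism onto `SL₂(K)`. -/
def toSL : St K →* SL2 := PresentedGroup.toGroup lift_gen_rels

theorem toSL_x (t : K) : toSL (xx t) = upM t := PresentedGroup.toGroup.of lift_gen_rels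

theorem toSL_y (t : K) : toSL (yy t) = loM t := PresentedGroup.toGroup.of lift_gen_rels

theorem toSL_surjective : Function.Surjective (toSL (K := K)) := by
  rw [← MonoidHom.range_eq_top, eq_top_iff, ← Cfsg.Agent.Lib.H2.SL_closure_transvection,
    Subgroup.closure_le]
  rintro A ⟨i, j, hij, c, rfl⟩
  fin_cases i <;> fin_cases j
  · exact absurd rfl hij
  · refine ⟨xx c, ?_⟩
    rw [toSL_x]
    apply sl2_ext <;> simp [Matrix.SpecialLinearGroup.transvection_coe, Matrix.single]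
  · refine ⟨yy c, ?_⟩
    rw [toSL_y]
    apply sl2_ext <;> simp [Matrix.SpecialLinearGroup.transvection_coe, Matrix.single]
  · exact absurd rfl hij

/-! ### The torus -/

/-- Diagonal matrices of `SL₂`. -/
def dgM (μ : Kˣ) : SL2 := ⟨!![(μ : K), 0; 0, ((μ⁻¹ : Kˣ) : K)], by simp [Matrix.det_fin_two_of]⟩

@[simp] theorem dgM_val (μ : Kˣ) :
    ((dgM μ : SL2) : Matrix (Fin 2) (Fin 2) K) = !![(μ : K), 0; 0, ((μ⁻¹ : Kˣ) : K)] := rfl

theorem dgM_one : dgM (1 : Kˣ) = (1 : SL2) := by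
  apply sl2_ext <;> simp

theorem dgM_mul (μ ν : Kˣ) : dgM μ * dgM ν = dgM (μ * ν) := by
  apply sl2_ext <;>
    simp [Matrix.SpecialLinearGroup.coe_mul, Matrix.mul_apply, Fin.sum_univ_two, mul_comm]

theorem dgM_injective : Function.Injective (dgM : Kˣ → SL2) := by
  intro μ ν h
  have := congrArg (fun A : SL2 => (A : Matrix (Fin 2) (Fin 2) K) 0 0) h
  simp only [dgM_val] at this
  apply Units.ext
  simpa using this

/-- `a` behaves like the diagonal element `diag(μ, μ⁻¹)`. -/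
structure Tor (a : St K) (μ : Kˣ) : Prop where
  img : toSL a = dgM μ
  cx : ∀ u : K, a * xx u * a⁻¹ = xx ((μ : K) ^ 2 * u)
  cy : ∀ u : K, a * yy u * a⁻¹ = yy (((μ⁻¹ : Kˣ) : K) ^ 2 * u)

theorem Tor.one : Tor (1 : St K) 1 := by
  refine ⟨?_, fun u => ?_, fun u => ?_⟩
  · rw [map_one, dgM_one]
  · simp
  · simp

theorem Tor.mul {a b : St K} {μ ν : Kˣ} (ha : Tor a μ) (hb : Tor b ν) : Tor (a * b) (μ * ν) := by
  refine ⟨?_, fun u => ?_, fun u => ?_⟩
  · rw [map_mul, ha.img, hb.img, dgM_mul]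
  · have : a * b * xx u * (a * b)⁻¹ = a * (b * xx u * b⁻¹) * a⁻¹ := by group
    rw [this, hb.cx, ha.cx]
    congr 1
    push_cast
    ring
  · have : a * b * yy u * (a * b)⁻¹ = a * (b * yy u * b⁻¹) * a⁻¹ := by group
    rw [this, hb.cy, ha.cy]
    congr 1
    push_cast
    ring

theorem Tor.inv {a : St K} {μ : Kˣ} (ha : Tor a μ) : Tor a⁻¹ μ⁻¹ := by
  refine ⟨?_, fun u => ?_, fun u => ?_⟩
  · rw [map_inv, ha.img]
    apply inv_eq_of_mul_eq_one_right
    rw [dgM_mul, mul_inv_cancel, dgM_one]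
  · have h1 := ha.cx (((μ⁻¹ : Kˣ) : K) ^ 2 * u)
    have e : (μ : K) ^ 2 * (((μ⁻¹ : Kˣ) : K) ^ 2 * u) = u := by
      rw [← mul_assoc, ← mul_pow, ← Units.val_mul, mul_inv_cancel, Units.val_one, one_pow, one_mul]
    rw [e] at h1
    rw [← h1]
    group
  · have h1 := ha.cy ((μ : K) ^ 2 * u)
    have e : ((μ⁻¹ : Kˣ) : K) ^ 2 * ((μ : K) ^ 2 * u) = u := by
      rw [← mul_assoc, ← mul_pow, ← Units.val_mul, inv_mul_cancel, Units.val_one, one_pow, one_mul]
    rw [e] at h1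
    rw [inv_inv, ← h1]
    group

theorem Tor.zpow {a : St K} {μ : Kˣ} (ha : Tor a μ) (n : ℤ) : Tor (a ^ n) (μ ^ n) := by
  induction n with
  | zero => simpa using Tor.one
  | succ n ih =>
    rw [_root_.zpow_add_one, _root_.zpow_add_one]
    exact ih.mul ha
  | pred n ih =>
    rw [_root_.zpow_sub_one, _root_.zpow_sub_one]
    exact ih.mul ha.inv

theorem toSL_w {t : K} (ht : t ≠ 0) :
    ((toSL (ww t) : SL2) : Matrix (Fin 2) (Fin 2) K) = !![0, t; -t⁻¹, 0] := by
  rw [w_def, map_mul, map_mul, toSL_x, toSL_y]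
  simp only [Matrix.SpecialLinearGroup.coe_mul, upM_val, loM_val, Matrix.mul_fin_two]
  congr 1
  ext i j
  fin_cases i <;> fin_cases j <;>
    simp only [Fin.zero_eta, Fin.mk_one, Matrix.cons_val', Matrix.cons_val_zero, Matrix.cons_val_one,
      Matrix.cons_val_fin_one, Matrix.empty_val', Fin.isValue] <;> field_simp <;> ring

theorem tor_h (t : Kˣ) : Tor (h (t : K)) t := by
  refine ⟨?_, fun u => ?_, fun u => ?_⟩
  · apply Subtype.ext
    unfold h
    rw [map_mul, Matrix.SpecialLinearGroup.coe_mul, toSL_w t.ne_zero,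
      toSL_w (neg_ne_zero.mpr one_ne_zero), dgM_val, Matrix.mul_fin_two]
    congr 1
    ext i j
    fin_cases i <;> fin_cases j <;>
      simp only [Fin.zero_eta, Fin.mk_one, Matrix.cons_val', Matrix.cons_val_zero, Matrix.cons_val_one,
        Matrix.cons_val_fin_one, Matrix.empty_val', Fin.isValue] <;> simp
  · exact h_conj_x t.ne_zero u
  · rw [h_conj_y t.ne_zero u, Units.val_inv_eq_inv_val]

/-- The torus `H̃`. -/
def torus (K : Type*) [Field K] : Subgroup (St K) :=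
  Subgroup.closure (Set.range fun t : Kˣ => h (t : K))

theorem exists_tor {a : St K} (ha : a ∈ torus K) : ∃ μ : Kˣ, Tor a μ := by
  induction ha using Subgroup.closure_induction with
  | mem a ha =>
    obtain ⟨t, rfl⟩ := ha
    exact ⟨t, tor_h t⟩
  | one => exact ⟨1, Tor.one⟩
  | mul a b _ _ iha ihb =>
    obtain ⟨μ, hμ⟩ := iha
    obtain ⟨ν, hν⟩ := ihb
    exact ⟨μ * ν, hμ.mul hν⟩
  | inv a _ iha =>
    obtain ⟨μ, hμ⟩ := iha
    exact ⟨μ⁻¹, hμ.inv⟩

theorem h_mem_torus {t : K} (ht : t ≠ 0) : h t ∈ torus K :=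
  Subgroup.subset_closure ⟨Units.mk0 t ht, rfl⟩

/-- An element acting trivially on both root groups is central. -/
theorem Tor.central {a : St K} (ha : Tor a 1) (g : St K) : a * g = g * a := by
  have hmem : g ∈ Subgroup.centralizer ({a} : Set (St K)) := by
    apply PresentedGroup.generated_by
    rintro ⟨b, t⟩
    rw [Subgroup.mem_centralizer_singleton_iff]
    cases b
    · have := ha.cy t
      rw [inv_one, Units.val_one, one_pow, one_mul] at this
      show yy t * a = a * yy t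
      calc yy t * a = (a * yy t * a⁻¹) * a := by rw [this]
        _ = a * yy t := by group
    · have := ha.cx t
      rw [Units.val_one, one_pow, one_mul] at this
      show xx t * a = a * xx t
      calc xx t * a = (a * xx t * a⁻¹) * a := by rw [this]
        _ = a * xx t := by group
  rw [Subgroup.mem_centralizer_singleton_iff] at hmem
  exact hmem.symm

/-- The torus is abelian (its quotient by a central subgroup is cyclic). -/
theorem torus_comm [Finite K] {a b : St K} (ha : a ∈ torus K) (hb : b ∈ torus K) : a * b = b * a := by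
  obtain ⟨μ, hμ⟩ := exists_tor ha
  obtain ⟨ν, hν⟩ := exists_tor hb
  obtain ⟨g₀, hg₀⟩ := IsCyclic.exists_generator (α := Kˣ)
  obtain ⟨i, hi⟩ := Subgroup.mem_zpowers_iff.mp (hg₀ μ)
  obtain ⟨j, hj⟩ := Subgroup.mem_zpowers_iff.mp (hg₀ ν)
  set c : St K := h (g₀ : K) with hc
  have hci := (tor_h g₀).zpow i
  have hcj := (tor_h g₀).zpow j
  rw [hi] at hci
  rw [hj] at hcj
  have hz1 : Tor (a * (c ^ i)⁻¹) 1 := by
    have := hμ.mul hci.inv
    rwa [mul_inv_cancel] at this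
  have hz2 : Tor (b * (c ^ j)⁻¹) 1 := by
    have := hν.mul hcj.inv
    rwa [mul_inv_cancel] at this
  have ea : a = (a * (c ^ i)⁻¹) * c ^ i := by group
  have eb : b = (b * (c ^ j)⁻¹) * c ^ j := by group
  set z1 := a * (c ^ i)⁻¹ with hz1def
  set z2 := b * (c ^ j)⁻¹ with hz2def
  rw [ea, eb]
  have hcc : c ^ i * c ^ j = c ^ j * c ^ i := by
    rw [← _root_.zpow_add, ← _root_.zpow_add, add_comm]
  calc z1 * c ^ i * (z2 * c ^ j) = z1 * (c ^ i * z2) * c ^ j := by group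
    _ = z1 * (z2 * c ^ i) * c ^ j := by rw [hz2.central (c ^ i)]
    _ = (z1 * z2) * (c ^ i * c ^ j) := by group
    _ = (z2 * z1) * (c ^ j * c ^ i) := by rw [hz1.central z2, hcc]
    _ = z2 * (z1 * c ^ j) * c ^ i := by group
    _ = z2 * (c ^ j * z1) * c ^ i := by rw [hz1.central (c ^ j)]
    _ = z2 * c ^ j * (z1 * c ^ i) := by group

/-! ### Multiplicativity of `h` -/

section mult

variable [Finite K]

theorem h_comm {t u : K} (ht : t ≠ 0) (hu : u ≠ 0) : h t * h u = h u * h t :=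
  torus_comm (h_mem_torus ht) (h_mem_torus hu)

/-- The square rule. -/
theorem h_sq_mul {t u : K} (ht : t ≠ 0) (hu : u ≠ 0) : h (t ^ 2 * u) = h (t ^ 2) * h u := by
  have h1 := h_conj_h ht hu
  have h2 : h t * h u * (h t)⁻¹ = h u := by
    rw [h_comm ht hu]
    group
  rw [h2] at h1
  have h3 : h (t ^ 2 * u) = h u * h (t ^ 2) := by
    rw [h1]
    group
  rw [h3, h_comm hu (pow_ne_zero 2 ht)]

theorem h_isSquare_mul {σ u : K} (hσ : IsSquare σ) (hσ0 : σ ≠ 0) (hu : u ≠ 0) :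
    h (σ * u) = h σ * h u := by
  obtain ⟨r, rfl⟩ := hσ
  have hr : r ≠ 0 := fun h0 => hσ0 (by rw [h0, mul_zero])
  rw [← sq]
  exact h_sq_mul hr hu

omit [Finite K] in
/-- The relation coming from `y(a) y(b) = y(a + b)`. -/
theorem w_mul_w {t : K} (ht : t ≠ 0) (ht1 : t ≠ 1) :
    ww t * ww (1 - t) = ww (t ^ 2) * ww (t * (1 - t)) := by
  have hs : (1 - t : K) ≠ 0 := sub_ne_zero.mpr (Ne.symm ht1)
  set s : K := 1 - t with hsdef
  have hts : t * s ≠ 0 := mul_ne_zero ht hs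
  -- rewrite `y(a) y(b) = y(a+b)` with `a = -t⁻¹`, `b = -s⁻¹`
  have hadd := X_add false (-t⁻¹) (-s⁻¹)
  have hab : -t⁻¹ + -s⁻¹ = -(t * s)⁻¹ := by
    have : s + t = 1 := by rw [hsdef]; ring
    field_simp
    linear_combination -this
  rw [hab, y_eq (neg_ne_zero.mpr (inv_ne_zero ht)), y_eq (neg_ne_zero.mpr (inv_ne_zero hs)),
    y_eq (neg_ne_zero.mpr (inv_ne_zero hts))] at hadd
  have e1 : (-t⁻¹)⁻¹ = -t := by field_simp
  have e2 : (-s⁻¹)⁻¹ = -s := by field_simp
  have e3 : (-(t * s)⁻¹)⁻¹ = -(t * s) := by field_simp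
  rw [e1, e2, e3, neg_neg, neg_neg, neg_neg] at hadd
  -- (E1)
  have hE1 : ww t * xx (-1) * ww s = xx (t ^ 2) * ww (t * s) * xx (s ^ 2) := by
    have h1 : ww t * xx (-1) * ww s =
        xx t * ((xx (-t) * ww t * xx (-t)) * (xx (-s) * ww s * xx (-s))) * xx s := by
      have ex : xx (-t) * xx (-s) = xx (-1 : K) := by
        rw [X_add]
        congr 1
        rw [hsdef]; ring
      have i1 : xx t * xx (-t) = (1 : St K) := by rw [X_add, add_neg_cancel, X_zero]
      have i2 : xx (-s) * xx s = (1 : St K) := by rw [X_add, neg_add_cancel, X_zero]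
      calc ww t * xx (-1) * ww s = (xx t * xx (-t)) * ww t * xx (-1) * ww s * (xx (-s) * xx s) := by
            rw [i1, i2, one_mul, mul_one]
        _ = xx t * (xx (-t) * ww t * (xx (-t) * xx (-s)) * ww s * xx (-s)) * xx s := by
            rw [ex]; group
        _ = xx t * ((xx (-t) * ww t * xx (-t)) * (xx (-s) * ww s * xx (-s))) * xx s := by group
    rw [h1, hadd]
    have e4 : xx t * xx (-(t * s)) = xx (t ^ 2) := by
      rw [X_add]; congr 1; rw [hsdef]; ring
    have e5 : xx (-(t * s)) * xx s = xx (s ^ 2) := by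
      rw [X_add]; congr 1; rw [hsdef]; ring
    calc xx t * (xx (-(t * s)) * ww (t * s) * xx (-(t * s))) * xx s
        = (xx t * xx (-(t * s))) * ww (t * s) * (xx (-(t * s)) * xx s) := by group
      _ = xx (t ^ 2) * ww (t * s) * xx (s ^ 2) := by rw [e4, e5]
  -- left side
  have hL : ww t * xx (-1) * ww s = yy (t⁻¹ ^ 2) * (ww t * ww s) := by
    have := w_conj_x ht (-1)
    have e : -(t⁻¹ ^ 2 * (-1 : K)) = t⁻¹ ^ 2 := by ring
    rw [e] at this
    rw [← this]
    group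
  have hy : yy (t⁻¹ ^ 2) = xx (t ^ 2) * ww (-(t ^ 2)) * xx (t ^ 2) := by
    rw [y_eq (pow_ne_zero 2 (inv_ne_zero ht))]
    have e : (t⁻¹ ^ 2)⁻¹ = t ^ 2 := by field_simp
    rw [e]
  -- commuting `x(t²)` past `w(t) w(s)`
  have hcomm : xx (t ^ 2) * (ww t * ww s) = (ww t * ww s) * xx (s ^ 2) := by
    have h1 : (ww t)⁻¹ * xx (t ^ 2) * ww t = yy (-1) := by
      have := w_conj_x (neg_ne_zero.mpr ht) (t ^ 2)
      rw [← w_inv, inv_inv] at this
      rw [this]
      congr 1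
      field_simp
    have h2 : (ww s)⁻¹ * yy (-1) * ww s = xx (s ^ 2) := by
      have := w_conj_y (neg_ne_zero.mpr hs) (-1)
      rw [← w_inv, inv_inv] at this
      rw [this]
      congr 1
      ring
    calc xx (t ^ 2) * (ww t * ww s) = ww t * ((ww t)⁻¹ * xx (t ^ 2) * ww t) * ww s := by group
      _ = ww t * ww s * ((ww s)⁻¹ * yy (-1) * ww s) := by rw [h1]; group
      _ = ww t * ww s * xx (s ^ 2) := by rw [h2]
  have hfin : xx (t ^ 2) * (ww (-(t ^ 2)) * (ww t * ww s)) * xx (s ^ 2) =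
      xx (t ^ 2) * ww (t * s) * xx (s ^ 2) := by
    rw [← hE1, hL, hy]
    calc xx (t ^ 2) * (ww (-(t ^ 2)) * (ww t * ww s)) * xx (s ^ 2)
        = xx (t ^ 2) * ww (-(t ^ 2)) * ((ww t * ww s) * xx (s ^ 2)) := by group
      _ = xx (t ^ 2) * ww (-(t ^ 2)) * (xx (t ^ 2) * (ww t * ww s)) := by rw [hcomm]
      _ = xx (t ^ 2) * ww (-(t ^ 2)) * xx (t ^ 2) * (ww t * ww s) := by group
  have h3 : ww (-(t ^ 2)) * (ww t * ww s) = ww (t * s) := by
    have := mul_right_cancel hfin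
    exact mul_left_cancel this
  rw [← h3, ← w_inv]
  group

/-- `h(t) h((1-t)⁻¹) = h(t (1-t)⁻¹)`. -/
theorem h_mul_one_sub {t : K} (ht : t ≠ 0) (ht1 : t ≠ 1) :
    h t * h (1 - t)⁻¹ = h (t * (1 - t)⁻¹) := by
  have hs : (1 - t : K) ≠ 0 := sub_ne_zero.mpr (Ne.symm ht1)
  set s : K := 1 - t with hsdef
  have hts : t * s ≠ 0 := mul_ne_zero ht hs
  have h1 := w_mul_w ht ht1
  rw [← hsdef, w_eq_h t, w_eq_h s, w_eq_h (t ^ 2), w_eq_h (t * s)] at h1
  have h2 : h t * (ww 1 * h s * (ww 1)⁻¹) = h (t ^ 2) * (ww 1 * h (t * s) * (ww 1)⁻¹) := by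
    have : h t * ww 1 * h s = h (t ^ 2) * ww 1 * h (t * s) := by
      have h1' : h t * ww 1 * h s * ww 1 = h (t ^ 2) * ww 1 * h (t * s) * ww 1 := by
        rw [← mul_assoc, ← mul_assoc] at h1
        exact h1
      exact mul_right_cancel h1'
    calc h t * (ww 1 * h s * (ww 1)⁻¹) = (h t * ww 1 * h s) * (ww 1)⁻¹ := by group
      _ = (h (t ^ 2) * ww 1 * h (t * s)) * (ww 1)⁻¹ := by rw [this]
      _ = h (t ^ 2) * (ww 1 * h (t * s) * (ww 1)⁻¹) := by group
  rw [w_one_conj_h hs, w_one_conj_h hts, ← h_sq_mul ht (inv_ne_zero hts)] at h2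
  rw [h2]
  congr 1
  field_simp

theorem isSquare_mul_of_not_isSquare' {a b : K} (ha : ¬ IsSquare a) (hb : ¬ IsSquare b) :
    IsSquare (a * b) := by
  classical
  have : Fintype K := Fintype.ofFinite K
  have ha0 : a ≠ 0 := by rintro rfl; exact ha (IsSquare.zero)
  have hb0 : b ≠ 0 := by rintro rfl; exact hb (IsSquare.zero)
  rw [← quadraticChar_one_iff_isSquare (mul_ne_zero ha0 hb0), map_mul,
    quadraticChar_neg_one_iff_not_isSquare.mpr ha, quadraticChar_neg_one_iff_not_isSquare.mpr hb]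
  norm_num

theorem exists_nonsquare_pair {ν : K} (hν : ¬ IsSquare ν) :
    ∃ t : K, ¬ IsSquare t ∧ ¬ IsSquare (1 - t) := by
  classical
  have : Fintype K := Fintype.ofFinite K
  have hν0 : ν ≠ 0 := by rintro rfl; exact hν (IsSquare.zero)
  have hchar : ringChar K ≠ 2 := fun h2 => hν (FiniteField.isSquare_of_char_two h2 ν)
  have hodd : Fintype.card K % 2 = 1 := FiniteField.odd_card_of_char_ne_two hchar
  have hf2 : (Polynomial.C ν * Polynomial.X ^ 2 : Polynomial K).degree = 2 :=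
    Polynomial.degree_C_mul_X_pow 2 hν0
  have hg2 : (Polynomial.C ν * Polynomial.X ^ 2 - 1 : Polynomial K).degree = 2 := by
    rw [Polynomial.degree_sub_eq_left_of_degree_lt, hf2]
    rw [hf2, Polynomial.degree_one]
    norm_num
  obtain ⟨a, b, hab⟩ := FiniteField.exists_root_sum_quadratic hf2 hg2 hodd
  simp only [Polynomial.eval_mul, Polynomial.eval_C, Polynomial.eval_pow, Polynomial.eval_X,
    Polynomial.eval_sub, Polynomial.eval_one] at hab
  have hns : ∀ c : K, c ≠ 0 → ¬ IsSquare (ν * c ^ 2) := by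
    intro c hc hsq
    obtain ⟨r, hr⟩ := hsq
    apply hν
    refine ⟨r / c, ?_⟩
    field_simp
    rw [hr]
    ring
  have ha0 : a ≠ 0 := by
    rintro rfl
    apply hns b
    · rintro rfl
      apply one_ne_zero (α := K)
      linear_combination -hab
    · have : ν * b ^ 2 = 1 := by linear_combination hab
      rw [this]
      exact IsSquare.one
  have hb0 : b ≠ 0 := by
    rintro rfl
    apply hns a ha0
    have : ν * a ^ 2 = 1 := by linear_combination hab
    rw [this]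
    exact IsSquare.one
  refine ⟨ν * a ^ 2, hns a ha0, ?_⟩
  have : 1 - ν * a ^ 2 = ν * b ^ 2 := by linear_combination -hab
  rw [this]
  exact hns b hb0

/-- **Multiplicativity of `h`** over a finite field. -/
theorem h_mul {t u : K} (ht : t ≠ 0) (hu : u ≠ 0) : h (t * u) = h t * h u := by
  by_cases hts : IsSquare t
  · exact h_isSquare_mul hts ht hu
  by_cases hus : IsSquare u
  · rw [mul_comm, h_isSquare_mul hus hu ht, h_comm hu ht]
  -- both nonsquares
  obtain ⟨v, hv, hv1⟩ := exists_nonsquare_pair hts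
  have hv0 : v ≠ 0 := by rintro rfl; exact hv (IsSquare.zero)
  have hv1' : v ≠ 1 := by
    rintro rfl
    exact hv IsSquare.one
  have hs0 : (1 - v : K) ≠ 0 := sub_ne_zero.mpr (Ne.symm hv1')
  -- `h(v)² = h(v²)`
  have hsq : h v * h v = h (v ^ 2) := by
    have hsinv : ¬ IsSquare (1 - v)⁻¹ := by
      intro hq
      apply hv1
      obtain ⟨r, hr⟩ := hq
      refine ⟨r⁻¹, ?_⟩
      rw [← _root_.mul_inv_rev, ← hr, inv_inv]
    have hvinv : ¬ IsSquare v⁻¹ := by
      intro hq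
      apply hv
      obtain ⟨r, hr⟩ := hq
      refine ⟨r⁻¹, ?_⟩
      rw [← _root_.mul_inv_rev, ← hr, inv_inv]
    obtain ⟨b, hb⟩ := isSquare_mul_of_not_isSquare' hsinv hvinv
    have hb0 : b ≠ 0 := by
      rintro rfl
      rw [mul_zero] at hb
      exact mul_ne_zero (inv_ne_zero hs0) (inv_ne_zero hv0) hb
    have hsb : (1 - v)⁻¹ = b ^ 2 * v := by
      field_simp at hb ⊢
      linear_combination hb
    have h1 := h_mul_one_sub hv0 hv1'
    rw [hsb, h_sq_mul hb0 hv0] at h1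
    have e : v * (b ^ 2 * v) = b ^ 2 * v ^ 2 := by ring
    rw [e, h_sq_mul hb0 (pow_ne_zero 2 hv0)] at h1
    have h2 : h (b ^ 2) * (h v * h v) = h (b ^ 2) * h (v ^ 2) := by
      rw [← h1, ← mul_assoc, ← mul_assoc, h_comm hv0 (pow_ne_zero 2 hb0)]
    exact mul_left_cancel h2
  -- general nonsquares
  obtain ⟨a, ha⟩ := isSquare_mul_of_not_isSquare' hts (show ¬ IsSquare v⁻¹ from by
    intro hq
    apply hv
    obtain ⟨r, hr⟩ := hq
    refine ⟨r⁻¹, ?_⟩
    rw [← _root_.mul_inv_rev, ← hr, inv_inv])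
  obtain ⟨b, hb⟩ := isSquare_mul_of_not_isSquare' hus (show ¬ IsSquare v⁻¹ from by
    intro hq
    apply hv
    obtain ⟨r, hr⟩ := hq
    refine ⟨r⁻¹, ?_⟩
    rw [← _root_.mul_inv_rev, ← hr, inv_inv])
  have ha0 : a ≠ 0 := by
    rintro rfl
    rw [mul_zero] at ha
    exact mul_ne_zero ht (inv_ne_zero hv0) ha
  have hb0 : b ≠ 0 := by
    rintro rfl
    rw [mul_zero] at hb
    exact mul_ne_zero hu (inv_ne_zero hv0) hb
  have hta : t = a ^ 2 * v := by
    field_simp at ha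
    linear_combination ha
  have hub : u = b ^ 2 * v := by
    field_simp at hb
    linear_combination hb
  have e : t * u = a ^ 2 * (b ^ 2 * v ^ 2) := by rw [hta, hub]; ring
  rw [e, h_sq_mul ha0 (mul_ne_zero (pow_ne_zero 2 hb0) (pow_ne_zero 2 hv0)),
    h_sq_mul hb0 (pow_ne_zero 2 hv0), ← hsq, hta, hub, h_sq_mul ha0 hv0, h_sq_mul hb0 hv0]
  calc h (a ^ 2) * (h (b ^ 2) * (h v * h v)) = h (a ^ 2) * ((h (b ^ 2) * h v) * h v) := by group
    _ = h (a ^ 2) * ((h v * h (b ^ 2)) * h v) := by rw [h_comm (pow_ne_zero 2 hb0) hv0]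
    _ = h (a ^ 2) * h v * (h (b ^ 2) * h v) := by group

end mult

/-! ### The Bruhat decomposition of the presented group -/

section bruhat

variable [Finite K]

theorem h_mul_x {s : K} (hs : s ≠ 0) (u : K) : h s * xx u = xx (s ^ 2 * u) * h s := by
  rw [← h_conj_x hs u]
  group

theorem x_mul_h {s : K} (hs : s ≠ 0) (u : K) : xx u * h s = h s * xx (s⁻¹ ^ 2 * u) := by
  rw [h_mul_x hs]
  congr 2
  field_simp

theorem w_mul_h {t : K} (ht : t ≠ 0) : ww 1 * h t = h t⁻¹ * ww 1 := by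
  rw [← w_one_conj_h ht]
  group

theorem h_neg_one_sq : h (-1 : K) * h (-1) = 1 := by
  rw [← h_mul (neg_ne_zero.mpr one_ne_zero) (neg_ne_zero.mpr one_ne_zero)]
  have : (-1 : K) * -1 = 1 := by ring
  rw [this, h_one]

theorem w_one_sq : ww (1 : K) * ww 1 = h (-1) := by
  have h1 : h (-1 : K) = (ww 1)⁻¹ * (ww 1)⁻¹ := by
    unfold h
    rw [w_inv]
  have h2 := h_neg_one_sq (K := K)
  have h3 : (h (-1 : K))⁻¹ = h (-1) := inv_eq_of_mul_eq_one_right h2
  rw [← h3, h1, _root_.mul_inv_rev, inv_inv]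

theorem w_one_inv : (ww (1 : K))⁻¹ = h (-1) * ww 1 := by
  have h1 : h (-1 : K) = (ww 1)⁻¹ * (ww 1)⁻¹ := by
    unfold h
    rw [w_inv]
  rw [h1]
  group

theorem w_x_w {e : K} (he : e ≠ 0) :
    ww 1 * xx e * ww 1 = xx (-e⁻¹) * h (-e⁻¹) * ww 1 * xx (-e⁻¹) := by
  have h1 : ww (1 : K) * xx e * (ww 1)⁻¹ = yy (-e) := by
    rw [w_conj_x one_ne_zero]
    congr 1
    simp
  have h2 : yy (-e) = xx (-e⁻¹) * (h e⁻¹ * ww 1) * xx (-e⁻¹) := by
    rw [y_eq (neg_ne_zero.mpr he), ← w_eq_h]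
    have e1 : (-e)⁻¹ = -e⁻¹ := by field_simp
    rw [e1, neg_neg]
  have hm1 : (-1 : K) ≠ 0 := neg_ne_zero.mpr one_ne_zero
  have h3 : xx (-e⁻¹) * h (-1 : K) = h (-1) * xx (-e⁻¹) := by
    rw [h_mul_x hm1]
    congr 2
    ring
  have h4 : ww (1 : K) * h (-1) = h (-1) * ww 1 := by
    rw [w_mul_h hm1]
    congr 2
    field_simp
  calc ww 1 * xx e * ww 1 = (ww 1 * xx e * (ww 1)⁻¹) * (ww 1 * ww 1) := by group
    _ = xx (-e⁻¹) * (h e⁻¹ * ww 1) * xx (-e⁻¹) * h (-1) := by rw [h1, h2, w_one_sq]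
    _ = xx (-e⁻¹) * h e⁻¹ * ww 1 * (xx (-e⁻¹) * h (-1)) := by group
    _ = xx (-e⁻¹) * h e⁻¹ * (ww 1 * h (-1)) * xx (-e⁻¹) := by rw [h3]; group
    _ = xx (-e⁻¹) * (h e⁻¹ * h (-1)) * ww 1 * xx (-e⁻¹) := by rw [h4]; group
    _ = xx (-e⁻¹) * h (-e⁻¹) * ww 1 * xx (-e⁻¹) := by
        rw [← h_mul (inv_ne_zero he) hm1]
        congr 4
        ring

/-- The small cell. -/
def cellB (p : K × Kˣ) : St K := xx p.1 * h (p.2 : K)

/-- The big cell. -/
def cellW (p : K × Kˣ × K) : St K := xx p.1 * h (p.2.1 : K) * ww 1 * xx p.2.2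

/-- The union of the two cells. -/
def cells (K : Type*) [Field K] : Set (St K) := Set.range (cellB (K := K)) ∪ Set.range (cellW (K := K))

theorem cellB_mem (a : K) {t : K} (ht : t ≠ 0) : xx a * h t ∈ cells K :=
  Or.inl ⟨(a, Units.mk0 t ht), rfl⟩

theorem cellW_mem (a : K) {t : K} (ht : t ≠ 0) (b : K) : xx a * h t * ww 1 * xx b ∈ cells K :=
  Or.inr ⟨(a, Units.mk0 t ht, b), rfl⟩

theorem x_mul_mem (c : K) {g : St K} (hg : g ∈ cells K) : xx c * g ∈ cells K := by
  rcases hg with ⟨⟨a, t⟩, rfl⟩ | ⟨⟨a, t, b⟩, rfl⟩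
  · have : xx c * cellB (a, t) = xx (c + a) * h (t : K) := by
      unfold cellB
      rw [← X_add, mul_assoc]
    rw [this]
    exact cellB_mem _ t.ne_zero
  · have : xx c * cellW (a, t, b) = xx (c + a) * h (t : K) * ww 1 * xx b := by
      unfold cellW
      rw [← X_add]
      group
    rw [this]
    exact cellW_mem _ t.ne_zero _

theorem h_mul_mem {s : K} (hs : s ≠ 0) {g : St K} (hg : g ∈ cells K) : h s * g ∈ cells K := by
  rcases hg with ⟨⟨a, t⟩, rfl⟩ | ⟨⟨a, t, b⟩, rfl⟩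
  · have : h s * cellB (a, t) = xx (s ^ 2 * a) * h (s * (t : K)) := by
      unfold cellB
      rw [h_mul hs t.ne_zero, ← mul_assoc, h_mul_x hs, mul_assoc]
    rw [this]
    exact cellB_mem _ (mul_ne_zero hs t.ne_zero)
  · have : h s * cellW (a, t, b) = xx (s ^ 2 * a) * h (s * (t : K)) * ww 1 * xx b := by
      unfold cellW
      rw [h_mul hs t.ne_zero]
      calc h s * (xx a * h (t : K) * ww 1 * xx b) = (h s * xx a) * h (t : K) * ww 1 * xx b := by group
        _ = xx (s ^ 2 * a) * (h s * h (t : K)) * ww 1 * xx b := by rw [h_mul_x hs]; group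
    rw [this]
    exact cellW_mem _ (mul_ne_zero hs t.ne_zero) _

theorem w_mul_mem {g : St K} (hg : g ∈ cells K) : ww 1 * g ∈ cells K := by
  rcases hg with ⟨⟨a, t⟩, rfl⟩ | ⟨⟨a, t, b⟩, rfl⟩
  · have ht := t.ne_zero
    have : ww 1 * cellB (a, t) = xx 0 * h ((t : K)⁻¹) * ww 1 * xx ((t : K)⁻¹ ^ 2 * a) := by
      unfold cellB
      rw [X_zero, one_mul]
      calc ww 1 * (xx a * h (t : K)) = ww 1 * (h (t : K) * xx ((t : K)⁻¹ ^ 2 * a)) := by
            rw [x_mul_h ht]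
        _ = (ww 1 * h (t : K)) * xx ((t : K)⁻¹ ^ 2 * a) := by group
        _ = h ((t : K)⁻¹) * ww 1 * xx ((t : K)⁻¹ ^ 2 * a) := by rw [w_mul_h ht]
    rw [this]
    exact cellW_mem _ (inv_ne_zero ht) _
  · have ht := t.ne_zero
    have hm1 : (-1 : K) ≠ 0 := neg_ne_zero.mpr one_ne_zero
    have hstep : ww 1 * cellW (a, t, b) =
        h ((t : K)⁻¹) * (ww 1 * xx ((t : K)⁻¹ ^ 2 * a) * ww 1) * xx b := by
      unfold cellW
      calc ww 1 * (xx a * h (t : K) * ww 1 * xx b)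
          = ww 1 * (h (t : K) * xx ((t : K)⁻¹ ^ 2 * a)) * ww 1 * xx b := by
            rw [← x_mul_h ht]; group
        _ = (ww 1 * h (t : K)) * xx ((t : K)⁻¹ ^ 2 * a) * ww 1 * xx b := by group
        _ = h ((t : K)⁻¹) * (ww 1 * xx ((t : K)⁻¹ ^ 2 * a) * ww 1) * xx b := by
            rw [w_mul_h ht]; group
    rw [hstep]
    by_cases ha : a = 0
    · subst ha
      rw [mul_zero, X_zero, mul_one, w_one_sq, ← h_mul (inv_ne_zero ht) hm1,
        h_mul_x (mul_ne_zero (inv_ne_zero ht) hm1)]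
      exact cellB_mem _ (mul_ne_zero (inv_ne_zero ht) hm1)
    · have he : (t : K)⁻¹ ^ 2 * a ≠ 0 := mul_ne_zero (pow_ne_zero 2 (inv_ne_zero ht)) ha
      set e : K := (t : K)⁻¹ ^ 2 * a with hedef
      rw [w_x_w he]
      have hne : -e⁻¹ ≠ 0 := neg_ne_zero.mpr (inv_ne_zero he)
      have : h ((t : K)⁻¹) * (xx (-e⁻¹) * h (-e⁻¹) * ww 1 * xx (-e⁻¹)) * xx b =
          xx ((t : K)⁻¹ ^ 2 * -e⁻¹) * h ((t : K)⁻¹ * -e⁻¹) * ww 1 * xx (-e⁻¹ + b) := by
        rw [h_mul (inv_ne_zero ht) hne, ← X_add]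
        calc h ((t : K)⁻¹) * (xx (-e⁻¹) * h (-e⁻¹) * ww 1 * xx (-e⁻¹)) * xx b
            = (h ((t : K)⁻¹) * xx (-e⁻¹)) * h (-e⁻¹) * ww 1 * xx (-e⁻¹) * xx b := by group
          _ = xx ((t : K)⁻¹ ^ 2 * -e⁻¹) * (h ((t : K)⁻¹) * h (-e⁻¹)) * ww 1 * (xx (-e⁻¹) * xx b) := by
              rw [h_mul_x (inv_ne_zero ht)]; group
      rw [this]
      exact cellW_mem _ (mul_ne_zero (inv_ne_zero ht) hne) _

theorem y_mul_mem (c : K) {g : St K} (hg : g ∈ cells K) : yy c * g ∈ cells K := by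
  have hm1 : (-1 : K) ≠ 0 := neg_ne_zero.mpr one_ne_zero
  have h1 : yy c = ww 1 * xx (-c) * (ww 1)⁻¹ := by
    rw [w_conj_x one_ne_zero]
    congr 1
    simp
  have : yy c * g = ww 1 * (xx (-c) * (h (-1) * (ww 1 * g))) := by
    rw [h1, w_one_inv]
    group
  rw [this]
  exact w_mul_mem (x_mul_mem _ (h_mul_mem hm1 (w_mul_mem hg)))

theorem X_mul_mem (b : Bool) (c : K) {g : St K} (hg : g ∈ cells K) : X b c * g ∈ cells K := by
  cases b
  · exact y_mul_mem c hg
  · exact x_mul_mem c hg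

theorem one_mem_cells : (1 : St K) ∈ cells K := by
  have := cellB_mem (K := K) 0 (one_ne_zero (α := K))
  rwa [X_zero, h_one, one_mul] at this

theorem cells_eq_univ : cells K = Set.univ := by
  -- the stabiliser of `cells K` under left multiplication is a subgroup containing the generators
  let Stab : Subgroup (St K) :=
    { carrier := {z | (∀ g ∈ cells K, z * g ∈ cells K) ∧ (∀ g ∈ cells K, z⁻¹ * g ∈ cells K)}
      mul_mem' := by
        rintro a b ⟨ha1, ha2⟩ ⟨hb1, hb2⟩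
        refine ⟨fun g hg => ?_, fun g hg => ?_⟩
        · rw [mul_assoc]
          exact ha1 _ (hb1 _ hg)
        · rw [_root_.mul_inv_rev, mul_assoc]
          exact hb2 _ (ha2 _ hg)
      one_mem' := by
        refine ⟨fun g hg => ?_, fun g hg => ?_⟩
        · rwa [one_mul]
        · rwa [inv_one, one_mul]
      inv_mem' := by
        rintro a ⟨ha1, ha2⟩
        refine ⟨ha2, fun g hg => ?_⟩
        rw [inv_inv]
        exact ha1 g hg }
  have hgen : ∀ j : Bool × K, (PresentedGroup.of j : St K) ∈ Stab := by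
    rintro ⟨b, c⟩
    refine ⟨fun g hg => X_mul_mem b c hg, fun g hg => ?_⟩
    have : (PresentedGroup.of (b, c) : St K)⁻¹ = X b (-c) := X_neg b c
    rw [this]
    exact X_mul_mem b (-c) hg
  apply Set.eq_univ_of_forall
  intro z
  have hz := PresentedGroup.generated_by (stRels K) Stab hgen z
  have := hz.1 1 one_mem_cells
  rwa [mul_one] at this

/-- The parametrisation of the presented group by the two cells is onto. -/
theorem cellMap_surjective :
    Function.Surjective (Sum.elim (cellB (K := K)) (cellW (K := K))) := by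
  intro z
  have hz : z ∈ cells K := by rw [cells_eq_univ]; trivial
  rcases hz with ⟨p, rfl⟩ | ⟨p, rfl⟩
  · exact ⟨Sum.inl p, rfl⟩
  · exact ⟨Sum.inr p, rfl⟩

instance : Finite (St K) := Finite.of_surjective _ cellMap_surjective

theorem card_St_le : Nat.card (St K) ≤ Nat.card SL2 := by
  classical
  have : Fintype K := Fintype.ofFinite K
  have h1 := Nat.card_le_card_of_surjective _ (cellMap_surjective (K := K))
  rw [Nat.card_sum, Nat.card_prod, Nat.card_prod, Nat.card_prod, Nat.card_units,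
    Nat.card_eq_fintype_card (α := K)] at h1
  rw [Cfsg.Agent.Lib.H12.card_SL2]
  have hq : 1 < Fintype.card K := Fintype.one_lt_card
  calc Nat.card (St K) ≤ Fintype.card K * (Fintype.card K - 1) +
        Fintype.card K * ((Fintype.card K - 1) * Fintype.card K) := h1
    _ = Fintype.card K * (Fintype.card K ^ 2 - 1) := by
        obtain ⟨m, hm⟩ : ∃ m, Fintype.card K = m + 1 := ⟨Fintype.card K - 1, by omega⟩
        rw [hm]
        have e1 : m + 1 - 1 = m := by omega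
        have e2 : (m + 1) ^ 2 - 1 = m * (m + 2) := by
          have : (m + 1) ^ 2 = m * (m + 2) + 1 := by ring
          omega
        rw [e1, e2]
        ring

/-- **The rank-one Steinberg presentation** of `SL₂` over a finite field. -/
theorem toSL_bijective : Function.Bijective (toSL (K := K)) :=
  toSL_surjective.bijective_of_nat_card_le card_St_le

end bruhat

end Cfsg.Agent.Lib.H12.StPres
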