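import Mathlib
import Cfsg.Agent.Lib.H2.SLGen

set_option autoImplicit false

/-!
# Generating `SL_{n+1}` by a root subgroup and the cyclic monomial matrix
-/

namespace Cfsg.Agent.Lib.H12

open Matrix
open scoped commutatorElement

section general

variable {ι : Type*} [DecidableEq ι] [Fintype ι] {K : Type*} [Field K]

/-- the monomial matrix with entry `ε i` at position `(i, σ i)` -/
def monoMat (σ : Equiv.Perm ι) (ε : ι → K) : Matrix ι ι K :=
  Matrix.of fun i j => if j = σ i then ε i else 0

omit [Fintype ι] in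
theorem monoMat_apply (σ : Equiv.Perm ι) (ε : ι → K) (i j : ι) :
    monoMat σ ε i j = if j = σ i then ε i else 0 := rfl

/-- moving a transvection across a monomial matrix -/
theorem monoMat_mul_transvection (σ : Equiv.Perm ι) (ε : ι → K) (hε : ∀ i, ε i * ε i = 1) (i j : ι) (t : K) :
    monoMat σ ε * Matrix.transvection (σ i) (σ j) t =
      Matrix.transvection i j (ε i * ε j * t) * monoMat σ ε := by
  ext a b
  simp only [Matrix.transvection, Matrix.mul_add, Matrix.add_mul, Matrix.mul_one, Matrix.one_mul,
    Matrix.add_apply]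
  congr 1
  rw [Matrix.mul_apply, Matrix.mul_apply]
  simp only [monoMat_apply, Matrix.single_apply]
  simp only [ite_mul, zero_mul, mul_ite, mul_zero]
  rw [Finset.sum_eq_single (σ i), Finset.sum_eq_single j]
  · by_cases hai : a = i
    · subst hai
      by_cases hb : b = σ j
      · subst hb
        simp
        have := hε j
        calc ε a * t = ε a * (ε j * ε j) * t := by rw [this, mul_one]
          _ = ε a * ε j * t * ε j := by ring
      · have hb' : ¬ σ j = b := fun h => hb h.symm
        simp [hb, hb']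
    · have hai' : ¬ i = a := fun h => hai h.symm
      have hσ : ¬ σ i = σ a := fun h => hai' (σ.injective h)
      simp [hai', hσ]
  · intro c _ hc
    simp [Ne.symm hc]
  · intro h; exact absurd (Finset.mem_univ _) h
  · intro c _ hc
    have : ¬ σ i = c := fun h => hc h.symm
    simp [this]
  · intro h; exact absurd (Finset.mem_univ _) h

/-- moving a diagonal matrix across a monomial matrix -/
theorem monoMat_mul_diagonal (σ : Equiv.Perm ι) (ε : ι → K) (δ : ι → K) :
    monoMat σ ε * Matrix.diagonal δ = Matrix.diagonal (fun i => δ (σ i)) * monoMat σ ε := by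
  ext a b
  rw [Matrix.mul_diagonal, Matrix.diagonal_mul, monoMat_apply]
  by_cases hb : b = σ a
  · subst hb
    simp [mul_comm]
  · simp [hb]

/-- moving a transvection across a diagonal matrix -/
theorem diagonal_mul_transvection (δ : ι → K) (i j : ι) (t : K) (hj : δ j ≠ 0) :
    Matrix.diagonal δ * Matrix.transvection i j t =
      Matrix.transvection i j (δ i * t * (δ j)⁻¹) * Matrix.diagonal δ := by
  ext a b
  simp only [Matrix.transvection, Matrix.mul_add, Matrix.add_mul, Matrix.mul_one, Matrix.one_mul,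
    Matrix.add_apply]
  congr 1
  rw [Matrix.mul_diagonal, Matrix.diagonal_mul, Matrix.single_apply, Matrix.single_apply]
  by_cases h : i = a ∧ j = b
  · obtain ⟨rfl, rfl⟩ := h
    simp
    field_simp
  · simp [h]

/-- `H` contains the whole root subgroup `T_ij` -/
def Tmem (H : Subgroup (SpecialLinearGroup ι K)) (i j : ι) : Prop :=
  ∀ t : K, ∃ M ∈ H, (M : Matrix ι ι K) = Matrix.transvection i j t

theorem Tmem.conj {H : Subgroup (SpecialLinearGroup ι K)} {i j : ι} (h : Tmem H i j)
    (σ : Equiv.Perm ι) (ε : ι → K) (hε : ∀ i, ε i * ε i = 1) {w : SpecialLinearGroup ι K} (hwH : w ∈ H)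
    (hw : (w : Matrix ι ι K) = monoMat σ ε) : Tmem H (σ i) (σ j) := by
  intro t
  obtain ⟨M, hMH, hM⟩ := h (ε i * ε j * t)
  refine ⟨w⁻¹ * M * w, H.mul_mem (H.mul_mem (H.inv_mem hwH) hMH) hwH, ?_⟩
  have h1 : ((w⁻¹ : SpecialLinearGroup ι K) : Matrix ι ι K) * (w : Matrix ι ι K) = 1 := by
    rw [← Matrix.SpecialLinearGroup.coe_mul, inv_mul_cancel, Matrix.SpecialLinearGroup.coe_one]
  rw [Matrix.SpecialLinearGroup.coe_mul, Matrix.SpecialLinearGroup.coe_mul, hM, Matrix.mul_assoc]
  rw [hw, ← monoMat_mul_transvection σ ε hε, ← hw, ← Matrix.mul_assoc, h1, Matrix.one_mul]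

theorem Tmem.comm {H : Subgroup (SpecialLinearGroup ι K)} {i j k : ι} (h1 : Tmem H i k)
    (h2 : Tmem H k j) (hij : i ≠ j) (hik : i ≠ k) (hkj : k ≠ j) : Tmem H i j := by
  intro t
  obtain ⟨M1, hM1H, hM1⟩ := h1 t
  obtain ⟨M2, hM2H, hM2⟩ := h2 1
  have e1 : M1 = SpecialLinearGroup.transvection hik t := Subtype.ext hM1
  have e2 : M2 = SpecialLinearGroup.transvection hkj 1 := Subtype.ext hM2
  refine ⟨⁅M1, M2⁆, ?_, ?_⟩
  · rw [commutatorElement_def]
    exact H.mul_mem (H.mul_mem (H.mul_mem hM1H hM2H) (H.inv_mem hM1H)) (H.inv_mem hM2H)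
  · rw [e1, e2, ← Cfsg.Agent.Lib.H2.transvection_eq_commutator hij hik hkj t]
    rfl

/-- the parameters `t` with `T_ij(t) ∈ H` form an additive subgroup -/
def rootAddSubgroup (H : Subgroup (Matrix.SpecialLinearGroup ι K)) {i j : ι} (hij : i ≠ j) :
    AddSubgroup K where
  carrier := {t | Matrix.SpecialLinearGroup.transvection hij t ∈ H}
  zero_mem' := by
    rw [Set.mem_ofPred_eq, Matrix.SpecialLinearGroup.transvection_coeff_zero]
    exact H.one_mem
  add_mem' := fun {a b} ha hb => by
    rw [Set.mem_ofPred_eq] at ha hb ⊢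
    rw [Matrix.SpecialLinearGroup.transvection_add]
    exact H.mul_mem ha hb
  neg_mem' := fun {a} ha => by
    rw [Set.mem_ofPred_eq] at ha ⊢
    rw [← Matrix.SpecialLinearGroup.transvection_inv]
    exact H.inv_mem ha

theorem mem_rootAddSubgroup (H : Subgroup (Matrix.SpecialLinearGroup ι K)) {i j : ι} (hij : i ≠ j)
    (t : K) : t ∈ rootAddSubgroup H hij ↔ Matrix.SpecialLinearGroup.transvection hij t ∈ H := Iff.rfl

theorem Tmem_of_rootAddSubgroup_eq_top {H : Subgroup (Matrix.SpecialLinearGroup ι K)} {i j : ι}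
    (hij : i ≠ j) (h : rootAddSubgroup H hij = ⊤) : Tmem H i j := by
  intro t
  refine ⟨Matrix.SpecialLinearGroup.transvection hij t, ?_, rfl⟩
  rw [← mem_rootAddSubgroup, h]
  trivial

/-- conjugating a transvection by a diagonal element -/
theorem diag_conj_transvection {h : Matrix.SpecialLinearGroup ι K} {δ : ι → K}
    (hh : (h : Matrix ι ι K) = Matrix.diagonal δ) {i j : ι} (hij : i ≠ j) (hj : δ j ≠ 0) (t : K) :
    h * Matrix.SpecialLinearGroup.transvection hij t * h⁻¹ =
      Matrix.SpecialLinearGroup.transvection hij (δ i * t * (δ j)⁻¹) := by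
  rw [mul_inv_eq_iff_eq_mul]
  apply Subtype.ext
  rw [Matrix.SpecialLinearGroup.coe_mul, Matrix.SpecialLinearGroup.coe_mul, hh]
  exact diagonal_mul_transvection δ i j t hj

end general

section cycle

open scoped Fin.NatCast

variable {K : Type*} [Field K] {n : ℕ}

theorem natCast_fin_ne_zero {m : ℕ} (h1 : 1 ≤ m) (h2 : m ≤ n) : ((m : ℕ) : Fin (n + 1)) ≠ 0 := by
  rw [Ne, Fin.natCast_eq_zero]
  intro h
  have := Nat.le_of_dvd (by omega) h
  omega

/-- a subgroup of `SL_{n+1}` containing the cyclic monomial matrix and the root subgroup `T₀₁` is everything -/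
theorem eq_top_of_cycle (hn : 1 ≤ n) (H : Subgroup (Matrix.SpecialLinearGroup (Fin (n + 1)) K))
    (w : Matrix.SpecialLinearGroup (Fin (n + 1)) K) (ε : Fin (n + 1) → K) (hε : ∀ i, ε i * ε i = 1)
    (hw : (w : Matrix (Fin (n + 1)) (Fin (n + 1)) K) = monoMat (Equiv.addRight (1 : Fin (n + 1))) ε)
    (hwH : w ∈ H) (hT : Tmem H (0 : Fin (n + 1)) 1) : H = ⊤ := by
  -- consecutive pairs
  have hc : ∀ i : Fin (n + 1), Tmem H i (i + 1) := by
    intro i
    induction i using Fin.induction with
    | zero => rw [zero_add]; exact hT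
    | succ i ih =>
      have := ih.conj (Equiv.addRight (1 : Fin (n + 1))) ε hε hwH hw
      rw [Equiv.coe_addRight] at this
      simp only [Fin.coeSucc_eq_succ] at this
      exact this
  -- pairs at distance `m`
  have hd : ∀ m : ℕ, 1 ≤ m → m ≤ n → ∀ i : Fin (n + 1), Tmem H i (i + (m : Fin (n + 1))) := by
    intro m hm
    induction m, hm using Nat.le_induction with
    | base =>
      intro _ i
      rw [Nat.cast_one]
      exact hc i
    | succ m hm ih =>
      intro hmn i
      have h1 := ih (by omega) i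
      have h2 := hc (i + (m : Fin (n + 1)))
      have e : i + ((m + 1 : ℕ) : Fin (n + 1)) = i + (m : Fin (n + 1)) + 1 := by
        rw [Nat.cast_succ, add_assoc]
      rw [e]
      have hm0 := natCast_fin_ne_zero (n := n) (m := m) hm (by omega)
      have hm1 := natCast_fin_ne_zero (n := n) (m := m + 1) (by omega) hmn
      have h10 : (1 : Fin (n + 1)) ≠ 0 := by
        have := natCast_fin_ne_zero (n := n) (m := 1) le_rfl hn
        rwa [Nat.cast_one] at this
      apply h1.comm h2
      · intro h
        apply hm1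
        rw [Nat.cast_succ]
        have : i + ((m : Fin (n + 1)) + 1) = i + 0 := by rw [← add_assoc, ← h, add_zero]
        exact add_left_cancel this
      · intro h
        apply hm0
        have : i + (m : Fin (n + 1)) = i + 0 := by rw [← h, add_zero]
        exact add_left_cancel this
      · intro h
        apply h10
        have : i + (m : Fin (n + 1)) + 1 = i + (m : Fin (n + 1)) + 0 := by rw [← h, add_zero]
        exact add_left_cancel this
  -- all pairs
  have hall : ∀ i j : Fin (n + 1), i ≠ j → Tmem H i j := by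
    intro i j hij
    have hm : ((j - i).val : Fin (n + 1)) = j - i := Fin.cast_val_eq_self _
    have h1 : 1 ≤ (j - i).val := by
      rw [Nat.one_le_iff_ne_zero]
      intro h
      have : j - i = 0 := Fin.ext h
      exact hij (sub_eq_zero.mp this).symm
    have h2 : (j - i).val ≤ n := by
      have := (j - i).isLt
      omega
    have := hd (j - i).val h1 h2 i
    rw [hm, add_sub_cancel] at this
    exact this
  have : Nontrivial (Fin (n + 1)) := by
    apply Fin.nontrivial_iff_two_le.mpr
    omega
  rw [eq_top_iff, ← Cfsg.Agent.Lib.H2.SL_closure_transvection, Subgroup.closure_le]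
  rintro A ⟨i, j, hij, c, rfl⟩
  obtain ⟨M, hMH, hM⟩ := hall i j hij c
  have : M = Matrix.SpecialLinearGroup.transvection hij c := Subtype.ext hM
  rw [← this]
  exact hMH

/-- the signs of the cyclic monomial matrix -/
def cycSign (K : Type*) [Field K] (n : ℕ) : Fin (n + 1) → K :=
  fun i => if i.val = n then (-1) ^ n else 1

theorem cycSign_mul_self (i : Fin (n + 1)) : cycSign K n i * cycSign K n i = 1 := by
  unfold cycSign
  split_ifs
  · rw [← mul_pow]; simp
  · exact one_mul 1

/-- the cyclic monomial matrix of the statements is `monoMat` of the rotation -/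
theorem cycMat_eq :
    (Matrix.of (fun i j : Fin (n + 1) =>
      if j.val = i.val + 1 then (1 : K) else if i.val = n ∧ j.val = 0 then (-1) ^ n else 0)) =
      monoMat (Equiv.addRight (1 : Fin (n + 1))) (cycSign K n) := by
  ext i j
  rw [Matrix.of_apply, monoMat_apply, Equiv.coe_addRight]
  unfold cycSign
  beta_reduce
  by_cases hi : i.val = n
  · have hi' : i = Fin.last n := Fin.ext hi
    have h1 : ¬ j.val = i.val + 1 := by
      have := j.isLt
      omega
    rw [if_neg h1, hi', Fin.last_add_one]
    by_cases hj : j = 0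
    · rw [hj]; simp
    · have hj' : ¬ j.val = 0 := fun h => hj (Fin.ext h)
      simp [hj, hj']
  · have hlt : i.val < n := by
      have := i.isLt
      omega
    have hne : i ≠ Fin.last n := fun h => hi (by rw [h]; rfl)
    have hv : (i + 1).val = i.val + 1 := Fin.val_add_one_of_lt (Fin.lt_last_iff_ne_last.mpr hne)
    by_cases hj : j = i + 1
    · have : j.val = i.val + 1 := by rw [hj, hv]
      simp [hj, hv, hi]
    · have : ¬ j.val = i.val + 1 := by
        intro h
        apply hj
        apply Fin.ext
        rw [hv, h]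
      simp [hj, this, hi]

end cycle

section diag

variable {ι : Type*} [DecidableEq ι] [Fintype ι] {K : Type*} [Field K]

local notation "tv" => Matrix.SpecialLinearGroup.transvection

/-- two diagonal elements commute -/
theorem diag_comm {e₁ e₂ : Matrix.SpecialLinearGroup ι K} {δ d : ι → K}
    (h₁ : (e₁ : Matrix ι ι K) = Matrix.diagonal δ) (h₂ : (e₂ : Matrix ι ι K) = Matrix.diagonal d) :
    e₁ * e₂ = e₂ * e₁ := by
  apply Subtype.ext
  rw [Matrix.SpecialLinearGroup.coe_mul, Matrix.SpecialLinearGroup.coe_mul, h₁, h₂,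
    Matrix.diagonal_mul_diagonal, Matrix.diagonal_mul_diagonal]
  congr 1
  funext i
  exact mul_comm _ _

/-- conjugating a diagonal element by the transvection `T_ij(1)` -/
theorem transvection_conj_diag {e : Matrix.SpecialLinearGroup ι K} {d : ι → K}
    (he : (e : Matrix ι ι K) = Matrix.diagonal d) {i j : ι} (hij : i ≠ j) (hi : d i ≠ 0) (hj : d j ≠ 0) :
    tv hij (1 : K) * e * (tv hij (1 : K))⁻¹ = e * tv hij (d j * (d i)⁻¹ - 1) := by
  have h1 := diag_conj_transvection he hij hj (d j * (d i)⁻¹)
  have h2 : d i * (d j * (d i)⁻¹) * (d j)⁻¹ = 1 := by field_simp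
  rw [h2] at h1
  -- `t 1 * e = e * t a`
  have h3 : tv hij (1 : K) * e = e * tv hij (d j * (d i)⁻¹) := by
    rw [← h1]; group
  rw [h3, Matrix.SpecialLinearGroup.transvection_inv, mul_assoc,
    ← Matrix.SpecialLinearGroup.transvection_add, sub_eq_add_neg]

/-- the commutator of a diagonal element with `e₂ * T_ij(s)` -/
theorem comm_diag_mul_transvection {e₁ e₂ : Matrix.SpecialLinearGroup ι K} {δ d : ι → K}
    (h₁ : (e₁ : Matrix ι ι K) = Matrix.diagonal δ) (h₂ : (e₂ : Matrix ι ι K) = Matrix.diagonal d)
    {i j : ι} (hij : i ≠ j) (hδj : δ j ≠ 0) (hdj : d j ≠ 0) (s : K) :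
    e₁ * (e₂ * tv hij s) * e₁⁻¹ * (e₂ * tv hij s)⁻¹ =
      tv hij (d i * (δ i * s * (δ j)⁻¹ - s) * (d j)⁻¹) := by
  have hc := diag_comm h₁ h₂
  have k1 := diag_conj_transvection h₁ hij hδj s
  have k2 := diag_conj_transvection h₂ hij hdj (δ i * s * (δ j)⁻¹ - s)
  rw [← k2, sub_eq_add_neg, Matrix.SpecialLinearGroup.transvection_add, ← k1,
    ← Matrix.SpecialLinearGroup.transvection_inv]
  have : e₁ * (e₂ * tv hij s) = e₂ * (e₁ * tv hij s) := by
    rw [← mul_assoc, hc, mul_assoc]
  rw [this]
  group

end diag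

section diag2

variable {ι : Type*} [DecidableEq ι] [Fintype ι] {K : Type*} [Field K]

local notation "tv" => Matrix.SpecialLinearGroup.transvection

/-- an additive subgroup of a finite field which is stable under multiplication by all squares of
units and contains a non-zero element is everything -/
theorem addSubgroup_eq_top_of_sq_stable [Fintype K] (A : AddSubgroup K) {c₀ : K} (hc₀ : c₀ ≠ 0)
    (hstab : ∀ u : Kˣ, (u : K) * c₀ * u ∈ A) : A = ⊤ := by
  classical
  set f : Kˣ → K := fun u => (u : K) * c₀ * u with hf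
  set I : Finset K := Finset.univ.image f with hI
  have h0 : (0 : K) ∉ I := by
    rw [hI, Finset.mem_image]
    rintro ⟨u, -, hu⟩
    rw [hf] at hu
    simp only at hu
    have := u.ne_zero
    rcases mul_eq_zero.mp hu with h | h
    · rcases mul_eq_zero.mp h with h | h
      · exact this h
      · exact hc₀ h
    · exact this h
  have hfib : ∀ a ∈ I, ((Finset.univ : Finset Kˣ).filter fun x => f x = a).card ≤ 2 := by
    intro a ha
    rw [hI, Finset.mem_image] at ha
    obtain ⟨u, -, rfl⟩ := ha
    have hsub : ((Finset.univ : Finset Kˣ).filter fun x => f x = f u) ⊆ {u, -u} := by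
      intro v hv
      rw [Finset.mem_filter] at hv
      have h1 : (v : K) * c₀ * v = (u : K) * c₀ * u := hv.2
      have h2 : ((v : K) - u) * ((v : K) + u) = 0 := by
        have : c₀ * (((v : K) - u) * ((v : K) + u)) = 0 := by linear_combination h1
        exact (mul_eq_zero.mp this).resolve_left hc₀
      rw [Finset.mem_insert, Finset.mem_singleton]
      rcases mul_eq_zero.mp h2 with h | h
      · left; apply Units.ext; linear_combination h
      · right; apply Units.ext; rw [Units.val_neg]; linear_combination h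
    exact (Finset.card_le_card hsub).trans Finset.card_le_two
  have h1 := Finset.card_le_mul_card_image (f := f) (Finset.univ : Finset Kˣ) 2 hfib
  rw [Finset.card_univ, Fintype.card_units, ← hI] at h1
  -- `I ∪ {0} ⊆ A`
  have hsub : insert (0 : K) I ⊆ Finset.univ.filter (fun a => a ∈ A) := by
    intro a ha
    rw [Finset.mem_insert] at ha
    rw [Finset.mem_filter]
    refine ⟨Finset.mem_univ _, ?_⟩
    rcases ha with rfl | ha
    · exact A.zero_mem
    · rw [hI, Finset.mem_image] at ha
      obtain ⟨u, -, rfl⟩ := ha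
      exact hstab u
  have h2 := Finset.card_le_card hsub
  have h3 : Nat.card A = (Finset.univ.filter (fun a => a ∈ A)).card := by
    rw [Nat.card_eq_fintype_card, Fintype.card_subtype]
  rw [Finset.card_insert_of_notMem h0, ← h3] at h2
  have hdvd : Nat.card A ∣ Nat.card K := AddSubgroup.card_addSubgroup_dvd_card A
  rw [Nat.card_eq_fintype_card (α := K)] at hdvd
  apply AddSubgroup.eq_top_of_card_eq
  rw [Nat.card_eq_fintype_card (α := K)]
  have hq : 0 < Fintype.card K := Fintype.card_pos
  obtain ⟨m, hm⟩ := hdvd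
  rcases Nat.lt_or_ge m 2 with hm2 | hm2
  · interval_cases m
    · omega
    · omega
  · exfalso
    have : Fintype.card K ≥ Nat.card A * 2 := by
      rw [hm]
      exact Nat.mul_le_mul le_rfl hm2
    omega

end diag2

section diag3

variable {ι : Type*} [DecidableEq ι] [Fintype ι] {K : Type*} [Field K]

local notation "tv" => Matrix.SpecialLinearGroup.transvection

/-- the units `u` for which `s ↦ u s u` preserves an additive subgroup -/
def stabUnits (A : AddSubgroup K) : Subgroup Kˣ where
  carrier := {u | ∀ s : K, (u : K) * s * u ∈ A ↔ s ∈ A}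
  one_mem' := by
    intro s
    simp
  mul_mem' := fun {u v} hu hv => by
    intro s
    rw [← hv s, ← hu ((v : K) * s * v), Units.val_mul]
    have : (u : K) * v * s * (u * v) = u * (v * s * v) * u := by ring
    rw [this]
  inv_mem' := fun {u} hu => by
    intro s
    rw [← hu (((u⁻¹ : Kˣ) : K) * s * ((u⁻¹ : Kˣ) : K))]
    have : (u : K) * (((u⁻¹ : Kˣ) : K) * s * ((u⁻¹ : Kˣ) : K)) * u = s := by
      rw [Units.val_inv_eq_inv_val]
      have := u.ne_zero
      field_simp
    rw [this]

theorem rootAddSubgroup_sq_stable {H : Subgroup (Matrix.SpecialLinearGroup ι K)}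
    {h : Matrix.SpecialLinearGroup ι K} {δ : ι → K} (hh : (h : Matrix ι ι K) = Matrix.diagonal δ)
    (hhH : h ∈ H) {i j : ι} (hij : i ≠ j) (k : Kˣ) (hk : ∀ u : Kˣ, u ∈ Subgroup.zpowers k)
    (hδi : δ i = k) (hδj : δ j = ((k⁻¹ : Kˣ) : K)) (u : Kˣ) (s : K) :
    (u : K) * s * u ∈ rootAddSubgroup H hij ↔ s ∈ rootAddSubgroup H hij := by
  have hkS : k ∈ stabUnits (rootAddSubgroup H hij) := by
    intro s
    have hj0 : δ j ≠ 0 := by rw [hδj]; exact Units.ne_zero _
    have h1 := diag_conj_transvection hh hij hj0 s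
    have h2 : δ i * s * (δ j)⁻¹ = (k : K) * s * k := by
      rw [hδi, hδj, Units.val_inv_eq_inv_val, inv_inv]
    rw [h2] at h1
    rw [mem_rootAddSubgroup, mem_rootAddSubgroup, ← h1]
    constructor
    · intro hmem
      have : tv hij s = h⁻¹ * (h * tv hij s * h⁻¹) * h := by group
      rw [this]
      exact H.mul_mem (H.mul_mem (H.inv_mem hhH) hmem) hhH
    · intro hmem
      exact H.mul_mem (H.mul_mem hhH hmem) (H.inv_mem hhH)
  have hle : Subgroup.zpowers k ≤ stabUnits (rootAddSubgroup H hij) := by
    rw [Subgroup.zpowers_le]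
    exact hkS
  exact hle (hk u) s

end diag3

end Cfsg.Agent.Lib.H12
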