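import Mathlib
import Cfsg.Agent.Lib.H2.Unitary6

set_option autoImplicit false
set_option linter.unusedSectionVars false

/-!
# Unitary reflections `x ↦ 2 h(x,v) v - x` for unit vectors `v`

Vector-level facts used for the involutions of `SU_3(q)`, `q` odd.
-/

namespace Cfsg.Agent.Lib.H12.SU3Inv

open Matrix Cfsg.Agent.Lib.H4 Cfsg.Agent.Lib.H2 Cfsg.Agent.Lib.H2.Unitary

variable {F : Type*} [Field F] [Fintype F] {q : ℕ} {n : ℕ}

/-- the matrix of `x ↦ 2 h(x,v) v - x` -/
def Rm (q : ℕ) (v : Fin n → F) : Matrix (Fin n) (Fin n) F :=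
  (2 : F) • Matrix.vecMulVec v (fun j => (v j) ^ q) - 1

theorem Rm_apply (v : Fin n → F) (i j : Fin n) :
    Rm q v i j = 2 * (v i * (v j) ^ q) - (1 : Matrix (Fin n) (Fin n) F) i j := by
  simp [Rm, Matrix.vecMulVec_apply]

theorem Rm_mulVec (v x : Fin n → F) :
    Rm q v *ᵥ x = (2 * Cfsg.hermForm n F q x v) • v - x := by
  rw [Rm, Matrix.sub_mulVec, Matrix.one_mulVec, Matrix.smul_mulVec, Matrix.vecMulVec_mulVec,
    mul_smul]
  congr 2
  ext i
  simp only [Pi.smul_apply, smul_eq_mul, Cfsg.hermForm, dotProduct, MulOpposite.smul_eq_mul_unop,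
    MulOpposite.unop_op]
  rw [mul_comm]
  congr 1
  refine Finset.sum_congr rfl fun j _ => by ring

theorem two_pow_q (hF : Fintype.card F = q ^ 2) : (2 : F) ^ q = 2 := by
  obtain ⟨φ, hφ, -⟩ := exists_frob hF
  rw [← hφ, map_ofNat]

theorem Rm_preserve (hF : Fintype.card F = q ^ 2) (v : Fin n → F)
    (hv : Cfsg.hermForm n F q v v = 1) (x y : Fin n → F) :
    Cfsg.hermForm n F q (Rm q v *ᵥ x) (Rm q v *ᵥ y) = Cfsg.hermForm n F q x y := by
  rw [Rm_mulVec, Rm_mulVec, hermForm_sub_left, hermForm_sub_right hF, hermForm_sub_right hF,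
    hermForm_smul_left, hermForm_smul_left, hermForm_smul_right, hermForm_smul_right, mul_pow,
    hermForm_conj n hF y v, two_pow_q hF, hv]
  ring

theorem Rm_mulVec_self (v : Fin n → F) (hv : Cfsg.hermForm n F q v v = 1) :
    Rm q v *ᵥ v = v := by
  rw [Rm_mulVec, hv, mul_one, two_smul, add_sub_cancel_right]

theorem Rm_mul_self (v : Fin n → F) (hv : Cfsg.hermForm n F q v v = 1) :
    Rm q v * Rm q v = 1 := by
  rw [Matrix.ext_iff_mulVec]
  intro x
  rw [← Matrix.mulVec_mulVec, Matrix.one_mulVec, Rm_mulVec (x := x), Matrix.mulVec_sub,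
    Matrix.mulVec_smul, Rm_mulVec_self v hv, Rm_mulVec]
  abel

theorem Rm_smul (v : Fin n → F) (l : F) (hl : l * l ^ q = 1) :
    Rm q (l • v) = Rm q v := by
  ext i j
  rw [Rm_apply, Rm_apply]
  simp only [Pi.smul_apply, smul_eq_mul, mul_pow]
  linear_combination (2 * (v i * v j ^ q)) * hl

/-- equal reflections have proportional vectors -/
theorem Rm_eq (h2 : (2 : F) ≠ 0) (v w : Fin n → F)
    (hw : Cfsg.hermForm n F q w w = 1) (h : Rm q v = Rm q w) :
    w = Cfsg.hermForm n F q w v • v := by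
  have h1 : Rm q v *ᵥ w = w := by rw [h, Rm_mulVec_self w hw]
  rw [Rm_mulVec] at h1
  have h3 : (2 : F) • (Cfsg.hermForm n F q w v • v) = (2 : F) • w := by
    rw [smul_smul, two_smul F w]
    exact eq_add_of_sub_eq h1
  exact (smul_right_injective _ h2 h3).symm

theorem norm_of_eq_smul (v w : Fin n → F) (l : F)
    (hv : Cfsg.hermForm n F q v v = 1) (hw : Cfsg.hermForm n F q w w = 1) (h : w = l • v) :
    l * l ^ q = 1 := by
  rw [h, hermForm_smul_left, hermForm_smul_right, hv, mul_one] at hw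
  exact hw

/-- conjugation by an isometry -/
theorem Rm_conj (G Ginv : Matrix (Fin n) (Fin n) F) (hG : G * Ginv = 1)
    (hpres : ∀ u v, Cfsg.hermForm n F q (G *ᵥ u) (G *ᵥ v) = Cfsg.hermForm n F q u v)
    (v : Fin n → F) : G * Rm q v * Ginv = Rm q (G *ᵥ v) := by
  rw [Matrix.ext_iff_mulVec]
  intro x
  rw [← Matrix.mulVec_mulVec, ← Matrix.mulVec_mulVec, Rm_mulVec, Rm_mulVec, Matrix.mulVec_sub,
    Matrix.mulVec_smul, Matrix.mulVec_mulVec, hG, Matrix.one_mulVec]
  congr 3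
  rw [← hpres (Ginv *ᵥ x) v, Matrix.mulVec_mulVec, hG, Matrix.one_mulVec]

/-- commuting reflections: orthogonal or equal -/
theorem Rm_commute (hF : Fintype.card F = q ^ 2) (h2 : (2 : F) ≠ 0) (v w : Fin n → F)
    (hv : Cfsg.hermForm n F q v v = 1) (hw : Cfsg.hermForm n F q w w = 1)
    (h : Rm q v * Rm q w = Rm q w * Rm q v) :
    Cfsg.hermForm n F q w v = 0 ∨ Rm q v = Rm q w := by
  by_cases hc : Cfsg.hermForm n F q w v = 0
  · exact Or.inl hc
  right
  have h1 : (Rm q v * Rm q w) *ᵥ w = (Rm q w * Rm q v) *ᵥ w := by rw [h]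
  rw [← Matrix.mulVec_mulVec, ← Matrix.mulVec_mulVec, Rm_mulVec_self w hw, Rm_mulVec (x := w),
    Matrix.mulVec_sub, Matrix.mulVec_smul, Rm_mulVec_self w hw, Rm_mulVec] at h1
  set c := Cfsg.hermForm n F q w v with hcdef
  have hc' : Cfsg.hermForm n F q v w = c ^ q := (hermForm_conj n hF w v).symm
  rw [hc'] at h1
  -- 2c v - w = 2c (2 c^q w - v) - w
  have h3 : ((2 : F) * c * 2) • v = ((2 : F) * c * 2) • (c ^ q • w) := by
    have : (2 * c) • v - w = (2 * c) • ((2 * c ^ q) • w - v) - w := h1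
    rw [smul_sub, smul_smul] at this
    have e1 : (2 * c * 2) • v = (2 * c) • v + (2 * c) • v := by
      rw [← add_smul]; congr 1; ring
    have e2 : (2 * c * 2) • (c ^ q • w) = (2 * c * (2 * c ^ q)) • w := by
      rw [smul_smul]; congr 1; ring
    rw [e1, e2]
    have := sub_left_injective this
    exact eq_sub_iff_add_eq.1 this
  have hne : (2 : F) * c * 2 ≠ 0 := mul_ne_zero (mul_ne_zero h2 hc) h2
  have h4 : v = c ^ q • w := smul_right_injective _ hne h3
  have hl := norm_of_eq_smul w v (c ^ q) hw hv h4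
  rw [h4, Rm_smul w _ hl]

end Cfsg.Agent.Lib.H12.SU3Inv
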