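import Mathlib
import Cfsg.Agent.Lib.H12.SU3Refl

set_option autoImplicit false
set_option linter.unusedSectionVars false

/-!
# Involutions of `SU_3(q)`, `q` odd, are the reflections `x ↦ 2 h(x,v) v - x`
-/

namespace Cfsg.Agent.Lib.H12.SU3Inv

open Matrix Cfsg.Agent.Lib.H4 Cfsg.Agent.Lib.H2 Cfsg.Agent.Lib.H2.Unitary

section ring

variable {R : Type*} [CommRing R]

/-- the second coefficient of the characteristic polynomial of a `3 × 3` matrix -/
def c2 (A : Matrix (Fin 3) (Fin 3) R) : R :=
  (A 0 0 * A 1 1 - A 0 1 * A 1 0) + (A 0 0 * A 2 2 - A 0 2 * A 2 0) +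
    (A 1 1 * A 2 2 - A 1 2 * A 2 1)

theorem adj3 (A : Matrix (Fin 3) (Fin 3) R) :
    A.adjugate = A * A - A.trace • A + c2 A • (1 : Matrix (Fin 3) (Fin 3) R) := by
  rw [Matrix.adjugate_fin_three]
  ext i j
  fin_cases i <;> fin_cases j <;>
    simp [Matrix.mul_apply, Fin.sum_univ_three, Matrix.trace_fin_three, c2] <;> ring

theorem two_c2 (A : Matrix (Fin 3) (Fin 3) R) :
    2 * c2 A = A.trace ^ 2 - (A * A).trace := by
  simp [Matrix.mul_apply, Fin.sum_univ_three, Matrix.trace_fin_three, c2]
  ring

theorem minors_of_adj (A : Matrix (Fin 3) (Fin 3) R) (h : A.adjugate = 0) (i j k l : Fin 3) :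
    A i j * A k l = A i l * A k j := by
  rw [Matrix.adjugate_fin_three] at h
  have m00 := congrFun (congrFun h 0) 0
  have m01 := congrFun (congrFun h 0) 1
  have m02 := congrFun (congrFun h 0) 2
  have m10 := congrFun (congrFun h 1) 0
  have m11 := congrFun (congrFun h 1) 1
  have m12 := congrFun (congrFun h 1) 2
  have m20 := congrFun (congrFun h 2) 0
  have m21 := congrFun (congrFun h 2) 1
  have m22 := congrFun (congrFun h 2) 2
  simp at m00 m01 m02 m10 m11 m12 m20 m21 m22
  clear h
  fin_cases i <;> fin_cases j <;> fin_cases k <;> fin_cases l <;>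
    simp only [Fin.zero_eta, Fin.mk_one, Fin.reduceFinMk]
  · ring
  · ring
  · linear_combination m22
  · linear_combination -m12
  · linear_combination -m21
  · linear_combination m11
  · ring
  · ring
  · linear_combination -m22
  · linear_combination m02
  · linear_combination m21
  · linear_combination -m01
  · ring
  · ring
  · linear_combination m12
  · linear_combination -m02
  · linear_combination -m11
  · linear_combination m01
  · linear_combination -m22
  · linear_combination m12
  · ring
  · ring
  · linear_combination m20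
  · linear_combination -m10
  · linear_combination m22
  · linear_combination -m02
  · ring
  · ring
  · linear_combination -m20
  · linear_combination m00
  · linear_combination -m12
  · linear_combination m02
  · ring
  · ring
  · linear_combination m10
  · linear_combination -m00
  · linear_combination m21
  · linear_combination -m11
  · linear_combination -m20
  · linear_combination m10
  · ring
  · ring
  · linear_combination -m21
  · linear_combination m01
  · linear_combination m20
  · linear_combination -m00
  · ring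
  · ring
  · linear_combination m11
  · linear_combination -m01
  · linear_combination -m10
  · linear_combination m00
  · ring
  · ring

end ring

variable {F : Type*} [Field F] [Fintype F] {q : ℕ} {n : ℕ}

theorem hermForm_single_right (hq : q ≠ 0) (x : Fin n → F) (i : Fin n) :
    Cfsg.hermForm n F q x (Pi.single i 1) = x i := by
  classical
  unfold Cfsg.hermForm
  rw [Finset.sum_eq_single i]
  · simp
  · intro b _ hb
    simp [hb, zero_pow hq]
  · intro h; exact absurd (Finset.mem_univ i) h

theorem hermForm_single_left (y : Fin n → F) (j : Fin n) :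
    Cfsg.hermForm n F q (Pi.single j 1) y = (y j) ^ q := by
  classical
  unfold Cfsg.hermForm
  rw [Finset.sum_eq_single j]
  · simp
  · intro b _ hb
    simp [hb]
  · intro h; exact absurd (Finset.mem_univ j) h

theorem two_ne_zero_of_odd (hF : Fintype.card F = q ^ 2) (hq : Odd q) : (2 : F) ≠ 0 := by
  apply Ring.two_ne_zero
  intro h
  rw [FiniteField.even_card_iff_char_two, hF] at h
  have := (hq.pow (n := 2))
  rw [Nat.odd_iff] at this
  omega

/-- an isometry of order two is self-adjoint -/
theorem selfadj_of_sq (hF : Fintype.card F = q ^ 2) (M : Matrix (Fin n) (Fin n) F)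
    (hM2 : M * M = 1)
    (hpres : ∀ u v, Cfsg.hermForm n F q (M *ᵥ u) (M *ᵥ v) = Cfsg.hermForm n F q u v)
    (i j : Fin n) : M i j = (M j i) ^ q := by
  have hq : q ≠ 0 := by
    have := Herm.two_le_q hF
    omega
  have h1 := hpres (M *ᵥ Pi.single j 1) (Pi.single i 1)
  rw [Matrix.mulVec_mulVec, hM2, Matrix.one_mulVec, hermForm_single_left,
    hermForm_single_right hq, Matrix.mulVec_single_one, Matrix.mulVec_single_one] at h1
  exact h1.symm

/-- the trace of an involution of determinant one in degree 3 is `-1` -/
theorem trace_of_sq (h2 : (2 : F) ≠ 0) (M : Matrix (Fin 3) (Fin 3) F)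
    (hM2 : M * M = 1) (hM1 : M ≠ 1) (hdet : M.det = 1) : M.trace = -1 := by
  have hadj : M.adjugate = M := by
    have h1 : M * M.adjugate = 1 := by rw [Matrix.mul_adjugate, hdet, one_smul]
    calc M.adjugate = (M * M) * M.adjugate := by rw [hM2, one_mul]
      _ = M * (M * M.adjugate) := by rw [mul_assoc]
      _ = M := by rw [h1, mul_one]
  have h3 := adj3 M
  rw [hadj, hM2] at h3
  by_contra hτ
  have hτ' : 1 + M.trace ≠ 0 := by
    intro h0
    apply hτ
    linear_combination h0
  have hM : M = ((1 + c2 M) / (1 + M.trace)) • (1 : Matrix (Fin 3) (Fin 3) F) := by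
    have h4 : (1 + M.trace) • M = (1 + c2 M) • (1 : Matrix (Fin 3) (Fin 3) F) := by
      rw [add_smul, add_smul, one_smul, one_smul]
      nth_rewrite 1 [h3]
      abel
    rw [div_eq_inv_mul, mul_smul, ← h4, smul_smul, inv_mul_cancel₀ hτ', one_smul]
  set s := (1 + c2 M) / (1 + M.trace) with hs
  have hs2 : s * s = 1 := by
    have := congrFun (congrFun hM2 0) 0
    rw [hM] at this
    simpa [Matrix.mul_apply, Fin.sum_univ_three] using this
  have hs' : (s - 1) * (s + 1) = 0 := by linear_combination hs2
  rcases mul_eq_zero.1 hs' with h | h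
  · apply hM1
    rw [hM, sub_eq_zero.1 h, one_smul]
  · have hsm : s = -1 := by linear_combination h
    rw [hM, hsm, Matrix.det_smul, Matrix.det_one] at hdet
    simp at hdet
    apply h2
    linear_combination -hdet

/-- structure of involutions of `SU_3(q)`, `q` odd -/
theorem exists_unit_vector (hF : Fintype.card F = q ^ 2) (hq : Odd q)
    (M : Matrix (Fin 3) (Fin 3) F)
    (hM2 : M * M = 1) (hM1 : M ≠ 1) (hdet : M.det = 1)
    (hpres : ∀ u v, Cfsg.hermForm 3 F q (M *ᵥ u) (M *ᵥ v) = Cfsg.hermForm 3 F q u v) :
    ∃ v : Fin 3 → F, Cfsg.hermForm 3 F q v v = 1 ∧ M = Rm q v := by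
  classical
  have h2 : (2 : F) ≠ 0 := two_ne_zero_of_odd hF hq
  obtain ⟨φ, hφ, hφ2⟩ := exists_frob hF
  have htr := trace_of_sq h2 M hM2 hM1 hdet
  have hsa := selfadj_of_sq hF M hM2 hpres
  set P : Matrix (Fin 3) (Fin 3) F := (2⁻¹ : F) • (1 + M) with hP
  have hPP : P * P = P := by
    rw [hP, Matrix.smul_mul, Matrix.mul_smul, smul_smul, add_mul, mul_add, mul_add, hM2, one_mul,
      mul_one, one_mul]
    have : (1 : Matrix (Fin 3) (Fin 3) F) + M + (M + 1) = (2 : F) • (1 + M) := by
      rw [two_smul]; abel
    rw [this, smul_smul]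
    congr 1
    field_simp
  have hPtr : P.trace = 1 := by
    rw [hP, Matrix.trace_smul, Matrix.trace_add, htr, Matrix.trace_one, Fintype.card_fin]
    rw [smul_eq_mul]
    field_simp
    norm_num
  have hc2 : c2 P = 0 := by
    have := two_c2 P
    rw [hPP, hPtr] at this
    have h0 : (2 : F) * c2 P = 0 := by rw [this]; ring
    rcases mul_eq_zero.1 h0 with h | h
    · exact absurd h h2
    · exact h
  have hadjP : P.adjugate = 0 := by
    rw [adj3, hPP, hPtr, hc2, one_smul, zero_smul, sub_self, add_zero]
  have hmin := minors_of_adj P hadjP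
  have hPsa : ∀ i j, P i j = φ (P j i) := by
    intro i j
    rw [hP]
    simp only [Matrix.smul_apply, Matrix.add_apply, smul_eq_mul, map_mul, map_add, map_inv₀,
      map_ofNat]
    rw [hφ (M j i), ← hsa i j, Matrix.one_apply, Matrix.one_apply]
    by_cases hij : i = j
    · subst hij; simp
    · rw [if_neg hij, if_neg (Ne.symm hij), map_zero]
  obtain ⟨k, hk⟩ : ∃ k, P k k ≠ 0 := by
    by_contra hcon
    push Not at hcon
    rw [Matrix.trace_fin_three, hcon, hcon, hcon] at hPtr
    simp at hPtr
  have hkq : (P k k) ^ q = P k k := by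
    rw [← hφ, ← hPsa]
  have hfib := Herm.card_N_fiber hF (P k k) hk hkq
  have hne : Nonempty {x : F // Herm.N q x = P k k} := by
    by_contra hcon
    rw [not_nonempty_iff] at hcon
    rw [Nat.card_of_isEmpty] at hfib
    omega
  obtain ⟨⟨c, hc⟩⟩ := hne
  have hc' : c * φ c = P k k := by rw [hφ]; exact hc
  have hc0 : c ≠ 0 := by
    intro h0
    apply hk
    rw [← hc', h0, zero_mul]
  have hφc0 : φ c ≠ 0 := by
    intro h0
    apply hk
    rw [← hc', h0, mul_zero]
  set v : Fin 3 → F := fun i => P i k * c⁻¹ with hv
  have hvv : ∀ i j, v i * (v j) ^ q = P i j := by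
    intro i j
    rw [hv]
    simp only
    rw [← hφ, map_mul, map_inv₀, ← hPsa]
    have h1 := hmin i k k j
    field_simp
    rw [hc']
    linear_combination h1
  refine ⟨v, ?_, ?_⟩
  · unfold Cfsg.hermForm
    rw [Fin.sum_univ_three, hvv, hvv, hvv, ← hPtr, Matrix.trace_fin_three]
  · ext i j
    rw [Rm_apply, hvv, hP]
    simp only [Matrix.smul_apply, Matrix.add_apply, smul_eq_mul]
    field_simp
    ring

end Cfsg.Agent.Lib.H12.SU3Inv
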