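import Mathlib
import Cfsg.Agent.Lib.H12.SU3Struct
import Cfsg.Agent.Lib.H2.ClassCard

set_option autoImplicit false
set_option linter.unusedSectionVars false

/-!
# Involutions of `SU_3(q)`, `q` odd: group level
-/

namespace Cfsg.Agent.Lib.H12.SU3Inv

open Matrix Cfsg.Agent.Lib.H4 Cfsg.Agent.Lib.H2 Cfsg.Agent.Lib.H2.Unitary

variable {F : Type*} [Field F] [Fintype F] {q : ℕ}

theorem Rm_det (v : Fin 3 → F) (hv : Cfsg.hermForm 3 F q v v = 1) : (Rm q v).det = 1 := by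
  have h1 : (Rm q v).det = 2 * Cfsg.hermForm 3 F q v v - 1 := by
    rw [Matrix.det_fin_three]
    simp only [Rm_apply, Cfsg.hermForm, Fin.sum_univ_three, Matrix.one_apply]
    simp
    ring
  rw [h1, hv]
  ring

theorem Rm_trace (v : Fin 3 → F) (hv : Cfsg.hermForm 3 F q v v = 1) : (Rm q v).trace = -1 := by
  have h1 : (Rm q v).trace = 2 * Cfsg.hermForm 3 F q v v - 3 := by
    rw [Matrix.trace_fin_three]
    simp only [Rm_apply, Cfsg.hermForm, Fin.sum_univ_three, Matrix.one_apply]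
    simp
    ring
  rw [h1, hv]
  ring

theorem ut_det (w : Fin 3 → F) (c : F) :
    (Cfsg.unitaryTransvection 3 q w c).det = 1 + c * Cfsg.hermForm 3 F q w w := by
  rw [Matrix.det_fin_three]
  simp only [Cfsg.unitaryTransvection, Cfsg.hermForm, Fin.sum_univ_three, Matrix.add_apply,
    Matrix.smul_apply, Matrix.vecMulVec_apply, Matrix.one_apply, smul_eq_mul]
  simp
  ring

/-- the reflection along a unit vector as an element of `SU_3` -/
def refl (hF : Fintype.card F = q ^ 2) (v : Sphere 3 F q) : Cfsg.SU 3 F q :=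
  mkSU (Rm q v.1) (Rm_det v.1 v.2) (Rm_preserve hF v.1 v.2)

theorem refl_val (hF : Fintype.card F = q ^ 2) (v : Sphere 3 F q) :
    (((refl hF v : Cfsg.SU 3 F q) : SpecialLinearGroup (Fin 3) F) : Matrix (Fin 3) (Fin 3) F) =
      Rm q v.1 := rfl

theorem ext_SU {n : ℕ} {A B : Cfsg.SU n F q}
    (h : ((A : SpecialLinearGroup (Fin n) F) : Matrix (Fin n) (Fin n) F) =
      ((B : SpecialLinearGroup (Fin n) F) : Matrix (Fin n) (Fin n) F)) : A = B :=
  Subtype.ext (Subtype.ext h)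

theorem one_val_SU {n : ℕ} :
    (((1 : Cfsg.SU n F q) : SpecialLinearGroup (Fin n) F) : Matrix (Fin n) (Fin n) F) = 1 := rfl

theorem refl_mul_self (hF : Fintype.card F = q ^ 2) (v : Sphere 3 F q) :
    refl hF v * refl hF v = 1 := by
  apply ext_SU
  rw [mul_val_SU, refl_val, one_val_SU, Rm_mul_self v.1 v.2]

theorem refl_ne_one (hF : Fintype.card F = q ^ 2) (h2 : (2 : F) ≠ 0) (v : Sphere 3 F q) :
    refl hF v ≠ 1 := by
  intro h
  have h1 : Rm q v.1 = 1 := by rw [← refl_val hF v, h, one_val_SU]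
  have h3 := Rm_trace v.1 v.2
  rw [h1, Matrix.trace_one, Fintype.card_fin] at h3
  apply h2
  have h4 : (2 : F) * 2 = 0 := by
    push_cast at h3
    linear_combination h3
  rcases mul_eq_zero.1 h4 with h | h <;> exact h

/-- every involution is a reflection -/
theorem exists_refl_eq (hF : Fintype.card F = q ^ 2) (hq : Odd q) (t : Cfsg.SU 3 F q)
    (ht : t ≠ 1) (ht2 : t * t = 1) : ∃ v : Sphere 3 F q, t = refl hF v := by
  have hM2 : ((t : SpecialLinearGroup (Fin 3) F) : Matrix (Fin 3) (Fin 3) F) *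
      ((t : SpecialLinearGroup (Fin 3) F) : Matrix (Fin 3) (Fin 3) F) = 1 := by
    rw [← mul_val_SU, ht2, one_val_SU]
  have hM1 : ((t : SpecialLinearGroup (Fin 3) F) : Matrix (Fin 3) (Fin 3) F) ≠ 1 := by
    intro h
    apply ht
    apply ext_SU
    rw [h, one_val_SU]
  obtain ⟨v, hv, hMv⟩ := exists_unit_vector hF hq _ hM2 hM1 t.1.2 ((mem_SU_iff t.1).1 t.2)
  refine ⟨⟨v, hv⟩, ?_⟩
  apply ext_SU
  rw [refl_val]
  exact hMv

theorem inv_val_mul {n : ℕ} (g : Cfsg.SU n F q) :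
    ((g : SpecialLinearGroup (Fin n) F) : Matrix (Fin n) (Fin n) F) *
      (((g⁻¹ : Cfsg.SU n F q) : SpecialLinearGroup (Fin n) F) : Matrix (Fin n) (Fin n) F) = 1 := by
  rw [← mul_val_SU, mul_inv_cancel, one_val_SU]

/-- conjugating a reflection -/
theorem conj_refl (hF : Fintype.card F = q ^ 2) (g : Cfsg.SU 3 F q) (v w : Sphere 3 F q)
    (l : F) (hgv : ((g : SpecialLinearGroup (Fin 3) F) : Matrix (Fin 3) (Fin 3) F) *ᵥ v.1 =
      l • w.1) : g * refl hF v * g⁻¹ = refl hF w := by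
  apply ext_SU
  rw [mul_val_SU, mul_val_SU, refl_val, refl_val,
    Rm_conj _ _ (inv_val_mul g) ((mem_SU_iff g.1).1 g.2), hgv]
  have hl : l * l ^ q = 1 := by
    have h1 := (mem_SU_iff g.1).1 g.2 v.1 v.1
    rw [hgv, hermForm_smul_left, hermForm_smul_right, w.2, v.2, mul_one] at h1
    exact h1
  exact Rm_smul w.1 l hl

/-- `SU_3` is transitive on unit vectors up to scalars -/
theorem exists_SU_mulVec (hF : Fintype.card F = q ^ 2) (v w : Sphere 3 F q) :
    ∃ (g : Cfsg.SU 3 F q) (l : F),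
      ((g : SpecialLinearGroup (Fin 3) F) : Matrix (Fin 3) (Fin 3) F) *ᵥ v.1 = l • w.1 := by
  obtain ⟨g, hg, hgv⟩ := exists_GU_mulVec_eq hF v.1 w.1 v.2 w.2
  set δ := (g : Matrix (Fin 3) (Fin 3) F).det with hδ
  have hδN : δ * δ ^ q = 1 := det_norm hF g hg
  have hδ0 : δ ≠ 0 := by
    intro h0
    rw [h0, zero_mul] at hδN
    exact zero_ne_one hδN
  set c := δ⁻¹ - 1 with hc
  have hcq : c ^ q = (δ ^ q)⁻¹ - 1 := by
    rw [hc, Herm.sub_pow_q hF, one_pow, inv_pow]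
  have hδq0 : δ ^ q ≠ 0 := pow_ne_zero _ hδ0
  have hcond : c + c ^ q + c * c ^ q * Cfsg.hermForm 3 F q w.1 w.1 = 0 := by
    rw [w.2, hcq, hc]
    field_simp
    linear_combination -hδN
  set S := Cfsg.unitaryTransvection 3 q w.1 c with hS
  have hSdet : S.det = δ⁻¹ := by
    rw [hS, ut_det, w.2, hc]
    ring
  refine ⟨mkSU (S * (g : Matrix (Fin 3) (Fin 3) F)) ?_ ?_, δ⁻¹, ?_⟩
  · rw [Matrix.det_mul, hSdet, ← hδ, inv_mul_cancel₀ hδ0]
  · intro x y
    rw [← Matrix.mulVec_mulVec, ← Matrix.mulVec_mulVec, qr_preserve hF w.1 c hcond,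
      (mem_GU_iff g).1 hg]
  · rw [mkSU_val, ← Matrix.mulVec_mulVec, hgv, hS, unitaryTransvection_mulVec, w.2, mul_one, hc]
    rw [sub_smul, one_smul]
    abel

/-- all involutions are conjugate -/
theorem conj_involutions (hF : Fintype.card F = q ^ 2) (hq : Odd q) (t x : Cfsg.SU 3 F q)
    (ht : t ≠ 1) (ht2 : t * t = 1) (hx : x ≠ 1) (hx2 : x * x = 1) :
    ∃ g : Cfsg.SU 3 F q, g * t * g⁻¹ = x := by
  obtain ⟨v, rfl⟩ := exists_refl_eq hF hq t ht ht2
  obtain ⟨w, rfl⟩ := exists_refl_eq hF hq x hx hx2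
  obtain ⟨g, l, hg⟩ := exists_SU_mulVec hF v w
  exact ⟨g, conj_refl hF g v w l hg⟩

end Cfsg.Agent.Lib.H12.SU3Inv
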