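import Mathlib
import Cfsg.Agent.Lib.H12.SU3Main

set_option autoImplicit false
set_option linter.unusedSectionVars false

/-!
# Involutions of `SU_3(q)`, `q` odd: counting
-/

namespace Cfsg.Agent.Lib.H12.SU3Inv

open Matrix Cfsg.Agent.Lib.H4 Cfsg.Agent.Lib.H2 Cfsg.Agent.Lib.H2.Unitary

variable {F : Type*} [Field F] [Fintype F] {q : ℕ}

/-- the type of involutions -/
abbrev Inv (F : Type*) [Field F] (q : ℕ) : Type _ :=
  {x : Cfsg.SU 3 F q // x ≠ 1 ∧ x * x = 1}

/-- unit vector ↦ reflection -/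
def reflInv (hF : Fintype.card F = q ^ 2) (h2 : (2 : F) ≠ 0) (v : Sphere 3 F q) : Inv F q :=
  ⟨refl hF v, refl_ne_one hF h2 v, refl_mul_self hF v⟩

theorem reflInv_surjective (hF : Fintype.card F = q ^ 2) (hq : Odd q) (h2 : (2 : F) ≠ 0) :
    Function.Surjective (reflInv hF h2) := by
  intro t
  obtain ⟨v, hv⟩ := exists_refl_eq hF hq t.1 t.2.1 t.2.2
  exact ⟨v, Subtype.ext hv.symm⟩

theorem refl_eq_iff (hF : Fintype.card F = q ^ 2) (v w : Sphere 3 F q) :
    refl hF v = refl hF w ↔ Rm q v.1 = Rm q w.1 := by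
  constructor
  · intro h
    rw [← refl_val hF v, ← refl_val hF w, h]
  · intro h
    apply ext_SU
    rw [refl_val, refl_val, h]

/-- the fibres of `reflInv` -/
noncomputable def fiberEquiv (hF : Fintype.card F = q ^ 2) (h2 : (2 : F) ≠ 0) (v₀ : Sphere 3 F q) :
    {l : F // Herm.N q l = 1} ≃ {v : Sphere 3 F q // reflInv hF h2 v = reflInv hF h2 v₀} where
  toFun l := ⟨⟨l.1 • v₀.1, by
      rw [hermForm_smul_left, hermForm_smul_right, v₀.2, mul_one]; exact l.2⟩, by
      apply Subtype.ext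
      show refl hF _ = refl hF v₀
      rw [refl_eq_iff]
      exact Rm_smul v₀.1 l.1 l.2⟩
  invFun v := ⟨Cfsg.hermForm 3 F q v.1.1 v₀.1, by
      have h1 : Rm q v₀.1 = Rm q v.1.1 := by
        rw [← refl_eq_iff hF]
        exact (congrArg Subtype.val v.2).symm
      have h3 := Rm_eq h2 v₀.1 v.1.1 v.1.2 h1
      exact norm_of_eq_smul v₀.1 v.1.1 _ v₀.2 v.1.2 h3⟩
  left_inv l := by
    apply Subtype.ext
    show Cfsg.hermForm 3 F q (l.1 • v₀.1) v₀.1 = l.1
    rw [hermForm_smul_left, v₀.2, mul_one]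
  right_inv v := by
    apply Subtype.ext
    apply Subtype.ext
    show Cfsg.hermForm 3 F q v.1.1 v₀.1 • v₀.1 = v.1.1
    have h1 : Rm q v₀.1 = Rm q v.1.1 := by
      rw [← refl_eq_iff hF]
      exact (congrArg Subtype.val v.2).symm
    exact (Rm_eq h2 v₀.1 v.1.1 v.1.2 h1).symm

theorem card_sphere_eq (hF : Fintype.card F = q ^ 2) (hq : Odd q) :
    Nat.card (Sphere 3 F q) = Nat.card (Inv F q) * (q + 1) := by
  classical
  have h2 : (2 : F) ≠ 0 := two_ne_zero_of_odd hF hq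
  have : Fintype (Inv F q) := Fintype.ofFinite _
  rw [Nat.card_congr (Equiv.sigmaFiberEquiv (reflInv hF h2)).symm, Nat.card_sigma]
  have hfib : ∀ t : Inv F q, Nat.card {v : Sphere 3 F q // reflInv hF h2 v = t} = q + 1 := by
    intro t
    obtain ⟨v₀, rfl⟩ := reflInv_surjective hF hq h2 t
    rw [← Nat.card_congr (fiberEquiv hF h2 v₀)]
    exact Herm.card_N_fiber hF 1 one_ne_zero (one_pow q)
  rw [Finset.sum_congr rfl (fun t _ => hfib t), Finset.sum_const, Finset.card_univ, smul_eq_mul,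
    Nat.card_eq_fintype_card]

theorem arith1 (q : ℕ) : q ^ 3 + 1 = (q + 1) * (q ^ 2 - q + 1) := by
  have hq2 : q ≤ q ^ 2 := by nlinarith
  obtain ⟨m, hm⟩ : ∃ m, q ^ 2 = m + q := ⟨q ^ 2 - q, by omega⟩
  have h3 : q ^ 3 = q * m + m + q := by
    calc q ^ 3 = q * q ^ 2 := by ring
      _ = q * (m + q) := by rw [hm]
      _ = q * m + q ^ 2 := by ring
      _ = q * m + (m + q) := by rw [hm]
      _ = q * m + m + q := by ring
  rw [hm, Nat.add_sub_cancel, h3]
  ring

/-- the number of involutions -/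
theorem card_inv (hF : Fintype.card F = q ^ 2) (hq : Odd q) :
    Nat.card (Inv F q) = q ^ 2 * (q ^ 2 - q + 1) := by
  have h1 := card_sphere_eq hF hq
  have h3 : Nat.card (Sphere 3 F q) = q ^ 2 * (q ^ 3 + 1) := by
    have := Herm.card_norm_one hF 3
    rw [if_neg (by decide)] at this
    exact this
  rw [h3, arith1] at h1
  have hpos : 0 < q + 1 := by omega
  apply Nat.eq_of_mul_eq_mul_right hpos
  rw [← h1]
  ring

theorem card_SU3 (hF : Fintype.card F = q ^ 2) :
    Nat.card (Cfsg.SU 3 F q) = q ^ 3 * (q ^ 2 - 1) * (q ^ 3 + 1) := by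
  have h1 := card_SU_mul (n := 3) hF (by norm_num)
  have h3 : ordGU q 3 = (q + 1) * (q ^ 3 * (q ^ 2 - 1) * (q ^ 3 + 1)) := by
    unfold ordGU
    simp [Finset.prod_range_succ]
    ring
  rw [h3] at h1
  exact Nat.eq_of_mul_eq_mul_left (by omega) h1

/-- the order of the centralizer of an involution -/
theorem card_centralizer (hF : Fintype.card F = q ^ 2) (hq : Odd q) (t : Cfsg.SU 3 F q)
    (ht : t ≠ 1) (ht2 : t * t = 1) :
    Nat.card (Subgroup.centralizer ({t} : Set (Cfsg.SU 3 F q))) = q * (q + 1) * (q ^ 2 - 1) := by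
  have h1 := Cfsg.Agent.Lib.H2.ncard_conj_mul_card_centralizer t
  have hset : {y : Cfsg.SU 3 F q | IsConj t y} = {y | y ≠ 1 ∧ y * y = 1} := by
    ext y
    simp only [Set.mem_ofPred_eq]
    constructor
    · intro h
      obtain ⟨g, rfl⟩ := isConj_iff.1 h
      refine ⟨?_, ?_⟩
      · intro h1
        apply ht
        have : t = g⁻¹ * (g * t * g⁻¹) * g := by group
        rw [this, h1]
        group
      · calc g * t * g⁻¹ * (g * t * g⁻¹) = g * (t * t) * g⁻¹ := by group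
          _ = 1 := by rw [ht2]; group
    · rintro ⟨hy, hy2⟩
      exact isConj_iff.2 (conj_involutions hF hq t y ht ht2 hy hy2)
  rw [hset, ← Nat.card_coe_set_eq] at h1
  have h3 : Nat.card ↥{y : Cfsg.SU 3 F q | y ≠ 1 ∧ y * y = 1} = q ^ 2 * (q ^ 2 - q + 1) :=
    card_inv hF hq
  rw [h3, card_SU3 hF, arith1] at h1
  have hq1 : 1 ≤ q := by
    have := Herm.two_le_q hF
    omega
  have hpos : 0 < q ^ 2 * (q ^ 2 - q + 1) := by positivity
  apply Nat.eq_of_mul_eq_mul_left hpos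
  rw [h1]
  ring

end Cfsg.Agent.Lib.H12.SU3Inv
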