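import Mathlib

set_option autoImplicit false

/-!
# Generic counting and transport lemmas for the commuting involution graph
-/

namespace Cfsg.Agent.Lib.H12.SU3Inv

section counting

variable {α β : Type*}

/-- counting through a surjection with constant fibre size, restricted to a predicate -/
theorem card_pred_fiber [Finite α] [Finite β] (f : α → β) (k : ℕ)
    (hk : ∀ b, Nat.card {a // f a = b} = k) (Q : β → Prop) :
    Nat.card {a // Q (f a)} = Nat.card {b // Q b} * k := by
  classical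
  have : Fintype {b // Q b} := Fintype.ofFinite _
  let f' : {a // Q (f a)} → {b // Q b} := fun a => ⟨f a.1, a.2⟩
  rw [Nat.card_congr (Equiv.sigmaFiberEquiv f').symm, Nat.card_sigma]
  have hfib : ∀ b : {b // Q b}, Nat.card {a : {a // Q (f a)} // f' a = b} = k := by
    intro b
    rw [← hk b.1]
    apply Nat.card_congr
    refine ⟨fun a => ⟨a.1.1, congrArg Subtype.val a.2⟩,
      fun a => ⟨⟨a.1, by rw [a.2]; exact b.2⟩, Subtype.ext a.2⟩, ?_, ?_⟩
    · intro a; rfl
    · intro a; rfl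
  rw [Finset.sum_congr rfl (fun t _ => hfib t), Finset.sum_const, Finset.card_univ, smul_eq_mul,
    Nat.card_eq_fintype_card]

theorem card_split [Finite α] (P : α → Prop) :
    Nat.card α = Nat.card {x // P x} + Nat.card {x // ¬ P x} := by
  classical
  rw [← Nat.card_sum]
  exact Nat.card_congr (Equiv.sumCompl P).symm

end counting

section transport

variable {G : Type*} [Group G]

/-- involutions other than `t` commuting with `t` -/
def PA (t x : G) : Prop := x ≠ 1 ∧ x * x = 1 ∧ x ≠ t ∧ Commute t x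

/-- involutions at distance two from `t` -/
def PB (t x : G) : Prop := x ≠ 1 ∧ x * x = 1 ∧ ¬ Commute t x ∧
  ∃ y : G, y ≠ 1 ∧ y * y = 1 ∧ Commute t y ∧ Commute y x

/-- involutions at distance at least three from `t` -/
def PC (t x : G) : Prop := x ≠ 1 ∧ x * x = 1 ∧ ¬ Commute t x ∧
  ∀ y : G, y ≠ 1 → y * y = 1 → ¬ (Commute t y ∧ Commute y x)

/-- every involution is within distance three of `t` -/
def PD (t : G) : Prop := ∀ x : G, x ≠ 1 → x * x = 1 →
  ∃ y z : G, y ≠ 1 ∧ y * y = 1 ∧ z ≠ 1 ∧ z * z = 1 ∧ Commute t y ∧ Commute y z ∧ Commute z x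

theorem map_ne_one (φ : G ≃* G) (x : G) : φ x ≠ 1 ↔ x ≠ 1 := by
  rw [Ne, Ne, EmbeddingLike.map_eq_one_iff]

theorem map_sq (φ : G ≃* G) (x : G) : φ x * φ x = 1 ↔ x * x = 1 := by
  rw [← map_mul, EmbeddingLike.map_eq_one_iff]

theorem map_commute (φ : G ≃* G) (x y : G) : Commute (φ x) (φ y) ↔ Commute x y := by
  constructor
  · intro h
    have := h.map φ.symm
    simpa using this
  · intro h
    exact h.map φ

theorem PA_map (φ : G ≃* G) (t x : G) : PA (φ t) (φ x) ↔ PA t x := by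
  unfold PA
  rw [map_ne_one, map_sq, map_commute, φ.injective.ne_iff]

theorem PB_map (φ : G ≃* G) (t x : G) : PB (φ t) (φ x) ↔ PB t x := by
  unfold PB
  rw [map_ne_one, map_sq, map_commute]
  constructor
  · rintro ⟨h1, h2, h3, y, hy1, hy2, hy3, hy4⟩
    refine ⟨h1, h2, h3, φ.symm y, ?_, ?_, ?_, ?_⟩
    · rw [← map_ne_one φ, MulEquiv.apply_symm_apply]; exact hy1
    · rw [← map_sq φ, MulEquiv.apply_symm_apply]; exact hy2
    · rw [← map_commute φ, MulEquiv.apply_symm_apply]; exact hy3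
    · rw [← map_commute φ, MulEquiv.apply_symm_apply]; exact hy4
  · rintro ⟨h1, h2, h3, y, hy1, hy2, hy3, hy4⟩
    exact ⟨h1, h2, h3, φ y, (map_ne_one φ y).2 hy1, (map_sq φ y).2 hy2,
      (map_commute φ t y).2 hy3, (map_commute φ y x).2 hy4⟩

theorem PC_map (φ : G ≃* G) (t x : G) : PC (φ t) (φ x) ↔ PC t x := by
  unfold PC
  rw [map_ne_one, map_sq, map_commute]
  constructor
  · rintro ⟨h1, h2, h3, h4⟩
    refine ⟨h1, h2, h3, fun y hy1 hy2 hy3 => ?_⟩
    exact h4 (φ y) ((map_ne_one φ y).2 hy1) ((map_sq φ y).2 hy2)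
      ⟨(map_commute φ t y).2 hy3.1, (map_commute φ y x).2 hy3.2⟩
  · rintro ⟨h1, h2, h3, h4⟩
    refine ⟨h1, h2, h3, fun y hy1 hy2 hy3 => ?_⟩
    apply h4 (φ.symm y)
    · rw [← map_ne_one φ, MulEquiv.apply_symm_apply]; exact hy1
    · rw [← map_sq φ, MulEquiv.apply_symm_apply]; exact hy2
    · constructor
      · rw [← map_commute φ, MulEquiv.apply_symm_apply]; exact hy3.1
      · rw [← map_commute φ, MulEquiv.apply_symm_apply]; exact hy3.2

theorem PD_map (φ : G ≃* G) (t : G) (h : PD t) : PD (φ t) := by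
  intro x hx1 hx2
  have hx1' : φ.symm x ≠ 1 := by
    rw [← map_ne_one φ, MulEquiv.apply_symm_apply]; exact hx1
  have hx2' : φ.symm x * φ.symm x = 1 := by
    rw [← map_sq φ, MulEquiv.apply_symm_apply]; exact hx2
  obtain ⟨y, z, hy1, hy2, hz1, hz2, c1, c2, c3⟩ := h (φ.symm x) hx1' hx2'
  refine ⟨φ y, φ z, (map_ne_one φ y).2 hy1, (map_sq φ y).2 hy2, (map_ne_one φ z).2 hz1,
    (map_sq φ z).2 hz2, (map_commute φ t y).2 c1, (map_commute φ y z).2 c2, ?_⟩
  have := (map_commute φ z (φ.symm x)).2 c3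
  rwa [MulEquiv.apply_symm_apply] at this

theorem card_map (φ : G ≃* G) (P : G → G → Prop)
    (hP : ∀ t x, P (φ t) (φ x) ↔ P t x) (t : G) :
    Nat.card {x // P (φ t) x} = Nat.card {x // P t x} :=
  (Nat.card_congr (φ.toEquiv.subtypeEquiv (fun x => (hP t x).symm))).symm

end transport

end Cfsg.Agent.Lib.H12.SU3Inv
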