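import Mathlib
import Cfsg.Agent.Lib.H12.SU3Count

set_option autoImplicit false
set_option linter.unusedSectionVars false

/-!
# Commuting involutions of `SU_3(q)`, `q` odd
-/

namespace Cfsg.Agent.Lib.H12.SU3Inv

open Matrix Cfsg.Agent.Lib.H4 Cfsg.Agent.Lib.H2 Cfsg.Agent.Lib.H2.Unitary

variable {F : Type*} [Field F] [Fintype F] {q : ℕ} {n : ℕ}

theorem pow_dot_eq (v w : Fin n → F) :
    (fun j => (v j) ^ q) ⬝ᵥ w = Cfsg.hermForm n F q w v := by
  simp only [dotProduct, Cfsg.hermForm]
  exact Finset.sum_congr rfl fun i _ => mul_comm _ _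

theorem proj_mul_zero (v w : Fin n → F) (h : Cfsg.hermForm n F q w v = 0) :
    Matrix.vecMulVec v (fun j => (v j) ^ q) * Matrix.vecMulVec w (fun j => (w j) ^ q) = 0 := by
  rw [Matrix.vecMulVec_mul_vecMulVec, pow_dot_eq, h, zero_smul]
  ext i j
  simp [Matrix.vecMulVec_apply]

theorem proj_trace (v : Fin n → F) :
    (Matrix.vecMulVec v (fun j => (v j) ^ q)).trace = Cfsg.hermForm n F q v v := by
  simp [Matrix.trace, Matrix.vecMulVec_apply, Cfsg.hermForm]

theorem Rm_mul3_trace (v w u : Fin 3 → F)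
    (hv : Cfsg.hermForm 3 F q v v = 1) (hw : Cfsg.hermForm 3 F q w w = 1)
    (hu : Cfsg.hermForm 3 F q u u = 1)
    (hwv : Cfsg.hermForm 3 F q w v = 0) (huv : Cfsg.hermForm 3 F q u v = 0)
    (huw : Cfsg.hermForm 3 F q u w = 0) :
    (Rm q v * Rm q w * Rm q u).trace = 3 := by
  set A := Matrix.vecMulVec v (fun j => (v j) ^ q) with hA
  set B := Matrix.vecMulVec w (fun j => (w j) ^ q) with hB
  set C := Matrix.vecMulVec u (fun j => (u j) ^ q) with hC
  have hAB : A * B = 0 := proj_mul_zero v w hwv
  have hAC : A * C = 0 := proj_mul_zero v u huv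
  have hBC : B * C = 0 := proj_mul_zero w u huw
  have e1 : Rm q v = A + A - 1 := by rw [Rm, two_smul]
  have e2 : Rm q w = B + B - 1 := by rw [Rm, two_smul]
  have e3 : Rm q u = C + C - 1 := by rw [Rm, two_smul]
  have e4 : (A + A - 1) * (B + B - 1) = 1 - (A + A) - (B + B) := by
    have : (A + A - 1) * (B + B - 1) = (A * B + A * B + (A * B + A * B)) + 1 - (A + A) - (B + B) := by
      noncomm_ring
    rw [this, hAB]
    abel
  have e5 : (1 - (A + A) - (B + B)) * (C + C - 1) =
      (A + A) + (B + B) + (C + C) - 1 := by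
    have : (1 - (A + A) - (B + B)) * (C + C - 1) =
        (A + A) + (B + B) + (C + C) - 1 - (A * C + A * C + (A * C + A * C))
          - (B * C + B * C + (B * C + B * C)) := by
      noncomm_ring
    rw [this, hAC, hBC]
    abel
  rw [e1, e2, e3, e4, e5]
  simp only [Matrix.trace_sub, Matrix.trace_add, Matrix.trace_one, Fintype.card_fin]
  rw [hA, hB, hC, proj_trace, proj_trace, proj_trace, hv, hw, hu]
  push_cast
  ring

theorem orth_of_commute (hF : Fintype.card F = q ^ 2) (h2 : (2 : F) ≠ 0) (v w : Sphere 3 F q)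
    (hne : refl hF v ≠ refl hF w) (hc : Commute (refl hF v) (refl hF w)) :
    Cfsg.hermForm 3 F q w.1 v.1 = 0 := by
  have hmat : Rm q v.1 * Rm q w.1 = Rm q w.1 * Rm q v.1 := by
    rw [← refl_val hF v, ← refl_val hF w, ← mul_val_SU, ← mul_val_SU, hc.eq]
  rcases Rm_commute hF h2 v.1 w.1 v.2 w.2 hmat with h | h
  · exact h
  · exact absurd ((refl_eq_iff hF v w).2 h) hne

/-- three pairwise commuting distinct involutions multiply to one -/
theorem third_unique (hF : Fintype.card F = q ^ 2) (hq : Odd q) (t x y : Cfsg.SU 3 F q)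
    (ht : t ≠ 1) (ht2 : t * t = 1) (hx : x ≠ 1) (hx2 : x * x = 1) (hy : y ≠ 1) (hy2 : y * y = 1)
    (hxt : x ≠ t) (hyt : y ≠ t) (hyx : y ≠ x)
    (ctx : Commute t x) (cty : Commute t y) (cxy : Commute x y) : y = t * x := by
  have h2 : (2 : F) ≠ 0 := two_ne_zero_of_odd hF hq
  obtain ⟨v, rfl⟩ := exists_refl_eq hF hq t ht ht2
  obtain ⟨w, rfl⟩ := exists_refl_eq hF hq x hx hx2
  obtain ⟨u, rfl⟩ := exists_refl_eq hF hq y hy hy2
  have hwv := orth_of_commute hF h2 v w (Ne.symm hxt) ctx
  have huv := orth_of_commute hF h2 v u (Ne.symm hyt) cty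
  have huw := orth_of_commute hF h2 w u (Ne.symm hyx) cxy
  set Z := refl hF v * refl hF w * refl hF u with hZ
  have hZ2 : Z * Z = 1 := by
    have e1 : Z * Z = (refl hF v * refl hF v) * (refl hF w * refl hF w) *
        (refl hF u * refl hF u) := by
      rw [hZ]
      have a1 := ctx.eq
      have a2 := cty.eq
      have a3 := cxy.eq
      calc refl hF v * refl hF w * refl hF u * (refl hF v * refl hF w * refl hF u)
          = refl hF v * refl hF w * (refl hF u * refl hF v) * refl hF w * refl hF u := by group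
        _ = refl hF v * refl hF w * (refl hF v * refl hF u) * refl hF w * refl hF u := by rw [a2]
        _ = refl hF v * (refl hF w * refl hF v) * (refl hF u * refl hF w) * refl hF u := by group
        _ = refl hF v * (refl hF v * refl hF w) * (refl hF w * refl hF u) * refl hF u := by
            rw [a1, a3]
        _ = _ := by group
    rw [e1, ht2, hx2, hy2]
    group
  by_cases hZ1 : Z = 1
  · -- y = (t x)⁻¹ = t x
    have e1 : refl hF u = (refl hF v * refl hF w)⁻¹ := by
      rw [eq_inv_iff_mul_eq_one, ← hZ1, hZ]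
      have a2 := cty.eq
      have a3 := cxy.eq
      calc refl hF u * (refl hF v * refl hF w) = (refl hF u * refl hF v) * refl hF w := by group
        _ = (refl hF v * refl hF u) * refl hF w := by rw [a2]
        _ = refl hF v * (refl hF u * refl hF w) := by group
        _ = refl hF v * (refl hF w * refl hF u) := by rw [a3]
        _ = _ := by group
    rw [e1]
    rw [inv_eq_iff_mul_eq_one]
    calc refl hF v * refl hF w * (refl hF v * refl hF w)
        = refl hF v * (refl hF w * refl hF v) * refl hF w := by group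
      _ = refl hF v * (refl hF v * refl hF w) * refl hF w := by rw [ctx.eq]
      _ = (refl hF v * refl hF v) * (refl hF w * refl hF w) := by group
      _ = 1 := by rw [ht2, hx2, one_mul]
  · exfalso
    obtain ⟨z, hz⟩ := exists_refl_eq hF hq Z hZ1 hZ2
    have h3 : (((Z : Cfsg.SU 3 F q) : SpecialLinearGroup (Fin 3) F) :
        Matrix (Fin 3) (Fin 3) F).trace = -1 := by
      rw [hz, refl_val, Rm_trace z.1 z.2]
    rw [hZ, mul_val_SU, mul_val_SU, refl_val, refl_val, refl_val,
      Rm_mul3_trace v.1 w.1 u.1 v.2 w.2 u.2 hwv huv huw] at h3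
    have h4 : (2 : F) * 2 = 0 := by linear_combination h3
    rcases mul_eq_zero.1 h4 with h | h <;> exact h2 h

end Cfsg.Agent.Lib.H12.SU3Inv
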