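import Mathlib
import Cfsg.Agent.Lib.H12.SU3Third
import Cfsg.Agent.Lib.H12.SU3Graph1

set_option autoImplicit false
set_option linter.unusedSectionVars false

/-!
# The commuting involution graph of `SU_3(q)`, `q` odd: coordinates at `e₃`
-/

namespace Cfsg.Agent.Lib.H12.SU3Inv

open Matrix Cfsg.Agent.Lib.H4 Cfsg.Agent.Lib.H2 Cfsg.Agent.Lib.H2.Unitary

variable {F : Type*} [Field F] [Fintype F] {q : ℕ}

theorem hermForm_three (u v : Fin 3 → F) :
    Cfsg.hermForm 3 F q u v = u 0 * v 0 ^ q + u 1 * v 1 ^ q + u 2 * v 2 ^ q := by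
  simp [Cfsg.hermForm, Fin.sum_univ_three]

theorem hermForm_three_self (w : Fin 3 → F) :
    Cfsg.hermForm 3 F q w w = Herm.N q (w 0) + Herm.N q (w 1) + Herm.N q (w 2) :=
  hermForm_three w w

theorem hermForm_two (u v : Fin 2 → F) :
    Cfsg.hermForm 2 F q u v = u 0 * v 0 ^ q + u 1 * v 1 ^ q := by
  simp [Cfsg.hermForm, Fin.sum_univ_two]

theorem N_mul (x y : F) : Herm.N q (x * y) = Herm.N q x * Herm.N q y := by
  unfold Herm.N; rw [mul_pow]; ring

theorem N_neg (hq : Odd q) (x : F) : Herm.N q (-x) = Herm.N q x := by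
  unfold Herm.N; rw [hq.neg_pow]; ring

theorem N_zero : Herm.N q (0 : F) = 0 := by
  unfold Herm.N; rw [zero_mul]

theorem N_one : Herm.N q (1 : F) = 1 := by
  unfold Herm.N; rw [one_pow, mul_one]

theorem N_pow_q' (hF : Fintype.card F = q ^ 2) (x : F) : Herm.N q (x ^ q) = Herm.N q x := by
  unfold Herm.N; rw [Herm.pow_q_pow_q hF]; ring

theorem q_ne_zero (hF : Fintype.card F = q ^ 2) : q ≠ 0 := by
  have := Herm.two_le_q hF
  omega

/-- existence of an element of given norm in the fixed field -/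
theorem exists_N_eq (hF : Fintype.card F = q ^ 2) (c : F) (hc0 : c ≠ 0) (hc : c ^ q = c) :
    ∃ l : F, Herm.N q l = c := by
  have hfib := Herm.card_N_fiber hF c hc0 hc
  have hne : Nonempty {x : F // Herm.N q x = c} := by
    by_contra hcon
    rw [not_nonempty_iff] at hcon
    rw [Nat.card_of_isEmpty] at hfib
    omega
  obtain ⟨⟨l, hl⟩⟩ := hne
  exact ⟨l, hl⟩

/-- orthogonal reflections commute -/
theorem Rm_commute_of_orth (hF : Fintype.card F = q ^ 2) {n : ℕ} (v w : Fin n → F)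
    (h : Cfsg.hermForm n F q w v = 0) : Rm q v * Rm q w = Rm q w * Rm q v := by
  have h' : Cfsg.hermForm n F q v w = 0 := by
    rw [← hermForm_conj n hF w v, h, zero_pow (q_ne_zero hF)]
  set A := Matrix.vecMulVec v (fun j => (v j) ^ q) with hA
  set B := Matrix.vecMulVec w (fun j => (w j) ^ q) with hB
  have hAB : A * B = 0 := proj_mul_zero v w h
  have hBA : B * A = 0 := proj_mul_zero w v h'
  have e1 : Rm q v = A + A - 1 := by rw [Rm, two_smul]
  have e2 : Rm q w = B + B - 1 := by rw [Rm, two_smul]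
  have e4 : (A + A - 1) * (B + B - 1) = 1 - (A + A) - (B + B) := by
    have : (A + A - 1) * (B + B - 1) = (A * B + A * B + (A * B + A * B)) + 1 - (A + A) - (B + B) := by
      noncomm_ring
    rw [this, hAB]
    abel
  have e5 : (B + B - 1) * (A + A - 1) = 1 - (A + A) - (B + B) := by
    have : (B + B - 1) * (A + A - 1) = (B * A + B * A + (B * A + B * A)) + 1 - (A + A) - (B + B) := by
      noncomm_ring
    rw [this, hBA]
    abel
  rw [e1, e2, e4, e5]

theorem commute_refl_iff (hF : Fintype.card F = q ^ 2) (h2 : (2 : F) ≠ 0) (v w : Sphere 3 F q) :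
    Commute (refl hF v) (refl hF w) ↔
      Cfsg.hermForm 3 F q w.1 v.1 = 0 ∨ refl hF v = refl hF w := by
  constructor
  · intro hc
    by_cases hne : refl hF v = refl hF w
    · exact Or.inr hne
    · exact Or.inl (orth_of_commute hF h2 v w hne hc)
  · rintro (h | h)
    · apply ext_SU
      rw [mul_val_SU, mul_val_SU, refl_val, refl_val]
      exact Rm_commute_of_orth hF v.1 w.1 h
    · rw [h]

/-- the third basis vector -/
def e3 (F : Type*) [Field F] : Fin 3 → F := ![0, 0, 1]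

/-- the second basis vector -/
def e2 (F : Type*) [Field F] : Fin 3 → F := ![0, 1, 0]

/-- the first basis vector -/
def e1 (F : Type*) [Field F] : Fin 3 → F := ![1, 0, 0]

theorem hermForm_e3 (hq0 : q ≠ 0) (w : Fin 3 → F) : Cfsg.hermForm 3 F q w (e3 F) = w 2 := by
  rw [hermForm_three]
  simp [e3, zero_pow hq0]

theorem hermForm_e2 (hq0 : q ≠ 0) (w : Fin 3 → F) : Cfsg.hermForm 3 F q w (e2 F) = w 1 := by
  rw [hermForm_three]
  simp [e2, zero_pow hq0]

theorem hermForm_e1 (hq0 : q ≠ 0) (w : Fin 3 → F) : Cfsg.hermForm 3 F q w (e1 F) = w 0 := by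
  rw [hermForm_three]
  simp [e1, zero_pow hq0]

/-- `e₃` on the sphere -/
def E3 (hF : Fintype.card F = q ^ 2) : Sphere 3 F q :=
  ⟨e3 F, by rw [hermForm_e3 (q_ne_zero hF)]; simp [e3]⟩

/-- `e₂` on the sphere -/
def E2 (hF : Fintype.card F = q ^ 2) : Sphere 3 F q :=
  ⟨e2 F, by rw [hermForm_e2 (q_ne_zero hF)]; simp [e2]⟩

/-- `e₁` on the sphere -/
def E1 (hF : Fintype.card F = q ^ 2) : Sphere 3 F q :=
  ⟨e1 F, by rw [hermForm_e1 (q_ne_zero hF)]; simp [e1]⟩

theorem refl_eq_E3_iff (hF : Fintype.card F = q ^ 2) (h2 : (2 : F) ≠ 0) (w : Sphere 3 F q) :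
    refl hF (E3 hF) = refl hF w ↔ w.1 0 = 0 ∧ w.1 1 = 0 := by
  rw [refl_eq_iff]
  constructor
  · intro h
    have h1 := Rm_eq h2 (E3 hF).1 w.1 w.2 h
    constructor
    · have := congrFun h1 0
      rw [this]
      simp [E3, e3]
    · have := congrFun h1 1
      rw [this]
      simp [E3, e3]
  · rintro ⟨h0, h1⟩
    have hw : w.1 = w.1 2 • (E3 hF).1 := by
      ext i
      fin_cases i
      · simpa [E3, e3] using h0
      · simpa [E3, e3] using h1
      · simp [E3, e3]
    have hN : w.1 2 * w.1 2 ^ q = 1 := norm_of_eq_smul (E3 hF).1 w.1 _ (E3 hF).2 w.2 hw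
    rw [hw, Rm_smul _ _ hN]

theorem commute_E3_iff (hF : Fintype.card F = q ^ 2) (h2 : (2 : F) ≠ 0) (w : Sphere 3 F q) :
    Commute (refl hF (E3 hF)) (refl hF w) ↔ w.1 2 = 0 ∨ (w.1 0 = 0 ∧ w.1 1 = 0) := by
  rw [commute_refl_iff hF h2, refl_eq_E3_iff hF h2]
  have : Cfsg.hermForm 3 F q w.1 (E3 hF).1 = w.1 2 := hermForm_e3 (q_ne_zero hF) w.1
  rw [this]

theorem unit_three (w : Sphere 3 F q) :
    Herm.N q (w.1 0) + Herm.N q (w.1 1) + Herm.N q (w.1 2) = 1 := by
  rw [← hermForm_three_self]; exact w.2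

theorem PA_iff (hF : Fintype.card F = q ^ 2) (h2 : (2 : F) ≠ 0) (w : Sphere 3 F q) :
    PA (refl hF (E3 hF)) (refl hF w) ↔ w.1 2 = 0 := by
  unfold PA
  rw [commute_E3_iff hF h2]
  constructor
  · rintro ⟨-, -, hne, hc⟩
    rcases hc with h | h
    · exact h
    · exact absurd ((refl_eq_E3_iff hF h2 w).2 h).symm hne
  · intro h
    refine ⟨refl_ne_one hF h2 w, refl_mul_self hF w, ?_, Or.inl h⟩
    intro heq
    have h01 := (refl_eq_E3_iff hF h2 w).1 heq.symm
    have hu := unit_three w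
    rw [h, h01.1, h01.2, N_zero] at hu
    simp at hu

theorem N_add_pow_q (hF : Fintype.card F = q ^ 2) (x y : F) :
    (Herm.N q x + Herm.N q y) ^ q = Herm.N q x + Herm.N q y := by
  rw [Herm.add_pow_q hF, Herm.N_pow_q hF, Herm.N_pow_q hF]

/-- for `w` not orthogonal to `e₃` with `N(w₃) ≠ 1`, a unit vector orthogonal to both -/
theorem exists_common_orth (hF : Fintype.card F = q ^ 2) (hq : Odd q) (w : Sphere 3 F q)
    (hN : Herm.N q (w.1 2) ≠ 1) :
    ∃ u : Sphere 3 F q, u.1 2 = 0 ∧ Cfsg.hermForm 3 F q w.1 u.1 = 0 := by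
  have hq0 := q_ne_zero hF
  have hu := unit_three w
  set c := Herm.N q (w.1 0) + Herm.N q (w.1 1) with hc
  have hc0 : c ≠ 0 := by
    intro h0
    apply hN
    rw [h0, zero_add] at hu
    exact hu
  have hcq : c ^ q = c := N_add_pow_q hF _ _
  have hci0 : c⁻¹ ≠ 0 := inv_ne_zero hc0
  have hciq : (c⁻¹) ^ q = c⁻¹ := by rw [inv_pow, hcq]
  obtain ⟨l, hl⟩ := exists_N_eq hF c⁻¹ hci0 hciq
  refine ⟨⟨![-(l * (w.1 1) ^ q), l * (w.1 0) ^ q, 0], ?_⟩, ?_, ?_⟩
  · rw [hermForm_three_self]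
    simp only [Matrix.cons_val_zero, Matrix.cons_val_one, Matrix.cons_val_two, Matrix.head_cons,
      Matrix.tail_cons]
    rw [N_neg hq, N_mul, N_mul, N_pow_q' hF, N_pow_q' hF, N_zero, hl, add_zero, ← mul_add,
      add_comm, ← hc, inv_mul_cancel₀ hc0]
  · simp
  · rw [hermForm_three]
    simp only [Matrix.cons_val_zero, Matrix.cons_val_one, Matrix.cons_val_two, Matrix.head_cons,
      Matrix.tail_cons]
    rw [hq.neg_pow, mul_pow, mul_pow, Herm.pow_q_pow_q hF, Herm.pow_q_pow_q hF, zero_pow hq0]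
    ring

theorem PC_iff (hF : Fintype.card F = q ^ 2) (hq : Odd q) (h2 : (2 : F) ≠ 0)
    (w : Sphere 3 F q) :
    PC (refl hF (E3 hF)) (refl hF w) ↔
      Herm.N q (w.1 2) = 1 ∧ ¬ (w.1 0 = 0 ∧ w.1 1 = 0) := by
  have hq0 := q_ne_zero hF
  unfold PC
  rw [commute_E3_iff hF h2]
  constructor
  · rintro ⟨-, -, hnc, hall⟩
    push Not at hnc
    refine ⟨?_, fun h => hnc.2 h.1 h.2⟩
    by_contra hN
    obtain ⟨u, hu2, hwu⟩ := exists_common_orth hF hq w hN
    apply hall (refl hF u) (refl_ne_one hF h2 u) (refl_mul_self hF u)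
    refine ⟨(commute_E3_iff hF h2 u).2 (Or.inl hu2), (commute_refl_iff hF h2 u w).2 (Or.inl hwu)⟩
  · rintro ⟨hN, hnz⟩
    have hw2 : w.1 2 ≠ 0 := by
      intro h0
      rw [h0, N_zero] at hN
      exact zero_ne_one hN
    have hnc : ¬ (w.1 2 = 0 ∨ (w.1 0 = 0 ∧ w.1 1 = 0)) := by
      rintro (h | h)
      · exact hw2 h
      · exact hnz h
    refine ⟨refl_ne_one hF h2 w, refl_mul_self hF w, hnc, ?_⟩
    intro y hy1 hy2 hcc
    obtain ⟨u, rfl⟩ := exists_refl_eq hF hq y hy1 hy2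
    obtain ⟨hc1, hc2⟩ := hcc
    rw [commute_E3_iff hF h2] at hc1
    rw [commute_refl_iff hF h2] at hc2
    rcases hc1 with hu2 | hu01
    · rcases hc2 with hwu | heq
      · -- the key computation
        apply hnz
        have huu := unit_three u
        have hww := unit_three w
        rw [hu2, N_zero, add_zero] at huu
        rw [hN] at hww
        have hw01 : Herm.N q (w.1 0) + Herm.N q (w.1 1) = 0 := by linear_combination hww
        rw [hermForm_three, hu2, zero_pow hq0, mul_zero, add_zero] at hwu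
        have h3 : w.1 0 * u.1 0 ^ q = -(w.1 1 * u.1 1 ^ q) := by linear_combination hwu
        have h4 := congrArg (Herm.N q) h3
        rw [N_neg hq, N_mul, N_mul, N_pow_q' hF, N_pow_q' hF] at h4
        have h5 : Herm.N q (w.1 0) = 0 := by
          have : Herm.N q (w.1 0) * (Herm.N q (u.1 0) + Herm.N q (u.1 1)) = 0 := by
            linear_combination h4 + Herm.N q (u.1 1) * hw01
          rw [huu, mul_one] at this
          exact this
        have h6 : Herm.N q (w.1 1) = 0 := by linear_combination hw01 - h5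
        exact ⟨(Herm.N_eq_zero_iff hF _).1 h5, (Herm.N_eq_zero_iff hF _).1 h6⟩
      · apply hnc
        rw [← commute_E3_iff hF h2, ← heq, commute_E3_iff hF h2]
        exact Or.inl hu2
    · apply hnc
      have heq := (refl_eq_E3_iff hF h2 u).2 hu01
      rw [← commute_E3_iff hF h2, heq]
      exact (commute_refl_iff hF h2 u w).2 hc2

end Cfsg.Agent.Lib.H12.SU3Inv
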