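import Mathlib
import Cfsg.Agent.Lib.H12.SU3Graph2

set_option autoImplicit false
set_option linter.unusedSectionVars false

/-!
# The commuting involution graph of `SU_3(q)`, `q` odd: diameter three
-/

namespace Cfsg.Agent.Lib.H12.SU3Inv

open Matrix Cfsg.Agent.Lib.H4 Cfsg.Agent.Lib.H2 Cfsg.Agent.Lib.H2.Unitary

variable {F : Type*} [Field F] [Fintype F] {q : ℕ}

theorem N_inv (x : F) : Herm.N q x⁻¹ = (Herm.N q x)⁻¹ := by
  unfold Herm.N; rw [inv_pow, mul_inv]

/-- a unit vector `(z₀, 0, z₃)` orthogonal to `w`, when `N(w₃) = 1`, `w₀ ≠ 0`, `N(w₀) ≠ -1` -/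
theorem exists_path_vec0 (hF : Fintype.card F = q ^ 2) (hq : Odd q) (w : Sphere 3 F q)
    (hN : Herm.N q (w.1 2) = 1) (hw0 : w.1 0 ≠ 0) (ha : Herm.N q (w.1 0) + 1 ≠ 0) :
    ∃ z : Sphere 3 F q, z.1 1 = 0 ∧ Cfsg.hermForm 3 F q w.1 z.1 = 0 := by
  have hq0 := q_ne_zero hF
  set a := Herm.N q (w.1 0) with hadef
  have ha0 : a ≠ 0 := by
    intro h0
    exact hw0 ((Herm.N_eq_zero_iff hF _).1 h0)
  have haq : a ^ q = a := Herm.N_pow_q hF _
  have ha1q : (a + 1) ^ q = a + 1 := by rw [Herm.add_pow_q hF, haq, one_pow]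
  set d := a * (a + 1)⁻¹ with hd
  have hd0 : d ≠ 0 := mul_ne_zero ha0 (inv_ne_zero ha)
  have hdq : d ^ q = d := by rw [hd, mul_pow, inv_pow, haq, ha1q]
  obtain ⟨z3, hz3⟩ := exists_N_eq hF d hd0 hdq
  have hwq0 : w.1 0 ^ q ≠ 0 := pow_ne_zero _ hw0
  refine ⟨⟨![-(z3 * (w.1 2) ^ q * ((w.1 0) ^ q)⁻¹), 0, z3], ?_⟩, ?_, ?_⟩
  · rw [hermForm_three_self]
    simp only [Matrix.cons_val_zero, Matrix.cons_val_one, Matrix.cons_val_two, Matrix.head_cons,
      Matrix.tail_cons]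
    rw [N_neg hq, N_mul, N_mul, N_inv, N_pow_q' hF, N_pow_q' hF, N_zero, hz3, hN, ← hadef, hd]
    field_simp
    ring
  · simp
  · rw [hermForm_three]
    simp only [Matrix.cons_val_zero, Matrix.cons_val_one, Matrix.cons_val_two, Matrix.head_cons,
      Matrix.tail_cons]
    rw [hq.neg_pow, mul_pow, mul_pow, inv_pow, Herm.pow_q_pow_q hF, Herm.pow_q_pow_q hF,
      zero_pow hq0]
    field_simp
    ring

/-- a unit vector `(0, z₁, z₃)` orthogonal to `w`, when `N(w₃) = 1`, `w₁ ≠ 0`, `N(w₁) ≠ -1` -/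
theorem exists_path_vec1 (hF : Fintype.card F = q ^ 2) (hq : Odd q) (w : Sphere 3 F q)
    (hN : Herm.N q (w.1 2) = 1) (hw1 : w.1 1 ≠ 0) (ha : Herm.N q (w.1 1) + 1 ≠ 0) :
    ∃ z : Sphere 3 F q, z.1 0 = 0 ∧ Cfsg.hermForm 3 F q w.1 z.1 = 0 := by
  have hq0 := q_ne_zero hF
  set a := Herm.N q (w.1 1) with hadef
  have ha0 : a ≠ 0 := by
    intro h0
    exact hw1 ((Herm.N_eq_zero_iff hF _).1 h0)
  have haq : a ^ q = a := Herm.N_pow_q hF _
  have ha1q : (a + 1) ^ q = a + 1 := by rw [Herm.add_pow_q hF, haq, one_pow]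
  set d := a * (a + 1)⁻¹ with hd
  have hd0 : d ≠ 0 := mul_ne_zero ha0 (inv_ne_zero ha)
  have hdq : d ^ q = d := by rw [hd, mul_pow, inv_pow, haq, ha1q]
  obtain ⟨z3, hz3⟩ := exists_N_eq hF d hd0 hdq
  have hwq0 : w.1 1 ^ q ≠ 0 := pow_ne_zero _ hw1
  refine ⟨⟨![0, -(z3 * (w.1 2) ^ q * ((w.1 1) ^ q)⁻¹), z3], ?_⟩, ?_, ?_⟩
  · rw [hermForm_three_self]
    simp only [Matrix.cons_val_zero, Matrix.cons_val_one, Matrix.cons_val_two, Matrix.head_cons,
      Matrix.tail_cons]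
    rw [N_neg hq, N_mul, N_mul, N_inv, N_pow_q' hF, N_pow_q' hF, N_zero, hz3, hN, ← hadef, hd]
    field_simp
    ring
  · simp
  · rw [hermForm_three]
    simp only [Matrix.cons_val_zero, Matrix.cons_val_one, Matrix.cons_val_two, Matrix.head_cons,
      Matrix.tail_cons]
    rw [hq.neg_pow, mul_pow, mul_pow, inv_pow, Herm.pow_q_pow_q hF, Herm.pow_q_pow_q hF,
      zero_pow hq0]
    field_simp
    ring

theorem PD_E3 (hF : Fintype.card F = q ^ 2) (hq : Odd q) : PD (refl hF (E3 hF)) := by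
  have h2 : (2 : F) ≠ 0 := two_ne_zero_of_odd hF hq
  have hq0 := q_ne_zero hF
  intro x hx1 hx2
  obtain ⟨w, rfl⟩ := exists_refl_eq hF hq x hx1 hx2
  by_cases hc : Commute (refl hF (E3 hF)) (refl hF w)
  · exact ⟨refl hF w, refl hF w, hx1, hx2, hx1, hx2, hc, Commute.refl _, Commute.refl _⟩
  by_cases hN : Herm.N q (w.1 2) = 1
  · -- the far class
    rw [commute_E3_iff hF h2] at hc
    push Not at hc
    have hww := unit_three w
    rw [hN] at hww
    have hw01 : Herm.N q (w.1 0) + Herm.N q (w.1 1) = 0 := by linear_combination hww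
    have hw0 : w.1 0 ≠ 0 := by
      intro h0
      apply hc.2 h0
      rw [h0, N_zero, zero_add] at hw01
      exact (Herm.N_eq_zero_iff hF _).1 hw01
    have hw1 : w.1 1 ≠ 0 := by
      intro h1
      apply hw0
      rw [h1, N_zero, add_zero] at hw01
      exact (Herm.N_eq_zero_iff hF _).1 hw01
    by_cases ha : Herm.N q (w.1 0) + 1 = 0
    · have ha' : Herm.N q (w.1 1) + 1 ≠ 0 := by
        intro hb
        apply h2
        linear_combination ha + hb - hw01
      obtain ⟨z, hz0, hwz⟩ := exists_path_vec1 hF hq w hN hw1 ha'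
      refine ⟨refl hF (E1 hF), refl hF z, refl_ne_one hF h2 _, refl_mul_self hF _,
        refl_ne_one hF h2 _, refl_mul_self hF _, ?_, ?_, ?_⟩
      · rw [commute_E3_iff hF h2]
        left
        simp [E1, e1]
      · rw [commute_refl_iff hF h2]
        left
        rw [show (E1 hF).1 = e1 F from rfl, hermForm_e1 hq0]
        exact hz0
      · rw [commute_refl_iff hF h2]
        left
        exact hwz
    · obtain ⟨z, hz1, hwz⟩ := exists_path_vec0 hF hq w hN hw0 ha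
      refine ⟨refl hF (E2 hF), refl hF z, refl_ne_one hF h2 _, refl_mul_self hF _,
        refl_ne_one hF h2 _, refl_mul_self hF _, ?_, ?_, ?_⟩
      · rw [commute_E3_iff hF h2]
        left
        simp [E2, e2]
      · rw [commute_refl_iff hF h2]
        left
        rw [show (E2 hF).1 = e2 F from rfl, hermForm_e2 hq0]
        exact hz1
      · rw [commute_refl_iff hF h2]
        left
        exact hwz
  · obtain ⟨u, hu2, hwu⟩ := exists_common_orth hF hq w hN
    refine ⟨refl hF u, refl hF w, refl_ne_one hF h2 _, refl_mul_self hF _, hx1, hx2,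
      (commute_E3_iff hF h2 u).2 (Or.inl hu2), (commute_refl_iff hF h2 u w).2 (Or.inl hwu),
      Commute.refl _⟩

end Cfsg.Agent.Lib.H12.SU3Inv
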