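import Mathlib
import Cfsg.Agent.Lib.H12.SU3Graph3

set_option autoImplicit false
set_option linter.unusedSectionVars false

/-!
# The commuting involution graph of `SU_3(q)`, `q` odd: the counts
-/

namespace Cfsg.Agent.Lib.H12.SU3Inv

open Matrix Cfsg.Agent.Lib.H4 Cfsg.Agent.Lib.H2 Cfsg.Agent.Lib.H2.Unitary

variable {F : Type*} [Field F] [Fintype F] {q : ℕ}

theorem card_fiber_reflInv (hF : Fintype.card F = q ^ 2) (hq : Odd q) (h2 : (2 : F) ≠ 0)
    (b : Inv F q) : Nat.card {a : Sphere 3 F q // reflInv hF h2 a = b} = q + 1 := by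
  obtain ⟨v₀, rfl⟩ := reflInv_surjective hF hq h2 b
  rw [← Nat.card_congr (fiberEquiv hF h2 v₀)]
  exact Herm.card_N_fiber hF 1 one_ne_zero (one_pow q)

/-- unit vectors orthogonal to `e₃` -/
def equivA : {w : Sphere 3 F q // w.1 2 = 0} ≃ {u : Fin 2 → F // Cfsg.hermForm 2 F q u u = 1} where
  toFun w := ⟨![w.1.1 0, w.1.1 1], by
    have h := unit_three w.1
    rw [w.2, N_zero, add_zero] at h
    rw [hermForm_two]
    simp only [Matrix.cons_val_zero, Matrix.cons_val_one]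
    exact h⟩
  invFun u := ⟨⟨![u.1 0, u.1 1, 0], by
    have h := u.2
    rw [hermForm_two] at h
    rw [hermForm_three_self]
    simp only [Matrix.cons_val_zero, Matrix.cons_val_one, Matrix.cons_val_two, Matrix.head_cons,
      Matrix.tail_cons]
    rw [N_zero, add_zero]
    exact h⟩, by simp⟩
  left_inv w := by
    apply Subtype.ext
    apply Subtype.ext
    ext i
    fin_cases i
    · simp
    · simp
    · simpa using w.2.symm
  right_inv u := by
    apply Subtype.ext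
    ext i
    fin_cases i <;> simp

theorem card_SA (hF : Fintype.card F = q ^ 2) :
    Nat.card {w : Sphere 3 F q // w.1 2 = 0} = q * (q ^ 2 - 1) := by
  rw [Nat.card_congr equivA, Herm.card_norm_one hF 2, if_pos (by decide)]
  simp

/-- unit vectors `w` with `N(w₃) = 1`, not on the line of `e₃` -/
def equivC : {w : Sphere 3 F q // Herm.N q (w.1 2) = 1 ∧ ¬ (w.1 0 = 0 ∧ w.1 1 = 0)} ≃
    {l : F // Herm.N q l = 1} ×
      {u : {u : Fin 2 → F // Cfsg.hermForm 2 F q u u = 0} // u.1 ≠ 0} where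
  toFun w := (⟨w.1.1 2, w.2.1⟩, ⟨⟨![w.1.1 0, w.1.1 1], by
    have h := unit_three w.1
    rw [w.2.1] at h
    rw [hermForm_two]
    have h' : Herm.N q (w.1.1 0) + Herm.N q (w.1.1 1) = 0 := by linear_combination h
    simp only [Matrix.cons_val_zero, Matrix.cons_val_one]
    exact h'⟩, by
    intro h0
    apply w.2.2
    have h1 := congrFun h0 0
    have h2 := congrFun h0 1
    simp at h1 h2
    exact ⟨h1, h2⟩⟩)
  invFun p := ⟨⟨![p.2.1.1 0, p.2.1.1 1, p.1.1], by
    have h := p.2.1.2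
    rw [hermForm_two] at h
    rw [hermForm_three_self]
    simp only [Matrix.cons_val_zero, Matrix.cons_val_one, Matrix.cons_val_two, Matrix.head_cons,
      Matrix.tail_cons]
    rw [p.1.2]
    have h' : Herm.N q (p.2.1.1 0) + Herm.N q (p.2.1.1 1) = 0 := h
    rw [h', zero_add]⟩, by
    constructor
    · simpa using p.1.2
    · rintro ⟨h0, h1⟩
      apply p.2.2
      ext i
      fin_cases i
      · simpa using h0
      · simpa using h1⟩
  left_inv w := by
    apply Subtype.ext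
    apply Subtype.ext
    ext i
    fin_cases i <;> simp
  right_inv p := by
    apply Prod.ext
    · apply Subtype.ext
      simp
    · apply Subtype.ext
      apply Subtype.ext
      ext i
      fin_cases i <;> simp

theorem card_iso_ne_zero (hF : Fintype.card F = q ^ 2) :
    Nat.card {u : {u : Fin 2 → F // Cfsg.hermForm 2 F q u u = 0} // u.1 ≠ 0} =
      (q ^ 2 - 1) * (q + 1) := by
  have h1 := card_split (α := {u : Fin 2 → F // Cfsg.hermForm 2 F q u u = 0}) (fun u => u.1 = 0)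
  have h3 : Nat.card {u : {u : Fin 2 → F // Cfsg.hermForm 2 F q u u = 0} // u.1 = 0} = 1 := by
    rw [Nat.card_eq_one_iff_unique]
    refine ⟨⟨?_⟩, ⟨⟨⟨0, ?_⟩, rfl⟩⟩⟩
    · rintro ⟨⟨a, ha⟩, ha0⟩ ⟨⟨b, hb⟩, hb0⟩
      apply Subtype.ext
      apply Subtype.ext
      show a = b
      rw [show a = 0 from ha0, show b = 0 from hb0]
    · rw [hermForm_two]
      simp [zero_pow (q_ne_zero hF)]
  rw [Herm.card_isotropic hF 2, if_pos (by decide), h3] at h1
  have h4 : Nat.card {u : {u : Fin 2 → F // Cfsg.hermForm 2 F q u u = 0} // ¬ u.1 = 0} =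
      (q ^ 2 - 1) * (q ^ (2 - 1) + 1) := by omega
  rw [show (2 - 1 : ℕ) = 1 from rfl, pow_one] at h4
  exact h4

theorem card_SC (hF : Fintype.card F = q ^ 2) :
    Nat.card {w : Sphere 3 F q // Herm.N q (w.1 2) = 1 ∧ ¬ (w.1 0 = 0 ∧ w.1 1 = 0)} =
      (q + 1) * ((q ^ 2 - 1) * (q + 1)) := by
  rw [Nat.card_congr equivC, Nat.card_prod, card_iso_ne_zero hF,
    Herm.card_N_fiber hF 1 one_ne_zero (one_pow q)]

/-- subtypes of involutions versus subtypes of the group -/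
def invSubtypeEquiv (P : Cfsg.SU 3 F q → Prop) (hP : ∀ x, P x → x ≠ 1 ∧ x * x = 1) :
    {x : Inv F q // P x.1} ≃ {x : Cfsg.SU 3 F q // P x} where
  toFun x := ⟨x.1.1, x.2⟩
  invFun x := ⟨⟨x.1, hP x.1 x.2⟩, x.2⟩
  left_inv _ := rfl
  right_inv _ := rfl

theorem card_pred_sphere (hF : Fintype.card F = q ^ 2) (hq : Odd q)
    (P : Cfsg.SU 3 F q → Prop) (hP : ∀ x, P x → x ≠ 1 ∧ x * x = 1) :
    Nat.card {w : Sphere 3 F q // P (refl hF w)} = Nat.card {x : Cfsg.SU 3 F q // P x} * (q + 1) := by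
  have h2 : (2 : F) ≠ 0 := two_ne_zero_of_odd hF hq
  rw [← Nat.card_congr (invSubtypeEquiv P hP)]
  exact card_pred_fiber (reflInv hF h2) (q + 1) (card_fiber_reflInv hF hq h2) (fun x => P x.1)

theorem card_PA_E3 (hF : Fintype.card F = q ^ 2) (hq : Odd q) :
    Nat.card {x : Cfsg.SU 3 F q // PA (refl hF (E3 hF)) x} = q * (q - 1) := by
  have h2 : (2 : F) ≠ 0 := two_ne_zero_of_odd hF hq
  have h1 := card_pred_sphere hF hq (PA (refl hF (E3 hF))) (fun x hx => ⟨hx.1, hx.2.1⟩)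
  rw [Nat.card_congr (Equiv.subtypeEquivRight (PA_iff hF h2)), card_SA hF] at h1
  have hq2 := Herm.two_le_q hF
  obtain ⟨r, rfl⟩ : ∃ r, q = r + 1 := ⟨q - 1, by omega⟩
  have e : (r + 1) ^ 2 - 1 = r * (r + 1 + 1) := by
    have : (r + 1) ^ 2 = r * (r + 1 + 1) + 1 := by ring
    omega
  rw [e] at h1
  apply Nat.eq_of_mul_eq_mul_right (show 0 < r + 1 + 1 by omega)
  rw [← h1, Nat.add_sub_cancel]
  ring

theorem card_PC_E3 (hF : Fintype.card F = q ^ 2) (hq : Odd q) :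
    Nat.card {x : Cfsg.SU 3 F q // PC (refl hF (E3 hF)) x} = (q + 1) * (q ^ 2 - 1) := by
  have h2 : (2 : F) ≠ 0 := two_ne_zero_of_odd hF hq
  have h1 := card_pred_sphere hF hq (PC (refl hF (E3 hF))) (fun x hx => ⟨hx.1, hx.2.1⟩)
  rw [Nat.card_congr (Equiv.subtypeEquivRight (PC_iff hF hq h2)), card_SC hF] at h1
  apply Nat.eq_of_mul_eq_mul_right (show 0 < q + 1 by omega)
  rw [← h1]
  ring

theorem card_or {α : Type*} [Finite α] (P Q : α → Prop) (hdisj : ∀ x, P x → ¬ Q x) :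
    Nat.card {x // P x ∨ Q x} = Nat.card {x // P x} + Nat.card {x // Q x} := by
  classical
  have : Fintype α := Fintype.ofFinite α
  rw [Nat.card_eq_fintype_card, Nat.card_eq_fintype_card, Nat.card_eq_fintype_card]
  apply Fintype.card_subtype_or_disjoint
  rw [Pi.disjoint_iff]
  intro x
  rw [disjoint_iff]
  apply le_antisymm
  · rintro ⟨hp, hq⟩
    exact hdisj x hp hq
  · exact bot_le

theorem card_PB_E3 (hF : Fintype.card F = q ^ 2) (hq : Odd q) :
    Nat.card {x : Cfsg.SU 3 F q // PB (refl hF (E3 hF)) x} = q * (q - 2) * (q ^ 2 - 1) := by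
  classical
  have h2 : (2 : F) ≠ 0 := two_ne_zero_of_odd hF hq
  set t := refl hF (E3 hF) with ht
  have ht1 : t ≠ 1 := refl_ne_one hF h2 _
  have ht2 : t * t = 1 := refl_mul_self hF _
  have hiff : ∀ x : Cfsg.SU 3 F q, (x ≠ 1 ∧ x * x = 1) ↔
      (x = t ∨ (PA t x ∨ (PB t x ∨ PC t x))) := by
    intro x
    constructor
    · rintro ⟨hx1, hx2⟩
      by_cases hxt : x = t
      · exact Or.inl hxt
      right
      by_cases hc : Commute t x
      · exact Or.inl ⟨hx1, hx2, hxt, hc⟩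
      right
      by_cases he : ∃ y : Cfsg.SU 3 F q, y ≠ 1 ∧ y * y = 1 ∧ Commute t y ∧ Commute y x
      · exact Or.inl ⟨hx1, hx2, hc, he⟩
      · right
        refine ⟨hx1, hx2, hc, ?_⟩
        intro y hy1 hy2 hcc
        exact he ⟨y, hy1, hy2, hcc.1, hcc.2⟩
    · rintro (h | h | h | h)
      · rw [h]; exact ⟨ht1, ht2⟩
      · exact ⟨h.1, h.2.1⟩
      · exact ⟨h.1, h.2.1⟩
      · exact ⟨h.1, h.2.1⟩
  have hI : Nat.card {x : Cfsg.SU 3 F q // x ≠ 1 ∧ x * x = 1} = q ^ 2 * (q ^ 2 - q + 1) :=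
    card_inv hF hq
  rw [Nat.card_congr (Equiv.subtypeEquivRight hiff), card_or, card_or, card_or] at hI
  · have h1 : Nat.card {x : Cfsg.SU 3 F q // x = t} = 1 := by
      rw [Nat.card_eq_one_iff_unique]
      exact ⟨⟨fun a b => Subtype.ext (a.2.trans b.2.symm)⟩, ⟨⟨t, rfl⟩⟩⟩
    rw [h1, card_PA_E3 hF hq, card_PC_E3 hF hq] at hI
    have hq2 := Herm.two_le_q hF
    have hq3 : 3 ≤ q := by
      rcases hq with ⟨k, hk⟩
      omega
    obtain ⟨r, rfl⟩ : ∃ r, q = r + 3 := ⟨q - 3, by omega⟩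
    have e1 : (r + 3) ^ 2 - (r + 3) + 1 = r ^ 2 + 5 * r + 7 := by
      have : (r + 3) ^ 2 = r ^ 2 + 5 * r + 6 + (r + 3) := by ring
      omega
    have e2 : (r + 3) ^ 2 - 1 = r ^ 2 + 6 * r + 8 := by
      have : (r + 3) ^ 2 = r ^ 2 + 6 * r + 8 + 1 := by ring
      omega
    have e3 : r + 3 - 1 = r + 2 := by omega
    have e4 : r + 3 - 2 = r + 1 := by omega
    rw [e1, e2, e3] at hI
    rw [e2, e4]
    have e5 : (r + 3) ^ 2 * (r ^ 2 + 5 * r + 7) =
        1 + ((r + 3) * (r + 2) + ((r + 3) * (r + 1) * (r ^ 2 + 6 * r + 8) +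
          (r + 3 + 1) * (r ^ 2 + 6 * r + 8))) := by ring
    omega
  · intro x hb hc
    obtain ⟨y, hy1, hy2, c1, c2⟩ := hb.2.2.2
    exact hc.2.2.2 y hy1 hy2 ⟨c1, c2⟩
  · intro x ha hbc
    rcases hbc with hb | hc
    · exact hb.2.2.1 ha.2.2.2
    · exact hc.2.2.1 ha.2.2.2
  · intro x hxt habc
    rcases habc with ha | hb | hc
    · exact ha.2.2.1 hxt
    · apply hb.2.2.1; rw [hxt]; exact Commute.refl t
    · apply hc.2.2.1; rw [hxt]; exact Commute.refl t

/-- the commuting involution graph of `SU_3(q)`, `q` odd -/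
theorem graph_main (hF : Fintype.card F = q ^ 2) (hq : Odd q) (t : Cfsg.SU 3 F q)
    (ht : t ≠ 1) (ht2 : t * t = 1) :
    Nat.card {x : Cfsg.SU 3 F q // PA t x} = q * (q - 1) ∧
    Nat.card {x : Cfsg.SU 3 F q // PB t x} = q * (q - 2) * (q ^ 2 - 1) ∧
    Nat.card {x : Cfsg.SU 3 F q // PC t x} = (q + 1) * (q ^ 2 - 1) ∧
    PD t := by
  have h2 : (2 : F) ≠ 0 := two_ne_zero_of_odd hF hq
  obtain ⟨g, hg⟩ := conj_involutions hF hq (refl hF (E3 hF)) t (refl_ne_one hF h2 _)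
    (refl_mul_self hF _) ht ht2
  have hφ : MulAut.conj g (refl hF (E3 hF)) = t := by
    rw [MulAut.conj_apply]; exact hg
  rw [← hφ]
  refine ⟨?_, ?_, ?_, ?_⟩
  · rw [card_map (MulAut.conj g) PA (PA_map _)]; exact card_PA_E3 hF hq
  · rw [card_map (MulAut.conj g) PB (PB_map _)]; exact card_PB_E3 hF hq
  · rw [card_map (MulAut.conj g) PC (PC_map _)]; exact card_PC_E3 hF hq
  · exact PD_map _ _ (PD_E3 hF hq)

end Cfsg.Agent.Lib.H12.SU3Inv
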