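import Cfsg.Agent.Lib.H12.SemiD

/-!
# The determinant is onto on the centraliser of a semisimple element; conjugacy in `SL_n` (helper12)
-/

set_option autoImplicit false
open Polynomial

namespace Cfsg.Agent.Lib.H12.Semi

universe u v
variable {F : Type u} [Field F]

theorem exists_commuting_det [Finite F] {V : Type v} [AddCommGroup V] [Module F V]
    [FiniteDimensional F V] [Nontrivial V] (f : Module.End F V) (hf : f.IsSemisimple)
    (a : F) : ∃ c : Module.End F V, c ∘ₗ f = f ∘ₗ c ∧ LinearMap.det c = a := by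
  have hmp : 0 < (minpoly F f).natDegree :=
    minpoly.natDegree_pos (Algebra.IsIntegral.isIntegral f)
  obtain ⟨pi, hpm, hpi, hpd⟩ := exists_monic_irreducible_factor hmp
  obtain ⟨v, hv0, hv⟩ := exists_ne_zero_of_dvd_minpoly f hpd hpi.natDegree_pos
  obtain ⟨Z', hZ', hc, -, -⟩ := exists_peel f hf hv0 hpi hpm hv
  have : Fact (Irreducible pi) := ⟨hpi⟩
  have : Module.Finite F (AdjoinRoot pi) := hpm.finite_adjoinRoot
  have : Finite (AdjoinRoot pi) := Module.finite_of_finite F
  obtain ⟨b, hb⟩ := FiniteField.norm_surjective F (AdjoinRoot pi) a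
  rw [Algebra.norm_apply] at hb
  set e := cycEquiv f hv0 hpi hv with he
  set cZ : Module.End F (cyc f v) := e.conj (Algebra.lmul F (AdjoinRoot pi) b) with hcZ
  have hcZe : ∀ k, cZ (e k) = e (b * k) := by
    intro k
    rw [hcZ, LinearEquiv.conj_apply_apply, LinearEquiv.symm_apply_apply]
    rfl
  have hcomm : ∀ z, cZ (res f (cyc_invt f v) z) = res f (cyc_invt f v) (cZ z) := by
    intro z
    obtain ⟨k, rfl⟩ := e.surjective z
    rw [he, res_cycEquiv, ← he, hcZe, hcZe, he, res_cycEquiv, ← he]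
    congr 1
    ring
  set e2 := Submodule.prodEquivOfIsCompl (cyc f v) Z' hc with he2
  refine ⟨e2.conj (cZ.prodMap LinearMap.id), ?_, ?_⟩
  · apply LinearMap.ext
    intro x
    obtain ⟨⟨z, z'⟩, rfl⟩ := e2.surjective x
    have hfx : f (e2 (z, z')) = e2 (res f (cyc_invt f v) z, res f hZ' z') := by
      simp only [he2, Submodule.coe_prodEquivOfIsCompl', map_add, res_apply]
    rw [LinearMap.comp_apply, LinearMap.comp_apply, hfx, LinearEquiv.conj_apply_apply,
      LinearEquiv.conj_apply_apply, LinearEquiv.symm_apply_apply, LinearEquiv.symm_apply_apply,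
      LinearMap.prodMap_apply, LinearMap.prodMap_apply, hcomm]
    simp only [he2, Submodule.coe_prodEquivOfIsCompl', map_add, res_apply, LinearMap.id_apply]
  · rw [LinearEquiv.conj_apply, LinearMap.comp_assoc, LinearMap.det_conj, LinearMap.det_prodMap,
      LinearMap.det_id, mul_one, hcZ, LinearEquiv.conj_apply, LinearMap.comp_assoc,
      LinearMap.det_conj, hb]

theorem isConj_SL_of_charpoly_eq [Fintype F] (p : ℕ) [Fact p.Prime] [CharP F p] (n : ℕ)
    (g h : Matrix.SpecialLinearGroup (Fin n) F) (hg : (orderOf g).Coprime p)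
    (hh : (orderOf h).Coprime p)
    (hc : (g : Matrix (Fin n) (Fin n) F).charpoly = (h : Matrix (Fin n) (Fin n) F).charpoly) :
    IsConj g h := by
  rcases Nat.eq_zero_or_pos n with rfl | hn
  · have : g = h := Subtype.ext (Subsingleton.elim _ _)
    rw [this]
  have hne : Nonempty (Fin n) := ⟨⟨0, hn⟩⟩
  have hog : orderOf (Matrix.SpecialLinearGroup.toGL g) = orderOf g :=
    orderOf_injective _ Matrix.SpecialLinearGroup.toGL_injective g
  have hoh : orderOf (Matrix.SpecialLinearGroup.toGL h) = orderOf h :=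
    orderOf_injective _ Matrix.SpecialLinearGroup.toGL_injective h
  have hA : Module.End.IsSemisimple (Matrix.toLin' (g : Matrix (Fin n) (Fin n) F)) :=
    isSemisimple_toLin'_of_orderOf_coprime p (Matrix.SpecialLinearGroup.toGL g) (by rwa [hog])
  have hB : Module.End.IsSemisimple (Matrix.toLin' (h : Matrix (Fin n) (Fin n) F)) :=
    isSemisimple_toLin'_of_orderOf_coprime p (Matrix.SpecialLinearGroup.toGL h) (by rwa [hoh])
  obtain ⟨x, hx⟩ := isConj_iff.mp (isConj_GL_of_charpoly_eq (Matrix.SpecialLinearGroup.toGL g)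
    (Matrix.SpecialLinearGroup.toGL h) hA hB hc)
  have hx1 : (x : Matrix (Fin n) (Fin n) F) * (g : Matrix (Fin n) (Fin n) F) =
      (h : Matrix (Fin n) (Fin n) F) * (x : Matrix (Fin n) (Fin n) F) := by
    have := congrArg Units.val (mul_inv_eq_iff_eq_mul.mp hx)
    simpa using this
  have hd : (x : Matrix (Fin n) (Fin n) F).det ≠ 0 := by
    have := Matrix.GeneralLinearGroup.det_ne_zero x
    exact this
  obtain ⟨c, hcf, hcd⟩ := exists_commuting_det (Matrix.toLin' (g : Matrix (Fin n) (Fin n) F)) hA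
    ((x : Matrix (Fin n) (Fin n) F).det)⁻¹
  have hC1 : LinearMap.toMatrix' c * (g : Matrix (Fin n) (Fin n) F) =
      (g : Matrix (Fin n) (Fin n) F) * LinearMap.toMatrix' c := by
    have := congrArg LinearMap.toMatrix' hcf
    rwa [LinearMap.toMatrix'_comp, LinearMap.toMatrix'_comp, LinearMap.toMatrix'_toLin'] at this
  have hC2 : (LinearMap.toMatrix' c).det = ((x : Matrix (Fin n) (Fin n) F).det)⁻¹ := by
    rw [LinearMap.det_toMatrix', hcd]
  have hY : ((x : Matrix (Fin n) (Fin n) F) * LinearMap.toMatrix' c).det = 1 := by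
    rw [Matrix.det_mul, hC2, mul_inv_cancel₀ hd]
  set Y : Matrix.SpecialLinearGroup (Fin n) F :=
    ⟨(x : Matrix (Fin n) (Fin n) F) * LinearMap.toMatrix' c, hY⟩ with hYdef
  refine isConj_iff.mpr ⟨Y, ?_⟩
  rw [mul_inv_eq_iff_eq_mul]
  apply Subtype.ext
  show (x : Matrix (Fin n) (Fin n) F) * LinearMap.toMatrix' c * (g : Matrix (Fin n) (Fin n) F) =
    (h : Matrix (Fin n) (Fin n) F) * ((x : Matrix (Fin n) (Fin n) F) * LinearMap.toMatrix' c)
  rw [Matrix.mul_assoc, hC1, ← Matrix.mul_assoc, hx1, Matrix.mul_assoc]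

end Cfsg.Agent.Lib.H12.Semi
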