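import Mathlib
import Cfsg.Agent.Lib.H2.SpOrder
import Cfsg.Agent.Lib.H29.Zsigmondy

set_option autoImplicit false

/-!
# `Sp_{2n}(q)` does not embed in `GL_d(q)` for `d < 2n` (order argument via Zsigmondy)
-/

open Matrix

namespace Cfsg.Agent.Lib.H12.SpMinDeg

/-- a prime dividing `∏_{i<d} (q^d - q^i)` divides `q` or some `q^j - 1`, `0 < j ≤ d` -/
theorem prime_dvd_card_GL (q d r : ℕ) (hr : r.Prime)
    (h : r ∣ ∏ i : Fin d, (q ^ d - q ^ (i : ℕ))) :
    r ∣ q ∨ ∃ j, 0 < j ∧ j ≤ d ∧ r ∣ q ^ j - 1 := by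
  rw [Prime.dvd_finsetProd_iff (Nat.Prime.prime hr)] at h
  obtain ⟨i, -, hi⟩ := h
  have hfac : q ^ d - q ^ (i : ℕ) = q ^ (i : ℕ) * (q ^ (d - i) - 1) := by
    have hid : (i : ℕ) ≤ d := i.2.le
    rw [Nat.mul_sub, mul_one, ← pow_add, Nat.add_sub_cancel' hid]
  rw [hfac] at hi
  rcases (Nat.Prime.dvd_mul hr).1 hi with h1 | h1
  · exact Or.inl (hr.dvd_of_dvd_pow h1)
  · exact Or.inr ⟨d - i, by have := i.2; omega, by omega, h1⟩

theorem not_dvd_generic (q n d : ℕ) (hq : 2 ≤ q) (hn : 2 ≤ n) (hd : d < 2 * n)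
    (h6 : ¬ (q = 2 ∧ 2 * n = 6)) :
    ¬ (q ^ (n ^ 2) * ∏ i ∈ Finset.range n, (q ^ (2 * (i + 1)) - 1)) ∣
      ∏ i : Fin d, (q ^ d - q ^ (i : ℕ)) := by
  intro hdvd
  obtain ⟨r, hr, hr1, hr2⟩ := Cfsg.Agent.Lib.H29.Zsig.zsigmondy q (2 * n) (by omega) (by omega) h6
    (by rintro ⟨h, -⟩; omega)
  have h1 : r ∣ q ^ (n ^ 2) * ∏ i ∈ Finset.range n, (q ^ (2 * (i + 1)) - 1) := by
    apply Dvd.dvd.mul_left
    have hmem : n - 1 ∈ Finset.range n := Finset.mem_range.2 (by omega)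
    apply Dvd.dvd.trans _ (Finset.dvd_prod_of_mem _ hmem)
    have : 2 * (n - 1 + 1) = 2 * n := by omega
    rw [this]
    exact hr1
  rcases prime_dvd_card_GL q d r hr (h1.trans hdvd) with h | ⟨j, hj0, hjd, hj⟩
  · -- r ∣ q and r ∣ q^(2n) - 1: impossible
    have h2 : r ∣ q ^ (2 * n) := Dvd.dvd.trans h (dvd_pow_self q (by omega))
    have h3 : 1 ≤ q ^ (2 * n) := Nat.one_le_pow _ _ (by omega)
    have h4 : r ∣ 1 := by
      have := Nat.dvd_sub h2 hr1
      rwa [Nat.sub_sub_self h3] at this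
    exact hr.one_lt.ne' (Nat.dvd_one.1 h4)
  · exact hr2 j hj0 (by omega) hj

theorem not_dvd_two_six (d : ℕ) (hd : d < 6) :
    ¬ (2 ^ (3 ^ 2) * ∏ i ∈ Finset.range 3, (2 ^ (2 * (i + 1)) - 1)) ∣
      ∏ i : Fin d, (2 ^ d - 2 ^ (i : ℕ)) := by
  interval_cases d <;> decide

theorem not_dvd_one (q d : ℕ) (hq : 2 ≤ q) (hd : d < 2) :
    ¬ (q ^ (1 ^ 2) * ∏ i ∈ Finset.range 1, (q ^ (2 * (i + 1)) - 1)) ∣
      ∏ i : Fin d, (q ^ d - q ^ (i : ℕ)) := by
  intro hdvd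
  have hq2 : q ^ 2 - 1 ≥ q := by
    have : q * 2 ≤ q * q := Nat.mul_le_mul_left q hq
    have : q ^ 2 = q * q := by ring
    omega
  interval_cases d
  · simp only [Finset.univ_eq_empty, Finset.prod_empty, Nat.dvd_one] at hdvd
    simp only [one_pow, pow_one, Finset.range_one, Finset.prod_singleton, zero_add, mul_one] at hdvd
    have : q ≤ q * (q ^ 2 - 1) := Nat.le_mul_of_pos_right q (by omega)
    omega
  · simp only [Finset.univ_unique, Fin.default_eq_zero, Fin.val_zero, pow_one, pow_zero,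
      Finset.prod_singleton] at hdvd
    simp only [one_pow, pow_one, Finset.range_one, Finset.prod_singleton, zero_add, mul_one] at hdvd
    have h1 := Nat.le_of_dvd (by omega) hdvd
    have : q ≤ q * (q ^ 2 - 1) := Nat.le_mul_of_pos_right q (by omega)
    omega

/-- `|Sp_{2n}(q)|` does not divide `|GL_d(q)|` for `d < 2n` -/
theorem not_dvd (q n d : ℕ) (hq : 2 ≤ q) (hn : 1 ≤ n) (hd : d < 2 * n) :
    ¬ (q ^ (n ^ 2) * ∏ i ∈ Finset.range n, (q ^ (2 * (i + 1)) - 1)) ∣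
      ∏ i : Fin d, (q ^ d - q ^ (i : ℕ)) := by
  rcases Nat.lt_or_ge n 2 with h1 | h2
  · have : n = 1 := by omega
    subst this
    exact not_dvd_one q d hq hd
  · by_cases h6 : q = 2 ∧ 2 * n = 6
    · obtain ⟨rfl, h3⟩ := h6
      have : n = 3 := by omega
      subst this
      exact not_dvd_two_six d hd
    · exact not_dvd_generic q n d hq h2 hd h6

variable {F : Type*} [Field F] [Fintype F]

/-- a faithful representation of `Sp_{2n}(q)` over `F_q` has degree at least `2n` -/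
theorem main (n : ℕ) {d : ℕ}
    (ρ : ↥(Matrix.symplecticGroup (Fin n) F) →* GL (Fin d) F) (hρ : Function.Injective ρ) :
    2 * n ≤ d := by
  by_contra hlt
  push Not at hlt
  have hn : 1 ≤ n := by omega
  have hq : 2 ≤ Fintype.card F := Fintype.one_lt_card
  have h1 : Nat.card ρ.range ∣ Nat.card (GL (Fin d) F) := Subgroup.card_subgroup_dvd_card _
  rw [← Nat.card_congr (MonoidHom.ofInjective hρ).toEquiv, Cfsg.Agent.Lib.H2.Sp.card_Sp,
    Matrix.card_GL_field] at h1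
  exact not_dvd _ n d hq hn hlt h1

end Cfsg.Agent.Lib.H12.SpMinDeg
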