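import Mathlib
import Cfsg.Agent.Lib.H12.SpOrdA

/-!
# Classes of elements of prime order `r` in `Sp_{2n}(q)` via characteristic polynomials (helper12)
-/

set_option autoImplicit false
open Polynomial

namespace Cfsg.Agent.Lib.H12.SpOrd

open Cfsg.Agent.Lib.H12.Semi Cfsg.Agent.Lib.H12.SpSemi Cfsg.Agent.Lib.H12.SpCount

universe u
variable {F : Type u} [Field F]

theorem charpoly_eq_of_isConj (n : ℕ) {g h : ↥(Matrix.symplecticGroup (Fin n) F)}
    (hc : IsConj g h) : g.1.charpoly = h.1.charpoly := by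
  obtain ⟨c, rfl⟩ := isConj_iff.mp hc
  have h1 : (c * g * c⁻¹).1 = c.1 * (g.1 * (c⁻¹ : ↥(Matrix.symplecticGroup (Fin n) F)).1) := by
    change c.1 * g.1 * (c⁻¹ : ↥(Matrix.symplecticGroup (Fin n) F)).1 = _
    rw [Matrix.mul_assoc]
  rw [h1, Matrix.charpoly_mul_comm, Matrix.mul_assoc, coe_inv_mul, Matrix.mul_one]

theorem charpoly_natDegree (n : ℕ) (g : ↥(Matrix.symplecticGroup (Fin n) F)) :
    g.1.charpoly.natDegree = 2 * n := by
  rw [Matrix.charpoly_natDegree_eq_dim, Fintype.card_sum, Fintype.card_fin, two_mul]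

variable [Fintype F]

/-- every monic palindromic polynomial of degree `2n` is the characteristic polynomial of an
element of order prime to `p` -/
theorem exists_Sp_charpoly_eq (p : ℕ) [Fact p.Prime] [CharP F p] (n : ℕ) (P : F[X])
    (hm : P.Monic) (hd : P.natDegree = 2 * n) (hrev : P.reverse = P) :
    ∃ g : ↥(Matrix.symplecticGroup (Fin n) F), (orderOf g).Coprime p ∧ g.1.charpoly = P := by
  classical
  have hch : ∀ c : {c : ConjClasses ↥(Matrix.symplecticGroup (Fin n) F) //
      ∃ g : ↥(Matrix.symplecticGroup (Fin n) F), ConjClasses.mk g = c ∧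
        (orderOf g).Coprime p}, ∃ g : ↥(Matrix.symplecticGroup (Fin n) F),
        ConjClasses.mk g = c.1 ∧ (orderOf g).Coprime p := fun c => c.2
  choose G hG1 hG2 using hch
  have hinj : Function.Injective
      (fun c => fun i : Fin n => ((G c).1.charpoly).coeff ((i : ℕ) + 1)) := by
    intro c d hcd
    have hcoef : ∀ i : Fin n, ((G c).1.charpoly).coeff ((i : ℕ) + 1) =
        ((G d).1.charpoly).coeff ((i : ℕ) + 1) := fun i => congrFun hcd i
    have heq : (G c).1.charpoly = (G d).1.charpoly :=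
      eq_of_palindromic (Matrix.charpoly_monic _) (Matrix.charpoly_monic _)
        (charpoly_natDegree n _) (charpoly_natDegree n _)
        (charpoly_reverse n _) (charpoly_reverse n _) hcoef
    have hconj : IsConj (G c) (G d) :=
      isConj_Sp_of_semisimple n (G c) (G d) (isSemisimple_of_orderOf_coprime p n _ (hG2 c))
        (isSemisimple_of_orderOf_coprime p n _ (hG2 d)) heq
    apply Subtype.ext
    rw [← hG1 c, ← hG1 d]
    exact ConjClasses.mk_eq_mk_iff_isConj.mpr hconj
  have hcard : Nat.card (Fin n → F) ≤ Nat.card {c : ConjClasses ↥(Matrix.symplecticGroup (Fin n) F) //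
      ∃ g : ↥(Matrix.symplecticGroup (Fin n) F), ConjClasses.mk g = c ∧
        (orderOf g).Coprime p} := by
    rw [card_semisimple_classes_Sp p n, Nat.card_eq_fintype_card, Fintype.card_fun,
      Fintype.card_fin]
  have hbij := hinj.bijective_of_nat_card_le hcard
  obtain ⟨c, hc⟩ := hbij.2 (fun i : Fin n => P.coeff ((i : ℕ) + 1))
  refine ⟨G c, hG2 c, ?_⟩
  exact eq_of_palindromic (Matrix.charpoly_monic _) hm (charpoly_natDegree n _) hd
    (charpoly_reverse n _) hrev (fun i => congrFun hc i)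

omit [Fintype F] in
theorem coe_pow_eq_one_iff (n : ℕ) (g : ↥(Matrix.symplecticGroup (Fin n) F)) (r : ℕ) :
    g ^ r = 1 ↔ (g : Matrix (Fin n ⊕ Fin n) (Fin n ⊕ Fin n) F) ^ r = 1 := by
  constructor
  · intro h
    have := congrArg Subtype.val h
    rwa [SubmonoidClass.coe_pow] at this
  · intro h
    apply Subtype.ext
    rw [SubmonoidClass.coe_pow, h]
    rfl

omit [Fintype F] in
theorem eq_one_of_charpoly_eq (n : ℕ) (g : ↥(Matrix.symplecticGroup (Fin n) F))
    (hss : Module.End.IsSemisimple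
      (Matrix.toLin' (g : Matrix (Fin n ⊕ Fin n) (Fin n ⊕ Fin n) F)))
    (hc : g.1.charpoly = (X - 1) ^ (2 * n)) : g = 1 := by
  rcases Nat.eq_zero_or_pos n with hn | hn
  · subst hn
    apply Subtype.ext
    apply Matrix.ext
    intro i
    rcases i with i | i <;> exact i.elim0
  · have h1 := aeval_eq_zero_of_charpoly_dvd n g hss (X - 1) (2 * n) (by omega) (by rw [hc])
    rw [map_sub, aeval_X, map_one, sub_eq_zero] at h1
    apply Subtype.ext
    rw [h1]
    rfl

/-- classes of elements of order `r` correspond to palindromic divisors of `(X^r-1)^(2n)` other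
than `(X-1)^(2n)` -/
theorem card_classes_order_eq (p : ℕ) [Fact p.Prime] [CharP F p] (n r : ℕ) (hr : r.Prime)
    (hrp : r ≠ p) :
    Nat.card {C : ConjClasses ↥(Matrix.symplecticGroup (Fin n) F) //
      ∃ g : ↥(Matrix.symplecticGroup (Fin n) F), ConjClasses.mk g = C ∧ orderOf g = r} + 1 =
    Nat.card {P : F[X] // P.Monic ∧ P.natDegree = 2 * n ∧ P.reverse = P ∧
      P ∣ (X ^ r - 1) ^ (2 * n)} := by
  classical
  have hcop : r.Coprime p := (Nat.coprime_primes hr (Fact.out : p.Prime)).mpr hrp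
  -- the distinguished polynomial
  have hP1 : ((X - 1 : F[X]) ^ (2 * n)).Monic ∧ ((X - 1 : F[X]) ^ (2 * n)).natDegree = 2 * n ∧
      ((X - 1 : F[X]) ^ (2 * n)).reverse = (X - 1 : F[X]) ^ (2 * n) ∧
      (X - 1 : F[X]) ^ (2 * n) ∣ (X ^ r - 1) ^ (2 * n) := by
    have h1 : (1 : ↥(Matrix.symplecticGroup (Fin n) F)).1.charpoly = (X - 1 : F[X]) ^ (2 * n) := by
      have : (1 : ↥(Matrix.symplecticGroup (Fin n) F)).1 = 1 := rfl
      rw [this, Matrix.charpoly_one, Fintype.card_sum, Fintype.card_fin, two_mul]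
    rw [← h1]
    refine ⟨Matrix.charpoly_monic _, charpoly_natDegree n _, charpoly_reverse n _, ?_⟩
    rw [h1]
    apply pow_dvd_pow_of_dvd
    have : (X - 1 : F[X]) = X - C 1 := by rw [C_1]
    rw [this, dvd_iff_isRoot]
    simp
  set P1 : {P : F[X] // P.Monic ∧ P.natDegree = 2 * n ∧ P.reverse = P ∧
      P ∣ (X ^ r - 1) ^ (2 * n)} := ⟨(X - 1 : F[X]) ^ (2 * n), hP1⟩ with hP1def
  have hch : ∀ c : {C : ConjClasses ↥(Matrix.symplecticGroup (Fin n) F) //
      ∃ g : ↥(Matrix.symplecticGroup (Fin n) F), ConjClasses.mk g = C ∧ orderOf g = r},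
      ∃ g : ↥(Matrix.symplecticGroup (Fin n) F), ConjClasses.mk g = c.1 ∧ orderOf g = r :=
    fun c => c.2
  choose G hG1 hG2 using hch
  have hss : ∀ g : ↥(Matrix.symplecticGroup (Fin n) F), orderOf g = r →
      Module.End.IsSemisimple (Matrix.toLin' (g : Matrix (Fin n ⊕ Fin n) (Fin n ⊕ Fin n) F)) := by
    intro g hg
    apply isSemisimple_of_orderOf_coprime p n g
    rw [hg]
    exact hcop
  have hmem : ∀ g : ↥(Matrix.symplecticGroup (Fin n) F), orderOf g = r →
      g.1.charpoly.Monic ∧ g.1.charpoly.natDegree = 2 * n ∧ g.1.charpoly.reverse = g.1.charpoly ∧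
        g.1.charpoly ∣ (X ^ r - 1) ^ (2 * n) := by
    intro g hg
    refine ⟨Matrix.charpoly_monic _, charpoly_natDegree n _, charpoly_reverse n _, ?_⟩
    apply charpoly_dvd_of_pow_eq_one n g (hss g hg) r
    rw [← hg]
    exact pow_orderOf_eq_one g
  have hne : ∀ g : ↥(Matrix.symplecticGroup (Fin n) F), ∀ hg : orderOf g = r,
      (⟨g.1.charpoly, hmem g hg⟩ : {P : F[X] // P.Monic ∧ P.natDegree = 2 * n ∧ P.reverse = P ∧
        P ∣ (X ^ r - 1) ^ (2 * n)}) ≠ P1 := by
    intro g hg heq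
    have h1 : g.1.charpoly = (X - 1 : F[X]) ^ (2 * n) := congrArg Subtype.val heq
    have h2 := eq_one_of_charpoly_eq n g (hss g hg) h1
    rw [h2, orderOf_one] at hg
    exact hr.one_lt.ne hg
  let Ψ : {C : ConjClasses ↥(Matrix.symplecticGroup (Fin n) F) //
      ∃ g : ↥(Matrix.symplecticGroup (Fin n) F), ConjClasses.mk g = C ∧ orderOf g = r} →
      {P : {P : F[X] // P.Monic ∧ P.natDegree = 2 * n ∧ P.reverse = P ∧
        P ∣ (X ^ r - 1) ^ (2 * n)} // P ≠ P1} :=
    fun c => ⟨⟨(G c).1.charpoly, hmem (G c) (hG2 c)⟩, hne (G c) (hG2 c)⟩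
  have hΨinj : Function.Injective Ψ := by
    intro c d hcd
    have heq : (G c).1.charpoly = (G d).1.charpoly :=
      congrArg (fun x => x.1.1) hcd
    have hconj : IsConj (G c) (G d) :=
      isConj_Sp_of_semisimple n (G c) (G d) (hss _ (hG2 c)) (hss _ (hG2 d)) heq
    apply Subtype.ext
    rw [← hG1 c, ← hG1 d]
    exact ConjClasses.mk_eq_mk_iff_isConj.mpr hconj
  have hΨsurj : Function.Surjective Ψ := by
    rintro ⟨⟨P, hPm, hPd, hPr, hPdvd⟩, hPne⟩
    have hn : n ≠ 0 := by
      intro hn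
      apply hPne
      apply Subtype.ext
      show P = (X - 1 : F[X]) ^ (2 * n)
      rw [hn, mul_zero, pow_zero]
      rw [hn, mul_zero] at hPd
      exact Polynomial.eq_one_of_monic_natDegree_zero hPm hPd
    obtain ⟨g, hgc, hgP⟩ := exists_Sp_charpoly_eq p n P hPm hPd hPr
    have hgss := isSemisimple_of_orderOf_coprime p n g hgc
    have h1 := aeval_eq_zero_of_charpoly_dvd n g hgss (X ^ r - 1) (2 * n) (by omega)
      (by rw [hgP]; exact hPdvd)
    rw [map_sub, map_pow, aeval_X, map_one, sub_eq_zero] at h1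
    have h2 : g ^ r = 1 := (coe_pow_eq_one_iff n g r).mpr h1
    have h3 : g ≠ 1 := by
      intro h
      apply hPne
      apply Subtype.ext
      show P = (X - 1 : F[X]) ^ (2 * n)
      rw [← hgP, h]
      have : (1 : ↥(Matrix.symplecticGroup (Fin n) F)).1 = 1 := rfl
      rw [this, Matrix.charpoly_one, Fintype.card_sum, Fintype.card_fin, two_mul]
    have h4 : orderOf g = r := by
      have : Fact r.Prime := ⟨hr⟩
      exact orderOf_eq_prime h2 h3
    refine ⟨⟨ConjClasses.mk g, g, rfl, h4⟩, ?_⟩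
    apply Subtype.ext
    apply Subtype.ext
    show (G ⟨ConjClasses.mk g, g, rfl, h4⟩).1.charpoly = P
    rw [← hgP]
    apply charpoly_eq_of_isConj
    exact ConjClasses.mk_eq_mk_iff_isConj.mp (hG1 ⟨ConjClasses.mk g, g, rfl, h4⟩)
  have e1 := Equiv.ofBijective Ψ ⟨hΨinj, hΨsurj⟩
  have hfin : Finite {P : {P : F[X] // P.Monic ∧ P.natDegree = 2 * n ∧ P.reverse = P ∧
        P ∣ (X ^ r - 1) ^ (2 * n)} // P ≠ P1} := Finite.of_equiv _ e1
  rw [Nat.card_congr e1, ← Finite.card_option, Nat.card_congr (Equiv.optionSubtypeNe P1)]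

end Cfsg.Agent.Lib.H12.SpOrd
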