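import Mathlib
import Cfsg.Agent.Lib.H12.SpecA

/-!
# Element orders in `PSL_3(q)`: irreducible factors of the characteristic polynomial (helper12)
-/

set_option autoImplicit false
set_option linter.unusedSectionVars false
open Polynomial

namespace Cfsg.Agent.Lib.H12.Spec

variable {F : Type*} [Field F] [Fintype F]

/-- norm of the root of a monic irreducible polynomial over a finite field, as a power -/
theorem root_pow_geom (χ : F[X]) [hirr : Fact (Irreducible χ)] (hm : χ.Monic) :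
    (AdjoinRoot.root χ) ^ (∑ i ∈ Finset.range χ.natDegree, Fintype.card F ^ i) =
      algebraMap F (AdjoinRoot χ) ((-1) ^ χ.natDegree * χ.coeff 0) := by
  have hfin : Module.Finite F (AdjoinRoot χ) := hm.finite_adjoinRoot
  have hfinK : Finite (AdjoinRoot χ) := Module.finite_of_finite F
  have h1 := FiniteField.algebraMap_norm_eq_pow_sum F (AdjoinRoot χ) (AdjoinRoot.root χ)
  have h2 : Module.finrank F (AdjoinRoot χ) = χ.natDegree := by
    rw [(AdjoinRoot.powerBasis' hm).finrank, AdjoinRoot.powerBasis'_dim]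
  have h3 := Algebra.PowerBasis.norm_gen_eq_coeff_zero_minpoly (AdjoinRoot.powerBasis' hm)
  rw [AdjoinRoot.powerBasis'_gen, AdjoinRoot.powerBasis'_dim, AdjoinRoot.minpoly_root hm.ne_zero,
    hm.leadingCoeff, inv_one, map_one, mul_one] at h3
  rw [h2, Nat.card_eq_fintype_card, h3] at h1
  exact h1.symm

theorem dvd_of_root_pow (χ : F[X]) [hirr : Fact (Irreducible χ)] (N : ℕ) (s : F)
    (h : (AdjoinRoot.root χ) ^ N = algebraMap F (AdjoinRoot χ) s) : χ ∣ X ^ N - C s := by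
  rw [← AdjoinRoot.mk_eq_zero, map_sub, map_pow, AdjoinRoot.mk_X, AdjoinRoot.mk_C, h]
  exact sub_self _

/-- number theory: `d ∣ 3`, `d ∣ Q - 1` -/
theorem nt_dvd_sq_add {Q d : ℕ} (hQ : 1 ≤ Q) (hd3 : d ∣ 3) (hd : d ∣ Q - 1) : d ∣ Q ^ 2 + Q + 1 := by
  have h1 : Q ^ 2 + Q + 1 = (Q - 1) * (Q + 2) + 3 := by
    obtain ⟨k, rfl⟩ : ∃ k, Q = k + 1 := ⟨Q - 1, by omega⟩
    simp only [Nat.add_sub_cancel]
    ring
  rw [h1]
  exact dvd_add (dvd_mul_of_dvd_left hd _) hd3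

theorem nt_dvd_add_two {Q d : ℕ} (hQ : 1 ≤ Q) (hd3 : d ∣ 3) (hd : d ∣ Q - 1) : d ∣ Q + 2 := by
  have h1 : Q + 2 = (Q - 1) + 3 := by omega
  rw [h1]
  exact dvd_add hd hd3

theorem nt_sq_sub_one {Q : ℕ} (hQ : 1 ≤ Q) : Q ^ 2 - 1 = (Q + 1) * (Q - 1) := by
  obtain ⟨k, rfl⟩ : ∃ k, Q = k + 1 := ⟨Q - 1, by omega⟩
  simp only [Nat.add_sub_cancel]
  have : (k + 1) ^ 2 = (k + 1 + 1) * k + 1 := by ring
  rw [this, Nat.add_sub_cancel]

/-- irreducible cubic with constant term `-1`: a power of the root is a scalar -/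
theorem irr_cubic_dvd {d : ℕ} (hd3 : d ∣ 3) (hd : d ∣ Fintype.card F - 1) (χ : F[X])
    (hm : χ.Monic) (hirr : Irreducible χ) (hdeg : χ.natDegree = 3) (h0 : χ.coeff 0 = -1) :
    ∃ s : F, χ ∣ X ^ ((Fintype.card F ^ 2 + Fintype.card F + 1) / d) - C s := by
  have : Fact (Irreducible χ) := ⟨hirr⟩
  set Q := Fintype.card F with hQdef
  have hQ : 1 ≤ Q := Fintype.card_pos
  have h1 := root_pow_geom χ hm
  rw [hdeg, h0] at h1
  have e1 : ∑ i ∈ Finset.range 3, Q ^ i = Q ^ 2 + Q + 1 := by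
    simp [Finset.sum_range_succ]; ring
  rw [e1] at h1
  have e2 : ((-1 : F) ^ 3 * -1) = 1 := by norm_num
  rw [e2, map_one] at h1
  obtain ⟨N₁, hN₁⟩ := nt_dvd_sq_add hQ hd3 hd
  obtain ⟨r, hr⟩ := hd
  have hd0 : 0 < d := Nat.pos_of_dvd_of_pos hd3 (by norm_num)
  have hdiv : (Q ^ 2 + Q + 1) / d = N₁ := by
    rw [hN₁]; exact Nat.mul_div_cancel_left _ hd0
  rw [hdiv]
  have h2 : ((AdjoinRoot.root χ) ^ N₁) ^ (Q - 1) = 1 := by
    rw [← pow_mul, hr]
    have : N₁ * (d * r) = (Q ^ 2 + Q + 1) * r := by rw [hN₁]; ring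
    rw [this, pow_mul, h1, one_pow]
  obtain ⟨s, hs⟩ := mem_range_of_pow_card_sub_one_eq (F := F) _ h2
  exact ⟨s, dvd_of_root_pow χ N₁ s hs.symm⟩

/-- linear times irreducible quadratic with product of roots `1` -/
theorem lin_quad_dvd {d : ℕ} (hd3 : d ∣ 3) (hd : d ∣ Fintype.card F - 1) (a : F) (ρ : F[X])
    (hm : ρ.Monic) (hirr : Irreducible ρ) (hdeg : ρ.natDegree = 2) (h0 : a * ρ.coeff 0 = 1) :
    ∃ s : F, (X - C a) * ρ ∣ X ^ ((Fintype.card F ^ 2 - 1) / d) - C s := by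
  have : Fact (Irreducible ρ) := ⟨hirr⟩
  set Q := Fintype.card F with hQdef
  have hQ : 1 ≤ Q := Fintype.card_pos
  have ha0 : a ≠ 0 := by
    rintro rfl
    rw [zero_mul] at h0
    exact zero_ne_one h0
  have h1 := root_pow_geom ρ hm
  rw [hdeg] at h1
  have e1 : ∑ i ∈ Finset.range 2, Q ^ i = Q + 1 := by
    simp [Finset.sum_range_succ]; ring
  rw [e1] at h1
  have e2 : ((-1 : F) ^ 2 * ρ.coeff 0) = ρ.coeff 0 := by norm_num
  rw [e2] at h1
  obtain ⟨w, hw⟩ := nt_dvd_add_two hQ hd3 hd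
  obtain ⟨r, hr⟩ := hd
  have hd0 : 0 < d := Nat.pos_of_dvd_of_pos hd3 (by norm_num)
  have hQ2 : Q ^ 2 - 1 = d * ((Q + 1) * r) := by
    rw [nt_sq_sub_one hQ, hr]; ring
  have hdiv : (Q ^ 2 - 1) / d = (Q + 1) * r := by
    rw [hQ2]; exact Nat.mul_div_cancel_left _ hd0
  rw [hdiv]
  have haQ : a ^ (Q - 1) = 1 := FiniteField.pow_card_sub_one_eq_one a ha0
  -- a ^ ((Q+1) r) = (ρ 0) ^ r
  have h3 : a ^ ((Q + 1) * r) * a ^ r = 1 := by
    rw [← pow_add]
    have : (Q + 1) * r + r = w * (Q - 1) := by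
      rw [hr]
      have : (Q + 1) * r + r = (Q + 2) * r := by ring
      rw [this, hw]; ring
    rw [this, pow_mul, pow_right_comm, haQ, one_pow]
  have h4 : ρ.coeff 0 ^ r * a ^ r = 1 := by
    rw [← mul_pow, mul_comm, h0, one_pow]
  have h5 : a ^ ((Q + 1) * r) = ρ.coeff 0 ^ r := by
    have har : a ^ r ≠ 0 := pow_ne_zero _ ha0
    exact mul_right_cancel₀ har (h3.trans h4.symm)
  refine ⟨ρ.coeff 0 ^ r, ?_⟩
  have hco : IsCoprime (X - C a) ρ := by
    rw [(irreducible_X_sub_C a).coprime_iff_not_dvd]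
    intro hdvd
    have h6 : ρ.IsRoot a := dvd_iff_isRoot.mp hdvd
    have h7 := degree_eq_one_of_irreducible_of_root hirr h6
    rw [degree_eq_natDegree hm.ne_zero, hdeg] at h7
    norm_num at h7
  apply hco.mul_dvd
  · exact X_sub_C_dvd_X_pow_sub_C a _ _ h5
  · apply dvd_of_root_pow
    rw [pow_mul, h1, map_pow]

end Cfsg.Agent.Lib.H12.Spec
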