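import Mathlib
import Cfsg.Agent.Lib.H12.SpecB

/-!
# Element orders in `PSL_3(q)`: every order divides one of the listed numbers (helper12)
-/

set_option autoImplicit false
set_option linter.unusedSectionVars false
open Polynomial

namespace Cfsg.Agent.Lib.H12.Spec

section cubic

variable {F : Type*} [Field F]

/-- factorization types of a monic cubic -/
theorem cubic_cases (χ : F[X]) (hm : χ.Monic) (hdeg : χ.natDegree = 3) :
    Irreducible χ ∨ (∃ (a : F) (ρ : F[X]), ρ.Monic ∧ Irreducible ρ ∧ ρ.natDegree = 2 ∧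
        χ = (X - C a) * ρ) ∨
      ∃ a b c : F, χ = (X - C a) * (X - C b) * (X - C c) := by
  by_cases h : χ.roots = 0
  · left
    exact (hm.irreducible_iff_roots_eq_zero_of_degree_le_three (by omega) (by omega)).mpr h
  right
  obtain ⟨a, ha⟩ := Multiset.exists_mem_of_ne_zero h
  rw [mem_roots hm.ne_zero] at ha
  have h1 := (mul_divByMonic_eq_iff_isRoot (p := χ)).mpr ha
  set ρ := χ /ₘ (X - C a) with hρ
  have hρm : ρ.Monic := by
    have h2 : ((X - C a) * ρ).Monic := by rw [h1]; exact hm
    exact (monic_X_sub_C a).of_mul_monic_left h2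
  have hρdeg : ρ.natDegree = 2 := by
    have h2 := (monic_X_sub_C a).natDegree_mul hρm
    rw [h1, hdeg, natDegree_X_sub_C] at h2
    omega
  by_cases h2 : ρ.roots = 0
  · left
    exact ⟨a, ρ, hρm,
      (hρm.irreducible_iff_roots_eq_zero_of_degree_le_three (by omega) (by omega)).mpr h2, hρdeg,
      h1.symm⟩
  right
  obtain ⟨b, hb⟩ := Multiset.exists_mem_of_ne_zero h2
  rw [mem_roots hρm.ne_zero] at hb
  have h3 := (mul_divByMonic_eq_iff_isRoot (p := ρ)).mpr hb
  set ρ' := ρ /ₘ (X - C b) with hρ'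
  have hρ'm : ρ'.Monic := by
    have h4 : ((X - C b) * ρ').Monic := by rw [h3]; exact hρm
    exact (monic_X_sub_C b).of_mul_monic_left h4
  have hρ'deg : ρ'.natDegree = 1 := by
    have h4 := (monic_X_sub_C b).natDegree_mul hρ'm
    rw [h3, hρdeg, natDegree_X_sub_C] at h4
    omega
  have h5 := hρ'm.eq_X_add_C hρ'deg
  refine ⟨a, b, -ρ'.coeff 0, ?_⟩
  rw [← h1, ← h3, h5, C_neg, sub_neg_eq_add, mul_assoc]
  congr 2
  rw [coeff_add, coeff_X_zero, zero_add, coeff_C_zero]

end cubic

section glue

variable {F : Type*} [Field F] {n : Type*} [Fintype n] [DecidableEq n]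

theorem orderOf_PSL_dvd (g : Matrix.SpecialLinearGroup n F) (N : ℕ) (s : F)
    (h : (g : Matrix n n F) ^ N = s • (1 : Matrix n n F)) :
    orderOf (QuotientGroup.mk g : Matrix.ProjectiveSpecialLinearGroup n F) ∣ N := by
  apply orderOf_mk_dvd
  rw [Matrix.SpecialLinearGroup.mem_center_iff]
  refine ⟨s, ?_, ?_⟩
  · have h1 : ((g ^ N : Matrix.SpecialLinearGroup n F) : Matrix n n F).det = 1 := (g ^ N).2
    rw [Matrix.SpecialLinearGroup.coe_pow, h, Matrix.det_smul, Matrix.det_one, mul_one] at h1
    exact h1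
  · rw [Matrix.SpecialLinearGroup.coe_pow, h, Matrix.scalar_apply, Matrix.smul_one_eq_diagonal]

theorem exists_smul_of_mem_center (g : Matrix.SpecialLinearGroup n F) (k : ℕ)
    (h : g ^ k ∈ Subgroup.center (Matrix.SpecialLinearGroup n F)) :
    ∃ s : F, (g : Matrix n n F) ^ k = s • (1 : Matrix n n F) := by
  rw [Matrix.SpecialLinearGroup.mem_center_iff] at h
  obtain ⟨r, -, hr⟩ := h
  refine ⟨r, ?_⟩
  rw [← Matrix.SpecialLinearGroup.coe_pow, ← hr, Matrix.scalar_apply, Matrix.smul_one_eq_diagonal]

end glue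

section main

variable {F : Type*} [Field F] [Fintype F]

/-- a double root: `x x y = 1` -/
theorem double_case (p : ℕ) [Fact p.Prime] [CharP F p] {d : ℕ} (hd3 : d ∣ 3)
    (hd : d ∣ Fintype.card F - 1) (x y : F) (hxy : x ≠ y) (hprod : x * x * y = 1) :
    ∃ s : F, (X - C x) ^ 2 * (X - C y) ∣ X ^ (p * ((Fintype.card F - 1) / d)) - C s := by
  have hx0 : x ≠ 0 := by
    rintro rfl
    rw [zero_mul, zero_mul] at hprod
    exact zero_ne_one hprod
  obtain ⟨r, hr⟩ := hd
  obtain ⟨e, he⟩ := hd3
  have hd0 : 0 < d := Nat.pos_of_ne_zero (by rintro rfl; omega)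
  have hdiv : (Fintype.card F - 1) / d = r := by
    rw [hr]; exact Nat.mul_div_cancel_left _ hd0
  rw [hdiv]
  have hxQ : x ^ (Fintype.card F - 1) = 1 := FiniteField.pow_card_sub_one_eq_one x hx0
  have h1 : x ^ r * x ^ (2 * r) = 1 := by
    rw [← pow_add]
    have : r + 2 * r = e * (Fintype.card F - 1) := by
      rw [hr]
      have : r + 2 * r = 3 * r := by ring
      rw [this, he]; ring
    rw [this, pow_mul, pow_right_comm, hxQ, one_pow]
  have h2 : y ^ r * x ^ (2 * r) = 1 := by
    rw [pow_mul, ← mul_pow, sq, mul_comm, hprod, one_pow]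
  have h3 : y ^ r = x ^ r :=
    mul_right_cancel₀ (pow_ne_zero _ hx0) (h2.trans h1.symm)
  exact ⟨(x ^ r) ^ p, dvd_of_double p x y (x ^ r) r hxy rfl h3⟩

theorem PSL3_order_dvd (p : ℕ) [Fact p.Prime] [CharP F p]
    (x : Matrix.ProjectiveSpecialLinearGroup (Fin 3) F) :
    orderOf x ∣ (Fintype.card F ^ 2 + Fintype.card F + 1) / Nat.gcd 3 (Fintype.card F - 1) ∨
      orderOf x ∣ (Fintype.card F ^ 2 - 1) / Nat.gcd 3 (Fintype.card F - 1) ∨
      orderOf x ∣ Fintype.card F - 1 ∨
      orderOf x ∣ p * (Fintype.card F - 1) / Nat.gcd 3 (Fintype.card F - 1) ∨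
      (p = 2 ∧ orderOf x ∣ 4) := by
  obtain ⟨g, rfl⟩ := QuotientGroup.mk_surjective x
  set A : Matrix (Fin 3) (Fin 3) F := (g : Matrix (Fin 3) (Fin 3) F) with hA
  set d := Nat.gcd 3 (Fintype.card F - 1) with hd
  have hd3 : d ∣ 3 := Nat.gcd_dvd_left _ _
  have hdQ : d ∣ Fintype.card F - 1 := Nat.gcd_dvd_right _ _
  have hm : A.charpoly.Monic := Matrix.charpoly_monic A
  have hdeg : A.charpoly.natDegree = 3 := by
    rw [Matrix.charpoly_natDegree_eq_dim, Fintype.card_fin]
  have h0 : A.charpoly.coeff 0 = -1 := by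
    have h1 := Matrix.det_eq_sign_charpoly_coeff A
    rw [g.2, Fintype.card_fin] at h1
    have : ((-1 : F) ^ 3) = -1 := by norm_num
    rw [this, neg_one_mul] at h1
    rw [h1, neg_neg]
  have hpmul : p * (Fintype.card F - 1) / d = p * ((Fintype.card F - 1) / d) :=
    Nat.mul_div_assoc p hdQ
  rcases cubic_cases A.charpoly hm hdeg with hirr | ⟨a, ρ, hρm, hρirr, hρdeg, hχ⟩ | ⟨a, b, c, hχ⟩
  · left
    obtain ⟨s, hs⟩ := irr_cubic_dvd hd3 hdQ A.charpoly hm hirr hdeg h0
    exact orderOf_PSL_dvd g _ s (pow_eq_smul_of_charpoly_dvd A _ s hs)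
  · right; left
    have h1 : a * ρ.coeff 0 = 1 := by
      rw [hχ, mul_coeff_zero, coeff_sub, coeff_X_zero, coeff_C_zero, zero_sub, neg_mul,
        neg_inj] at h0
      exact h0
    obtain ⟨s, hs⟩ := lin_quad_dvd hd3 hdQ a ρ hρm hρirr hρdeg h1
    rw [← hχ] at hs
    exact orderOf_PSL_dvd g _ s (pow_eq_smul_of_charpoly_dvd A _ s hs)
  · right; right
    have habc : a * b * c = 1 := by
      rw [hχ] at h0
      simp only [mul_coeff_zero, coeff_sub, coeff_X_zero, coeff_C_zero, zero_sub] at h0
      have : -a * -b * -c = -(a * b * c) := by ring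
      rw [this, neg_inj] at h0
      exact h0
    have ha0 : a ≠ 0 := by
      rintro rfl
      simp at habc
    have hb0 : b ≠ 0 := by
      rintro rfl
      simp at habc
    have hc0 : c ≠ 0 := by
      rintro rfl
      simp at habc
    by_cases hab : a = b
    · by_cases hac : a = c
      · -- all equal
        right
        subst hab
        subst hac
        have hχ' : A.charpoly = (X - C a) ^ 3 := by rw [hχ]; ring
        by_cases hp2 : p = 2
        · right
          refine ⟨hp2, ?_⟩
          subst hp2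
          have h1 := dvd_of_triple_two a
          rw [← hχ'] at h1
          exact orderOf_PSL_dvd g _ _ (pow_eq_smul_of_charpoly_dvd A _ _ h1)
        · left
          have hp3 : 3 ≤ p := by
            have := (Fact.out : p.Prime).two_le
            omega
          have h1 := dvd_of_triple p hp3 a
          rw [← hχ'] at h1
          have h2 := orderOf_PSL_dvd g _ _ (pow_eq_smul_of_charpoly_dvd A _ _ h1)
          rw [hpmul]
          exact h2.trans (dvd_mul_right _ _)
      · -- a = b ≠ c
        right; left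
        subst hab
        have hχ' : A.charpoly = (X - C a) ^ 2 * (X - C c) := by rw [hχ]; ring
        obtain ⟨s, hs⟩ := double_case p hd3 hdQ a c hac habc
        rw [← hχ', ← hpmul] at hs
        exact orderOf_PSL_dvd g _ s (pow_eq_smul_of_charpoly_dvd A _ s hs)
    · by_cases hac : a = c
      · -- a = c ≠ b
        right; left
        subst hac
        have hχ' : A.charpoly = (X - C a) ^ 2 * (X - C b) := by rw [hχ]; ring
        have hprod : a * a * b = 1 := by rw [← habc]; ring
        obtain ⟨s, hs⟩ := double_case p hd3 hdQ a b hab hprod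
        rw [← hχ', ← hpmul] at hs
        exact orderOf_PSL_dvd g _ s (pow_eq_smul_of_charpoly_dvd A _ s hs)
      · by_cases hbc : b = c
        · -- b = c ≠ a
          right; left
          subst hbc
          have hχ' : A.charpoly = (X - C b) ^ 2 * (X - C a) := by rw [hχ]; ring
          have hprod : b * b * a = 1 := by rw [← habc]; ring
          obtain ⟨s, hs⟩ := double_case p hd3 hdQ b a (Ne.symm hab) hprod
          rw [← hχ', ← hpmul] at hs
          exact orderOf_PSL_dvd g _ s (pow_eq_smul_of_charpoly_dvd A _ s hs)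
        · -- all distinct
          left
          have h1 := dvd_of_distinct a b c 1 (Fintype.card F - 1) hab hac hbc
            (FiniteField.pow_card_sub_one_eq_one a ha0) (FiniteField.pow_card_sub_one_eq_one b hb0)
            (FiniteField.pow_card_sub_one_eq_one c hc0)
          rw [← hχ] at h1
          exact orderOf_PSL_dvd g _ 1 (pow_eq_smul_of_charpoly_dvd A _ 1 h1)

end main

end Cfsg.Agent.Lib.H12.Spec
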