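import Mathlib
import Cfsg.Agent.Lib.H12.SpecC

/-!
# Element orders in `PSL_3(q)`: number theory and the bridge from linear maps to `PSL_3` (helper12)
-/

set_option autoImplicit false
set_option linter.unusedSectionVars false
open Polynomial

namespace Cfsg.Agent.Lib.H12.Spec

section nt

theorem gcd_three_cases (m : ℕ) : Nat.gcd 3 m = 1 ∨ Nat.gcd 3 m = 3 :=
  (Nat.dvd_prime Nat.prime_three).mp (Nat.gcd_dvd_left 3 m)

theorem nt_T1 (Q k : ℕ) (hQ : 1 ≤ Q) (h : Q ^ 2 + Q + 1 ∣ (Q - 1) * k) :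
    (Q ^ 2 + Q + 1) / Nat.gcd 3 (Q - 1) ∣ k := by
  obtain ⟨t, rfl⟩ : ∃ t, Q = t + 1 := ⟨Q - 1, by omega⟩
  rw [Nat.add_sub_cancel] at h ⊢
  have e1 : (t + 1) ^ 2 + (t + 1) + 1 = 3 + (t + 3) * t := by ring
  rw [e1] at h ⊢
  rcases gcd_three_cases t with h1 | h3
  · rw [h1, Nat.div_one]
    have hco : Nat.Coprime (3 + (t + 3) * t) t := by
      rw [Nat.coprime_add_mul_right_left]; exact h1
    exact hco.dvd_of_dvd_mul_left h
  · rw [h3]
    have h3t : 3 ∣ t := by rw [← h3]; exact Nat.gcd_dvd_right 3 t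
    obtain ⟨r, rfl⟩ := h3t
    have e2 : 3 + (3 * r + 3) * (3 * r) = 3 * (1 + (3 * r + 3) * r) := by ring
    rw [e2, Nat.mul_div_cancel_left _ (by norm_num : 0 < 3)]
    rw [e2, mul_assoc] at h
    have h4 : 1 + (3 * r + 3) * r ∣ r * k := Nat.dvd_of_mul_dvd_mul_left (by norm_num) h
    have hco : Nat.Coprime (1 + (3 * r + 3) * r) r := by
      rw [Nat.coprime_add_mul_right_left]; exact Nat.coprime_one_left r
    exact hco.dvd_of_dvd_mul_left h4

theorem nt_T2 (Q k : ℕ) (hQ : 1 ≤ Q) (h : Q ^ 2 - 1 ∣ (Q + 2) * k) :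
    (Q ^ 2 - 1) / Nat.gcd 3 (Q - 1) ∣ k := by
  obtain ⟨t, rfl⟩ : ∃ t, Q = t + 1 := ⟨Q - 1, by omega⟩
  have e0 : (t + 1) ^ 2 - 1 = (t + 2) * t := by
    have : (t + 1) ^ 2 = (t + 2) * t + 1 := by ring
    rw [this, Nat.add_sub_cancel]
  rw [e0] at h ⊢
  rw [Nat.add_sub_cancel]
  have e1 : t + 1 + 2 = t + 3 := by ring
  rw [e1] at h
  rcases gcd_three_cases t with h1 | h3
  · rw [h1, Nat.div_one]
    have hco : Nat.Coprime ((t + 2) * t) (t + 3) := by
      apply Nat.Coprime.mul_left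
      · have : t + 3 = t + 2 + 1 := by ring
        rw [this]
        exact (Nat.coprime_self_add_right).mpr (Nat.coprime_one_right _)
      · have : Nat.Coprime t (3 + 1 * t) := by
          rw [Nat.coprime_add_mul_right_right]; exact Nat.Coprime.symm h1
        have e : t + 3 = 3 + 1 * t := by ring
        rw [e]; exact this
    exact hco.dvd_of_dvd_mul_left h
  · rw [h3]
    have h3t : 3 ∣ t := by rw [← h3]; exact Nat.gcd_dvd_right 3 t
    obtain ⟨r, rfl⟩ := h3t
    have e2 : (3 * r + 2) * (3 * r) = 3 * ((3 * r + 2) * r) := by ring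
    have e3 : 3 * r + 3 = 3 * (r + 1) := by ring
    rw [e2, Nat.mul_div_cancel_left _ (by norm_num : 0 < 3)]
    rw [e2, e3, mul_assoc] at h
    have h4 : (3 * r + 2) * r ∣ (r + 1) * k := Nat.dvd_of_mul_dvd_mul_left (by norm_num) h
    have hco : Nat.Coprime ((3 * r + 2) * r) (r + 1) := by
      apply Nat.Coprime.mul_left
      · have e : 3 * r + 2 = 2 * (r + 1) + r := by ring
        rw [e]
        rw [Nat.Coprime, Nat.gcd_comm, Nat.gcd_mul_right_add_right]
        have : Nat.Coprime (r + 1) r := by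
          rw [Nat.coprime_self_add_left]; exact Nat.coprime_one_left r
        exact this
      · exact (Nat.coprime_self_add_right).mpr (Nat.coprime_one_right _)
    exact hco.dvd_of_dvd_mul_left h4

end nt

section bridge

variable {F : Type*} [Field F]

theorem dvd_orderOf_PSL {n : Type*} [Fintype n] [DecidableEq n]
    (g : Matrix.SpecialLinearGroup n F) (L : ℕ)
    (h : ∀ (k : ℕ) (s : F), (g : Matrix n n F) ^ k = s • (1 : Matrix n n F) → L ∣ k) :
    L ∣ orderOf (QuotientGroup.mk g : Matrix.ProjectiveSpecialLinearGroup n F) := by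
  apply dvd_orderOf_mk
  intro k hk
  obtain ⟨s, hs⟩ := exists_smul_of_mem_center g k hk
  exact h k s hs

theorem exists_PSL3_of_matrix (M : Matrix (Fin 3) (Fin 3) F) (hdet : M.det = 1) (L : ℕ)
    (hL : ∀ (k : ℕ) (s : F), M ^ k = s • (1 : Matrix (Fin 3) (Fin 3) F) → L ∣ k) :
    ∃ x : Matrix.ProjectiveSpecialLinearGroup (Fin 3) F, L ∣ orderOf x :=
  ⟨QuotientGroup.mk ⟨M, hdet⟩, dvd_orderOf_PSL ⟨M, hdet⟩ L hL⟩

theorem exists_PSL3_of_end {V : Type*} [AddCommGroup V] [Module F V] [Module.Finite F V]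
    (hV : Module.finrank F V = 3) (g : Module.End F V) (hdet : LinearMap.det g = 1) (L : ℕ)
    (hL : ∀ (k : ℕ) (s : F), g ^ k = s • (1 : Module.End F V) → L ∣ k) :
    ∃ x : Matrix.ProjectiveSpecialLinearGroup (Fin 3) F, L ∣ orderOf x := by
  classical
  let b : Module.Basis (Fin 3) F V := Module.finBasisOfFinrankEq F V hV
  apply exists_PSL3_of_matrix (LinearMap.toMatrix b b g) (by rw [LinearMap.det_toMatrix]; exact hdet)
  intro k s hk
  apply hL k s
  apply (LinearMap.toMatrix b b).injective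
  rw [← LinearMap.toMatrix_pow, hk, map_smul]
  congr 1
  exact (LinearMap.toMatrix_one b).symm

end bridge

end Cfsg.Agent.Lib.H12.Spec
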