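import Mathlib
import Cfsg.Agent.Lib.H12.SpecD

/-!
# Element orders in `PSL_3(q)`: elements of the maximal orders (helper12)
-/

set_option autoImplicit false
set_option linter.unusedSectionVars false
open Polynomial

namespace Cfsg.Agent.Lib.H12.Spec

variable {F : Type*} [Field F] [Fintype F]

theorem exists_units_generator : ∃ ζ : Fˣ, orderOf ζ = Fintype.card F - 1 := by
  obtain ⟨ζ, hζ⟩ := IsCyclic.exists_generator (α := Fˣ)
  refine ⟨ζ, ?_⟩
  rw [orderOf_eq_card_of_forall_mem_zpowers hζ, Nat.card_units, Nat.card_eq_fintype_card]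

/-- the split torus: an element of order `q - 1` -/
theorem exists_PSL3_split :
    ∃ x : Matrix.ProjectiveSpecialLinearGroup (Fin 3) F, (Fintype.card F - 1) ∣ orderOf x := by
  obtain ⟨ζ, hζ⟩ := exists_units_generator (F := F)
  have hdet : (Matrix.diagonal ![(ζ : F), ((ζ⁻¹ : Fˣ) : F), 1]).det = 1 := by
    rw [Matrix.det_diagonal, Fin.prod_univ_three]
    simp
  apply exists_PSL3_of_matrix _ hdet
  intro k s hk
  rw [Matrix.diagonal_pow] at hk
  have h2 := congrFun (congrFun hk 2) 2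
  have h0 := congrFun (congrFun hk 0) 0
  simp only [Matrix.diagonal_apply_eq, Pi.pow_apply, Matrix.smul_apply, Matrix.one_apply_eq,
    smul_eq_mul, mul_one] at h2 h0
  simp only [Matrix.cons_val_two, Matrix.tail_cons, Matrix.head_cons, one_pow,
    Matrix.cons_val_zero] at h2 h0
  rw [← h2] at h0
  rw [← hζ]
  apply orderOf_dvd_of_pow_eq_one
  apply Units.ext
  rw [Units.val_pow_eq_pow_val, h0, Units.val_one]

theorem triang_pow (a c : F) (k : ℕ) :
    (!![a, a, 0; 0, a, 0; 0, 0, c] : Matrix (Fin 3) (Fin 3) F) ^ k =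
      !![a ^ k, (k : F) * a ^ k, 0; 0, a ^ k, 0; 0, 0, c ^ k] := by
  induction k with
  | zero =>
    ext i j
    fin_cases i <;> fin_cases j <;> simp
  | succ k ih =>
    rw [pow_succ, ih]
    ext i j
    fin_cases i <;> fin_cases j <;> simp [Matrix.mul_apply, Fin.sum_univ_three, pow_succ] <;> ring

/-- mixed elements: order `p (q-1)/d` -/
theorem exists_PSL3_mixed (p : ℕ) [Fact p.Prime] [CharP F p] :
    ∃ x : Matrix.ProjectiveSpecialLinearGroup (Fin 3) F,
      p * (Fintype.card F - 1) / Nat.gcd 3 (Fintype.card F - 1) ∣ orderOf x := by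
  obtain ⟨ζ, hζ⟩ := exists_units_generator (F := F)
  have hp : p.Prime := Fact.out
  set a : F := (ζ : F) with ha
  set c : F := (((ζ ^ 2)⁻¹ : Fˣ) : F) with hc
  have hac : a * a * c = 1 := by
    rw [ha, hc, ← Units.val_mul, ← Units.val_mul, ← sq, mul_inv_cancel, Units.val_one]
  have hdet : (!![a, a, 0; 0, a, 0; 0, 0, c] : Matrix (Fin 3) (Fin 3) F).det = 1 := by
    rw [Matrix.det_fin_three]
    simp
    exact hac
  apply exists_PSL3_of_matrix _ hdet
  intro k s hk
  rw [triang_pow] at hk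
  have h01 := congrFun (congrFun hk 0) 1
  have h00 := congrFun (congrFun hk 0) 0
  have h22 := congrFun (congrFun hk 2) 2
  simp [Matrix.smul_apply, Matrix.one_apply] at h01 h00 h22
  have ha0 : a ≠ 0 := Units.ne_zero ζ
  -- p ∣ k
  have hpk : p ∣ k := by
    rcases h01 with h | h
    · exact (CharP.cast_eq_zero_iff F p k).mp h
    · exact absurd h.1 ha0
  -- (ζ^3)^k = 1
  have h3 : (ζ ^ 3) ^ k = 1 := by
    apply Units.ext
    rw [Units.val_pow_eq_pow_val, Units.val_pow_eq_pow_val, Units.val_one, ← ha]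
    have h4 : c ^ k * (a * a) ^ k = 1 := by rw [← mul_pow, mul_comm, hac, one_pow]
    rw [h22, ← h00] at h4
    calc (a ^ 3) ^ k = a ^ k * (a * a) ^ k := by ring
      _ = 1 := h4
  have hord : orderOf (ζ ^ 3) = (Fintype.card F - 1) / Nat.gcd 3 (Fintype.card F - 1) := by
    rw [orderOf_pow, hζ, Nat.gcd_comm]
  have hrk : (Fintype.card F - 1) / Nat.gcd 3 (Fintype.card F - 1) ∣ k := by
    rw [← hord]
    exact orderOf_dvd_of_pow_eq_one h3
  rw [Nat.mul_div_assoc p (Nat.gcd_dvd_right 3 (Fintype.card F - 1))]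
  apply Nat.Coprime.mul_dvd_of_dvd_of_dvd _ hpk hrk
  rw [Nat.Prime.coprime_iff_not_dvd hp]
  intro hpr
  have h5 : p ∣ Fintype.card F - 1 :=
    hpr.trans (Nat.div_dvd_of_dvd (Nat.gcd_dvd_right 3 (Fintype.card F - 1)))
  have h6 : p ∣ Fintype.card F := by
    obtain ⟨j, -, hj⟩ := FiniteField.card F p
    rw [hj]
    exact dvd_pow_self p j.ne_zero
  have h7 : 1 ≤ Fintype.card F := Fintype.card_pos
  have h8 : p ∣ 1 := by
    have := (Nat.dvd_sub h6 h5)
    rwa [Nat.sub_sub_self h7] at this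
  exact hp.one_lt.ne' (Nat.dvd_one.mp h8)

/-- the regular unipotent element in characteristic 2 has order 4 -/
theorem exists_PSL3_four [CharP F 2] :
    ∃ x : Matrix.ProjectiveSpecialLinearGroup (Fin 3) F, orderOf x = 4 := by
  have h2 : (2 : F) = 0 := CharTwo.two_eq_zero
  set J : Matrix (Fin 3) (Fin 3) F := !![1, 1, 0; 0, 1, 1; 0, 0, 1] with hJ
  have hdet : J.det = 1 := by
    rw [hJ, Matrix.det_fin_three]
    simp
  have hJ2 : J ^ 2 = !![1, 0, 1; 0, 1, 0; 0, 0, 1] := by
    rw [sq, hJ]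
    ext i j
    fin_cases i <;> fin_cases j <;> simp [Matrix.mul_apply, Fin.sum_univ_three]
    · rw [one_add_one_eq_two, h2]
    · rw [one_add_one_eq_two, h2]
  have hJ4 : J ^ 4 = 1 := by
    have : J ^ 4 = J ^ 2 * J ^ 2 := by rw [← pow_add]
    rw [this, hJ2]
    ext i j
    fin_cases i <;> fin_cases j <;> simp [Matrix.mul_apply, Fin.sum_univ_three]
    rw [one_add_one_eq_two, h2]
  set g : Matrix.SpecialLinearGroup (Fin 3) F := ⟨J, hdet⟩ with hg
  refine ⟨QuotientGroup.mk g, ?_⟩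
  have e4 : (4 : ℕ) = 2 ^ (1 + 1) := by norm_num
  rw [e4]
  apply orderOf_eq_prime_pow
  · rw [pow_one, ← QuotientGroup.mk_pow, QuotientGroup.eq_one_iff]
    intro hcen
    obtain ⟨s, hs⟩ := exists_smul_of_mem_center g 2 hcen
    have h02 := congrFun (congrFun hs 0) 2
    have hgJ : (g : Matrix (Fin 3) (Fin 3) F) = J := rfl
    rw [hgJ, hJ2] at h02
    simp [Matrix.smul_apply] at h02
  · rw [← e4, ← QuotientGroup.mk_pow]
    have : g ^ 4 = 1 := by
      apply Subtype.ext
      rw [Matrix.SpecialLinearGroup.coe_pow]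
      exact hJ4
    rw [this]
    rfl

end Cfsg.Agent.Lib.H12.Spec
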