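import Mathlib
import Cfsg.Agent.Lib.H12.SpecE

/-!
# Element orders in `PSL_3(q)`: the non-split tori and the final statement (helper12)
-/

set_option autoImplicit false
set_option linter.unusedSectionVars false
open Polynomial

namespace Cfsg.Agent.Lib.H12.Spec

variable {F : Type*} [Field F] [Fintype F]

/-- a generator of the multiplicative group of the extension of degree `n` -/
theorem exists_ext_generator (p : ℕ) [Fact p.Prime] [CharP F p] (n : ℕ) [NeZero n] :
    ∃ γ : (FiniteField.Extension F p n)ˣ, orderOf γ = Fintype.card F ^ n - 1 := by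
  obtain ⟨γ, hγ⟩ := IsCyclic.exists_generator (α := (FiniteField.Extension F p n)ˣ)
  refine ⟨γ, ?_⟩
  rw [orderOf_eq_card_of_forall_mem_zpowers hγ, Nat.card_units, FiniteField.natCard_extension,
    Nat.card_eq_fintype_card]

theorem nt_cube_sub_one (Q : ℕ) (hQ : 1 ≤ Q) : Q ^ 3 - 1 = (Q - 1) * (Q ^ 2 + Q + 1) := by
  obtain ⟨t, rfl⟩ : ∃ t, Q = t + 1 := ⟨Q - 1, by omega⟩
  rw [Nat.add_sub_cancel]
  have : (t + 1) ^ 3 = t * ((t + 1) ^ 2 + (t + 1) + 1) + 1 := by ring
  rw [this, Nat.add_sub_cancel]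

/-- the Singer torus: an element of order `(q^2+q+1)/d` -/
theorem exists_PSL3_singer (p : ℕ) [Fact p.Prime] [CharP F p] :
    ∃ x : Matrix.ProjectiveSpecialLinearGroup (Fin 3) F,
      (Fintype.card F ^ 2 + Fintype.card F + 1) / Nat.gcd 3 (Fintype.card F - 1) ∣ orderOf x := by
  set Q := Fintype.card F with hQdef
  have hQ : 2 ≤ Q := Fintype.one_lt_card
  obtain ⟨γ, hγ⟩ := exists_ext_generator (F := F) p 3
  set K := FiniteField.Extension F p 3 with hK
  set t : K := ((γ ^ (Q - 1) : Kˣ) : K) with ht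
  have hrank : Module.finrank F K = 3 := FiniteField.finrank_extension F p 3
  have hsum : ∑ i ∈ Finset.range 3, Q ^ i = Q ^ 2 + Q + 1 := by
    simp [Finset.sum_range_succ]; ring
  have hnorm : Algebra.norm F t = 1 := by
    apply (algebraMap F K).injective
    rw [FiniteField.algebraMap_norm_eq_pow_sum, hrank, Nat.card_eq_fintype_card, ← hQdef, hsum,
      map_one, ht, ← Units.val_pow_eq_pow_val, ← pow_mul, ← nt_cube_sub_one Q (by omega), ← hγ,
      pow_orderOf_eq_one, Units.val_one]
  apply exists_PSL3_of_end hrank (Algebra.lmul F K t) hnorm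
  intro k s hk
  rw [← map_pow] at hk
  have h1 := congrArg (fun f : Module.End F K => f 1) hk
  simp only [Algebra.lmul_algebraMap, LinearMap.smul_apply, Module.End.one_apply] at h1
  have h2 : t ^ k = algebraMap F K s := by
    have : (Algebra.lmul F K (t ^ k)) 1 = t ^ k := by simp
    rw [this] at h1
    rw [h1, Algebra.algebraMap_eq_smul_one]
  have hs0 : s ≠ 0 := by
    rintro rfl
    rw [map_zero, ht, ← Units.val_pow_eq_pow_val] at h2
    exact Units.ne_zero _ h2
  have h3 : (t ^ k) ^ (Q - 1) = 1 := by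
    rw [h2, ← map_pow, hQdef, FiniteField.pow_card_sub_one_eq_one s hs0, map_one]
  have h4 : γ ^ ((Q - 1) * k * (Q - 1)) = 1 := by
    apply Units.ext
    rw [pow_mul, pow_mul, Units.val_pow_eq_pow_val, Units.val_pow_eq_pow_val, ← ht, h3,
      Units.val_one]
  have h5 := orderOf_dvd_of_pow_eq_one h4
  rw [hγ, ← hQdef, nt_cube_sub_one Q (by omega), mul_assoc] at h5
  have h6 : Q ^ 2 + Q + 1 ∣ k * (Q - 1) := Nat.dvd_of_mul_dvd_mul_left (by omega) h5
  rw [mul_comm] at h6
  exact nt_T1 Q k (by omega) h6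

theorem prodMap_pow_apply {V W : Type*} [AddCommGroup V] [Module F V] [AddCommGroup W]
    [Module F W] (f : Module.End F V) (g : Module.End F W) (k : ℕ) (x : V × W) :
    ((f.prodMap g) ^ k) x = ((f ^ k) x.1, (g ^ k) x.2) := by
  induction k generalizing x with
  | zero => simp
  | succ k ih =>
    rw [pow_succ, Module.End.mul_apply, ih, pow_succ, pow_succ, Module.End.mul_apply,
      Module.End.mul_apply]
    rfl

/-- the torus of order `q^2 - 1`: an element of order `(q^2-1)/d` -/
theorem exists_PSL3_quad (p : ℕ) [Fact p.Prime] [CharP F p] :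
    ∃ x : Matrix.ProjectiveSpecialLinearGroup (Fin 3) F,
      (Fintype.card F ^ 2 - 1) / Nat.gcd 3 (Fintype.card F - 1) ∣ orderOf x := by
  set Q := Fintype.card F with hQdef
  have hQ : 2 ≤ Q := Fintype.one_lt_card
  obtain ⟨β, hβ⟩ := exists_ext_generator (F := F) p 2
  set K := FiniteField.Extension F p 2 with hK
  have hrank : Module.finrank F K = 2 := FiniteField.finrank_extension F p 2
  have hsum : ∑ i ∈ Finset.range 2, Q ^ i = Q + 1 := by
    simp [Finset.sum_range_succ]; ring
  set nβ : F := Algebra.norm F (β : K) with hnβ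
  have hnβ' : algebraMap F K nβ = (β : K) ^ (Q + 1) := by
    rw [hnβ, FiniteField.algebraMap_norm_eq_pow_sum, hrank, Nat.card_eq_fintype_card, ← hQdef, hsum]
  have hnβ0 : nβ ≠ 0 := by
    intro h
    rw [h, map_zero] at hnβ'
    exact pow_ne_zero _ (Units.ne_zero β) hnβ'.symm
  set a : F := nβ⁻¹ with ha
  have hV : Module.finrank F (F × K) = 3 := by
    rw [Module.finrank_prod, Module.finrank_self, hrank]
  set g : Module.End F (F × K) :=
    LinearMap.prodMap (a • (LinearMap.id : F →ₗ[F] F)) (Algebra.lmul F K (β : K)) with hg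
  have hdet : LinearMap.det g = 1 := by
    rw [hg, LinearMap.det_prodMap, LinearMap.det_smul, Module.finrank_self, pow_one,
      LinearMap.det_id, mul_one]
    have : LinearMap.det (Algebra.lmul F K (β : K)) = nβ := rfl
    rw [this, ha, inv_mul_cancel₀ hnβ0]
  apply exists_PSL3_of_end hV g hdet
  intro k s hk
  have h1 := congrArg (fun f : Module.End F (F × K) => f (1, 1)) hk
  simp only [hg, prodMap_pow_apply, LinearMap.smul_apply, Module.End.one_apply,
    Prod.smul_mk, ← map_pow] at h1
  have h1a : a ^ k = s := by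
    have := congrArg Prod.fst h1
    simp only at this
    have e : ((a • (LinearMap.id : F →ₗ[F] F)) ^ k) 1 = a ^ k := by
      rw [_root_.smul_pow, ← Module.End.one_eq_id, one_pow, LinearMap.smul_apply,
        Module.End.one_apply, smul_eq_mul, mul_one]
    rw [e] at this
    rw [this, smul_eq_mul, mul_one]
  have h1b : (β : K) ^ k = algebraMap F K s := by
    have := congrArg Prod.snd h1
    simp only [Algebra.lmul_algebraMap] at this
    have e : (Algebra.lmul F K ((β : K) ^ k)) 1 = (β : K) ^ k := by simp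
    rw [e] at this
    rw [this, Algebra.algebraMap_eq_smul_one]
  -- β^((Q+2) k) = 1
  have h2 : (β : K) ^ k * ((β : K) ^ (Q + 1)) ^ k = 1 := by
    rw [h1b, ← hnβ', ← map_pow, ← map_mul, ← h1a, ← mul_pow, ha, inv_mul_cancel₀ hnβ0, one_pow,
      map_one]
  have h3 : β ^ ((Q + 2) * k) = 1 := by
    apply Units.ext
    rw [Units.val_pow_eq_pow_val, Units.val_one, ← h2, ← pow_mul, ← pow_add]
    congr 1
    ring
  have h4 := orderOf_dvd_of_pow_eq_one h3
  rw [hβ, ← hQdef] at h4
  exact nt_T2 Q k (by omega) h4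

/-- the set of element orders of `PSL_3(q)` -/
theorem spectrum_PSL3 (p : ℕ) [Fact p.Prime] [CharP F p] :
    Set.range (orderOf : Matrix.ProjectiveSpecialLinearGroup (Fin 3) F → ℕ) =
      {m : ℕ | m ∣ (Fintype.card F ^ 2 + Fintype.card F + 1) / Nat.gcd 3 (Fintype.card F - 1) ∨
        m ∣ (Fintype.card F ^ 2 - 1) / Nat.gcd 3 (Fintype.card F - 1) ∨ m ∣ Fintype.card F - 1 ∨
        m ∣ p * (Fintype.card F - 1) / Nat.gcd 3 (Fintype.card F - 1) ∨ (p = 2 ∧ m ∣ 4)} := by
  ext m
  rw [Set.mem_range, Set.mem_ofPred_eq]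
  constructor
  · rintro ⟨x, rfl⟩
    exact PSL3_order_dvd p x
  · rintro (h | h | h | h | ⟨hp, h⟩)
    · obtain ⟨x, hx⟩ := exists_PSL3_singer (F := F) p
      exact exists_orderOf_eq_of_dvd_dvd x _ m hx h
    · obtain ⟨x, hx⟩ := exists_PSL3_quad (F := F) p
      exact exists_orderOf_eq_of_dvd_dvd x _ m hx h
    · obtain ⟨x, hx⟩ := exists_PSL3_split (F := F)
      exact exists_orderOf_eq_of_dvd_dvd x _ m hx h
    · obtain ⟨x, hx⟩ := exists_PSL3_mixed (F := F) p
      exact exists_orderOf_eq_of_dvd_dvd x _ m hx h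
    · subst hp
      obtain ⟨x, hx⟩ := exists_PSL3_four (F := F)
      exact exists_orderOf_eq x m (by rw [hx]; exact h)

end Cfsg.Agent.Lib.H12.Spec
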