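import Mathlib
import Cfsg.Agent.Lib.H12.SpecF
import Cfsg.Agent.Lib.H12.UnitM
import Cfsg.Agent.Lib.H2.Unitary6

/-!
# Element orders in `PSU_3(q)`: the characteristic polynomial of a unitary matrix (helper12)
-/

set_option autoImplicit false
set_option linter.unusedSectionVars false
open Polynomial

namespace Cfsg.Agent.Lib.H12.Spec

open Cfsg.Agent.Lib.H12.USemi

universe u
variable {F : Type u} [Field F] [Fintype F]

section glue

theorem orderOf_PSU_dvd {n q : ℕ} (g : ↥(Cfsg.SU n F q)) (N : ℕ) (s : F)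
    (h : ((g : Matrix.SpecialLinearGroup (Fin n) F) : Matrix (Fin n) (Fin n) F) ^ N =
      s • (1 : Matrix (Fin n) (Fin n) F)) :
    orderOf (QuotientGroup.mk g : Cfsg.PSU n F q) ∣ N := by
  apply orderOf_mk_dvd
  rw [Subgroup.mem_center_iff]
  intro k
  apply Subtype.ext
  apply Subtype.ext
  show ((k : Matrix.SpecialLinearGroup (Fin n) F) : Matrix (Fin n) (Fin n) F) *
      (((g ^ N : ↥(Cfsg.SU n F q)) : Matrix.SpecialLinearGroup (Fin n) F) :
        Matrix (Fin n) (Fin n) F) =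
    (((g ^ N : ↥(Cfsg.SU n F q)) : Matrix.SpecialLinearGroup (Fin n) F) :
        Matrix (Fin n) (Fin n) F) *
      ((k : Matrix.SpecialLinearGroup (Fin n) F) : Matrix (Fin n) (Fin n) F)
  rw [SubgroupClass.coe_pow, Matrix.SpecialLinearGroup.coe_pow, h, Matrix.mul_smul,
    Matrix.smul_mul, Matrix.mul_one, Matrix.one_mul]

theorem exists_smul_of_mem_center_SU {n q : ℕ} (hF : Fintype.card F = q ^ 2) (hn : 1 ≤ n)
    (g : ↥(Cfsg.SU n F q)) (k : ℕ) (h : g ^ k ∈ Subgroup.center ↥(Cfsg.SU n F q)) :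
    ∃ s : F, ((g : Matrix.SpecialLinearGroup (Fin n) F) : Matrix (Fin n) (Fin n) F) ^ k =
      s • (1 : Matrix (Fin n) (Fin n) F) := by
  obtain ⟨l, h1, h2, hl⟩ := Cfsg.Agent.Lib.H2.Unitary.center_scalar hF hn (g ^ k) h
  refine ⟨(l : F), ?_⟩
  have h3 := congrArg (fun x : ↥(Cfsg.SU n F q) =>
    ((x : Matrix.SpecialLinearGroup (Fin n) F) : Matrix (Fin n) (Fin n) F)) hl
  simp only [Cfsg.Agent.Lib.H2.Unitary.scSU_val] at h3
  rw [← h3, SubgroupClass.coe_pow, Matrix.SpecialLinearGroup.coe_pow]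

theorem dvd_orderOf_PSU {n q : ℕ} (hF : Fintype.card F = q ^ 2) (hn : 1 ≤ n)
    (g : ↥(Cfsg.SU n F q)) (L : ℕ)
    (h : ∀ (k : ℕ) (s : F),
      ((g : Matrix.SpecialLinearGroup (Fin n) F) : Matrix (Fin n) (Fin n) F) ^ k =
        s • (1 : Matrix (Fin n) (Fin n) F) → L ∣ k) :
    L ∣ orderOf (QuotientGroup.mk g : Cfsg.PSU n F q) := by
  apply dvd_orderOf_mk
  intro k hk
  obtain ⟨s, hs⟩ := exists_smul_of_mem_center_SU hF hn g k hk
  exact h k s hs

end glue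

section nt

theorem nt_U_geom (q : ℕ) (hq : 1 ≤ q) :
    1 + q ^ 2 + q ^ 4 = q * (q ^ 3 + 1) + (q ^ 2 - q + 1) := by
  obtain ⟨t, rfl⟩ : ∃ t, q = t + 1 := ⟨q - 1, by omega⟩
  have : (t + 1) ^ 2 = (t ^ 2 + t) + (t + 1) := by ring
  rw [this, Nat.add_sub_cancel]
  ring

/-- `q^2 - q + 1 = 3 + (q - 2)(q + 1)` -/
theorem nt_U_M (q : ℕ) (hq : 2 ≤ q) : q ^ 2 - q + 1 = 3 + (q - 2) * (q + 1) := by
  obtain ⟨t, rfl⟩ : ∃ t, q = t + 2 := ⟨q - 2, by omega⟩
  have : (t + 2) ^ 2 = (t ^ 2 + 3 * t + 2) + (t + 2) := by ring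
  rw [this, Nat.add_sub_cancel, Nat.add_sub_cancel]
  ring

theorem nt_U_dvd_M {q d : ℕ} (hq : 2 ≤ q) (hd3 : d ∣ 3) (hd : d ∣ q + 1) : d ∣ q ^ 2 - q + 1 := by
  rw [nt_U_M q hq]
  exact dvd_add hd3 (dvd_mul_of_dvd_right hd _)

theorem nt_sq_sub_one' (q : ℕ) (hq : 1 ≤ q) : q ^ 2 - 1 = (q + 1) * (q - 1) := nt_sq_sub_one hq

end nt

section selfdual

variable {σ : F →+* F}

/-- irreducible self-dual cubic with constant term `-1` -/
theorem irr_cubic_dvd_U {q : ℕ} (hF : Fintype.card F = q ^ 2) (hσ2 : ∀ a, σ (σ a) = a)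
    (hne : ∃ a, σ a ≠ a) {d : ℕ} (hd3 : d ∣ 3) (hd : d ∣ q + 1) (χ : F[X]) (hm : χ.Monic)
    (hirr : Irreducible χ) (hdeg : χ.natDegree = 3) (h0 : χ.coeff 0 = -1) (e : F) (he : e ≠ 0)
    (hdual : dualP σ χ = C e * χ) :
    ∃ s : F, χ ∣ X ^ ((q ^ 2 - q + 1) / d) - C s := by
  have : Fact (Irreducible χ) := ⟨hirr⟩
  have hq2 : 2 ≤ q := by
    have h1 : 1 < Fintype.card F := Fintype.one_lt_card
    rw [hF] at h1
    by_contra hcon
    push Not at hcon
    interval_cases q <;> simp at h1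
  have hsd : SelfDual σ χ e := ⟨hσ2, hne, hm, he, hdual⟩
  have hfinK : Finite (AdjoinRoot χ) := hsd.finite
  have hfin : Module.Finite F (AdjoinRoot χ) := hm.finite_adjoinRoot
  obtain ⟨Q', hQ'2, hfrob, hcard⟩ :=
    exists_frob_of_involution hsd.sigma hsd.sigma_sigma hsd.sigma_ne_id
  have hrank : Module.finrank F (AdjoinRoot χ) = 3 := by
    rw [(AdjoinRoot.powerBasis' hm).finrank, AdjoinRoot.powerBasis'_dim, hdeg]
  have hcardK : Nat.card (AdjoinRoot χ) = (q ^ 3) ^ 2 := by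
    rw [Module.natCard_eq_pow_finrank (K := F), hrank, Nat.card_eq_fintype_card, hF]
    ring
  have hQ' : Q' = q ^ 3 := by
    rw [hcard] at hcardK
    exact Nat.pow_left_injective (by norm_num : 2 ≠ 0) hcardK
  set t := AdjoinRoot.root χ with ht
  have ht0 : t ≠ 0 := hsd.root_ne_zero
  have h1 : t ^ (q ^ 3 + 1) = 1 := by
    have h2 := hfrob t
    rw [hsd.sigma_root, hQ'] at h2
    rw [pow_succ, ← h2, inv_mul_cancel₀ ht0]
  have h3 := root_pow_geom χ hm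
  rw [hdeg, h0, hF] at h3
  have e1 : ∑ i ∈ Finset.range 3, (q ^ 2) ^ i = 1 + q ^ 2 + q ^ 4 := by
    simp [Finset.sum_range_succ]; ring
  have e2 : ((-1 : F) ^ 3 * -1) = 1 := by norm_num
  rw [e1, e2, map_one, nt_U_geom q (by omega), pow_add, pow_mul', h1, one_pow, one_mul] at h3
  -- t ^ (q^2 - q + 1) = 1
  obtain ⟨N, hN⟩ := nt_U_dvd_M hq2 hd3 hd
  have hd0 : 0 < d := Nat.pos_of_dvd_of_pos hd3 (by norm_num)
  have hdiv : (q ^ 2 - q + 1) / d = N := by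
    rw [hN]; exact Nat.mul_div_cancel_left _ hd0
  rw [hdiv]
  obtain ⟨w, hw⟩ := hd
  have h4 : (t ^ N) ^ (Fintype.card F - 1) = 1 := by
    rw [hF, nt_sq_sub_one (by omega : 1 ≤ q), hw, ← pow_mul]
    have : N * (d * w * (q - 1)) = (q ^ 2 - q + 1) * (w * (q - 1)) := by rw [hN]; ring
    rw [this, pow_mul, h3, one_pow]
  obtain ⟨s, hs⟩ := mem_range_of_pow_card_sub_one_eq (F := F) _ h4
  exact ⟨s, dvd_of_root_pow χ N s hs.symm⟩

/-- a self-dual cubic cannot be linear times irreducible quadratic -/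
theorem no_lin_quad_U {q : ℕ} (hF : Fintype.card F = q ^ 2) (hσ2 : ∀ a, σ (σ a) = a)
    (hne : ∃ a, σ a ≠ a) (a : F) (ρ : F[X]) (hρm : ρ.Monic) (hρirr : Irreducible ρ)
    (hρdeg : ρ.natDegree = 2) (e : F)
    (hdual : dualP σ ((X - C a) * ρ) = C e * ((X - C a) * ρ)) : False := by
  rw [dualP_mul] at hdual
  rcases dual_dichotomy (σ := σ) hρirr hρm with hco | ⟨c, hc, hρd⟩
  · have h1 : ρ ∣ dualP σ (X - C a) * dualP σ ρ := by
      rw [hdual]
      exact ⟨C e * (X - C a), by ring⟩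
    have h2 : ρ ∣ dualP σ (X - C a) := hco.dvd_of_dvd_mul_right h1
    have h3 : dualP σ (X - C a) ≠ 0 := dualP_ne_zero (X_sub_C_ne_zero a)
    have h4 := natDegree_le_of_dvd h2 h3
    have h5 := dualP_natDegree_le (σ := σ) (X - C a)
    rw [natDegree_X_sub_C] at h5
    omega
  · have : Fact (Irreducible ρ) := ⟨hρirr⟩
    have hsd : SelfDual σ ρ c := ⟨hσ2, hne, hρm, hc, hρd⟩
    have hfinK : Finite (AdjoinRoot ρ) := hsd.finite
    have hfin : Module.Finite F (AdjoinRoot ρ) := hρm.finite_adjoinRoot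
    obtain ⟨Q', hQ'2, hfrob, hcard⟩ :=
      exists_frob_of_involution hsd.sigma hsd.sigma_sigma hsd.sigma_ne_id
    have hrank : Module.finrank F (AdjoinRoot ρ) = 2 := by
      rw [(AdjoinRoot.powerBasis' hρm).finrank, AdjoinRoot.powerBasis'_dim, hρdeg]
    have hcardK : Nat.card (AdjoinRoot ρ) = (q ^ 2) ^ 2 := by
      rw [Module.natCard_eq_pow_finrank (K := F), hrank, Nat.card_eq_fintype_card, hF]
    have hQ' : Q' = q ^ 2 := by
      rw [hcard] at hcardK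
      exact Nat.pow_left_injective (by norm_num : 2 ≠ 0) hcardK
    obtain ⟨y, hy⟩ := hne
    apply hy
    apply (algebraMap F (AdjoinRoot ρ)).injective
    rw [← hsd.sigma_of, hfrob, hQ', ← map_pow, ← hF, FiniteField.pow_card]

end selfdual

end Cfsg.Agent.Lib.H12.Spec
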