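import Mathlib
import Cfsg.Agent.Lib.H12.SpecG

/-!
# Element orders in `PSU_3(q)`: split characteristic polynomials; every order divides one of the
listed numbers (helper12)
-/

set_option autoImplicit false
set_option linter.unusedSectionVars false
open Polynomial

namespace Cfsg.Agent.Lib.H12.Spec

open Cfsg.Agent.Lib.H12.USemi

universe u
variable {F : Type u} [Field F] {σ : F →+* F}

theorem dualP_X_sub_C (a : F) : dualP σ (X - C a) = C (-σ a) * X + 1 := by
  ext j
  have hdeg : (X - C a : F[X]).natDegree = 1 := natDegree_X_sub_C a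
  rcases Nat.lt_or_ge j 2 with hj | hj
  · have hj1 : j ≤ (X - C a : F[X]).natDegree := by rw [hdeg]; omega
    rw [dualP_coeff _ j hj1, hdeg]
    interval_cases j
    · simp [coeff_X, coeff_C]
    · simp [coeff_X, coeff_C, coeff_one]
  · have h1 : (dualP σ (X - C a)).coeff j = 0 := by
      apply coeff_eq_zero_of_natDegree_lt
      have := dualP_natDegree_le (σ := σ) (X - C a)
      rw [hdeg] at this
      omega
    rw [h1]
    have hj0 : j ≠ 0 := by omega
    have hj1 : j ≠ 1 := by omega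
    simp [coeff_X, coeff_C, coeff_one, hj0, hj1, Ne.symm hj1]

theorem dualP_X_sub_C' (a : F) (ha : a ≠ 0) :
    dualP σ (X - C a) = C (-σ a) * (X - C (σ a)⁻¹) := by
  have hσa : σ a ≠ 0 := fun h => ha ((map_eq_zero σ).mp h)
  have h1 : -σ a * (σ a)⁻¹ = -1 := by rw [neg_mul, mul_inv_cancel₀ hσa]
  have h2 : (C (-1 : F) : F[X]) = -1 := by rw [C_neg, C_1]
  rw [dualP_X_sub_C, mul_sub, ← C_mul, h1, h2, sub_neg_eq_add]

/-- the roots of a split self-dual cubic are permuted by `x ↦ (σ x)⁻¹` -/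
theorem split_self_dual (a b c : F) (ha : a ≠ 0) (hb : b ≠ 0) (hc : c ≠ 0) (e : F)
    (hdual : dualP σ ((X - C a) * (X - C b) * (X - C c)) =
      C e * ((X - C a) * (X - C b) * (X - C c))) :
    (X - C (σ a)⁻¹) * (X - C (σ b)⁻¹) * (X - C (σ c)⁻¹) =
      (X - C a) * (X - C b) * (X - C c) := by
  have hσa : σ a ≠ 0 := fun h => ha ((map_eq_zero σ).mp h)
  have hσb : σ b ≠ 0 := fun h => hb ((map_eq_zero σ).mp h)
  have hσc : σ c ≠ 0 := fun h => hc ((map_eq_zero σ).mp h)
  rw [dualP_mul, dualP_mul, dualP_X_sub_C' a ha, dualP_X_sub_C' b hb, dualP_X_sub_C' c hc] at hdual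
  set k : F := -σ a * -σ b * -σ c with hk
  have hk0 : k ≠ 0 := mul_ne_zero (mul_ne_zero (neg_ne_zero.mpr hσa) (neg_ne_zero.mpr hσb))
    (neg_ne_zero.mpr hσc)
  have h1 : C k * ((X - C (σ a)⁻¹) * (X - C (σ b)⁻¹) * (X - C (σ c)⁻¹)) =
      C e * ((X - C a) * (X - C b) * (X - C c)) := by
    rw [← hdual, hk, C_mul, C_mul]
    ring
  have hm1 : ((X - C (σ a)⁻¹) * (X - C (σ b)⁻¹) * (X - C (σ c)⁻¹)).Monic :=
    ((monic_X_sub_C _).mul (monic_X_sub_C _)).mul (monic_X_sub_C _)
  have hm2 : ((X - C a) * (X - C b) * (X - C c)).Monic :=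
    ((monic_X_sub_C _).mul (monic_X_sub_C _)).mul (monic_X_sub_C _)
  have h2 := congrArg leadingCoeff h1
  rw [leadingCoeff_mul_monic hm1, leadingCoeff_mul_monic hm2, leadingCoeff_C, leadingCoeff_C] at h2
  rw [← h2] at h1
  exact mul_left_cancel₀ (C_ne_zero.mpr hk0) h1

/-- if `a` is not fixed, it is swapped with `b` or `c` and the third root is fixed -/
theorem swap_of_not_fixed (ι : F → F) (hι : ∀ x, ι (ι x) = x) (a b c : F)
    (h : (X - C (ι a)) * (X - C (ι b)) * (X - C (ι c)) = (X - C a) * (X - C b) * (X - C c))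
    (ha : ι a ≠ a) :
    (ι a = b ∧ ι b = a ∧ ι c = c ∧ a ≠ b ∧ a ≠ c ∧ b ≠ c) ∨
      (ι a = c ∧ ι c = a ∧ ι b = b ∧ a ≠ b ∧ a ≠ c ∧ b ≠ c) := by
  have h1 := congrArg (eval (ι a)) h
  simp only [eval_mul, eval_sub, eval_X, eval_C, sub_self, zero_mul] at h1
  have h2 : ι a = b ∨ ι a = c := by
    rcases mul_eq_zero.mp h1.symm with h3 | h3
    · rcases mul_eq_zero.mp h3 with h4 | h4
      · exact absurd (sub_eq_zero.mp h4) ha
      · exact Or.inl (sub_eq_zero.mp h4)
    · exact Or.inr (sub_eq_zero.mp h3)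
  rcases h2 with h2 | h2
  · left
    have hb : ι b = a := by rw [← h2, hι]
    have hab : a ≠ b := by
      intro h3
      apply ha
      rw [h2, ← h3]
    have hc : ι c = c := by
      rw [h2, hb] at h
      have h3 : (X - C a) * (X - C b) * (X - C (ι c)) = (X - C a) * (X - C b) * (X - C c) := by
        rw [← h]; ring
      have h4 := mul_left_cancel₀ (mul_ne_zero (X_sub_C_ne_zero a) (X_sub_C_ne_zero b)) h3
      have h5 := congrArg (fun P : F[X] => P.coeff 0) h4
      simp only [coeff_sub, coeff_X_zero, coeff_C_zero, zero_sub, neg_inj] at h5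
      exact h5
    refine ⟨h2, hb, hc, hab, ?_, ?_⟩
    · intro h3
      apply ha
      rw [h3, hc]
    · intro h3
      apply hab
      rw [← hb, h3, hc]
  · right
    have hc : ι c = a := by rw [← h2, hι]
    have hac : a ≠ c := by
      intro h3
      apply ha
      rw [h2, ← h3]
    have hb : ι b = b := by
      rw [h2, hc] at h
      have h3 : (X - C a) * (X - C c) * (X - C (ι b)) = (X - C a) * (X - C c) * (X - C b) := by
        rw [show (X - C a) * (X - C c) * (X - C (ι b)) =
          (X - C c) * (X - C (ι b)) * (X - C a) by ring, h]; ring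
      have h4 := mul_left_cancel₀ (mul_ne_zero (X_sub_C_ne_zero a) (X_sub_C_ne_zero c)) h3
      have h5 := congrArg (fun P : F[X] => P.coeff 0) h4
      simp only [coeff_sub, coeff_X_zero, coeff_C_zero, zero_sub, neg_inj] at h5
      exact h5
    refine ⟨h2, hc, hb, ?_, hac, ?_⟩
    · intro h3
      apply ha
      rw [h3, hb]
    · intro h3
      apply hac
      rw [← hc, ← h3, hb]

end Cfsg.Agent.Lib.H12.Spec
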