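import Mathlib
import Cfsg.Agent.Lib.H12.SpecH

/-!
# Element orders in `PSU_3(q)`, `q` odd: every order divides one of the listed numbers (helper12)
-/

set_option autoImplicit false
set_option linter.unusedSectionVars false
open Polynomial

namespace Cfsg.Agent.Lib.H12.Spec

open Cfsg.Agent.Lib.H12.USemi

universe u
variable {F : Type u} [Field F] [Fintype F] {σ : F →+* F}

/-- a double root: `x x y = 1`, `x ^ M = 1` -/
theorem double_case' (p : ℕ) [Fact p.Prime] [CharP F p] {M d : ℕ} (hd3 : d ∣ 3) (hdM : d ∣ M)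
    (x y : F) (hxy : x ≠ y) (hprod : x * x * y = 1) (hxM : x ^ M = 1) :
    ∃ s : F, (X - C x) ^ 2 * (X - C y) ∣ X ^ (p * (M / d)) - C s := by
  have hx0 : x ≠ 0 := by
    rintro rfl
    rw [zero_mul, zero_mul] at hprod
    exact zero_ne_one hprod
  obtain ⟨r, hr⟩ := hdM
  obtain ⟨e, he⟩ := hd3
  have hd0 : 0 < d := Nat.pos_of_ne_zero (by rintro rfl; omega)
  have hdiv : M / d = r := by
    rw [hr]; exact Nat.mul_div_cancel_left _ hd0
  rw [hdiv]
  have h1 : x ^ r * x ^ (2 * r) = 1 := by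
    rw [← pow_add]
    have : r + 2 * r = e * M := by
      rw [hr]
      have : r + 2 * r = 3 * r := by ring
      rw [this, he]; ring
    rw [this, pow_mul, pow_right_comm, hxM, one_pow]
  have h2 : y ^ r * x ^ (2 * r) = 1 := by
    rw [pow_mul, ← mul_pow, sq, mul_comm, hprod, one_pow]
  have h3 : y ^ r = x ^ r :=
    mul_right_cancel₀ (pow_ne_zero _ hx0) (h2.trans h1.symm)
  exact ⟨(x ^ r) ^ p, dvd_of_double p x y (x ^ r) r hxy rfl h3⟩

/-- all roots satisfy `x ^ M = 1`, odd characteristic -/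
theorem fixed_case (p : ℕ) [Fact p.Prime] [CharP F p] (hp3 : 3 ≤ p) {M d : ℕ} (hd3 : d ∣ 3)
    (hdM : d ∣ M) (a b c : F) (haM : a ^ M = 1) (hbM : b ^ M = 1) (hcM : c ^ M = 1)
    (habc : a * b * c = 1) :
    ∃ (N : ℕ) (s : F), (N ∣ M ∨ N ∣ p * (M / d)) ∧
      (X - C a) * (X - C b) * (X - C c) ∣ X ^ N - C s := by
  by_cases hab : a = b
  · by_cases hac : a = c
    · subst hab
      subst hac
      refine ⟨p, a ^ p, Or.inr (dvd_mul_right _ _), ?_⟩
      have h1 := dvd_of_triple p hp3 a
      have e1 : (X - C a) * (X - C a) * (X - C a) = (X - C a) ^ 3 := by ring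
      rw [e1]
      exact h1
    · subst hab
      obtain ⟨s, hs⟩ := double_case' p hd3 hdM a c hac habc haM
      refine ⟨p * (M / d), s, Or.inr dvd_rfl, ?_⟩
      have e1 : (X - C a) * (X - C a) * (X - C c) = (X - C a) ^ 2 * (X - C c) := by ring
      rw [e1]
      exact hs
  · by_cases hac : a = c
    · subst hac
      have hprod : a * a * b = 1 := by rw [← habc]; ring
      obtain ⟨s, hs⟩ := double_case' p hd3 hdM a b hab hprod haM
      refine ⟨p * (M / d), s, Or.inr dvd_rfl, ?_⟩
      have e1 : (X - C a) * (X - C b) * (X - C a) = (X - C a) ^ 2 * (X - C b) := by ring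
      rw [e1]
      exact hs
    · by_cases hbc : b = c
      · subst hbc
        have hprod : b * b * a = 1 := by rw [← habc]; ring
        obtain ⟨s, hs⟩ := double_case' p hd3 hdM b a (Ne.symm hab) hprod hbM
        refine ⟨p * (M / d), s, Or.inr dvd_rfl, ?_⟩
        have e1 : (X - C a) * (X - C b) * (X - C b) = (X - C b) ^ 2 * (X - C a) := by ring
        rw [e1]
        exact hs
      · exact ⟨M, 1, Or.inl dvd_rfl, dvd_of_distinct a b c 1 M hab hac hbc haM hbM hcM⟩

/-- one fixed root and a swapped pair -/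
theorem swap_case {q : ℕ} (hF : Fintype.card F = q ^ 2) (hσ : ∀ x, σ x = x ^ q) {d : ℕ}
    (hd3 : d ∣ 3) (hd : d ∣ q + 1) (x y z : F) (hxy : x ≠ y) (hxz : x ≠ z) (hyz : y ≠ z)
    (hprod : x * y * z = 1) (hz : (σ y)⁻¹ = z) :
    ∃ s : F, (X - C x) * (X - C y) * (X - C z) ∣ X ^ ((q ^ 2 - 1) / d) - C s := by
  have hq1 : 1 ≤ q := by
    have h1 : 1 < Fintype.card F := Fintype.one_lt_card
    rw [hF] at h1
    by_contra hcon
    push Not at hcon
    interval_cases q
    simp at h1
  have hy0 : y ≠ 0 := by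
    rintro rfl
    simp at hprod
  obtain ⟨r, hr⟩ := hd
  obtain ⟨e, he⟩ := hd3
  have hd0 : 0 < d := Nat.pos_of_ne_zero (by rintro rfl; omega)
  have hN : q ^ 2 - 1 = d * (r * (q - 1)) := by
    rw [nt_sq_sub_one hq1, hr]; ring
  have hdiv : (q ^ 2 - 1) / d = r * (q - 1) := by
    rw [hN]; exact Nat.mul_div_cancel_left _ hd0
  rw [hdiv]
  set N := r * (q - 1) with hNdef
  set t := y ^ N with ht
  have htd : t ^ d = 1 := by
    rw [ht, ← pow_mul, mul_comm, ← hN, ← hF]
    exact FiniteField.pow_card_sub_one_eq_one y hy0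
  have htq : t ^ (q + 1) = 1 := by rw [hr, pow_mul, htd, one_pow]
  have ht3 : t ^ 3 = 1 := by rw [he, pow_mul, htd, one_pow]
  have ht0 : t ≠ 0 := pow_ne_zero _ hy0
  have hzN : z ^ N = t := by
    rw [← hz, hσ, inv_pow, ← pow_mul, mul_comm, pow_mul, ← ht]
    have : t ^ q * t = 1 := by rw [← pow_succ]; exact htq
    exact inv_eq_of_mul_eq_one_right this
  have hxN : x ^ N = t := by
    have h1 : x ^ N * (t * t) = 1 := by
      have h3 : x ^ N * (y ^ N * z ^ N) = 1 := by
        rw [← mul_pow, ← mul_pow, ← mul_assoc, hprod, one_pow]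
      rw [hzN] at h3
      exact h3
    have h2 : t * (t * t) = 1 := by rw [← ht3]; ring
    exact mul_right_cancel₀ (mul_ne_zero ht0 ht0) (h1.trans h2.symm)
  exact ⟨t, dvd_of_distinct x y z t N hxy hxz hyz hxN rfl hzN⟩

theorem PSU3_order_dvd {q : ℕ} (hF : Fintype.card F = q ^ 2) (p : ℕ) [Fact p.Prime] [CharP F p]
    (hp : p ≠ 2) (x : Cfsg.PSU 3 F q) :
    orderOf x ∣ q + 1 ∨ orderOf x ∣ p * (q + 1) / Nat.gcd 3 (q + 1) ∨
      orderOf x ∣ (q ^ 2 - 1) / Nat.gcd 3 (q + 1) ∨
      orderOf x ∣ (q ^ 2 - q + 1) / Nat.gcd 3 (q + 1) := by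
  classical
  obtain ⟨g, rfl⟩ := QuotientGroup.mk_surjective x
  obtain ⟨σ, hσ, hσ2⟩ := Cfsg.Agent.Lib.H4.exists_frob hF
  have hne : ∃ a, σ a ≠ a := by
    obtain ⟨a, ha⟩ := frob_ne_id hF
    exact ⟨a, by rw [hσ]; exact ha⟩
  have hp3 : 3 ≤ p := by
    have := (Fact.out : p.Prime).two_le
    omega
  set A : Matrix (Fin 3) (Fin 3) F :=
    ((g : Matrix.SpecialLinearGroup (Fin 3) F) : Matrix (Fin 3) (Fin 3) F) with hA
  set d := Nat.gcd 3 (q + 1) with hd
  have hd3 : d ∣ 3 := Nat.gcd_dvd_left _ _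
  have hdq : d ∣ q + 1 := Nat.gcd_dvd_right _ _
  have hpres : ∀ u v : Fin 3 → F, stdHerm 3 σ (A.mulVec u) (A.mulVec v) = stdHerm 3 σ u v := by
    intro u v
    rw [stdHerm_eq_hermForm 3 σ q hσ, stdHerm_eq_hermForm 3 σ q hσ]
    exact g.2 v u
  have hdet : A.det = 1 := (g : Matrix.SpecialLinearGroup (Fin 3) F).2
  have hdual := dualP_charpoly_of_preserve (σ := σ) 3 A hpres
  rw [hdet, map_one, one_mul] at hdual
  have hm : A.charpoly.Monic := Matrix.charpoly_monic A
  have hdeg : A.charpoly.natDegree = 3 := by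
    rw [Matrix.charpoly_natDegree_eq_dim, Fintype.card_fin]
  have h0 : A.charpoly.coeff 0 = -1 := by
    have h1 := Matrix.det_eq_sign_charpoly_coeff A
    rw [hdet, Fintype.card_fin] at h1
    have : ((-1 : F) ^ 3) = -1 := by norm_num
    rw [this, neg_one_mul] at h1
    rw [h1, neg_neg]
  have he0 : ((-1 : F) ^ 3) ≠ 0 := pow_ne_zero _ (by norm_num)
  have hpmul : p * (q + 1) / d = p * ((q + 1) / d) := Nat.mul_div_assoc p hdq
  rcases cubic_cases A.charpoly hm hdeg with hirr | ⟨a, ρ, hρm, hρirr, hρdeg, hχ⟩ | ⟨a, b, c, hχ⟩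
  · right; right; right
    obtain ⟨s, hs⟩ := irr_cubic_dvd_U hF hσ2 hne hd3 hdq A.charpoly hm hirr hdeg h0 _ he0 hdual
    exact orderOf_PSU_dvd g _ s (pow_eq_smul_of_charpoly_dvd A _ s hs)
  · exfalso
    rw [hχ] at hdual
    exact no_lin_quad_U hF hσ2 hne a ρ hρm hρirr hρdeg _ hdual
  · have habc : a * b * c = 1 := by
      rw [hχ] at h0
      simp only [mul_coeff_zero, coeff_sub, coeff_X_zero, coeff_C_zero, zero_sub] at h0
      have : -a * -b * -c = -(a * b * c) := by ring
      rw [this, neg_inj] at h0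
      exact h0
    have ha0 : a ≠ 0 := by
      rintro rfl
      simp at habc
    have hb0 : b ≠ 0 := by
      rintro rfl
      simp at habc
    have hc0 : c ≠ 0 := by
      rintro rfl
      simp at habc
    rw [hχ] at hdual
    have hid := split_self_dual a b c ha0 hb0 hc0 _ hdual
    set ι : F → F := fun x => (σ x)⁻¹ with hι
    have hιι : ∀ x, ι (ι x) = x := by
      intro x
      simp only [hι, map_inv₀, hσ2, inv_inv]
    have hfix : ∀ x : F, x ≠ 0 → ι x = x → x ^ (q + 1) = 1 := by
      intro x hx0 hx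
      have hσx : σ x ≠ 0 := fun h => hx0 ((map_eq_zero σ).mp h)
      have h1 : x * σ x = 1 := by
        have h2 : (σ x)⁻¹ * σ x = 1 := inv_mul_cancel₀ hσx
        rwa [show (σ x)⁻¹ = x from hx] at h2
      rw [pow_succ, ← hσ, mul_comm]
      exact h1
    -- the swapped case
    have hswap : ∀ x y z : F, x ≠ y → x ≠ z → y ≠ z → x * y * z = 1 → ι y = z →
        A.charpoly = (X - C x) * (X - C y) * (X - C z) →
        orderOf (QuotientGroup.mk g : Cfsg.PSU 3 F q) ∣ (q ^ 2 - 1) / d := by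
      intro x y z hxy hxz hyz hprod hyz' hχ'
      obtain ⟨s, hs⟩ := swap_case hF hσ hd3 hdq x y z hxy hxz hyz hprod hyz'
      rw [← hχ'] at hs
      exact orderOf_PSU_dvd g _ s (pow_eq_smul_of_charpoly_dvd A _ s hs)
    by_cases hfa : ι a = a
    · by_cases hfb : ι b = b
      · by_cases hfc : ι c = c
        · -- all fixed
          obtain ⟨N, s, hN, hs⟩ := fixed_case p hp3 hd3 hdq a b c (hfix a ha0 hfa) (hfix b hb0 hfb)
            (hfix c hc0 hfc) habc
          rw [← hχ] at hs
          have h1 := orderOf_PSU_dvd g _ s (pow_eq_smul_of_charpoly_dvd A _ s hs)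
          rcases hN with hN | hN
          · left; exact h1.trans hN
          · right; left; rw [hpmul]; exact h1.trans hN
        · exfalso
          have hid' : (X - C (ι c)) * (X - C (ι a)) * (X - C (ι b)) =
              (X - C c) * (X - C a) * (X - C b) := by
            have : (X - C (ι c)) * (X - C (ι a)) * (X - C (ι b)) =
                (X - C (ι a)) * (X - C (ι b)) * (X - C (ι c)) := by ring
            rw [this, hid]; ring
          rcases swap_of_not_fixed ι hιι c a b hid' hfc with ⟨h1, h2, -, h3, -, -⟩ |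
            ⟨h1, h2, -, -, h3, -⟩
          · apply h3
            rw [← h2, hfa]
          · apply h3
            rw [← h2, hfb]
      · have hid' : (X - C (ι b)) * (X - C (ι a)) * (X - C (ι c)) =
            (X - C b) * (X - C a) * (X - C c) := by
          have : (X - C (ι b)) * (X - C (ι a)) * (X - C (ι c)) =
              (X - C (ι a)) * (X - C (ι b)) * (X - C (ι c)) := by ring
          rw [this, hid]; ring
        rcases swap_of_not_fixed ι hιι b a c hid' hfb with ⟨h1, h2, -, h3, -, -⟩ |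
          ⟨h1, h2, h3, h4, h5, h6⟩
        · exfalso
          apply h3
          rw [← h2, hfa]
        · right; right; left
          exact hswap a b c h4.symm h6 h5 habc h1 hχ
    · rcases swap_of_not_fixed ι hιι a b c hid hfa with ⟨h1, h2, h3, h4, h5, h6⟩ |
        ⟨h1, h2, h3, h4, h5, h6⟩
      · right; right; left
        apply hswap c a b h5.symm h6.symm h4 (by rw [← habc]; ring) h1
        rw [hχ]; ring
      · right; right; left
        apply hswap b a c h4.symm h6 h5 (by rw [← habc]; ring) h1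
        rw [hχ]; ring

end Cfsg.Agent.Lib.H12.Spec
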