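import Mathlib
import Cfsg.Agent.Lib.H12.SpecI

/-!
# Element orders in `PSU_3(q)`: bridges to `PSU_3`, the diagonal torus and the mixed elements
(helper12)
-/

set_option autoImplicit false
set_option linter.unusedSectionVars false
open Polynomial

namespace Cfsg.Agent.Lib.H12.Spec

open Cfsg.Agent.Lib.H12.USemi

universe u v
variable {F : Type u} [Field F] [Fintype F] {σ : F →+* F}

section bridge

theorem exists_PSU3_of_matrix {q : ℕ} (hF : Fintype.card F = q ^ 2) (hσ : ∀ x, σ x = x ^ q)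
    (M : Matrix (Fin 3) (Fin 3) F) (hdet : M.det = 1)
    (hpres : ∀ u v : Fin 3 → F, stdHerm 3 σ (M.mulVec u) (M.mulVec v) = stdHerm 3 σ u v) (L : ℕ)
    (hL : ∀ (k : ℕ) (s : F), M ^ k = s • (1 : Matrix (Fin 3) (Fin 3) F) → L ∣ k) :
    ∃ x : Cfsg.PSU 3 F q, L ∣ orderOf x := by
  have hpres' : ∀ u v : Fin 3 → F,
      Cfsg.hermForm 3 F q (M.mulVec u) (M.mulVec v) = Cfsg.hermForm 3 F q u v := by
    intro u v
    rw [← stdHerm_eq_hermForm 3 σ q hσ, ← stdHerm_eq_hermForm 3 σ q hσ]
    exact hpres v u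
  exact ⟨QuotientGroup.mk ⟨⟨M, hdet⟩, hpres'⟩, dvd_orderOf_PSU hF (by norm_num) _ L hL⟩

/-- an orthonormal basis turns an isometry into a unitary matrix -/
theorem udata_exists_onb {V : Type v} [AddCommGroup V] [Module F V] [FiniteDimensional F V]
    {B : V →ₛₗ[σ] V →ₗ[F] F} {g : Module.End F V} (hU : UData σ B g) {n : ℕ}
    (hV : Module.finrank F V = n) :
    ∃ b : Module.Basis (Fin n) F V, ∀ u v : Fin n → F,
      stdHerm n σ ((LinearMap.toMatrix b b g).mulVec u) ((LinearMap.toMatrix b b g).mulVec v) =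
        stdHerm n σ u v := by
  classical
  have hσne : σ ≠ RingHom.id F := by
    obtain ⟨a, ha⟩ := hU.ne
    intro h
    apply ha
    rw [h, RingHom.id_apply]
  have hS : B.IsSymm := ⟨fun x y => hU.symm x y⟩
  have hN : B.Nondegenerate := ⟨fun x hx => hU.nd_left x hx, fun y hy => hU.nd y hy⟩
  obtain ⟨b, hb⟩ := Cfsg.Agent.Lib.H12.UOnb.herm_onb σ hσne hU.inv n B hS hN hV
  refine ⟨b, ?_⟩
  have h1 : ∀ (c : Fin n → F) (w : V), B (∑ i, c i • b i) w = ∑ i, σ (c i) * B (b i) w := by
    intro c w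
    rw [map_sum, LinearMap.sum_apply]
    apply Finset.sum_congr rfl
    intro i _
    rw [map_smulₛₗ, LinearMap.smul_apply, smul_eq_mul]
  have h2 : ∀ (i : Fin n) (c : Fin n → F), B (b i) (∑ j, c j • b j) = c i := by
    intro i c
    rw [map_sum, Finset.sum_eq_single i]
    · rw [map_smul, hb, if_pos rfl, smul_eq_mul, mul_one]
    · intro j _ hj
      rw [map_smul, hb, if_neg (Ne.symm hj), smul_zero]
    · intro hi
      exact absurd (Finset.mem_univ i) hi
  have hB : ∀ x y : V, B x y = stdHerm n σ (b.equivFun x) (b.equivFun y) := by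
    intro x y
    conv_lhs => rw [← b.sum_equivFun x, ← b.sum_equivFun y]
    rw [h1, stdHerm_apply]
    apply Finset.sum_congr rfl
    intro i _
    rw [h2]
  intro u v
  have hu : ∃ x : V, b.equivFun x = u := ⟨b.equivFun.symm u, LinearEquiv.apply_symm_apply _ _⟩
  have hv : ∃ y : V, b.equivFun y = v := ⟨b.equivFun.symm v, LinearEquiv.apply_symm_apply _ _⟩
  obtain ⟨x, rfl⟩ := hu
  obtain ⟨y, rfl⟩ := hv
  have e1 : ∀ z : V, (LinearMap.toMatrix b b g).mulVec (b.equivFun z) = b.equivFun (g z) := by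
    intro z
    have := LinearMap.toMatrix_mulVec_repr b b g z
    funext i
    have h2 := congrFun this i
    simpa using h2
  rw [e1, e1, ← hB, ← hB, hU.iso]

theorem exists_PSU3_of_udata {q : ℕ} (hF : Fintype.card F = q ^ 2) (hσ : ∀ x, σ x = x ^ q)
    {V : Type v} [AddCommGroup V] [Module F V] [FiniteDimensional F V]
    {B : V →ₛₗ[σ] V →ₗ[F] F} {g : Module.End F V} (hU : UData σ B g)
    (hV : Module.finrank F V = 3) (hdet : LinearMap.det g = 1) (L : ℕ)
    (hL : ∀ (k : ℕ) (s : F), g ^ k = s • (1 : Module.End F V) → L ∣ k) :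
    ∃ x : Cfsg.PSU 3 F q, L ∣ orderOf x := by
  classical
  obtain ⟨b, hb⟩ := udata_exists_onb hU hV
  apply exists_PSU3_of_matrix hF hσ (LinearMap.toMatrix b b g)
    (by rw [LinearMap.det_toMatrix]; exact hdet) hb
  intro k s hk
  apply hL k s
  apply (LinearMap.toMatrix b b).injective
  rw [← LinearMap.toMatrix_pow, hk, map_smul]
  congr 1
  exact (LinearMap.toMatrix_one b).symm

end bridge

section diag

theorem diag_preserve {n : ℕ} (d : Fin n → F) (h : ∀ i, σ (d i) * d i = 1) (u v : Fin n → F) :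
    stdHerm n σ ((Matrix.diagonal d).mulVec u) ((Matrix.diagonal d).mulVec v) = stdHerm n σ u v := by
  rw [stdHerm_apply, stdHerm_apply]
  apply Finset.sum_congr rfl
  intro i _
  rw [Matrix.mulVec_diagonal, Matrix.mulVec_diagonal, map_mul]
  calc σ (d i) * σ (u i) * (d i * v i) = (σ (d i) * d i) * (σ (u i) * v i) := by ring
    _ = σ (u i) * v i := by rw [h, one_mul]

/-- a generator of `F^×` raised to `q - 1` has order `q + 1` -/
theorem exists_norm_one_generator {q : ℕ} (hF : Fintype.card F = q ^ 2) :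
    ∃ a : Fˣ, orderOf a = q + 1 ∧ (a : F) ^ (q + 1) = 1 := by
  obtain ⟨ζ, hζ⟩ := exists_units_generator (F := F)
  have hq1 : 1 ≤ q := by
    have h1 : 1 < Fintype.card F := Fintype.one_lt_card
    rw [hF] at h1
    by_contra hcon
    push Not at hcon
    interval_cases q
    simp at h1
  have hq2 : 2 ≤ q := by
    have h1 : 1 < Fintype.card F := Fintype.one_lt_card
    rw [hF] at h1
    by_contra hcon
    push Not at hcon
    interval_cases q <;> simp at h1
  have hord : orderOf (ζ ^ (q - 1)) = q + 1 := by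
    rw [orderOf_pow, hζ, hF, nt_sq_sub_one hq1, Nat.gcd_eq_right (Dvd.intro_left _ rfl)]
    exact Nat.mul_div_cancel _ (by omega)
  refine ⟨ζ ^ (q - 1), hord, ?_⟩
  rw [← Units.val_pow_eq_pow_val, ← hord, pow_orderOf_eq_one, Units.val_one]

theorem exists_PSU3_diag {q : ℕ} (hF : Fintype.card F = q ^ 2) (hσ : ∀ x, σ x = x ^ q) :
    ∃ x : Cfsg.PSU 3 F q, (q + 1) ∣ orderOf x := by
  obtain ⟨a, hord, ha⟩ := exists_norm_one_generator hF
  have hdet : (Matrix.diagonal ![(a : F), ((a⁻¹ : Fˣ) : F), 1]).det = 1 := by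
    rw [Matrix.det_diagonal, Fin.prod_univ_three]
    simp
  have hn1 : ∀ i, σ (![(a : F), ((a⁻¹ : Fˣ) : F), 1] i) * (![(a : F), ((a⁻¹ : Fˣ) : F), 1] i) = 1 := by
    intro i
    rw [hσ, ← pow_succ]
    fin_cases i
    · exact ha
    · show ((a⁻¹ : Fˣ) : F) ^ (q + 1) = 1
      rw [← Units.val_pow_eq_pow_val, inv_pow, ← hord, pow_orderOf_eq_one, inv_one, Units.val_one]
    · show (1 : F) ^ (q + 1) = 1
      exact one_pow _
  apply exists_PSU3_of_matrix hF hσ _ hdet (diag_preserve _ hn1)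
  intro k s hk
  rw [Matrix.diagonal_pow] at hk
  have h2 := congrFun (congrFun hk 2) 2
  have h0 := congrFun (congrFun hk 0) 0
  simp only [Matrix.diagonal_apply_eq, Pi.pow_apply, Matrix.smul_apply, Matrix.one_apply_eq,
    smul_eq_mul, mul_one] at h2 h0
  simp only [Matrix.cons_val_two, Matrix.tail_cons, Matrix.head_cons, one_pow,
    Matrix.cons_val_zero] at h2 h0
  rw [← h2] at h0
  rw [← hord]
  apply orderOf_dvd_of_pow_eq_one
  apply Units.ext
  rw [Units.val_pow_eq_pow_val, h0, Units.val_one]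

end diag

end Cfsg.Agent.Lib.H12.Spec
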