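import Mathlib
import Cfsg.Agent.Lib.H12.SpecJ

/-!
# Element orders in `PSU_3(q)`: mixed elements `s u` of order `p (q+1)/d` (helper12)
-/

set_option autoImplicit false
set_option linter.unusedSectionVars false
open Polynomial

namespace Cfsg.Agent.Lib.H12.Spec

open Cfsg.Agent.Lib.H12.USemi

universe u
variable {F : Type u} [Field F]

/-- the matrix `diag(a, a, c) (1 + l e ē^T)` -/
def mixU (a l e ec c : F) : Matrix (Fin 3) (Fin 3) F :=
  !![a * (1 + l), a * l * ec, 0; a * l * e, a * (1 - l), 0; 0, 0, c]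

theorem mixU_pow (a l e ec c : F) (h : ec * e = -1) (k : ℕ) :
    mixU a l e ec c ^ k =
      !![a ^ k * (1 + k * l), a ^ k * (k * l) * ec, 0; a ^ k * (k * l) * e, a ^ k * (1 - k * l), 0;
        0, 0, c ^ k] := by
  induction k with
  | zero =>
    ext i j
    fin_cases i <;> fin_cases j <;> simp
  | succ k ih =>
    rw [pow_succ, ih, mixU]
    ext i j
    fin_cases i <;> fin_cases j <;>
      simp [Matrix.mul_apply, Fin.sum_univ_three, pow_succ] <;>
      first
        | ring1
        | linear_combination (a ^ k * a * k * l ^ 2) * h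

theorem mixU_det (a l e ec c : F) (h : ec * e = -1) (hac : a * a * c = 1) :
    (mixU a l e ec c).det = 1 := by
  rw [mixU, Matrix.det_fin_three]
  simp
  linear_combination hac - (a * a * c * l ^ 2) * h

theorem mixU_unitary (a a' l e ec c c' : F) (h : ec * e = -1) (ha : a' * a = 1)
    (hc : c' * c = 1) :
    (!![a' * (1 - l), -(a' * l * ec), 0; -(a' * l * e), a' * (1 + l), 0; 0, 0, c'] :
      Matrix (Fin 3) (Fin 3) F) * mixU a l e ec c = 1 := by
  rw [mixU]
  ext i j
  fin_cases i <;> fin_cases j <;>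
    simp [Matrix.mul_apply, Fin.sum_univ_three] <;>
    first
      | ring1
      | linear_combination ha - (a' * a * l ^ 2) * h
      | linear_combination hc

variable [Fintype F] {σ : F →+* F}

theorem exists_PSU3_mixed {q : ℕ} (hF : Fintype.card F = q ^ 2) (hσ : ∀ x, σ x = x ^ q)
    (hσ2 : ∀ a, σ (σ a) = a) (hne : ∃ a, σ a ≠ a) (p : ℕ) [Fact p.Prime] [CharP F p] :
    ∃ x : Cfsg.PSU 3 F q, p * (q + 1) / Nat.gcd 3 (q + 1) ∣ orderOf x := by
  have hp : p.Prime := Fact.out
  obtain ⟨au, hord, ha⟩ := exists_norm_one_generator hF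
  obtain ⟨ε, hε0, hε⟩ := exists_norm_of_involution σ hσ2 hne (-1 : F) (by norm_num)
    (by rw [map_neg, map_one])
  obtain ⟨θ, hθ⟩ := hne
  set a : F := (au : F) with hadef
  set l : F := θ - σ θ with hl
  set c : F := (((au ^ 2)⁻¹ : Fˣ) : F) with hc
  have ha0 : a ≠ 0 := Units.ne_zero au
  have hl0 : l ≠ 0 := fun h => hθ (sub_eq_zero.mp h).symm
  have hσl : σ l = -l := by rw [hl, map_sub, hσ2]; ring
  have hac : a * a * c = 1 := by
    rw [hadef, hc, ← Units.val_mul, ← Units.val_mul, ← sq, mul_inv_cancel, Units.val_one]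
  have hσa : σ a * a = 1 := by rw [hσ, ← pow_succ]; exact ha
  have hσc : σ c * c = 1 := by
    rw [hσ, ← pow_succ, hc, ← Units.val_pow_eq_pow_val, inv_pow, ← pow_mul, mul_comm, pow_mul,
      ← hord, pow_orderOf_eq_one, one_pow, inv_one, Units.val_one]
  set M := mixU a l ε (σ ε) c with hM
  have hdet : M.det = 1 := mixU_det a l ε (σ ε) c hε hac
  have hunit : (M.map σ).transpose * M = 1 := by
    have h1 := mixU_unitary a (σ a) l ε (σ ε) c (σ c) hε hσa hσc
    rw [← hM] at h1
    rw [← h1]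
    congr 1
    rw [hM, mixU]
    ext i j
    fin_cases i <;> fin_cases j <;>
      simp [Matrix.transpose_apply, Matrix.map_apply, hσl, hσ2] <;>
      first
        | ring1
        | (left; ring1)
  apply exists_PSU3_of_matrix hF hσ M hdet (fun u v => stdHerm_mulVec 3 M M hunit u v)
  intro k s hk
  rw [hM, mixU_pow a l ε (σ ε) c hε] at hk
  have h10 := congrFun (congrFun hk 1) 0
  have h00 := congrFun (congrFun hk 0) 0
  have h22 := congrFun (congrFun hk 2) 2
  simp [Matrix.smul_apply] at h10 h00 h22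
  -- p ∣ k
  have hk0 : (k : F) = 0 := by
    rcases h10 with h | h
    · rcases h with h | h
      · exact absurd h.1 ha0
      · rcases h with h | h
        · exact h
        · exact absurd h hl0
    · exact absurd h hε0
  have hpk : p ∣ k := (CharP.cast_eq_zero_iff F p k).mp hk0
  rw [hk0, zero_mul, add_zero, mul_one] at h00
  -- (au^3)^k = 1
  have h3 : (au ^ 3) ^ k = 1 := by
    apply Units.ext
    rw [Units.val_pow_eq_pow_val, Units.val_pow_eq_pow_val, Units.val_one, ← hadef]
    have h4 : c ^ k * (a * a) ^ k = 1 := by rw [← mul_pow, mul_comm, hac, one_pow]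
    rw [h22, ← h00] at h4
    calc (a ^ 3) ^ k = a ^ k * (a * a) ^ k := by ring
      _ = 1 := h4
  have hord3 : orderOf (au ^ 3) = (q + 1) / Nat.gcd 3 (q + 1) := by
    rw [orderOf_pow, hord, Nat.gcd_comm]
  have hrk : (q + 1) / Nat.gcd 3 (q + 1) ∣ k := by
    rw [← hord3]
    exact orderOf_dvd_of_pow_eq_one h3
  rw [Nat.mul_div_assoc p (Nat.gcd_dvd_right 3 (q + 1))]
  apply Nat.Coprime.mul_dvd_of_dvd_of_dvd _ hpk hrk
  rw [Nat.Prime.coprime_iff_not_dvd hp]
  intro hpr
  have h5 : p ∣ q + 1 := hpr.trans (Nat.div_dvd_of_dvd (Nat.gcd_dvd_right 3 (q + 1)))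
  have h6 : p ∣ q := by
    have h7 : p ∣ Fintype.card F := by
      obtain ⟨j, -, hj⟩ := FiniteField.card F p
      rw [hj]
      exact dvd_pow_self p j.ne_zero
    rw [hF] at h7
    exact hp.dvd_of_dvd_pow h7
  have h8 : p ∣ 1 := by
    have := Nat.dvd_sub h5 h6
    rwa [Nat.add_sub_cancel_left] at this
  exact hp.one_lt.ne' (Nat.dvd_one.mp h8)

end Cfsg.Agent.Lib.H12.Spec
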