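import Mathlib
import Cfsg.Agent.Lib.H12.SpecK

/-!
# Element orders in `PSU_3(q)`: the torus of order `q^2 - 1` (helper12)
-/

set_option autoImplicit false
set_option linter.unusedSectionVars false
open Polynomial

namespace Cfsg.Agent.Lib.H12.Spec

open Cfsg.Agent.Lib.H12.USemi

section nt

theorem nt_V3 (q k : ℕ) (hq : 2 ≤ q) (h1 : q ^ 2 - 1 ∣ (q + 1) * k)
    (h2 : q ^ 2 - 1 ∣ (q - 2) * k) : (q ^ 2 - 1) / Nat.gcd 3 (q + 1) ∣ k := by
  obtain ⟨t, rfl⟩ : ∃ t, q = t + 2 := ⟨q - 2, by omega⟩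
  have e0 : (t + 2) ^ 2 - 1 = (t + 3) * (t + 1) := by
    have : (t + 2) ^ 2 = (t + 3) * (t + 1) + 1 := by ring
    rw [this, Nat.add_sub_cancel]
  have e1 : t + 2 + 1 = t + 3 := by ring
  rw [e0, e1] at h1
  rw [e0, Nat.add_sub_cancel] at h2
  rw [e0, e1]
  have h3 : t + 1 ∣ k := Nat.dvd_of_mul_dvd_mul_left (by omega) h1
  obtain ⟨k', rfl⟩ := h3
  have h4 : t + 3 ∣ t * k' := by
    have : (t + 3) * (t + 1) ∣ (t + 1) * (t * k') := by
      have e : (t + 1) * (t * k') = t * ((t + 1) * k') := by ring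
      rw [e]; exact h2
    rw [mul_comm (t + 3) (t + 1)] at this
    exact Nat.dvd_of_mul_dvd_mul_left (by omega) this
  have hg : Nat.gcd 3 (t + 3) = Nat.gcd 3 t := by
    rw [Nat.gcd_comm, Nat.gcd_add_self_left, Nat.gcd_comm]
  rw [hg]
  rcases gcd_three_cases t with hg1 | hg3
  · rw [hg1, Nat.div_one]
    have hco : Nat.Coprime (t + 3) t := by
      rw [Nat.coprime_self_add_left]; exact hg1
    have h5 : t + 3 ∣ k' := hco.dvd_of_dvd_mul_left h4
    rw [mul_comm (t + 3) (t + 1)]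
    exact Nat.mul_dvd_mul_left _ h5
  · rw [hg3]
    have h3t : 3 ∣ t := by rw [← hg3]; exact Nat.gcd_dvd_right 3 t
    obtain ⟨w, rfl⟩ := h3t
    have e2 : (3 * w + 3) * (3 * w + 1) = 3 * ((w + 1) * (3 * w + 1)) := by ring
    rw [e2, Nat.mul_div_cancel_left _ (by norm_num : 0 < 3)]
    have e3 : 3 * w + 3 = 3 * (w + 1) := by ring
    rw [e3, mul_assoc] at h4
    have h5 : w + 1 ∣ w * k' := Nat.dvd_of_mul_dvd_mul_left (by norm_num) h4
    have hco : Nat.Coprime (w + 1) w := by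
      rw [Nat.coprime_self_add_left]; exact Nat.coprime_one_left w
    have h6 : w + 1 ∣ k' := hco.dvd_of_dvd_mul_left h5
    rw [mul_comm (w + 1) (3 * w + 1)]
    exact Nat.mul_dvd_mul_left _ h6

end nt

universe u
variable {F : Type u} [Field F] {σ : F →+* F}

/-- the form `σ(u₀)v₀ + σ(u₁)v₂ + σ(u₂)v₁` -/
noncomputable def tform (σ : F →+* F) : (Fin 3 → F) →ₛₗ[σ] (Fin 3 → F) →ₗ[F] F :=
  LinearMap.mk₂'ₛₗ σ (RingHom.id F)
    (fun u v => σ (u 0) * v 0 + σ (u 1) * v 2 + σ (u 2) * v 1)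
    (by intro a b c; simp only [Pi.add_apply, map_add]; ring)
    (by intro r a b; simp only [Pi.smul_apply, smul_eq_mul, map_mul]; ring)
    (by intro a b c; simp only [Pi.add_apply]; ring)
    (by intro r a b; simp only [Pi.smul_apply, smul_eq_mul, RingHom.id_apply]; ring)

theorem tform_apply (u v : Fin 3 → F) :
    tform σ u v = σ (u 0) * v 0 + σ (u 1) * v 2 + σ (u 2) * v 1 := rfl

theorem diag_toLin_apply (d u : Fin 3 → F) (i : Fin 3) :
    (Matrix.toLin' (Matrix.diagonal d)) u i = d i * u i := by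
  rw [Matrix.toLin'_apply, Matrix.mulVec_diagonal]

theorem diag_toLin_pow_apply (d u : Fin 3 → F) (k : ℕ) (i : Fin 3) :
    ((Matrix.toLin' (Matrix.diagonal d)) ^ k) u i = d i ^ k * u i := by
  induction k generalizing u with
  | zero => simp
  | succ k ih =>
    rw [pow_succ, Module.End.mul_apply, ih, diag_toLin_apply]
    ring

theorem tform_udata (hσ2 : ∀ a, σ (σ a) = a) (hne : ∃ a, σ a ≠ a) (d : Fin 3 → F)
    (h0 : σ (d 0) * d 0 = 1) (h1 : σ (d 1) * d 2 = 1) (h2 : σ (d 2) * d 1 = 1) :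
    UData σ (tform σ) (Matrix.toLin' (Matrix.diagonal d)) where
  inv := hσ2
  ne := hne
  symm := by
    intro x y
    rw [tform_apply, tform_apply]
    simp only [map_add, map_mul, hσ2]
    ring
  nd := by
    classical
    intro v hv
    have e0 := hv (Pi.single 0 1)
    have e1 := hv (Pi.single 1 1)
    have e2 := hv (Pi.single 2 1)
    rw [tform_apply] at e0 e1 e2
    simp at e0 e1 e2
    funext i
    fin_cases i
    · exact e0
    · exact e2
    · exact e1
  iso := by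
    intro x y
    rw [tform_apply, tform_apply]
    simp only [diag_toLin_apply, map_mul]
    calc σ (d 0) * σ (x 0) * (d 0 * y 0) + σ (d 1) * σ (x 1) * (d 2 * y 2) +
          σ (d 2) * σ (x 2) * (d 1 * y 1)
        = (σ (d 0) * d 0) * (σ (x 0) * y 0) + (σ (d 1) * d 2) * (σ (x 1) * y 2) +
          (σ (d 2) * d 1) * (σ (x 2) * y 1) := by ring
      _ = σ (x 0) * y 0 + σ (x 1) * y 2 + σ (x 2) * y 1 := by rw [h0, h1, h2]; ring

variable [Fintype F]

theorem exists_PSU3_quad {q : ℕ} (hF : Fintype.card F = q ^ 2) (hσ : ∀ x, σ x = x ^ q)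
    (hσ2 : ∀ a, σ (σ a) = a) (hne : ∃ a, σ a ≠ a) :
    ∃ x : Cfsg.PSU 3 F q, (q ^ 2 - 1) / Nat.gcd 3 (q + 1) ∣ orderOf x := by
  classical
  obtain ⟨bu, hbu⟩ := exists_units_generator (F := F)
  rw [hF] at hbu
  have hq2 : 2 ≤ q := by
    have h1 : 1 < Fintype.card F := Fintype.one_lt_card
    rw [hF] at h1
    by_contra hcon
    push Not at hcon
    interval_cases q <;> simp at h1
  have hbq2 : bu ^ (q ^ 2) = bu := by
    have h1 : bu ^ (q ^ 2 - 1) = 1 := by rw [← hbu]; exact pow_orderOf_eq_one bu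
    have h2 : q ^ 2 = (q ^ 2 - 1) + 1 := by
      have : 1 ≤ q ^ 2 := Nat.one_le_pow _ _ (by omega)
      omega
    rw [h2, pow_succ, h1, one_mul]
  set x : F := ((bu ^ (q - 1) : Fˣ) : F) with hx
  set y : F := (bu : F) with hy
  set z : F := (((bu ^ q)⁻¹ : Fˣ) : F) with hz
  set d : Fin 3 → F := ![x, y, z] with hd
  have hd0 : d 0 = x := rfl
  have hd1 : d 1 = y := rfl
  have hd2 : d 2 = z := rfl
  have h0 : σ (d 0) * d 0 = 1 := by
    rw [hd0, hσ, ← pow_succ, hx, ← Units.val_pow_eq_pow_val, ← pow_mul, mul_comm,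
      ← nt_sq_sub_one (by omega : 1 ≤ q), ← hbu, pow_orderOf_eq_one, Units.val_one]
  have h1 : σ (d 1) * d 2 = 1 := by
    rw [hd1, hd2, hσ, hy, hz, ← Units.val_pow_eq_pow_val, ← Units.val_mul, mul_inv_cancel,
      Units.val_one]
  have h2 : σ (d 2) * d 1 = 1 := by
    rw [hd1, hd2, hσ, hy, hz, ← Units.val_pow_eq_pow_val, ← Units.val_mul, inv_pow, ← pow_mul,
      ← sq, hbq2, inv_mul_cancel, Units.val_one]
  have hU := tform_udata hσ2 hne d h0 h1 h2
  have hV : Module.finrank F (Fin 3 → F) = 3 := Module.finrank_fin_fun F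
  have hdet : LinearMap.det (Matrix.toLin' (Matrix.diagonal d)) = 1 := by
    rw [LinearMap.det_toLin', Matrix.det_diagonal, Fin.prod_univ_three, hd0, hd1, hd2, hx, hy, hz,
      ← Units.val_mul, ← Units.val_mul, ← pow_succ, Nat.sub_add_cancel (by omega : 1 ≤ q),
      mul_inv_cancel, Units.val_one]
  apply exists_PSU3_of_udata hF hσ hU hV hdet
  intro k s hk
  have hall : ∀ i, d i ^ k = s := by
    intro i
    have h3 := congrFun (congrArg (fun f : Module.End F (Fin 3 → F) => f (fun _ => 1)) hk) i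
    simp only [diag_toLin_pow_apply, LinearMap.smul_apply, Module.End.one_apply, Pi.smul_apply,
      smul_eq_mul, mul_one] at h3
    exact h3
  have e0 := hall 0
  have e1 := hall 1
  have e2 := hall 2
  rw [hd0, hx, ← Units.val_pow_eq_pow_val] at e0
  rw [hd1, hy, ← Units.val_pow_eq_pow_val] at e1
  rw [hd2, hz, ← Units.val_pow_eq_pow_val] at e2
  -- bu^((q+1) k) = 1
  have h3 : bu ^ ((q + 1) * k) = 1 := by
    have h4 : ((bu ^ q)⁻¹) ^ k = bu ^ k := Units.ext (e2.trans e1.symm)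
    rw [inv_pow, inv_eq_iff_eq_inv, ← pow_mul] at h4
    have h5 : bu ^ (q * k) * bu ^ k = 1 := by rw [h4, inv_mul_cancel]
    rw [← pow_add] at h5
    have : (q + 1) * k = q * k + k := by ring
    rw [this]; exact h5
  have h4 : bu ^ ((q - 2) * k) = 1 := by
    have h5 : (bu ^ (q - 1)) ^ k = bu ^ k := Units.ext (e0.trans e1.symm)
    rw [← pow_mul] at h5
    have h6 : (q - 1) * k = (q - 2) * k + k := by
      have : q - 1 = (q - 2) + 1 := by omega
      rw [this]; ring
    rw [h6, pow_add] at h5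
    exact mul_right_cancel (h5.trans (one_mul _).symm)
  have h5 := orderOf_dvd_of_pow_eq_one h3
  have h6 := orderOf_dvd_of_pow_eq_one h4
  rw [hbu] at h5 h6
  exact nt_V3 q k hq2 h5 h6

end Cfsg.Agent.Lib.H12.Spec
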