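import Mathlib
import Cfsg.Agent.Lib.H12.SpecL

/-!
# Element orders in `PSU_3(q)`: the torus of order `q^2 - q + 1` and the spectrum (helper12)
-/

set_option autoImplicit false
set_option linter.unusedSectionVars false
open Polynomial

namespace Cfsg.Agent.Lib.H12.Spec

open Cfsg.Agent.Lib.H12.USemi

section nt

theorem nt_V4 (q k : ℕ) (hq : 2 ≤ q) (h : q ^ 2 - q + 1 ∣ k * (q ^ 2 - 1)) :
    (q ^ 2 - q + 1) / Nat.gcd 3 (q + 1) ∣ k := by
  obtain ⟨t, rfl⟩ : ∃ t, q = t + 2 := ⟨q - 2, by omega⟩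
  have e0 : (t + 2) ^ 2 - (t + 2) + 1 = t * (t + 3) + 3 := by
    have : (t + 2) ^ 2 = t * (t + 3) + 2 + (t + 2) := by ring
    rw [this, Nat.add_sub_cancel]
  have e1 : (t + 2) ^ 2 - 1 = (t + 3) * (t + 1) := by
    have : (t + 2) ^ 2 = (t + 3) * (t + 1) + 1 := by ring
    rw [this, Nat.add_sub_cancel]
  have e2 : t + 2 + 1 = t + 3 := by ring
  rw [e0, e1] at h
  rw [e0, e2]
  have hco1 : Nat.Coprime (t * (t + 3) + 3) (t + 1) := by
    have : t * (t + 3) + 3 = 1 + (t + 2) * (t + 1) := by ring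
    rw [this, Nat.coprime_add_mul_right_left]
    exact Nat.coprime_one_left _
  have hg : Nat.gcd 3 (t + 3) = Nat.gcd 3 t := by
    rw [Nat.gcd_comm, Nat.gcd_add_self_left, Nat.gcd_comm]
  rw [hg]
  rcases gcd_three_cases t with hg1 | hg3
  · rw [hg1, Nat.div_one]
    have hco2 : Nat.Coprime (t * (t + 3) + 3) (t + 3) := by
      rw [add_comm, Nat.coprime_add_mul_right_left]
      show Nat.gcd 3 (t + 3) = 1
      rw [hg, hg1]
    exact (hco2.mul_right hco1).dvd_of_dvd_mul_right h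
  · rw [hg3]
    have h3t : 3 ∣ t := by rw [← hg3]; exact Nat.gcd_dvd_right 3 t
    obtain ⟨w, rfl⟩ := h3t
    have e3 : 3 * w * (3 * w + 3) + 3 = 3 * (1 + w * (3 * (w + 1))) := by ring
    rw [e3, Nat.mul_div_cancel_left _ (by norm_num : 0 < 3)]
    rw [e3] at h hco1
    have hm : (1 + w * (3 * (w + 1))) ∣ 3 * (1 + w * (3 * (w + 1))) := Dvd.intro_left _ rfl
    have hco1' : Nat.Coprime (1 + w * (3 * (w + 1))) (3 * w + 1) :=
      Nat.Coprime.coprime_dvd_left hm hco1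
    have hco2' : Nat.Coprime (1 + w * (3 * (w + 1))) (3 * w + 3) := by
      have : 3 * w + 3 = 3 * (w + 1) := by ring
      rw [this, Nat.coprime_add_mul_right_left]
      exact Nat.coprime_one_left _
    exact (hco2'.mul_right hco1').dvd_of_dvd_mul_right (hm.trans h)

theorem nt_six (q : ℕ) (hq : 1 ≤ q) :
    (q ^ 2) ^ 3 - 1 = (q ^ 3 - 1) * (q + 1) * (q ^ 2 - q + 1) := by
  obtain ⟨t, rfl⟩ : ∃ t, q = t + 1 := ⟨q - 1, by omega⟩
  have e0 : (t + 1) ^ 2 - (t + 1) + 1 = t * (t + 1) + 1 := by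
    have : (t + 1) ^ 2 = t * (t + 1) + (t + 1) := by ring
    rw [this, Nat.add_sub_cancel]
  have e1 : (t + 1) ^ 3 - 1 = t * (t ^ 2 + 3 * t + 3) := by
    have : (t + 1) ^ 3 = t * (t ^ 2 + 3 * t + 3) + 1 := by ring
    rw [this, Nat.add_sub_cancel]
  have e2 : ((t + 1) ^ 2) ^ 3 = t * (t ^ 2 + 3 * t + 3) * (t + 1 + 1) * (t * (t + 1) + 1) + 1 := by
    ring
  rw [e0, e1, e2, Nat.add_sub_cancel]

theorem nt_six' (q : ℕ) (hq : 1 ≤ q) :
    (q ^ 3 - 1) * (q + 1) * (q ^ 3 + 1) = ((q ^ 2) ^ 3 - 1) * (q + 1) := by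
  obtain ⟨t, rfl⟩ : ∃ t, q = t + 1 := ⟨q - 1, by omega⟩
  have e1 : (t + 1) ^ 3 - 1 = t * (t ^ 2 + 3 * t + 3) := by
    have : (t + 1) ^ 3 = t * (t ^ 2 + 3 * t + 3) + 1 := by ring
    rw [this, Nat.add_sub_cancel]
  have e2 : ((t + 1) ^ 2) ^ 3 - 1 = t * (t ^ 2 + 3 * t + 3) * ((t + 1) ^ 3 + 1) := by
    have : ((t + 1) ^ 2) ^ 3 = t * (t ^ 2 + 3 * t + 3) * ((t + 1) ^ 3 + 1) + 1 := by ring
    rw [this, Nat.add_sub_cancel]
  rw [e1, e2]
  ring

theorem nt_six'' (q : ℕ) (hq : 1 ≤ q) :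
    (q ^ 3 - 1) * (q + 1) * ((q ^ 2) ^ 2 + q ^ 2 + 1) = ((q ^ 2) ^ 3 - 1) * (q ^ 2 + q + 1) := by
  obtain ⟨t, rfl⟩ : ∃ t, q = t + 1 := ⟨q - 1, by omega⟩
  have e1 : (t + 1) ^ 3 - 1 = t * (t ^ 2 + 3 * t + 3) := by
    have : (t + 1) ^ 3 = t * (t ^ 2 + 3 * t + 3) + 1 := by ring
    rw [this, Nat.add_sub_cancel]
  have e2 : ((t + 1) ^ 2) ^ 3 - 1 = t * (t ^ 2 + 3 * t + 3) * ((t + 1) ^ 3 + 1) := by
    have : ((t + 1) ^ 2) ^ 3 = t * (t ^ 2 + 3 * t + 3) * ((t + 1) ^ 3 + 1) + 1 := by ring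
    rw [this, Nat.add_sub_cancel]
  rw [e1, e2]
  ring

end nt

universe u
variable {F : Type u} [Field F] {σ : F →+* F}

section herm

variable {K : Type*} [Field K] [Algebra F K]

theorem semi_smul (τ' : K →+* K)
    (hτF : ∀ a : F, τ' (algebraMap F K a) = algebraMap F K (σ a)) (a : F) (x : K) :
    τ' (a • x) = σ a • τ' x := by
  rw [Algebra.smul_def, map_mul, hτF, ← Algebra.smul_def]

theorem exists_herm_functional (hσ2 : ∀ a, σ (σ a) = a) (hne : ∃ a, σ a ≠ a)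
    (τ' : K →+* K) (hτ2 : ∀ x, τ' (τ' x) = x)
    (hτF : ∀ a : F, τ' (algebraMap F K a) = algebraMap F K (σ a)) :
    ∃ τ : K →ₗ[F] F, τ ≠ 0 ∧ ∀ x, τ (τ' x) = σ (τ x) := by
  obtain ⟨τ0, hτ0⟩ : ∃ τ0 : K →ₗ[F] F, τ0 1 = 1 := by
    have hinj : Function.Injective (LinearMap.toSpanSingleton F K 1) := by
      intro a b hab
      simp only [LinearMap.toSpanSingleton_apply] at hab
      rw [← Algebra.algebraMap_eq_smul_one, ← Algebra.algebraMap_eq_smul_one] at hab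
      exact (algebraMap F K).injective hab
    obtain ⟨g, hg⟩ := LinearMap.exists_leftInverse_of_injective
      (LinearMap.toSpanSingleton F K 1) (LinearMap.ker_eq_bot.mpr hinj)
    refine ⟨g, ?_⟩
    have := congrArg (fun f : F →ₗ[F] F => f 1) hg
    simpa using this
  let τd : K →ₗ[F] F :=
    { toFun := fun x => σ (τ0 (τ' x))
      map_add' := by intro x y; rw [map_add, map_add, map_add]
      map_smul' := by
        intro a x
        rw [semi_smul τ' hτF, map_smul, smul_eq_mul, map_mul, hσ2, RingHom.id_apply, smul_eq_mul] }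
  have hτd : ∀ x, τd x = σ (τ0 (τ' x)) := fun x => rfl
  have key : ∀ u : F, ∀ x, (u • τ0 + σ u • τd) (τ' x) = σ ((u • τ0 + σ u • τd) x) := by
    intro u x
    simp only [LinearMap.add_apply, LinearMap.smul_apply, smul_eq_mul, hτd, hτ2,
      map_add, map_mul, hσ2]
    ring
  by_cases h1 : τ0 + τd = 0
  · obtain ⟨u, hu⟩ := hne
    refine ⟨u • τ0 + σ u • τd, ?_, key u⟩
    have h2 : τd = -τ0 := by
      rw [eq_neg_iff_add_eq_zero, add_comm]; exact h1
    rw [h2]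
    intro h3
    have h4 := congrArg (fun f : K →ₗ[F] F => f 1) h3
    simp only [LinearMap.add_apply, LinearMap.smul_apply, LinearMap.neg_apply, smul_eq_mul,
      LinearMap.zero_apply, hτ0] at h4
    have h5 : u - σ u = 0 := by rw [← h4]; ring
    exact hu (sub_eq_zero.mp h5).symm
  · refine ⟨τ0 + τd, h1, ?_⟩
    have := key 1
    simpa using this

/-- the hermitian form `τ(τ'(a) b)` on `K` -/
noncomputable def fieldForm (τ' : K →+* K)
    (hτF : ∀ a : F, τ' (algebraMap F K a) = algebraMap F K (σ a)) (τ : K →ₗ[F] F) :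
    K →ₛₗ[σ] K →ₗ[F] F :=
  LinearMap.mk₂'ₛₗ σ (RingHom.id F) (fun a b => τ (τ' a * b))
    (by intro a b c; rw [map_add, add_mul, map_add])
    (by intro r a b; rw [semi_smul τ' hτF, smul_mul_assoc, map_smul])
    (by intro a b c; rw [mul_add, map_add])
    (by intro r a b; rw [mul_smul_comm, map_smul, RingHom.id_apply])

theorem fieldForm_apply (τ' : K →+* K)
    (hτF : ∀ a : F, τ' (algebraMap F K a) = algebraMap F K (σ a)) (τ : K →ₗ[F] F) (a b : K) :
    fieldForm τ' hτF τ a b = τ (τ' a * b) := rfl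

theorem fieldForm_udata (hσ2 : ∀ a, σ (σ a) = a) (hne : ∃ a, σ a ≠ a)
    (τ' : K →+* K) (hτ2 : ∀ x, τ' (τ' x) = x)
    (hτF : ∀ a : F, τ' (algebraMap F K a) = algebraMap F K (σ a)) (τ : K →ₗ[F] F)
    (hτ0 : τ ≠ 0) (hτ : ∀ x, τ (τ' x) = σ (τ x)) (t : K) (ht : τ' t * t = 1) :
    UData σ (fieldForm τ' hτF τ) (Algebra.lmul F K t) where
  inv := hσ2
  ne := hne
  symm := by
    intro x y
    rw [fieldForm_apply, fieldForm_apply, ← hτ, map_mul, hτ2, mul_comm]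
  nd := by
    intro v hv
    by_contra hv0
    apply hτ0
    apply LinearMap.ext
    intro z
    have := hv (τ' (z * v⁻¹))
    rw [fieldForm_apply, hτ2, mul_assoc, inv_mul_cancel₀ hv0, mul_one] at this
    rw [this, LinearMap.zero_apply]
  iso := by
    intro x y
    rw [fieldForm_apply, fieldForm_apply]
    simp only [Algebra.lmul_algebraMap, Algebra.coe_lmul_eq_mul, LinearMap.mul_apply', map_mul]
    congr 1
    calc τ' t * τ' x * (t * y) = (τ' t * t) * (τ' x * y) := by ring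
      _ = τ' x * y := by rw [ht, one_mul]

end herm

variable [Fintype F]

theorem exists_PSU3_irr {q : ℕ} (hF : Fintype.card F = q ^ 2) (hσ : ∀ x, σ x = x ^ q)
    (hσ2 : ∀ a, σ (σ a) = a) (hne : ∃ a, σ a ≠ a) (p : ℕ) [Fact p.Prime] [CharP F p] :
    ∃ x : Cfsg.PSU 3 F q, (q ^ 2 - q + 1) / Nat.gcd 3 (q + 1) ∣ orderOf x := by
  classical
  have hp : p.Prime := Fact.out
  have hq2 : 2 ≤ q := by
    have h1 : 1 < Fintype.card F := Fintype.one_lt_card
    rw [hF] at h1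
    by_contra hcon
    push Not at hcon
    interval_cases q <;> simp at h1
  obtain ⟨f, hf⟩ : ∃ f, q = p ^ f := by
    obtain ⟨n, -, hn⟩ := FiniteField.card F p
    have h1 : q ∣ p ^ (n : ℕ) := by
      rw [← hn, hF]; exact Dvd.intro_left q (by ring)
    obtain ⟨f, -, hf⟩ := (Nat.dvd_prime_pow hp).1 h1
    exact ⟨f, hf⟩
  obtain ⟨γ, hγ⟩ := exists_ext_generator (F := F) p 3
  rw [hF] at hγ
  set K := FiniteField.Extension F p 3 with hK
  have hrank : Module.finrank F K = 3 := FiniteField.finrank_extension F p 3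
  haveI : CharP K p := charP_of_injective_algebraMap (algebraMap F K).injective p
  haveI : Fintype K := Fintype.ofFinite K
  have hcK : Fintype.card K = (q ^ 2) ^ 3 := by
    rw [← Nat.card_eq_fintype_card, FiniteField.natCard_extension, Nat.card_eq_fintype_card, hF]
  set τ' : K →+* K := iterateFrobenius K p (3 * f) with hτ'
  have hτ'x : ∀ x, τ' x = x ^ (q ^ 3) := by
    intro x
    have : p ^ (3 * f) = q ^ 3 := by rw [hf, ← pow_mul, mul_comm]
    rw [hτ', iterateFrobenius_def, this]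
  have hτ2 : ∀ x, τ' (τ' x) = x := by
    intro x
    rw [hτ'x, hτ'x, ← pow_mul]
    have : q ^ 3 * q ^ 3 = (q ^ 2) ^ 3 := by ring
    rw [this, ← hcK, FiniteField.pow_card]
  have hτF : ∀ a : F, τ' (algebraMap F K a) = algebraMap F K (σ a) := by
    intro a
    rw [hτ'x, ← map_pow, hσ]
    congr 1
    have : q ^ 3 = q ^ 2 * q := by ring
    rw [this, pow_mul, ← hF, FiniteField.pow_card]
  set t : K := ((γ ^ ((q ^ 3 - 1) * (q + 1)) : Kˣ) : K) with ht
  have htt : τ' t * t = 1 := by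
    rw [hτ'x, ← pow_succ, ht, ← Units.val_pow_eq_pow_val, ← pow_mul, nt_six' q (by omega), pow_mul,
      ← hγ, pow_orderOf_eq_one, one_pow, Units.val_one]
  have hsum : ∑ i ∈ Finset.range 3, (q ^ 2) ^ i = (q ^ 2) ^ 2 + q ^ 2 + 1 := by
    simp [Finset.sum_range_succ]; ring
  have hnorm : Algebra.norm F t = 1 := by
    apply (algebraMap F K).injective
    rw [FiniteField.algebraMap_norm_eq_pow_sum, hrank, Nat.card_eq_fintype_card, hF, hsum,
      map_one, ht, ← Units.val_pow_eq_pow_val, ← pow_mul, nt_six'' q (by omega), pow_mul, ← hγ,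
      pow_orderOf_eq_one, one_pow, Units.val_one]
  obtain ⟨τ, hτ0, hτ⟩ := exists_herm_functional hσ2 hne τ' hτ2 hτF
  have hU := fieldForm_udata hσ2 hne τ' hτ2 hτF τ hτ0 hτ t htt
  have hdet : LinearMap.det (Algebra.lmul F K t) = 1 := hnorm
  apply exists_PSU3_of_udata hF hσ hU hrank hdet
  intro k s hk
  rw [← map_pow] at hk
  have h1 := congrArg (fun g : Module.End F K => g 1) hk
  simp only [Algebra.lmul_algebraMap, LinearMap.smul_apply, Module.End.one_apply] at h1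
  have h2 : t ^ k = algebraMap F K s := by
    have : (Algebra.lmul F K (t ^ k)) 1 = t ^ k := by simp
    rw [this] at h1
    rw [h1, Algebra.algebraMap_eq_smul_one]
  have hs0 : s ≠ 0 := by
    rintro rfl
    rw [map_zero, ht, ← Units.val_pow_eq_pow_val] at h2
    exact Units.ne_zero _ h2
  have h3 : (t ^ k) ^ (q ^ 2 - 1) = 1 := by
    rw [h2, ← map_pow, ← hF, FiniteField.pow_card_sub_one_eq_one s hs0, map_one]
  have h4 : γ ^ ((q ^ 3 - 1) * (q + 1) * k * (q ^ 2 - 1)) = 1 := by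
    apply Units.ext
    rw [pow_mul, pow_mul, Units.val_pow_eq_pow_val, Units.val_pow_eq_pow_val, ← ht, h3,
      Units.val_one]
  have h5 := orderOf_dvd_of_pow_eq_one h4
  rw [hγ, nt_six q (by omega), mul_assoc ((q ^ 3 - 1) * (q + 1)) k] at h5
  have hA : 0 < (q ^ 3 - 1) * (q + 1) := by
    apply Nat.mul_pos _ (by omega)
    have : 2 ^ 3 ≤ q ^ 3 := Nat.pow_le_pow_left hq2 3
    omega
  exact nt_V4 q k hq2 (Nat.dvd_of_mul_dvd_mul_left hA h5)

/-- the set of element orders of `PSU_3(q)`, `q` odd -/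
theorem spectrum_PSU3 (p : ℕ) [Fact p.Prime] [CharP F p] (hp : p ≠ 2) (q : ℕ)
    (hF : Fintype.card F = q ^ 2) :
    Set.range (orderOf : Cfsg.PSU 3 F q → ℕ) =
      {s : ℕ | s ∣ q + 1} ∪ {s : ℕ | s ∣ p * (q + 1) / Nat.gcd 3 (q + 1)} ∪
        {s : ℕ | s ∣ (q ^ 2 - 1) / Nat.gcd 3 (q + 1)} ∪
        {s : ℕ | s ∣ (q ^ 2 - q + 1) / Nat.gcd 3 (q + 1)} := by
  classical
  obtain ⟨σ, hσ, hσ2⟩ := Cfsg.Agent.Lib.H4.exists_frob hF
  have hne : ∃ a, σ a ≠ a := by
    obtain ⟨a, ha⟩ := frob_ne_id hF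
    exact ⟨a, by rw [hσ]; exact ha⟩
  haveI : Finite (Cfsg.PSU 3 F q) := by
    unfold Cfsg.PSU
    infer_instance
  apply Set.eq_of_subset_of_subset
  · rintro s ⟨x, rfl⟩
    simp only [Set.mem_union, Set.mem_ofPred_eq]
    rcases PSU3_order_dvd hF p hp x with h | h | h | h
    · exact Or.inl (Or.inl (Or.inl h))
    · exact Or.inl (Or.inl (Or.inr h))
    · exact Or.inl (Or.inr h)
    · exact Or.inr h
  · intro s hs
    simp only [Set.mem_union, Set.mem_ofPred_eq] at hs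
    rcases hs with ((hs | hs) | hs) | hs
    · obtain ⟨x, hx⟩ := exists_PSU3_diag (σ := σ) hF hσ
      obtain ⟨y, hy⟩ := exists_orderOf_eq_of_dvd_dvd x _ s hx hs
      exact ⟨y, hy⟩
    · obtain ⟨x, hx⟩ := exists_PSU3_mixed hF hσ hσ2 hne p
      obtain ⟨y, hy⟩ := exists_orderOf_eq_of_dvd_dvd x _ s hx hs
      exact ⟨y, hy⟩
    · obtain ⟨x, hx⟩ := exists_PSU3_quad hF hσ hσ2 hne
      obtain ⟨y, hy⟩ := exists_orderOf_eq_of_dvd_dvd x _ s hx hs
      exact ⟨y, hy⟩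
    · obtain ⟨x, hx⟩ := exists_PSU3_irr hF hσ hσ2 hne p
      obtain ⟨y, hy⟩ := exists_orderOf_eq_of_dvd_dvd x _ s hx hs
      exact ⟨y, hy⟩

end Cfsg.Agent.Lib.H12.Spec
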