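import Mathlib

/-!
# Spectra of `L × L × L × Z_r^m`: the abstract absorption argument (helper12)

`L` a group in which every element either admits an element of order `lcm (orderOf x) r`, or has
order dividing `M * p ^ T`, and in which the divisors of `M`, the powers `p ^ j` (`j ≤ T`) and
`r` are element orders.  Then `L³ × Z_r^m` has the same element orders as `L³`.
-/

set_option autoImplicit false

namespace Cfsg.Agent.Lib.H12.SpecPSL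

section elemab

theorem pow_prime_eq_one {r m : ℕ} (v : Multiplicative (Fin m → ZMod r)) : v ^ r = 1 := by
  apply Multiplicative.toAdd.injective
  rw [toAdd_pow, toAdd_one]
  ext i
  simp

theorem orderOf_zr {r m : ℕ} (hr : r.Prime) (v : Multiplicative (Fin m → ZMod r)) :
    orderOf v = 1 ∨ orderOf v = r :=
  (Nat.dvd_prime hr).1 (orderOf_dvd_of_pow_eq_one (pow_prime_eq_one v))

end elemab

section arith

/-- split a divisor of `M * p ^ T` -/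
theorem split_dvd {p M T A : ℕ} (hp : p.Prime) (hMp : Nat.Coprime M p) (hA : A ∣ M * p ^ T) :
    ∃ B J, B ∣ M ∧ J ≤ T ∧ A = B * p ^ J := by
  have hc : Nat.Coprime M (p ^ T) := Nat.Coprime.pow_right T hMp
  have h1 : A.gcd (M * p ^ T) = A.gcd M * A.gcd (p ^ T) := Nat.Coprime.gcd_mul A hc
  have h2 : A.gcd (M * p ^ T) = A := Nat.gcd_eq_left hA
  obtain ⟨J, hJ, hJe⟩ := (Nat.dvd_prime_pow hp).1 (Nat.gcd_dvd_right A (p ^ T))
  refine ⟨A.gcd M, J, Nat.gcd_dvd_right A M, hJ, ?_⟩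
  rw [← hJe, ← h1, h2]

end arith

section abstract

variable {L : Type*} [Group L]

theorem core3 {p r M T : ℕ} (hp : p.Prime)
    (hMp : Nat.Coprime M p)
    (H1 : ∀ x : L, (∃ y : L, orderOf y = Nat.lcm (orderOf x) r) ∨ orderOf x ∣ M * p ^ T)
    (H2 : ∀ b, b ∣ M → ∃ y : L, orderOf y = b)
    (H3 : ∀ j, j ≤ T → ∃ y : L, orderOf y = p ^ j)
    (H4 : ∃ y : L, orderOf y = r) (x1 x2 x3 : L) :
    ∃ y1 y2 y3 : L, Nat.lcm (orderOf y1) (Nat.lcm (orderOf y2) (orderOf y3)) =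
      Nat.lcm (orderOf x1) (Nat.lcm (orderOf x2) (Nat.lcm (orderOf x3) r)) := by
  rcases H1 x1 with ⟨y, hy⟩ | h1
  · refine ⟨y, x2, x3, ?_⟩
    rw [hy]
    ac_rfl
  rcases H1 x2 with ⟨y, hy⟩ | h2
  · refine ⟨x1, y, x3, ?_⟩
    rw [hy]
    ac_rfl
  rcases H1 x3 with ⟨y, hy⟩ | h3
  · refine ⟨x1, x2, y, ?_⟩
    rw [hy]
  have hA : Nat.lcm (orderOf x1) (Nat.lcm (orderOf x2) (orderOf x3)) ∣ M * p ^ T :=
    Nat.lcm_dvd h1 (Nat.lcm_dvd h2 h3)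
  obtain ⟨B, J, hB, hJ, hAe⟩ := split_dvd hp hMp hA
  obtain ⟨y1, hy1⟩ := H2 B hB
  obtain ⟨y2, hy2⟩ := H3 J hJ
  obtain ⟨y3, hy3⟩ := H4
  refine ⟨y1, y2, y3, ?_⟩
  have hc : Nat.Coprime B (p ^ J) :=
    Nat.Coprime.pow_right J (Nat.Coprime.coprime_dvd_left hB hMp)
  have e1 : Nat.lcm (orderOf x1) (Nat.lcm (orderOf x2) (Nat.lcm (orderOf x3) r)) =
      Nat.lcm (Nat.lcm (orderOf x1) (Nat.lcm (orderOf x2) (orderOf x3))) r := by ac_rfl
  rw [hy1, hy2, hy3, e1, hAe, ← Nat.lcm_assoc, hc.lcm_eq_mul]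

theorem core2 {p r M T : ℕ} (hp : p.Prime) (hpr : p ≠ r) (hr : r.Prime)
    (hMp : Nat.Coprime M p)
    (H1 : ∀ x : L, (∃ y : L, orderOf y = Nat.lcm (orderOf x) r) ∨ orderOf x ∣ M * p ^ T)
    (H2 : ∀ b, b ∣ M → ∃ y : L, orderOf y = b)
    (H3 : ∀ j, j ≤ T → ∃ y : L, orderOf y = p ^ j * r) (x1 x2 : L) :
    ∃ y1 y2 : L, Nat.lcm (orderOf y1) (orderOf y2) =
      Nat.lcm (orderOf x1) (Nat.lcm (orderOf x2) r) := by
  rcases H1 x1 with ⟨y, hy⟩ | h1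
  · refine ⟨y, x2, ?_⟩
    rw [hy]
    ac_rfl
  rcases H1 x2 with ⟨y, hy⟩ | h2
  · refine ⟨x1, y, ?_⟩
    rw [hy]
  have hA : Nat.lcm (orderOf x1) (orderOf x2) ∣ M * p ^ T := Nat.lcm_dvd h1 h2
  obtain ⟨B, J, hB, hJ, hAe⟩ := split_dvd hp hMp hA
  obtain ⟨y1, hy1⟩ := H2 B hB
  obtain ⟨y2, hy2⟩ := H3 J hJ
  refine ⟨y1, y2, ?_⟩
  have hc : Nat.Coprime B (p ^ J) :=
    Nat.Coprime.pow_right J (Nat.Coprime.coprime_dvd_left hB hMp)
  have hc2 : Nat.Coprime (p ^ J) r :=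
    Nat.Coprime.pow_left J ((Nat.coprime_primes hp hr).2 hpr)
  rw [hy1, hy2, ← Nat.lcm_assoc, hAe, ← hc2.lcm_eq_mul, ← Nat.lcm_assoc, hc.lcm_eq_mul]

theorem range3 {p r M T m : ℕ} (hp : p.Prime) (hr : r.Prime)
    (hMp : Nat.Coprime M p)
    (H1 : ∀ x : L, (∃ y : L, orderOf y = Nat.lcm (orderOf x) r) ∨ orderOf x ∣ M * p ^ T)
    (H2 : ∀ b, b ∣ M → ∃ y : L, orderOf y = b)
    (H3 : ∀ j, j ≤ T → ∃ y : L, orderOf y = p ^ j)
    (H4 : ∃ y : L, orderOf y = r) :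
    Set.range (orderOf : L × L × L × Multiplicative (Fin m → ZMod r) → ℕ) =
      Set.range (orderOf : L × L × L → ℕ) := by
  ext k
  constructor
  · rintro ⟨⟨x1, x2, x3, v⟩, rfl⟩
    rcases orderOf_zr hr v with hv | hv
    · refine ⟨(x1, x2, x3), ?_⟩
      simp only [Prod.orderOf, hv, Nat.lcm_one_right]
    · obtain ⟨y1, y2, y3, hy⟩ := core3 hp hMp H1 H2 H3 H4 x1 x2 x3
      refine ⟨(y1, y2, y3), ?_⟩
      simp only [Prod.orderOf, hv]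
      exact hy
  · rintro ⟨⟨x1, x2, x3⟩, rfl⟩
    refine ⟨(x1, x2, x3, 1), ?_⟩
    simp only [Prod.orderOf, orderOf_one, Nat.lcm_one_right]

theorem range2 {p r M T m : ℕ} (hp : p.Prime) (hpr : p ≠ r) (hr : r.Prime)
    (hMp : Nat.Coprime M p)
    (H1 : ∀ x : L, (∃ y : L, orderOf y = Nat.lcm (orderOf x) r) ∨ orderOf x ∣ M * p ^ T)
    (H2 : ∀ b, b ∣ M → ∃ y : L, orderOf y = b)
    (H3 : ∀ j, j ≤ T → ∃ y : L, orderOf y = p ^ j * r) :
    Set.range (orderOf : L × L × Multiplicative (Fin m → ZMod r) → ℕ) =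
      Set.range (orderOf : L × L → ℕ) := by
  ext k
  constructor
  · rintro ⟨⟨x1, x2, v⟩, rfl⟩
    rcases orderOf_zr hr v with hv | hv
    · refine ⟨(x1, x2), ?_⟩
      simp only [Prod.orderOf, hv, Nat.lcm_one_right]
    · obtain ⟨y1, y2, hy⟩ := core2 hp hpr hr hMp H1 H2 H3 x1 x2
      refine ⟨(y1, y2), ?_⟩
      simp only [Prod.orderOf, hv]
      exact hy
  · rintro ⟨⟨x1, x2⟩, rfl⟩
    refine ⟨(x1, x2, 1), ?_⟩
    simp only [Prod.orderOf, orderOf_one, Nat.lcm_one_right]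

end abstract

end Cfsg.Agent.Lib.H12.SpecPSL
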