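import Mathlib

/-!
# Spectra of `PSL_n(q)³ × Z_r^m`: arithmetic of geometric sums (helper12)
-/

set_option autoImplicit false

namespace Cfsg.Agent.Lib.H12.SpecPSL

/-- the geometric sum `1 + q + ⋯ + q^(k-1)` -/
def gs (q k : ℕ) : ℕ := ∑ i ∈ Finset.range k, q ^ i

theorem gs_mul_pred (q k : ℕ) (hq : 1 ≤ q) : gs q k * (q - 1) = q ^ k - 1 := by
  obtain ⟨t, rfl⟩ : ∃ t, q = t + 1 := ⟨q - 1, by omega⟩
  have := geom_sum_mul_add t k
  simp only [Nat.add_sub_cancel, gs]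
  omega

theorem pow_eq_one_add (q k : ℕ) (hq : 1 ≤ q) : ∃ t, q ^ k = 1 + (q - 1) * t := by
  obtain ⟨s, rfl⟩ : ∃ s, q = s + 1 := ⟨q - 1, by omega⟩
  simp only [Nat.add_sub_cancel]
  induction k with
  | zero => exact ⟨0, by simp⟩
  | succ k ih =>
    obtain ⟨t, ht⟩ := ih
    refine ⟨t * (s + 1) + 1, ?_⟩
    rw [pow_succ, ht]
    ring

theorem gs_mod (q k : ℕ) (hq : 1 ≤ q) : ∃ t, gs q k = k + (q - 1) * t := by
  induction k with
  | zero => exact ⟨0, by simp [gs]⟩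
  | succ k ih =>
    obtain ⟨t, ht⟩ := ih
    obtain ⟨t', ht'⟩ := pow_eq_one_add q k hq
    refine ⟨t + t', ?_⟩
    have : gs q (k + 1) = gs q k + q ^ k := by
      unfold gs
      rw [Finset.sum_range_succ]
    rw [this, ht, ht']
    ring

theorem gs_pos (q k : ℕ) (hk : 1 ≤ k) : 0 < gs q k := by
  unfold gs
  calc 0 < q ^ 0 := by simp
    _ ≤ ∑ i ∈ Finset.range k, q ^ i :=
      Finset.single_le_sum (f := fun i => q ^ i) (fun i _ => Nat.zero_le _)
        (Finset.mem_range.2 (by omega))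

theorem gs_mul (q d e : ℕ) (hq : 2 ≤ q) : gs q (d * e) = gs q d * gs (q ^ d) e := by
  have h1 := gs_mul_pred q (d * e) (by omega)
  have hqd : 1 ≤ q ^ d := Nat.one_le_pow _ _ (by omega)
  have h2 := gs_mul_pred (q ^ d) e hqd
  have h3 := gs_mul_pred q d (by omega)
  have h4 : gs q (d * e) * (q - 1) = gs q d * gs (q ^ d) e * (q - 1) := by
    rw [h1, pow_mul, ← h2, ← h3]
    ring
  exact Nat.eq_of_mul_eq_mul_right (by omega : 0 < q - 1) h4

theorem gcd_dvd_gs (q n : ℕ) (hq : 1 ≤ q) : Nat.gcd n (q - 1) ∣ gs q n := by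
  obtain ⟨t, ht⟩ := gs_mod q n hq
  rw [ht]
  exact dvd_add (Nat.gcd_dvd_left _ _) (dvd_mul_of_dvd_left (Nat.gcd_dvd_right _ _) _)

theorem gcd_gs (q n : ℕ) (hq : 1 ≤ q) : Nat.gcd (gs q n) (q - 1) = Nat.gcd n (q - 1) := by
  obtain ⟨t, ht⟩ := gs_mod q n hq
  rw [ht, Nat.gcd_add_mul_left_left]

/-- the key divisibility for primary elements -/
theorem key_dvd (q d e : ℕ) (hq : 2 ≤ q) :
    gs q d * Nat.gcd e (q - 1) ∣ gs q (d * e) / Nat.gcd (d * e) (q - 1) * (q - 1) := by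
  set n := d * e with hn
  set δ := Nat.gcd n (q - 1) with hδ
  have hδpos : 0 < δ := Nat.gcd_pos_of_pos_right _ (by omega)
  have hM : gs q n / δ * δ = gs q n := Nat.div_mul_cancel (gcd_dvd_gs q n (by omega))
  have hcR : Nat.gcd e (q - 1) ∣ gs (q ^ d) e := by
    have hqd : 1 ≤ q ^ d := Nat.one_le_pow _ _ (by omega)
    obtain ⟨t, ht⟩ := gs_mod (q ^ d) e hqd
    obtain ⟨t', ht'⟩ := pow_eq_one_add q d (by omega)
    rw [ht, ht', Nat.add_sub_cancel_left]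
    exact dvd_add (Nat.gcd_dvd_left _ _)
      (dvd_mul_of_dvd_left (dvd_mul_of_dvd_left (Nat.gcd_dvd_right _ _) _) _)
  apply Nat.dvd_of_mul_dvd_mul_right hδpos
  have e1 : gs q n / δ * (q - 1) * δ = gs q d * gs (q ^ d) e * (q - 1) := by
    calc gs q n / δ * (q - 1) * δ = (gs q n / δ * δ) * (q - 1) := by ring
      _ = gs q n * (q - 1) := by rw [hM]
      _ = gs q d * gs (q ^ d) e * (q - 1) := by rw [hn, gs_mul q d e hq]
  rw [e1]
  exact mul_dvd_mul (mul_dvd_mul dvd_rfl hcR) (Nat.gcd_dvd_right _ _)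

/-- the key divisibility for the Singer element -/
theorem singer_dvd (q n k : ℕ) (hq : 2 ≤ q)
    (h : q ^ n - 1 ∣ (q - 1) * k * (q - 1)) : gs q n / Nat.gcd n (q - 1) ∣ k := by
  have hq1 : 0 < q - 1 := by omega
  rw [← gs_mul_pred q n (by omega)] at h
  have h1 : gs q n ∣ (q - 1) * k := Nat.dvd_of_mul_dvd_mul_right hq1 h
  set δ := Nat.gcd n (q - 1) with hδ
  have hδ' : Nat.gcd (gs q n) (q - 1) = δ := gcd_gs q n (by omega)
  have hδpos : 0 < δ := Nat.gcd_pos_of_pos_right _ hq1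
  have hcop : Nat.Coprime (gs q n / δ) ((q - 1) / δ) := by
    rw [← hδ']
    exact Nat.coprime_div_gcd_div_gcd (by rw [hδ']; exact hδpos)
  have hM : gs q n / δ * δ = gs q n := Nat.div_mul_cancel (gcd_dvd_gs q n (by omega))
  have hw : (q - 1) / δ * δ = q - 1 := Nat.div_mul_cancel (Nat.gcd_dvd_right _ _)
  have h2 : gs q n / δ * δ ∣ (q - 1) / δ * k * δ := by
    rw [hM]
    have : (q - 1) / δ * k * δ = (q - 1) * k := by
      calc (q - 1) / δ * k * δ = ((q - 1) / δ * δ) * k := by ring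
        _ = (q - 1) * k := by rw [hw]
    rw [this]
    exact h1
  have h3 : gs q n / δ ∣ (q - 1) / δ * k := Nat.dvd_of_mul_dvd_mul_right hδpos h2
  exact hcop.dvd_of_dvd_mul_left h3

theorem coprime_gs (q n p : ℕ) (hp : p.Prime) (hpq : p ∣ q) (hq : 2 ≤ q) (hn : 1 ≤ n) :
    Nat.Coprime (gs q n / Nat.gcd n (q - 1)) p := by
  have h1 : gs q n / Nat.gcd n (q - 1) ∣ q ^ n - 1 := by
    rw [← gs_mul_pred q n (by omega)]
    exact dvd_mul_of_dvd_left (Nat.div_dvd_of_dvd (gcd_dvd_gs q n (by omega))) _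
  apply Nat.Coprime.coprime_dvd_left h1
  rw [Nat.coprime_comm, Nat.Prime.coprime_iff_not_dvd hp]
  intro h2
  have h3 : p ∣ q ^ n := dvd_pow hpq (by omega)
  have h4 : 1 ≤ q ^ n := Nat.one_le_pow _ _ (by omega)
  have h5 : p ∣ q ^ n - (q ^ n - 1) := Nat.dvd_sub h3 h2
  have h6 : q ^ n - (q ^ n - 1) = 1 := by omega
  rw [h6] at h5
  exact hp.one_lt.ne' (Nat.dvd_one.1 h5)

theorem prime_ne_of_dvd_pred (q p r : ℕ) (hp : p.Prime) (hpq : p ∣ q) (hq : 2 ≤ q)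
    (hr : r ∣ q - 1) : p ≠ r := by
  rintro rfl
  have h5 : p ∣ q - (q - 1) := Nat.dvd_sub hpq hr
  have h6 : q - (q - 1) = 1 := by omega
  rw [h6] at h5
  exact hp.one_lt.ne' (Nat.dvd_one.1 h5)

end Cfsg.Agent.Lib.H12.SpecPSL
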