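import Mathlib

/-!
# Spectra of `PSL_n(q)³ × Z_r^m`: a non-scalar element of order `r` from a pair of complementary
idempotents (helper12)
-/

set_option autoImplicit false

namespace Cfsg.Agent.Lib.H12.SpecPSL

open Matrix

variable {F : Type*} [Field F] {ι : Type*} [Fintype ι] [DecidableEq ι]

theorem idem_sq_left {e₁ e₂ : Matrix ι ι F} (h12 : e₁ * e₂ = 0) (hs : e₁ + e₂ = 1) :
    e₁ * e₁ = e₁ := by
  calc e₁ * e₁ = e₁ * (e₁ + e₂) := by rw [mul_add, h12, add_zero]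
    _ = e₁ := by rw [hs, mul_one]

theorem idem_sq_right {e₁ e₂ : Matrix ι ι F} (h21 : e₂ * e₁ = 0) (hs : e₁ + e₂ = 1) :
    e₂ * e₂ = e₂ := by
  calc e₂ * e₂ = e₂ * (e₁ + e₂) := by rw [mul_add, h21, zero_add]
    _ = e₂ := by rw [hs, mul_one]

/-- the monoid homomorphism `(c₁, c₂) ↦ c₁ e₁ + c₂ e₂` -/
def idemHom (e₁ e₂ : Matrix ι ι F) (h12 : e₁ * e₂ = 0) (h21 : e₂ * e₁ = 0) (hs : e₁ + e₂ = 1) :
    F × F →* Matrix ι ι F where
  toFun c := c.1 • e₁ + c.2 • e₂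
  map_one' := by simp [hs]
  map_mul' := by
    intro c c'
    have h1 := idem_sq_left h12 hs
    have h2 := idem_sq_right h21 hs
    simp only [Prod.fst_mul, Prod.snd_mul, add_mul, mul_add, smul_mul_assoc, mul_smul_comm, h1, h2,
      h12, h21, smul_zero, add_zero, zero_add, smul_smul]
    congr 1 <;> rw [mul_comm]

theorem idemHom_apply (e₁ e₂ : Matrix ι ι F) (h12 : e₁ * e₂ = 0) (h21 : e₂ * e₁ = 0)
    (hs : e₁ + e₂ = 1) (c : F × F) : idemHom e₁ e₂ h12 h21 hs c = c.1 • e₁ + c.2 • e₂ := rfl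

theorem eq_of_idem_scalar {e₁ e₂ : Matrix ι ι F} (h12 : e₁ * e₂ = 0) (h21 : e₂ * e₁ = 0)
    (hs : e₁ + e₂ = 1) (h1 : e₁ ≠ 0) (h2 : e₂ ≠ 0) {c₁ c₂ l : F}
    (h : c₁ • e₁ + c₂ • e₂ = l • (1 : Matrix ι ι F)) : c₁ = c₂ := by
  have hs1 := idem_sq_left h12 hs
  have hs2 := idem_sq_right h21 hs
  have e1 : c₁ = l := by
    have := congrArg (fun M => M * e₁) h
    simp only [add_mul, smul_mul_assoc, hs1, h21, smul_zero, add_zero, one_mul] at this
    have h3 : (c₁ - l) • e₁ = 0 := by rw [sub_smul, this, sub_self]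
    rcases smul_eq_zero.1 h3 with h4 | h4
    · exact sub_eq_zero.1 h4
    · exact absurd h4 h1
  have e2 : c₂ = l := by
    have := congrArg (fun M => M * e₂) h
    simp only [add_mul, smul_mul_assoc, hs2, h12, smul_zero, zero_add, one_mul] at this
    have h3 : (c₂ - l) • e₂ = 0 := by rw [sub_smul, this, sub_self]
    rcases smul_eq_zero.1 h3 with h4 | h4
    · exact sub_eq_zero.1 h4
    · exact absurd h4 h2
  rw [e1, e2]

/-- an element of multiplicative order `r` in a finite field with `r ∣ q - 1` -/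
theorem exists_primitiveRoot [Fintype F] {r : ℕ} (hr : r.Prime) (hrq : r ∣ Fintype.card F - 1) :
    ∃ ω : F, IsPrimitiveRoot ω r := by
  classical
  have : Fact r.Prime := ⟨hr⟩
  have h1 : r ∣ Fintype.card Fˣ := by rw [Fintype.card_units]; exact hrq
  obtain ⟨x, hx⟩ := exists_prime_orderOf_dvd_card r h1
  refine ⟨(x : F), ?_⟩
  have := IsPrimitiveRoot.orderOf (x : F)
  rwa [orderOf_units, hx] at this

theorem exists_idem_z [Fintype F] {r : ℕ} (hr : r.Prime) (hrq : r ∣ Fintype.card F - 1)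
    (hrn : ¬ r ∣ Fintype.card ι) {e₁ e₂ : Matrix ι ι F} (h12 : e₁ * e₂ = 0) (h21 : e₂ * e₁ = 0)
    (hs : e₁ + e₂ = 1) (h1 : e₁ ≠ 0) (h2 : e₂ ≠ 0) :
    ∃ c₁ c₂ : F, (c₁ • e₁ + c₂ • e₂).det = 1 ∧ (c₁ • e₁ + c₂ • e₂) ^ r = 1 ∧
      ∀ l : F, c₁ • e₁ + c₂ • e₂ ≠ l • (1 : Matrix ι ι F) := by
  obtain ⟨ω, hω⟩ := exists_primitiveRoot (F := F) hr hrq
  have : NeZero r := ⟨hr.ne_zero⟩
  set φ := idemHom e₁ e₂ h12 h21 hs with hφ
  set D : F × F →* F := (Matrix.detMonoidHom).comp φ with hD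
  have hDr : ∀ c : F × F, c ^ r = 1 → D c ^ r = 1 := by
    intro c hc
    rw [← map_pow, hc, map_one]
  have hc1 : ((ω, 1) : F × F) ^ r = 1 := by
    rw [Prod.pow_mk, hω.pow_eq_one, one_pow]; rfl
  have hc2 : ((1, ω) : F × F) ^ r = 1 := by
    rw [Prod.pow_mk, hω.pow_eq_one, one_pow]; rfl
  obtain ⟨a₁, -, ha₁⟩ := hω.eq_pow_of_pow_eq_one (hDr _ hc1)
  obtain ⟨a₂, -, ha₂⟩ := hω.eq_pow_of_pow_eq_one (hDr _ hc2)
  have hprod : ω ^ (a₁ + a₂) = ω ^ Fintype.card ι := by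
    rw [pow_add, ha₁, ha₂, ← map_mul, Prod.mk_mul_mk, mul_one, one_mul, hD, MonoidHom.comp_apply,
      hφ, idemHom_apply, ← smul_add, hs, Matrix.coe_detMonoidHom, Matrix.det_smul, Matrix.det_one,
      mul_one]
  set c : F × F := ((ω, 1) : F × F) ^ a₂ * ((1, ω) : F × F) ^ ((r - 1) * a₁) with hc
  have hcval : c = (ω ^ a₂, ω ^ ((r - 1) * a₁)) := by
    rw [hc, Prod.pow_mk, Prod.pow_mk, Prod.mk_mul_mk, one_pow, one_pow, mul_one, one_mul]
  have hr1 : r - 1 + 1 = r := Nat.sub_add_cancel hr.one_le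
  have hDc : D c = 1 := by
    rw [hc, map_mul, map_pow, map_pow, ← ha₁, ← ha₂, ← pow_mul, ← pow_mul, ← pow_add]
    have : a₁ * a₂ + a₂ * ((r - 1) * a₁) = r * (a₁ * a₂) := by
      calc a₁ * a₂ + a₂ * ((r - 1) * a₁) = (r - 1 + 1) * (a₁ * a₂) := by ring
        _ = r * (a₁ * a₂) := by rw [hr1]
    rw [this, pow_mul, hω.pow_eq_one, one_pow]
  have hcr : c ^ r = 1 := by
    rw [hcval, Prod.pow_mk, ← pow_mul, ← pow_mul, mul_comm a₂, mul_comm _ r, pow_mul, pow_mul ω r,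
      hω.pow_eq_one, one_pow, one_pow]; rfl
  refine ⟨c.1, c.2, ?_, ?_, ?_⟩
  · have := hDc
    rwa [hD, MonoidHom.comp_apply, hφ, idemHom_apply, Matrix.coe_detMonoidHom] at this
  · rw [← idemHom_apply e₁ e₂ h12 h21 hs c, ← map_pow, hcr, map_one]
  · intro l hl
    have h3 := eq_of_idem_scalar h12 h21 hs h1 h2 hl
    rw [hcval] at h3
    simp only at h3
    have h4 : ω ^ (a₁ + a₂) = 1 := by
      rw [add_comm, pow_add, h3, ← pow_add]
      have : (r - 1) * a₁ + a₁ = r * a₁ := by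
        calc (r - 1) * a₁ + a₁ = (r - 1 + 1) * a₁ := by ring
          _ = r * a₁ := by rw [hr1]
      rw [this, pow_mul, hω.pow_eq_one, one_pow]
    rw [hprod] at h4
    exact hrn ((hω.pow_eq_one_iff_dvd _).1 h4)

end Cfsg.Agent.Lib.H12.SpecPSL
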