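import Mathlib
import Cfsg.Agent.Lib.H12.SpecC
import Cfsg.Agent.Lib.H12.Unipotent
import Cfsg.Agent.Lib.H12.SpecPSLC

/-!
# Spectra of `PSL_n(q)³ × Z_r^m`: unipotent and diagonal realizers in `PSL_n(q)` (helper12)
-/

set_option autoImplicit false
set_option linter.unusedSectionVars false

namespace Cfsg.Agent.Lib.H12.SpecPSL

open Matrix

variable {F : Type*} [Field F] {n : ℕ}

/-- the partial shift matrix: ones at `(i, i+1)` for `i + 1 < s` -/
def pshift (n s : ℕ) : Matrix (Fin n) (Fin n) F :=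
  Matrix.of fun i j => if j.val = i.val + 1 ∧ j.val < s then 1 else 0

theorem pshift_pow (s k : ℕ) :
    (pshift (F := F) n s) ^ (k + 1) =
      Matrix.of fun i j => if j.val = i.val + (k + 1) ∧ j.val < s then (1 : F) else 0 := by
  induction k with
  | zero => rw [zero_add, pow_one]; rfl
  | succ k ih =>
    rw [pow_succ, ih]
    ext i j
    simp only [Matrix.mul_apply, Matrix.of_apply, pshift]
    by_cases h : j.val = i.val + (k + 1 + 1) ∧ j.val < s
    · rw [if_pos h]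
      have hl : i.val + (k + 1) < n := by have := j.2; omega
      rw [Finset.sum_eq_single (⟨i.val + (k + 1), hl⟩ : Fin n)]
      · have h1 : (i.val + (k + 1) = i.val + (k + 1) ∧ i.val + (k + 1) < s) := ⟨rfl, by omega⟩
        have h2 : (j.val = i.val + (k + 1) + 1 ∧ j.val < s) := ⟨by omega, h.2⟩
        rw [if_pos h1, if_pos h2, mul_one]
      · intro b _ hb
        have : ¬ (b.val = i.val + (k + 1) ∧ b.val < s) := fun hh => hb (Fin.ext hh.1)
        rw [if_neg this, zero_mul]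
      · intro hh; exact absurd (Finset.mem_univ _) hh
    · rw [if_neg h]
      apply Finset.sum_eq_zero
      intro b _
      by_cases hb : b.val = i.val + (k + 1) ∧ b.val < s
      · have : ¬ (j.val = b.val + 1 ∧ j.val < s) := by omega
        rw [if_neg this, mul_zero]
      · rw [if_neg hb, zero_mul]

theorem pshift_pow_eq_zero (s k : ℕ) (hk : 1 ≤ k) (hsk : s ≤ k) :
    (pshift (F := F) n s) ^ k = 0 := by
  obtain ⟨k', rfl⟩ : ∃ k', k = k' + 1 := ⟨k - 1, by omega⟩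
  rw [pshift_pow]
  ext i j
  simp only [Matrix.of_apply, Matrix.zero_apply]
  rw [if_neg]
  omega

theorem one_add_pshift_pow_ne (s k : ℕ) (hk : 1 ≤ k) (hks : k < s) (hsn : s ≤ n) (l : F) :
    1 + (pshift (F := F) n s) ^ k ≠ l • (1 : Matrix (Fin n) (Fin n) F) := by
  obtain ⟨k', rfl⟩ : ∃ k', k = k' + 1 := ⟨k - 1, by omega⟩
  rw [pshift_pow]
  intro h
  have h0 : 0 < n := by omega
  have hkn : k' + 1 < n := by omega
  have h1 := congrFun (congrFun h ⟨0, h0⟩) ⟨k' + 1, hkn⟩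
  have hne : (⟨0, h0⟩ : Fin n) ≠ ⟨k' + 1, hkn⟩ := by
    intro hh
    have := congrArg Fin.val hh
    simp at this
  rw [Matrix.add_apply, Matrix.smul_apply, Matrix.one_apply_ne hne, Matrix.of_apply, smul_zero,
    zero_add, if_pos ⟨by simp, hks⟩] at h1
  exact one_ne_zero h1

theorem det_one_add_pshift (s : ℕ) : (1 + pshift (F := F) n s).det = 1 := by
  have h : (1 + pshift (F := F) n s).BlockTriangular id := by
    intro i j hij
    simp only [id] at hij
    have hne : i ≠ j := ne_of_gt hij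
    have hlt : j.val < i.val := hij
    rw [Matrix.add_apply, Matrix.one_apply_ne hne, pshift, Matrix.of_apply, if_neg, add_zero]
    omega
  rw [Matrix.det_of_isUpperTriangular h]
  apply Finset.prod_eq_one
  intro i _
  rw [Matrix.add_apply, Matrix.one_apply_eq, pshift, Matrix.of_apply, if_neg, add_zero]
  omega

/-- the unipotent element of `SL_n` -/
def uSL (n s : ℕ) : Matrix.SpecialLinearGroup (Fin n) F :=
  ⟨1 + pshift n s, det_one_add_pshift s⟩

theorem coe_uSL (s : ℕ) : ((uSL (F := F) n s : Matrix.SpecialLinearGroup (Fin n) F) :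
    Matrix (Fin n) (Fin n) F) = 1 + pshift n s := rfl

theorem uSL_pow (p : ℕ) [Fact p.Prime] [CharP F p] (s J : ℕ) :
    (((uSL (F := F) n s) ^ p ^ J : Matrix.SpecialLinearGroup (Fin n) F) :
      Matrix (Fin n) (Fin n) F) = 1 + pshift n s ^ p ^ J := by
  rw [Matrix.SpecialLinearGroup.coe_pow, coe_uSL, Cfsg.Agent.Lib.H12.one_add_pow_char_pow]

/-- the image in `PSL_n` -/
def uPSL (n s : ℕ) : Matrix.ProjectiveSpecialLinearGroup (Fin n) F :=
  QuotientGroup.mk (uSL n s)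

theorem uPSL_pow_eq_one (p : ℕ) [Fact p.Prime] [CharP F p] (s J : ℕ) (h : s ≤ p ^ J) :
    (uPSL (F := F) n s) ^ p ^ J = 1 := by
  have hp : 1 ≤ p ^ J := Nat.one_le_pow _ _ (Fact.out : p.Prime).pos
  have h1 : (uSL (F := F) n s) ^ p ^ J = 1 := by
    apply Subtype.ext
    rw [uSL_pow, pshift_pow_eq_zero s _ hp h, add_zero]
    rfl
  unfold uPSL
  rw [← QuotientGroup.mk_pow, h1]
  rfl

theorem uPSL_pow_ne_one (p : ℕ) [Fact p.Prime] [CharP F p] (s J : ℕ) (h : p ^ J < s)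
    (hsn : s ≤ n) : (uPSL (F := F) n s) ^ p ^ J ≠ 1 := by
  have hp : 1 ≤ p ^ J := Nat.one_le_pow _ _ (Fact.out : p.Prime).pos
  intro h1
  unfold uPSL at h1
  rw [← QuotientGroup.mk_pow, QuotientGroup.eq_one_iff] at h1
  obtain ⟨l, hl⟩ := Cfsg.Agent.Lib.H12.Spec.exists_smul_of_mem_center _ _ h1
  rw [← Matrix.SpecialLinearGroup.coe_pow, uSL_pow] at hl
  exact one_add_pshift_pow_ne s _ hp h hsn l hl

theorem orderOf_uPSL (p : ℕ) [Fact p.Prime] [CharP F p] (J : ℕ) (h : p ^ J + 1 ≤ n) :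
    orderOf (uPSL (F := F) n (p ^ J + 1)) = p ^ (J + 1) := by
  apply orderOf_eq_prime_pow
  · exact uPSL_pow_ne_one p _ J (by omega) h
  · apply uPSL_pow_eq_one
    have h2 : 2 ≤ p := (Fact.out : p.Prime).two_le
    have hp : 1 ≤ p ^ J := Nat.one_le_pow _ _ (Fact.out : p.Prime).pos
    rw [pow_succ]
    nlinarith

/-- the two diagonal idempotents -/
def dE₁ (n s : ℕ) : Matrix (Fin n) (Fin n) F :=
  Matrix.diagonal fun i => if i.val < s then 1 else 0

def dE₂ (n s : ℕ) : Matrix (Fin n) (Fin n) F :=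
  Matrix.diagonal fun i => if i.val < s then 0 else 1

theorem dE_mul (s : ℕ) : dE₁ (F := F) n s * dE₂ n s = 0 := by
  unfold dE₁ dE₂
  rw [Matrix.diagonal_mul_diagonal, ← Matrix.diagonal_zero]
  congr 1
  ext i
  by_cases h : i.val < s <;> simp [h]

theorem dE_mul' (s : ℕ) : dE₂ (F := F) n s * dE₁ n s = 0 := by
  unfold dE₁ dE₂
  rw [Matrix.diagonal_mul_diagonal, ← Matrix.diagonal_zero]
  congr 1
  ext i
  by_cases h : i.val < s <;> simp [h]

theorem dE_add (s : ℕ) : dE₁ (F := F) n s + dE₂ n s = 1 := by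
  unfold dE₁ dE₂
  rw [Matrix.diagonal_add, ← Matrix.diagonal_one]
  congr 1
  ext i
  by_cases h : i.val < s <;> simp [h]

theorem dE₁_ne_zero (s : ℕ) (hs : 1 ≤ s) (hn : 1 ≤ n) : dE₁ (F := F) n s ≠ 0 := by
  intro h
  have := congrFun (congrFun h ⟨0, hn⟩) ⟨0, hn⟩
  rw [dE₁, Matrix.diagonal_apply_eq, if_pos (by simp; omega), Matrix.zero_apply] at this
  exact one_ne_zero this

theorem dE₂_ne_zero (s : ℕ) (hs : s < n) : dE₂ (F := F) n s ≠ 0 := by
  intro h
  have := congrFun (congrFun h ⟨s, hs⟩) ⟨s, hs⟩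
  rw [dE₂, Matrix.diagonal_apply_eq, if_neg (by simp), Matrix.zero_apply] at this
  exact one_ne_zero this

theorem dE₁_comm (s : ℕ) : dE₁ (F := F) n s * pshift n s = pshift n s * dE₁ n s := by
  ext i j
  rw [dE₁, Matrix.diagonal_mul, Matrix.mul_diagonal, pshift, Matrix.of_apply]
  by_cases h : j.val = i.val + 1 ∧ j.val < s
  · rw [if_pos h, if_pos h.2, if_pos (by omega)]
  · rw [if_neg h, mul_zero, zero_mul]

theorem dE₂_comm (s : ℕ) : dE₂ (F := F) n s * pshift n s = pshift n s * dE₂ n s := by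
  have h : dE₂ (F := F) n s = 1 - dE₁ n s := by rw [← dE_add (F := F) (n := n) s]; abel
  rw [h, sub_mul, mul_sub, one_mul, mul_one, dE₁_comm]

/-- a non-central element of order `r` of `SL_n` commuting with the unipotent element `uSL n s` -/
theorem exists_zSL [Fintype F] {r : ℕ} (hr : r.Prime) (hrq : r ∣ Fintype.card F - 1)
    (hrn : ¬ r ∣ n) (s : ℕ) (hs : 1 ≤ s) (hsn : s < n) :
    ∃ z : Matrix.SpecialLinearGroup (Fin n) F, z ^ r = 1 ∧
      z ∉ Subgroup.center (Matrix.SpecialLinearGroup (Fin n) F) ∧ Commute z (uSL n s) := by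
  have hrn' : ¬ r ∣ Fintype.card (Fin n) := by rwa [Fintype.card_fin]
  obtain ⟨c₁, c₂, hdet, hpow, hns⟩ := exists_idem_z hr hrq hrn' (dE_mul (F := F) (n := n) s)
    (dE_mul' s) (dE_add s) (dE₁_ne_zero s hs (by omega)) (dE₂_ne_zero s hsn)
  obtain ⟨z, hz⟩ : ∃ z : Matrix.SpecialLinearGroup (Fin n) F,
      (z : Matrix (Fin n) (Fin n) F) = c₁ • dE₁ n s + c₂ • dE₂ n s := ⟨⟨_, hdet⟩, rfl⟩
  refine ⟨z, ?_, ?_, ?_⟩
  · apply Subtype.ext
    rw [Matrix.SpecialLinearGroup.coe_pow, hz]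
    exact hpow
  · intro hc
    rw [Matrix.SpecialLinearGroup.mem_center_iff] at hc
    obtain ⟨l, -, hl⟩ := hc
    apply hns l
    rw [← hz, ← hl, Matrix.scalar_apply, Matrix.smul_one_eq_diagonal]
  · apply Subtype.ext
    rw [Matrix.SpecialLinearGroup.coe_mul, Matrix.SpecialLinearGroup.coe_mul, coe_uSL, hz]
    simp only [add_mul, mul_add, mul_one, one_mul, smul_mul_assoc, mul_smul_comm, dE₁_comm,
      dE₂_comm, smul_add]
    abel

section final

variable [Fintype F]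

theorem orderOf_mk_z {r : ℕ} (hr : r.Prime) (z : Matrix.SpecialLinearGroup (Fin n) F)
    (hz : z ^ r = 1) (hzc : z ∉ Subgroup.center (Matrix.SpecialLinearGroup (Fin n) F)) :
    orderOf (QuotientGroup.mk z : Matrix.ProjectiveSpecialLinearGroup (Fin n) F) = r := by
  have : Fact r.Prime := ⟨hr⟩
  apply orderOf_eq_prime
  · rw [← QuotientGroup.mk_pow, hz]; rfl
  · intro h; exact hzc ((QuotientGroup.eq_one_iff z).1 h)

theorem exists_semi {r : ℕ} (hr : r.Prime) (hrq : r ∣ Fintype.card F - 1) (hrn : ¬ r ∣ n)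
    (hn : 2 ≤ n) : ∃ y : Matrix.ProjectiveSpecialLinearGroup (Fin n) F, orderOf y = r := by
  obtain ⟨z, hz, hzc, -⟩ := exists_zSL hr hrq hrn 1 le_rfl (by omega)
  exact ⟨_, orderOf_mk_z hr z hz hzc⟩

theorem exists_unip (p : ℕ) [Fact p.Prime] [CharP F p] (J : ℕ) (h : p ^ J + 1 ≤ n) :
    ∃ y : Matrix.ProjectiveSpecialLinearGroup (Fin n) F, orderOf y = p ^ (J + 1) :=
  ⟨_, orderOf_uPSL p J h⟩

theorem exists_mixed {r : ℕ} (hr : r.Prime) (hrq : r ∣ Fintype.card F - 1) (hrn : ¬ r ∣ n)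
    (p : ℕ) [Fact p.Prime] [CharP F p] (hpr : p ≠ r) (J : ℕ) (h : p ^ J + 1 < n) :
    ∃ y : Matrix.ProjectiveSpecialLinearGroup (Fin n) F, orderOf y = p ^ (J + 1) * r := by
  have hp1 : 1 ≤ p ^ J := Nat.one_le_pow _ _ (Fact.out : p.Prime).pos
  obtain ⟨z, hz, hzc, hcomm⟩ := exists_zSL (F := F) hr hrq hrn (p ^ J + 1) (by omega) h
  refine ⟨uPSL n (p ^ J + 1) * QuotientGroup.mk z, ?_⟩
  have hc : Commute (uPSL (F := F) n (p ^ J + 1)) (QuotientGroup.mk z) := by
    unfold uPSL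
    rw [Commute, SemiconjBy, ← QuotientGroup.mk_mul, ← QuotientGroup.mk_mul, hcomm.eq]
  have ho1 := orderOf_uPSL (F := F) p J (le_of_lt h)
  have ho2 := orderOf_mk_z hr z hz hzc
  rw [hc.orderOf_mul_eq_mul_orderOf_of_coprime, ho1, ho2]
  rw [ho1, ho2]
  exact Nat.Coprime.pow_left _ ((Nat.coprime_primes (Fact.out) hr).2 hpr)

end final

end Cfsg.Agent.Lib.H12.SpecPSL
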