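import Mathlib
import Cfsg.Agent.Lib.H12.SpecB
import Cfsg.Agent.Lib.H12.SpecPSLB

/-!
# Spectra of `PSL_n(q)³ × Z_r^m`: primary elements (helper12)

* `charpoly_dvd_minpoly_pow`: the characteristic polynomial divides a power of the minimal
  polynomial;
* `primary_pow_scalar`: a matrix of determinant `1` whose characteristic polynomial is a power of
  an irreducible polynomial has a scalar `M * p ^ T`-th power, `M = (q^n-1)/((q-1) gcd(n,q-1))`.
-/

set_option autoImplicit false
set_option linter.unusedSectionVars false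

namespace Cfsg.Agent.Lib.H12.SpecPSL

open Matrix Polynomial

section charpoly

variable {F : Type*} [Field F] {ι : Type*} [Fintype ι] [DecidableEq ι]

theorem exists_charmatrix_mul (g : Matrix ι ι F) (P : F[X]) :
    ∃ B : Matrix ι ι F[X],
      Matrix.scalar ι P - (C : F →+* F[X]).mapMatrix (aeval g P) = charmatrix g * B := by
  set Xm : Matrix ι ι F[X] := Matrix.scalar ι (X : F[X]) with hXm
  set Gm : Matrix ι ι F[X] := (C : F →+* F[X]).mapMatrix g with hGm
  have hch : charmatrix g = Xm - Gm := rfl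
  have hcomm : Commute Xm Gm := Matrix.scalar_commute _ (fun r' => Commute.all _ _) _
  induction P using Polynomial.induction_on' with
  | add P Q hP hQ =>
    obtain ⟨B₁, h₁⟩ := hP
    obtain ⟨B₂, h₂⟩ := hQ
    refine ⟨B₁ + B₂, ?_⟩
    rw [mul_add, ← h₁, ← h₂, map_add, map_add, map_add]
    abel
  | monomial k a =>
    have h1 : Matrix.scalar ι (monomial k a : F[X]) = Matrix.scalar ι (C a) * Xm ^ k := by
      rw [← C_mul_X_pow_eq_monomial, map_mul, map_pow]
    have h2 : (C : F →+* F[X]).mapMatrix (aeval g (monomial k a)) =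
        Matrix.scalar ι (C a) * Gm ^ k := by
      rw [aeval_monomial, map_mul, map_pow]
      congr 1
      rw [Matrix.algebraMap_eq_diagonal, RingHom.mapMatrix_apply,
        Matrix.diagonal_map (map_zero _), Matrix.scalar_apply]
      rfl
    refine ⟨Matrix.scalar ι (C a) * ∑ i ∈ Finset.range k, Xm ^ i * Gm ^ (k - 1 - i), ?_⟩
    have hsc : Commute (Matrix.scalar ι (C a)) (Xm - Gm) :=
      Matrix.scalar_commute _ (fun r' => Commute.all _ _) _
    rw [h1, h2, ← mul_sub, ← hcomm.mul_geom_sum₂, hch, ← mul_assoc, ← mul_assoc, hsc.eq]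

/-- the characteristic polynomial divides a power of the minimal polynomial -/
theorem charpoly_dvd_minpoly_pow (g : Matrix ι ι F) :
    g.charpoly ∣ (minpoly F g) ^ Fintype.card ι := by
  obtain ⟨B, hB⟩ := exists_charmatrix_mul g (minpoly F g)
  rw [minpoly.aeval, map_zero, sub_zero] at hB
  have h := congrArg Matrix.det hB
  rw [Matrix.det_mul, Matrix.scalar_apply, Matrix.det_diagonal, Finset.prod_const,
    Finset.card_univ] at h
  exact ⟨B.det, h⟩

theorem det_eq_of_charpoly_pow (g : Matrix ι ι F) (f : F[X]) (hf : f.Monic) (e : ℕ)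
    (h : g.charpoly = f ^ e) : g.det = ((-1) ^ f.natDegree * f.coeff 0) ^ e := by
  have h1 : Fintype.card ι = e * f.natDegree := by
    rw [← Matrix.charpoly_natDegree_eq_dim g, h, hf.natDegree_pow]
  rw [Matrix.det_eq_sign_charpoly_coeff, h, h1, Polynomial.coeff_zero_eq_eval_zero, eval_pow,
    ← Polynomial.coeff_zero_eq_eval_zero, mul_pow, ← pow_mul, mul_comm e]

end charpoly

section primary

variable {F : Type*} [Field F] [Fintype F]

theorem X_pow_sub_C_pow_char_pow (p : ℕ) [Fact p.Prime] [CharP F p] (N T : ℕ) (s : F) :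
    (X ^ N - C s : F[X]) ^ p ^ T = X ^ (N * p ^ T) - C (s ^ p ^ T) := by
  rw [sub_pow_char_pow, ← pow_mul, ← C_pow]

theorem primary_pow_scalar (p : ℕ) [Fact p.Prime] [CharP F p] {n : ℕ} (hn : 1 ≤ n)
    (g : Matrix (Fin n) (Fin n) F) (hdet : g.det = 1) (f : F[X]) (hf : f.Monic)
    (hirr : Irreducible f) (e : ℕ) (hch : g.charpoly = f ^ e) (T : ℕ) (hT : n ≤ p ^ T) :
    ∃ l : F, g ^ (gs (Fintype.card F) n / Nat.gcd n (Fintype.card F - 1) * p ^ T) =
      l • (1 : Matrix (Fin n) (Fin n) F) := by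
  have : Fact (Irreducible f) := ⟨hirr⟩
  set q := Fintype.card F with hq
  have hq2 : 2 ≤ q := Fintype.one_lt_card
  set d := f.natDegree with hd
  have hnd : n = d * e := by
    have := Matrix.charpoly_natDegree_eq_dim g
    rw [hch, hf.natDegree_pow, Fintype.card_fin] at this
    rw [← this, mul_comm]
  have he : 1 ≤ e := by
    rcases Nat.eq_zero_or_pos e with h | h
    · rw [h, mul_zero] at hnd; omega
    · exact h
  set ν : F := (-1) ^ d * f.coeff 0 with hν
  have hνe : ν ^ e = 1 := by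
    rw [← det_eq_of_charpoly_pow g f hf e hch, hdet]
  have hν0 : ν ≠ 0 := by
    intro h
    rw [h, zero_pow (by omega)] at hνe
    exact zero_ne_one hνe
  set θ := AdjoinRoot.root f with hθ
  have h1 : θ ^ gs q d = algebraMap F (AdjoinRoot f) ν :=
    Cfsg.Agent.Lib.H12.Spec.root_pow_geom f hf
  have h2 : θ ^ (gs q d * e) = 1 := by
    rw [pow_mul, h1, ← map_pow, hνe, map_one]
  have h3 : θ ^ (gs q d * (q - 1)) = 1 := by
    rw [pow_mul, h1, ← map_pow, FiniteField.pow_card_sub_one_eq_one ν hν0, map_one]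
  have h4 : θ ^ (gs q d * Nat.gcd e (q - 1)) = 1 := by
    rw [← Nat.gcd_mul_left]
    exact pow_gcd_eq_one.2 ⟨h2, h3⟩
  obtain ⟨w, hw⟩ := key_dvd q d e hq2
  rw [← hnd] at hw
  set M := gs q n / Nat.gcd n (q - 1) with hM
  have h5 : (θ ^ M) ^ (q - 1) = 1 := by
    rw [← pow_mul, hw, pow_mul, h4, one_pow]
  obtain ⟨s, hs⟩ := Cfsg.Agent.Lib.H12.Spec.mem_range_of_pow_card_sub_one_eq (F := F) _ h5
  have h6 : f ∣ X ^ M - C s := Cfsg.Agent.Lib.H12.Spec.dvd_of_root_pow f M s hs.symm
  have h7 : f ^ p ^ T ∣ X ^ (M * p ^ T) - C (s ^ p ^ T) := by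
    rw [← X_pow_sub_C_pow_char_pow]
    exact pow_dvd_pow_of_dvd h6 _
  have h8 : g.charpoly ∣ X ^ (M * p ^ T) - C (s ^ p ^ T) := by
    rw [hch]
    refine (pow_dvd_pow f ?_).trans h7
    have hd1 : 1 ≤ d := hirr.natDegree_pos
    calc e = 1 * e := (one_mul e).symm
      _ ≤ d * e := Nat.mul_le_mul_right e hd1
      _ = n := hnd.symm
      _ ≤ p ^ T := hT
  exact ⟨s ^ p ^ T, Cfsg.Agent.Lib.H12.Spec.pow_eq_smul_of_charpoly_dvd g _ _ h8⟩

end primary

end Cfsg.Agent.Lib.H12.SpecPSL
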