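import Mathlib
import Cfsg.Agent.Lib.H12.SpecD
import Cfsg.Agent.Lib.H12.SpecF
import Cfsg.Agent.Lib.H12.SemiB
import Cfsg.Agent.Lib.H12.SpecPSLC
import Cfsg.Agent.Lib.H12.SpecPSLE

/-!
# Spectra of `PSL_n(q)³ × Z_r^m`: the Singer element and the dichotomy (helper12)

* `exists_singer_PSL`: `PSL_n(q)` has an element of order divisible by
  `M = (q^n-1)/((q-1) gcd(n,q-1))`;
* `exists_comm_z`: a matrix whose minimal polynomial is a product of two coprime non-units
  commutes with a non-scalar matrix of determinant `1` and order `r`;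
* `dichotomy`: every `x ∈ PSL_n(q)` either has a companion of order `lcm (orderOf x) r`, or has
  order dividing `M * p ^ T`.
-/

set_option autoImplicit false
set_option linter.unusedSectionVars false

namespace Cfsg.Agent.Lib.H12.SpecPSL

open Matrix Polynomial

section singer

variable {F : Type*} [Field F]

theorem exists_PSL_of_matrix {n : ℕ} (M : Matrix (Fin n) (Fin n) F) (hdet : M.det = 1) (L : ℕ)
    (hL : ∀ (k : ℕ) (s : F), M ^ k = s • (1 : Matrix (Fin n) (Fin n) F) → L ∣ k) :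
    ∃ x : Matrix.ProjectiveSpecialLinearGroup (Fin n) F, L ∣ orderOf x :=
  ⟨QuotientGroup.mk ⟨M, hdet⟩, Cfsg.Agent.Lib.H12.Spec.dvd_orderOf_PSL ⟨M, hdet⟩ L hL⟩

theorem exists_PSL_of_end {n : ℕ} {V : Type*} [AddCommGroup V] [Module F V] [Module.Finite F V]
    (hV : Module.finrank F V = n) (g : Module.End F V) (hdet : LinearMap.det g = 1) (L : ℕ)
    (hL : ∀ (k : ℕ) (s : F), g ^ k = s • (1 : Module.End F V) → L ∣ k) :
    ∃ x : Matrix.ProjectiveSpecialLinearGroup (Fin n) F, L ∣ orderOf x := by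
  classical
  let b : Module.Basis (Fin n) F V := Module.finBasisOfFinrankEq F V hV
  apply exists_PSL_of_matrix (LinearMap.toMatrix b b g)
    (by rw [LinearMap.det_toMatrix]; exact hdet)
  intro k s hk
  apply hL k s
  apply (LinearMap.toMatrix b b).injective
  rw [← LinearMap.toMatrix_pow, hk, map_smul]
  congr 1
  exact (LinearMap.toMatrix_one b).symm

variable [Fintype F]

/-- the Singer torus of `PSL_n(q)` -/
theorem exists_singer_PSL (p : ℕ) [Fact p.Prime] [CharP F p] (n : ℕ) (hn : 1 ≤ n) :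
    ∃ x : Matrix.ProjectiveSpecialLinearGroup (Fin n) F,
      gs (Fintype.card F) n / Nat.gcd n (Fintype.card F - 1) ∣ orderOf x := by
  have : NeZero n := ⟨by omega⟩
  set Q := Fintype.card F with hQdef
  have hQ : 2 ≤ Q := Fintype.one_lt_card
  obtain ⟨γ, hγ⟩ := Cfsg.Agent.Lib.H12.Spec.exists_ext_generator (F := F) p n
  set K := FiniteField.Extension F p n with hK
  set t : K := ((γ ^ (Q - 1) : Kˣ) : K) with ht
  have hrank : Module.finrank F K = n := FiniteField.finrank_extension F p n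
  have hnorm : Algebra.norm F t = 1 := by
    apply (algebraMap F K).injective
    rw [FiniteField.algebraMap_norm_eq_pow_sum, hrank, Nat.card_eq_fintype_card, ← hQdef,
      map_one, ht, ← Units.val_pow_eq_pow_val, ← pow_mul]
    have : (Q - 1) * ∑ i ∈ Finset.range n, Q ^ i = Q ^ n - 1 := by
      rw [mul_comm]; exact gs_mul_pred Q n (by omega)
    rw [this, ← hγ, pow_orderOf_eq_one, Units.val_one]
  apply exists_PSL_of_end hrank (Algebra.lmul F K t) hnorm
  intro k s hk
  rw [← map_pow] at hk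
  have h1 := congrArg (fun f : Module.End F K => f 1) hk
  simp only [Algebra.lmul_algebraMap, LinearMap.smul_apply, Module.End.one_apply] at h1
  have h2 : t ^ k = algebraMap F K s := by
    have : (Algebra.lmul F K (t ^ k)) 1 = t ^ k := by simp
    rw [this] at h1
    rw [h1, Algebra.algebraMap_eq_smul_one]
  have hs0 : s ≠ 0 := by
    rintro rfl
    rw [map_zero, ht, ← Units.val_pow_eq_pow_val] at h2
    exact Units.ne_zero _ h2
  have h3 : (t ^ k) ^ (Q - 1) = 1 := by
    rw [h2, ← map_pow, hQdef, FiniteField.pow_card_sub_one_eq_one s hs0, map_one]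
  have h4 : γ ^ ((Q - 1) * k * (Q - 1)) = 1 := by
    apply Units.ext
    rw [pow_mul, pow_mul, Units.val_pow_eq_pow_val, Units.val_pow_eq_pow_val, ← ht, h3,
      Units.val_one]
  have h5 := orderOf_dvd_of_pow_eq_one h4
  rw [hγ, ← hQdef] at h5
  exact singer_dvd Q n k hQ h5

end singer

section decomposable

variable {F : Type*} [Field F] [Fintype F] {n : ℕ}

theorem aeval_comm_self (g : Matrix (Fin n) (Fin n) F) (P : F[X]) :
    aeval g P * g = g * aeval g P := by
  calc aeval g P * g = aeval g (P * X) := by rw [map_mul, aeval_X]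
    _ = aeval g (X * P) := by rw [mul_comm]
    _ = g * aeval g P := by rw [map_mul, aeval_X]

theorem exists_comm_z {r : ℕ} (hr : r.Prime) (hrq : r ∣ Fintype.card F - 1) (hrn : ¬ r ∣ n)
    (g : Matrix (Fin n) (Fin n) F) (P Q : F[X]) (hPQ : minpoly F g = P * Q)
    (hcop : IsCoprime P Q) (hP : ¬ IsUnit P) (hQ : ¬ IsUnit Q) :
    ∃ z : Matrix (Fin n) (Fin n) F, z.det = 1 ∧ z ^ r = 1 ∧
      (∀ l : F, z ≠ l • (1 : Matrix (Fin n) (Fin n) F)) ∧ z * g = g * z := by
  obtain ⟨a, b, hab⟩ := hcop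
  have hμ0 : minpoly F g ≠ 0 := minpoly.ne_zero (Matrix.isIntegral g)
  have hP0 : P ≠ 0 := by
    rintro rfl
    rw [zero_mul] at hPQ
    exact hμ0 hPQ
  have hQ0 : Q ≠ 0 := by
    rintro rfl
    rw [mul_zero] at hPQ
    exact hμ0 hPQ
  set e₁ := aeval g (b * Q) with he₁
  set e₂ := aeval g (a * P) with he₂
  have h12 : e₁ * e₂ = 0 := by
    rw [he₁, he₂, ← map_mul]
    have : b * Q * (a * P) = minpoly F g * (a * b) := by rw [hPQ]; ring
    rw [this, map_mul, minpoly.aeval, zero_mul]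
  have h21 : e₂ * e₁ = 0 := by
    rw [he₁, he₂, ← map_mul]
    have : a * P * (b * Q) = minpoly F g * (a * b) := by rw [hPQ]; ring
    rw [this, map_mul, minpoly.aeval, zero_mul]
  have hs : e₁ + e₂ = 1 := by
    rw [he₁, he₂, ← map_add, add_comm, hab, map_one]
  have h1 : e₁ ≠ 0 := by
    intro h
    have h2 : minpoly F g ∣ b * Q := minpoly.dvd F g h
    rw [hPQ, mul_dvd_mul_iff_right hQ0] at h2
    apply hP
    apply isUnit_of_dvd_one
    rw [← hab]
    exact dvd_add (dvd_mul_left _ _) (dvd_mul_of_dvd_left h2 _)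
  have h2 : e₂ ≠ 0 := by
    intro h
    have h2 : minpoly F g ∣ a * P := minpoly.dvd F g h
    rw [hPQ, mul_comm P Q, mul_dvd_mul_iff_right hP0] at h2
    apply hQ
    apply isUnit_of_dvd_one
    rw [← hab]
    exact dvd_add (dvd_mul_of_dvd_left h2 _) (dvd_mul_left _ _)
  have hrn' : ¬ r ∣ Fintype.card (Fin n) := by rwa [Fintype.card_fin]
  obtain ⟨c₁, c₂, hdet, hpow, hns⟩ := exists_idem_z hr hrq hrn' h12 h21 hs h1 h2
  refine ⟨c₁ • e₁ + c₂ • e₂, hdet, hpow, hns, ?_⟩
  rw [add_mul, mul_add, smul_mul_assoc, smul_mul_assoc, mul_smul_comm, mul_smul_comm, he₁, he₂,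
    aeval_comm_self, aeval_comm_self]

/-- the companion of order `lcm (orderOf x) r` -/
theorem exists_lcm_of_comm {r : ℕ} (hr : r.Prime) (g z : Matrix.SpecialLinearGroup (Fin n) F)
    (hz : z ^ r = 1) (hzc : z ∉ Subgroup.center (Matrix.SpecialLinearGroup (Fin n) F))
    (hcomm : Commute g z) :
    ∃ y : Matrix.ProjectiveSpecialLinearGroup (Fin n) F,
      orderOf y = Nat.lcm (orderOf (QuotientGroup.mk g :
        Matrix.ProjectiveSpecialLinearGroup (Fin n) F)) r := by
  have : Fact r.Prime := ⟨hr⟩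
  set x : Matrix.ProjectiveSpecialLinearGroup (Fin n) F := QuotientGroup.mk g with hx
  set Z : Matrix.ProjectiveSpecialLinearGroup (Fin n) F := QuotientGroup.mk z with hZ
  have hZo : orderOf Z = r := by
    apply orderOf_eq_prime
    · rw [hZ, ← QuotientGroup.mk_pow, hz]; rfl
    · intro h; exact hzc ((QuotientGroup.eq_one_iff z).1 h)
  have hc : Commute x Z := by
    rw [hx, hZ, Commute, SemiconjBy, ← QuotientGroup.mk_mul, ← QuotientGroup.mk_mul, hcomm.eq]
  by_cases hdvd : r ∣ orderOf x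
  · exact ⟨x, (Nat.lcm_eq_left hdvd).symm⟩
  · have hcop : Nat.Coprime (orderOf x) r :=
      Nat.Coprime.symm ((Nat.Prime.coprime_iff_not_dvd hr).2 hdvd)
    refine ⟨x * Z, ?_⟩
    rw [hc.orderOf_mul_eq_mul_orderOf_of_coprime (by rw [hZo]; exact hcop), hZo,
      hcop.lcm_eq_mul]

end decomposable

section dichotomy

variable {F : Type*} [Field F] [Fintype F] {n : ℕ}

theorem dichotomy (p : ℕ) [Fact p.Prime] [CharP F p] (hn : 1 ≤ n) {r : ℕ} (hr : r.Prime)
    (hrq : r ∣ Fintype.card F - 1) (hrn : ¬ r ∣ n) (T : ℕ) (hT : n ≤ p ^ T)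
    (x : Matrix.ProjectiveSpecialLinearGroup (Fin n) F) :
    (∃ y : Matrix.ProjectiveSpecialLinearGroup (Fin n) F, orderOf y = Nat.lcm (orderOf x) r) ∨
      orderOf x ∣ gs (Fintype.card F) n / Nat.gcd n (Fintype.card F - 1) * p ^ T := by
  have : NeZero n := ⟨by omega⟩
  obtain ⟨g, rfl⟩ := QuotientGroup.mk_surjective x
  set G : Matrix (Fin n) (Fin n) F := (g : Matrix (Fin n) (Fin n) F) with hG
  have hint : IsIntegral F G := Matrix.isIntegral G
  have hμ0 : minpoly F G ≠ 0 := minpoly.ne_zero hint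
  have hμ : 0 < (minpoly F G).natDegree := minpoly.natDegree_pos hint
  obtain ⟨f, hfm, hfi, hfd⟩ := Cfsg.Agent.Lib.H12.Semi.exists_monic_irreducible_factor hμ
  obtain ⟨k, Q, hQ, hμe⟩ := WfDvdMonoid.max_power_factor hμ0 hfi
  by_cases hu : IsUnit Q
  · right
    have h1 : G.charpoly ∣ f ^ (k * n) := by
      have h2 := charpoly_dvd_minpoly_pow G
      rw [Fintype.card_fin, hμe, mul_pow, ← pow_mul] at h2
      exact (IsUnit.dvd_mul_right (hu.pow n)).1 h2
    obtain ⟨e, -, he⟩ := (dvd_prime_pow hfi.prime _).1 h1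
    have he' : G.charpoly = f ^ e :=
      eq_of_monic_of_associated (Matrix.charpoly_monic G) (hfm.pow e) he
    obtain ⟨l, hl⟩ := primary_pow_scalar p hn G g.2 f hfm hfi e he' T hT
    exact Cfsg.Agent.Lib.H12.Spec.orderOf_PSL_dvd g _ l hl
  · left
    have hk : k ≠ 0 := by
      rintro rfl
      rw [pow_zero, one_mul] at hμe
      rw [hμe] at hfd
      exact hQ hfd
    have hP : ¬ IsUnit (f ^ k) := by
      rw [isUnit_pow_iff hk]
      exact hfi.not_isUnit
    have hcop : IsCoprime (f ^ k) Q := (hfi.coprime_iff_not_dvd.2 hQ).pow_left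
    obtain ⟨z, hdet, hpow, hns, hcomm⟩ := exists_comm_z hr hrq hrn G (f ^ k) Q hμe hcop hP hu
    obtain ⟨zs, hzs⟩ : ∃ zs : Matrix.SpecialLinearGroup (Fin n) F,
        (zs : Matrix (Fin n) (Fin n) F) = z := ⟨⟨z, hdet⟩, rfl⟩
    apply exists_lcm_of_comm hr g zs
    · apply Subtype.ext
      rw [Matrix.SpecialLinearGroup.coe_pow, hzs]
      exact hpow
    · intro hc
      rw [Matrix.SpecialLinearGroup.mem_center_iff] at hc
      obtain ⟨l, -, hl⟩ := hc
      apply hns l
      rw [← hzs, ← hl, Matrix.scalar_apply, Matrix.smul_one_eq_diagonal]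
    · apply Subtype.ext
      rw [Matrix.SpecialLinearGroup.coe_mul, Matrix.SpecialLinearGroup.coe_mul, hzs]
      exact hcomm.symm

end dichotomy

end Cfsg.Agent.Lib.H12.SpecPSL
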