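import Mathlib
import Cfsg.Agent.Lib.H12.SpecPSLB

/-!
# Spectra of `PSU_n(q)³ × Z_r^m`: arithmetic of alternating geometric sums (helper12)

`AU q n = |(-q)^n - 1|`, `hU q n = AU q n / (q+1)`, `MU q n = hU q n / gcd(n, q+1)`.
-/

set_option autoImplicit false

namespace Cfsg.Agent.Lib.H12.SpecPSU

open Cfsg.Agent.Lib.H12.SpecPSL

/-- the alternating geometric sum `1 - q + q² - ⋯ ± q^(n-1)` -/
def zU (q n : ℕ) : ℤ := ∑ i ∈ Finset.range n, (-(q : ℤ)) ^ i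

/-- `|(-q)^n - 1|` -/
def AU (q n : ℕ) : ℕ := if Even n then q ^ n - 1 else q ^ n + 1

/-- `|(-q)^n - 1| / (q + 1)` -/
def hU (q n : ℕ) : ℕ := (zU q n).natAbs

/-- the order of the Singer-type torus of `PSU_n(q)` -/
def MU (q n : ℕ) : ℕ := hU q n / Nat.gcd n (q + 1)

theorem zU_mul (q n : ℕ) : zU q n * (-(q : ℤ) - 1) = (-(q : ℤ)) ^ n - 1 := by
  unfold zU
  exact geom_sum_mul _ _

theorem AU_eq (q n : ℕ) (hq : 1 ≤ q) : (AU q n : ℤ) = |(-(q : ℤ)) ^ n - 1| := by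
  have h1 : (1 : ℤ) ≤ (q : ℤ) ^ n := by exact_mod_cast Nat.one_le_pow n q hq
  unfold AU
  split_ifs with h
  · rw [h.neg_pow, abs_of_nonneg (by linarith)]
    push_cast [Nat.cast_sub (Nat.one_le_pow n q hq)]
    ring
  · rw [Nat.not_even_iff_odd] at h
    rw [h.neg_pow, abs_of_nonpos (by linarith)]
    push_cast
    ring

theorem hU_mul_succ (q n : ℕ) (hq : 1 ≤ q) : hU q n * (q + 1) = AU q n := by
  have h1 := zU_mul q n
  have h2 := AU_eq q n hq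
  rw [← h1, abs_mul] at h2
  have h3 : |(-(q : ℤ) - 1)| = ((q + 1 : ℕ) : ℤ) := by
    rw [abs_of_nonpos (by linarith [Int.natCast_nonneg q])]
    push_cast
    ring
  rw [h3, Int.abs_eq_natAbs] at h2
  unfold hU
  exact_mod_cast h2.symm

theorem zU_modEq (q n : ℕ) : zU q n ≡ (n : ℤ) [ZMOD ((q + 1 : ℕ) : ℤ)] := by
  have h0 : (-(q : ℤ)) ≡ 1 [ZMOD ((q + 1 : ℕ) : ℤ)] := by
    rw [Int.modEq_iff_dvd]
    exact ⟨1, by push_cast; ring⟩
  unfold zU
  induction n with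
  | zero => simp
  | succ n ih =>
    rw [Finset.sum_range_succ]
    push_cast
    have h1 := h0.pow n
    rw [one_pow] at h1
    exact ih.add h1

theorem gcd_hU (q n : ℕ) : Nat.gcd (hU q n) (q + 1) = Nat.gcd n (q + 1) := by
  have h0 : zU q n % ((q + 1 : ℕ) : ℤ) = (n : ℤ) % ((q + 1 : ℕ) : ℤ) := zU_modEq q n
  have h1 : Int.gcd (zU q n) ((q + 1 : ℕ) : ℤ) = Int.gcd (n : ℤ) ((q + 1 : ℕ) : ℤ) := by
    rw [← Int.gcd_emod, h0, Int.gcd_emod]
  rw [Int.gcd_natCast_natCast] at h1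
  unfold hU
  rw [← h1]
  rfl

theorem gcd_dvd_hU (q n : ℕ) : Nat.gcd n (q + 1) ∣ hU q n := by
  rw [← gcd_hU]
  exact Nat.gcd_dvd_left _ _

theorem MU_mul (q n : ℕ) : MU q n * Nat.gcd n (q + 1) = hU q n :=
  Nat.div_mul_cancel (gcd_dvd_hU q n)

theorem MU_mul' (q n : ℕ) (hq : 1 ≤ q) : MU q n * (q + 1) * Nat.gcd n (q + 1) = AU q n := by
  rw [← hU_mul_succ q n hq, ← MU_mul q n]
  ring

theorem coprime_AU (q n p : ℕ) (hp : p.Prime) (hpq : p ∣ q) (hq : 1 ≤ q) (hn : 1 ≤ n) :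
    Nat.Coprime (AU q n) p := by
  rw [Nat.coprime_comm, Nat.Prime.coprime_iff_not_dvd hp]
  intro h2
  have h3 : p ∣ q ^ n := dvd_pow hpq (by omega)
  have h4 : 1 ≤ q ^ n := Nat.one_le_pow _ _ hq
  unfold AU at h2
  split_ifs at h2
  · have h5 : p ∣ q ^ n - (q ^ n - 1) := Nat.dvd_sub h3 h2
    have h6 : q ^ n - (q ^ n - 1) = 1 := by omega
    rw [h6] at h5
    exact hp.one_lt.ne' (Nat.dvd_one.1 h5)
  · have h5 : p ∣ q ^ n + 1 - q ^ n := Nat.dvd_sub h2 h3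
    rw [Nat.add_sub_cancel_left] at h5
    exact hp.one_lt.ne' (Nat.dvd_one.1 h5)

theorem coprime_MU (q n p : ℕ) (hp : p.Prime) (hpq : p ∣ q) (hq : 1 ≤ q) (hn : 1 ≤ n) :
    Nat.Coprime (MU q n) p := by
  apply Nat.Coprime.coprime_dvd_left _ (coprime_AU q n p hp hpq hq hn)
  rw [← MU_mul' q n hq, mul_assoc]
  exact dvd_mul_right _ _

theorem prime_ne_of_dvd_succ (q p r : ℕ) (hp : p.Prime) (hpq : p ∣ q) (hr : r ∣ q + 1) : p ≠ r := by
  rintro rfl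
  have h5 : p ∣ q + 1 - q := Nat.dvd_sub hr hpq
  rw [Nat.add_sub_cancel_left] at h5
  exact hp.one_lt.ne' (Nat.dvd_one.1 h5)

/-- the key divisibility for the Singer-type element -/
theorem singerU_dvd (q n k : ℕ) (hq : 1 ≤ q) (h : AU q n ∣ (q + 1) * (q + 1) * k) :
    MU q n ∣ k := by
  have hq1 : 0 < q + 1 := by omega
  rw [← hU_mul_succ q n hq] at h
  have h1 : hU q n ∣ (q + 1) * k := by
    apply Nat.dvd_of_mul_dvd_mul_right hq1
    have : (q + 1) * k * (q + 1) = (q + 1) * (q + 1) * k := by ring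
    rw [this]
    exact h
  set δ := Nat.gcd n (q + 1) with hδ
  have hδ' : Nat.gcd (hU q n) (q + 1) = δ := gcd_hU q n
  have hδpos : 0 < δ := Nat.gcd_pos_of_pos_right _ hq1
  have hcop : Nat.Coprime (hU q n / δ) ((q + 1) / δ) := by
    rw [← hδ']
    exact Nat.coprime_div_gcd_div_gcd (by rw [hδ']; exact hδpos)
  have hM : hU q n / δ * δ = hU q n := Nat.div_mul_cancel (gcd_dvd_hU q n)
  have hw : (q + 1) / δ * δ = q + 1 := Nat.div_mul_cancel (Nat.gcd_dvd_right _ _)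
  have h2 : hU q n / δ * δ ∣ (q + 1) / δ * k * δ := by
    rw [hM]
    have : (q + 1) / δ * k * δ = (q + 1) * k := by
      calc (q + 1) / δ * k * δ = ((q + 1) / δ * δ) * k := by ring
        _ = (q + 1) * k := by rw [hw]
    rw [this]
    exact h1
  have h3 : hU q n / δ ∣ (q + 1) / δ * k := Nat.dvd_of_mul_dvd_mul_right hδpos h2
  exact hcop.dvd_of_dvd_mul_left h3

theorem AU_even (q m : ℕ) : AU q (2 * m) = (q ^ 2) ^ m - 1 := by
  unfold AU
  rw [if_pos (even_two_mul m), pow_mul]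

theorem AU_odd (q n : ℕ) (hn : Odd n) : AU q n = q ^ n + 1 := by
  unfold AU
  rw [if_neg (Nat.not_even_iff_odd.2 hn)]

theorem AU_mul_odd (q d e : ℕ) (hd : Odd d) : AU q (d * e) = AU (q ^ d) e := by
  unfold AU
  have : Even (d * e) ↔ Even e := by
    rw [Nat.even_mul]
    constructor
    · rintro (h | h)
      · exact absurd h (Nat.not_even_iff_odd.2 hd)
      · exact h
    · intro h; exact Or.inr h
  simp only [this, pow_mul]

/-- the key divisibility for elements with a hyperbolic pair of primary components -/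
theorem keyU_even (q d e : ℕ) (hq : 2 ≤ q) :
    gs (q ^ 2) d * (q - 1) * Nat.gcd e (q + 1) ∣ MU q (2 * (d * e)) * (q + 1) := by
  set n := 2 * (d * e) with hn
  set δ := Nat.gcd n (q + 1) with hδ
  have hδpos : 0 < δ := Nat.gcd_pos_of_pos_right _ (by omega)
  have hq2 : 2 ≤ q ^ 2 := by nlinarith
  have hcR : Nat.gcd e (q + 1) ∣ gs ((q ^ 2) ^ d) e := by
    have hqd : 1 ≤ (q ^ 2) ^ d := Nat.one_le_pow _ _ (by omega)
    obtain ⟨t, ht⟩ := gs_mod ((q ^ 2) ^ d) e hqd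
    obtain ⟨t', ht'⟩ := pow_eq_one_add (q ^ 2) d (by omega)
    rw [ht, ht', Nat.add_sub_cancel_left]
    have h1 : q + 1 ∣ q ^ 2 - 1 := ⟨q - 1, by
      obtain ⟨s, rfl⟩ : ∃ s, q = s + 1 := ⟨q - 1, by omega⟩
      simp only [Nat.add_sub_cancel]
      have : (s + 1) ^ 2 = (s + 1 + 1) * s + 1 := by ring
      rw [this, Nat.add_sub_cancel]⟩
    exact dvd_add (Nat.gcd_dvd_left _ _)
      (dvd_mul_of_dvd_left (dvd_mul_of_dvd_left ((Nat.gcd_dvd_right _ _).trans h1) _) _)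
  apply Nat.dvd_of_mul_dvd_mul_right hδpos
  have e1 : MU q n * (q + 1) * δ = gs (q ^ 2) d * gs ((q ^ 2) ^ d) e * (q - 1) * (q + 1) := by
    rw [MU_mul' q n (by omega), hn, AU_even, ← gs_mul_pred (q ^ 2) (d * e) (by omega),
      gs_mul (q ^ 2) d e hq2]
    have : q ^ 2 - 1 = (q - 1) * (q + 1) := by
      obtain ⟨s, rfl⟩ : ∃ s, q = s + 1 := ⟨q - 1, by omega⟩
      simp only [Nat.add_sub_cancel]
      have : (s + 1) ^ 2 = s * (s + 1 + 1) + 1 := by ring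
      rw [this, Nat.add_sub_cancel]
    rw [this]
    ring
  rw [e1]
  have : gs (q ^ 2) d * gs ((q ^ 2) ^ d) e * (q - 1) * (q + 1) =
      gs (q ^ 2) d * (q - 1) * gs ((q ^ 2) ^ d) e * (q + 1) := by ring
  rw [this]
  exact mul_dvd_mul (mul_dvd_mul dvd_rfl hcR) (Nat.gcd_dvd_right _ _)

/-- the key divisibility for elements with a self-dual primary component -/
theorem keyU_odd (q d e : ℕ) (hq : 1 ≤ q) (hd : Odd d) :
    hU q d * Nat.gcd e (q + 1) ∣ MU q (d * e) * (q + 1) := by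
  set n := d * e with hn
  set δ := Nat.gcd n (q + 1) with hδ
  have hδpos : 0 < δ := Nat.gcd_pos_of_pos_right _ (by omega)
  have hqd : 1 ≤ q ^ d := Nat.one_le_pow _ _ hq
  have h1 : q + 1 ∣ q ^ d + 1 := by
    have := Odd.nat_add_dvd_pow_add_pow q 1 hd
    rwa [one_pow] at this
  have hcR : Nat.gcd e (q + 1) ∣ hU (q ^ d) e := by
    refine dvd_trans ?_ (gcd_dvd_hU (q ^ d) e)
    exact Nat.dvd_gcd (Nat.gcd_dvd_left _ _) ((Nat.gcd_dvd_right _ _).trans h1)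
  apply Nat.dvd_of_mul_dvd_mul_right hδpos
  have e1 : MU q n * (q + 1) * δ = hU q d * hU (q ^ d) e * (q + 1) := by
    rw [MU_mul' q n hq, hn, AU_mul_odd q d e hd, ← hU_mul_succ (q ^ d) e hqd,
      ← AU_odd q d hd, ← hU_mul_succ q d hq]
    ring
  rw [e1]
  exact mul_dvd_mul (mul_dvd_mul dvd_rfl hcR) (Nat.gcd_dvd_right _ _)

theorem hU_mul_succ_odd (q d : ℕ) (hq : 1 ≤ q) (hd : Odd d) : hU q d * (q + 1) = q ^ d + 1 := by
  rw [hU_mul_succ q d hq, AU_odd q d hd]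

/-- `1 + q² + ⋯ + q^(2d-2) ≡ (q^d+1)/(q+1)` modulo `q^d + 1`, for odd `d` -/
theorem gs_sq_eq (q d : ℕ) (hq : 2 ≤ q) (hd : Odd d) :
    ∃ t, gs (q ^ 2) d = hU q d + t * (q ^ d + 1) := by
  obtain ⟨m, rfl⟩ := hd
  have hq2 : 2 ≤ q ^ 2 := by nlinarith
  have hsq : q ^ 2 - 1 = (q - 1) * (q + 1) := by
    obtain ⟨s, rfl⟩ : ∃ s, q = s + 1 := ⟨q - 1, by omega⟩
    simp only [Nat.add_sub_cancel]
    have : (s + 1) ^ 2 = s * (s + 1 + 1) + 1 := by ring
    rw [this, Nat.add_sub_cancel]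
  -- `gs (q²) d = hU q d * gs q d`
  have h1 : gs (q ^ 2) (2 * m + 1) = hU q (2 * m + 1) * gs q (2 * m + 1) := by
    have h2 := gs_mul_pred (q ^ 2) (2 * m + 1) (by omega)
    have h3 := gs_mul_pred q (2 * m + 1) (by omega)
    have h4 := hU_mul_succ_odd q (2 * m + 1) (by omega) ⟨m, rfl⟩
    have h5 : (q ^ 2) ^ (2 * m + 1) - 1 = (q ^ (2 * m + 1) - 1) * (q ^ (2 * m + 1) + 1) := by
      have : 1 ≤ q ^ (2 * m + 1) := Nat.one_le_pow _ _ (by omega)
      obtain ⟨s, hs⟩ : ∃ s, q ^ (2 * m + 1) = s + 1 := ⟨q ^ (2 * m + 1) - 1, by omega⟩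
      rw [← pow_mul, mul_comm 2, pow_mul, hs]
      simp only [Nat.add_sub_cancel]
      have : (s + 1) ^ 2 = s * (s + 1 + 1) + 1 := by ring
      rw [this, Nat.add_sub_cancel]
    have h6 : gs (q ^ 2) (2 * m + 1) * (q ^ 2 - 1) =
        hU q (2 * m + 1) * gs q (2 * m + 1) * (q ^ 2 - 1) := by
      rw [h2, h5, ← h3, ← h4, hsq]
      ring
    exact Nat.eq_of_mul_eq_mul_right (by omega : 0 < q ^ 2 - 1) h6
  -- `gs q d = 1 + q (q+1) gs (q²) m`
  have h7 : gs q (2 * m + 1) = 1 + q * (q + 1) * gs (q ^ 2) m := by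
    have h8 := gs_mul_pred q (2 * m + 1) (by omega)
    have h9 := gs_mul_pred (q ^ 2) m (by omega)
    have h10 : (1 + q * (q + 1) * gs (q ^ 2) m) * (q - 1) = q ^ (2 * m + 1) - 1 := by
      have : (1 + q * (q + 1) * gs (q ^ 2) m) * (q - 1) =
          (q - 1) + q * (gs (q ^ 2) m * ((q - 1) * (q + 1))) := by ring
      rw [this, ← hsq, h9, ← pow_mul]
      have h11 : 1 ≤ q ^ (2 * m) := Nat.one_le_pow _ _ (by omega)
      obtain ⟨s, hs⟩ : ∃ s, q ^ (2 * m) = s + 1 := ⟨q ^ (2 * m) - 1, by omega⟩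
      rw [pow_succ, hs]
      simp only [Nat.add_sub_cancel]
      have : (s + 1) * q = q * s + q := by ring
      rw [this]
      omega
    exact Nat.eq_of_mul_eq_mul_right (by omega : 0 < q - 1) (h8.trans h10.symm)
  refine ⟨q * gs (q ^ 2) m, ?_⟩
  rw [h1, h7, ← hU_mul_succ_odd q (2 * m + 1) (by omega) ⟨m, rfl⟩]
  ring

end Cfsg.Agent.Lib.H12.SpecPSU
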