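import Mathlib
import Cfsg.Prelude.Def_Classical
import Cfsg.Agent.Lib.H12.SpecA
import Cfsg.Agent.Lib.H2.Unitary6

/-!
# Spectra of `PSU_n(q)³ × Z_r^m`: orders of elements of `PSU_n(q)` via matrices (helper12)
-/

set_option autoImplicit false
set_option linter.unusedSectionVars false

namespace Cfsg.Agent.Lib.H12.SpecPSU

open Matrix

variable {F : Type*} [Field F] {q n : ℕ}

/-- the matrix of an element of `SU_n(q)` -/
def smat (g : ↥(Cfsg.SU n F q)) : Matrix (Fin n) (Fin n) F :=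
  ((g : Matrix.SpecialLinearGroup (Fin n) F) : Matrix (Fin n) (Fin n) F)

theorem smat_mul (g h : ↥(Cfsg.SU n F q)) : smat (g * h) = smat g * smat h := rfl

theorem smat_one : smat (1 : ↥(Cfsg.SU n F q)) = 1 := rfl

theorem smat_pow (g : ↥(Cfsg.SU n F q)) (k : ℕ) : smat (g ^ k) = smat g ^ k := by
  unfold smat
  rw [SubgroupClass.coe_pow, Matrix.SpecialLinearGroup.coe_pow]

theorem smat_injective : Function.Injective (smat : ↥(Cfsg.SU n F q) → Matrix (Fin n) (Fin n) F) := by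
  intro g h hgh
  exact Subtype.ext (Subtype.ext hgh)

theorem smat_det (g : ↥(Cfsg.SU n F q)) : (smat g).det = 1 := g.1.2

theorem smat_pres (g : ↥(Cfsg.SU n F q)) (u v : Fin n → F) :
    Cfsg.hermForm n F q ((smat g).mulVec u) ((smat g).mulVec v) = Cfsg.hermForm n F q u v :=
  g.2 u v

/-- build an element of `SU_n(q)` -/
def mkS (M : Matrix (Fin n) (Fin n) F) (hdet : M.det = 1)
    (h : ∀ u v, Cfsg.hermForm n F q (M.mulVec u) (M.mulVec v) = Cfsg.hermForm n F q u v) :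
    ↥(Cfsg.SU n F q) := ⟨⟨M, hdet⟩, h⟩

theorem smat_mkS (M : Matrix (Fin n) (Fin n) F) (hdet : M.det = 1)
    (h : ∀ u v, Cfsg.hermForm n F q (M.mulVec u) (M.mulVec v) = Cfsg.hermForm n F q u v) :
    smat (mkS M hdet h) = M := rfl

theorem mem_center_of_scalar (g : ↥(Cfsg.SU n F q)) (s : F)
    (h : smat g = s • (1 : Matrix (Fin n) (Fin n) F)) : g ∈ Subgroup.center ↥(Cfsg.SU n F q) := by
  rw [Subgroup.mem_center_iff]
  intro B
  apply smat_injective
  rw [smat_mul, smat_mul, h, Matrix.mul_smul, Matrix.smul_mul, Matrix.mul_one, Matrix.one_mul]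

theorem orderOf_PSU_dvd (g : ↥(Cfsg.SU n F q)) (N : ℕ) (s : F)
    (h : smat g ^ N = s • (1 : Matrix (Fin n) (Fin n) F)) :
    orderOf (QuotientGroup.mk g : Cfsg.PSU n F q) ∣ N := by
  apply Cfsg.Agent.Lib.H12.Spec.orderOf_mk_dvd
  apply mem_center_of_scalar _ s
  rw [smat_pow, h]

variable [Fintype F]

theorem exists_smul_of_mem_center (hF : Fintype.card F = q ^ 2) (hn : 1 ≤ n)
    (g : ↥(Cfsg.SU n F q)) (h : g ∈ Subgroup.center ↥(Cfsg.SU n F q)) :
    ∃ s : F, smat g = s • (1 : Matrix (Fin n) (Fin n) F) := by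
  obtain ⟨l, h1, h2, hA⟩ := Cfsg.Agent.Lib.H2.Unitary.center_scalar hF hn g h
  refine ⟨(l : F), ?_⟩
  rw [hA]
  exact Cfsg.Agent.Lib.H2.Unitary.scSU_val l h1 h2

theorem dvd_orderOf_PSU (hF : Fintype.card F = q ^ 2) (hn : 1 ≤ n) (g : ↥(Cfsg.SU n F q)) (L : ℕ)
    (h : ∀ (k : ℕ) (s : F), smat g ^ k = s • (1 : Matrix (Fin n) (Fin n) F) → L ∣ k) :
    L ∣ orderOf (QuotientGroup.mk g : Cfsg.PSU n F q) := by
  apply Cfsg.Agent.Lib.H12.Spec.dvd_orderOf_mk
  intro k hk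
  obtain ⟨s, hs⟩ := exists_smul_of_mem_center hF hn (g ^ k) hk
  rw [smat_pow] at hs
  exact h k s hs

/-- the companion of order `lcm (orderOf x) r` -/
theorem exists_lcm_of_comm (hF : Fintype.card F = q ^ 2) (hn : 1 ≤ n) {r : ℕ} (hr : r.Prime)
    (g z : ↥(Cfsg.SU n F q)) (hz : z ^ r = 1)
    (hzc : ∀ l : F, smat z ≠ l • (1 : Matrix (Fin n) (Fin n) F)) (hcomm : Commute g z) :
    ∃ y : Cfsg.PSU n F q,
      orderOf y = Nat.lcm (orderOf (QuotientGroup.mk g : Cfsg.PSU n F q)) r := by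
  have : Fact r.Prime := ⟨hr⟩
  set x : Cfsg.PSU n F q := QuotientGroup.mk g with hx
  set Z : Cfsg.PSU n F q := QuotientGroup.mk z with hZ
  have hZo : orderOf Z = r := by
    apply orderOf_eq_prime
    · rw [hZ, ← QuotientGroup.mk_pow, hz]; rfl
    · intro h
      obtain ⟨s, hs⟩ := exists_smul_of_mem_center hF hn z ((QuotientGroup.eq_one_iff z).1 h)
      exact hzc s hs
  have hc : Commute x Z := by
    rw [hx, hZ, Commute, SemiconjBy, ← QuotientGroup.mk_mul, ← QuotientGroup.mk_mul, hcomm.eq]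
  by_cases hdvd : r ∣ orderOf x
  · exact ⟨x, (Nat.lcm_eq_left hdvd).symm⟩
  · have hcop : Nat.Coprime (orderOf x) r :=
      Nat.Coprime.symm ((Nat.Prime.coprime_iff_not_dvd hr).2 hdvd)
    refine ⟨x * Z, ?_⟩
    rw [hc.orderOf_mul_eq_mul_orderOf_of_coprime (by rw [hZo]; exact hcop), hZo,
      hcop.lcm_eq_mul]

end Cfsg.Agent.Lib.H12.SpecPSU
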