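import Mathlib
import Cfsg.Agent.Lib.H12.SpecPSLC
import Cfsg.Agent.Lib.H12.UnitI
import Cfsg.Agent.Lib.H12.SpecPSUB

/-!
# Spectra of `PSU_n(q)³ × Z_r^m`: the commuting element of order `r` for a decomposable
unitary matrix (helper12)
-/

set_option autoImplicit false
set_option linter.unusedSectionVars false

namespace Cfsg.Agent.Lib.H12.SpecPSU

open Matrix Polynomial Cfsg.Agent.Lib.H12.SpecPSL Cfsg.Agent.Lib.H12.USemi

section abstract

universe u v
variable {F : Type u} [Field F] {σ : F →+* F} {V : Type v} [AddCommGroup V] [Module F V]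

/-- a combination of two orthogonal complementary idempotents with norm-one coefficients is an
isometry -/
theorem iso_of_idem (B : V →ₛₗ[σ] V →ₗ[F] F) (E₁ E₂ : Module.End F V) (hs : E₁ + E₂ = 1)
    (h12 : ∀ x y, B (E₁ x) (E₂ y) = 0) (h21 : ∀ x y, B (E₂ x) (E₁ y) = 0) (c₁ c₂ : F)
    (hc1 : σ c₁ * c₁ = 1) (hc2 : σ c₂ * c₂ = 1) (u v : V) :
    B ((c₁ • E₁ + c₂ • E₂) u) ((c₁ • E₁ + c₂ • E₂) v) = B u v := by
  have hu : u = E₁ u + E₂ u := by rw [← LinearMap.add_apply, hs]; rfl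
  have hv : v = E₁ v + E₂ v := by rw [← LinearMap.add_apply, hs]; rfl
  have hR : B u v = B (E₁ u) (E₁ v) + B (E₂ u) (E₂ v) := by
    conv_lhs => rw [hu, hv]
    simp only [map_add, LinearMap.add_apply, h12, h21, add_zero, zero_add]
  rw [hR]
  simp only [LinearMap.add_apply, LinearMap.smul_apply, map_add, map_smulₛₗ, h12, h21,
    smul_eq_mul, mul_zero, add_zero, zero_add]
  linear_combination (B (E₁ u) (E₁ v)) * hc1 + (B (E₂ u) (E₂ v)) * hc2

end abstract

section matrix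

variable {F : Type*} [Field F] {n : ℕ}

theorem aeval_toLin'_eq (A : Matrix (Fin n) (Fin n) F) (Q : F[X]) :
    aeval (Matrix.toLin' A) Q = Matrix.toLin' (aeval A Q) :=
  Polynomial.aeval_algHom_apply
    (Matrix.toLinAlgEquiv' : Matrix (Fin n) (Fin n) F ≃ₐ[F] _).toAlgHom A Q

theorem aeval_comm_self' (g : Matrix (Fin n) (Fin n) F) (P : F[X]) :
    aeval g P * g = g * aeval g P := by
  calc aeval g P * g = aeval g (P * X) := by rw [map_mul, aeval_X]
    _ = aeval g (X * P) := by rw [mul_comm]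
    _ = g * aeval g P := by rw [map_mul, aeval_X]

theorem coeff_pow_of_idem {e₁ e₂ : Matrix (Fin n) (Fin n) F} (h12 : e₁ * e₂ = 0)
    (h21 : e₂ * e₁ = 0) (hs : e₁ + e₂ = 1) (h1 : e₁ ≠ 0) (h2 : e₂ ≠ 0) {c₁ c₂ : F} {r : ℕ}
    (h : (c₁ • e₁ + c₂ • e₂) ^ r = 1) : c₁ ^ r = 1 ∧ c₂ ^ r = 1 := by
  have hs1 := idem_sq_left h12 hs
  have hs2 := idem_sq_right h21 hs
  have h3 : (c₁ ^ r) • e₁ + (c₂ ^ r) • e₂ = 1 := by
    have := map_pow (idemHom e₁ e₂ h12 h21 hs) (c₁, c₂) r
    rw [idemHom_apply, idemHom_apply] at this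
    rw [← h, ← this]
    rfl
  constructor
  · have := congrArg (fun M => M * e₁) h3
    simp only [add_mul, smul_mul_assoc, hs1, h21, smul_zero, add_zero, one_mul] at this
    have h4 : (c₁ ^ r - 1) • e₁ = 0 := by rw [sub_smul, this, one_smul, sub_self]
    rcases smul_eq_zero.1 h4 with h5 | h5
    · exact sub_eq_zero.1 h5
    · exact absurd h5 h1
  · have := congrArg (fun M => M * e₂) h3
    simp only [add_mul, smul_mul_assoc, hs2, h12, smul_zero, zero_add, one_mul] at this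
    have h4 : (c₂ ^ r - 1) • e₂ = 0 := by rw [sub_smul, this, one_smul, sub_self]
    rcases smul_eq_zero.1 h4 with h5 | h5
    · exact sub_eq_zero.1 h5
    · exact absurd h5 h2

variable [Fintype F]

/-- a unitary matrix whose minimal polynomial splits into two coprime factors, the second coprime
to the dual of the first, commutes with a non-scalar unitary matrix of determinant `1` and
order `r` -/
theorem exists_comm_z_U {q : ℕ} (hF : Fintype.card F = q ^ 2) (σ : F →+* F)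
    (hσ : ∀ x, σ x = x ^ q) (hσ2 : ∀ a, σ (σ a) = a) (hne : ∃ a, σ a ≠ a)
    {r : ℕ} (hr : r.Prime) (hrq : r ∣ q + 1) (hrn : ¬ r ∣ n)
    (G : Matrix (Fin n) (Fin n) F)
    (hG : ∀ u v : Fin n → F, Cfsg.hermForm n F q (G.mulVec u) (G.mulVec v) =
      Cfsg.hermForm n F q u v)
    (P Q : F[X]) (hPQ : minpoly F G = P * Q) (hcop : IsCoprime P Q) (hP : ¬ IsUnit P)
    (hQ : ¬ IsUnit Q) (hdual : IsCoprime Q (dualP σ P)) :
    ∃ z : Matrix (Fin n) (Fin n) F, z.det = 1 ∧ z ^ r = 1 ∧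
      (∀ l : F, z ≠ l • (1 : Matrix (Fin n) (Fin n) F)) ∧ z * G = G * z ∧
      (∀ u v : Fin n → F, Cfsg.hermForm n F q (z.mulVec u) (z.mulVec v) =
        Cfsg.hermForm n F q u v) := by
  obtain ⟨a, b, hab⟩ := hcop
  have hμ0 : minpoly F G ≠ 0 := minpoly.ne_zero (Matrix.isIntegral G)
  have hP0 : P ≠ 0 := by
    rintro rfl
    rw [zero_mul] at hPQ
    exact hμ0 hPQ
  have hQ0 : Q ≠ 0 := by
    rintro rfl
    rw [mul_zero] at hPQ
    exact hμ0 hPQ
  set e₁ := aeval G (b * Q) with he₁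
  set e₂ := aeval G (a * P) with he₂
  have h12 : e₁ * e₂ = 0 := by
    rw [he₁, he₂, ← map_mul]
    have : b * Q * (a * P) = minpoly F G * (a * b) := by rw [hPQ]; ring
    rw [this, map_mul, minpoly.aeval, zero_mul]
  have h21 : e₂ * e₁ = 0 := by
    rw [he₁, he₂, ← map_mul]
    have : a * P * (b * Q) = minpoly F G * (a * b) := by rw [hPQ]; ring
    rw [this, map_mul, minpoly.aeval, zero_mul]
  have hs : e₁ + e₂ = 1 := by
    rw [he₁, he₂, ← map_add, add_comm, hab, map_one]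
  have h1 : e₁ ≠ 0 := by
    intro h
    have h2 : minpoly F G ∣ b * Q := minpoly.dvd F G h
    rw [hPQ, mul_dvd_mul_iff_right hQ0] at h2
    apply hP
    apply isUnit_of_dvd_one
    rw [← hab]
    exact dvd_add (dvd_mul_left _ _) (dvd_mul_of_dvd_left h2 _)
  have h2 : e₂ ≠ 0 := by
    intro h
    have h2 : minpoly F G ∣ a * P := minpoly.dvd F G h
    rw [hPQ, mul_comm P Q, mul_dvd_mul_iff_right hP0] at h2
    apply hQ
    apply isUnit_of_dvd_one
    rw [← hab]
    exact dvd_add (dvd_mul_of_dvd_left h2 _) (dvd_mul_left _ _)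
  have hrn' : ¬ r ∣ Fintype.card (Fin n) := by rwa [Fintype.card_fin]
  have hrq' : r ∣ Fintype.card F - 1 := by
    refine hrq.trans ?_
    rw [hF]
    exact ⟨q - 1, by
      rcases Nat.eq_zero_or_pos q with h0 | h0
      · subst h0; rfl
      · obtain ⟨s, rfl⟩ : ∃ s, q = s + 1 := ⟨q - 1, by omega⟩
        simp only [Nat.add_sub_cancel]
        have : (s + 1) ^ 2 = (s + 1 + 1) * s + 1 := by ring
        rw [this, Nat.add_sub_cancel]⟩
  obtain ⟨c₁, c₂, hdet, hpow, hns⟩ := exists_idem_z hr hrq' hrn' h12 h21 hs h1 h2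
  obtain ⟨hc1, hc2⟩ := coeff_pow_of_idem h12 h21 hs h1 h2 hpow
  have hnorm : ∀ c : F, c ^ r = 1 → σ c * c = 1 := by
    intro c hc
    obtain ⟨t, ht⟩ := hrq
    rw [hσ, ← pow_succ, ht, pow_mul, hc, one_pow]
  refine ⟨c₁ • e₁ + c₂ • e₂, hdet, hpow, hns, ?_, ?_⟩
  · rw [add_mul, mul_add, smul_mul_assoc, smul_mul_assoc, mul_smul_comm, mul_smul_comm, he₁, he₂,
      aeval_comm_self', aeval_comm_self']
  · have hU := uData_of_preserve n σ q hσ hσ2 hne G hG
    set g := Matrix.toLin' G with hg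
    have hμg : aeval g (minpoly F G) = 0 := by
      rw [hg, aeval_toLin'_eq, minpoly.aeval, map_zero]
    have hE1 : ∀ x, aeval g P (Matrix.toLin' e₁ x) = 0 := by
      intro x
      rw [he₁, ← aeval_toLin'_eq, ← hg, ← Module.End.mul_apply, ← map_mul]
      have : P * (b * Q) = minpoly F G * b := by rw [hPQ]; ring
      rw [this, map_mul, hμg, zero_mul, LinearMap.zero_apply]
    have hE2 : ∀ y, aeval g Q (Matrix.toLin' e₂ y) = 0 := by
      intro y
      rw [he₂, ← aeval_toLin'_eq, ← hg, ← Module.End.mul_apply, ← map_mul]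
      have : Q * (a * P) = minpoly F G * a := by rw [hPQ]; ring
      rw [this, map_mul, hμg, zero_mul, LinearMap.zero_apply]
    have h21' : ∀ x y, stdHerm n σ (Matrix.toLin' e₂ x) (Matrix.toLin' e₁ y) = 0 := by
      intro x y
      exact hU.ortho_of_coprime hdual (hE1 y) (hE2 x)
    have h12' : ∀ x y, stdHerm n σ (Matrix.toLin' e₁ x) (Matrix.toLin' e₂ y) = 0 := by
      intro x y
      exact hU.zero_symm (h21' y x)
    have hs' : Matrix.toLin' e₁ + Matrix.toLin' e₂ = 1 := by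
      rw [← map_add, hs, Matrix.toLin'_one]; rfl
    intro u v
    have key := iso_of_idem (stdHerm n σ) (Matrix.toLin' e₁) (Matrix.toLin' e₂) hs' h12' h21'
      c₁ c₂ (hnorm c₁ hc1) (hnorm c₂ hc2) v u
    rw [← stdHerm_eq_hermForm n σ q hσ, ← stdHerm_eq_hermForm n σ q hσ]
    have hz : ∀ w, (c₁ • e₁ + c₂ • e₂).mulVec w =
        (c₁ • Matrix.toLin' e₁ + c₂ • Matrix.toLin' e₂) w := by
      intro w
      rw [← Matrix.toLin'_apply, map_add, map_smul, map_smul]
    rw [hz, hz]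
    exact key

end matrix

end Cfsg.Agent.Lib.H12.SpecPSU
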