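import Mathlib
import Cfsg.Agent.Lib.H12.SpecB
import Cfsg.Agent.Lib.H12.SpecPSLE
import Cfsg.Agent.Lib.H12.SpecPSUA
import Cfsg.Agent.Lib.H12.UnitK

/-!
# Spectra of `PSU_n(q)³ × Z_r^m`: primary elements with a self-dual irreducible factor (helper12)
-/

set_option autoImplicit false
set_option linter.unusedSectionVars false

namespace Cfsg.Agent.Lib.H12.SpecPSU

open Matrix Polynomial Cfsg.Agent.Lib.H12.SpecPSL Cfsg.Agent.Lib.H12.USemi

section dual

universe u
variable {F : Type u} [Field F] {σ : F →+* F}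

theorem dualP_one : dualP σ (1 : F[X]) = 1 := by
  have := dualP_C (σ := σ) (1 : F)
  rwa [C_1, map_one, C_1] at this

theorem dualP_pow (a : F[X]) (k : ℕ) : dualP σ (a ^ k) = dualP σ a ^ k := by
  induction k with
  | zero => rw [pow_zero, pow_zero, dualP_one]
  | succ k ih => rw [pow_succ, dualP_mul, ih, pow_succ]

theorem dualP_coeff_zero (π : F[X]) : (dualP σ π).coeff 0 = σ π.leadingCoeff := by
  rw [dualP_coeff π 0 (Nat.zero_le _), Nat.sub_zero]
  rfl

theorem dualP_natDegree (π : F[X]) (h0 : π.coeff 0 ≠ 0) :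
    (dualP σ π).natDegree = π.natDegree := by
  apply le_antisymm (dualP_natDegree_le π)
  apply le_natDegree_of_ne_zero
  rw [dualP_coeff π _ le_rfl, Nat.sub_self]
  intro h
  exact h0 ((map_eq_zero σ).1 h)

theorem dualP_leadingCoeff (π : F[X]) (h0 : π.coeff 0 ≠ 0) :
    (dualP σ π).leadingCoeff = σ (π.coeff 0) := by
  rw [leadingCoeff, dualP_natDegree π h0, dualP_coeff π _ le_rfl, Nat.sub_self]

theorem dualP_X_pow_sub_C (s : F) (hs : σ s * s = 1) (M : ℕ) :
    dualP σ (X ^ M - C s : F[X]) = C (-σ s) * (X ^ M - C s) := by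
  unfold dualP
  rw [Polynomial.map_sub, Polynomial.map_pow, map_X, map_C, sub_eq_add_neg, ← C_neg,
    reverse_add_C, natDegree_X_pow]
  have h1 : (X ^ M : F[X]).reverse = 1 := by
    have h2 : (X ^ M : F[X]) = C 1 * X ^ M := by rw [C_1, one_mul]
    rw [h2, reverse_mul_X_pow, reverse_C, C_1]
  have h3 : -σ s * s = -1 := by rw [neg_mul, hs]
  rw [h1, mul_sub, ← C_mul, h3]
  simp only [C_neg, C_1]
  ring

/-- the dual of an irreducible polynomial with non-zero constant term is irreducible -/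
theorem irreducible_dualP (hσ2 : ∀ a, σ (σ a) = a) {π : F[X]} (hπ : Irreducible π)
    (h0 : π.coeff 0 ≠ 0) : Irreducible (dualP σ π) := by
  have hdd : dualP σ (dualP σ π) = π := dualP_dualP hσ2 h0
  have hπ0 : π ≠ 0 := hπ.ne_zero
  have hlc : (dualP σ π).coeff 0 ≠ 0 := by
    rw [dualP_coeff_zero]
    intro h
    exact (leadingCoeff_ne_zero.2 hπ0) ((map_eq_zero σ).1 h)
  refine ⟨?_, ?_⟩
  · intro hu
    obtain ⟨c, hc, hc'⟩ := Polynomial.isUnit_iff.1 hu
    apply hπ.not_isUnit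
    rw [← hdd, ← hc', dualP_C]
    exact Polynomial.isUnit_C.2 (hc.map σ)
  · intro a b hab
    have ha0 : a.coeff 0 ≠ 0 := by
      intro h
      apply hlc
      rw [hab, mul_coeff_zero, h, zero_mul]
    have hb0 : b.coeff 0 ≠ 0 := by
      intro h
      apply hlc
      rw [hab, mul_coeff_zero, h, mul_zero]
    have h1 : π = dualP σ a * dualP σ b := by rw [← dualP_mul, ← hab, hdd]
    rcases hπ.isUnit_or_isUnit h1 with hu | hu
    · left
      obtain ⟨c, hc, hc'⟩ := Polynomial.isUnit_iff.1 hu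
      rw [← dualP_dualP hσ2 ha0, ← hc', dualP_C]
      exact Polynomial.isUnit_C.2 (hc.map σ)
    · right
      obtain ⟨c, hc, hc'⟩ := Polynomial.isUnit_iff.1 hu
      rw [← dualP_dualP hσ2 hb0, ← hc', dualP_C]
      exact Polynomial.isUnit_C.2 (hc.map σ)

end dual

section scalar

variable {F : Type*} [Field F] [Fintype F]

theorem two_le_of_card {q : ℕ} (hF : Fintype.card F = q ^ 2) : 2 ≤ q := by
  have h1 : 1 < Fintype.card F := Fintype.one_lt_card
  rw [hF] at h1
  by_contra h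
  have : q ≤ 1 := by omega
  have : q ^ 2 ≤ 1 := by
    calc q ^ 2 ≤ 1 ^ 2 := Nat.pow_le_pow_left this 2
      _ = 1 := one_pow 2
  omega

theorem card_sub_one {q : ℕ} (hF : Fintype.card F = q ^ 2) :
    Fintype.card F - 1 = (q + 1) * (q - 1) := by
  have hq := two_le_of_card hF
  rw [hF]
  obtain ⟨s, rfl⟩ : ∃ s, q = s + 1 := ⟨q - 1, by omega⟩
  simp only [Nat.add_sub_cancel]
  have : (s + 1) ^ 2 = (s + 1 + 1) * s + 1 := by ring
  rw [this, Nat.add_sub_cancel]

/-- if the root `θ` of `f` satisfies `θ ^ (M (q+1)) = 1`, then `f ∣ X ^ M - s` for a scalar `s` of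
norm `1` -/
theorem exists_scalar_of_root_pow {q : ℕ} (hF : Fintype.card F = q ^ 2) (f : F[X])
    [hirr : Fact (Irreducible f)] (M : ℕ)
    (h : (AdjoinRoot.root f) ^ (M * (q + 1)) = 1) :
    ∃ s : F, s ^ (q + 1) = 1 ∧ f ∣ X ^ M - C s := by
  have h5 : ((AdjoinRoot.root f) ^ M) ^ (Fintype.card F - 1) = 1 := by
    rw [card_sub_one hF, ← pow_mul, ← mul_assoc, pow_mul, h, one_pow]
  obtain ⟨s, hs⟩ := Cfsg.Agent.Lib.H12.Spec.mem_range_of_pow_card_sub_one_eq (F := F) _ h5
  refine ⟨s, ?_, Cfsg.Agent.Lib.H12.Spec.dvd_of_root_pow f M s hs.symm⟩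
  apply (algebraMap F (AdjoinRoot f)).injective
  rw [map_pow, hs, ← pow_mul, h, map_one]

/-- a matrix whose characteristic polynomial divides a power of `X ^ M - s` has a scalar
`M p^T`-th power -/
theorem pow_scalar_of_charpoly_dvd (p : ℕ) [Fact p.Prime] [CharP F p] {n : ℕ}
    (g : Matrix (Fin n) (Fin n) F) (M : ℕ) (s : F) (T : ℕ)
    (h : g.charpoly ∣ (X ^ M - C s : F[X]) ^ p ^ T) :
    ∃ l : F, g ^ (M * p ^ T) = l • (1 : Matrix (Fin n) (Fin n) F) := by
  rw [X_pow_sub_C_pow_char_pow] at h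
  exact ⟨s ^ p ^ T, Cfsg.Agent.Lib.H12.Spec.pow_eq_smul_of_charpoly_dvd g _ _ h⟩

end scalar

section selfdual

universe u
variable {F : Type u} [Field F] [Fintype F]

/-- for a self-dual irreducible `f` of degree `d` over the field with `q²` elements, `d` is odd and
the root satisfies `θ ^ (q^d + 1) = 1` -/
theorem SelfDual.root_pow {q : ℕ} (hF : Fintype.card F = q ^ 2) {σ : F →+* F}
    {f : F[X]} [hirr : Fact (Irreducible f)] {c : F}
    (h : SelfDual σ f c) :
    Odd f.natDegree ∧ (AdjoinRoot.root f) ^ (q ^ f.natDegree + 1) = 1 := by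
  have hq := two_le_of_card hF
  have hfin : Module.Finite F (AdjoinRoot f) := h.monic.finite_adjoinRoot
  have : Finite (AdjoinRoot f) := h.finite
  have : Fintype (AdjoinRoot f) := Fintype.ofFinite _
  obtain ⟨x0, hx0⟩ := h.sigma_ne_id
  obtain ⟨Q, hQ2, hτ, hcard⟩ := exists_frob_of_involution h.sigma h.sigma_sigma ⟨x0, hx0⟩
  have hrank : Module.finrank F (AdjoinRoot f) = f.natDegree := by
    rw [(AdjoinRoot.powerBasis' h.monic).finrank, AdjoinRoot.powerBasis'_dim]
  have hQ : Q = q ^ f.natDegree := by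
    have h1 : Q ^ 2 = (q ^ f.natDegree) ^ 2 := by
      rw [← hcard, Nat.card_eq_fintype_card, Module.card_eq_pow_finrank (K := F)
        (V := AdjoinRoot f), hrank, hF, ← pow_mul, ← pow_mul, mul_comm]
    exact Nat.pow_left_injective (by norm_num : 2 ≠ 0) h1
  subst hQ
  have hθ0 : AdjoinRoot.root f ≠ 0 := h.root_ne_zero
  refine ⟨?_, ?_⟩
  · rw [← Nat.not_even_iff_odd]
    rintro ⟨m, hm⟩
    obtain ⟨a, ha⟩ := h.ne
    apply ha
    apply (algebraMap F (AdjoinRoot f)).injective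
    have h1 := hτ (algebraMap F (AdjoinRoot f) a)
    have h2 : h.sigma (algebraMap F (AdjoinRoot f) a) = algebraMap F (AdjoinRoot f) (σ a) :=
      h.sigma_of a
    rw [h2] at h1
    rw [h1, ← map_pow]
    congr 1
    rw [hm, ← two_mul, pow_mul, ← hF, FiniteField.pow_card_pow]
  · have h1 := hτ (AdjoinRoot.root f)
    rw [h.sigma_root] at h1
    rw [pow_succ, ← h1, inv_mul_cancel₀ hθ0]

/-- a unitary matrix of determinant `1` whose characteristic polynomial is a power of a self-dual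
irreducible polynomial has a scalar `M p^T`-th power -/
theorem primary_SD_pow_scalar {q : ℕ} (hF : Fintype.card F = q ^ 2) (p : ℕ) [Fact p.Prime]
    [CharP F p] (σ : F →+* F) (hσ2 : ∀ a, σ (σ a) = a)
    (hne : ∃ a, σ a ≠ a) {n : ℕ} (hn : 1 ≤ n)
    (g : Matrix (Fin n) (Fin n) F) (hdet : g.det = 1) (f : F[X]) (hf : f.Monic)
    (hirr : Irreducible f) (c : F) (hc : c ≠ 0) (hdual : dualP σ f = C c * f) (e : ℕ)
    (hch : g.charpoly = f ^ e) (T : ℕ) (hT : n ≤ p ^ T) :
    ∃ l : F, g ^ (MU q n * p ^ T) = l • (1 : Matrix (Fin n) (Fin n) F) := by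
  have : Fact (Irreducible f) := ⟨hirr⟩
  have hq := two_le_of_card hF
  have hSD : SelfDual σ f c := ⟨hσ2, hne, hf, hc, hdual⟩
  obtain ⟨hodd, hθQ⟩ := SelfDual.root_pow hF hSD
  set d := f.natDegree with hd
  have hnd : n = d * e := by
    have := Matrix.charpoly_natDegree_eq_dim g
    rw [hch, hf.natDegree_pow, Fintype.card_fin] at this
    rw [← this, mul_comm]
  have he : 1 ≤ e := by
    rcases Nat.eq_zero_or_pos e with h | h
    · rw [h, mul_zero] at hnd; omega
    · exact h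
  set ν : F := (-1) ^ d * f.coeff 0 with hν
  have hνe : ν ^ e = 1 := by
    rw [← det_eq_of_charpoly_pow g f hf e hch, hdet]
  set θ := AdjoinRoot.root f with hθ
  have h1 : θ ^ gs (q ^ 2) d = algebraMap F (AdjoinRoot f) ν := by
    have := Cfsg.Agent.Lib.H12.Spec.root_pow_geom f hf
    rw [hF] at this
    exact this
  obtain ⟨t, ht⟩ := gs_sq_eq q d hq hodd
  have h1' : θ ^ hU q d = algebraMap F (AdjoinRoot f) ν := by
    rw [← h1, ht, pow_add, mul_comm t, pow_mul, hθQ, one_pow, mul_one]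
  have h2 : θ ^ (hU q d * e) = 1 := by
    rw [pow_mul, h1', ← map_pow, hνe, map_one]
  have h3 : θ ^ (hU q d * (q + 1)) = 1 := by
    rw [hU_mul_succ_odd q d (by omega) hodd, hθQ]
  have h4 : θ ^ (hU q d * Nat.gcd e (q + 1)) = 1 := by
    rw [← Nat.gcd_mul_left]
    exact pow_gcd_eq_one.2 ⟨h2, h3⟩
  obtain ⟨w, hw⟩ := keyU_odd q d e (by omega) hodd
  rw [← hnd] at hw
  have h5 : θ ^ (MU q n * (q + 1)) = 1 := by
    rw [hw, pow_mul, h4, one_pow]
  obtain ⟨s, -, hs⟩ := exists_scalar_of_root_pow hF f (MU q n) h5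
  apply pow_scalar_of_charpoly_dvd p g (MU q n) s T
  rw [hch]
  refine (pow_dvd_pow f ?_).trans (pow_dvd_pow_of_dvd hs _)
  have hd1 : 1 ≤ d := hirr.natDegree_pos
  calc e = 1 * e := (one_mul e).symm
    _ ≤ d * e := Nat.mul_le_mul_right e hd1
    _ = n := hnd.symm
    _ ≤ p ^ T := hT

end selfdual

end Cfsg.Agent.Lib.H12.SpecPSU
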