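import Mathlib
import Cfsg.Agent.Lib.H12.SpecPSUD
import Cfsg.Agent.Lib.H12.UnitL

/-!
# Spectra of `PSU_n(q)³ × Z_r^m`: primary elements with a dual pair of irreducible factors
(helper12)
-/

set_option autoImplicit false
set_option linter.unusedSectionVars false

namespace Cfsg.Agent.Lib.H12.SpecPSU

open Matrix Polynomial Cfsg.Agent.Lib.H12.SpecPSL Cfsg.Agent.Lib.H12.USemi

universe u
variable {F : Type u} [Field F] [Fintype F]

/-- a unitary matrix of determinant `1` whose characteristic polynomial is a product of powers of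
an irreducible polynomial `f` and its dual (`f` coprime to its dual) has a scalar `M p^T`-th power -/
theorem primary_hyp_pow_scalar {q : ℕ} (hF : Fintype.card F = q ^ 2) (p : ℕ) [Fact p.Prime]
    [CharP F p] (σ : F →+* F) (hσ : ∀ x, σ x = x ^ q) (hσ2 : ∀ a, σ (σ a) = a)
    {n : ℕ} (hn : 1 ≤ n)
    (g : Matrix (Fin n) (Fin n) F) (hdet : g.det = 1)
    (hG : ∀ u v : Fin n → F, Cfsg.hermForm n F q (g.mulVec u) (g.mulVec v) =
      Cfsg.hermForm n F q u v)
    (f : F[X]) (hf : f.Monic) (hirr : Irreducible f) (h0 : f.coeff 0 ≠ 0)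
    (hcop : IsCoprime f (dualP σ f)) (a b : ℕ)
    (hch : Associated g.charpoly (f ^ a * dualP σ f ^ b)) (T : ℕ) (hT : n ≤ p ^ T) :
    ∃ l : F, g ^ (MU q n * p ^ T) = l • (1 : Matrix (Fin n) (Fin n) F) := by
  have : Fact (Irreducible f) := ⟨hirr⟩
  have hq := two_le_of_card hF
  set f' := dualP σ f with hf'
  set χ := g.charpoly with hχ
  set d := f.natDegree with hd
  have hd1 : 1 ≤ d := hirr.natDegree_pos
  have hf'irr : Irreducible f' := irreducible_dualP hσ2 hirr h0
  have hf'deg : f'.natDegree = d := dualP_natDegree f h0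
  have hf'lc : f'.leadingCoeff = σ (f.coeff 0) := dualP_leadingCoeff f h0
  have hf'0 : f'.coeff 0 = 1 := by rw [hf', dualP_coeff_zero, hf.leadingCoeff, map_one]
  have hdd : dualP σ f' = f := dualP_dualP hσ2 h0
  have hχm : χ.Monic := Matrix.charpoly_monic g
  -- the characteristic polynomial is self-dual
  have hpres : ∀ u v : Fin n → F, stdHerm n σ (g.mulVec u) (g.mulVec v) = stdHerm n σ u v := by
    intro u v
    rw [stdHerm_eq_hermForm n σ q hσ, stdHerm_eq_hermForm n σ q hσ]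
    exact hG v u
  have hSD := dualP_charpoly_of_preserve n g hpres
  rw [← hχ, hdet, map_one, one_mul] at hSD
  obtain ⟨w, hw⟩ := hch
  obtain ⟨c, hcu, hc⟩ := Polynomial.isUnit_iff.1 w.isUnit
  have hc0 : c ≠ 0 := hcu.ne_zero
  rw [← hc] at hw
  -- `a = b`
  have hw' : dualP σ χ * C (σ c) = f' ^ a * f ^ b := by
    have := congrArg (dualP σ) hw
    rwa [dualP_mul, dualP_mul, dualP_pow, dualP_pow, hdd, dualP_C] at this
  have hχdvd : χ ∣ f' ^ a * f ^ b := by
    rw [← hw', hSD]
    exact ⟨C ((-1) ^ n) * C (σ c), by ring⟩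
  have hfnu : ¬ IsUnit f := hirr.not_isUnit
  have hf'nu : ¬ IsUnit f' := hf'irr.not_isUnit
  have hab : a = b := by
    apply le_antisymm
    · have h1 : f ^ a ∣ χ := by
        have : f ^ a ∣ χ * C c := by rw [hw]; exact dvd_mul_right _ _
        exact (IsUnit.dvd_mul_right (Polynomial.isUnit_C.2 hcu)).1 this
      have h2 : f ^ a ∣ f' ^ a * f ^ b := h1.trans hχdvd
      have h3 : f ^ a ∣ f ^ b := (hcop.pow (m := a) (n := a)).dvd_of_dvd_mul_left h2
      exact (pow_dvd_pow_iff hirr.ne_zero hfnu).1 h3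
    · have h1 : f' ^ b ∣ χ := by
        have : f' ^ b ∣ χ * C c := by rw [hw]; exact dvd_mul_left _ _
        exact (IsUnit.dvd_mul_right (Polynomial.isUnit_C.2 hcu)).1 this
      have h2 : f' ^ b ∣ f' ^ a * f ^ b := h1.trans hχdvd
      have h3 : f' ^ b ∣ f' ^ a :=
        (hcop.symm.pow (m := b) (n := b)).dvd_of_dvd_mul_right h2
      exact (pow_dvd_pow_iff hf'irr.ne_zero hf'nu).1 h3
  subst hab
  -- the dimension
  have hnd : n = 2 * (d * a) := by
    have h1 := Matrix.charpoly_natDegree_eq_dim g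
    rw [Fintype.card_fin, ← hχ] at h1
    have h2 : (χ * C c).natDegree = χ.natDegree := natDegree_mul_C hc0
    rw [hw, natDegree_mul (pow_ne_zero _ hirr.ne_zero) (pow_ne_zero _ hf'irr.ne_zero),
      natDegree_pow, natDegree_pow, hf'deg, ← hd, h1] at h2
    rw [← h2]
    ring
  have ha1 : 1 ≤ a := by
    rcases Nat.eq_zero_or_pos a with h | h
    · rw [h, mul_zero, mul_zero] at hnd; omega
    · exact h
  -- the constant `c`
  have hc1 : c = σ (f.coeff 0) ^ a := by
    have := congrArg leadingCoeff hw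
    rwa [leadingCoeff_mul, leadingCoeff_mul, leadingCoeff_pow, leadingCoeff_pow, hχm.leadingCoeff,
      hf.leadingCoeff, hf'lc, leadingCoeff_C, one_mul, one_pow, one_mul] at this
  have hχ0 : χ.coeff 0 = 1 := by
    have h1 := Matrix.det_eq_sign_charpoly_coeff g
    rw [hdet, Fintype.card_fin, ← hχ, hnd, pow_mul, neg_one_sq, one_pow, one_mul] at h1
    exact h1.symm
  have hc2 : c = f.coeff 0 ^ a := by
    have := congrArg (fun P : F[X] => P.coeff 0) hw
    simp only [mul_coeff_zero, coeff_C_zero, hχ0, one_mul] at this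
    rw [this, coeff_zero_eq_eval_zero, coeff_zero_eq_eval_zero, eval_pow, eval_pow,
      ← coeff_zero_eq_eval_zero, ← coeff_zero_eq_eval_zero, hf'0, one_pow, mul_one]
  -- the norm `ν` of the root
  set ν : F := (-1) ^ d * f.coeff 0 with hν
  have hν0 : ν ≠ 0 := mul_ne_zero (pow_ne_zero _ (by norm_num)) h0
  have hσν : σ ν ^ a = ν ^ a := by
    rw [hν, map_mul, map_pow, map_neg, map_one, mul_pow, mul_pow, ← hc1, hc2]
  have hνa : ν ^ ((q - 1) * a) = 1 := by
    have h1 : ν ^ ((q - 1) * a) * ν ^ a = 1 * ν ^ a := by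
      rw [← pow_add, one_mul]
      have : (q - 1) * a + a = q * a := by
        calc (q - 1) * a + a = (q - 1 + 1) * a := by ring
          _ = q * a := by rw [Nat.sub_add_cancel (by omega)]
      rw [this, pow_mul, ← hσ, hσν]
    exact mul_right_cancel₀ (pow_ne_zero _ hν0) h1
  set θ := AdjoinRoot.root f with hθ
  have h1 : θ ^ gs (q ^ 2) d = algebraMap F (AdjoinRoot f) ν := by
    have := Cfsg.Agent.Lib.H12.Spec.root_pow_geom f hf
    rw [hF] at this
    exact this
  have h2 : θ ^ (gs (q ^ 2) d * ((q - 1) * a)) = 1 := by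
    rw [pow_mul, h1, ← map_pow, hνa, map_one]
  have h3 : θ ^ (gs (q ^ 2) d * ((q - 1) * (q + 1))) = 1 := by
    rw [pow_mul, h1, ← map_pow, mul_comm (q - 1), ← card_sub_one hF,
      FiniteField.pow_card_sub_one_eq_one ν hν0, map_one]
  have h4 : θ ^ (gs (q ^ 2) d * (q - 1) * Nat.gcd a (q + 1)) = 1 := by
    rw [mul_assoc, ← Nat.gcd_mul_left, ← Nat.gcd_mul_left]
    exact pow_gcd_eq_one.2 ⟨h2, h3⟩
  obtain ⟨k, hk⟩ := keyU_even q d a hq
  rw [← hnd] at hk
  have h5 : θ ^ (MU q n * (q + 1)) = 1 := by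
    rw [hk, pow_mul, h4, one_pow]
  obtain ⟨s, hs1, hs⟩ := exists_scalar_of_root_pow hF f (MU q n) h5
  have hss : σ s * s = 1 := by rw [hσ, ← pow_succ, hs1]
  have hs0 : s ≠ 0 := by
    rintro rfl
    rw [zero_pow (by omega)] at hs1
    exact zero_ne_one hs1
  have hs' : f' ∣ X ^ MU q n - C s := by
    obtain ⟨k', hk'⟩ := hs
    have h6 : f' * dualP σ k' = C (-σ s) * (X ^ MU q n - C s) := by
      rw [← dualP_X_pow_sub_C s hss, hk', dualP_mul]
    have h7 : IsUnit (C (-σ s) : F[X]) := by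
      apply Polynomial.isUnit_C.2
      rw [isUnit_iff_ne_zero, neg_ne_zero, Ne, map_eq_zero]
      exact hs0
    exact (IsUnit.dvd_mul_left h7).1 ⟨_, h6.symm⟩
  have hff' : f * f' ∣ X ^ MU q n - C s := hcop.mul_dvd hs hs'
  apply pow_scalar_of_charpoly_dvd p g (MU q n) s T
  have h8 : χ ∣ (f * f') ^ a := by
    rw [mul_pow, ← hw]
    exact dvd_mul_right _ _
  refine h8.trans ((pow_dvd_pow_of_dvd hff' a).trans (pow_dvd_pow _ ?_))
  calc a = 1 * a := (one_mul a).symm
    _ ≤ d * a := Nat.mul_le_mul_right a hd1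
    _ ≤ 2 * (d * a) := by omega
    _ = n := hnd.symm
    _ ≤ p ^ T := hT

end Cfsg.Agent.Lib.H12.SpecPSU
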