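import Mathlib
import Cfsg.Agent.Lib.H12.SemiB
import Cfsg.Agent.Lib.H12.SpecPSUC
import Cfsg.Agent.Lib.H12.SpecPSUE

/-!
# Spectra of `PSU_n(q)³ × Z_r^m`: the dichotomy (helper12)

Every `x ∈ PSU_n(q)` either has a companion of order `lcm (orderOf x) r`, or has order dividing
`M * p ^ T`, `M = (q^n - (-1)^n)/((q+1) gcd(n,q+1))`.
-/

set_option autoImplicit false
set_option linter.unusedSectionVars false

namespace Cfsg.Agent.Lib.H12.SpecPSU

open Matrix Polynomial Cfsg.Agent.Lib.H12.SpecPSL Cfsg.Agent.Lib.H12.USemi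

universe u
variable {F : Type u} [Field F] [Fintype F] {n : ℕ}

theorem dichotomy {q : ℕ} (hF : Fintype.card F = q ^ 2) (p : ℕ) [Fact p.Prime] [CharP F p]
    (σ : F →+* F) (hσ : ∀ x, σ x = x ^ q) (hσ2 : ∀ a, σ (σ a) = a) (hne : ∃ a, σ a ≠ a)
    (hn : 1 ≤ n) {r : ℕ} (hr : r.Prime) (hrq : r ∣ q + 1) (hrn : ¬ r ∣ n) (T : ℕ)
    (hT : n ≤ p ^ T) (x : Cfsg.PSU n F q) :
    (∃ y : Cfsg.PSU n F q, orderOf y = Nat.lcm (orderOf x) r) ∨
      orderOf x ∣ MU q n * p ^ T := by
  have : NeZero n := ⟨by omega⟩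
  obtain ⟨g, rfl⟩ := QuotientGroup.mk_surjective x
  set G : Matrix (Fin n) (Fin n) F := smat g with hG
  have hdet : G.det = 1 := smat_det g
  have hpres := smat_pres g
  rw [← hG] at hpres
  have hint : IsIntegral F G := Matrix.isIntegral G
  have hμ0 : minpoly F G ≠ 0 := minpoly.ne_zero hint
  have hμ : 0 < (minpoly F G).natDegree := minpoly.natDegree_pos hint
  obtain ⟨f, hfm, hfi, hfd⟩ := Cfsg.Agent.Lib.H12.Semi.exists_monic_irreducible_factor hμ
  have hχ0 : G.charpoly.coeff 0 ≠ 0 := by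
    intro h
    have h1 := Matrix.det_eq_sign_charpoly_coeff G
    rw [h, mul_zero, hdet] at h1
    exact one_ne_zero h1
  have hf0 : f.coeff 0 ≠ 0 := by
    intro h
    obtain ⟨k, hk⟩ := hfd.trans (Matrix.minpoly_dvd_charpoly G)
    apply hχ0
    rw [hk, mul_coeff_zero, h, zero_mul]
  obtain ⟨k, Q₁, hQ₁, hμe⟩ := WfDvdMonoid.max_power_factor hμ0 hfi
  have hk : k ≠ 0 := by
    rintro rfl
    rw [pow_zero, one_mul] at hμe
    rw [hμe] at hfd
    exact hQ₁ hfd
  have hQ₁0 : Q₁ ≠ 0 := by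
    rintro rfl
    rw [mul_zero] at hμe
    exact hμ0 hμe
  have hchμ : G.charpoly ∣ (minpoly F G) ^ n := by
    have h2 := charpoly_dvd_minpoly_pow G
    rwa [Fintype.card_fin] at h2
  -- the branch with a commuting element
  have hleft : ∀ P Q : F[X], minpoly F G = P * Q → IsCoprime P Q → ¬ IsUnit P → ¬ IsUnit Q →
      IsCoprime Q (dualP σ P) →
      ∃ y : Cfsg.PSU n F q,
        orderOf y = Nat.lcm (orderOf (QuotientGroup.mk g : Cfsg.PSU n F q)) r := by
    intro P Q hPQ hcop hP hQ hdual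
    obtain ⟨z, hzdet, hzpow, hzns, hzcomm, hzpres⟩ :=
      exists_comm_z_U hF σ hσ hσ2 hne hr hrq hrn G hpres P Q hPQ hcop hP hQ hdual
    apply exists_lcm_of_comm hF hn hr g (mkS z hzdet hzpres)
    · apply smat_injective
      rw [smat_pow, smat_mkS, smat_one]
      exact hzpow
    · intro l
      rw [smat_mkS]
      exact hzns l
    · apply smat_injective
      rw [smat_mul, smat_mul, smat_mkS]
      exact hzcomm.symm
  rcases dual_dichotomy (σ := σ) hfi hfm with hco | ⟨c, hc, hdual⟩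
  · -- `f` coprime to its dual
    set f' := dualP σ f with hf'
    have hf'irr : Irreducible f' := irreducible_dualP hσ2 hfi hf0
    have hdd : dualP σ f' = f := dualP_dualP hσ2 hf0
    obtain ⟨l, Q₂, hQ₂, hQ₁e⟩ := WfDvdMonoid.max_power_factor hQ₁0 hf'irr
    have hfQ₂ : ¬ f ∣ Q₂ := fun h => hQ₁ (h.trans ⟨f' ^ l, by rw [hQ₁e]; ring⟩)
    have hμe' : minpoly F G = f ^ k * f' ^ l * Q₂ := by rw [hμe, hQ₁e]; ring
    by_cases hu : IsUnit Q₂
    · right
      have h1 : G.charpoly ∣ f ^ (k * n) * f' ^ (l * n) := by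
        have h2 := hchμ
        rw [hμe', mul_pow, mul_pow, ← pow_mul, ← pow_mul] at h2
        exact (IsUnit.dvd_mul_right (hu.pow n)).1 h2
      obtain ⟨A₁, A₂, hA₁, hA₂, hA⟩ := exists_dvd_and_dvd_of_dvd_mul h1
      obtain ⟨a, -, ha⟩ := (dvd_prime_pow hfi.prime _).1 hA₁
      obtain ⟨b, -, hb⟩ := (dvd_prime_pow hf'irr.prime _).1 hA₂
      have hch : Associated G.charpoly (f ^ a * f' ^ b) := by
        rw [hA]
        exact ha.mul_mul hb
      obtain ⟨s, hs⟩ := primary_hyp_pow_scalar hF p σ hσ hσ2 hn G hdet hpres f hfm hfi hf0 hco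
        a b hch T hT
      exact orderOf_PSU_dvd g _ s hs
    · left
      apply hleft (f ^ k * f' ^ l) Q₂ hμe'
      · exact IsCoprime.mul_left ((hfi.coprime_iff_not_dvd.2 hfQ₂).pow_left)
          ((hf'irr.coprime_iff_not_dvd.2 hQ₂).pow_left)
      · intro hunit
        have : IsUnit (f ^ k) := isUnit_of_mul_isUnit_left hunit
        rw [isUnit_pow_iff hk] at this
        exact hfi.not_isUnit this
      · exact hu
      · rw [dualP_mul, dualP_pow, dualP_pow, hdd, ← hf']
        exact IsCoprime.mul_right ((hf'irr.coprime_iff_not_dvd.2 hQ₂).symm.pow_right)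
          ((hfi.coprime_iff_not_dvd.2 hfQ₂).symm.pow_right)
  · -- `f` self-dual
    by_cases hu : IsUnit Q₁
    · right
      have h1 : G.charpoly ∣ f ^ (k * n) := by
        have h2 := hchμ
        rw [hμe, mul_pow, ← pow_mul] at h2
        exact (IsUnit.dvd_mul_right (hu.pow n)).1 h2
      obtain ⟨e, -, he⟩ := (dvd_prime_pow hfi.prime _).1 h1
      have he' : G.charpoly = f ^ e :=
        eq_of_monic_of_associated (Matrix.charpoly_monic G) (hfm.pow e) he
      obtain ⟨s, hs⟩ := primary_SD_pow_scalar hF p σ hσ2 hne hn G hdet f hfm hfi c hc hdual e he'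
        T hT
      exact orderOf_PSU_dvd g _ s hs
    · left
      apply hleft (f ^ k) Q₁ hμe
      · exact (hfi.coprime_iff_not_dvd.2 hQ₁).pow_left
      · rw [isUnit_pow_iff hk]
        exact hfi.not_isUnit
      · exact hu
      · rw [dualP_pow, hdual]
        apply IsCoprime.pow_right
        rw [isCoprime_mul_unit_left_right (Polynomial.isUnit_C.2 (isUnit_iff_ne_zero.2 hc))]
        exact (hfi.coprime_iff_not_dvd.2 hQ₁).symm

end Cfsg.Agent.Lib.H12.SpecPSU
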