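import Mathlib
import Cfsg.Agent.Lib.H12.SpecF
import Cfsg.Agent.Lib.H12.SpecPSUB
import Cfsg.Agent.Lib.H12.SpecPSUD

/-!
# Spectra of `PSU_n(q)³ × Z_r^m`: the Singer-type torus of `PSU_n(q)` (helper12)

`exists_singer_PSU`: `PSU_n(q)` has an element of order divisible by
`M = (q^n - (-1)^n)/((q+1) gcd(n,q+1))`.
-/

set_option autoImplicit false
set_option linter.unusedSectionVars false

namespace Cfsg.Agent.Lib.H12.SpecPSU

open Matrix Polynomial Cfsg.Agent.Lib.H12.SpecPSL Cfsg.Agent.Lib.H12.USemi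

section general

universe u
variable {F : Type u} [Field F] {σ : F →+* F}

theorem Realizable.pow (hσ2 : ∀ a, σ (σ a) = a) (hne : ∃ a, σ a ≠ a) {P : F[X]}
    (hP : Realizable σ P) (k : ℕ) : Realizable σ (P ^ k) := by
  induction k with
  | zero => rw [pow_zero]; exact Realizable.one hσ2 hne
  | succ k ih => rw [pow_succ]; exact ih.mul hP

/-- the minimal polynomial of an element inverted by an automorphism extending `σ` is self-dual -/
theorem minpoly_dual {K : Type*} [Field K] [Algebra F K] (φ : K →+* K)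
    (hφ : ∀ a, φ (algebraMap F K a) = algebraMap F K (σ a)) (θ : K) (hθ0 : θ ≠ 0)
    (hint : IsIntegral F θ) (hφθ : φ θ = θ⁻¹) :
    ∃ c : F, c ≠ 0 ∧ dualP σ (minpoly F θ) = C c * minpoly F θ := by
  set f := minpoly F θ with hf
  have hirr : Irreducible f := minpoly.irreducible hint
  have hm : f.Monic := minpoly.monic hint
  have hθ' : θ⁻¹ ≠ 0 := inv_ne_zero hθ0
  let _ : Invertible (θ⁻¹) := invertibleOfNonzero hθ'
  have h1 := eval₂_reverse_mul_pow (algebraMap F K) (θ⁻¹) (f.map σ)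
  have h3 : (⅟(θ⁻¹)) = θ := by rw [invOf_eq_inv, inv_inv]
  have h2 : eval₂ (algebraMap F K) θ⁻¹ (f.map σ) = 0 := by
    rw [eval₂_map]
    have h4 : (algebraMap F K).comp σ = φ.comp (algebraMap F K) := by
      ext a
      exact (hφ a).symm
    rw [h4, ← hφθ, ← hom_eval₂]
    have : eval₂ (algebraMap F K) θ f = 0 := minpoly.aeval F θ
    rw [this, map_zero]
  rw [h3, h2] at h1
  have h5 : eval₂ (algebraMap F K) θ (dualP σ f) = 0 := by
    rcases mul_eq_zero.1 h1 with h | h
    · exact h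
    · exact absurd h (pow_ne_zero _ hθ')
  have hdvd : f ∣ dualP σ f := minpoly.dvd F θ h5
  rcases dual_dichotomy (σ := σ) hirr hm with hco | h
  · exact absurd (hco.isUnit_of_dvd hdvd) hirr.not_isUnit
  · exact h

/-- a scalar power of a matrix gives a scalar power of every root of its characteristic
polynomial -/
theorem root_pow_of_matrix_pow {K : Type*} [Field K] [Algebra F K] {n : ℕ}
    (A : Matrix (Fin n) (Fin n) F) (θ : K) (hθ : aeval θ A.charpoly = 0) (k : ℕ) (s : F)
    (h : A ^ k = s • (1 : Matrix (Fin n) (Fin n) F)) : θ ^ k = algebraMap F K s := by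
  have h1 : aeval A (X ^ k - C s : F[X]) = 0 := by
    rw [map_sub, map_pow, aeval_X, aeval_C, h, Algebra.algebraMap_eq_smul_one, sub_self]
  have h2 : minpoly F A ∣ X ^ k - C s := minpoly.dvd F A h1
  have h3 : aeval θ ((minpoly F A) ^ Fintype.card (Fin n)) = 0 := by
    obtain ⟨R, hR⟩ := charpoly_dvd_minpoly_pow A
    rw [hR, map_mul, hθ, zero_mul]
  rw [map_pow] at h3
  have h4 : aeval θ (minpoly F A) = 0 := by
    by_contra hne
    exact pow_ne_zero _ hne h3
  obtain ⟨R, hR⟩ := h2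
  have h5 := congrArg (aeval θ) hR
  rw [map_mul, h4, zero_mul, map_sub, map_pow, aeval_X, aeval_C, sub_eq_zero] at h5
  exact h5

theorem pres_pow {n : ℕ} (A : Matrix (Fin n) (Fin n) F)
    (hA : ∀ u v : Fin n → F, stdHerm n σ (A.mulVec u) (A.mulVec v) = stdHerm n σ u v) (k : ℕ)
    (u v : Fin n → F) :
    stdHerm n σ ((A ^ k).mulVec u) ((A ^ k).mulVec v) = stdHerm n σ u v := by
  induction k generalizing u v with
  | zero => rw [pow_zero, Matrix.one_mulVec, Matrix.one_mulVec]
  | succ k ih =>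
    rw [pow_succ, ← Matrix.mulVec_mulVec, ← Matrix.mulVec_mulVec, ih, hA]

theorem norm_of_scalar_pres {n : ℕ} (hn : 1 ≤ n) (s : F)
    (h : ∀ u v : Fin n → F, stdHerm n σ ((s • (1 : Matrix (Fin n) (Fin n) F)).mulVec u)
      ((s • (1 : Matrix (Fin n) (Fin n) F)).mulVec v) = stdHerm n σ u v) : σ s * s = 1 := by
  classical
  let i₀ : Fin n := ⟨0, by omega⟩
  have h1 := h (Pi.single i₀ 1) (Pi.single i₀ 1)
  rw [Matrix.smul_mulVec, Matrix.one_mulVec, map_smulₛₗ, map_smulₛₗ, LinearMap.smul_apply,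
    RingHom.id_apply, smul_eq_mul, smul_eq_mul, stdHerm_apply, Finset.sum_eq_single i₀] at h1
  · rw [Pi.single_eq_same, map_one, one_mul, mul_one, mul_comm] at h1
    exact h1
  · intro j _ hj
    rw [Pi.single_eq_of_ne hj, map_zero, zero_mul]
  · intro hi
    exact absurd (Finset.mem_univ i₀) hi

end general

section singer

universe u
variable {F : Type u} [Field F] [Fintype F]

theorem frob_odd {q : ℕ} (hF : Fintype.card F = q ^ 2) (x : F) (m : ℕ) :
    x ^ q ^ (2 * m + 1) = x ^ q := by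
  rw [pow_succ, pow_mul, pow_mul, ← hF, FiniteField.pow_card_pow]

/-- a realizable polynomial of degree `n` with a root of order `|(-q)^n - 1|` -/
theorem exists_singer_poly {q : ℕ} (hF : Fintype.card F = q ^ 2) (p a : ℕ) [Fact p.Prime]
    [CharP F p] (hq : q = p ^ a) (σ : F →+* F) (hσ : ∀ x, σ x = x ^ q)
    (hσ2 : ∀ a, σ (σ a) = a) (hne : ∃ a, σ a ≠ a) (n : ℕ) (hn : 1 ≤ n) :
    ∃ P : F[X], P.natDegree = n ∧ Realizable σ P ∧
      ∃ (K : Type) (_ : Field K) (_ : Algebra F K) (θ : K),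
        aeval θ P = 0 ∧ orderOf θ = AU q n := by
  have hq2 := two_le_of_card hF
  rcases Nat.even_or_odd n with hev | hodd
  · -- `n = 2 d`
    obtain ⟨d, hd⟩ := hev
    have hd1 : 1 ≤ d := by omega
    have : NeZero d := ⟨by omega⟩
    obtain ⟨γ, hγ⟩ := Cfsg.Agent.Lib.H12.Spec.exists_ext_generator (F := F) p d
    set K := FiniteField.Extension F p d with hK
    set θ : K := (γ : K) with hθ
    have hθ0 : θ ≠ 0 := Units.ne_zero γ
    have hint : IsIntegral F θ := Algebra.IsIntegral.isIntegral θ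
    set f := minpoly F θ with hf
    have hfm : f.Monic := minpoly.monic hint
    have hf0 : f.coeff 0 ≠ 0 := minpoly.coeff_zero_ne_zero hint hθ0
    obtain ⟨ρ, e, hρm, he, hdual, hreal⟩ := Realizable.hyp hσ2 hne hfm hf0
    have hρdeg : ρ.natDegree = f.natDegree := by
      rw [← dualP_natDegree (σ := σ) f hf0, hdual, natDegree_C_mul he]
    obtain ⟨t, ht⟩ : f.natDegree ∣ d := by
      have := minpoly.degree_dvd (K := F) (L := K) hint
      rwa [FiniteField.finrank_extension] at this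
    refine ⟨(f * ρ) ^ t, ?_, Realizable.pow hσ2 hne hreal t, K, inferInstance, inferInstance, θ,
      ?_, ?_⟩
    · rw [natDegree_pow, natDegree_mul hfm.ne_zero hρm.ne_zero, hρdeg, hd, ht]
      ring
    · rw [map_pow, map_mul, minpoly.aeval, zero_mul, zero_pow]
      rintro rfl
      rw [mul_zero] at ht
      omega
    · rw [hθ, orderOf_units, hγ, hF, hd, ← two_mul, AU_even]
  · -- `n` odd
    have : NeZero n := ⟨by omega⟩
    obtain ⟨γ, hγ⟩ := Cfsg.Agent.Lib.H12.Spec.exists_ext_generator (F := F) p n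
    set K := FiniteField.Extension F p n with hK
    have hqn : 1 ≤ q ^ n := Nat.one_le_pow _ _ (by omega)
    have hfac : Fintype.card F ^ n - 1 = (q ^ n - 1) * (q ^ n + 1) := by
      rw [hF, ← pow_mul, mul_comm 2 n, pow_mul]
      obtain ⟨s, hs⟩ : ∃ s, q ^ n = s + 1 := ⟨q ^ n - 1, by omega⟩
      rw [hs]
      simp only [Nat.add_sub_cancel]
      have : (s + 1) ^ 2 = s * (s + 1 + 1) + 1 := by ring
      rw [this, Nat.add_sub_cancel]
    have hqn1 : q ^ n - 1 ≠ 0 := by
      have : 2 ^ 1 ≤ q ^ n :=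
        (Nat.pow_le_pow_left hq2 1).trans (Nat.pow_le_pow_right (by omega) hn)
      omega
    set θu : Kˣ := γ ^ (q ^ n - 1) with hθu
    have hord : orderOf θu = q ^ n + 1 := by
      rw [hθu, orderOf_pow_of_dvd hqn1 (by rw [hγ, hfac]; exact dvd_mul_right _ _), hγ, hfac,
        Nat.mul_div_cancel_left _ (Nat.pos_of_ne_zero hqn1)]
    set θ : K := (θu : K) with hθ
    have hθ0 : θ ≠ 0 := Units.ne_zero θu
    have hθord : orderOf θ = q ^ n + 1 := by rw [hθ, orderOf_units, hord]
    have hθpow : θ ^ (q ^ n + 1) = 1 := by rw [← hθord]; exact pow_orderOf_eq_one θ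
    have hint : IsIntegral F θ := Algebra.IsIntegral.isIntegral θ
    have : CharP K p := charP_of_injective_algebraMap (algebraMap F K).injective p
    have : ExpChar K p := ExpChar.prime Fact.out
    set φ : K →+* K := iterateFrobenius K p (a * n) with hφ
    have hφx : ∀ x, φ x = x ^ q ^ n := by
      intro x
      rw [hφ, iterateFrobenius_def, pow_mul, ← hq]
    have hφθ : φ θ = θ⁻¹ := by
      rw [hφx]
      apply eq_inv_of_mul_eq_one_left
      rw [← pow_succ, hθpow]
    have hφF : ∀ x, φ (algebraMap F K x) = algebraMap F K (σ x) := by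
      intro x
      obtain ⟨m, hm⟩ := hodd
      have e1 : x ^ q ^ n = x ^ q := by rw [hm]; exact frob_odd hF x m
      rw [hφx, ← map_pow, hσ, e1]
    obtain ⟨c, hc, hdual⟩ := minpoly_dual φ hφF θ hθ0 hint hφθ
    set f := minpoly F θ with hf
    have hfm : f.Monic := minpoly.monic hint
    have : Fact (Irreducible f) := ⟨minpoly.irreducible hint⟩
    have hSD : SelfDual σ f c := ⟨hσ2, hne, hfm, hc, hdual⟩
    obtain ⟨t, ht⟩ : f.natDegree ∣ n := by
      have := minpoly.degree_dvd (K := F) (L := K) hint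
      rwa [FiniteField.finrank_extension] at this
    refine ⟨f ^ t, ?_, Realizable.pow hσ2 hne (Realizable.of_selfDual hSD) t, K, inferInstance,
      inferInstance, θ, ?_, ?_⟩
    · rw [natDegree_pow, ht, mul_comm]
    · rw [map_pow, minpoly.aeval, zero_pow]
      rintro rfl
      rw [mul_zero] at ht
      omega
    · rw [hθord, AU_odd q n hodd]

/-- the Singer-type torus of `PSU_n(q)` -/
theorem exists_singer_PSU {q : ℕ} (hF : Fintype.card F = q ^ 2) (p a : ℕ) [Fact p.Prime]
    [CharP F p] (hq : q = p ^ a) (σ : F →+* F) (hσ : ∀ x, σ x = x ^ q)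
    (hσ2 : ∀ a, σ (σ a) = a) (hne : ∃ a, σ a ≠ a) (n : ℕ) (hn : 1 ≤ n) :
    ∃ x : Cfsg.PSU n F q, MU q n ∣ orderOf x := by
  have hq2 := two_le_of_card hF
  obtain ⟨P, hdeg, hreal, K, _, _, θ, hθ, hord⟩ :=
    exists_singer_poly hF p a hq σ hσ hσ2 hne n hn
  obtain ⟨A, hA, hAch⟩ := hreal.exists_matrix hσ2 hne hdeg
  set B := A ^ (q + 1) with hB
  have hBpres : ∀ u v : Fin n → F, stdHerm n σ (B.mulVec u) (B.mulVec v) = stdHerm n σ u v :=
    pres_pow A hA (q + 1)
  have hBdet : B.det = 1 := by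
    have h1 := det_mul_sigma_det n σ A hA
    rw [hB, Matrix.det_pow, pow_succ, ← hσ]
    exact h1
  have hBherm : ∀ u v : Fin n → F, Cfsg.hermForm n F q (B.mulVec u) (B.mulVec v) =
      Cfsg.hermForm n F q u v := by
    intro u v
    rw [← stdHerm_eq_hermForm n σ q hσ, ← stdHerm_eq_hermForm n σ q hσ]
    exact hBpres v u
  refine ⟨QuotientGroup.mk (mkS B hBdet hBherm), ?_⟩
  apply dvd_orderOf_PSU hF hn
  intro k s hk
  rw [smat_mkS] at hk
  have h1 : A ^ ((q + 1) * k) = s • (1 : Matrix (Fin n) (Fin n) F) := by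
    rw [pow_mul]; exact hk
  have h2 : θ ^ ((q + 1) * k) = algebraMap F K s :=
    root_pow_of_matrix_pow A θ (by rw [hAch]; exact hθ) _ s h1
  have hs : σ s * s = 1 := by
    apply norm_of_scalar_pres hn
    rw [← hk]
    exact pres_pow B hBpres k
  have h3 : θ ^ ((q + 1) * (q + 1) * k) = 1 := by
    have : (q + 1) * (q + 1) * k = (q + 1) * k * (q + 1) := by ring
    rw [this, pow_mul, h2, ← map_pow, pow_succ, ← hσ, hs, map_one]
  have h4 := orderOf_dvd_of_pow_eq_one h3
  rw [hord] at h4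
  exact singerU_dvd q n k (by omega) h4

end singer

end Cfsg.Agent.Lib.H12.SpecPSU
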