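import Mathlib
import Cfsg.Agent.Lib.H11.Jordan7
import Cfsg.Agent.Lib.H12.Unipotent
import Cfsg.Agent.Lib.H12.SpecPSLC
import Cfsg.Agent.Lib.H12.SpecPSUB

/-!
# Spectra of `PSU_n(q)³ × Z_r^m`: unipotent, semisimple and mixed elements of `PSU_n(q)` in block
diagonal form (helper12)
-/

set_option autoImplicit false
set_option linter.unusedSectionVars false

namespace Cfsg.Agent.Lib.H12.SpecPSU

open Matrix Cfsg.Agent.Lib.H13.AutPSU Cfsg.Agent.Lib.H11.Jordan

section blk

variable {F : Type*} [Field F] {q : ℕ} (D : UF F q)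

/-- the block diagonal embedding -/
def blk (s t : ℕ) : Matrix (Fin s) (Fin s) F × Matrix (Fin t) (Fin t) F →*
    Matrix (Fin (s + t)) (Fin (s + t)) F where
  toFun X := Matrix.reindex finSumFinEquiv finSumFinEquiv (Matrix.fromBlocks X.1 0 0 X.2)
  map_one' := by
    simp only [Prod.fst_one, Prod.snd_one, Matrix.fromBlocks_one, Matrix.reindex_apply,
      Matrix.submatrix_one_equiv]
  map_mul' := by
    intro X Y
    simp only [Prod.fst_mul, Prod.snd_mul, Matrix.reindex_apply, Matrix.submatrix_mul_equiv,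
      Matrix.fromBlocks_multiply, Matrix.mul_zero, Matrix.zero_mul, add_zero, zero_add]

theorem blk_apply (s t : ℕ) (X : Matrix (Fin s) (Fin s) F × Matrix (Fin t) (Fin t) F) :
    blk s t X = Matrix.reindex finSumFinEquiv finSumFinEquiv (Matrix.fromBlocks X.1 0 0 X.2) :=
  rfl

theorem blk_injective (s t : ℕ) : Function.Injective (blk (F := F) s t) := by
  intro X Y h
  rw [blk_apply, blk_apply] at h
  have h1 := (Matrix.reindex finSumFinEquiv finSumFinEquiv).injective h
  rw [Matrix.fromBlocks_inj] at h1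
  exact Prod.ext h1.1 h1.2.2.2

theorem blk_smul_one (s t : ℕ) (l : F) :
    blk s t (l • (1 : Matrix (Fin s) (Fin s) F), l • (1 : Matrix (Fin t) (Fin t) F)) =
      l • (1 : Matrix (Fin (s + t)) (Fin (s + t)) F) := by
  rw [blk_apply]
  simp only
  have h2 : Matrix.fromBlocks (l • (1 : Matrix (Fin s) (Fin s) F)) 0 0
      (l • (1 : Matrix (Fin t) (Fin t) F)) = l • (1 : Matrix (Fin s ⊕ Fin t) (Fin s ⊕ Fin t) F) := by
    rw [← Matrix.fromBlocks_one, Matrix.fromBlocks_smul]
    simp only [smul_zero]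
  rw [h2, Matrix.reindex_apply]
  have h3 : (l • (1 : Matrix (Fin s ⊕ Fin t) (Fin s ⊕ Fin t) F)).submatrix
      (finSumFinEquiv (m := s) (n := t)).symm (finSumFinEquiv (m := s) (n := t)).symm =
      l • ((1 : Matrix (Fin s ⊕ Fin t) (Fin s ⊕ Fin t) F).submatrix
        (finSumFinEquiv (m := s) (n := t)).symm (finSumFinEquiv (m := s) (n := t)).symm) := rfl
  rw [h3, Matrix.submatrix_one_equiv]

theorem ct_blk (s t : ℕ) (X : Matrix (Fin s) (Fin s) F × Matrix (Fin t) (Fin t) F) :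
    ct D (blk s t X) = blk s t (ct D X.1, ct D X.2) := by
  rw [blk_apply, blk_apply]
  unfold ct
  rw [Matrix.reindex_apply, Matrix.reindex_apply, ← Matrix.submatrix_map,
    Matrix.transpose_submatrix, Matrix.fromBlocks_map, Matrix.fromBlocks_transpose]
  simp only [Matrix.map_zero _ (map_zero D.τ), Matrix.transpose_zero]

theorem det_blk (s t : ℕ) (X : Matrix (Fin s) (Fin s) F × Matrix (Fin t) (Fin t) F) :
    (blk s t X).det = X.1.det * X.2.det := by
  rw [blk_apply, Matrix.det_reindex_self, Matrix.det_fromBlocks_zero₁₂]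

theorem blk_unitary (s t : ℕ) (X : Matrix (Fin s) (Fin s) F × Matrix (Fin t) (Fin t) F)
    (h1 : ct D X.1 * X.1 = 1) (h2 : ct D X.2 * X.2 = 1) :
    ct D (blk s t X) * blk s t X = 1 := by
  rw [ct_blk, ← map_mul, Prod.mk_mul_mk, h1, h2]
  exact map_one _

/-- the element of `SU` with a given unitary matrix of determinant one -/
def mkU {n : ℕ} (M : Matrix (Fin n) (Fin n) F) (hdet : M.det = 1) (h : ct D M * M = 1) :
    ↥(Cfsg.SU n F q) :=
  mkS M hdet (by
    intro u v
    rw [← H_eq_hermForm D, ← H_eq_hermForm D]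
    exact (H_eq_one_iff_ct D M).2 h u v)

theorem smat_mkU {n : ℕ} (M : Matrix (Fin n) (Fin n) F) (hdet : M.det = 1)
    (h : ct D M * M = 1) : smat (mkU D M hdet h) = M := rfl

theorem ct_smul_one_mul {n : ℕ} (c : F) (hc : c ^ (q + 1) = 1) :
    ct D (c • (1 : Matrix (Fin n) (Fin n) F)) * (c • (1 : Matrix (Fin n) (Fin n) F)) = 1 := by
  rw [ct_smul, ct_one, Matrix.smul_mul, Matrix.mul_smul, Matrix.mul_one, smul_smul, D.hτ,
    ← pow_succ, hc, one_smul]

end blk

section unip

variable {F : Type*} [Field F] [Fintype F] {q : ℕ} (D : UF F q)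

theorem eq_one_of_pow_char_pow (p : ℕ) [Fact p.Prime] [CharP F p] (x : F) (k : ℕ)
    (h : x ^ p ^ k = 1) : x = 1 := by
  have h1 : (x - 1) ^ p ^ k = 0 := by rw [sub_pow_char_pow, one_pow, h, sub_self]
  exact sub_eq_zero.1 (pow_eq_zero_iff (pow_ne_zero _ (Fact.out : p.Prime).ne_zero) |>.1 h1)

include D

/-- a unitary unipotent matrix of determinant one and order `p ^ (J+1)` -/
theorem exists_unip_matrix (p : ℕ) [Fact p.Prime] [CharP F p] (s J : ℕ) (hs1 : p ^ J < s)
    (hs2 : s ≤ p ^ (J + 1)) :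
    ∃ u0 : Matrix (Fin s) (Fin s) F, ct D u0 * u0 = 1 ∧ u0.det = 1 ∧ u0 ^ p ^ (J + 1) = 1 ∧
      u0 ^ p ^ J ≠ 1 := by
  have hs : 1 ≤ s := by
    have : 1 ≤ p ^ J := Nat.one_le_pow _ _ (Fact.out : p.Prime).pos
    omega
  obtain ⟨u0, hu0, hty⟩ := exists_regular_unitary D (K := F) hs
  have hiff : ∀ j, (u0 - 1) ^ j = 0 ↔ s ≤ j := by
    intro j
    rw [hty.pow_eq_zero_iff]
    constructor
    · intro h; exact h s (Multiset.mem_singleton_self s)
    · intro h a ha
      rw [Multiset.mem_singleton] at ha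
      rw [ha]; exact h
  have hpow : u0 ^ p ^ (J + 1) = 1 :=
    Cfsg.Agent.Lib.H12.pow_char_pow_eq_one_of_sub_one_pow p u0 s (J + 1) ((hiff s).2 le_rfl) hs2
  refine ⟨u0, hu0, ?_, hpow, ?_⟩
  · apply eq_one_of_pow_char_pow p _ (J + 1)
    rw [← Matrix.det_pow, hpow, Matrix.det_one]
  · intro h
    have h1 : (u0 - 1) ^ p ^ J = 0 := by
      rw [Cfsg.Agent.Lib.H12.sub_one_pow_char_pow, h, sub_self]
    have := (hiff _).1 h1
    omega

/-- unipotent elements of `PSU_(s+t)(q)` of order `p ^ (J+1)`, `p ^ J < s ≤ p ^ (J+1)`, commuting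
with the diagonal elements of block type `(s, t)` -/
theorem exists_unip_comm (hF : Fintype.card F = q ^ 2) (p : ℕ) [Fact p.Prime] [CharP F p]
    (s t J : ℕ) (hs1 : p ^ J < s) (hs2 : s ≤ p ^ (J + 1)) :
    ∃ u : ↥(Cfsg.SU (s + t) F q),
      orderOf (QuotientGroup.mk u : Cfsg.PSU (s + t) F q) = p ^ (J + 1) ∧
      ∀ z : ↥(Cfsg.SU (s + t) F q), ∀ c₁ c₂ : F,
        smat z = blk s t (c₁ • (1 : Matrix (Fin s) (Fin s) F),
          c₂ • (1 : Matrix (Fin t) (Fin t) F)) → Commute u z := by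
  have hp : p.Prime := Fact.out
  have hs : 1 ≤ s := by
    have : 1 ≤ p ^ J := Nat.one_le_pow _ _ hp.pos
    omega
  obtain ⟨u0, hu0, hdet0, hpow, hnpow⟩ := exists_unip_matrix D p s J hs1 hs2
  have hU : ct D (blk s t (u0, 1)) * blk s t (u0, 1) = 1 :=
    blk_unitary D s t (u0, 1) hu0 (by simp only [ct_one, Matrix.one_mul])
  have hdet : (blk s t (u0, (1 : Matrix (Fin t) (Fin t) F))).det = 1 := by
    rw [det_blk]
    simp only [hdet0, Matrix.det_one, mul_one]
  set u := mkU D (blk s t (u0, 1)) hdet hU with hu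
  have hupow : ∀ k, smat u ^ k = blk s t (u0 ^ k, 1) := by
    intro k
    rw [hu, smat_mkU, ← map_pow, Prod.pow_mk, one_pow]
  refine ⟨u, ?_, ?_⟩
  · apply Nat.eq_prime_pow_of_dvd_least_prime_pow hp
    · intro hdvd
      have h1 : (QuotientGroup.mk u : Cfsg.PSU (s + t) F q) ^ p ^ J = 1 :=
        orderOf_dvd_iff_pow_eq_one.1 hdvd
      rw [← QuotientGroup.mk_pow] at h1
      obtain ⟨l, hl⟩ := exists_smul_of_mem_center hF (by omega) (u ^ p ^ J)
        ((QuotientGroup.eq_one_iff _).1 h1)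
      rw [smat_pow, hupow, ← blk_smul_one] at hl
      have h2 := congrArg Prod.fst (blk_injective s t hl)
      simp only at h2
      -- `l = 1`
      have h3 : (l ^ p) • (1 : Matrix (Fin s) (Fin s) F) = 1 := by
        have : (u0 ^ p ^ J) ^ p = 1 := by rw [← pow_mul, ← pow_succ, hpow]
        rw [h2, smul_pow, one_pow] at this
        exact this
      have h4 : l ^ p = 1 := by
        have := congrFun (congrFun h3 ⟨0, by omega⟩) ⟨0, by omega⟩
        simpa using this
      have h5 : l = 1 := eq_one_of_pow_char_pow p l 1 (by rw [pow_one]; exact h4)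
      rw [h5, one_smul] at h2
      exact hnpow h2
    · apply orderOf_PSU_dvd u _ 1
      rw [hupow, hpow, one_smul]
      exact map_one _
  · intro z c₁ c₂ hz
    apply smat_injective
    rw [smat_mul, smat_mul, hz, hu, smat_mkU, ← map_mul, ← map_mul, Prod.mk_mul_mk,
      Prod.mk_mul_mk]
    simp only [Matrix.mul_smul, Matrix.smul_mul, Matrix.mul_one, Matrix.one_mul]

end unip

section semi

variable {F : Type*} [Field F] [Fintype F] {q : ℕ} (D : UF F q)
include D

open Cfsg.Agent.Lib.H12.SpecPSL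

/-- a non-scalar diagonal element of `SU_(s+t)(q)` of order `r` and block type `(s, t)` -/
theorem exists_diag_z (hF : Fintype.card F = q ^ 2) {r : ℕ} (hr : r.Prime) (hrq : r ∣ q + 1)
    (s t : ℕ) (hs : 1 ≤ s) (ht : 1 ≤ t) (hrn : ¬ r ∣ s + t) :
    ∃ (z : ↥(Cfsg.SU (s + t) F q)) (c₁ c₂ : F),
      smat z = blk s t (c₁ • (1 : Matrix (Fin s) (Fin s) F),
        c₂ • (1 : Matrix (Fin t) (Fin t) F)) ∧ z ^ r = 1 ∧
      ∀ l : F, smat z ≠ l • (1 : Matrix (Fin (s + t)) (Fin (s + t)) F) := by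
  have hrq' : r ∣ Fintype.card F - 1 := by
    refine hrq.trans ?_
    rw [hF]
    exact ⟨q - 1, by
      rcases Nat.eq_zero_or_pos q with h0 | h0
      · subst h0; rfl
      · obtain ⟨k, rfl⟩ : ∃ k, q = k + 1 := ⟨q - 1, by omega⟩
        simp only [Nat.add_sub_cancel]
        have : (k + 1) ^ 2 = (k + 1 + 1) * k + 1 := by ring
        rw [this, Nat.add_sub_cancel]⟩
  obtain ⟨ω, hω⟩ := exists_primitiveRoot (F := F) hr hrq'
  have hωq : ∀ k, (ω ^ k) ^ (q + 1) = 1 := by
    intro k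
    obtain ⟨w, hw⟩ := hrq
    rw [← pow_mul, mul_comm, pow_mul, hw, pow_mul, hω.pow_eq_one, one_pow, one_pow]
  have hr1 : r - 1 + 1 = r := Nat.sub_add_cancel hr.one_le
  set c₁ := ω ^ t with hc₁
  set c₂ := ω ^ ((r - 1) * s) with hc₂
  have hU : ct D (blk s t (c₁ • (1 : Matrix (Fin s) (Fin s) F),
      c₂ • (1 : Matrix (Fin t) (Fin t) F))) * blk s t (c₁ • 1, c₂ • 1) = 1 :=
    blk_unitary D s t _ (ct_smul_one_mul D c₁ (hωq t)) (ct_smul_one_mul D c₂ (hωq _))
  have hdet : (blk s t (c₁ • (1 : Matrix (Fin s) (Fin s) F),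
      c₂ • (1 : Matrix (Fin t) (Fin t) F))).det = 1 := by
    rw [det_blk]
    simp only [Matrix.det_smul, Matrix.det_one, mul_one, Fintype.card_fin]
    rw [hc₁, hc₂, ← pow_mul, ← pow_mul, ← pow_add]
    have : t * s + (r - 1) * s * t = r * (s * t) := by
      calc t * s + (r - 1) * s * t = (r - 1 + 1) * (s * t) := by ring
        _ = r * (s * t) := by rw [hr1]
    rw [this, pow_mul, hω.pow_eq_one, one_pow]
  refine ⟨mkU D _ hdet hU, c₁, c₂, rfl, ?_, ?_⟩
  · apply smat_injective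
    rw [smat_pow, smat_mkU, smat_one, ← map_pow, Prod.pow_mk, smul_pow, smul_pow, one_pow, one_pow,
      hc₁, hc₂, ← pow_mul, ← pow_mul, mul_comm t r, mul_comm _ r, pow_mul, pow_mul ω r,
      hω.pow_eq_one, one_pow, one_pow, one_smul, one_smul]
    exact map_one _
  · intro l hl
    rw [smat_mkU, ← blk_smul_one] at hl
    have h1 := blk_injective s t hl
    have h2 : c₁ = l := by
      have := congrFun (congrFun (congrArg Prod.fst h1) ⟨0, by omega⟩) ⟨0, by omega⟩
      simpa using this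
    have h3 : c₂ = l := by
      have := congrFun (congrFun (congrArg Prod.snd h1) ⟨0, by omega⟩) ⟨0, by omega⟩
      simpa using this
    have h4 : ω ^ (s + t) = 1 := by
      rw [pow_add, ← hc₁, h2, ← h3, hc₂, ← pow_add]
      have : s + (r - 1) * s = r * s := by
        calc s + (r - 1) * s = (r - 1 + 1) * s := by ring
          _ = r * s := by rw [hr1]
      rw [this, pow_mul, hω.pow_eq_one, one_pow]
    exact hrn ((hω.pow_eq_one_iff_dvd _).1 h4)

end semi

end Cfsg.Agent.Lib.H12.SpecPSU
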