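import Mathlib
import Cfsg.Agent.Lib.H12.SpecPSUH

/-!
# Spectra of `PSU_n(q)³ × Z_r^m`: elements of order `p^j`, `r` and `p^j r` in `PSU_n(q)` (helper12)
-/

set_option autoImplicit false
set_option linter.unusedSectionVars false

namespace Cfsg.Agent.Lib.H12.SpecPSU

open Matrix Cfsg.Agent.Lib.H13.AutPSU

variable {F : Type*} [Field F] [Fintype F] {q : ℕ} (D : UF F q)
include D

theorem exists_unip_PSU (hF : Fintype.card F = q ^ 2) (p : ℕ) [Fact p.Prime] [CharP F p]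
    (n J : ℕ) (hJ : p ^ J < n) : ∃ y : Cfsg.PSU n F q, orderOf y = p ^ (J + 1) := by
  have hp : p.Prime := Fact.out
  have h2 : p ^ J + 1 ≤ p ^ (J + 1) := by
    have h1 : 1 ≤ p ^ J := Nat.one_le_pow _ _ hp.pos
    have : p ^ (J + 1) = p ^ J * p := pow_succ p J
    have : p ^ J * 2 ≤ p ^ J * p := Nat.mul_le_mul_left _ hp.two_le
    omega
  obtain ⟨t, rfl⟩ : ∃ t, n = (p ^ J + 1) + t := ⟨n - (p ^ J + 1), by omega⟩
  obtain ⟨u, hu, -⟩ := exists_unip_comm D hF p (p ^ J + 1) t J (by omega) h2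
  exact ⟨_, hu⟩

theorem exists_mixed_PSU (hF : Fintype.card F = q ^ 2) (p : ℕ) [Fact p.Prime] [CharP F p]
    {r : ℕ} (hr : r.Prime) (hrq : r ∣ q + 1) (hpr : p ≠ r) (n J : ℕ) (hrn : ¬ r ∣ n)
    (hJ : p ^ J + 1 < n) : ∃ y : Cfsg.PSU n F q, orderOf y = p ^ (J + 1) * r := by
  have hp : p.Prime := Fact.out
  have h1 : 1 ≤ p ^ J := Nat.one_le_pow _ _ hp.pos
  have h2 : p ^ J + 1 ≤ p ^ (J + 1) := by
    have : p ^ (J + 1) = p ^ J * p := pow_succ p J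
    have : p ^ J * 2 ≤ p ^ J * p := Nat.mul_le_mul_left _ hp.two_le
    omega
  obtain ⟨t, rfl⟩ : ∃ t, n = (p ^ J + 1) + t := ⟨n - (p ^ J + 1), by omega⟩
  have ht : 1 ≤ t := by omega
  obtain ⟨u, hu, hcomm⟩ := exists_unip_comm D hF p (p ^ J + 1) t J (by omega) h2
  obtain ⟨z, c₁, c₂, hz, hzr, hzns⟩ := exists_diag_z D hF hr hrq (p ^ J + 1) t (by omega) ht hrn
  obtain ⟨y, hy⟩ := exists_lcm_of_comm hF (by omega) hr u z hzr hzns (hcomm z c₁ c₂ hz)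
  refine ⟨y, ?_⟩
  rw [hy, hu]
  exact Nat.Coprime.lcm_eq_mul (Nat.Coprime.pow_left _ ((Nat.coprime_primes hp hr).2 hpr))

theorem exists_semi_PSU (hF : Fintype.card F = q ^ 2) {r : ℕ} (hr : r.Prime) (hrq : r ∣ q + 1)
    (n : ℕ) (hn : 2 ≤ n) (hrn : ¬ r ∣ n) : ∃ y : Cfsg.PSU n F q, orderOf y = r := by
  obtain ⟨t, rfl⟩ : ∃ t, n = 1 + t := ⟨n - 1, by omega⟩
  obtain ⟨z, c₁, c₂, hz, hzr, hzns⟩ := exists_diag_z D hF hr hrq 1 t le_rfl (by omega) hrn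
  obtain ⟨y, hy⟩ := exists_lcm_of_comm hF (by omega) hr 1 z hzr hzns (Commute.one_left z)
  refine ⟨y, ?_⟩
  rw [hy, QuotientGroup.mk_one, orderOf_one, Nat.lcm_one_left]

end Cfsg.Agent.Lib.H12.SpecPSU
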