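import Mathlib
import Cfsg.Agent.Lib.H12.SpecPSLA

/-!
# Spectra of `L × L × L × Z_2^m`: the abstract absorption argument with two tori (helper12)

`L` a group in which every element of odd order `o` either admits an element of order `2 o`, or
`o = lcm a (lcm b s)` with `a ∣ Nm`, `b ∣ Np` and `s ∈ {1, P}`; odd divisors of `Nm`, `Np` are
element orders, and for one of `Nm`, `Np` twice every odd divisor is an element order.
-/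

set_option autoImplicit false

namespace Cfsg.Agent.Lib.H12.SpecPSp

section abstract

variable (L : Type*) [Group L]

/-- the class data of an (odd) element order -/
def Cls (Nm Np P o : ℕ) : Prop :=
  ∃ a b s, o = Nat.lcm a (Nat.lcm b s) ∧ a ∣ Nm ∧ b ∣ Np ∧
    (s = 1 ∨ (s = P ∧ ∃ y : L, orderOf y = P))

variable {L}

theorem Cls.lcm {Nm Np P o₁ o₂ : ℕ} (h₁ : Cls L Nm Np P o₁) (h₂ : Cls L Nm Np P o₂) :
    Cls L Nm Np P (Nat.lcm o₁ o₂) := by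
  obtain ⟨a₁, b₁, s₁, rfl, ha₁, hb₁, hs₁⟩ := h₁
  obtain ⟨a₂, b₂, s₂, rfl, ha₂, hb₂, hs₂⟩ := h₂
  refine ⟨Nat.lcm a₁ a₂, Nat.lcm b₁ b₂, Nat.lcm s₁ s₂, by ac_rfl, Nat.lcm_dvd ha₁ ha₂,
    Nat.lcm_dvd hb₁ hb₂, ?_⟩
  rcases hs₁ with rfl | ⟨rfl, hy⟩
  · rcases hs₂ with rfl | ⟨rfl, hy⟩
    · left; simp
    · right; exact ⟨by simp, hy⟩
  · rcases hs₂ with rfl | ⟨rfl, _⟩
    · right; exact ⟨by simp, hy⟩
    · right; exact ⟨by simp, hy⟩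

theorem odd_of_dvd_odd {a o : ℕ} (h : a ∣ o) (ho : Odd o) : Odd a := by
  rcases Nat.even_or_odd a with he | ho'
  · exfalso
    have : 2 ∣ o := (even_iff_two_dvd.1 he).trans h
    exact (Nat.not_even_iff_odd.2 ho) (even_iff_two_dvd.2 this)
  · exact ho'

theorem two_mul_eq_lcm {o : ℕ} (ho : Odd o) : 2 * o = Nat.lcm 2 o := by
  rw [Nat.Coprime.lcm_eq_mul (Nat.coprime_two_left.2 ho)]

/-- realization of `2 o` for an odd `o` with class data, three slots -/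
theorem Cls.realize3 {Nm Np P o : ℕ} (h : Cls L Nm Np P o) (ho : Odd o)
    (Rm : ∀ k, Odd k → k ∣ Nm → ∃ y : L, orderOf y = k)
    (Rp : ∀ k, Odd k → k ∣ Np → ∃ y : L, orderOf y = k)
    (R2 : (∀ k, Odd k → k ∣ Nm → ∃ y : L, orderOf y = 2 * k) ∨
      (∀ k, Odd k → k ∣ Np → ∃ y : L, orderOf y = 2 * k)) :
    ∃ y₁ y₂ y₃ : L, Nat.lcm (orderOf y₁) (Nat.lcm (orderOf y₂) (orderOf y₃)) = Nat.lcm 2 o := by
  obtain ⟨a, b, s, rfl, ha, hb, hs⟩ := h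
  have hao : Odd a := odd_of_dvd_odd (Nat.dvd_lcm_left _ _) ho
  have hbo : Odd b :=
    odd_of_dvd_odd ((Nat.dvd_lcm_left _ _).trans (Nat.dvd_lcm_right _ _)) ho
  obtain ⟨y₃, hy₃⟩ : ∃ y : L, orderOf y = s := by
    rcases hs with rfl | ⟨rfl, hy⟩
    · exact ⟨1, orderOf_one⟩
    · exact hy
  rcases R2 with R2 | R2
  · obtain ⟨y₁, hy₁⟩ := R2 a hao ha
    obtain ⟨y₂, hy₂⟩ := Rp b hbo hb
    refine ⟨y₁, y₂, y₃, ?_⟩
    rw [hy₁, hy₂, hy₃, two_mul_eq_lcm hao]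
    ac_rfl
  · obtain ⟨y₁, hy₁⟩ := Rm a hao ha
    obtain ⟨y₂, hy₂⟩ := R2 b hbo hb
    refine ⟨y₁, y₂, y₃, ?_⟩
    rw [hy₁, hy₂, hy₃, two_mul_eq_lcm hbo]
    ac_rfl

/-- realization of `2 o` for an odd `o` with class data (`P = 1`), two slots -/
theorem Cls.realize2 {Nm Np o : ℕ} (h : Cls L Nm Np 1 o) (ho : Odd o)
    (Rm : ∀ k, Odd k → k ∣ Nm → ∃ y : L, orderOf y = k)
    (Rp : ∀ k, Odd k → k ∣ Np → ∃ y : L, orderOf y = k)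
    (R2 : (∀ k, Odd k → k ∣ Nm → ∃ y : L, orderOf y = 2 * k) ∨
      (∀ k, Odd k → k ∣ Np → ∃ y : L, orderOf y = 2 * k)) :
    ∃ y₁ y₂ : L, Nat.lcm (orderOf y₁) (orderOf y₂) = Nat.lcm 2 o := by
  obtain ⟨a, b, s, rfl, ha, hb, hs⟩ := h
  have hs1 : s = 1 := by
    rcases hs with rfl | ⟨rfl, _⟩ <;> rfl
  subst hs1
  rw [Nat.lcm_one_right] at ho ⊢
  have hao : Odd a := odd_of_dvd_odd (Nat.dvd_lcm_left _ _) ho
  have hbo : Odd b := odd_of_dvd_odd (Nat.dvd_lcm_right _ _) ho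
  rcases R2 with R2 | R2
  · obtain ⟨y₁, hy₁⟩ := R2 a hao ha
    obtain ⟨y₂, hy₂⟩ := Rp b hbo hb
    refine ⟨y₁, y₂, ?_⟩
    rw [hy₁, hy₂, two_mul_eq_lcm hao]
    ac_rfl
  · obtain ⟨y₁, hy₁⟩ := Rm a hao ha
    obtain ⟨y₂, hy₂⟩ := R2 b hbo hb
    refine ⟨y₁, y₂, ?_⟩
    rw [hy₁, hy₂, two_mul_eq_lcm hbo]
    ac_rfl

theorem lcm_two_of_even {o : ℕ} (h : Even o) : Nat.lcm o 2 = o :=
  Nat.lcm_eq_left (even_iff_two_dvd.1 h)

theorem odd_lcm {a b : ℕ} (ha : Odd a) (hb : Odd b) : Odd (Nat.lcm a b) := by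
  rcases Nat.even_or_odd (Nat.lcm a b) with he | ho
  · exfalso
    have h2 : 2 ∣ a * b := (even_iff_two_dvd.1 he).trans (Nat.lcm_dvd_mul a b)
    rcases (Nat.Prime.dvd_mul Nat.prime_two).1 h2 with h | h
    · exact (Nat.not_even_iff_odd.2 ha) (even_iff_two_dvd.2 h)
    · exact (Nat.not_even_iff_odd.2 hb) (even_iff_two_dvd.2 h)
  · exact ho

theorem core3 {Nm Np P : ℕ}
    (D1 : ∀ x : L, Odd (orderOf x) →
      (∃ y : L, orderOf y = 2 * orderOf x) ∨ Cls L Nm Np P (orderOf x))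
    (Rm : ∀ k, Odd k → k ∣ Nm → ∃ y : L, orderOf y = k)
    (Rp : ∀ k, Odd k → k ∣ Np → ∃ y : L, orderOf y = k)
    (R2 : (∀ k, Odd k → k ∣ Nm → ∃ y : L, orderOf y = 2 * k) ∨
      (∀ k, Odd k → k ∣ Np → ∃ y : L, orderOf y = 2 * k)) (x1 x2 x3 : L) :
    ∃ y1 y2 y3 : L, Nat.lcm (orderOf y1) (Nat.lcm (orderOf y2) (orderOf y3)) =
      Nat.lcm (orderOf x1) (Nat.lcm (orderOf x2) (Nat.lcm (orderOf x3) 2)) := by
  rcases Nat.even_or_odd (orderOf x1) with he1 | ho1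
  · refine ⟨x1, x2, x3, ?_⟩
    have : Nat.lcm (orderOf x1) (Nat.lcm (orderOf x2) (Nat.lcm (orderOf x3) 2)) =
        Nat.lcm (Nat.lcm (orderOf x1) 2) (Nat.lcm (orderOf x2) (orderOf x3)) := by ac_rfl
    rw [this, lcm_two_of_even he1]
  rcases Nat.even_or_odd (orderOf x2) with he2 | ho2
  · refine ⟨x1, x2, x3, ?_⟩
    have : Nat.lcm (orderOf x1) (Nat.lcm (orderOf x2) (Nat.lcm (orderOf x3) 2)) =
        Nat.lcm (orderOf x1) (Nat.lcm (Nat.lcm (orderOf x2) 2) (orderOf x3)) := by ac_rfl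
    rw [this, lcm_two_of_even he2]
  rcases Nat.even_or_odd (orderOf x3) with he3 | ho3
  · refine ⟨x1, x2, x3, ?_⟩
    rw [lcm_two_of_even he3]
  rcases D1 x1 ho1 with ⟨y, hy⟩ | c1
  · refine ⟨y, x2, x3, ?_⟩
    rw [hy, two_mul_eq_lcm ho1]
    ac_rfl
  rcases D1 x2 ho2 with ⟨y, hy⟩ | c2
  · refine ⟨x1, y, x3, ?_⟩
    rw [hy, two_mul_eq_lcm ho2]
    ac_rfl
  rcases D1 x3 ho3 with ⟨y, hy⟩ | c3
  · refine ⟨x1, x2, y, ?_⟩
    rw [hy, two_mul_eq_lcm ho3]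
    ac_rfl
  have hc := c1.lcm (c2.lcm c3)
  obtain ⟨y1, y2, y3, hy⟩ := hc.realize3 (odd_lcm ho1 (odd_lcm ho2 ho3)) Rm Rp R2
  refine ⟨y1, y2, y3, ?_⟩
  rw [hy]
  ac_rfl

theorem core2 {Nm Np : ℕ}
    (D1 : ∀ x : L, Odd (orderOf x) →
      (∃ y : L, orderOf y = 2 * orderOf x) ∨ Cls L Nm Np 1 (orderOf x))
    (Rm : ∀ k, Odd k → k ∣ Nm → ∃ y : L, orderOf y = k)
    (Rp : ∀ k, Odd k → k ∣ Np → ∃ y : L, orderOf y = k)
    (R2 : (∀ k, Odd k → k ∣ Nm → ∃ y : L, orderOf y = 2 * k) ∨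
      (∀ k, Odd k → k ∣ Np → ∃ y : L, orderOf y = 2 * k)) (x1 x2 : L) :
    ∃ y1 y2 : L, Nat.lcm (orderOf y1) (orderOf y2) =
      Nat.lcm (orderOf x1) (Nat.lcm (orderOf x2) 2) := by
  rcases Nat.even_or_odd (orderOf x1) with he1 | ho1
  · refine ⟨x1, x2, ?_⟩
    have : Nat.lcm (orderOf x1) (Nat.lcm (orderOf x2) 2) =
        Nat.lcm (Nat.lcm (orderOf x1) 2) (orderOf x2) := by ac_rfl
    rw [this, lcm_two_of_even he1]
  rcases Nat.even_or_odd (orderOf x2) with he2 | ho2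
  · refine ⟨x1, x2, ?_⟩
    rw [lcm_two_of_even he2]
  rcases D1 x1 ho1 with ⟨y, hy⟩ | c1
  · refine ⟨y, x2, ?_⟩
    rw [hy, two_mul_eq_lcm ho1]
    ac_rfl
  rcases D1 x2 ho2 with ⟨y, hy⟩ | c2
  · refine ⟨x1, y, ?_⟩
    rw [hy, two_mul_eq_lcm ho2]
    ac_rfl
  have hc := c1.lcm c2
  obtain ⟨y1, y2, hy⟩ := hc.realize2 (odd_lcm ho1 ho2) Rm Rp R2
  refine ⟨y1, y2, ?_⟩
  rw [hy]
  ac_rfl

theorem range3 {Nm Np P m : ℕ}
    (D1 : ∀ x : L, Odd (orderOf x) →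
      (∃ y : L, orderOf y = 2 * orderOf x) ∨ Cls L Nm Np P (orderOf x))
    (Rm : ∀ k, Odd k → k ∣ Nm → ∃ y : L, orderOf y = k)
    (Rp : ∀ k, Odd k → k ∣ Np → ∃ y : L, orderOf y = k)
    (R2 : (∀ k, Odd k → k ∣ Nm → ∃ y : L, orderOf y = 2 * k) ∨
      (∀ k, Odd k → k ∣ Np → ∃ y : L, orderOf y = 2 * k)) :
    Set.range (orderOf : L × L × L × Multiplicative (Fin m → ZMod 2) → ℕ) =
      Set.range (orderOf : L × L × L → ℕ) := by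
  ext k
  constructor
  · rintro ⟨⟨x1, x2, x3, v⟩, rfl⟩
    rcases Cfsg.Agent.Lib.H12.SpecPSL.orderOf_zr Nat.prime_two v with hv | hv
    · refine ⟨(x1, x2, x3), ?_⟩
      simp only [Prod.orderOf, hv, Nat.lcm_one_right]
    · obtain ⟨y1, y2, y3, hy⟩ := core3 D1 Rm Rp R2 x1 x2 x3
      refine ⟨(y1, y2, y3), ?_⟩
      simp only [Prod.orderOf, hv]
      exact hy
  · rintro ⟨⟨x1, x2, x3⟩, rfl⟩
    refine ⟨(x1, x2, x3, 1), ?_⟩
    simp only [Prod.orderOf, orderOf_one, Nat.lcm_one_right]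

theorem range2 {Nm Np m : ℕ}
    (D1 : ∀ x : L, Odd (orderOf x) →
      (∃ y : L, orderOf y = 2 * orderOf x) ∨ Cls L Nm Np 1 (orderOf x))
    (Rm : ∀ k, Odd k → k ∣ Nm → ∃ y : L, orderOf y = k)
    (Rp : ∀ k, Odd k → k ∣ Np → ∃ y : L, orderOf y = k)
    (R2 : (∀ k, Odd k → k ∣ Nm → ∃ y : L, orderOf y = 2 * k) ∨
      (∀ k, Odd k → k ∣ Np → ∃ y : L, orderOf y = 2 * k)) :
    Set.range (orderOf : L × L × Multiplicative (Fin m → ZMod 2) → ℕ) =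
      Set.range (orderOf : L × L → ℕ) := by
  ext k
  constructor
  · rintro ⟨⟨x1, x2, v⟩, rfl⟩
    rcases Cfsg.Agent.Lib.H12.SpecPSL.orderOf_zr Nat.prime_two v with hv | hv
    · refine ⟨(x1, x2), ?_⟩
      simp only [Prod.orderOf, hv, Nat.lcm_one_right]
    · obtain ⟨y1, y2, hy⟩ := core2 D1 Rm Rp R2 x1 x2
      refine ⟨(y1, y2), ?_⟩
      simp only [Prod.orderOf, hv]
      exact hy
  · rintro ⟨⟨x1, x2⟩, rfl⟩
    refine ⟨(x1, x2, 1), ?_⟩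
    simp only [Prod.orderOf, orderOf_one, Nat.lcm_one_right]

end abstract

end Cfsg.Agent.Lib.H12.SpecPSp
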