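import Mathlib
import Cfsg.Agent.Lib.H12.SpSemiF

/-!
# Spectra of `PSp_{2n}(q)³ × Z_2^m`: an involution commuting with a decomposable isometry
(helper12)

For an isometry `g` of a non-degenerate alternating space and a polynomial `P` that is
self-reciprocal up to a constant, the Fitting decomposition of `P(g)` is orthogonal; if it is
non-trivial there is an involution `z ≠ ±1` of the space commuting with `g`.
-/

set_option autoImplicit false
set_option linter.unusedSectionVars false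

namespace Cfsg.Agent.Lib.H12.SpecPSp

open Polynomial Module
open Cfsg.Agent.Lib.H12.SpSemi Cfsg.Agent.Lib.H12.Semi

universe u v
variable {F : Type u} [Field F] {V : Type v} [AddCommGroup V] [Module F V]
variable {B : LinearMap.BilinForm F V} {g : Module.End F V}

/-- an orthogonal invariant decomposition gives an involution in the centralizer -/
theorem exists_invol_of_isCompl (h : SpData B g) (h2 : (2 : F) ≠ 0) {W₁ W₂ : Submodule F V}
    (hc : IsCompl W₁ W₂) (hi1 : W₁ ∈ g.invtSubmodule) (hi2 : W₂ ∈ g.invtSubmodule)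
    (hort : ∀ x ∈ W₁, ∀ y ∈ W₂, B x y = 0) (hW₁ : W₁ ≠ ⊥) (hW₂ : W₂ ≠ ⊥) :
    ∃ z : Module.End F V, SpData B z ∧ z * g = g * z ∧ z * z = 1 ∧ z ≠ 1 ∧ z ≠ -1 := by
  set z : Module.End F V := LinearMap.ofIsCompl hc W₁.subtype (-W₂.subtype) with hz
  have hz1 : ∀ x ∈ W₁, z x = x := by
    intro x hx
    have := LinearMap.ofIsCompl_apply_left hc (φ := W₁.subtype) (ψ := -W₂.subtype) ⟨x, hx⟩
    simpa using this
  have hz2 : ∀ x ∈ W₂, z x = -x := by
    intro x hx
    have := LinearMap.ofIsCompl_apply_right hc (φ := W₁.subtype) (ψ := -W₂.subtype) ⟨x, hx⟩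
    simpa using this
  have hdec : ∀ v : V, ∃ v₁ ∈ W₁, ∃ v₂ ∈ W₂, v = v₁ + v₂ := by
    intro v
    have hv : v ∈ W₁ ⊔ W₂ := by rw [hc.sup_eq_top]; exact Submodule.mem_top
    obtain ⟨v₁, h1, v₂, h2, rfl⟩ := Submodule.mem_sup.1 hv
    exact ⟨v₁, h1, v₂, h2, rfl⟩
  have hg1 : ∀ x ∈ W₁, g x ∈ W₁ := (Module.End.mem_invtSubmodule_iff_forall_mem_of_mem g).1 hi1
  have hg2 : ∀ x ∈ W₂, g x ∈ W₂ := (Module.End.mem_invtSubmodule_iff_forall_mem_of_mem g).1 hi2
  have hort' : ∀ x ∈ W₁, ∀ y ∈ W₂, B y x = 0 := by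
    intro x hx y hy
    rw [h.skew, hort x hx y hy, neg_zero]
  refine ⟨z, ⟨h.alt, h.nd, ?_⟩, ?_, ?_, ?_, ?_⟩
  · intro x y
    obtain ⟨x₁, hx₁, x₂, hx₂, rfl⟩ := hdec x
    obtain ⟨y₁, hy₁, y₂, hy₂, rfl⟩ := hdec y
    have e1 : z (x₁ + x₂) = x₁ + -x₂ := by rw [map_add, hz1 x₁ hx₁, hz2 x₂ hx₂]
    have e2 : z (y₁ + y₂) = y₁ + -y₂ := by rw [map_add, hz1 y₁ hy₁, hz2 y₂ hy₂]
    rw [e1, e2]
    simp only [map_add, map_neg, LinearMap.add_apply, LinearMap.neg_apply, hort x₁ hx₁ y₂ hy₂,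
      hort' y₁ hy₁ x₂ hx₂, neg_zero, add_zero, zero_add, neg_neg]
  · apply LinearMap.ext
    intro x
    obtain ⟨x₁, hx₁, x₂, hx₂, rfl⟩ := hdec x
    rw [Module.End.mul_apply, Module.End.mul_apply, map_add, map_add, map_add, hz1 x₁ hx₁,
      hz2 x₂ hx₂, hz1 _ (hg1 x₁ hx₁), hz2 _ (hg2 x₂ hx₂), map_add, map_neg]
  · apply LinearMap.ext
    intro x
    obtain ⟨x₁, hx₁, x₂, hx₂, rfl⟩ := hdec x
    rw [Module.End.mul_apply, map_add, hz1 x₁ hx₁, hz2 x₂ hx₂, map_add, map_neg, hz1 x₁ hx₁,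
      hz2 x₂ hx₂, neg_neg, Module.End.one_apply]
  · intro h1
    obtain ⟨w, hw, hw0⟩ := Submodule.exists_mem_ne_zero_of_ne_bot hW₂
    have h3 := hz2 w hw
    rw [h1, Module.End.one_apply] at h3
    have h4 : (2 : F) • w = 0 := by
      rw [two_smul]
      nth_rewrite 1 [h3]
      exact neg_add_cancel w
    rcases smul_eq_zero.1 h4 with h5 | h5
    · exact h2 h5
    · exact hw0 h5
  · intro h1
    obtain ⟨w, hw, hw0⟩ := Submodule.exists_mem_ne_zero_of_ne_bot hW₁
    have h3 := hz1 w hw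
    rw [h1, LinearMap.neg_apply, Module.End.one_apply] at h3
    have h4 : (2 : F) • w = 0 := by
      rw [two_smul]
      nth_rewrite 1 [← h3]
      exact neg_add_cancel w
    rcases smul_eq_zero.1 h4 with h5 | h5
    · exact h2 h5
    · exact hw0 h5

theorem reverse_pow_of_rev {P : F[X]} {c : F} (hrev : P.reverse = C c * P) (N : ℕ) :
    (P ^ N).reverse = C (c ^ N) * P ^ N := by
  induction N with
  | zero =>
    rw [pow_zero, pow_zero, C_1, mul_one, ← C_1, reverse_C]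
  | succ N ih =>
    rw [pow_succ, reverse_mul_of_domain, ih, hrev, pow_succ, C_mul]
    ring

variable [FiniteDimensional F V]

/-- the Fitting decomposition with respect to `P(g)`, `P` self-reciprocal up to a constant -/
theorem exists_invol_of_fitting (h : SpData B g) (h2 : (2 : F) ≠ 0) {P : F[X]} {c : F}
    (hc : c ≠ 0) (hrev : P.reverse = C c * P) (hker : ∃ v : V, v ≠ 0 ∧ aeval g P v = 0)
    (hnil : ¬ IsNilpotent (aeval g P)) :
    ∃ z : Module.End F V, SpData B z ∧ z * g = g * z ∧ z * z = 1 ∧ z ≠ 1 ∧ z ≠ -1 := by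
  obtain ⟨N₀, hN₀⟩ := Filter.eventually_atTop.1
    (LinearMap.eventually_isCompl_ker_pow_range_pow (aeval g P))
  have hcompl := hN₀ (N₀ + 1) (Nat.le_succ _)
  set N := N₀ + 1 with hN
  have hpow : (aeval g P) ^ N = aeval g (P ^ N) := (map_pow _ _ _).symm
  rw [hpow] at hcompl
  have hcomm : ∀ x, aeval g (P ^ N) (g x) = g (aeval g (P ^ N) x) := by
    intro x
    have h1 : g x = aeval g (X : F[X]) x := by rw [aeval_X]
    rw [h1, aeval_comm_apply, aeval_X]
  apply exists_invol_of_isCompl h h2 hcompl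
  · rw [Module.End.mem_invtSubmodule_iff_forall_mem_of_mem]
    intro x hx
    rw [LinearMap.mem_ker] at hx ⊢
    rw [hcomm, hx, map_zero]
  · rw [Module.End.mem_invtSubmodule_iff_forall_mem_of_mem]
    rintro _ ⟨y, rfl⟩
    exact ⟨g y, hcomm y⟩
  · rintro x hx _ ⟨y, rfl⟩
    rw [LinearMap.mem_ker] at hx
    exact h.ortho_range (pow_ne_zero N hc) (reverse_pow_of_rev hrev N) hx y
  · obtain ⟨v, hv0, hv⟩ := hker
    intro hbot
    have hmem : v ∈ LinearMap.ker (aeval g (P ^ N)) := by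
      rw [LinearMap.mem_ker, hN, pow_succ, map_mul, Module.End.mul_apply, hv, map_zero]
    rw [hbot, Submodule.mem_bot] at hmem
    exact hv0 hmem
  · intro hbot
    apply hnil
    refine ⟨N, ?_⟩
    rw [hpow]
    exact LinearMap.range_eq_bot.1 hbot

end Cfsg.Agent.Lib.H12.SpecPSp
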