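import Mathlib
import Cfsg.Agent.Lib.H12.SpecB
import Cfsg.Agent.Lib.H12.PSpC
import Cfsg.Agent.Lib.H12.SpecPSLE
import Cfsg.Agent.Lib.H12.SpecPSpB

/-!
# Spectra of `PSp_{2n}(q)³ × Z_2^m`: isometries with a single orbit of irreducible factors
(helper12)
-/

set_option autoImplicit false
set_option linter.unusedSectionVars false

namespace Cfsg.Agent.Lib.H12.SpecPSp

open Polynomial Module
open Cfsg.Agent.Lib.H12.SpSemi Cfsg.Agent.Lib.H12.Semi

universe u v
variable {F : Type u} [Field F] {V : Type v} [AddCommGroup V] [Module F V]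
  [FiniteDimensional F V]

/-- the characteristic polynomial divides a power of the minimal polynomial -/
theorem end_charpoly_dvd_minpoly_pow (g : Module.End F V) :
    g.charpoly ∣ (minpoly F g) ^ finrank F V := by
  classical
  let b := Module.finBasis F V
  have h := Cfsg.Agent.Lib.H12.SpecPSL.charpoly_dvd_minpoly_pow (LinearMap.toMatrix b b g)
  rw [LinearMap.charpoly_toMatrix, LinearMap.minpoly_toMatrix, Fintype.card_fin] at h
  exact h

/-- an endomorphism killed by a power of a monic irreducible `f` has characteristic polynomial a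
power of `f` -/
theorem charpoly_eq_pow_of_aeval_pow (g : Module.End F V) {f : F[X]} (hf : f.Monic)
    (hirr : Irreducible f) {N : ℕ} (h : aeval g (f ^ N) = 0) :
    ∃ e, g.charpoly = f ^ e ∧ finrank F V = e * f.natDegree := by
  have h1 : minpoly F g ∣ f ^ N := minpoly.dvd F g h
  have h2 : g.charpoly ∣ f ^ (N * finrank F V) := by
    rw [pow_mul]
    exact (end_charpoly_dvd_minpoly_pow g).trans (pow_dvd_pow_of_dvd h1 _)
  obtain ⟨e, -, he⟩ := (dvd_prime_pow hirr.prime _).1 h2
  have he' : g.charpoly = f ^ e := eq_of_monic_of_associated g.charpoly_monic (hf.pow e) he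
  refine ⟨e, he', ?_⟩
  rw [← LinearMap.charpoly_natDegree g, he', hf.natDegree_pow]

variable [Fintype F]

/-- if the characteristic polynomial is `f ^ e` and `f ∣ X ^ E - 1`, then `g ^ (E p^t) = 1` as soon
as `e ≤ p ^ t` -/
theorem pow_eq_one_of_charpoly_pow (p : ℕ) [Fact p.Prime] [CharP F p] (g : Module.End F V)
    {f : F[X]} {e E : ℕ} (hch : g.charpoly = f ^ e) (hE : f ∣ X ^ E - C 1) {t : ℕ}
    (ht : e ≤ p ^ t) : g ^ (E * p ^ t) = 1 := by
  have h1 : f ^ p ^ t ∣ X ^ (E * p ^ t) - C (1 ^ p ^ t) := by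
    rw [← Cfsg.Agent.Lib.H12.SpecPSL.X_pow_sub_C_pow_char_pow]
    exact pow_dvd_pow_of_dvd hE _
  have h2 : g.charpoly ∣ X ^ (E * p ^ t) - C (1 ^ p ^ t) := by
    rw [hch]
    exact (pow_dvd_pow f ht).trans h1
  obtain ⟨R, hR⟩ := h2
  have h3 := congrArg (aeval g) hR
  rw [map_mul, LinearMap.aeval_self_charpoly, zero_mul, map_sub, map_pow, aeval_X, one_pow, aeval_C,
    map_one, sub_eq_zero] at h3
  exact h3

/-- a monic irreducible polynomial of degree `d` with nonzero constant coefficient divides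
`X ^ (q ^ d - 1) - 1` -/
theorem dvd_X_pow_card_pow_sub_one {f : F[X]} (hf : f.Monic) (hirr : Irreducible f)
    (h0 : f.coeff 0 ≠ 0) : f ∣ X ^ (Fintype.card F ^ f.natDegree - 1) - C 1 := by
  have : Fact (Irreducible f) := ⟨hirr⟩
  have hfin : Module.Finite F (AdjoinRoot f) := hf.finite_adjoinRoot
  have : Finite (AdjoinRoot f) := Module.finite_of_finite F
  have : Fintype (AdjoinRoot f) := Fintype.ofFinite _
  have hcard : Fintype.card (AdjoinRoot f) = Fintype.card F ^ f.natDegree := by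
    rw [Module.card_eq_pow_finrank (K := F) (V := AdjoinRoot f),
      Cfsg.Agent.Lib.H12.SpCount.finrank_adjoinRoot hf]
  have hroot : AdjoinRoot.root f ≠ 0 := by
    intro h
    have h1 : aeval (AdjoinRoot.root f) f = 0 := by
      rw [AdjoinRoot.aeval_eq, AdjoinRoot.mk_self]
    rw [h, ← Polynomial.coeff_zero_eq_aeval_zero'] at h1
    apply h0
    apply (algebraMap F (AdjoinRoot f)).injective
    rw [h1, map_zero]
  apply Cfsg.Agent.Lib.H12.Spec.dvd_of_root_pow
  rw [← hcard, FiniteField.pow_card_sub_one_eq_one _ hroot, map_one]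

variable {B : LinearMap.BilinForm F V} {g : Module.End F V}

/-- the unipotent case -/
theorem unipotent_case (p : ℕ) [Fact p.Prime] [CharP F p] {N : ℕ}
    (h : aeval g ((X - C (1 : F)) ^ N) = 0) {t : ℕ} (ht : finrank F V ≤ p ^ t) :
    g ^ p ^ t = 1 := by
  have hm : (X - C (1 : F)).Monic := monic_X_sub_C 1
  obtain ⟨e, he, hdim⟩ := charpoly_eq_pow_of_aeval_pow g hm (irreducible_X_sub_C 1) h
  rw [natDegree_X_sub_C, mul_one] at hdim
  have hE : (X - C (1 : F)) ∣ X ^ 1 - C 1 := by rw [pow_one]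
  have := pow_eq_one_of_charpoly_pow p g he hE (t := t) (by omega)
  rwa [one_mul] at this

/-- the self-reciprocal case -/
theorem selfrec_case (p : ℕ) [Fact p.Prime] [CharP F p] {n : ℕ} (hV : finrank F V = 2 * n)
    {f : F[X]} (hirr : Irreducible f) {c : F} (hsr : SelfRec f c) {N : ℕ}
    (h : aeval g (f ^ N) = 0) :
    ∃ d e, 1 ≤ d ∧ n = d * e ∧ ∀ t, e ≤ p ^ t → g ^ ((Fintype.card F ^ d + 1) * p ^ t) = 1 := by
  have : Fact (Irreducible f) := ⟨hirr⟩
  obtain ⟨e, he, hdim⟩ := charpoly_eq_pow_of_aeval_pow g hsr.monic hirr h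
  obtain ⟨d, hd, hσ⟩ := Cfsg.Agent.Lib.H12.PSpG.exists_frob_pow hsr
  have hroot := Cfsg.Agent.Lib.H12.PSpG.root_pow_eq_one hsr hσ
  have hE : f ∣ X ^ (Fintype.card F ^ d + 1) - C 1 := by
    apply Cfsg.Agent.Lib.H12.Spec.dvd_of_root_pow
    rw [hroot, map_one]
  have hdeg := hsr.deg
  refine ⟨d, e, by omega, ?_, fun t ht => pow_eq_one_of_charpoly_pow p g he hE ht⟩
  rw [hV, ← hd] at hdim
  have : 2 * n = 2 * (d * e) := by rw [hdim]; ring
  omega

end Cfsg.Agent.Lib.H12.SpecPSp
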