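import Mathlib
import Cfsg.Agent.Lib.H12.SpecPSpC

/-!
# Spectra of `PSp_{2n}(q)³ × Z_2^m`: the pair case and the dichotomy for isometries of odd order
(helper12)
-/

set_option autoImplicit false
set_option linter.unusedSectionVars false

namespace Cfsg.Agent.Lib.H12.SpecPSp

open Polynomial Module
open Cfsg.Agent.Lib.H12.SpSemi Cfsg.Agent.Lib.H12.Semi

universe u v
variable {F : Type u} [Field F] {V : Type v} [AddCommGroup V] [Module F V]
  [FiniteDimensional F V]
variable {B : LinearMap.BilinForm F V} {g : Module.End F V}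

theorem reverse_pow' (f : F[X]) (N : ℕ) : (f ^ N).reverse = f.reverse ^ N := by
  induction N with
  | zero => rw [pow_zero, pow_zero, ← C_1, reverse_C]
  | succ N ih => rw [pow_succ, reverse_mul_of_domain, ih, pow_succ]

variable [Fintype F]

/-- the case of a pair `f ≠ f~` -/
theorem pair_case (p : ℕ) [Fact p.Prime] [CharP F p] (h : SpData B g) {n : ℕ}
    (hV : finrank F V = 2 * n) {f : F[X]} (hf : f.Monic) (hirr : Irreducible f)
    (h0 : f.coeff 0 ≠ 0) (hco : IsCoprime f f.reverse) {N : ℕ}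
    (hN : aeval g ((f * f.reverse) ^ N) = 0) :
    ∃ e, n = f.natDegree * e ∧
      ∀ t, e ≤ p ^ t → g ^ ((Fintype.card F ^ f.natDegree - 1) * p ^ t) = 1 := by
  set W := LinearMap.ker (aeval g (f ^ N)) with hW
  set W' := LinearMap.ker (aeval g (f.reverse ^ N)) with hW'
  have hcoN : IsCoprime (f ^ N) (f.reverse ^ N) := hco.pow
  have hsup : W ⊔ W' = ⊤ := by
    rw [hW, hW', sup_ker_aeval_eq_ker_aeval_mul_of_coprime g hcoN, ← mul_pow, hN,
      LinearMap.ker_zero]
  have hdisj : Disjoint W W' := disjoint_ker_aeval_of_isCoprime g hcoN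
  have hrr : f.reverse.reverse = f := reverse_reverse_of_coeff_zero_ne h0
  have hWiso : ∀ x ∈ W, ∀ y ∈ W, B x y = 0 := by
    intro x hx y hy
    apply h.ortho_of_coprime (π := f ^ N) (ρ := f ^ N) _ (LinearMap.mem_ker.1 hx)
      (LinearMap.mem_ker.1 hy)
    rw [reverse_pow']
    exact hcoN
  have hW'iso : ∀ x ∈ W', ∀ y ∈ W', B x y = 0 := by
    intro x hx y hy
    apply h.ortho_of_coprime (π := f.reverse ^ N) (ρ := f.reverse ^ N) _ (LinearMap.mem_ker.1 hx)
      (LinearMap.mem_ker.1 hy)
    rw [reverse_pow', hrr]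
    exact hcoN.symm
  have hdimW : finrank F W = n := by
    have h1 := Submodule.finrank_sup_add_finrank_inf_eq W W'
    rw [hsup, hdisj.eq_bot, finrank_bot, finrank_top, hV, add_zero] at h1
    have h2 := Cfsg.Agent.Lib.H12.PSpG.finrank_le_of_isotropic h W hWiso
    have h3 := Cfsg.Agent.Lib.H12.PSpG.finrank_le_of_isotropic h W' hW'iso
    omega
  have hcomm : ∀ (Q : F[X]) (x : V), aeval g Q (g x) = g (aeval g Q x) := by
    intro Q x
    have h1 : g x = aeval g (X : F[X]) x := by rw [aeval_X]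
    rw [h1, aeval_comm_apply, aeval_X]
  have hWinv : W ∈ g.invtSubmodule := by
    rw [Module.End.mem_invtSubmodule_iff_forall_mem_of_mem]
    intro x hx
    rw [hW, LinearMap.mem_ker] at hx ⊢
    rw [hcomm, hx, map_zero]
  have hW'inv : W' ∈ g.invtSubmodule := by
    rw [Module.End.mem_invtSubmodule_iff_forall_mem_of_mem]
    intro x hx
    rw [hW', LinearMap.mem_ker] at hx ⊢
    rw [hcomm, hx, map_zero]
  set gW := res g hWinv with hgW
  have hgW0 : aeval gW (f ^ N) = 0 := by
    apply LinearMap.ext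
    intro x
    apply Subtype.ext
    rw [aeval_res_apply]
    exact LinearMap.mem_ker.1 x.2
  obtain ⟨e, he, hdim⟩ := charpoly_eq_pow_of_aeval_pow gW hf hirr hgW0
  refine ⟨e, by rw [← hdimW, hdim, mul_comm], ?_⟩
  intro t ht
  set E := (Fintype.card F ^ f.natDegree - 1) * p ^ t with hE
  have h1 : gW ^ E = 1 := pow_eq_one_of_charpoly_pow p gW he
    (dvd_X_pow_card_pow_sub_one hf hirr h0) ht
  have hfixW : ∀ w ∈ W, (g ^ E) w = w := by
    intro w hw
    have := congrArg (fun T : Module.End F W => ((T ⟨w, hw⟩ : W) : V)) h1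
    simp only [Module.End.one_apply] at this
    rw [hgW, res_pow_apply] at this
    exact this
  have hW'pow : ∀ w ∈ W', (g ^ E) w ∈ W' := by
    have hinv := (Module.End.mem_invtSubmodule_iff_forall_mem_of_mem g).1 hW'inv
    intro w hw
    induction E with
    | zero => simpa using hw
    | succ i ih =>
      rw [pow_succ', Module.End.mul_apply]
      exact hinv _ ih
  have hfixW' : ∀ w ∈ W', (g ^ E) w = w := by
    intro w' hw'
    have hmem : (g ^ E) w' - w' ∈ W' := W'.sub_mem (hW'pow w' hw') hw'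
    have hz : (g ^ E) w' - w' = 0 := by
      apply h.nd_right
      intro v
      have hv : v ∈ W ⊔ W' := by rw [hsup]; exact Submodule.mem_top
      obtain ⟨w, hw, w'', hw'', rfl⟩ := Submodule.mem_sup.1 hv
      rw [map_add, LinearMap.add_apply, hW'iso w'' hw'' _ hmem, add_zero, map_sub]
      nth_rewrite 1 [← hfixW w hw]
      rw [h.iso_pow, sub_self]
    exact sub_eq_zero.1 hz
  apply LinearMap.ext
  intro v
  have hv : v ∈ W ⊔ W' := by rw [hsup]; exact Submodule.mem_top
  obtain ⟨w, hw, w', hw', rfl⟩ := Submodule.mem_sup.1 hv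
  rw [map_add, hfixW w hw, hfixW' w' hw', Module.End.one_apply]

end Cfsg.Agent.Lib.H12.SpecPSp
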