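import Mathlib
import Cfsg.Agent.Lib.H12.SpecPSpD

/-!
# Spectra of `PSp_{2n}(q)³ × Z_2^m`: the dichotomy for isometries of odd order (helper12)
-/

set_option autoImplicit false
set_option linter.unusedSectionVars false

namespace Cfsg.Agent.Lib.H12.SpecPSp

open Polynomial Module
open Cfsg.Agent.Lib.H12.SpSemi Cfsg.Agent.Lib.H12.Semi

universe u v
variable {F : Type u} [Field F] {V : Type v} [AddCommGroup V] [Module F V]
  [FiniteDimensional F V]
variable {B : LinearMap.BilinForm F V} {g : Module.End F V}

theorem linear_selfrec {f : F[X]} (hf : f.Monic) (hdeg : f.natDegree = 1) {c : F}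
    (hrev : f.reverse = C c * f) : f = X - C 1 ∨ f = X + C 1 := by
  have h1 := hf.eq_X_add_C hdeg
  set b := f.coeff 0 with hb
  have e0 : c * b = 1 := by
    have := congrArg (fun Q : F[X] => Q.coeff 0) hrev
    simp only [coeff_zero_reverse, coeff_C_mul, hf.leadingCoeff] at this
    exact this.symm
  have e1 : b = c := by
    have := congrArg (fun Q : F[X] => Q.coeff 1) hrev
    simp only [coeff_reverse, coeff_C_mul, hdeg] at this
    have hrev1 : revAt 1 1 = 0 := by decide
    rw [hrev1] at this
    have hc1 : f.coeff 1 = 1 := by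
      have := hf.leadingCoeff
      rwa [leadingCoeff, hdeg] at this
    rw [hc1, mul_one] at this
    exact this
  rw [← e1] at e0
  have h2 : (b - 1) * (b + 1) = 0 := by ring_nf; rw [← e0]; ring
  rcases mul_eq_zero.1 h2 with h3 | h3
  · right
    rw [h1, sub_eq_zero.1 h3]
  · left
    rw [h1, eq_neg_of_add_eq_zero_left h3, C_neg, sub_eq_add_neg]

variable [Fintype F]

theorem sp_dichotomy (p : ℕ) [Fact p.Prime] [CharP F p] (h2 : (2 : F) ≠ 0) (h : SpData B g)
    {n : ℕ} (hV : finrank F V = 2 * n) (hn : 1 ≤ n) {m : ℕ} (hm : g ^ m = 1) (hodd : Odd m) :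
    (∃ z : Module.End F V, SpData B z ∧ z * g = g * z ∧ z * z = 1 ∧ z ≠ 1 ∧ z ≠ -1) ∨
    (∃ d e, 1 ≤ d ∧ n = d * e ∧
      ∀ t, e ≤ p ^ t → g ^ ((Fintype.card F ^ d - 1) * p ^ t) = 1) ∨
    (∃ d e, 1 ≤ d ∧ n = d * e ∧
      ∀ t, e ≤ p ^ t → g ^ ((Fintype.card F ^ d + 1) * p ^ t) = 1) ∨
    (∀ t, 2 * n ≤ p ^ t → g ^ p ^ t = 1) := by
  have hnt : Nontrivial V := Module.nontrivial_of_finrank_pos (R := F) (by omega)
  have hμ : 0 < (minpoly F g).natDegree :=
    minpoly.natDegree_pos (Algebra.IsIntegral.isIntegral g)
  obtain ⟨f, hfm, hfi, hfd⟩ := exists_monic_irreducible_factor hμ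
  obtain ⟨v, hv0, hv⟩ := exists_ne_zero_of_dvd_minpoly g hfd hfi.natDegree_pos
  have h0 := coeff_zero_ne_of_injective h.injective hfi hfm hv0 hv
  rcases reverse_dichotomy hfi hfm h0 with hco | ⟨c, hc, hrev⟩
  · have hPrev : (f * f.reverse).reverse = C 1 * (f * f.reverse) := by
      rw [reverse_mul_of_domain, reverse_reverse_of_coeff_zero_ne h0, C_1, one_mul, mul_comm]
    have hker : ∃ v : V, v ≠ 0 ∧ aeval g (f * f.reverse) v = 0 :=
      ⟨v, hv0, by rw [mul_comm, map_mul, Module.End.mul_apply, hv, map_zero]⟩
    by_cases hnil : IsNilpotent (aeval g (f * f.reverse))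
    · right; left
      obtain ⟨N, hN⟩ := hnil
      rw [← map_pow] at hN
      obtain ⟨e, he, hpow⟩ := pair_case p h hV hfm hfi h0 hco hN
      exact ⟨f.natDegree, e, hfi.natDegree_pos, he, hpow⟩
    · left
      exact exists_invol_of_fitting h h2 one_ne_zero hPrev hker hnil
  · by_cases hnil : IsNilpotent (aeval g f)
    · obtain ⟨N, hN⟩ := hnil
      rw [← map_pow] at hN
      by_cases hdeg : 2 ≤ f.natDegree
      · right; right; left
        exact selfrec_case p hV hfi ⟨hfm, hc, hrev, hdeg⟩ hN
      · have hd1 : f.natDegree = 1 := by have := hfi.natDegree_pos; omega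
        rcases linear_selfrec hfm hd1 hrev with rfl | rfl
        · right; right; right
          intro t ht
          exact unipotent_case p hN (by rw [hV]; exact ht)
        · exfalso
          have hgv : g v = -v := by
            rw [map_add, aeval_X, aeval_C, LinearMap.add_apply, map_one, Module.End.one_apply] at hv
            exact eq_neg_of_add_eq_zero_left hv
          have hpow : ∀ k : ℕ, (g ^ k) v = (-1 : F) ^ k • v := by
            intro k
            induction k with
            | zero => simp
            | succ k ih =>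
              rw [pow_succ', Module.End.mul_apply, ih, map_smul, hgv, pow_succ, mul_neg, mul_one,
                neg_smul, smul_neg]
          have h3 := hpow m
          rw [hm, Module.End.one_apply, hodd.neg_one_pow, neg_smul, one_smul] at h3
          have h4 : (2 : F) • v = 0 := by
            rw [two_smul]
            nth_rewrite 1 [h3]
            exact neg_add_cancel v
          rcases smul_eq_zero.1 h4 with h5 | h5
          · exact h2 h5
          · exact hv0 h5
    · left
      exact exists_invol_of_fitting h h2 hc hrev ⟨v, hv0, hv⟩ hnil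

end Cfsg.Agent.Lib.H12.SpecPSp
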