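import Mathlib
import Cfsg.Agent.Lib.H12.SpecPSpE
import Cfsg.Agent.Lib.H12.SpecPSpF

/-!
# Spectra of `PSp_{2n}(q)³ × Z_2^m`: the dichotomy in `PSp_{2n}(q)` (helper12)
-/

set_option autoImplicit false
set_option linter.unusedSectionVars false

namespace Cfsg.Agent.Lib.H12.SpecPSp

open Module
open Cfsg.Agent.Lib.H12.SpSemi Cfsg.Agent.Lib.H12.PSpG Cfsg.Agent.Lib.H12.BC

universe u
variable {F : Type u} [Field F] [Fintype F]

theorem neg_pow_eq_one_or_iff {R : Type*} [Ring R] (g : R) (j : ℕ) :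
    ((-g) ^ j = 1 ∨ (-g) ^ j = -1) ↔ (g ^ j = 1 ∨ g ^ j = -1) := by
  rw [neg_pow]
  rcases neg_one_pow_eq_or R j with h | h
  · rw [h, one_mul]
  · rw [h, neg_one_mul, neg_eq_iff_eq_neg, neg_inj]
    tauto

theorem psp_dichotomy (p : ℕ) [Fact p.Prime] [CharP F p] (h2 : (2 : F) ≠ 0) {n : ℕ} (hn : 1 ≤ n)
    (x : Cfsg.PSp n F) (hodd : Odd (orderOf x)) :
    (∃ y : Cfsg.PSp n F, orderOf y = 2 * orderOf x) ∨
    (∃ d e, 1 ≤ d ∧ n = d * e ∧
      ∀ t, e ≤ p ^ t → orderOf x ∣ (Fintype.card F ^ d - 1) * p ^ t) ∨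
    (∃ d e, 1 ≤ d ∧ n = d * e ∧
      ∀ t, e ≤ p ^ t → orderOf x ∣ (Fintype.card F ^ d + 1) * p ^ t) ∨
    (∀ t, 2 * n ≤ p ^ t → orderOf x ∣ p ^ t) := by
  obtain ⟨g₀, hg₀, hx₀⟩ := exists_of_psp hn x
  set m := orderOf x with hm
  obtain ⟨g, hg, hxg, hgm⟩ : ∃ g : Module.End F (Fin n ⊕ Fin n → F), SpData (stdForm n F) g ∧
      (∀ j : ℕ, x ^ j = 1 ↔ (g ^ j = 1 ∨ g ^ j = -1)) ∧ g ^ m = 1 := by
    rcases (hx₀ m).1 (pow_orderOf_eq_one x) with h | h
    · exact ⟨g₀, hg₀, hx₀, h⟩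
    · refine ⟨-g₀, ⟨hg₀.alt, hg₀.nd, ?_⟩, ?_, ?_⟩
      · intro a b
        change stdForm n F (-(g₀ a)) (-(g₀ b)) = stdForm n F a b
        rw [map_neg, map_neg, LinearMap.neg_apply, neg_neg, hg₀.iso]
      · intro j
        rw [hx₀]
        exact (neg_pow_eq_one_or_iff g₀ j).symm
      · exact (hodd.neg_pow g₀).trans (by rw [h, neg_neg])
  have hV : finrank F (Fin n ⊕ Fin n → F) = 2 * n := finrank_std n
  rcases sp_dichotomy p h2 hg hV hn hgm hodd with
    ⟨z, hz, hcomm, hzz, hz1, hzn1⟩ | ⟨d, e, hd, hne, hpow⟩ | ⟨d, e, hd, hne, hpow⟩ | hpow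
  · left
    have hsp : SpData (stdForm n F) (z * g) := by
      refine ⟨hg.alt, hg.nd, ?_⟩
      intro a b
      rw [Module.End.mul_apply, Module.End.mul_apply, hz.iso, hg.iso]
    have hc : Commute z g := hcomm
    have hzsq : z ^ 2 = 1 := by rw [sq, hzz]
    have key : ∀ j : ℕ, ((z * g) ^ j = 1 ∨ (z * g) ^ j = -1) ↔ 2 * m ∣ j := by
      intro j
      constructor
      · intro h
        have h3 : (z * g) ^ (j * 2) = 1 := by
          rcases h with h | h
          · rw [pow_mul, h, one_pow]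
          · rw [pow_mul, h]
            exact neg_one_sq (R := Module.End F (Fin n ⊕ Fin n → F))
        rw [hc.mul_pow, mul_comm j 2, pow_mul z, hzsq, one_pow, one_mul] at h3
        have h4 : x ^ (2 * j) = 1 := (hxg _).2 (Or.inl h3)
        have h5 : m ∣ 2 * j := orderOf_dvd_of_pow_eq_one h4
        have hco : Nat.Coprime m 2 := Nat.coprime_two_right.2 hodd
        have h6 : m ∣ j := hco.dvd_of_dvd_mul_left h5
        have h7 : g ^ j = 1 := by
          obtain ⟨c, rfl⟩ := h6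
          rw [pow_mul, hgm, one_pow]
        rw [hc.mul_pow, h7, mul_one] at h
        have h8 : 2 ∣ j := by
          by_contra hnd
          have hjodd : Odd j := Nat.not_even_iff_odd.1 (fun he => hnd (even_iff_two_dvd.1 he))
          obtain ⟨c, rfl⟩ := hjodd
          rw [pow_succ, pow_mul, hzsq, one_pow, one_mul] at h
          rcases h with h | h
          · exact hz1 h
          · exact hzn1 h
        exact Nat.Coprime.mul_dvd_of_dvd_of_dvd (Nat.coprime_two_left.2 hodd) h8 h6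
      · rintro ⟨c, rfl⟩
        left
        rw [hc.mul_pow, mul_assoc, pow_mul z, hzsq, one_pow, one_mul, mul_comm 2, mul_assoc,
          pow_mul, hgm, one_pow]
    obtain ⟨A, hA1, hA2⟩ := exists_Sp_pow_iff hV hsp
    refine ⟨(QuotientGroup.mk A : Cfsg.PSp n F), ?_⟩
    have hy : ∀ j : ℕ, (QuotientGroup.mk A : Cfsg.PSp n F) ^ j = 1 ↔ 2 * m ∣ j := by
      intro j
      rw [psp_pow_eq_one_iff n hn, hA1, hA2, key]
    apply Nat.dvd_antisymm
    · exact orderOf_dvd_of_pow_eq_one ((hy _).2 dvd_rfl)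
    · exact (hy _).1 (pow_orderOf_eq_one _)
  · right; left
    exact ⟨d, e, hd, hne, fun t ht => orderOf_dvd_of_pow_eq_one ((hxg _).2 (Or.inl (hpow t ht)))⟩
  · right; right; left
    exact ⟨d, e, hd, hne, fun t ht => orderOf_dvd_of_pow_eq_one ((hxg _).2 (Or.inl (hpow t ht)))⟩
  · right; right; right
    exact fun t ht => orderOf_dvd_of_pow_eq_one ((hxg _).2 (Or.inl (hpow t ht)))

end Cfsg.Agent.Lib.H12.SpecPSp
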