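import Mathlib
import Cfsg.Agent.Lib.H12.SpecPSLA
import Cfsg.Agent.Lib.H12.SpecPSpA
import Cfsg.Agent.Lib.H12.SpecPSpG

/-!
# Spectra of `PSp_{2n}(q)³ × Z_2^m`: classes of elements of odd order in `PSp_{2n}(q)` (helper12)
-/

set_option autoImplicit false
set_option linter.unusedSectionVars false

namespace Cfsg.Agent.Lib.H12.SpecPSp

open Module
open Cfsg.Agent.Lib.H12.SpSemi Cfsg.Agent.Lib.H12.PSpG Cfsg.Agent.Lib.H12.BC

section arith

theorem coprime_pow_sub_one {p q : ℕ} (hp : p.Prime) (hpq : p ∣ q) (hq : 1 ≤ q) (d : ℕ)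
    (hd : 1 ≤ d) : Nat.Coprime (q ^ d - 1) p := by
  rw [Nat.coprime_comm, Nat.Prime.coprime_iff_not_dvd hp]
  intro h
  have h3 : p ∣ q ^ d := dvd_pow hpq (by omega)
  have h4 : 1 ≤ q ^ d := Nat.one_le_pow _ _ hq
  have h5 : p ∣ q ^ d - (q ^ d - 1) := Nat.dvd_sub h3 h
  have h6 : q ^ d - (q ^ d - 1) = 1 := by omega
  rw [h6] at h5
  exact hp.one_lt.ne' (Nat.dvd_one.1 h5)

theorem coprime_pow_add_one {p q : ℕ} (hp : p.Prime) (hpq : p ∣ q) (d : ℕ) (hd : 1 ≤ d) :
    Nat.Coprime (q ^ d + 1) p := by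
  rw [Nat.coprime_comm, Nat.Prime.coprime_iff_not_dvd hp]
  intro h
  have h3 : p ∣ q ^ d := dvd_pow hpq (by omega)
  have h5 : p ∣ q ^ d + 1 - q ^ d := Nat.dvd_sub h h3
  rw [Nat.add_sub_cancel_left] at h5
  exact hp.one_lt.ne' (Nat.dvd_one.1 h5)

theorem pow_sub_one_dvd (q d e : ℕ) : q ^ d - 1 ∣ q ^ (d * e) - 1 := by
  exact Nat.pow_sub_one_dvd_pow_sub_one q (Dvd.intro e rfl)

theorem pow_add_one_dvd_of_odd (q d e : ℕ) (he : Odd e) : q ^ d + 1 ∣ q ^ (d * e) + 1 := by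
  have := Odd.nat_add_dvd_pow_add_pow (q ^ d) 1 he
  rwa [one_pow, ← pow_mul] at this

theorem pow_add_one_dvd_of_even (q d e : ℕ) (hq : 1 ≤ q) (he : Even e) :
    q ^ d + 1 ∣ q ^ (d * e) - 1 := by
  obtain ⟨e', rfl⟩ := he
  have h1 : q ^ (d * 2) - 1 ∣ q ^ (d * (e' + e')) - 1 := by
    have := pow_sub_one_dvd q (d * 2) e'
    have e1 : d * 2 * e' = d * (e' + e') := by ring
    rwa [e1] at this
  have h2 : q ^ d + 1 ∣ q ^ (d * 2) - 1 := by
    have h3 : 1 ≤ q ^ d := Nat.one_le_pow _ _ hq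
    refine ⟨q ^ d - 1, ?_⟩
    rw [pow_mul]
    obtain ⟨t, ht⟩ : ∃ t, q ^ d = t + 1 := ⟨q ^ d - 1, by omega⟩
    rw [ht, Nat.add_sub_cancel]
    have : (t + 1) ^ 2 = (t + 1 + 1) * t + 1 := by ring
    rw [this, Nat.add_sub_cancel]
  exact h2.trans h1

end arith

universe u
variable {F : Type u} [Field F] [Fintype F]

/-- the mixed realizer `y₁ ⊥ (-u)` -/
theorem psp_mixed (p : ℕ) [Fact p.Prime] [CharP F p] (h2 : (2 : F) ≠ 0) (hp2 : p ≠ 2)
    {d c b J : ℕ} (hd : 1 ≤ d) (hc1 : 1 ≤ c) (hb : HasOrd F d b) (hbodd : Odd b)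
    (hbp : Nat.Coprime b p) (hc : p ^ J + 1 ≤ 2 * c) :
    ∃ y : Cfsg.PSp (d + c) F, orderOf y = 2 * (b * p ^ (J + 1)) := by
  have hpodd : Odd p := (Fact.out : p.Prime).odd_of_ne_two hp2
  have h1 : HasOrd F c (p ^ (J + 1)) := hasOrd_unip p h2 hp2 J c hc
  have h3 : HasOrd F c (2 * p ^ (J + 1)) := HasOrd.neg h2 hc1 h1 hpodd.pow
  obtain ⟨y, hy⟩ := psp_of_hasOrd_add h2 hd hb hbodd h3
  refine ⟨y, ?_⟩
  rw [hy]
  have hco : Nat.Coprime b (2 * p ^ (J + 1)) :=
    Nat.Coprime.mul_right (Nat.coprime_two_right.2 hbodd) (Nat.Coprime.pow_right _ hbp)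
  rw [hco.lcm_eq_mul]
  ring

theorem psp_class (p : ℕ) [Fact p.Prime] [CharP F p] (h2 : (2 : F) ≠ 0) (hp2 : p ≠ 2) {n : ℕ}
    (hn : 1 ≤ n) (x : Cfsg.PSp n F) (hodd : Odd (orderOf x)) :
    (∃ y : Cfsg.PSp n F, orderOf y = 2 * orderOf x) ∨
      orderOf x ∣ Fintype.card F ^ n - 1 ∨ orderOf x ∣ Fintype.card F ^ n + 1 ∨
      (∃ j, orderOf x = p ^ (j + 1) ∧ p ^ j = 2 * n - 1) := by
  have hp : p.Prime := Fact.out
  have hpodd : Odd p := hp.odd_of_ne_two hp2
  set q := Fintype.card F with hq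
  have hq1 : 1 ≤ q := Fintype.card_pos
  have hpq : p ∣ q := by
    obtain ⟨e, he⟩ := FiniteField.card F p
    rw [hq, he.2]
    exact dvd_pow_self p (PNat.ne_zero e)
  rcases psp_dichotomy p h2 hn x hodd with hD | ⟨d, e, hd, hne, hpow⟩ | ⟨d, e, hd, hne, hpow⟩ | hpow
  · left; exact hD
  · -- torus `q^d - 1`
    have hT := hpow (Nat.clog p e) (Nat.le_pow_clog hp.one_lt e)
    obtain ⟨B, J, hB, hJ, hmB⟩ := Cfsg.Agent.Lib.H12.SpecPSL.split_dvd hp
      (coprime_pow_sub_one hp hpq hq1 d hd) hT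
    rcases Nat.eq_zero_or_pos J with hJ0 | hJpos
    · right; left
      rw [hmB, hJ0, pow_zero, mul_one, hne]
      exact hB.trans (pow_sub_one_dvd q d e)
    · left
      obtain ⟨J', rfl⟩ : ∃ J', J = J' + 1 := ⟨J - 1, by omega⟩
      have he1 : 1 < e := by
        by_contra hcon
        push Not at hcon
        have := Nat.clog_of_right_le_one hcon p
        omega
      have hlt : p ^ J' < e := by
        calc p ^ J' ≤ p ^ (Nat.clog p e - 1) := Nat.pow_le_pow_right hp.pos (by omega)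
          _ < e := Nat.pow_pred_clog_lt_self hp.one_lt he1
      have hBodd : Odd B := odd_of_dvd_odd (Dvd.intro _ hmB.symm) hodd
      have hBp : Nat.Coprime B p :=
        Nat.Coprime.coprime_dvd_left hB (coprime_pow_sub_one hp hpq hq1 d hd)
      obtain ⟨c, hc⟩ : ∃ c, n = d + c := ⟨n - d, by
        have : d ≤ n := by rw [hne]; exact Nat.le_mul_of_pos_right d (by omega)
        omega⟩
      have hce : e - 1 ≤ c := by
        have h3 : d * e = d + d * (e - 1) := by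
          obtain ⟨e', rfl⟩ : ∃ e', e = e' + 1 := ⟨e - 1, by omega⟩
          simp only [Nat.add_sub_cancel]; ring
        have h4 : c = d * (e - 1) := by omega
        rw [h4]
        exact Nat.le_mul_of_pos_left _ (by omega)
      have hp1 : 1 ≤ p ^ J' := Nat.one_le_pow _ _ hp.pos
      subst hc
      obtain ⟨y, hy⟩ := psp_mixed (F := F) p h2 hp2 hd (by omega : 1 ≤ c)
        (hasOrd_of_dvd_sub_one d hd B hB) hBodd hBp (by omega : p ^ J' + 1 ≤ 2 * c)
      exact ⟨y, by rw [hy, hmB]⟩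
  · -- torus `q^d + 1`
    have hT := hpow (Nat.clog p e) (Nat.le_pow_clog hp.one_lt e)
    obtain ⟨B, J, hB, hJ, hmB⟩ := Cfsg.Agent.Lib.H12.SpecPSL.split_dvd hp
      (coprime_pow_add_one hp hpq d hd) hT
    rcases Nat.eq_zero_or_pos J with hJ0 | hJpos
    · right
      rw [hmB, hJ0, pow_zero, mul_one, hne]
      rcases Nat.even_or_odd e with he | he
      · left
        exact hB.trans (pow_add_one_dvd_of_even q d e hq1 he)
      · right; left
        exact hB.trans (pow_add_one_dvd_of_odd q d e he)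
    · left
      obtain ⟨J', rfl⟩ : ∃ J', J = J' + 1 := ⟨J - 1, by omega⟩
      have he1 : 1 < e := by
        by_contra hcon
        push Not at hcon
        have := Nat.clog_of_right_le_one hcon p
        omega
      have hlt : p ^ J' < e := by
        calc p ^ J' ≤ p ^ (Nat.clog p e - 1) := Nat.pow_le_pow_right hp.pos (by omega)
          _ < e := Nat.pow_pred_clog_lt_self hp.one_lt he1
      have hBodd : Odd B := odd_of_dvd_odd (Dvd.intro _ hmB.symm) hodd
      have hBp : Nat.Coprime B p :=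
        Nat.Coprime.coprime_dvd_left hB (coprime_pow_add_one hp hpq d hd)
      obtain ⟨c, hc⟩ : ∃ c, n = d + c := ⟨n - d, by
        have : d ≤ n := by rw [hne]; exact Nat.le_mul_of_pos_right d (by omega)
        omega⟩
      have hce : e - 1 ≤ c := by
        have h3 : d * e = d + d * (e - 1) := by
          obtain ⟨e', rfl⟩ : ∃ e', e = e' + 1 := ⟨e - 1, by omega⟩
          simp only [Nat.add_sub_cancel]; ring
        have h4 : c = d * (e - 1) := by omega
        rw [h4]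
        exact Nat.le_mul_of_pos_left _ (by omega)
      have hp1 : 1 ≤ p ^ J' := Nat.one_le_pow _ _ hp.pos
      subst hc
      obtain ⟨y, hy⟩ := psp_mixed (F := F) p h2 hp2 hd (by omega : 1 ≤ c)
        (hasOrd_of_dvd_add_one p d hd B hB) hBodd hBp (by omega : p ^ J' + 1 ≤ 2 * c)
      exact ⟨y, by rw [hy, hmB]⟩
  · -- unipotent
    have hT := hpow (Nat.clog p (2 * n)) (Nat.le_pow_clog hp.one_lt _)
    obtain ⟨J, hJ, hmJ⟩ := (Nat.dvd_prime_pow hp).1 hT
    rcases Nat.eq_zero_or_pos J with hJ0 | hJpos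
    · right; left
      rw [hmJ, hJ0, pow_zero]
      exact one_dvd _
    · obtain ⟨J', rfl⟩ : ∃ J', J = J' + 1 := ⟨J - 1, by omega⟩
      have hlt : p ^ J' < 2 * n := by
        calc p ^ J' ≤ p ^ (Nat.clog p (2 * n) - 1) := Nat.pow_le_pow_right hp.pos (by omega)
          _ < 2 * n := Nat.pow_pred_clog_lt_self hp.one_lt (by omega)
      have hp1 : 1 ≤ p ^ J' := Nat.one_le_pow _ _ hp.pos
      by_cases hc : p ^ J' + 1 ≤ 2 * (n - 1)
      · left
        obtain ⟨c, hcn⟩ : ∃ c, n = 1 + c := ⟨n - 1, by omega⟩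
        subst hcn
        obtain ⟨y, hy⟩ := psp_mixed (F := F) p h2 hp2 (le_refl 1) (by omega : 1 ≤ c)
          (HasOrd.one 1) odd_one (Nat.coprime_one_left p)
          (by simpa using hc : p ^ J' + 1 ≤ 2 * c)
        exact ⟨y, by rw [hy, hmJ, one_mul]⟩
      · right; right; right
        refine ⟨J', hmJ, ?_⟩
        have hoddJ : Odd (p ^ J') := hpodd.pow
        obtain ⟨t, ht⟩ := hoddJ
        omega

end Cfsg.Agent.Lib.H12.SpecPSp
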