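import Mathlib
import Cfsg.Prelude.Def_ChevStructure
import Cfsg.Prelude.Def_Steinberg
import Cfsg.Prelude.Def_SteinbergCover
import Cfsg.Prelude.Def_KGroupFacts
import Cfsg.Agent.Lib.H29.ChevCE7
import Cfsg.Agent.Lib.H29.ChevPL1
import Cfsg.Agent.Lib.H29.ChevTL4

/-!
# The Schur multiplier of the group presented by Steinberg's relations is trivial, when every central extension of
the Chevalley group receives a homomorphism from the group presented by (R1), (R2)
-/

set_option autoImplicit false
set_option linter.unusedSectionVars false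
set_option linter.unusedSimpArgs false
set_option linter.unusedVariables false

namespace Cfsg.Agent.Lib.H12.StMult

open Cfsg.Lie Matrix Cfsg.Agent.Lib.H29.Chev

open scoped commutatorElement

/-- a homomorphism from a perfect group to a commutative group is trivial -/
theorem hom_comm_trivial {X A : Type*} [Group X] [Group A] (hA : ∀ a b : A, a * b = b * a)
    (hperf : commutator X = ⊤) (f : X →* A) (x : X) : f x = 1 := by
  have h1 : commutator X ≤ f.ker := by
    rw [commutator_eq_closure, Subgroup.closure_le]
    rintro _ ⟨a, b, rfl⟩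
    rw [SetLike.mem_coe, MonoidHom.mem_ker, map_commutatorElement, commutatorElement_def, hA (f a) (f b)]
    group
  have : x ∈ f.ker := h1 (by rw [hperf]; exact Subgroup.mem_top x)
  exact MonoidHom.mem_ker.mp this

/-- the centre is commutative -/
theorem center_comm {X : Type*} [Group X] (a b : ↥(Subgroup.center X)) : a * b = b * a := by
  apply Subtype.ext
  have := Subgroup.mem_center_iff.mp b.property a.val
  exact this

/-- in a perfect group, an element whose commutators with all elements are central is central -/
theorem central_of_comm_central {X : Type*} [Group X] (hperf : commutator X = ⊤) (x : X)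
    (h : ∀ g : X, ⁅x, g⁆ ∈ Subgroup.center X) : x ∈ Subgroup.center X := by
  set f : X →* ↥(Subgroup.center X) := MonoidHom.mk' (fun g => ⟨⁅x, g⁆, h g⟩) (by
    intro a b
    apply Subtype.ext
    have hb := Subgroup.mem_center_iff.mp (h b)
    show ⁅x, a * b⁆ = ⁅x, a⁆ * ⁅x, b⁆
    have e : ⁅x, a * b⁆ = ⁅x, a⁆ * (a * ⁅x, b⁆ * a⁻¹) := by
      simp only [commutatorElement_def]; group
    rw [e, hb a, mul_inv_cancel_right]) with hf
  rw [Subgroup.mem_center_iff]
  intro g
  have h1 := hom_comm_trivial center_comm hperf f g
  have h2 : ⁅x, g⁆ = 1 := by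
    have := congrArg Subtype.val h1
    exact this
  have := commutatorElement_eq_one_iff_commute.mp h2
  exact this.eq.symm

/-- a surjective homomorphism onto a perfect group whose kernel lies in the commutator subgroup has perfect source -/
theorem perfect_of_stem {X Y : Type*} [Group X] [Group Y] (f : X →* Y) (hf : Function.Surjective f)
    (hk : f.ker ≤ commutator X) (hperf : commutator Y = ⊤) : commutator X = ⊤ := by
  rw [eq_top_iff]
  intro g _
  have h1 : f g ∈ commutator Y := by rw [hperf]; exact Subgroup.mem_top _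
  have h2 : commutator Y = (commutator X).map f := by
    rw [commutator_def, commutator_def, Subgroup.map_commutator, ← MonoidHom.range_eq_map,
      MonoidHom.range_eq_top.mpr hf]
  rw [h2] at h1
  obtain ⟨c, hc, hcg⟩ := h1
  have h3 : c⁻¹ * g ∈ f.ker := by
    rw [MonoidHom.mem_ker, map_mul, map_inv, hcg, inv_mul_cancel]
  have : g = c * (c⁻¹ * g) := by group
  rw [this]
  exact mul_mem hc (hk h3)

universe u

variable {D : ChevalleyDatum} {fd : FD} {fx : FX} {fc : FC} {fz : FZ}

/-- the Schur multiplier of the group presented by (R1)-(R3) over a finite field is trivial, when the group presented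
by (R1), (R2) is perfect and every finite central extension of the Chevalley group receives a homomorphism from it -/
theorem steinberg_mult_trivial (C : Cert12 D fd fx fc fz) (K : Type u) [Field K] [Finite K]
    {wit : List (ℕ × ℕ)} (hst : fd.ChkSt fx wit)
    (hperf : commutator (D.SteinbergCover K) = ⊤)
    (hlift : ∀ {Γ : Type u} [Group Γ] [Finite Γ] (σ : Γ →* ↥(D.group K)), Function.Surjective σ →
      σ.ker ≤ Subgroup.center Γ → ∃ τ : D.SteinbergCover K →* Γ,
        ∀ m, σ (τ m) = (PresentedGroup.toGroup (C.rels_AB K) : D.SteinbergCover K →* ↥(D.group K)) m) :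
    Cfsg.HasCyclicSchurMultiplier (D.SteinbergGroup K) 1 := by
  set θ : D.SteinbergCover K →* ↥(D.group K) := PresentedGroup.toGroup (C.rels_AB K) with hθ
  have hθs : Function.Surjective θ := C.toGroup_surjective K _ _
  have hker : θ.ker = Subgroup.center (D.SteinbergCover K) := C.cover_ker_eq_center K hst
  have hfinG : Finite ↥(D.group K) := by
    have := Fintype.ofFinite K
    infer_instance
  have hfinΔ : Finite (D.SteinbergCover K) := finite_of_central_of_perfect θ (le_of_eq hker) hperf
  obtain ⟨e, _⟩ := C.cover_equiv K hst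
  have hfinS : Finite (D.SteinbergGroup K) := Finite.of_equiv _ e.toEquiv
  constructor
  · refine ⟨D.SteinbergGroup K, inferInstance, hfinS, MonoidHom.id _, ⟨Function.surjective_id, ?_, ?_⟩, ?_⟩
    · rw [MonoidHom.ker_id]; exact bot_le
    · rw [MonoidHom.ker_id]; exact bot_le
    · rw [MonoidHom.ker_id]
      exact ⟨MulEquiv.ofUnique⟩
  · intro Γ _ _ σ hσ
    obtain ⟨hσ1, hσ2, hσ3⟩ := hσ
    set σ' : Γ →* D.SteinbergCover K := e.symm.toMonoidHom.comp σ with hσ'
    have hσ'1 : Function.Surjective σ' := e.symm.surjective.comp hσ1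
    have hkk : σ'.ker = σ.ker := by
      ext x
      rw [MonoidHom.mem_ker, MonoidHom.mem_ker, hσ', MonoidHom.comp_apply]
      constructor
      · intro h
        have : e.symm (σ x) = e.symm 1 := by rw [map_one]; exact h
        exact e.symm.injective this
      · intro h
        rw [h]
        exact map_one _
    have hΓperf : commutator Γ = ⊤ := perfect_of_stem σ' hσ'1 (by rw [hkk]; exact hσ3) hperf
    set π : Γ →* ↥(D.group K) := θ.comp σ' with hπ
    have hπs : Function.Surjective π := hθs.comp hσ'1
    have hπc : π.ker ≤ Subgroup.center Γ := by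
      intro x hx
      apply central_of_comm_central hΓperf
      intro g
      apply hσ2
      rw [← hkk, MonoidHom.mem_ker, map_commutatorElement]
      have hx1 : σ' x ∈ Subgroup.center (D.SteinbergCover K) := by
        rw [← hker, MonoidHom.mem_ker]
        exact MonoidHom.mem_ker.mp hx
      have := Subgroup.mem_center_iff.mp hx1 (σ' g)
      rw [commutatorElement_eq_one_iff_commute]
      exact this.symm
    obtain ⟨τ, hτ⟩ := hlift π hπs hπc
    -- `σ' ∘ τ` is the identity
    have hcen : ∀ m, σ' (τ m) * m⁻¹ ∈ Subgroup.center (D.SteinbergCover K) := by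
      intro m
      rw [← hker, MonoidHom.mem_ker, map_mul, map_inv]
      have := hτ m
      rw [hπ, MonoidHom.comp_apply] at this
      rw [this, mul_inv_cancel]
    set φ : D.SteinbergCover K →* ↥(Subgroup.center (D.SteinbergCover K)) :=
      MonoidHom.mk' (fun m => ⟨σ' (τ m) * m⁻¹, hcen m⟩) (by
        intro a b
        apply Subtype.ext
        have hb := Subgroup.mem_center_iff.mp (hcen b)
        show σ' (τ (a * b)) * (a * b)⁻¹ = σ' (τ a) * a⁻¹ * (σ' (τ b) * b⁻¹)
        rw [map_mul, map_mul, _root_.mul_inv_rev]
        calc σ' (τ a) * σ' (τ b) * (b⁻¹ * a⁻¹) = σ' (τ a) * (σ' (τ b) * b⁻¹) * a⁻¹ := by group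
          _ = σ' (τ a) * (a⁻¹ * (σ' (τ b) * b⁻¹)) := by rw [mul_assoc, hb a⁻¹]
          _ = σ' (τ a) * a⁻¹ * (σ' (τ b) * b⁻¹) := by group) with hφ
    have hid : ∀ m, σ' (τ m) = m := by
      intro m
      have h1 := hom_comm_trivial center_comm hperf φ m
      have h2 : σ' (τ m) * m⁻¹ = 1 := congrArg Subtype.val h1
      exact mul_inv_eq_one.mp h2
    have hdec : ∀ a : Γ, ∃ m, ∃ z ∈ π.ker, a = τ m * z := by
      intro a
      obtain ⟨m, hm⟩ := hθs (π a)
      refine ⟨m, (τ m)⁻¹ * a, ?_, by group⟩
      rw [MonoidHom.mem_ker, map_mul, map_inv, hτ, hm, inv_mul_cancel]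
    have hcomm : commutator Γ ≤ τ.range := by
      rw [commutator_eq_closure, Subgroup.closure_le]
      rintro g ⟨a, b, rfl⟩
      obtain ⟨ma, za, hza, rfl⟩ := hdec a
      obtain ⟨mb, zb, hzb, rfl⟩ := hdec b
      have cza : ∀ g : Γ, g * za = za * g := Subgroup.mem_center_iff.mp (hπc hza)
      have czb : ∀ g : Γ, g * zb = zb * g := Subgroup.mem_center_iff.mp (hπc hzb)
      rw [SetLike.mem_coe, CE.comm_mul_central_left cza, CE.comm_mul_central_right czb, ← map_commutatorElement]
      exact ⟨_, rfl⟩
    refine ⟨1, ?_⟩
    intro x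
    have hx : x = 1 := by
      apply Subtype.ext
      obtain ⟨m, hm⟩ := hcomm (hσ3 x.property)
      have h1 : σ' (τ m) = 1 := by
        rw [hm]
        have : (x : Γ) ∈ σ'.ker := by rw [hkk]; exact x.property
        exact MonoidHom.mem_ker.mp this
      rw [hid] at h1
      rw [← hm, h1, map_one]
      rfl
    exact ⟨1, by rw [hx]; rfl⟩

end Cfsg.Agent.Lib.H12.StMult
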