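import Mathlib
import Cfsg.Prelude.Def_ChevStructure
import Cfsg.Agent.Lib.H29.ChevTL9
import Cfsg.Agent.Lib.H29.ChevTL6

/-!
# Central extensions of groups with Steinberg's relations: commutators of lifts, and variants of the criteria for
lifts of root elements to commute (small fields)
-/

set_option autoImplicit false
set_option linter.unusedSectionVars false
set_option linter.unusedSimpArgs false
set_option linter.unusedVariables false

namespace Cfsg.Agent.Lib.H12.StMult

open Cfsg.Lie Matrix Cfsg.Agent.Lib.H29.Chev

open scoped commutatorElement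

section Kap

variable {E M : Type*} [Group E] [Group M] (p : E →* M) (hs : Function.Surjective p)

/-- the commutator of lifts of two elements -/
noncomputable def kap (g h : M) : E := ⁅Function.surjInv hs g, Function.surjInv hs h⁆

variable (hc : p.ker ≤ Subgroup.center E)
include hc

theorem kap_eq {X Y : E} {g h : M} (hX : p X = g) (hY : p Y = h) : ⁅X, Y⁆ = kap p hs g h := by
  unfold kap
  apply CE.comm_indep p hc
  · rw [Function.surjInv_eq hs, hX]
  · rw [Function.surjInv_eq hs, hY]

omit hc in
theorem p_kap (g h : M) : p (kap p hs g h) = ⁅g, h⁆ := by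
  unfold kap
  rw [map_commutatorElement, Function.surjInv_eq hs, Function.surjInv_eq hs]

theorem kap_central {g h : M} (hgh : Commute g h) : ∀ x : E, x * kap p hs g h = kap p hs g h * x := by
  apply CE.central_of_ker p hc
  rw [p_kap]
  exact commutatorElement_eq_one_iff_commute.mpr hgh

theorem kap_inv (g h : M) : (kap p hs g h)⁻¹ = kap p hs h g := by
  unfold kap
  rw [commutatorElement_inv]

theorem kap_one_left (h : M) : kap p hs 1 h = 1 := by
  rw [← kap_eq p hs hc (X := 1) (Y := Function.surjInv hs h) (map_one p) (Function.surjInv_eq hs h)]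
  simp [commutatorElement_def]

theorem kap_one_right (g : M) : kap p hs g 1 = 1 := by
  rw [← kap_eq p hs hc (X := Function.surjInv hs g) (Y := 1) (Function.surjInv_eq hs g) (map_one p)]
  simp [commutatorElement_def]

/-- multiplicativity in the first variable, when the lifts of `g` commute with the lifts of `[g', h]` -/
theorem kap_mul_left {g g' h : M}
    (hcm : ∀ X Z : E, p X = g → p Z = ⁅g', h⁆ → Commute X Z) :
    kap p hs (g * g') h = kap p hs g' h * kap p hs g h := by
  set X := Function.surjInv hs g with hX
  set X' := Function.surjInv hs g' with hX'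
  set Y := Function.surjInv hs h with hY
  have e1 : kap p hs (g * g') h = ⁅X * X', Y⁆ := by
    symm
    apply kap_eq p hs hc
    · rw [map_mul, Function.surjInv_eq hs, Function.surjInv_eq hs]
    · exact Function.surjInv_eq hs h
  have e2 : Commute X ⁅X', Y⁆ := by
    apply hcm
    · exact Function.surjInv_eq hs g
    · rw [map_commutatorElement, Function.surjInv_eq hs, Function.surjInv_eq hs]
  rw [e1, CE.comm_mul_left, e2.eq, mul_inv_cancel_right]
  rfl

/-- multiplicativity in the second variable, when the lifts of `h` commute with the lifts of `[g, h']` -/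
theorem kap_mul_right {g h h' : M}
    (hcm : ∀ Y Z : E, p Y = h → p Z = ⁅g, h'⁆ → Commute Y Z) :
    kap p hs g (h * h') = kap p hs g h * kap p hs g h' := by
  set X := Function.surjInv hs g with hX
  set Y := Function.surjInv hs h with hY
  set Y' := Function.surjInv hs h' with hY'
  have e1 : kap p hs g (h * h') = ⁅X, Y * Y'⁆ := by
    symm
    apply kap_eq p hs hc
    · exact Function.surjInv_eq hs g
    · rw [map_mul, Function.surjInv_eq hs, Function.surjInv_eq hs]
  have e2 : Commute Y ⁅X, Y'⁆ := by
    apply hcm
    · exact Function.surjInv_eq hs h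
    · rw [map_commutatorElement, Function.surjInv_eq hs, Function.surjInv_eq hs]
  have e3 : ⁅X, Y * Y'⁆ = ⁅X, Y⁆ * (Y * ⁅X, Y'⁆ * Y⁻¹) := by
    simp only [commutatorElement_def]; group
  rw [e1, e3, e2.eq, mul_inv_cancel_right]
  rfl

/-- conjugation of the commutator of lifts -/
theorem kap_conj (T : E) (g h : M) :
    T * kap p hs g h * T⁻¹ = kap p hs (p T * g * (p T)⁻¹) (p T * h * (p T)⁻¹) := by
  set X := Function.surjInv hs g with hX
  set Y := Function.surjInv hs h with hY
  have e1 : T * kap p hs g h * T⁻¹ = ⁅T * X * T⁻¹, T * Y * T⁻¹⁆ := by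
    show T * ⁅X, Y⁆ * T⁻¹ = ⁅T * X * T⁻¹, T * Y * T⁻¹⁆
    simp only [commutatorElement_def]; group
  rw [e1]
  apply kap_eq p hs hc
  · rw [map_mul, map_mul, map_inv, Function.surjInv_eq hs]
  · rw [map_mul, map_mul, map_inv, Function.surjInv_eq hs]

end Kap

/-- a field with three elements, as far as needed -/
def IsF3 (F : Type*) [Field F] : Prop := (∀ w : F, w = 0 ∨ w = 1 ∨ w = -1) ∧ (1 : F) + 1 = -1

theorem isF3_of_card {F : Type*} [Field F] [Fintype F] (h : Fintype.card F = 3) : IsF3 F := by
  classical
  have h3 : (3 : F) = 0 := by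
    have := Nat.cast_card_eq_zero F
    rw [h] at this
    exact_mod_cast this
  have h11 : (1 : F) + 1 = -1 := by
    have : (1 : F) + 1 + 1 = 0 := by
      have : (1 : F) + 1 + 1 = 3 := by norm_num
      rw [this, h3]
    exact eq_neg_of_add_eq_zero_left this
  have hne : (1 : F) ≠ -1 := by
    intro h1
    have h2 : (2 : F) = 0 := by
      have : (2 : F) = 1 + 1 := by norm_num
      rw [this]
      nth_rewrite 2 [h1]
      exact add_neg_cancel 1
    have : (1 : F) = 0 := by
      have : (1 : F) = 3 - 2 := by norm_num
      rw [this, h3, h2, sub_zero]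
    exact one_ne_zero this
  refine ⟨fun w => ?_, h11⟩
  by_contra hw
  push Not at hw
  obtain ⟨w0, w1, w2⟩ := hw
  have hcard : 4 ≤ Fintype.card F := by
    have hinj : Function.Injective (fun i : Fin 4 => ![0, 1, -1, w] i) := by
      intro i j hij
      fin_cases i <;> fin_cases j <;> simp at hij <;> first | rfl | (exfalso; first
        | exact one_ne_zero hij | exact one_ne_zero hij.symm | exact hne hij | exact hne hij.symm
        | exact w0 hij | exact w0 hij.symm | exact w1 hij | exact w1 hij.symm | exact w2 hij | exact w2 hij.symm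
        | exact one_ne_zero (neg_eq_zero.mp hij) | exact one_ne_zero (neg_eq_zero.mp hij.symm)
        | exact one_ne_zero (neg_eq_zero.mp hij.symm))
    have := Fintype.card_le_of_injective _ hinj
    simpa using this
  omega

section BiAdd

variable {F : Type*} [Field F] {E : Type*} [Group E]

/-- a function of two variables, additive in each, over the field with three elements -/
theorem biadd_F3 (hF : IsF3 F) (φ : F → F → E)
    (h1 : ∀ t t' u, φ (t + t') u = φ t u * φ t' u) (h2 : ∀ t u u', φ t (u + u') = φ t u * φ t u') :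
    (∀ u, φ 0 u = 1) ∧ (∀ t, φ t 0 = 1) ∧ (∀ t u, φ (-t) u = (φ t u)⁻¹) ∧ (∀ t u, φ t (-u) = (φ t u)⁻¹) ∧
    (∀ t u, φ t u = φ (t * u) 1) ∧ (∀ t u, φ t u = φ 1 (t * u)) := by
  have a1 : ∀ u, φ 0 u = 1 := by
    intro u
    have := h1 0 0 u
    rw [add_zero] at this
    exact mul_eq_left.mp this.symm
  have a2 : ∀ t, φ t 0 = 1 := by
    intro t
    have := h2 t 0 0
    rw [add_zero] at this
    exact mul_eq_left.mp this.symm
  have a3 : ∀ t u, φ (-t) u = (φ t u)⁻¹ := by
    intro t u
    have := h1 t (-t) u
    rw [add_neg_cancel, a1] at this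
    exact eq_inv_of_mul_eq_one_right this.symm
  have a4 : ∀ t u, φ t (-u) = (φ t u)⁻¹ := by
    intro t u
    have := h2 t u (-u)
    rw [add_neg_cancel, a2] at this
    exact eq_inv_of_mul_eq_one_right this.symm
  refine ⟨a1, a2, a3, a4, ?_, ?_⟩
  · intro t u
    rcases hF.1 u with rfl | rfl | rfl
    · rw [mul_zero, a1, a2]
    · rw [mul_one]
    · rw [mul_neg, mul_one, a4, a3]
  · intro t u
    rcases hF.1 t with rfl | rfl | rfl
    · rw [zero_mul, a1, a2]
    · rw [one_mul]
    · rw [neg_mul, one_mul, a3, a4]

end BiAdd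

end Cfsg.Agent.Lib.H12.StMult
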