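import Mathlib
import Cfsg.Prelude.Def_ChevStructure
import Cfsg.Prelude.Def_Steinberg
import Cfsg.Prelude.Def_SteinbergCover
import Cfsg.Agent.Lib.H12.StMultB

/-!
# Central extensions of Chevalley groups over small fields: variants of the lifting criteria
-/

set_option autoImplicit false
set_option linter.unusedSectionVars false
set_option linter.unusedSimpArgs false
set_option linter.unusedVariables false

namespace Cfsg.Agent.Lib.H12.StMult

open Cfsg.Lie Matrix Cfsg.Agent.Lib.H29.Chev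

open scoped commutatorElement

variable {D : ChevalleyDatum} {fd : FD} {fx : FX} {fc : FC} {fz : FZ}
variable {C : Cert12 D fd fx fc fz} {F : Type*} [Field F] {M : Type*} [Group M] {S : StG C F M}
variable {E : Type*} [Group E] {p : E →* M}

/-- lifts of commuting root elements commute, when an element of the torus centralises the root elements of `s` and
acts without fixed points on those of `r` -/
theorem ecom_of_torus' (H : S.TL p) (r s γ : ℕ) (hr : r < fd.n) (hs : s < fd.n) (hγ : γ < fd.n) (hm : S.MCom r s)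
    (a : F) (ha : a ≠ 0) (h0 : a ^ (fd.pr s γ) = 1) (ha1 : a ^ (fd.pr r γ) ≠ 1) : S.ECom p r s := by
  set L : M → E := Function.surjInv H.surj with hL
  have hpL : ∀ x, p (L x) = x := Function.surjInv_eq H.surj
  set φ : F → F → E := fun t u => ⁅L (S.y r t), L (S.y s u)⁆ with hφ
  have hφe : ∀ (X Y : E) (t u : F), p X = S.y r t → p Y = S.y s u → ⁅X, Y⁆ = φ t u := by
    intro X Y t u hX hY
    apply CE.comm_indep p H.cen
    · rw [hpL, hX]
    · rw [hpL, hY]
  have hcen : ∀ t u, ∀ g : E, g * φ t u = φ t u * g := by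
    intro t u
    apply CE.comm_central p H.cen
    rw [hpL, hpL]
    exact hm t u
  have h1 : ∀ t t' u, φ (t + t') u = φ t u * φ t' u := by
    intro t t' u
    have e : ⁅L (S.y r t) * L (S.y r t'), L (S.y s u)⁆ = φ (t + t') u := by
      apply hφe
      · rw [map_mul, hpL, hpL, S.y_add r hr]
      · rw [hpL]
    rw [← e]
    have : ⁅L (S.y r t) * L (S.y r t'), L (S.y s u)⁆ =
        L (S.y r t) * φ t' u * (L (S.y r t))⁻¹ * φ t u := by
      simp only [hφ, commutatorElement_def]; group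
    rw [this, hcen t' u (L (S.y r t)), mul_inv_cancel_right, ← hcen]
  have h0' : ∀ u, φ 0 u = 1 := by
    intro u
    have := h1 0 0 u
    rw [add_zero] at this
    exact mul_eq_left.mp this.symm
  have h3 : ∀ t u, φ (a ^ (fd.pr r γ) * t) u = φ t u := by
    intro t u
    set T := L (S.hb γ a) with hT
    have e1 : T * φ t u * T⁻¹ = φ t u := by rw [hcen t u T, mul_inv_cancel_right]
    have e2 : T * φ t u * T⁻¹ = ⁅T * L (S.y r t) * T⁻¹, T * L (S.y s u) * T⁻¹⁆ := by
      simp only [hφ, commutatorElement_def]; group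
    rw [← e1, e2]
    symm
    apply hφe
    · rw [H.conj_lift γ r hγ hr a ha t T _ (hpL _) (hpL _)]
    · rw [H.conj_lift γ s hγ hs a ha u T _ (hpL _) (hpL _), h0, one_mul]
  have key : ∀ t u, φ t u = 1 := by
    intro t u
    have hne : a ^ (fd.pr r γ) - 1 ≠ 0 := sub_ne_zero.mpr ha1
    set t' := t / (a ^ (fd.pr r γ) - 1) with ht'
    have e : t = a ^ (fd.pr r γ) * t' + (-t') := by
      rw [ht']; field_simp; ring
    rw [e, h1, h3, ← h1, add_neg_cancel, h0']
  rintro X Y ⟨t, hX⟩ ⟨u, hY⟩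
  have := hφe X Y t u hX hY
  rw [key] at this
  exact commutatorElement_eq_one_iff_commute.mp this

/-- over the field with three elements the lifts of the elements of a root subgroup commute -/
theorem ecom_self_F3 (hF : IsF3 F) (hsurj : Function.Surjective p) (hc : p.ker ≤ Subgroup.center E)
    (r : ℕ) (hr : r < fd.n) : S.ECom p r r := by
  obtain ⟨L, hpL⟩ := hsurj (S.y r 1)
  -- every lift is a power of `L` times a central element
  have dec : ∀ X : E, (∃ t, p X = S.y r t) →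
      ∃ Z : E, (∀ g : E, g * Z = Z * g) ∧ (X = Z ∨ X = L * Z ∨ X = L⁻¹ * Z) := by
    rintro X ⟨t, hX⟩
    rcases hF.1 t with rfl | rfl | rfl
    · exact ⟨X, CE.central_of_ker p hc (by rw [hX, S.y_zero r hr]), Or.inl rfl⟩
    · refine ⟨L⁻¹ * X, CE.central_of_ker p hc (by rw [map_mul, map_inv, hX, hpL, inv_mul_cancel]), Or.inr (Or.inl ?_)⟩
      group
    · refine ⟨L * X, CE.central_of_ker p hc
        (by rw [map_mul, hX, hpL, S.y_add r hr, add_neg_cancel, S.y_zero r hr]), Or.inr (Or.inr ?_)⟩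
      group
  have key : ∀ X : E, (∃ t, p X = S.y r t) → Commute X L := by
    intro X hX
    obtain ⟨Z, hZ, h | h | h⟩ := dec X hX
    · rw [h]; exact (hZ L).symm
    · rw [h]
      show L * Z * L = L * (L * Z)
      rw [mul_assoc, ← hZ L]
    · rw [h]
      show L⁻¹ * Z * L = L * (L⁻¹ * Z)
      rw [mul_assoc, ← hZ L]
      group
  intro X Y hX hY
  have hXL := key X hX
  obtain ⟨Z, hZ, h | h | h⟩ := dec Y hY
  · rw [h]; exact hZ X
  · rw [h]
    show X * (L * Z) = L * Z * X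
    calc X * (L * Z) = X * L * Z := by rw [mul_assoc]
      _ = L * X * Z := by rw [hXL.eq]
      _ = L * (X * Z) := by rw [mul_assoc]
      _ = L * (Z * X) := by rw [hZ X]
      _ = L * Z * X := by rw [mul_assoc]
  · rw [h]
    show X * (L⁻¹ * Z) = L⁻¹ * Z * X
    calc X * (L⁻¹ * Z) = X * L⁻¹ * Z := by rw [mul_assoc]
      _ = L⁻¹ * X * Z := by rw [(hXL.inv_right).eq]
      _ = L⁻¹ * (X * Z) := by rw [mul_assoc]
      _ = L⁻¹ * (Z * X) := by rw [hZ X]
      _ = L⁻¹ * Z * X := by rw [mul_assoc]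

/-- lifts of root elements of `e` and `s` commute when a commutator of root elements of `b` and `a`, that commute with
those of `s`, is a product of root elements of `e` and of `r`, and the lifts of root elements of `r` and `s` commute -/
theorem ecom_of_dec2' (hsurj : Function.Surjective p) (hc : p.ker ≤ Subgroup.center E)
    (r s a b e : ℕ) (c₁ c₂ : F) (hc1 : c₁ ≠ 0) (b0 : F)
    (h1 : ∀ t, ⁅S.y b b0, S.y a t⁆ = S.y e (c₁ * t) * S.y r (c₂ * t)) (h2 : S.MCom a s) (h3 : S.MCom b s)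
    (h4 : S.ECom p r s) : S.ECom p e s := by
  rintro X Y ⟨t, hX⟩ ⟨u, hY⟩
  obtain ⟨A, hA⟩ := hsurj (S.y a (c₁⁻¹ * t))
  obtain ⟨B, hB⟩ := hsurj (S.y b b0)
  obtain ⟨R', hR'⟩ := hsurj (S.y r (c₂ * (c₁⁻¹ * t)))
  have hBA : p ⁅B, A⁆ = S.y e t * S.y r (c₂ * (c₁⁻¹ * t)) := by
    rw [map_commutatorElement, hA, hB, h1]
    congr 2
    field_simp
  have c1 : ∀ g : E, g * ⁅Y, A⁆ = ⁅Y, A⁆ * g := CE.comm_central p hc (by rw [hY, hA]; exact (h2 _ _).symm)
  have c2 : ∀ g : E, g * ⁅Y, B⁆ = ⁅Y, B⁆ * g := CE.comm_central p hc (by rw [hY, hB]; exact (h3 _ _).symm)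
  have c3 : Commute Y ⁅B, A⁆ := CE.commute_comm p hc c2 c1
  have c5 : Commute Y R' := (h4 R' Y ⟨_, hR'⟩ ⟨_, hY⟩).symm
  have c4 : ∀ g : E, g * ((⁅B, A⁆ * R'⁻¹)⁻¹ * X) = ((⁅B, A⁆ * R'⁻¹)⁻¹ * X) * g :=
    CE.central_of_ker p hc (by
      rw [map_mul, map_inv, map_mul, map_inv, hBA, hR', hX]; group)
  have c6 : Commute Y (⁅B, A⁆ * R'⁻¹) := c3.mul_right c5.inv_right
  have e : X = (⁅B, A⁆ * R'⁻¹) * ((⁅B, A⁆ * R'⁻¹)⁻¹ * X) := by group
  show X * Y = Y * X
  rw [e, mul_assoc, ← c4 Y, ← mul_assoc, ← c6.eq, mul_assoc]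

/-- the lifts of the elements of a root subgroup `X_r` commute, when `[x_b, x_a] = x_e x_r` for roots `a`, `b`, `e`
whose root elements commute with those of `r`: version for an element of the torus of any order -/
theorem ecom_of_LR' (H : S.TL p) (r a b e γ : ℕ) (hr : r < fd.n) (h : fd.ChkLR r a b e γ) (v : F) (hv : v ≠ 0)
    (hv1 : v ^ (fd.pr e γ) ≠ 1) : S.ECom p r r := by
  obtain ⟨ha, hb, he, hγ, hba, hbna, hra, hrna, hrb, hrnb, hre, hrne, ⟨hct, hε⟩, har, hbr, her, hpr, hpe⟩ := h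
  have m1 : S.MCom a r := S.mcom_of_nil a r ha hr hra hrna har
  have m2 : S.MCom b r := S.mcom_of_nil b r hb hr hrb hrnb hbr
  have m3 : S.MCom e r := S.mcom_of_nil e r he hr hre hrne her
  have e1 : S.ECom p e r := H.ecom_of_torus e r γ he hr hγ m3 hpr v hv hv1
  set ε₁ : ℤ := ((fd.commT a b).getD 0 (0, 0, 0, 0)).2.1 with hε₁
  set ε₂ : ℤ := ((fd.commT a b).getD 1 (0, 0, 0, 0)).2.1 with hε₂
  have hε0 : ((ε₂ : ℤ) : F) ≠ 0 := by
    rcases hε with h1 | h1 <;> rw [h1] <;> simp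
  have key : ∀ t, ⁅S.y b 1, S.y a t⁆ = S.y e (-((ε₁ : ℤ) : F) * t) * S.y r (((ε₂ : ℤ) : F) * t) := by
    intro t
    have := S.y_comm a b ha hb hba hbna (-t) (-1)
    rw [hct] at this
    simp only [List.map_cons, List.map_nil, List.prod_cons, List.prod_nil, mul_one, pow_one, neg_neg] at this
    have e2 : ⁅S.y b 1, S.y a t⁆ = (S.y b (-1))⁻¹ * (S.y a (-t))⁻¹ * S.y b (-1) * S.y a (-t) := by
      rw [S.y_inv b hb, S.y_inv a ha, neg_neg, neg_neg, commutatorElement_def, S.y_inv b hb, S.y_inv a ha]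
    have e3 : ((ε₁ : ℤ) : F) * t * -1 = -((ε₁ : ℤ) : F) * t := by ring
    have e4 : ((ε₂ : ℤ) : F) * t * (-1) ^ 2 = ((ε₂ : ℤ) : F) * t := by ring
    rw [e3, e4] at this
    rw [e2, mul_assoc, this]
    group
  exact S.ecom_of_dec2 p H.surj H.cen r r a b e _ _ hε0 1 key m1 m2 e1

/-- in characteristic two, root elements commute when the commutator formula has a single term with constant `± 2` -/
theorem mcom_of_two (h2 : (2 : F) = 0) (r s k : ℕ) (c : ℤ) (i j : ℕ) (hr : r < fd.n) (hs : s < fd.n) (hk : k < fd.n)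
    (h1 : s ≠ r) (h2' : s ≠ fd.n - 1 - r) (h : fd.commT r s = [(k, c, i, j)]) (hc : c = 2 ∨ c = -2) : S.MCom r s := by
  intro t u
  have := S.y_comm r s hr hs h1 h2' t u
  rw [h] at this
  simp only [List.map_cons, List.map_nil, List.prod_cons, List.prod_nil, mul_one] at this
  have hc0 : ((c : ℤ) : F) = 0 := by
    rcases hc with rfl | rfl
    · push_cast; exact h2
    · push_cast; rw [h2, neg_zero]
  rw [hc0, zero_mul, zero_mul, S.y_zero k hk, mul_one] at this
  exact this.symm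

end Cfsg.Agent.Lib.H12.StMult
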