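import Mathlib
import Cfsg.Prelude.Def_ChevStructure
import Cfsg.Agent.Lib.H12.StMultC

/-!
# Central extensions of Chevalley groups over the field with three elements: lifts of root elements of orthogonal
roots commute, by two decompositions of one of the roots
-/

set_option autoImplicit false
set_option linter.unusedSectionVars false
set_option linter.unusedSimpArgs false
set_option linter.unusedVariables false

namespace Cfsg.Agent.Lib.H12.StMult

open Cfsg.Lie Matrix Cfsg.Agent.Lib.H29.Chev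

open scoped commutatorElement

variable {D : ChevalleyDatum} {fd : FD} {fx : FX} {fc : FC} {fz : FZ}
variable {C : Cert12 D fd fx fc fz} {F : Type*} [Field F] {M : Type*} [Group M] {S : StG C F M}
variable {E : Type*} [Group E] {p : E →* M}

/-- the commutator of lifts of commuting root elements is additive in both variables and central -/
theorem kap_biadd (hsurj : Function.Surjective p) (hc : p.ker ≤ Subgroup.center E) (r s : ℕ) (hr : r < fd.n)
    (hs : s < fd.n) (hm : S.MCom r s) :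
    (∀ t u, ∀ g : E, g * kap p hsurj (S.y r t) (S.y s u) = kap p hsurj (S.y r t) (S.y s u) * g) ∧
    (∀ t t' u, kap p hsurj (S.y r (t + t')) (S.y s u) =
      kap p hsurj (S.y r t) (S.y s u) * kap p hsurj (S.y r t') (S.y s u)) ∧
    (∀ t u u', kap p hsurj (S.y r t) (S.y s (u + u')) =
      kap p hsurj (S.y r t) (S.y s u) * kap p hsurj (S.y r t) (S.y s u')) := by
  have hcen : ∀ t u, ∀ g : E, g * kap p hsurj (S.y r t) (S.y s u) = kap p hsurj (S.y r t) (S.y s u) * g :=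
    fun t u => kap_central p hsurj hc (hm t u)
  refine ⟨hcen, ?_, ?_⟩
  · intro t t' u
    rw [← S.y_add r hr, kap_mul_left p hsurj hc, hcen t' u]
    intro X Z _ hZ
    have : ∀ g : E, g * Z = Z * g := CE.central_of_ker p hc (by
      rw [hZ]; exact commutatorElement_eq_one_iff_commute.mpr (hm t' u))
    exact this X
  · intro t u u'
    rw [← S.y_add s hs, kap_mul_right p hsurj hc]
    intro Y Z _ hZ
    have : ∀ g : E, g * Z = Z * g := CE.central_of_ker p hc (by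
      rw [hZ]; exact commutatorElement_eq_one_iff_commute.mpr (hm t u'))
    exact this Y

/-- lifts of root elements of orthogonal roots `s`, `r` commute over the field with three elements, when `r = a + b =
a' + e` with `e = s + b`, `a = s + a'`, and the structure constants of the two decompositions have opposite products -/
theorem ecom_orth (hF : IsF3 F) (hsurj : Function.Surjective p) (hc : p.ker ≤ Subgroup.center E)
    (s r a b e a' : ℕ) (hs : s < fd.n) (hr : r < fd.n) (ha : a < fd.n) (he : e < fd.n)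
    (c₁ c₂ c₃ c₄ : F) (hc1 : c₁ * c₁ = 1) (hc3 : c₃ * c₃ = 1) (hsign : c₃ * c₄ = -(c₁ * c₂))
    (H1 : S.MS b a r c₁) (H2 : S.MS s b e c₂) (H3 : S.MS e a' r c₃) (H4 : S.MS s a' a c₄)
    (E1 : S.ECom p a s) (E2 : S.ECom p e r) (E3 : S.ECom p e s) (E4 : S.ECom p a r)
    (Msr : S.MCom s r) (Mea : S.MCom e a) : S.ECom p s r := by
  set L : M → E := Function.surjInv hsurj with hL
  have hpL : ∀ x, p (L x) = x := Function.surjInv_eq hsurj
  obtain ⟨κ, hκ⟩ : ∃ κ : F → F → E, ∀ t u, κ t u = kap p hsurj (S.y s t) (S.y r u) := ⟨_, fun _ _ => rfl⟩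
  obtain ⟨μ, hμ⟩ : ∃ μ : F → F → E, ∀ t u, μ t u = kap p hsurj (S.y e t) (S.y a u) := ⟨_, fun _ _ => rfl⟩
  obtain ⟨κc, κ1, κ2⟩ := kap_biadd hsurj hc s r hs hr Msr
  obtain ⟨μc, μ1, μ2⟩ := kap_biadd hsurj hc e a he ha Mea
  simp only [← hκ] at κc κ1 κ2
  simp only [← hμ] at μc μ1 μ2
  obtain ⟨κa1, κa2, κa3, κa4, κa5, κa6⟩ := biadd_F3 hF κ κ1 κ2
  obtain ⟨μa1, μa2, μa3, μa4, μa5, μa6⟩ := biadd_F3 hF μ μ1 μ2
  -- first decomposition
  have D1 : ∀ t u v, κ t (c₁ * u * v) = μ (c₂ * t * u) v := by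
    intro t u v
    set Y := L (S.y s t) with hY
    set B := L (S.y b u) with hB
    set A := L (S.y a v) with hA
    set W := ⁅Y, B⁆ with hW
    have pBA : p ⁅B, A⁆ = S.y r (c₁ * u * v) := by
      rw [map_commutatorElement, hpL, hpL, H1]
    have pW : p W = S.y e (c₂ * t * u) := by
      rw [hW, map_commutatorElement, hpL, hpL, H2]
    have e1 : κ t (c₁ * u * v) = ⁅Y, ⁅B, A⁆⁆ := by rw [hκ]; exact (kap_eq p hsurj hc (hpL _) pBA).symm
    have e2 : μ (c₂ * t * u) v = ⁅W, A⁆ := by rw [hμ]; exact (kap_eq p hsurj hc pW (hpL _)).symm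
    have cYA : Commute A Y := E1 A Y ⟨_, hpL _⟩ ⟨_, hpL _⟩
    have cW : Commute W ⁅B, A⁆ := E2 W ⁅B, A⁆ ⟨_, pW⟩ ⟨_, pBA⟩
    have e3 : Y * A * Y⁻¹ = A := by rw [← cYA.eq, mul_inv_cancel_right]
    have e4 : Y * B * Y⁻¹ = W * B := by rw [hW]; simp only [commutatorElement_def]; group
    have e5 : Y * ⁅B, A⁆ * Y⁻¹ = ⁅Y * B * Y⁻¹, Y * A * Y⁻¹⁆ := by
      simp only [commutatorElement_def]; group
    have e6 : Y * ⁅B, A⁆ * Y⁻¹ = ⁅B, A⁆ * ⁅W, A⁆ := by
      rw [e5, e3, e4, CE.comm_mul_left, cW.eq, mul_inv_cancel_right]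
    have cen : ∀ g : E, g * ⁅W, A⁆ = ⁅W, A⁆ * g := by
      rw [← e2]; exact μc _ _
    rw [e1, e2]
    calc ⁅Y, ⁅B, A⁆⁆ = (Y * ⁅B, A⁆ * Y⁻¹) * ⁅B, A⁆⁻¹ := commutatorElement_def _ _
      _ = ⁅B, A⁆ * ⁅W, A⁆ * ⁅B, A⁆⁻¹ := by rw [e6]
      _ = ⁅W, A⁆ := by rw [cen ⁅B, A⁆, mul_inv_cancel_right]
  -- second decomposition
  have D2 : ∀ t u v, κ t (c₃ * u * v) = μ u (c₄ * t * v) := by
    intro t u v
    set Y := L (S.y s t) with hY
    set B := L (S.y e u) with hB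
    set A := L (S.y a' v) with hA
    set W := ⁅Y, A⁆ with hW
    have pBA : p ⁅B, A⁆ = S.y r (c₃ * u * v) := by
      rw [map_commutatorElement, hpL, hpL, H3]
    have pW : p W = S.y a (c₄ * t * v) := by
      rw [hW, map_commutatorElement, hpL, hpL, H4]
    have e1 : κ t (c₃ * u * v) = ⁅Y, ⁅B, A⁆⁆ := by rw [hκ]; exact (kap_eq p hsurj hc (hpL _) pBA).symm
    have e2 : μ u (c₄ * t * v) = ⁅B, W⁆ := by rw [hμ]; exact (kap_eq p hsurj hc (hpL _) pW).symm
    have cYB : Commute B Y := E3 B Y ⟨_, hpL _⟩ ⟨_, hpL _⟩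
    have cW : Commute W ⁅B, A⁆ := E4 W ⁅B, A⁆ ⟨_, pW⟩ ⟨_, pBA⟩
    have e3 : Y * B * Y⁻¹ = B := by rw [← cYB.eq, mul_inv_cancel_right]
    have e4 : Y * A * Y⁻¹ = W * A := by rw [hW]; simp only [commutatorElement_def]; group
    have e5 : Y * ⁅B, A⁆ * Y⁻¹ = ⁅Y * B * Y⁻¹, Y * A * Y⁻¹⁆ := by
      simp only [commutatorElement_def]; group
    have e7 : ⁅B, W * A⁆ = ⁅B, W⁆ * (W * ⁅B, A⁆ * W⁻¹) := by
      simp only [commutatorElement_def]; group
    have e6 : Y * ⁅B, A⁆ * Y⁻¹ = ⁅B, W⁆ * ⁅B, A⁆ := by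
      rw [e5, e3, e4, e7, cW.eq, mul_inv_cancel_right]
    rw [e1, e2]
    calc ⁅Y, ⁅B, A⁆⁆ = (Y * ⁅B, A⁆ * Y⁻¹) * ⁅B, A⁆⁻¹ := commutatorElement_def _ _
      _ = ⁅B, W⁆ * ⁅B, A⁆ * ⁅B, A⁆⁻¹ := by rw [e6]
      _ = ⁅B, W⁆ := by rw [mul_inv_cancel_right]
  -- the two relations
  have k1 : κ 1 1 = μ (c₁ * c₂) 1 := by
    have := D1 1 c₁ 1
    rw [mul_one, hc1, mul_one] at this
    rw [this, mul_comm c₁ c₂]
  have k2 : κ 1 1 = μ (c₃ * c₄) 1 := by
    have := D2 1 c₃ 1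
    rw [mul_one, hc3, mul_one, mul_one] at this
    rw [this, ← μa5]
  have k3 : κ 1 1 = (κ 1 1)⁻¹ := by
    nth_rewrite 2 [k1]
    rw [k2, hsign, μa3]
  have k4 : κ 1 1 * κ 1 1 = 1 := by
    nth_rewrite 2 [k3]
    exact mul_inv_cancel _
  have k5 : κ 1 1 * κ 1 1 * κ 1 1 = 1 := by
    rw [← κ1, ← κ1]
    have : (1 : F) + 1 + 1 = 0 := by rw [hF.2]; exact neg_add_cancel 1
    rw [this, κa1]
  have k6 : κ 1 1 = 1 := by rw [k4, one_mul] at k5; exact k5
  have key : ∀ t u, κ t u = 1 := by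
    intro t u
    rw [κa5]
    rcases hF.1 (t * u) with h | h | h
    · rw [h, κa1]
    · rw [h, k6]
    · rw [h, κa3, k6, inv_one]
  rintro X Y ⟨t, hX⟩ ⟨u, hY⟩
  have := kap_eq p hsurj hc hX hY
  rw [← hκ, key] at this
  exact commutatorElement_eq_one_iff_commute.mp this

end Cfsg.Agent.Lib.H12.StMult
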