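import Mathlib
import Cfsg.Prelude.Def_ChevStructure
import Cfsg.Prelude.Def_Steinberg
import Cfsg.Prelude.Def_SteinbergCover
import Cfsg.Agent.Lib.H12.StMultD

/-!
# Central extensions of Chevalley groups over small fields: the homomorphism from the group presented by (R1), (R2),
from lifts of the root elements that satisfy the relations
-/

set_option autoImplicit false
set_option linter.unusedSectionVars false
set_option linter.unusedSimpArgs false
set_option linter.unusedVariables false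

namespace Cfsg.Agent.Lib.H12.StMult

open Cfsg.Lie Matrix Cfsg.Agent.Lib.H29.Chev

open scoped commutatorElement

variable {D : ChevalleyDatum} {fd : FD} {fx : FX} {fc : FC} {fz : FZ}

/-- lifts of the root elements that satisfy the relations (R1), (R2) define a homomorphism from the presented group,
compatible with the homomorphisms onto the Chevalley group -/
theorem lift_of_ZS (C : Cert12 D fd fx fc fz) (K : Type*) [Field K]
    {Γ : Type*} [Group Γ] (σ : Γ →* ↥(D.group K)) (z : ℕ → K → Γ)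
    (hpz : ∀ r, r < fd.n → ∀ t, σ (z r t) = (C.grpStG K).y r t)
    (hadd : ∀ r, r < fd.n → ∀ t u, z r t * z r u = z r (t + u))
    (hall : ∀ r s, r < fd.n → s < fd.n → s ≠ r → s ≠ fd.n - 1 - r → StG.ZS fd z r s) :
    ∃ τ : D.SteinbergCover K →* Γ,
      ∀ m, σ (τ m) = (PresentedGroup.toGroup (C.rels_AB K) : D.SteinbergCover K →* ↥(D.group K)) m := by
  obtain ⟨τ, hτ⟩ := C.cover_hom K z hadd
    (fun r s hr hs h1 h2 t u => hall r s hr hs h1 h2 t u)
  refine ⟨τ, ?_⟩
  have : σ.comp τ = (PresentedGroup.toGroup (C.rels_AB K) : D.SteinbergCover K →* ↥(D.group K)) := by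
    apply PresentedGroup.ext
    intro q
    have hq : q.1.val < fd.n := by rw [← C.c6.c2.nroots_eq]; exact q.1.isLt
    have e : (PresentedGroup.of q : D.SteinbergCover K) = PresentedGroup.mk _ (D.stX q.1.val q.2) := by
      unfold ChevalleyDatum.stX
      rw [dif_pos q.1.isLt]
      rfl
    rw [MonoidHom.comp_apply, e, hτ _ hq, hpz _ hq]
    apply Subtype.ext
    rw [C.toGroup_mk]
    rfl
  intro m
  rw [← this]
  rfl

variable {C : Cert12 D fd fx fc fz} {F : Type*} [Field F] {M : Type*} [Group M] {S : StG C F M}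
variable {E : Type*} [Group E] {p : E →* M}

/-- the relation (R2) for the lifts of a pair of roots, from the table check and the relations for the pairs with a
shorter commutator formula -/
theorem zs_of_chk {z : ℕ → F → E} (Z : S.ZL p z) (hsurj : Function.Surjective p) (hcen : p.ker ≤ Subgroup.center E)
    (zt : ZT) (d : ℤ) (a : F) (ha : a ≠ 0) (hord : ∀ m : ℤ, a ^ m = 1 ↔ m % d = 0)
    (r s : ℕ) (hr : r < fd.n) (hs : s < fd.n) (h1 : s ≠ r) (h2' : s ≠ fd.n - 1 - r)
    (hzs : fd.ChkZSd fx zt d r s)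
    (ih : ∀ r' s', r' < fd.n → s' < fd.n → s' ≠ r' → s' ≠ fd.n - 1 - r' →
      (fd.commT r' s').length < (fd.commT r s).length → StG.ZS fd z r' s') : StG.ZS fd z r s := by
  obtain ⟨c1, c2, c3, c6, c7, c8, c9, c10⟩ := hzs
  have hLn : ∀ k ∈ fd.zsL r s, k < fd.n := by
    intro k hk
    obtain ⟨c, hc, rfl⟩ := List.mem_map.mp hk
    exact (fd.linc_spec C.linc r s hr hs c hc).1
  have hget : ∀ j, j < (fd.zsL r s).length → (fd.zsL r s).getD j 0 ∈ fd.zsL r s := by
    intro j hj
    rw [List.getD_eq_getElem _ _ hj]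
    exact List.getElem_mem hj
  apply Z.step hcen r s hr hs h1 h2' (zt.gamOf r s) c1 a ((hord _).mpr c2) ha
    (fun h => c3 ((hord _).mp h)) (Function.surjInv hsurj (S.hb (zt.gamOf r s) a))
    (Function.surjInv_eq hsurj _) (fd.zsL r s) rfl ?_ ?_ (zt.wdOf r s) c6 c7 c8
  · intro j j' hjj' hj'
    obtain ⟨e1, e2, e3, e4⟩ := c9 j' hj' j hjj'
    refine ⟨e1, e2, ?_, ?_⟩
    · exact ih _ _ (hLn _ (hget j (by omega))) (hLn _ (hget j' hj')) e1 e2 e3
    · intro c hc
      obtain ⟨k, hk1, hk2, hk3⟩ := e4 c hc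
      exact ⟨k, hk2, hk1, hk3⟩
  · intro k hk
    obtain ⟨e1, e2, e3, e4⟩ := c10 k hk
    exact ⟨e1, e2, ih _ _ hr (hLn k hk) e1 e2 e3, e4⟩

/-- the relation (R2) for the lifts of a pair of roots whose root elements commute, when all their lifts commute -/
theorem zs_of_ecom {z : ℕ → F → E} (Z : S.ZL p z) (r s : ℕ) (hr : r < fd.n) (hs : s < fd.n)
    (hnil : fd.commT r s = []) (hE : S.ECom p r s) : StG.ZS fd z r s := by
  intro t u
  unfold StG.zc
  rw [hnil]
  simp only [List.map_nil, List.prod_nil, mul_one]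
  exact ((hE (z r t) (z s u) ⟨t, Z.pz r hr t⟩ ⟨u, Z.pz s hs u⟩).eq).symm

/-- the relations (R2) for the lifts, for all the pairs of roots: each pair is separated by the torus or consists of
roots whose root elements have commuting lifts -/
theorem all_zs_e {z : ℕ → F → E} (Z : S.ZL p z) (hsurj : Function.Surjective p) (hcen : p.ker ≤ Subgroup.center E)
    (zt : ZT) (d : ℤ)
    (hchk : ∀ r < fd.n, ∀ s < fd.n, s ≠ r → s ≠ fd.n - 1 - r →
      fd.ChkZSd fx zt d r s ∨ (fd.commT r s = [] ∧ S.ECom p r s))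
    (a : F) (ha : a ≠ 0) (hord : ∀ m : ℤ, a ^ m = 1 ↔ m % d = 0) :
    ∀ m r s, r < fd.n → s < fd.n → s ≠ r → s ≠ fd.n - 1 - r → (fd.commT r s).length = m → StG.ZS fd z r s := by
  intro m
  induction m using Nat.strong_induction_on with
  | _ m ih =>
    intro r s hr hs h1 h2' hm
    rcases hchk r hr s hs h1 h2' with hzs | ⟨hnil, hE⟩
    · apply zs_of_chk Z hsurj hcen zt d a ha hord r s hr hs h1 h2' hzs
      intro r' s' hr' hs' h1' h2'' hlt
      exact ih _ (by rw [← hm]; exact hlt) r' s' hr' hs' h1' h2'' rfl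
    · exact zs_of_ecom Z r s hr hs hnil hE

/-- every central extension of the Chevalley group receives a homomorphism from the group presented by (R1), (R2),
compatible with the homomorphisms onto the Chevalley group: version for an element of the torus of finite order, with
the commutation of lifts given for the pairs that the torus does not separate -/
theorem torus_lift_e (C : Cert12 D fd fx fc fz) (K : Type*) [Field K] {wit : List (ℕ × ℕ)}
    (hst : fd.ChkSt fx wit) (zt : ZT) (d : ℤ)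
    (hgs : ∀ r < fd.n, zt.gs.getD r 0 < fd.n ∧ fd.pr r (zt.gs.getD r 0) % d ≠ 0)
    (a : K) (ha : a ≠ 0) (hord : ∀ m : ℤ, a ^ m = 1 ↔ m % d = 0)
    {Γ : Type*} [Group Γ] (σ : Γ →* ↥(D.group K)) (hsurj : Function.Surjective σ)
    (hcen : σ.ker ≤ Subgroup.center Γ)
    (hE : ∀ r, r < fd.n → (C.grpStG K).ECom σ r r)
    (hchk : ∀ r < fd.n, ∀ s < fd.n, s ≠ r → s ≠ fd.n - 1 - r →
      fd.ChkZSd fx zt d r s ∨ (fd.commT r s = [] ∧ (C.grpStG K).ECom σ r s)) :
    ∃ τ : D.SteinbergCover K →* Γ,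
      ∀ m, σ (τ m) = (PresentedGroup.toGroup (C.rels_AB K) : D.SteinbergCover K →* ↥(D.group K)) m := by
  set S := C.grpStG K with hS
  have H : S.TL σ := C.grp_TL K hst σ hsurj hcen
  have hg1 : ∀ r, r < fd.n → a ^ (fd.pr r (zt.gs.getD r 0)) ≠ 1 :=
    fun r hr h => (hgs r hr).2 ((hord _).mp h)
  set z : ℕ → K → Γ := fun r t => S.ztg σ H.surj a (zt.gs.getD r 0) r t with hz
  have Z : S.ZL σ z := by
    refine ⟨fun r hr t => H.p_ztg a ha _ r (hgs r hr).1 hr (hg1 r hr) t,
      fun r hr t u => H.ztg_add a ha _ r (hgs r hr).1 hr (hg1 r hr) (hE r hr) t u, ?_⟩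
    intro r γ hr hγ v hv T hT t
    exact H.ztg_conj a ha _ r γ (hgs r hr).1 hr hγ v hv T hT t
  have hall := all_zs_e Z hsurj hcen zt d hchk a ha hord
  exact lift_of_ZS C K σ z Z.pz Z.add (fun r s hr hs h1 h2 => hall _ r s hr hs h1 h2 rfl)

end Cfsg.Agent.Lib.H12.StMult
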