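import Mathlib
import Cfsg.Prelude.Def_ChevStructure
import Cfsg.Prelude.Def_Steinberg
import Cfsg.Prelude.Def_SteinbergCover
import Cfsg.Agent.Lib.H12.StMultE
import Cfsg.Agent.Lib.H29.ChevTLD4
import Cfsg.Agent.Lib.H29.ChevCert13
import Cfsg.Agent.Lib.H29.ChevStChkAll

/-!
# Central extensions of the Chevalley groups of type D4 over the fields with three and four elements
-/

set_option autoImplicit false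
set_option linter.unusedSectionVars false
set_option linter.unusedSimpArgs false
set_option linter.unusedVariables false

namespace Cfsg.Agent.Lib.H12.StMult

open Cfsg.Lie Matrix Cfsg.Agent.Lib.H29.Chev

open scoped commutatorElement

/-- commuting roots `x`, `y` with the root of the table orthogonal to `y` and with odd product with `x` -/
def ChkTor2 (fd : FD) (zt : ZT) (x y : ℕ) : Prop :=
  x < fd.n ∧ y < fd.n ∧ y ≠ x ∧ y ≠ fd.n - 1 - x ∧ fd.commT x y = [] ∧ zt.gamOf x y < fd.n ∧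
  fd.pr y (zt.gamOf x y) = 0 ∧ fd.pr x (zt.gamOf x y) % 2 ≠ 0

instance (fd : FD) (zt : ZT) (x y : ℕ) : Decidable (ChkTor2 fd zt x y) := by
  unfold ChkTor2; infer_instance

/-- the table check for the orthogonal roots `s`, `r`: `r = a + b = a' + e`, `e = s + b`, `a = s + a'` (the commutator
formulas) -/
def ChkOrth1 (fd : FD) (s r a b e a' : ℕ) : Prop :=
  (s < fd.n ∧ r < fd.n ∧ a < fd.n ∧ b < fd.n ∧ e < fd.n ∧ a' < fd.n) ∧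
  (b ≠ a ∧ b ≠ fd.n - 1 - a ∧ fd.commT a b = [(r, fd.decC a b, 1, 1)]) ∧
  (s ≠ b ∧ s ≠ fd.n - 1 - b ∧ fd.commT b s = [(e, fd.decC b s, 1, 1)]) ∧
  (e ≠ a' ∧ e ≠ fd.n - 1 - a' ∧ fd.commT a' e = [(r, fd.decC a' e, 1, 1)]) ∧
  (s ≠ a' ∧ s ≠ fd.n - 1 - a' ∧ fd.commT a' s = [(a, fd.decC a' s, 1, 1)])

instance (fd : FD) (s r a b e a' : ℕ) : Decidable (ChkOrth1 fd s r a b e a') := by
  unfold ChkOrth1; infer_instance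

/-- the table check for the orthogonal roots `s`, `r`: the constants -/
def ChkOrth2 (fd : FD) (s r a b e a' : ℕ) : Prop :=
  (fd.decC a b = 1 ∨ fd.decC a b = -1) ∧ (fd.decC a' e = 1 ∨ fd.decC a' e = -1) ∧
  fd.decC a' e * fd.decC a' s = -(fd.decC a b * fd.decC b s)

instance (fd : FD) (s r a b e a' : ℕ) : Decidable (ChkOrth2 fd s r a b e a') := by
  unfold ChkOrth2; infer_instance

/-- the table check for the orthogonal roots `s`, `r`: the commuting pairs -/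
def ChkOrth3 (fd : FD) (zt : ZT) (s r a b e a' : ℕ) : Prop :=
  (ChkTor2 fd zt a s ∧ ChkTor2 fd zt e r ∧ ChkTor2 fd zt e s ∧ ChkTor2 fd zt a r) ∧
  (r ≠ s ∧ r ≠ fd.n - 1 - s ∧ fd.commT s r = []) ∧ (a ≠ e ∧ a ≠ fd.n - 1 - e ∧ fd.commT e a = [])

instance (fd : FD) (zt : ZT) (s r a b e a' : ℕ) : Decidable (ChkOrth3 fd zt s r a b e a') := by
  unfold ChkOrth3; infer_instance

/-- the table check for the orthogonal roots `s`, `r` -/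
def ChkOrth (fd : FD) (zt : ZT) (s r a b e a' : ℕ) : Prop :=
  ChkOrth1 fd s r a b e a' ∧ ChkOrth2 fd s r a b e a' ∧ ChkOrth3 fd zt s r a b e a'

instance (fd : FD) (zt : ZT) (s r a b e a' : ℕ) : Decidable (ChkOrth fd zt s r a b e a') := by
  unfold ChkOrth; infer_instance

theorem neg_one_zpow_ne_one {F : Type*} [Field F] (h : (1 : F) ≠ -1) (m : ℤ) (hm : m % 2 ≠ 0) : (-1 : F) ^ m ≠ 1 := by
  have ho : Odd m := by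
    rw [Int.odd_iff]
    omega
  rw [ho.neg_one_zpow]
  exact fun h' => h h'.symm

theorem neg_one_zpow_eq_one_iff {F : Type*} [Field F] (h : (1 : F) ≠ -1) (m : ℤ) : (-1 : F) ^ m = 1 ↔ m % 2 = 0 := by
  constructor
  · intro h1
    by_contra h2
    exact neg_one_zpow_ne_one h m h2 h1
  · intro h1
    have he : Even m := by
      rw [Int.even_iff]
      exact h1
    exact he.neg_one_zpow

variable {D : ChevalleyDatum} {fd : FD} {fx : FX} {fc : FC} {fz : FZ}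
variable {C : Cert12 D fd fx fc fz} {F : Type*} [Field F] {M : Type*} [Group M] {S : StG C F M}
variable {E : Type*} [Group E] {p : E →* M}

theorem ecom_of_chkTor2 (H : S.TL p) (hF : IsF3 F) (zt : ZT) (x y : ℕ) (h : ChkTor2 fd zt x y) : S.ECom p x y := by
  obtain ⟨hx, hy, h1, h2, h3, h4, h5, h6⟩ := h
  have hne : (1 : F) ≠ -1 := by
    intro h'
    have := hF.2
    rw [← h'] at this
    have h0 : (1 : F) = 0 := by linear_combination this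
    exact one_ne_zero h0
  exact H.ecom_of_torus x y _ hx hy h4 (S.mcom_of_nil x y hx hy h1 h2 h3) h5 (-1) (by norm_num)
    (neg_one_zpow_ne_one hne _ h6)

/-- lifts of root elements of orthogonal roots commute over the field with three elements, from the table check -/
theorem ecom_of_chkOrth (H : S.TL p) (hF : IsF3 F) (zt : ZT) (s r a b e a' : ℕ)
    (h : ChkOrth fd zt s r a b e a') : S.ECom p s r := by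
  obtain ⟨⟨⟨hs, hr, ha, hb, he, ha'⟩, ⟨b1, b2, b3⟩, ⟨s1, s2, s3⟩, ⟨e1, e2, e3⟩, ⟨t1, t2, t3⟩⟩, ⟨d1, d3, dsign⟩,
    ⟨T1, T2, T3, T4⟩, ⟨m1, m2, m3⟩, ⟨m4, m5, m6⟩⟩ := h
  have H1 := S.ms_of_single r a b ha hb b1 b2 b3
  have H2 := S.ms_of_single e b s hb hs s1 s2 s3
  have H3 := S.ms_of_single r a' e ha' he e1 e2 e3
  have H4 := S.ms_of_single a a' s ha' hs t1 t2 t3
  refine ecom_orth hF H.surj H.cen s r a b e a' hs hr ha he _ _ _ _ ?_ ?_ ?_ H1 H2 H3 H4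
    (ecom_of_chkTor2 H hF zt a s T1) (ecom_of_chkTor2 H hF zt e r T2) (ecom_of_chkTor2 H hF zt e s T3)
    (ecom_of_chkTor2 H hF zt a r T4) (S.mcom_of_nil s r hs hr m1 m2 m3) (S.mcom_of_nil e a he ha m4 m5 m6)
  · rcases d1 with h | h <;> rw [h] <;> norm_num
  · rcases d3 with h | h <;> rw [h] <;> norm_num
  · have : ((fd.decC a' e * fd.decC a' s : ℤ) : F) = ((-(fd.decC a b * fd.decC b s) : ℤ) : F) := by rw [dsign]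
    push_cast at this
    linear_combination this

/-- decompositions of the roots of type D4 -/
def deD4 : List (ℕ × ℕ) := [(1, 9), (0, 14), (0, 15), (0, 16), (0, 17), (1, 17), (0, 19), (0, 20), (0, 21), (0, 22), (1, 20), (1, 21), (2, 22), (3, 22), (1, 23), (2, 23), (3, 23), (4, 23), (6, 22), (6, 23), (7, 23), (8, 23), (9, 23), (14, 22)]

/-- the data for the pairs of orthogonal roots of type D4 -/
def odD4 : List (List (ℕ × ℕ × ℕ × ℕ)) := [[(0, 0, 0, 0), (0, 0, 0, 0), (0, 0, 0, 0), (0, 0, 0, 0), (0, 0, 0, 0), (1, 17, 4, 14), (0, 0, 0, 0), (0, 0, 0, 0), (0, 0, 0, 0), (0, 0, 0, 0), (1, 20, 7, 14), (1, 21, 8, 14), (2, 22, 9, 15), (3, 22, 9, 16), (0, 0, 0, 0), (0, 0, 0, 0), (0, 0, 0, 0), (0, 0, 0, 0), (6, 22, 9, 19), (0, 0, 0, 0), (0, 0, 0, 0), (0, 0, 0, 0), (0, 0, 0, 0), (0, 0, 0, 0)], [(0, 0, 0, 0),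 (0, 0, 0, 0), (0, 0, 0, 0), (0, 0, 0, 0), (0, 17, 5, 9), (0, 0, 0, 0), (0, 0, 0, 0), (0, 20, 10, 9), (0, 21, 11, 9), (0, 0, 0, 0), (0, 0, 0, 0), (0, 0, 0, 0), (0, 0, 0, 0), (0, 0, 0, 0), (0, 0, 0, 0), (2, 23, 14, 12), (3, 23, 14, 13), (0, 0, 0, 0), (0, 0, 0, 0), (6, 23, 14, 18), (0, 0, 0, 0), (0, 0, 0, 0), (0, 0, 0, 0), (0, 0, 0, 0)], [(0, 0, 0, 0), (0, 0, 0, 0), (0, 0, 0, 0), (0, 16, 5, 8), (0, 0, 0, 0), (0, 0, 0, 0), (0, 19, 10, 8), (0, 0, 0, 0), (0, 0, 0, 0), (0, 22, 12, 8), (0, 0, 0, 0), (0, 0, 0, 0), (0, 0, 0, 0), (0, 0, 0, 0), (1, 23, 15, 11), (0, 0, 0, 0), (0, 0, 0, 0), (4, 23, 15, 13), (0, 0, 0, 0), (0, 0, 0, 0), (7, 23, 15, 18), (0, 0, 0, 0), (0, 0, 0, 0), (0, 0, 0, 0)], [(0, 0, 0, 0), (0, 0, 0, 0), (0, 15, 5, 7), (0, 0, 0, 0), (0, 0, 0, 0), (0, 0, 0, 0), (0, 19, 11, 7), (0, 0, 0, 0), (0, 0,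 0, 0), (0, 22, 13, 7), (0, 0, 0, 0), (0, 0, 0, 0), (0, 0, 0, 0), (0, 0, 0, 0), (1, 23, 16, 10), (0, 0, 0, 0), (0, 0, 0, 0), (4, 23, 16, 12), (0, 0, 0, 0), (0, 0, 0, 0), (0, 0, 0, 0), (8, 23, 16, 18), (0, 0, 0, 0), (0, 0, 0, 0)], [(0, 0, 0, 0), (0, 14, 5, 6), (0, 0, 0, 0), (0, 0, 0, 0), (0, 0, 0, 0), (0, 0, 0, 0), (0, 0, 0, 0), (0, 20, 12, 6), (0, 21, 13, 6), (0, 0, 0, 0), (0, 0, 0, 0), (0, 0, 0, 0), (0, 0, 0, 0), (0, 0, 0, 0), (0, 0, 0, 0), (2, 23, 17, 10), (3, 23, 17, 11), (0, 0, 0, 0), (0, 0, 0, 0), (0, 0, 0, 0), (0, 0, 0, 0), (0, 0, 0, 0), (9, 23, 17, 18), (0, 0, 0, 0)], [(1, 9, 4, 6), (0, 0, 0, 0), (0, 0, 0, 0), (0, 0, 0, 0), (0, 0, 0, 0), (0, 0, 0, 0), (0, 0, 0, 0), (0, 0, 0, 0), (0, 0, 0, 0), (0, 0, 0, 0), (1, 20, 15, 6), (1, 21, 16, 6), (2, 22, 17, 7), (3, 22, 17, 8), (0, 0, 0, 0), (0, 0, 0, 0),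 (0, 0, 0, 0), (0, 0, 0, 0), (0, 0, 0, 0), (0, 0, 0, 0), (0, 0, 0, 0), (0, 0, 0, 0), (0, 0, 0, 0), (14, 22, 17, 19)], [(0, 0, 0, 0), (0, 0, 0, 0), (0, 15, 10, 4), (0, 16, 11, 4), (0, 0, 0, 0), (0, 0, 0, 0), (0, 0, 0, 0), (0, 0, 0, 0), (0, 0, 0, 0), (0, 22, 18, 4), (0, 0, 0, 0), (0, 0, 0, 0), (0, 0, 0, 0), (0, 0, 0, 0), (1, 23, 19, 5), (0, 0, 0, 0), (0, 0, 0, 0), (0, 0, 0, 0), (0, 0, 0, 0), (0, 0, 0, 0), (7, 23, 19, 12), (8, 23, 19, 13), (0, 0, 0, 0), (0, 0, 0, 0)], [(0, 0, 0, 0), (0, 14, 10, 3), (0, 0, 0, 0), (0, 0, 0, 0), (0, 17, 12, 3), (0, 0, 0, 0), (0, 0, 0, 0), (0, 0, 0, 0), (0, 21, 18, 3), (0, 0, 0, 0), (0, 0, 0, 0), (0, 0, 0, 0), (0, 0, 0, 0), (0, 0, 0, 0), (0, 0, 0, 0), (2, 23, 20, 5), (0, 0, 0, 0), (0, 0, 0, 0), (0, 0, 0, 0), (6, 23, 20, 11), (0, 0, 0, 0), (0, 0, 0, 0), (9, 23, 20, 13), (0, 0,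 0, 0)], [(0, 0, 0, 0), (0, 14, 11, 2), (0, 0, 0, 0), (0, 0, 0, 0), (0, 17, 13, 2), (0, 0, 0, 0), (0, 0, 0, 0), (0, 20, 18, 2), (0, 0, 0, 0), (0, 0, 0, 0), (0, 0, 0, 0), (0, 0, 0, 0), (0, 0, 0, 0), (0, 0, 0, 0), (0, 0, 0, 0), (0, 0, 0, 0), (3, 23, 21, 5), (0, 0, 0, 0), (0, 0, 0, 0), (6, 23, 21, 10), (0, 0, 0, 0), (0, 0, 0, 0), (9, 23, 21, 12), (0, 0, 0, 0)], [(0, 0, 0, 0), (0, 0, 0, 0), (0, 15, 12, 1), (0, 16, 13, 1), (0, 0, 0, 0), (0, 0, 0, 0), (0, 19, 18, 1), (0, 0, 0, 0), (0, 0, 0, 0), (0, 0, 0, 0), (0, 0, 0, 0), (0, 0, 0, 0), (0, 0, 0, 0), (0, 0, 0, 0), (0, 0, 0, 0), (0, 0, 0, 0), (0, 0, 0, 0), (4, 23, 22, 5), (0, 0, 0, 0), (0, 0, 0, 0), (7, 23, 22, 10), (8, 23, 22, 11), (0, 0, 0, 0), (0, 0, 0, 0)], [(1, 9, 7, 3), (0, 0, 0, 0), (0, 0, 0, 0), (0, 0, 0, 0), (0, 0, 0, 0), (1, 17, 15, 3), (0, 0, 0, 0),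 (0, 0, 0, 0), (0, 0, 0, 0), (0, 0, 0, 0), (0, 0, 0, 0), (1, 21, 19, 3), (2, 22, 20, 4), (0, 0, 0, 0), (0, 0, 0, 0), (0, 0, 0, 0), (0, 0, 0, 0), (0, 0, 0, 0), (6, 22, 20, 8), (0, 0, 0, 0), (0, 0, 0, 0), (0, 0, 0, 0), (0, 0, 0, 0), (14, 22, 20, 16)], [(1, 9, 8, 2), (0, 0, 0, 0), (0, 0, 0, 0), (0, 0, 0, 0), (0, 0, 0, 0), (1, 17, 16, 2), (0, 0, 0, 0), (0, 0, 0, 0), (0, 0, 0, 0), (0, 0, 0, 0), (1, 20, 19, 2), (0, 0, 0, 0), (0, 0, 0, 0), (3, 22, 21, 4), (0, 0, 0, 0), (0, 0, 0, 0), (0, 0, 0, 0), (0, 0, 0, 0), (6, 22, 21, 7), (0, 0, 0, 0), (0, 0, 0, 0), (0, 0, 0, 0), (0, 0, 0, 0), (14, 22, 21, 15)], [(2, 8, 9, 1), (0, 0, 0, 0), (0, 0, 0, 0), (0, 0, 0, 0), (0, 0, 0, 0), (2, 16, 17, 1), (0, 0, 0, 0), (0, 0, 0, 0), (0, 0, 0, 0), (0, 0, 0, 0), (2, 19, 20, 1), (0, 0, 0, 0), (0, 0, 0, 0), (4, 21, 22, 3), (0, 0, 0,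 0), (0, 0, 0, 0), (0, 0, 0, 0), (0, 0, 0, 0), (7, 21, 22, 6), (0, 0, 0, 0), (0, 0, 0, 0), (0, 0, 0, 0), (0, 0, 0, 0), (15, 21, 22, 14)], [(3, 7, 9, 1), (0, 0, 0, 0), (0, 0, 0, 0), (0, 0, 0, 0), (0, 0, 0, 0), (3, 15, 17, 1), (0, 0, 0, 0), (0, 0, 0, 0), (0, 0, 0, 0), (0, 0, 0, 0), (0, 0, 0, 0), (3, 19, 21, 1), (4, 20, 22, 2), (0, 0, 0, 0), (0, 0, 0, 0), (0, 0, 0, 0), (0, 0, 0, 0), (0, 0, 0, 0), (8, 20, 22, 6), (0, 0, 0, 0), (0, 0, 0, 0), (0, 0, 0, 0), (0, 0, 0, 0), (16, 20, 22, 14)], [(0, 0, 0, 0), (0, 0, 0, 0), (1, 12, 15, 0), (1, 13, 16, 0), (0, 0, 0, 0), (0, 0, 0, 0), (1, 18, 19, 0), (0, 0, 0, 0), (0, 0, 0, 0), (0, 0, 0, 0), (0, 0, 0, 0), (0, 0, 0, 0), (0, 0, 0, 0), (0, 0, 0, 0), (0, 0, 0, 0), (0, 0, 0, 0), (0, 0, 0, 0), (5, 22, 23, 4), (0, 0, 0, 0), (0, 0, 0, 0), (10, 22, 23, 7), (11, 22, 23, 8), (0,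 0, 0, 0), (0, 0, 0, 0)], [(0, 0, 0, 0), (2, 11, 14, 0), (0, 0, 0, 0), (0, 0, 0, 0), (2, 13, 17, 0), (0, 0, 0, 0), (0, 0, 0, 0), (2, 18, 20, 0), (0, 0, 0, 0), (0, 0, 0, 0), (0, 0, 0, 0), (0, 0, 0, 0), (0, 0, 0, 0), (0, 0, 0, 0), (0, 0, 0, 0), (0, 0, 0, 0), (5, 21, 23, 3), (0, 0, 0, 0), (0, 0, 0, 0), (10, 21, 23, 6), (0, 0, 0, 0), (0, 0, 0, 0), (12, 21, 23, 9), (0, 0, 0, 0)], [(0, 0, 0, 0), (3, 10, 14, 0), (0, 0, 0, 0), (0, 0, 0, 0), (3, 12, 17, 0), (0, 0, 0, 0), (0, 0, 0, 0), (0, 0, 0, 0), (3, 18, 21, 0), (0, 0, 0, 0), (0, 0, 0, 0), (0, 0, 0, 0), (0, 0, 0, 0), (0, 0, 0, 0), (0, 0, 0, 0), (5, 20, 23, 2), (0, 0, 0, 0), (0, 0, 0, 0), (0, 0, 0, 0), (11, 20, 23, 6), (0, 0, 0, 0), (0, 0, 0, 0), (13, 20, 23, 9), (0, 0, 0, 0)], [(0, 0, 0, 0), (0, 0, 0, 0), (4, 10, 15, 0), (4, 11, 16, 0), (0, 0, 0, 0), (0, 0,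 0, 0), (0, 0, 0, 0), (0, 0, 0, 0), (0, 0, 0, 0), (4, 18, 22, 0), (0, 0, 0, 0), (0, 0, 0, 0), (0, 0, 0, 0), (0, 0, 0, 0), (5, 19, 23, 1), (0, 0, 0, 0), (0, 0, 0, 0), (0, 0, 0, 0), (0, 0, 0, 0), (0, 0, 0, 0), (12, 19, 23, 7), (13, 19, 23, 8), (0, 0, 0, 0), (0, 0, 0, 0)], [(6, 4, 9, 1), (0, 0, 0, 0), (0, 0, 0, 0), (0, 0, 0, 0), (0, 0, 0, 0), (0, 0, 0, 0), (0, 0, 0, 0), (0, 0, 0, 0), (0, 0, 0, 0), (0, 0, 0, 0), (6, 15, 20, 1), (6, 16, 21, 1), (7, 17, 22, 2), (8, 17, 22, 3), (0, 0, 0, 0), (0, 0, 0, 0), (0, 0, 0, 0), (0, 0, 0, 0), (0, 0, 0, 0), (0, 0, 0, 0), (0, 0, 0, 0), (0, 0, 0, 0), (0, 0, 0, 0), (19, 17, 22, 14)], [(0, 0, 0, 0), (6, 5, 14, 0), (0, 0, 0, 0), (0, 0, 0, 0), (0, 0, 0, 0), (0, 0, 0, 0), (0, 0, 0, 0), (6, 12, 20, 0), (6, 13, 21, 0), (0, 0, 0, 0), (0, 0, 0, 0), (0, 0, 0, 0), (0, 0, 0, 0), (0,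 0, 0, 0), (0, 0, 0, 0), (10, 17, 23, 2), (11, 17, 23, 3), (0, 0, 0, 0), (0, 0, 0, 0), (0, 0, 0, 0), (0, 0, 0, 0), (0, 0, 0, 0), (18, 17, 23, 9), (0, 0, 0, 0)], [(0, 0, 0, 0), (0, 0, 0, 0), (7, 5, 15, 0), (0, 0, 0, 0), (0, 0, 0, 0), (0, 0, 0, 0), (7, 11, 19, 0), (0, 0, 0, 0), (0, 0, 0, 0), (7, 13, 22, 0), (0, 0, 0, 0), (0, 0, 0, 0), (0, 0, 0, 0), (0, 0, 0, 0), (10, 16, 23, 1), (0, 0, 0, 0), (0, 0, 0, 0), (12, 16, 23, 4), (0, 0, 0, 0), (0, 0, 0, 0), (0, 0, 0, 0), (18, 16, 23, 8), (0, 0, 0, 0), (0, 0, 0, 0)], [(0, 0, 0, 0), (0, 0, 0, 0), (0, 0, 0, 0), (8, 5, 16, 0), (0, 0, 0, 0), (0, 0, 0, 0), (8, 10, 19, 0), (0, 0, 0, 0), (0, 0, 0, 0), (8, 12, 22, 0), (0, 0, 0, 0), (0, 0, 0, 0), (0, 0, 0, 0), (0, 0, 0, 0), (11, 15, 23, 1), (0, 0, 0, 0), (0, 0, 0, 0), (13, 15, 23, 4), (0, 0, 0, 0), (0, 0, 0, 0), (18, 15,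 23, 7), (0, 0, 0, 0), (0, 0, 0, 0), (0, 0, 0, 0)], [(0, 0, 0, 0), (0, 0, 0, 0), (0, 0, 0, 0), (0, 0, 0, 0), (9, 5, 17, 0), (0, 0, 0, 0), (0, 0, 0, 0), (9, 10, 20, 0), (9, 11, 21, 0), (0, 0, 0, 0), (0, 0, 0, 0), (0, 0, 0, 0), (0, 0, 0, 0), (0, 0, 0, 0), (0, 0, 0, 0), (12, 14, 23, 2), (13, 14, 23, 3), (0, 0, 0, 0), (0, 0, 0, 0), (18, 14, 23, 6), (0, 0, 0, 0), (0, 0, 0, 0), (0, 0, 0, 0), (0, 0, 0, 0)], [(0, 0, 0, 0), (0, 0, 0, 0), (0, 0, 0, 0), (0, 0, 0, 0), (0, 0, 0, 0), (14, 4, 17, 1), (0, 0, 0, 0), (0, 0, 0, 0), (0, 0, 0, 0), (0, 0, 0, 0), (14, 7, 20, 1), (14, 8, 21, 1), (15, 9, 22, 2), (16, 9, 22, 3), (0, 0, 0, 0), (0, 0, 0, 0), (0, 0, 0, 0), (0, 0, 0, 0), (19, 9, 22, 6), (0, 0, 0, 0), (0, 0, 0, 0), (0, 0, 0, 0), (0, 0, 0, 0), (0, 0, 0, 0)]]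

def odOf (od : List (List (ℕ × ℕ × ℕ × ℕ))) (r s : ℕ) : ℕ × ℕ × ℕ × ℕ := (od.getD r []).getD s (0, 0, 0, 0)

set_option maxRecDepth 1000000 in
set_option maxHeartbeats 0 in
theorem fdD4_de : ∀ r < fdD4.n, fdD4.ChkDecP false r r (deD4.getD r (0, 0)).1 (deD4.getD r (0, 0)).2 := by
  decide +kernel

set_option maxRecDepth 1000000 in
set_option maxHeartbeats 0 in
theorem fdD4_gam3 : ∀ r < fdD4.n, ∀ s < fdD4.n, s ≠ r → s ≠ fdD4.n - 1 - r →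
    fdD4.pr r (ztD4.gamOf r s) % 3 ≠ 0 := by
  decide +kernel

set_option maxRecDepth 1000000 in
set_option maxHeartbeats 0 in
theorem fdD4_gs : ∀ r < fdD4.n, ztD4.gs.getD r 0 < fdD4.n ∧ fdD4.pr r (ztD4.gs.getD r 0) % 3 ≠ 0 ∧
    fdD4.pr r (ztD4.gs.getD r 0) % 2 ≠ 0 := by
  decide +kernel

/-- the check for a pair of roots, for the field with three elements: the torus separates the roots, or they are
orthogonal and the table of decompositions passes the check -/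
def ChkPair3 (fd : FD) (zt : ZT) (od : List (List (ℕ × ℕ × ℕ × ℕ))) (r s : ℕ) : Prop :=
  fd.pr r (zt.gamOf r s) % 2 ≠ 0 ∨
    (fd.commT r s = [] ∧ ChkOrth fd zt r s (odOf od r s).1 (odOf od r s).2.1 (odOf od r s).2.2.1 (odOf od r s).2.2.2)

instance (fd : FD) (zt : ZT) (od : List (List (ℕ × ℕ × ℕ × ℕ))) (r s : ℕ) : Decidable (ChkPair3 fd zt od r s) := by
  unfold ChkPair3; infer_instance

set_option maxRecDepth 1000000 in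
set_option maxHeartbeats 0 in
theorem fdD4_orth : ∀ r < fdD4.n, ∀ s < fdD4.n, s ≠ r → s ≠ fdD4.n - 1 - r → ChkPair3 fdD4 ztD4 odD4 r s := by
  decide +kernel

end Cfsg.Agent.Lib.H12.StMult
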