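import Mathlib
import Cfsg.Prelude.Def_ChevStructure
import Cfsg.Prelude.Def_Steinberg
import Cfsg.Prelude.Def_SteinbergCover
import Cfsg.Agent.Lib.H12.StMultF

/-!
# Central extensions of the Chevalley groups of type D4 over finite fields with more than two elements: the
homomorphism from the group presented by (R1), (R2)
-/

set_option autoImplicit false
set_option linter.unusedSectionVars false
set_option linter.unusedSimpArgs false
set_option linter.unusedVariables false

namespace Cfsg.Agent.Lib.H12.StMult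

open Cfsg.Lie Matrix Cfsg.Agent.Lib.H29.Chev

open scoped commutatorElement

/-- a generator of the multiplicative group of a finite field -/
theorem exists_gen_zpow {K : Type*} [Field K] [Fintype K] :
    ∃ a : K, a ≠ 0 ∧ ∀ m : ℤ, a ^ m = 1 ↔ m % ((Fintype.card K - 1 : ℕ) : ℤ) = 0 := by
  obtain ⟨g, hg⟩ := IsCyclic.exists_generator (α := Kˣ)
  have hord : orderOf g = Fintype.card K - 1 := by
    classical
    rw [orderOf_eq_card_of_forall_mem_zpowers hg, Nat.card_eq_fintype_card, Fintype.card_units]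
  refine ⟨(g : K), Units.ne_zero g, ?_⟩
  intro m
  rw [← hord, ← Units.val_zpow_eq_zpow_val, Units.val_eq_one, ← Int.dvd_iff_emod_eq_zero]
  exact orderOf_dvd_iff_zpow_eq_one.symm

theorem one_ne_neg_one_of_F3 {F : Type*} [Field F] (hF : IsF3 F) : (1 : F) ≠ -1 := by
  intro h'
  have := hF.2
  rw [← h'] at this
  have h0 : (1 : F) = 0 := by linear_combination this
  exact one_ne_zero h0

/-- type D4 over the field with three elements -/
theorem d4_lift_q3 (K : Type*) [Field K] (hF : IsF3 K)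
    {Γ : Type*} [Group Γ] (σ : Γ →* ↥(chevD4.group K)) (hsurj : Function.Surjective σ)
    (hcen : σ.ker ≤ Subgroup.center Γ) :
    ∃ τ : chevD4.SteinbergCover K →* Γ,
      ∀ m, σ (τ m) = (PresentedGroup.toGroup (cert12_D4.rels_AB K) : chevD4.SteinbergCover K →* ↥(chevD4.group K)) m := by
  have hne := one_ne_neg_one_of_F3 hF
  have H := cert12_D4.grp_TL K fdD4_ChkSt σ hsurj hcen
  apply torus_lift_e cert12_D4 K fdD4_ChkSt ztD4 2 (fun r hr => ⟨(fdD4_gs r hr).1, (fdD4_gs r hr).2.2⟩)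
    (-1) (by norm_num) (neg_one_zpow_eq_one_iff hne) σ hsurj hcen
    (fun r hr => ecom_self_F3 hF hsurj hcen r hr)
  intro r hr s hs h1 h2
  rcases fdD4_orth r hr s hs h1 h2 with h | ⟨hnil, ho⟩
  · exact Or.inl (FD.chkZSd_of_chkZS 2 (fdD4_ChkZS r hr s hs h1 h2) h)
  · exact Or.inr ⟨hnil, ecom_of_chkOrth H hF ztD4 r s _ _ _ _ ho⟩

/-- type D4 over the field with four elements -/
theorem d4_lift_q4 (K : Type*) [Field K] (a : K) (ha : a ≠ 0) (hord : ∀ m : ℤ, a ^ m = 1 ↔ m % 3 = 0)
    {Γ : Type*} [Group Γ] (σ : Γ →* ↥(chevD4.group K)) (hsurj : Function.Surjective σ)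
    (hcen : σ.ker ≤ Subgroup.center Γ) :
    ∃ τ : chevD4.SteinbergCover K →* Γ,
      ∀ m, σ (τ m) = (PresentedGroup.toGroup (cert12_D4.rels_AB K) : chevD4.SteinbergCover K →* ↥(chevD4.group K)) m := by
  apply torus_lift_e cert12_D4 K fdD4_ChkSt ztD4 3 (fun r hr => ⟨(fdD4_gs r hr).1, (fdD4_gs r hr).2.1⟩)
    a ha hord σ hsurj hcen
    (fun r hr => (cert12_D4.grpStG K).ecom_of_chkDecP σ hsurj hcen false (by simp) r r _ _ hr hr (fdD4_de r hr))
  intro r hr s hs h1 h2
  exact Or.inl (FD.chkZSd_of_chkZS 3 (fdD4_ChkZS r hr s hs h1 h2) (fdD4_gam3 r hr s hs h1 h2))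

/-- type D4 over a finite field with more than two elements -/
theorem d4_lift (K : Type*) [Field K] [Fintype K] (hK : Fintype.card K ≠ 2)
    {Γ : Type*} [Group Γ] (σ : Γ →* ↥(chevD4.group K)) (hsurj : Function.Surjective σ)
    (hcen : σ.ker ≤ Subgroup.center Γ) :
    ∃ τ : chevD4.SteinbergCover K →* Γ,
      ∀ m, σ (τ m) = (PresentedGroup.toGroup (cert12_D4.rels_AB K) : chevD4.SteinbergCover K →* ↥(chevD4.group K)) m := by
  obtain ⟨a, ha, hord⟩ := exists_gen_zpow (K := K)
  have h2 : 2 ≤ Fintype.card K := Fintype.one_lt_card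
  rcases Nat.lt_or_ge (Fintype.card K) 5 with h5 | h5
  · rcases Nat.lt_or_ge (Fintype.card K) 4 with h4 | h4
    · have hq : Fintype.card K = 3 := by omega
      exact d4_lift_q3 K (isF3_of_card hq) σ hsurj hcen
    · have hq : Fintype.card K = 4 := by omega
      rw [hq] at hord
      exact d4_lift_q4 K a ha hord σ hsurj hcen
  · have hpow : ∀ k : ℕ, k ≠ 0 → k < 4 → a ^ k ≠ 1 := by
      intro k hk0 hk h
      have h1 := (hord (k : ℤ)).mp (by rw [zpow_natCast]; exact h)
      have h3 : ((Fintype.card K - 1 : ℕ) : ℤ) ∣ (k : ℤ) := Int.dvd_of_emod_eq_zero h1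
      have h4 := Int.natCast_dvd_natCast.mp h3
      have := Nat.le_of_dvd (Nat.pos_of_ne_zero hk0) h4
      omega
    exact cert12_D4.torus_lift K fdD4_ChkSt ztD4 fdD4_ChkZS fdD4_ChkGS a ha
      (hpow 2 (by norm_num) (by norm_num)) (hpow 3 (by norm_num) (by norm_num)) σ hsurj hcen

end Cfsg.Agent.Lib.H12.StMult
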