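import Mathlib
import Cfsg.Prelude.Def_ChevStructure
import Cfsg.Prelude.Def_Steinberg
import Cfsg.Prelude.Def_SteinbergCover
import Cfsg.Agent.Lib.H12.StMultG
import Cfsg.Agent.Lib.H29.ChevTLB2

/-!
# Central extensions of the Chevalley groups of type B2 over the field with four elements, and over fields with more
than four elements
-/

set_option autoImplicit false
set_option linter.unusedSectionVars false
set_option linter.unusedSimpArgs false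
set_option linter.unusedVariables false

namespace Cfsg.Agent.Lib.H12.StMult

open Cfsg.Lie Matrix Cfsg.Agent.Lib.H29.Chev

open scoped commutatorElement

/-- the root elements of `x` and `e` commute in characteristic two, by the tables -/
def MC2 (fd : FD) (x e : ℕ) : Prop :=
  e ≠ x ∧ e ≠ fd.n - 1 - x ∧
    (fd.commT x e = [] ∨
      (fd.commT x e = [(fd.commT x e).getD 0 (0, 0, 0, 0)] ∧ ((fd.commT x e).getD 0 (0, 0, 0, 0)).1 < fd.n ∧
        (((fd.commT x e).getD 0 (0, 0, 0, 0)).2.1 = 2 ∨ ((fd.commT x e).getD 0 (0, 0, 0, 0)).2.1 = -2)))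

instance (fd : FD) (x e : ℕ) : Decidable (MC2 fd x e) := by
  unfold MC2; infer_instance

/-- the data for a root `e` in characteristic two: roots `a`, `b`, `r'` with `[x_b, x_a] = x_e x_{r'}`, the root
elements of `a` and `b` commute with those of `e`, and a root `γ` orthogonal to `e` and not to `r'` -/
def ChkSR (fd : FD) (e a b r' γ : ℕ) : Prop :=
  (e < fd.n ∧ a < fd.n ∧ b < fd.n ∧ r' < fd.n ∧ γ < fd.n) ∧ (b ≠ a ∧ b ≠ fd.n - 1 - a) ∧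
  (fd.commT a b = [(e, ((fd.commT a b).getD 0 (0, 0, 0, 0)).2.1, 1, 1),
      (r', ((fd.commT a b).getD 1 (0, 0, 0, 0)).2.1, 1, 2)] ∧
    (((fd.commT a b).getD 0 (0, 0, 0, 0)).2.1 = 1 ∨ ((fd.commT a b).getD 0 (0, 0, 0, 0)).2.1 = -1)) ∧
  MC2 fd a e ∧ MC2 fd b e ∧
  (e ≠ r' ∧ e ≠ fd.n - 1 - r' ∧ fd.commT r' e = [] ∧ fd.pr e γ = 0 ∧ fd.pr r' γ % 3 ≠ 0)

instance (fd : FD) (e a b r' γ : ℕ) : Decidable (ChkSR fd e a b r' γ) := by
  unfold ChkSR; infer_instance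

variable {D : ChevalleyDatum} {fd : FD} {fx : FX} {fc : FC} {fz : FZ}
variable {C : Cert12 D fd fx fc fz} {F : Type*} [Field F] {M : Type*} [Group M] {S : StG C F M}
variable {E : Type*} [Group E] {p : E →* M}

theorem mcom_of_MC2 (h2 : (2 : F) = 0) (x e : ℕ) (hx : x < fd.n) (he : e < fd.n) (h : MC2 fd x e) : S.MCom x e := by
  obtain ⟨h1, h2', h3 | ⟨h3, h4, h5⟩⟩ := h
  · exact S.mcom_of_nil x e hx he h1 h2' h3
  · exact mcom_of_two h2 x e _ _ _ _ hx he h4 h1 h2' h3 h5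

/-- the lifts of the elements of the root subgroup `X_e` commute, in characteristic two, from the table check -/
theorem ecom_of_chkSR (H : S.TL p) (h2 : (2 : F) = 0) (v : F) (hv : v ≠ 0) (hv3 : ∀ m : ℤ, v ^ m = 1 ↔ m % 3 = 0)
    (e a b r' γ : ℕ) (h : ChkSR fd e a b r' γ) : S.ECom p e e := by
  obtain ⟨⟨he, ha, hb, hr', hγ⟩, ⟨hba, hbna⟩, ⟨hct, hε⟩, ma, mb, ⟨t1, t2, t3, t4, t5⟩⟩ := h
  have m1 : S.MCom a e := mcom_of_MC2 h2 a e ha he ma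
  have m2 : S.MCom b e := mcom_of_MC2 h2 b e hb he mb
  have m3 : S.MCom r' e := S.mcom_of_nil r' e hr' he t1 t2 t3
  have e1 : S.ECom p r' e := H.ecom_of_torus r' e γ hr' he hγ m3 t4 v hv (fun h => t5 ((hv3 _).mp h))
  set ε₁ : ℤ := ((fd.commT a b).getD 0 (0, 0, 0, 0)).2.1 with hε₁
  set ε₂ : ℤ := ((fd.commT a b).getD 1 (0, 0, 0, 0)).2.1 with hε₂
  have hε0 : -((ε₁ : ℤ) : F) ≠ 0 := by
    rw [neg_ne_zero]
    rcases hε with h1 | h1 <;> rw [h1] <;> simp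
  have key : ∀ t, ⁅S.y b 1, S.y a t⁆ = S.y e (-((ε₁ : ℤ) : F) * t) * S.y r' (((ε₂ : ℤ) : F) * t) := by
    intro t
    have := S.y_comm a b ha hb hba hbna (-t) (-1)
    rw [hct] at this
    simp only [List.map_cons, List.map_nil, List.prod_cons, List.prod_nil, mul_one, pow_one, neg_neg] at this
    have e2 : ⁅S.y b 1, S.y a t⁆ = (S.y b (-1))⁻¹ * (S.y a (-t))⁻¹ * S.y b (-1) * S.y a (-t) := by
      rw [S.y_inv b hb, S.y_inv a ha, neg_neg, neg_neg, commutatorElement_def, S.y_inv b hb, S.y_inv a ha]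
    have e3 : ((ε₁ : ℤ) : F) * t * -1 = -((ε₁ : ℤ) : F) * t := by ring
    have e4 : ((ε₂ : ℤ) : F) * t * (-1) ^ 2 = ((ε₂ : ℤ) : F) * t := by ring
    rw [e3, e4] at this
    rw [e2, mul_assoc, this]
    group
  exact ecom_of_dec2' H.surj H.cen r' e a b e _ _ hε0 1 key m1 m2 e1

/-- the table of type B2 with the roots themselves as auxiliary roots for the lifts -/
def ztB2q : ZT where
  gam := ztB2.gam
  wd := ztB2.wd
  gs := [0, 1, 2, 3, 4, 5, 6, 7]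

theorem fdB2_ChkZSq (r s : ℕ) (h : fdB2.ChkZS fxB2 ztB2 r s) : fdB2.ChkZS fxB2 ztB2q r s := h

set_option maxRecDepth 1000000 in
theorem fdB2_gsq : ∀ r < fdB2.n, ztB2q.gs.getD r 0 < fdB2.n ∧ fdB2.pr r (ztB2q.gs.getD r 0) % 3 ≠ 0 := by
  decide +kernel

set_option maxRecDepth 1000000 in
theorem fdB2_gam3 : ∀ r < fdB2.n, ∀ s < fdB2.n, s ≠ r → s ≠ fdB2.n - 1 - r →
    fdB2.pr r (ztB2q.gamOf r s) % 3 ≠ 0 := by
  decide +kernel

set_option maxRecDepth 1000000 in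
theorem fdB2_ChkSR : ChkSR fdB2 1 0 5 3 2 ∧ ChkSR fdB2 2 0 6 4 1 ∧ ChkSR fdB2 5 3 6 7 1 ∧ ChkSR fdB2 6 4 5 7 2 := by
  decide +kernel

set_option maxRecDepth 1000000 in
theorem fdB2_LRpr : fdB2.pr 1 3 % 3 ≠ 0 ∧ fdB2.pr 1 0 % 3 ≠ 0 ∧ fdB2.pr 2 0 % 3 ≠ 0 ∧ fdB2.pr 5 3 % 3 ≠ 0 := by
  decide +kernel

/-- type B2 over the field with four elements -/
theorem b2_lift_q4 (K : Type*) [Field K] (h2 : (2 : K) = 0) (a : K) (ha : a ≠ 0)
    (hord : ∀ m : ℤ, a ^ m = 1 ↔ m % 3 = 0)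
    {Γ : Type*} [Group Γ] (σ : Γ →* ↥(chevB2.group K)) (hsurj : Function.Surjective σ)
    (hcen : σ.ker ≤ Subgroup.center Γ) :
    ∃ τ : chevB2.SteinbergCover K →* Γ,
      ∀ m, σ (τ m) = (PresentedGroup.toGroup (cert12_B2.rels_AB K) : chevB2.SteinbergCover K →* ↥(chevB2.group K)) m := by
  have H := cert12_B2.grp_TL K fdB2_ChkSt σ hsurj hcen
  apply torus_lift_e cert12_B2 K fdB2_ChkSt ztB2q 3 fdB2_gsq a ha hord σ hsurj hcen
  · intro r hr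
    have hr' : r < 8 := hr
    obtain ⟨l0, l3, l4, l7⟩ := fdB2_ChkLR
    obtain ⟨s1, s2, s5, s6⟩ := fdB2_ChkSR
    obtain ⟨p0, p3, p4, p7⟩ := fdB2_LRpr
    interval_cases r
    · exact ecom_of_LR' H 0 3 2 1 3 hr l0 a ha (fun h => p0 ((hord _).mp h))
    · exact ecom_of_chkSR H h2 a ha hord 1 0 5 3 2 s1
    · exact ecom_of_chkSR H h2 a ha hord 2 0 6 4 1 s2
    · exact ecom_of_LR' H 3 0 5 1 0 hr l3 a ha (fun h => p3 ((hord _).mp h))
    · exact ecom_of_LR' H 4 0 6 2 0 hr l4 a ha (fun h => p4 ((hord _).mp h))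
    · exact ecom_of_chkSR H h2 a ha hord 5 3 6 7 1 s5
    · exact ecom_of_chkSR H h2 a ha hord 6 4 5 7 2 s6
    · exact ecom_of_LR' H 7 3 6 5 3 hr l7 a ha (fun h => p7 ((hord _).mp h))
  · intro r hr s hs h1 h2'
    exact Or.inl (FD.chkZSd_of_chkZS 3 (fdB2_ChkZSq r s (fdB2_ChkZS r hr s hs h1 h2')) (fdB2_gam3 r hr s hs h1 h2'))

/-- type B2 over a field with an element `a ≠ 0` such that `a² ≠ 1`, `a³ ≠ 1` -/
theorem b2_lift_big (K : Type*) [Field K] (a : K) (ha : a ≠ 0) (ha2 : a ^ 2 ≠ 1) (ha3 : a ^ 3 ≠ 1)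
    {Γ : Type*} [Group Γ] (σ : Γ →* ↥(chevB2.group K)) (hsurj : Function.Surjective σ)
    (hcen : σ.ker ≤ Subgroup.center Γ) :
    ∃ τ : chevB2.SteinbergCover K →* Γ,
      ∀ m, σ (τ m) = (PresentedGroup.toGroup (cert12_B2.rels_AB K) : chevB2.SteinbergCover K →* ↥(chevB2.group K)) m := by
  refine cert12_B2.torus_lift' K fdB2_ChkSt ztB2 fdB2_ChkZS a ha ha2 ha3 σ hsurj hcen ?_
  intro r hr
  have hr' : r < 8 := hr
  obtain ⟨l0, l3, l4, l7⟩ := fdB2_ChkLR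
  interval_cases r
  · exact cert12_B2.ecom_of_LR K fdB2_ChkSt a ha ha2 ha3 σ hsurj hcen 0 3 2 1 3 hr l0
  · exact cert12_B2.ecom_of_gs K fdB2_ChkSt ztB2 a ha ha2 ha3 σ hsurj hcen 1 hr (fdB2_ChkGS_short 1 (by simp))
  · exact cert12_B2.ecom_of_gs K fdB2_ChkSt ztB2 a ha ha2 ha3 σ hsurj hcen 2 hr (fdB2_ChkGS_short 2 (by simp))
  · exact cert12_B2.ecom_of_LR K fdB2_ChkSt a ha ha2 ha3 σ hsurj hcen 3 0 5 1 0 hr l3
  · exact cert12_B2.ecom_of_LR K fdB2_ChkSt a ha ha2 ha3 σ hsurj hcen 4 0 6 2 0 hr l4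
  · exact cert12_B2.ecom_of_gs K fdB2_ChkSt ztB2 a ha ha2 ha3 σ hsurj hcen 5 hr (fdB2_ChkGS_short 5 (by simp))
  · exact cert12_B2.ecom_of_gs K fdB2_ChkSt ztB2 a ha ha2 ha3 σ hsurj hcen 6 hr (fdB2_ChkGS_short 6 (by simp))
  · exact cert12_B2.ecom_of_LR K fdB2_ChkSt a ha ha2 ha3 σ hsurj hcen 7 3 6 5 3 hr l7

end Cfsg.Agent.Lib.H12.StMult
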