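import Mathlib
import Cfsg.Prelude.Def_ChevStructure
import Cfsg.Agent.Lib.H12.StMultE

/-!
# Central extensions of groups with Steinberg's relations: the relation (R2) for the pair `(r, s)` from the relation
for the pair `(s, r)`
-/

set_option autoImplicit false
set_option linter.unusedSectionVars false
set_option linter.unusedSimpArgs false
set_option linter.unusedVariables false

namespace Cfsg.Agent.Lib.H12.StMult

open Cfsg.Lie Matrix Cfsg.Agent.Lib.H29.Chev

open scoped commutatorElement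

variable {D : ChevalleyDatum} {fd : FD} {fx : FX} {fc : FC} {fz : FZ}
variable {C : Cert12 D fd fx fc fz} {F : Type*} [Field F] {M : Type*} [Group M] {S : StG C F M}
variable {E : Type*} [Group E] {p : E →* M}

/-- the homomorphism is injective on the subgroup generated by the lifts of the root elements of a list of roots that
a Weyl word makes positive, when the lifts satisfy the relations (R2) for the pairs of roots of the list -/
theorem inj_of_collect {z : ℕ → F → E} (Z : S.ZL p z) (Ls : List ℕ) (hLn : ∀ k ∈ Ls, k < fd.n)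
    (hcol : ∀ j j', j < j' → j' < Ls.length →
      StG.ZS fd z (Ls.getD j 0) (Ls.getD j' 0) ∧
      ∀ c ∈ fd.commT (Ls.getD j 0) (Ls.getD j' 0), ∃ k, j < k ∧ k < Ls.length ∧ Ls.getD k 0 = c.1)
    (w : List ℕ) (hw : ∀ i ∈ w, i < fd.l) (hpos : ∀ k ∈ Ls, fd.n / 2 ≤ fd.wact fx w k)
    (hnd : (Ls.map (fd.wact fx w)).Nodup) :
    ∀ g ∈ Subgroup.closure {g | ∃ k v, 0 ≤ k ∧ k < Ls.length ∧ g = z (Ls.getD k 0) v}, p g = 1 → g = 1 := by
  have hget : ∀ j, j < Ls.length → Ls.getD j 0 ∈ Ls := by
    intro j hj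
    rw [List.getD_eq_getElem _ _ hj]
    exact List.getElem_mem hj
  set N := Ls.length with hN
  set z' : ℕ → F → E := fun j v => z (Ls.getD j 0) v with hz'
  have hcollect := collect_gen z' 0 N
    (fun k _ hk t u => Z.add _ (hLn _ (hget k hk)) t u)
    (by
      intro m s' _ hms hs' t u
      obtain ⟨e3, e4⟩ := hcol m s' hms hs'
      refine ⟨z' s' u * StG.zc z (fd.commT (Ls.getD m 0) (Ls.getD s' 0)) t u, ?_, ?_⟩
      · apply mul_mem
        · exact Subgroup.subset_closure ⟨s', u, hms, hs', rfl⟩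
        · apply Z.zc_mem
          intro c hc v
          obtain ⟨k, hk1, hk2, hk3⟩ := e4 c hc
          apply Subgroup.subset_closure
          refine ⟨k, v, hk1, hk2, ?_⟩
          simp only [hz']
          rw [hk3]
      · have := e3 t u
        simp only [hz']
        rw [this, mul_assoc])
  intro g hg hpg
  obtain ⟨tf, rfl⟩ := hcollect N 0 (by omega) (le_refl _) g hg
  have e1 : S.θ (p ((List.range' 0 N).map fun k => z' k (tf k)).prod) =
      (((List.range' 0 N).map fun k => (Ls.getD k 0, tf k)).map fun q => C.c6.c2.xA q.1 q.2).prod := by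
    rw [map_list_prod, map_list_prod, List.map_map, List.map_map, List.map_map]
    congr 1
    apply List.map_congr_left
    intro k hk
    have hk' : k < N := by
      have := List.mem_range'.mp hk
      omega
    simp only [Function.comp, hz']
    rw [Z.pz _ (hLn _ (hget k hk')), S.θ_y _ (hLn _ (hget k hk'))]
  rw [hpg, map_one] at e1
  have key := C.list_prod_eq_one_word w hw ((List.range' 0 N).map fun k => (Ls.getD k 0, tf k))
    (by
      intro q hq
      obtain ⟨k, hk, rfl⟩ := List.mem_map.mp hq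
      have hk' : k < N := by
        have := List.mem_range'.mp hk
        omega
      exact ⟨hLn _ (hget k hk'), hpos _ (hget k hk')⟩)
    (by
      rw [List.map_map]
      have : ((fun q : ℕ × F => fd.wact fx w q.1) ∘ fun k => (Ls.getD k 0, tf k)) =
          (fd.wact fx w) ∘ fun k => Ls.getD k 0 := rfl
      rw [this, ← List.map_map, map_getD_range']
      exact hnd)
    e1.symm
  apply List.prod_eq_one
  intro x hx
  obtain ⟨k, hk, rfl⟩ := List.mem_map.mp hx
  have hk' : k < N := by
    have := List.mem_range'.mp hk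
    omega
  have h0 := key (Ls.getD k 0, tf k) (List.mem_map.mpr ⟨k, hk, rfl⟩)
  simp only at h0
  simp only [hz']
  rw [h0, Z.zero _ (hLn _ (hget k hk'))]

/-- the relation (R2) for the pair `(r, s)` follows from the relation for the pair `(s, r)`, when the homomorphism is
injective on the subgroup generated by the lifts of the root elements of the roots of the commutator formulas -/
theorem zs_symm {z : ℕ → F → E} (Z : S.ZL p z) (r s : ℕ) (hr : r < fd.n) (hs : s < fd.n) (h1 : s ≠ r)
    (h2 : s ≠ fd.n - 1 - r) (hzs : StG.ZS fd z s r)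
    (Ls : List ℕ) (hLs : Ls = (fd.commT r s).map Prod.fst) (hLs' : ∀ c ∈ fd.commT s r, c.1 ∈ Ls)
    (hcol : ∀ j j', j < j' → j' < Ls.length →
      StG.ZS fd z (Ls.getD j 0) (Ls.getD j' 0) ∧
      ∀ c ∈ fd.commT (Ls.getD j 0) (Ls.getD j' 0), ∃ k, j < k ∧ k < Ls.length ∧ Ls.getD k 0 = c.1)
    (w : List ℕ) (hw : ∀ i ∈ w, i < fd.l) (hpos : ∀ k ∈ Ls, fd.n / 2 ≤ fd.wact fx w k)
    (hnd : (Ls.map (fd.wact fx w)).Nodup) : StG.ZS fd z r s := by
  have hev := C.c6.c2.heven
  have hLn : ∀ k ∈ Ls, k < fd.n := by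
    intro k hk
    rw [hLs] at hk
    obtain ⟨c, hc, rfl⟩ := List.mem_map.mp hk
    exact (fd.linc_spec C.linc r s hr hs c hc).1
  have hinj := inj_of_collect Z Ls hLn hcol w hw hpos hnd
  set US : Subgroup E := Subgroup.closure {g | ∃ k v, 0 ≤ k ∧ k < Ls.length ∧ g = z (Ls.getD k 0) v} with hUS
  have hmemUS : ∀ k ∈ Ls, ∀ v, z k v ∈ US := by
    intro k hk v
    obtain ⟨j, hj, rfl⟩ := List.getElem_of_mem hk
    apply Subgroup.subset_closure
    refine ⟨j, v, Nat.zero_le _, hj, ?_⟩
    rw [List.getD_eq_getElem _ _ hj]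
  have hLc : ∀ c ∈ fd.commT r s, c.1 ∈ Ls := by
    intro c hc
    rw [hLs]
    exact List.mem_map.mpr ⟨c, hc, rfl⟩
  have hsr : r ≠ s := fun h => h1 h.symm
  have hsr' : r ≠ fd.n - 1 - s := by omega
  intro t u
  set W₁ := StG.zc z (fd.commT r s) t u with hW₁
  set W₂ := StG.zc z (fd.commT s r) u t with hW₂
  have hW₁m : W₁ ∈ US := Z.zc_mem _ US (fun c hc v => hmemUS _ (hLc c hc) v) t u
  have hW₂m : W₂ ∈ US := Z.zc_mem _ US (fun c hc v => hmemUS _ (hLs' c hc) v) u t
  have hp : p (W₂ * W₁) = 1 := by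
    rw [map_mul, hW₁, hW₂, Z.p_zc _ (fun c hc => (fd.linc_spec C.linc r s hr hs c hc).1),
      Z.p_zc _ (fun c hc => (fd.linc_spec C.linc s r hs hr c hc).1)]
    have e1 := S.y_comm r s hr hs h1 h2 t u
    have e2 := S.y_comm s r hs hr hsr hsr' u t
    unfold StG.cty
    generalize (List.map (fun c : ℕ × ℤ × ℕ × ℕ => S.y c.1 (((c.2.1 : ℤ) : F) * (-t) ^ c.2.2.1 * u ^ c.2.2.2))
      (fd.commT r s)).prod = P₁ at e1 ⊢
    generalize (List.map (fun c : ℕ × ℤ × ℕ × ℕ => S.y c.1 (((c.2.1 : ℤ) : F) * (-u) ^ c.2.2.1 * t ^ c.2.2.2))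
      (fd.commT s r)).prod = P₂ at e2 ⊢
    have hP₁ : P₁ = (S.y r t * S.y s u)⁻¹ * (S.y s u * S.y r t) := by rw [e1]; group
    have hP₂ : P₂ = (S.y s u * S.y r t)⁻¹ * (S.y r t * S.y s u) := by rw [e2]; group
    rw [hP₁, hP₂]
    group
  have h21 : W₂ * W₁ = 1 := hinj _ (mul_mem hW₂m hW₁m) hp
  have e3 : z r t * z s u = z s u * z r t * W₂ := hzs u t
  -- `z r t * z s u = z s u * z r t * W₂`
  have e4 : z s u * z r t = z r t * z s u * W₂⁻¹ := by
    rw [e3]; group
  rw [e4]
  congr 1
  exact inv_eq_of_mul_eq_one_right h21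

end Cfsg.Agent.Lib.H12.StMult
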