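import Mathlib
import Cfsg.Prelude.Def_ChevStructure
import Cfsg.Agent.Lib.H12.StMultI

/-!
# Central extensions of groups with Steinberg's relations over the field with three elements: lifts of the root
elements of the roots on which the torus acts trivially, as commutators of lifts
-/

set_option autoImplicit false
set_option linter.unusedSectionVars false
set_option linter.unusedSimpArgs false
set_option linter.unusedVariables false

namespace Cfsg.Agent.Lib.H12.StMult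

open Cfsg.Lie Matrix Cfsg.Agent.Lib.H29.Chev

open scoped commutatorElement

variable {D : ChevalleyDatum} {fd : FD} {fx : FX} {fc : FC} {fz : FZ}
variable {C : Cert12 D fd fx fc fz} {F : Type*} [Field F] {M : Type*} [Group M] {S : StG C F M}
variable {E : Type*} [Group E] {p : E →* M}

/-- the commutator of lifts of root elements of `b` and `a`, when `[x_b(t), x_a(u)] = x_r(c t u)` and the lifts of the
root elements of `r` commute with those of `a`, `b` and `r` -/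
theorem psi_props (hsurj : Function.Surjective p) (hc : p.ker ≤ Subgroup.center E) (r a b : ℕ) (c : F)
    (ha : a < fd.n) (hb : b < fd.n) (hms : S.MS b a r c) (hbr : S.ECom p b r) (har : S.ECom p a r)
    (hrr : S.ECom p r r) :
    (∀ x y, p (kap p hsurj (S.y b x) (S.y a y)) = S.y r (c * x * y)) ∧
    (∀ x x' y, kap p hsurj (S.y b (x + x')) (S.y a y) =
      kap p hsurj (S.y b x) (S.y a y) * kap p hsurj (S.y b x') (S.y a y)) ∧
    (∀ x y y', kap p hsurj (S.y b x) (S.y a (y + y')) =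
      kap p hsurj (S.y b x) (S.y a y) * kap p hsurj (S.y b x) (S.y a y')) := by
  have h1 : ∀ x y, p (kap p hsurj (S.y b x) (S.y a y)) = S.y r (c * x * y) := by
    intro x y
    rw [p_kap, hms]
  refine ⟨h1, ?_, ?_⟩
  · intro x x' y
    rw [← S.y_add b hb, kap_mul_left p hsurj hc]
    · exact (hrr _ _ ⟨_, h1 x' y⟩ ⟨_, h1 x y⟩).eq
    · intro X Z hX hZ
      exact hbr X Z ⟨_, hX⟩ ⟨_, by rw [hZ, hms]⟩
  · intro x y y'
    rw [← S.y_add a ha, kap_mul_right p hsurj hc]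
    intro Y Z hY hZ
    exact har Y Z ⟨_, hY⟩ ⟨_, by rw [hZ, hms]⟩

/-- an element whose image is a product of two elements commutes with `X`, when all the lifts of the two factors do -/
theorem commute_lift_prod (hsurj : Function.Surjective p) (hc : p.ker ≤ Subgroup.center E) (W X : E) (g₁ g₂ : M)
    (hW : p W = g₁ * g₂) (h1 : ∀ Z, p Z = g₁ → Commute X Z) (h2 : ∀ Z, p Z = g₂ → Commute X Z) : Commute X W := by
  obtain ⟨L₁, hL₁⟩ := hsurj g₁
  obtain ⟨L₂, hL₂⟩ := hsurj g₂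
  have hz : ∀ g : E, g * ((L₁ * L₂)⁻¹ * W) = ((L₁ * L₂)⁻¹ * W) * g :=
    CE.central_of_ker p hc (by rw [map_mul, map_inv, map_mul, hL₁, hL₂, hW, inv_mul_cancel])
  have e : W = (L₁ * L₂) * ((L₁ * L₂)⁻¹ * W) := by group
  have c12 : Commute X (L₁ * L₂) := (h1 L₁ hL₁).mul_right (h2 L₂ hL₂)
  rw [e]
  exact c12.mul_right (hz X)

/-- lifts of root elements of `r` and `s` commute, when `[x_b(t), x_a(u)] = x_r(c t u)`, the lifts of the root elements
of `b` and `s` commute, and the commutator formula of `(s, a)` has two terms whose root elements have lifts that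
commute with those of `b` -/
theorem ecom_dec_r (hsurj : Function.Surjective p) (hc : p.ker ≤ Subgroup.center E) (r s a b k₁ k₂ : ℕ) (c : F)
    (hc0 : c ≠ 0) (hs : s < fd.n) (ha : a < fd.n) (h1 : a ≠ s) (h2 : a ≠ fd.n - 1 - s)
    (hms : S.MS b a r c) (hbs : S.ECom p b s)
    (C₁ C₂ : ℤ) (i₁ j₁ i₂ j₂ : ℕ) (hct : fd.commT s a = [(k₁, C₁, i₁, j₁), (k₂, C₂, i₂, j₂)])
    (hk1 : S.ECom p b k₁) (hk2 : S.ECom p b k₂) : S.ECom p r s := by
  rintro X' Y ⟨t, hX'⟩ ⟨u, hY⟩
  obtain ⟨B, hB⟩ := hsurj (S.y b (c⁻¹ * t))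
  obtain ⟨A, hA⟩ := hsurj (S.y a 1)
  have pBA : p ⁅B, A⁆ = S.y r t := by
    rw [map_commutatorElement, hB, hA, hms]
    congr 1
    field_simp
  -- `Y` commutes with `[B, A]`
  set W := A⁻¹ * Y⁻¹ * A * Y with hW
  have pW : p W = S.y k₁ (((C₁ : ℤ) : F) * (-u) ^ i₁ * 1 ^ j₁) * S.y k₂ (((C₂ : ℤ) : F) * (-u) ^ i₂ * 1 ^ j₂) := by
    have := S.conj_y s a hs ha h1 h2 u 1
    unfold StG.cty at this
    rw [hct] at this
    simp only [List.map_cons, List.map_nil, List.prod_cons, List.prod_nil, mul_one] at this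
    rw [hW, map_mul, map_mul, map_mul, map_inv, map_inv, hA, hY]
    have e : (S.y a 1)⁻¹ * (S.y s u)⁻¹ * S.y a 1 * S.y s u = (S.y a 1)⁻¹ * ((S.y s u)⁻¹ * S.y a 1 * S.y s u) := by
      group
    rw [e, this]
    simp only [one_pow, mul_one]
    group
  have cBW : Commute B W := by
    apply commute_lift_prod hsurj hc W B _ _ pW
    · intro Z hZ
      exact hk1 B Z ⟨_, hB⟩ ⟨_, hZ⟩
    · intro Z hZ
      exact hk2 B Z ⟨_, hB⟩ ⟨_, hZ⟩
  have cBY : Commute B Y := hbs B Y ⟨_, hB⟩ ⟨_, hY⟩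
  have e1 : Y⁻¹ * B * Y = B := by
    rw [mul_assoc, cBY.eq, ← mul_assoc, inv_mul_cancel, one_mul]
  have e2 : Y⁻¹ * A * Y = A * W := by rw [hW]; group
  have e3 : Y⁻¹ * ⁅B, A⁆ * Y = ⁅Y⁻¹ * B * Y, Y⁻¹ * A * Y⁆ := by
    simp only [commutatorElement_def]; group
  have e4 : ⁅B, A * W⁆ = ⁅B, A⁆ * (A * ⁅B, W⁆ * A⁻¹) := by
    simp only [commutatorElement_def]; group
  have e5 : ⁅B, W⁆ = 1 := commutatorElement_eq_one_iff_commute.mpr cBW
  have e6 : Y⁻¹ * ⁅B, A⁆ * Y = ⁅B, A⁆ := by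
    rw [e3, e1, e2, e4, e5, mul_one, mul_inv_cancel, mul_one]
  have cY : Commute ⁅B, A⁆ Y := by
    show ⁅B, A⁆ * Y = Y * ⁅B, A⁆
    calc ⁅B, A⁆ * Y = Y * (Y⁻¹ * ⁅B, A⁆ * Y) := by group
      _ = Y * ⁅B, A⁆ := by rw [e6]
  have hz : ∀ g : E, g * (⁅B, A⁆⁻¹ * X') = (⁅B, A⁆⁻¹ * X') * g :=
    CE.central_of_ker p hc (by rw [map_mul, map_inv, pBA, hX', inv_mul_cancel])
  have e : X' = ⁅B, A⁆ * (⁅B, A⁆⁻¹ * X') := by group
  rw [e]
  exact (cY.symm.mul_right (hz Y)).symm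

section Mix

variable (H : S.TL p) (lg : ℕ → Bool) (aF bF gsF : ℕ → ℕ) (cF : ℕ → F)

/-- lifts of the root elements: as commutators of lifts for the roots marked by `lg`, by means of the torus for the
other ones -/
noncomputable def zmix (r : ℕ) (t : F) : E :=
  if lg r = true then kap p H.surj (S.y (bF r) ((cF r)⁻¹ * t)) (S.y (aF r) 1)
  else S.ztg p H.surj (-1) (gsF r) r t

variable (hF : IsF3 F)
  (hL : ∀ r < fd.n, lg r = true → aF r < fd.n ∧ bF r < fd.n ∧ cF r ≠ 0 ∧ S.MS (bF r) (aF r) r (cF r) ∧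
    S.ECom p (bF r) r ∧ S.ECom p (aF r) r ∧ ∀ γ < fd.n, fd.pr r γ = fd.pr (aF r) γ + fd.pr (bF r) γ)
  (hS : ∀ r < fd.n, lg r = false → gsF r < fd.n ∧ (-1 : F) ^ (fd.pr r (gsF r)) ≠ 1)
include hF hL hS

theorem zmix_long (r : ℕ) (h : lg r = true) (t : F) :
    zmix H lg aF bF gsF cF r t = kap p H.surj (S.y (bF r) ((cF r)⁻¹ * t)) (S.y (aF r) 1) := by
  unfold zmix
  rw [if_pos h]

theorem zmix_short (r : ℕ) (h : ¬ lg r = true) (t : F) :
    zmix H lg aF bF gsF cF r t = S.ztg p H.surj (-1) (gsF r) r t := by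
  unfold zmix
  rw [if_neg h]

/-- the structure of lifts -/
theorem zmix_ZL : S.ZL p (zmix H lg aF bF gsF cF) := by
  have hEs : ∀ r, r < fd.n → S.ECom p r r := fun r hr => ecom_self_F3 hF H.surj H.cen r hr
  refine ⟨?_, ?_, ?_⟩
  · intro r hr t
    by_cases h : lg r = true
    · obtain ⟨ha, hb, hc0, hms, hbr, har, hpr⟩ := hL r hr h
      rw [zmix_long H lg aF bF gsF cF hF hL hS r h, p_kap, hms]
      congr 1
      field_simp
    · have h' : lg r = false := by simpa using h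
      obtain ⟨hg, hg1⟩ := hS r hr h'
      rw [zmix_short H lg aF bF gsF cF hF hL hS r h]
      exact H.p_ztg (-1) (by norm_num) _ r hg hr hg1 t
  · intro r hr t u
    by_cases h : lg r = true
    · obtain ⟨ha, hb, hc0, hms, hbr, har, hpr⟩ := hL r hr h
      obtain ⟨_, ψ1, _⟩ := psi_props H.surj H.cen r (aF r) (bF r) (cF r) ha hb hms hbr har (hEs r hr)
      rw [zmix_long H lg aF bF gsF cF hF hL hS r h, zmix_long H lg aF bF gsF cF hF hL hS r h,
        zmix_long H lg aF bF gsF cF hF hL hS r h, ← ψ1, mul_add]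
    · have h' : lg r = false := by simpa using h
      obtain ⟨hg, hg1⟩ := hS r hr h'
      rw [zmix_short H lg aF bF gsF cF hF hL hS r h, zmix_short H lg aF bF gsF cF hF hL hS r h,
        zmix_short H lg aF bF gsF cF hF hL hS r h]
      exact H.ztg_add (-1) (by norm_num) _ r hg hr hg1 (hEs r hr) t u
  · intro r γ hr hγ v hv T hT t
    by_cases h : lg r = true
    · obtain ⟨ha, hb, hc0, hms, hbr, har, hpr⟩ := hL r hr h
      obtain ⟨_, ψ1, ψ2⟩ := psi_props H.surj H.cen r (aF r) (bF r) (cF r) ha hb hms hbr har (hEs r hr)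
      obtain ⟨_, _, _, _, ψ5, _⟩ := biadd_F3 hF (fun x y => kap p H.surj (S.y (bF r) x) (S.y (aF r) y)) ψ1 ψ2
      rw [zmix_long H lg aF bF gsF cF hF hL hS r h, zmix_long H lg aF bF gsF cF hF hL hS r h,
        kap_conj p H.surj H.cen, hT, H.hconj γ (bF r) hγ hb v hv, H.hconj γ (aF r) hγ ha v hv]
      have e1 := ψ5 (v ^ fd.pr (bF r) γ * ((cF r)⁻¹ * t)) (v ^ fd.pr (aF r) γ * 1)
      rw [e1]
      congr 2
      rw [hpr γ hγ, zpow_add₀ hv]
      ring
    · have h' : lg r = false := by simpa using h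
      obtain ⟨hg, hg1⟩ := hS r hr h'
      rw [zmix_short H lg aF bF gsF cF hF hL hS r h, zmix_short H lg aF bF gsF cF hF hL hS r h]
      exact H.ztg_conj (-1) (by norm_num) _ r γ hg hr hγ v hv T hT t

/-- the relation (R2) for a pair of roots `(r, s)` whose commutator formula is `x_k(± t u)` with `k` marked by `lg` and
`(r, s)` the decomposition of `k` of the table (in this order or in the other one) -/
theorem zmix_zs_dec (r s k : ℕ) (Cc : ℤ) (hr : r < fd.n) (hs : s < fd.n) (hk : k < fd.n)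
    (hlg : lg k = true) (hct : fd.commT r s = [(k, Cc, 1, 1)])
    (hcase : (aF k = r ∧ bF k = s ∧ cF k = -((Cc : ℤ) : F)) ∨ (aF k = s ∧ bF k = r ∧ cF k = ((Cc : ℤ) : F))) :
    StG.ZS fd (zmix H lg aF bF gsF cF) r s := by
  have hEs : ∀ r, r < fd.n → S.ECom p r r := fun r hr => ecom_self_F3 hF H.surj H.cen r hr
  have Z := zmix_ZL H lg aF bF gsF cF hF hL hS
  obtain ⟨ha, hb, hc0, hms, hbr, har, hpr⟩ := hL k hk hlg
  obtain ⟨_, ψ1, ψ2⟩ := psi_props H.surj H.cen k (aF k) (bF k) (cF k) ha hb hms hbr har (hEs k hk)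
  obtain ⟨_, _, ψa3, ψa4, ψ5, _⟩ := biadd_F3 hF (fun x y => kap p H.surj (S.y (bF k) x) (S.y (aF k) y)) ψ1 ψ2
  intro t u
  set z := zmix H lg aF bF gsF cF with hz
  unfold StG.zc
  rw [hct]
  simp only [List.map_cons, List.map_nil, List.prod_cons, List.prod_nil, mul_one, pow_one]
  -- the commutator of the lifts
  have eW : (z s u)⁻¹ * (z r t)⁻¹ * z s u * z r t = kap p H.surj (S.y s (-u)) (S.y r (-t)) := by
    have e1 : (z s u)⁻¹ * (z r t)⁻¹ * z s u * z r t = ⁅(z s u)⁻¹, (z r t)⁻¹⁆ := by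
      simp only [commutatorElement_def]; group
    rw [e1]
    apply kap_eq p H.surj H.cen
    · rw [map_inv, Z.pz s hs, S.y_inv s hs]
    · rw [map_inv, Z.pz r hr, S.y_inv r hr]
  have goal' : z k (((Cc : ℤ) : F) * -t * u) = (z s u)⁻¹ * (z r t)⁻¹ * z s u * z r t := by
    rw [eW, hz, zmix_long H lg aF bF gsF cF hF hL hS k hlg]
    rcases hcase with ⟨e1, e2, e3⟩ | ⟨e1, e2, e3⟩
    · rw [e1, e2] at ψa3 ψa4 ψ5 ⊢
      rw [ψa3, ψa4, inv_inv, ψ5 u t]
      congr 2
      rw [e3]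
      have hC : ((Cc : ℤ) : F) ≠ 0 := by
        have : -((Cc : ℤ) : F) ≠ 0 := by rw [← e3]; exact hc0
        exact neg_ne_zero.mp this
      field_simp
    · rw [e1, e2] at ψa3 ψa4 ψ5 ⊢
      have hC : ((Cc : ℤ) : F) ≠ 0 := by rw [← e3]; exact hc0
      have eR : kap p H.surj (S.y s (-u)) (S.y r (-t)) = (kap p H.surj (S.y r (-t)) (S.y s (-u)))⁻¹ :=
        (kap_inv p H.surj H.cen _ _).symm
      rw [eR, ψa3, ψa4, inv_inv, ψ5 t u, ← ψa3]
      congr 2
      rw [e3]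
      field_simp
  rw [goal']
  group

end Mix

end Cfsg.Agent.Lib.H12.StMult
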