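import Mathlib
import Cfsg.Prelude.Def_ChevStructure
import Cfsg.Prelude.Def_Steinberg
import Cfsg.Prelude.Def_SteinbergCover
import Cfsg.Agent.Lib.H12.StMultJ
import Cfsg.Agent.Lib.H12.StMultH

/-!
# Central extensions of the Chevalley group of type B2 over the field with three elements: table checks
-/

set_option autoImplicit false
set_option linter.unusedSectionVars false
set_option linter.unusedSimpArgs false
set_option linter.unusedVariables false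

namespace Cfsg.Agent.Lib.H12.StMult

open Cfsg.Lie Matrix Cfsg.Agent.Lib.H29.Chev

open scoped commutatorElement

/-- commuting roots `x`, `y` such that `⟨y, γ⟩` is even and `⟨x, γ⟩` is odd -/
def ChkTorE (fd : FD) (γ x y : ℕ) : Prop :=
  x < fd.n ∧ y < fd.n ∧ γ < fd.n ∧ y ≠ x ∧ y ≠ fd.n - 1 - x ∧ fd.commT x y = [] ∧
  fd.pr y γ % 2 = 0 ∧ fd.pr x γ % 2 ≠ 0

instance (fd : FD) (γ x y : ℕ) : Decidable (ChkTorE fd γ x y) := by
  unfold ChkTorE; infer_instance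

/-- the data for commuting roots `r`, `s` on which the torus acts trivially: `r = a + b`, the roots `b` and `s` are
separated by the torus, and the commutator formula of `(s, a)` has the roots `b` and `r` -/
def ChkLL (fd : FD) (γ r s a b : ℕ) : Prop :=
  (r < fd.n ∧ s < fd.n ∧ a < fd.n ∧ b < fd.n) ∧ (b ≠ a ∧ b ≠ fd.n - 1 - a) ∧
  (fd.commT a b = [(r, fd.decC a b, 1, 1)] ∧ (fd.decC a b = 2 ∨ fd.decC a b = -2)) ∧
  (a ≠ s ∧ a ≠ fd.n - 1 - s) ∧ ChkTorE fd γ b s ∧ ChkTorE fd γ b r ∧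
  fd.commT s a = [(b, ((fd.commT s a).getD 0 (0, 0, 0, 0)).2.1, ((fd.commT s a).getD 0 (0, 0, 0, 0)).2.2.1,
      ((fd.commT s a).getD 0 (0, 0, 0, 0)).2.2.2),
    (r, ((fd.commT s a).getD 1 (0, 0, 0, 0)).2.1, ((fd.commT s a).getD 1 (0, 0, 0, 0)).2.2.1,
      ((fd.commT s a).getD 1 (0, 0, 0, 0)).2.2.2)]

instance (fd : FD) (γ r s a b : ℕ) : Decidable (ChkLL fd γ r s a b) := by
  unfold ChkLL; infer_instance

variable {D : ChevalleyDatum} {fd : FD} {fx : FX} {fc : FC} {fz : FZ}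
variable {C : Cert12 D fd fx fc fz} {F : Type*} [Field F] {M : Type*} [Group M] {S : StG C F M}
variable {E : Type*} [Group E] {p : E →* M}

theorem ecom_of_chkTorE (H : S.TL p) (hF : IsF3 F) (γ x y : ℕ) (h : ChkTorE fd γ x y) : S.ECom p x y := by
  obtain ⟨hx, hy, hγ, h1, h2, h3, h4, h5⟩ := h
  have hne := one_ne_neg_one_of_F3 hF
  exact ecom_of_torus' H x y γ hx hy hγ (S.mcom_of_nil x y hx hy h1 h2 h3) (-1) (by norm_num)
    ((neg_one_zpow_eq_one_iff hne _).mpr h4) (neg_one_zpow_ne_one hne _ h5)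

theorem two_ne_zero_of_F3 (hF : IsF3 F) : (2 : F) ≠ 0 := by
  intro h
  have h1 : (1 : F) + 1 = 2 := by norm_num
  have h2 := hF.2
  rw [h1, h] at h2
  exact one_ne_zero (neg_eq_zero.mp h2.symm)

theorem ecom_of_chkLL (H : S.TL p) (hF : IsF3 F) (γ r s a b : ℕ) (h : ChkLL fd γ r s a b) : S.ECom p r s := by
  obtain ⟨⟨hr, hs, ha, hb⟩, ⟨hba, hbna⟩, ⟨hct, hd⟩, ⟨has, hans⟩, T1, T2, hct2⟩ := h
  have hms := S.ms_of_single r a b ha hb hba hbna hct
  have h2 := two_ne_zero_of_F3 hF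
  have hc0 : -((fd.decC a b : ℤ) : F) ≠ 0 := by
    rw [neg_ne_zero]
    rcases hd with h | h <;> rw [h] <;> push_cast
    · exact h2
    · exact neg_ne_zero.mpr h2
  exact ecom_dec_r H.surj H.cen r s a b b r _ hc0 hs ha has hans hms (ecom_of_chkTorE H hF γ b s T1)
    _ _ _ _ _ _ hct2 (ecom_self_F3 hF H.surj H.cen b hb) (ecom_of_chkTorE H hF γ b r T2)

/-! ### The tables of type B2 -/

def lgB2 (r : ℕ) : Bool := r == 0 || r == 3 || r == 4 || r == 7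

def aB2 (r : ℕ) : ℕ := [1, 0, 0, 5, 6, 0, 0, 5].getD r 0
def bB2 (r : ℕ) : ℕ := [2, 0, 0, 1, 2, 0, 0, 6].getD r 0

/-- the constant of the lift of a long root, as an integer -/
def cZB2 (r : ℕ) : ℤ := -(fdB2.decC (aB2 r) (bB2 r))

/-- the decompositions for the pairs of orthogonal long roots -/
def llB2 : List (List (ℕ × ℕ)) :=
  [[(0, 0), (0, 0), (0, 0), (2, 1), (1, 2), (0, 0), (0, 0), (0, 0)],
   [], [],
   [(5, 1), (0, 0), (0, 0), (0, 0), (0, 0), (0, 0), (0, 0), (1, 5)],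
   [(6, 2), (0, 0), (0, 0), (0, 0), (0, 0), (0, 0), (0, 0), (2, 6)],
   [], [],
   [(0, 0), (0, 0), (0, 0), (6, 5), (5, 6), (0, 0), (0, 0), (0, 0)]]

def llOf (r s : ℕ) : ℕ × ℕ := (llB2.getD r []).getD s (0, 0)

/-- the check for the long roots -/
def ChkLong (r : ℕ) : Prop :=
  aB2 r < fdB2.n ∧ bB2 r < fdB2.n ∧ bB2 r ≠ aB2 r ∧ bB2 r ≠ fdB2.n - 1 - aB2 r ∧
  fdB2.commT (aB2 r) (bB2 r) = [(r, fdB2.decC (aB2 r) (bB2 r), 1, 1)] ∧
  (fdB2.decC (aB2 r) (bB2 r) = 2 ∨ fdB2.decC (aB2 r) (bB2 r) = -2) ∧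
  ChkTorE fdB2 0 (bB2 r) r ∧ ChkTorE fdB2 0 (aB2 r) r ∧
  ∀ γ < fdB2.n, fdB2.pr r γ = fdB2.pr (aB2 r) γ + fdB2.pr (bB2 r) γ

instance (r : ℕ) : Decidable (ChkLong r) := by
  unfold ChkLong; infer_instance

set_option maxRecDepth 1000000 in
theorem fdB2_long : ∀ r < fdB2.n, lgB2 r = true → ChkLong r := by decide +kernel

set_option maxRecDepth 1000000 in
theorem fdB2_short : ∀ r < fdB2.n, lgB2 r = false → fdB2.pr r 0 % 2 ≠ 0 := by decide +kernel

/-- the check for the pairs of roots with empty commutator formula -/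
def ChkE0 (r s : ℕ) : Prop :=
  ChkTorE fdB2 0 r s ∨ ChkTorE fdB2 0 s r ∨ ChkLL fdB2 0 r s (llOf r s).1 (llOf r s).2

instance (r s : ℕ) : Decidable (ChkE0 r s) := by
  unfold ChkE0; infer_instance

/-- the check for the pairs of roots with a commutator formula with a single term -/
def ChkE1 (r s : ℕ) : Prop :=
  fdB2.commT r s = [(((fdB2.commT r s).getD 0 (0, 0, 0, 0)).1, fdB2.decC r s, 1, 1)] ∧
  ((fdB2.commT r s).getD 0 (0, 0, 0, 0)).1 < fdB2.n ∧ lgB2 ((fdB2.commT r s).getD 0 (0, 0, 0, 0)).1 = true ∧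
  ((aB2 ((fdB2.commT r s).getD 0 (0, 0, 0, 0)).1 = r ∧ bB2 ((fdB2.commT r s).getD 0 (0, 0, 0, 0)).1 = s ∧
      cZB2 ((fdB2.commT r s).getD 0 (0, 0, 0, 0)).1 = -(fdB2.decC r s)) ∨
    (aB2 ((fdB2.commT r s).getD 0 (0, 0, 0, 0)).1 = s ∧ bB2 ((fdB2.commT r s).getD 0 (0, 0, 0, 0)).1 = r ∧
      cZB2 ((fdB2.commT r s).getD 0 (0, 0, 0, 0)).1 = fdB2.decC r s))

instance (r s : ℕ) : Decidable (ChkE1 r s) := by
  unfold ChkE1; infer_instance

/-- the classification of the pairs of roots -/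
def ChkCls (r s : ℕ) : Prop :=
  (fdB2.commT r s = [] ∧ ChkE0 r s) ∨ ((fdB2.commT r s).length = 1 ∧ ChkE1 r s) ∨
  ((fdB2.commT r s).length = 2 ∧ lgB2 r = false ∧ fdB2.pr r (ztB2.gamOf r s) % 2 ≠ 0) ∨
  ((fdB2.commT r s).length = 2 ∧ (fdB2.commT s r).length = 2 ∧ lgB2 r = true ∧ lgB2 s = false ∧
    fdB2.pr s (ztB2.gamOf s r) % 2 ≠ 0 ∧ ∀ c ∈ fdB2.commT s r, c.1 ∈ fdB2.zsL r s)

instance (r s : ℕ) : Decidable (ChkCls r s) := by
  unfold ChkCls; infer_instance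

set_option maxRecDepth 1000000 in
set_option maxHeartbeats 0 in
theorem fdB2_cls : ∀ r < fdB2.n, ∀ s < fdB2.n, s ≠ r → s ≠ fdB2.n - 1 - r → ChkCls r s := by decide +kernel

end Cfsg.Agent.Lib.H12.StMult
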