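import Mathlib
import Cfsg.Prelude.Def_ChevStructure
import Cfsg.Prelude.Def_Steinberg
import Cfsg.Prelude.Def_SteinbergCover
import Cfsg.Agent.Lib.H12.StMultK

/-!
# Central extensions of the Chevalley group of type B2 over the field with three elements: the homomorphism from the
group presented by (R1), (R2); and type B2 over all finite fields with more than two elements
-/

set_option autoImplicit false
set_option linter.unusedSectionVars false
set_option linter.unusedSimpArgs false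
set_option linter.unusedVariables false

namespace Cfsg.Agent.Lib.H12.StMult

open Cfsg.Lie Matrix Cfsg.Agent.Lib.H29.Chev

open scoped commutatorElement

/-- type B2 over the field with three elements -/
theorem b2_lift_q3 (K : Type*) [Field K] (hF : IsF3 K)
    {Γ : Type*} [Group Γ] (σ : Γ →* ↥(chevB2.group K)) (hsurj : Function.Surjective σ)
    (hcen : σ.ker ≤ Subgroup.center Γ) :
    ∃ τ : chevB2.SteinbergCover K →* Γ,
      ∀ m, σ (τ m) = (PresentedGroup.toGroup (cert12_B2.rels_AB K) : chevB2.SteinbergCover K →* ↥(chevB2.group K)) m := by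
  set S := cert12_B2.grpStG K with hS
  have H : S.TL σ := cert12_B2.grp_TL K fdB2_ChkSt σ hsurj hcen
  have hne := one_ne_neg_one_of_F3 hF
  have h2 := two_ne_zero_of_F3 hF
  set cF : ℕ → K := fun r => ((cZB2 r : ℤ) : K) with hcF
  have hL : ∀ r < fdB2.n, lgB2 r = true → aB2 r < fdB2.n ∧ bB2 r < fdB2.n ∧ cF r ≠ 0 ∧
      S.MS (bB2 r) (aB2 r) r (cF r) ∧ S.ECom σ (bB2 r) r ∧ S.ECom σ (aB2 r) r ∧
      ∀ γ < fdB2.n, fdB2.pr r γ = fdB2.pr (aB2 r) γ + fdB2.pr (bB2 r) γ := by
    intro r hr hlg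
    obtain ⟨ha, hb, hba, hbna, hct, hd, T1, T2, hpr⟩ := fdB2_long r hr hlg
    have ec : cF r = -((fdB2.decC (aB2 r) (bB2 r) : ℤ) : K) := by
      simp only [hcF, cZB2]
      push_cast
      rfl
    refine ⟨ha, hb, ?_, ?_, ecom_of_chkTorE H hF 0 _ _ T1, ecom_of_chkTorE H hF 0 _ _ T2, hpr⟩
    · rw [ec, neg_ne_zero]
      rcases hd with h | h <;> rw [h] <;> push_cast
      · exact h2
      · exact neg_ne_zero.mpr h2
    · rw [ec]
      exact S.ms_of_single r (aB2 r) (bB2 r) ha hb hba hbna hct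
  have hSh : ∀ r < fdB2.n, lgB2 r = false → (fun _ : ℕ => 0) r < fdB2.n ∧
      (-1 : K) ^ (fdB2.pr r ((fun _ : ℕ => 0) r)) ≠ 1 := by
    intro r hr hlg
    exact ⟨(by decide : 0 < fdB2.n), neg_one_zpow_ne_one hne _ (fdB2_short r hr hlg)⟩
  set z := zmix H lgB2 aB2 bB2 (fun _ => 0) cF with hz
  have Z : S.ZL σ z := zmix_ZL H lgB2 aB2 bB2 (fun _ => 0) cF hF hL hSh
  have hord : ∀ m : ℤ, (-1 : K) ^ m = 1 ↔ m % 2 = 0 := neg_one_zpow_eq_one_iff hne
  -- pairs with a commutator formula with at most one term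
  have h01 : ∀ r s, r < fdB2.n → s < fdB2.n → s ≠ r → s ≠ fdB2.n - 1 - r → (fdB2.commT r s).length < 2 →
      StG.ZS fdB2 z r s := by
    intro r s hr hs h1 h2' hlen
    rcases fdB2_cls r hr s hs h1 h2' with ⟨hnil, hE⟩ | ⟨hl1, hct, hk, hlg, hcase⟩ | ⟨hl2, _⟩ | ⟨hl2, _⟩
    · apply zs_of_ecom Z r s hr hs hnil
      rcases hE with h | h | h
      · exact ecom_of_chkTorE H hF 0 r s h
      · exact (ecom_of_chkTorE H hF 0 s r h).symm
      · exact ecom_of_chkLL H hF 0 r s _ _ h
    · apply zmix_zs_dec H lgB2 aB2 bB2 (fun _ => 0) cF hF hL hSh r s _ (fdB2.decC r s) hr hs hk hlg hct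
      rcases hcase with ⟨e1, e2, e3⟩ | ⟨e1, e2, e3⟩
      · refine Or.inl ⟨e1, e2, ?_⟩
        simp only [hcF]
        rw [e3]
        push_cast
        rfl
      · refine Or.inr ⟨e1, e2, ?_⟩
        simp only [hcF]
        rw [e3]
    · omega
    · omega
  -- pairs of a short root and a long root
  have hSL : ∀ r s, r < fdB2.n → s < fdB2.n → s ≠ r → s ≠ fdB2.n - 1 - r → (fdB2.commT r s).length = 2 →
      fdB2.pr r (ztB2.gamOf r s) % 2 ≠ 0 → StG.ZS fdB2 z r s := by
    intro r s hr hs h1 h2' hlen hodd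
    apply zs_of_chk Z hsurj hcen ztB2 2 (-1) (by norm_num) hord r s hr hs h1 h2'
      (FD.chkZSd_of_chkZS 2 (fdB2_ChkZS r hr s hs h1 h2') hodd)
    intro r' s' hr' hs' h1' h2'' hlt
    exact h01 r' s' hr' hs' h1' h2'' (by omega)
  have hall : ∀ r s, r < fdB2.n → s < fdB2.n → s ≠ r → s ≠ fdB2.n - 1 - r → StG.ZS fdB2 z r s := by
    intro r s hr hs h1 h2'
    rcases fdB2_cls r hr s hs h1 h2' with ⟨hnil, _⟩ | ⟨hl1, _⟩ | ⟨hl2, _, hodd⟩ | ⟨hl2, hl2', _, _, hodd, hsub⟩
    · exact h01 r s hr hs h1 h2' (by rw [hnil]; simp)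
    · exact h01 r s hr hs h1 h2' (by omega)
    · exact hSL r s hr hs h1 h2' hl2 hodd
    · have hev : fdB2.n = 8 := rfl
      have hrs : r ≠ s := fun h => h1 h.symm
      have hrs' : r ≠ fdB2.n - 1 - s := by omega
      have hzs : StG.ZS fdB2 z s r := hSL s r hs hr hrs hrs' hl2' hodd
      obtain ⟨c1, c2, c3, c6, c7, c8, c9, c10⟩ := fdB2_ChkZS r hr s hs h1 h2'
      have hLn : ∀ k ∈ fdB2.zsL r s, k < fdB2.n := by
        intro k hk
        obtain ⟨c, hc, rfl⟩ := List.mem_map.mp hk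
        exact (fdB2.linc_spec cert12_B2.linc r s hr hs c hc).1
      have hget : ∀ j, j < (fdB2.zsL r s).length → (fdB2.zsL r s).getD j 0 ∈ fdB2.zsL r s := by
        intro j hj
        rw [List.getD_eq_getElem _ _ hj]
        exact List.getElem_mem hj
      have hlenL : (fdB2.zsL r s).length = 2 := by
        unfold FD.zsL
        rw [List.length_map, hl2]
      apply zs_symm Z r s hr hs h1 h2' hzs (fdB2.zsL r s) rfl hsub ?_ (ztB2.wdOf r s) c6 c7 c8
      intro j j' hjj' hj'
      obtain ⟨e1, e2, e3, e4⟩ := c9 j' hj' j hjj'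
      refine ⟨?_, ?_⟩
      · exact h01 _ _ (hLn _ (hget j (by omega))) (hLn _ (hget j' hj')) e1 e2 (by omega)
      · intro c hc
        obtain ⟨k, hk1, hk2, hk3⟩ := e4 c hc
        exact ⟨k, hk2, hk1, hk3⟩
  exact lift_of_ZS cert12_B2 K σ z Z.pz Z.add hall

/-- type B2 over a finite field with more than two elements -/
theorem b2_lift (K : Type*) [Field K] [Fintype K] (hK : Fintype.card K ≠ 2)
    {Γ : Type*} [Group Γ] (σ : Γ →* ↥(chevB2.group K)) (hsurj : Function.Surjective σ)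
    (hcen : σ.ker ≤ Subgroup.center Γ) :
    ∃ τ : chevB2.SteinbergCover K →* Γ,
      ∀ m, σ (τ m) = (PresentedGroup.toGroup (cert12_B2.rels_AB K) : chevB2.SteinbergCover K →* ↥(chevB2.group K)) m := by
  obtain ⟨a, ha, hord⟩ := exists_gen_zpow (K := K)
  have h2 : 2 ≤ Fintype.card K := Fintype.one_lt_card
  rcases Nat.lt_or_ge (Fintype.card K) 5 with h5 | h5
  · rcases Nat.lt_or_ge (Fintype.card K) 4 with h4 | h4
    · have hq : Fintype.card K = 3 := by omega
      exact b2_lift_q3 K (isF3_of_card hq) σ hsurj hcen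
    · have hq : Fintype.card K = 4 := by omega
      rw [hq] at hord
      have h20 : (2 : K) = 0 := by
        have h4' : ((4 : ℕ) : K) = 0 := by
          rw [← hq]
          exact Nat.cast_card_eq_zero K
        have : (2 : K) * 2 = 0 := by
          have : (2 : K) * 2 = ((4 : ℕ) : K) := by norm_num
          rw [this, h4']
        exact mul_self_eq_zero.mp this
      exact b2_lift_q4 K h20 a ha hord σ hsurj hcen
  · have hpow : ∀ k : ℕ, k ≠ 0 → k < 4 → a ^ k ≠ 1 := by
      intro k hk0 hk h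
      have h1 := (hord (k : ℤ)).mp (by rw [zpow_natCast]; exact h)
      have h3 : ((Fintype.card K - 1 : ℕ) : ℤ) ∣ (k : ℤ) := Int.dvd_of_emod_eq_zero h1
      have h4 := Int.natCast_dvd_natCast.mp h3
      have := Nat.le_of_dvd (Nat.pos_of_ne_zero hk0) h4
      omega
    exact b2_lift_big K a ha (hpow 2 (by norm_num) (by norm_num)) (hpow 3 (by norm_num) (by norm_num)) σ hsurj hcen

end Cfsg.Agent.Lib.H12.StMult
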