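import Mathlib
import Cfsg.Prelude.Def_SteinbergCover
import Cfsg.Prelude.Def_LieTypes
import Cfsg.Prelude.Def_ChevB2

set_option autoImplicit false

/-!
# The group presented by Steinberg's relators (R1), (R2) is perfect (helper12)

Generic, table-driven argument in the abelianization: a root `k` is *killed* when all `x̄_k(t)` die in
the abelianization.  Rules: (single) a pair `(r, s)` whose commutator formula has the single term
`x_k(± t u)`; (double) a pair whose commutator formula, after discarding killed roots, reads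
`x_{k₁}(± t u) x_{k₂}(± t² u)`, over a field with more than two elements.
-/

namespace Cfsg.Agent.Lib.H12.StCover

open Cfsg.Lie

section generic

variable (D : ChevalleyDatum) (K : Type*) [Field K]

/-- The image of `x̄_r(t)` in the abelianization. -/
noncomputable def xi (r : ℕ) (t : K) : Abelianization (D.SteinbergCover K) :=
  Abelianization.of (D.scGen K r t)

theorem stX_of_not_lt {r : ℕ} (hr : ¬ r < D.nroots) (t : K) : D.stX r t = 1 := by
  unfold ChevalleyDatum.stX
  rw [dif_neg hr]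

theorem xi_of_not_lt {r : ℕ} (hr : ¬ r < D.nroots) (t : K) : xi D K r t = 1 := by
  unfold xi ChevalleyDatum.scGen
  rw [stX_of_not_lt D K hr, map_one, map_one]

theorem xi_add (r : ℕ) (t t' : K) : xi D K r t * xi D K r t' = xi D K r (t + t') := by
  by_cases hr : r < D.nroots
  · have h : (D.stX r t * D.stX r t' * (D.stX r (t + t'))⁻¹ : FreeGroup (Fin D.nroots × K)) ∈
        D.steinbergRelsAB K := Or.inl ⟨r, t, t', hr, rfl⟩
    have h1 := PresentedGroup.one_of_mem h
    rw [map_mul, map_mul, map_inv] at h1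
    have h2 : D.scGen K r t * D.scGen K r t' = D.scGen K r (t + t') := mul_inv_eq_one.mp h1
    unfold xi
    rw [← map_mul, h2]
  · rw [xi_of_not_lt D K hr, xi_of_not_lt D K hr, xi_of_not_lt D K hr, one_mul]

theorem xi_zero (r : ℕ) : xi D K r 0 = 1 := by
  have := xi_add D K r 0 0
  rw [add_zero] at this
  exact mul_eq_left.mp this

theorem xi_neg (r : ℕ) (t : K) : xi D K r (-t) = (xi D K r t)⁻¹ := by
  symm
  apply inv_eq_of_mul_eq_one_right
  rw [xi_add, add_neg_cancel, xi_zero]

theorem of_mk_stWord (w : List (ℕ × K)) :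
    Abelianization.of (PresentedGroup.mk (D.steinbergRelsAB K) (D.stWord w)) =
      (w.map fun p => xi D K p.1 p.2).prod := by
  unfold ChevalleyDatum.stWord
  rw [map_list_prod, map_list_prod, List.map_map, List.map_map]
  rfl

/-- The commutator relation (R2) in the abelianization. -/
theorem comm_rel {r s : ℕ} (hr : r < D.nroots) (hs : s < D.nroots) (hsr : s ≠ r)
    (hsn : s ≠ D.neg r) (t u : K) :
    ((D.commTerms r s).map fun c =>
      xi D K c.1 ((c.2.1 : K) * (-t) ^ c.2.2.1 * u ^ c.2.2.2)).prod = 1 := by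
  have h : ((D.stX s u)⁻¹ * (D.stX r t)⁻¹ * D.stX s u * D.stX r t *
      (D.stWord (D.commWord K r s t u))⁻¹ : FreeGroup (Fin D.nroots × K)) ∈ D.steinbergRelsAB K :=
    Or.inr ⟨r, s, t, u, hr, hs, hsr, hsn, rfl⟩
  have h1 := congrArg Abelianization.of (PresentedGroup.one_of_mem h)
  simp only [map_mul, map_inv, map_one] at h1
  have h2 : Abelianization.of (PresentedGroup.mk (D.steinbergRelsAB K) (D.stWord (D.commWord K r s t u))) = 1 := by
    have h3 : ∀ a b c : Abelianization (D.SteinbergCover K), a⁻¹ * b⁻¹ * a * b * c⁻¹ = 1 → c = 1 := by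
      intro a b c h
      have : a⁻¹ * b⁻¹ * a * b = 1 := by
        rw [mul_comm a⁻¹ b⁻¹, mul_assoc b⁻¹, inv_mul_cancel, mul_one, inv_mul_cancel]
      rw [this, one_mul] at h
      exact inv_eq_one.mp h
    exact h3 _ _ _ h1
  rw [of_mk_stWord] at h2
  unfold ChevalleyDatum.commWord at h2
  rw [List.map_map] at h2
  exact h2

/-- The root `k` dies in the abelianization. -/
def Killed (k : ℕ) : Prop := ∀ v : K, xi D K k v = 1

theorem killed_of_single {k r s : ℕ} (hr : r < D.nroots) (hs : s < D.nroots) (hsr : s ≠ r)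
    (hsn : s ≠ D.neg r) {c : ℤ} (hc : c = 1 ∨ c = -1) (h : D.commTerms r s = [(k, c, 1, 1)]) :
    Killed D K k := by
  intro v
  have h1 := comm_rel D K hr hs hsr hsn (-((c : K) * v)) 1
  rw [h] at h1
  simp only [List.map_cons, List.map_nil, List.prod_cons, List.prod_nil, mul_one, pow_one, neg_neg] at h1
  have hcc : (c : K) * ((c : K) * v) = v := by
    rcases hc with rfl | rfl <;> push_cast <;> ring
  rw [hcc] at h1
  exact h1

theorem prod_filter_of_forall {α M : Type*} [Monoid M] (l : List α) (p : α → Bool) (f : α → M)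
    (h : ∀ x ∈ l, p x = false → f x = 1) : (l.map f).prod = ((l.filter p).map f).prod := by
  induction l with
  | nil => rfl
  | cons a l ih =>
    have ih' := ih (fun x hx => h x (List.mem_cons_of_mem a hx))
    by_cases hp : p a = true
    · rw [List.filter_cons_of_pos hp, List.map_cons, List.map_cons, List.prod_cons, List.prod_cons, ih']
    · rw [List.filter_cons_of_neg hp, List.map_cons, List.prod_cons, ih',
        h a (List.mem_cons_self) (by simpa using hp), one_mul]

theorem killed_of_double {Z : List ℕ} (hZ : ∀ z ∈ Z, Killed D K z) {k₁ k₂ r s : ℕ}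
    (hr : r < D.nroots) (hs : s < D.nroots) (hsr : s ≠ r) (hsn : s ≠ D.neg r) {c₁ c₂ : ℤ}
    (hc₁ : c₁ = 1 ∨ c₁ = -1) (hc₂ : c₂ = 1 ∨ c₂ = -1)
    (h : (D.commTerms r s).filter (fun c => !(Z.contains c.1)) = [(k₁, c₁, 1, 1), (k₂, c₂, 2, 1)])
    (hK : ∃ x : K, x ≠ 0 ∧ x ≠ 1) : Killed D K k₁ ∧ Killed D K k₂ := by
  -- the relation with two surviving terms
  have hrel : ∀ t u : K, xi D K k₁ ((c₁ : K) * (-t) * u) * xi D K k₂ ((c₂ : K) * t ^ 2 * u) = 1 := by
    intro t u
    have h1 := comm_rel D K hr hs hsr hsn t u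
    rw [prod_filter_of_forall _ (fun c => !(Z.contains c.1))] at h1
    · rw [h] at h1
      simp only [List.map_cons, List.map_nil, List.prod_cons, List.prod_nil, mul_one, pow_one] at h1
      have e : (-t) ^ 2 = t ^ 2 := by ring
      rw [e] at h1
      exact h1
    · intro x _ hx
      have hx' : x.1 ∈ Z := by
        simpa using hx
      exact hZ x.1 hx' _
  have hc₁' : (c₁ : K) * (c₁ : K) = 1 := by
    rcases hc₁ with rfl | rfl <;> push_cast <;> ring
  have hc₂' : (c₂ : K) * (c₂ : K) = 1 := by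
    rcases hc₂ with rfl | rfl <;> push_cast <;> ring
  obtain ⟨l, hl0, hl1⟩ := hK
  -- `g(c₂ t v) = f(c₁ v)⁻¹`-type relation: for `t ≠ 0`, with `u = v / t`
  have hrel' : ∀ t v : K, t ≠ 0 → xi D K k₁ (-((c₁ : K) * v)) * xi D K k₂ ((c₂ : K) * t * v) = 1 := by
    intro t v ht
    have := hrel t (v / t)
    have e1 : (c₁ : K) * (-t) * (v / t) = -((c₁ : K) * v) := by field_simp
    have e2 : (c₂ : K) * t ^ 2 * (v / t) = (c₂ : K) * t * v := by field_simp
    rw [e1, e2] at this
    exact this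
  have hk₂ : Killed D K k₂ := by
    intro w
    -- `w = c₂ (l - 1) v`
    have hl1' : l - 1 ≠ 0 := sub_ne_zero.mpr hl1
    set v : K := (c₂ : K) * w / (l - 1) with hv
    have ha := hrel' l v hl0
    have hb := hrel' 1 v one_ne_zero
    have hab : xi D K k₂ ((c₂ : K) * l * v) = xi D K k₂ ((c₂ : K) * 1 * v) := by
      have : xi D K k₁ (-((c₁ : K) * v)) * xi D K k₂ ((c₂ : K) * l * v) =
          xi D K k₁ (-((c₁ : K) * v)) * xi D K k₂ ((c₂ : K) * 1 * v) := by rw [ha, hb]
      exact mul_left_cancel this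
    have hw : w = (c₂ : K) * l * v + -((c₂ : K) * 1 * v) := by
      rw [hv]
      field_simp
      linear_combination (-(l - 1) * w) * hc₂'
    rw [hw, ← xi_add, xi_neg, hab, mul_inv_cancel]
  refine ⟨?_, hk₂⟩
  intro w
  have := hrel' 1 (-((c₁ : K) * w)) one_ne_zero
  rw [hk₂ _, mul_one] at this
  have e : -((c₁ : K) * -((c₁ : K) * w)) = w := by
    linear_combination w * hc₁'
  rw [e] at this
  exact this

/-- If every root is killed, the presented group is perfect. -/
theorem commutator_eq_top_of_killed (h : ∀ k, k < D.nroots → Killed D K k) :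
    commutator (D.SteinbergCover K) = ⊤ := by
  rw [← Abelianization.ker_of, eq_top_iff]
  intro g _
  apply PresentedGroup.generated_by
  rintro ⟨⟨r, hr⟩, t⟩
  rw [MonoidHom.mem_ker]
  have := h r hr t
  unfold xi ChevalleyDatum.scGen ChevalleyDatum.stX at this
  rw [dif_pos hr] at this
  exact this

end generic

/-! ### Certificates -/

section certs

/-- Check of a single-term certificate `(k, r, s)`. -/
def chkSingle (D : ChevalleyDatum) (x : ℕ × ℕ × ℕ) : Bool :=
  decide (x.2.1 < D.nroots) && decide (x.2.2 < D.nroots) && decide (x.2.2 ≠ x.2.1) &&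
    decide (x.2.2 ≠ D.neg x.2.1) &&
    (D.commTerms x.2.1 x.2.2 == [(x.1, 1, 1, 1)] || D.commTerms x.2.1 x.2.2 == [(x.1, -1, 1, 1)])

/-- Check of a two-term certificate `(k₁, k₂, r, s)` relative to the list `Z` of killed roots. -/
def chkDouble (D : ChevalleyDatum) (Z : List ℕ) (x : ℕ × ℕ × ℕ × ℕ) : Bool :=
  decide (x.2.2.1 < D.nroots) && decide (x.2.2.2 < D.nroots) && decide (x.2.2.2 ≠ x.2.2.1) &&
    decide (x.2.2.2 ≠ D.neg x.2.2.1) &&
    ([(1 : ℤ), -1].any fun c₁ => [(1 : ℤ), -1].any fun c₂ =>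
      (D.commTerms x.2.2.1 x.2.2.2).filter (fun c => !(Z.contains c.1)) ==
        [(x.1, c₁, 1, 1), (x.2.1, c₂, 2, 1)])

/-- Check of a full certificate. -/
def chkCert (D : ChevalleyDatum) (S : List (ℕ × ℕ × ℕ)) (T : List (ℕ × ℕ × ℕ × ℕ)) : Bool :=
  S.all (chkSingle D) && T.all (chkDouble D (S.map (·.1))) &&
    (List.range D.nroots).all fun k =>
      (S.map (·.1)).contains k || T.any fun x => x.1 == k || x.2.1 == k

theorem commutator_eq_top_of_chkCert (D : ChevalleyDatum) (K : Type*) [Field K]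
    (S : List (ℕ × ℕ × ℕ)) (T : List (ℕ × ℕ × ℕ × ℕ)) (h : chkCert D S T = true)
    (hK : T ≠ [] → ∃ x : K, x ≠ 0 ∧ x ≠ 1) : commutator (D.SteinbergCover K) = ⊤ := by
  unfold chkCert at h
  simp only [Bool.and_eq_true, List.all_eq_true] at h
  obtain ⟨⟨hS, hT⟩, hall⟩ := h
  -- singles
  have hZ : ∀ z ∈ S.map (·.1), Killed D K z := by
    intro z hz
    obtain ⟨x, hx, rfl⟩ := List.mem_map.mp hz
    have hx' := hS x hx
    unfold chkSingle at hx'
    simp only [Bool.and_eq_true, Bool.or_eq_true, decide_eq_true_eq, beq_iff_eq] at hx'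
    obtain ⟨⟨⟨⟨hr, hs⟩, hsr⟩, hsn⟩, hc⟩ := hx'
    rcases hc with hc | hc
    · exact killed_of_single D K hr hs hsr hsn (Or.inl rfl) hc
    · exact killed_of_single D K hr hs hsr hsn (Or.inr rfl) hc
  apply commutator_eq_top_of_killed
  intro k hk
  have hk' := hall k (List.mem_range.mpr hk)
  simp only [Bool.or_eq_true, List.any_eq_true, beq_iff_eq] at hk'
  rcases hk' with hk' | ⟨x, hx, hk'⟩
  · exact hZ k (by simpa using hk')
  · have hx' := hT x hx
    unfold chkDouble at hx'
    simp only [Bool.and_eq_true, decide_eq_true_eq, List.any_eq_true, beq_iff_eq] at hx'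
    obtain ⟨⟨⟨⟨hr, hs⟩, hsr⟩, hsn⟩, c₁, hc₁, c₂, hc₂, hc⟩ := hx'
    have hc₁' : c₁ = 1 ∨ c₁ = -1 := by simpa using hc₁
    have hc₂' : c₂ = 1 ∨ c₂ = -1 := by simpa using hc₂
    have hne : T ≠ [] := List.ne_nil_of_mem hx
    have := killed_of_double D K hZ hr hs hsr hsn hc₁' hc₂' hc (hK hne)
    rcases hk' with rfl | rfl
    · exact this.1
    · exact this.2

/-- Single-term certificates for type D4. -/
def certD4 : List (ℕ × ℕ × ℕ) := [
  (0, 1, 9), (1, 0, 14), (2, 0, 15), (3, 0, 16), (4, 0, 17), (5, 1, 17), (6, 0, 19), (7, 0, 20),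
  (8, 0, 21), (9, 0, 22), (10, 1, 20), (11, 1, 21), (12, 2, 22), (13, 3, 22), (14, 1, 23), (15, 2, 23),
  (16, 3, 23), (17, 4, 23), (18, 6, 22), (19, 6, 23), (20, 7, 23), (21, 8, 23), (22, 9, 23), (23, 14, 22)]

/-- Single-term certificates for type F4. -/
def certF4 : List (ℕ × ℕ × ℕ) := [
  (0, 1, 23), (1, 0, 24), (2, 0, 26), (3, 7, 14), (4, 0, 31), (5, 0, 32), (6, 1, 32), (7, 3, 33),
  (8, 3, 34), (9, 3, 35), (10, 3, 36), (11, 3, 37), (12, 3, 38), (13, 3, 39), (14, 3, 40), (15, 0, 42),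
  (16, 0, 43), (17, 1, 43), (18, 7, 37), (19, 7, 38), (20, 7, 39), (21, 0, 45), (22, 1, 45), (23, 0, 46),
  (24, 1, 47), (25, 2, 46), (26, 2, 47), (27, 8, 40), (28, 9, 40), (29, 10, 40), (30, 4, 46), (31, 4, 47),
  (32, 5, 47), (33, 7, 44), (34, 8, 44), (35, 9, 44), (36, 10, 44), (37, 11, 44), (38, 12, 44), (39, 13, 44),
  (40, 14, 44), (41, 15, 46), (42, 15, 47), (43, 16, 47), (44, 33, 40), (45, 21, 47), (46, 23, 47), (47, 24, 46)]

/-- Single-term certificates for type E6. -/
def certE6 : List (ℕ × ℕ × ℕ) := [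
  (0, 1, 25), (1, 0, 46), (2, 0, 47), (3, 0, 48), (4, 0, 49), (5, 0, 50), (6, 0, 51), (7, 0, 52),
  (8, 0, 53), (9, 0, 54), (10, 0, 55), (11, 1, 53), (12, 1, 54), (13, 1, 55), (14, 2, 55), (15, 5, 55),
  (16, 0, 61), (17, 0, 62), (18, 0, 63), (19, 0, 64), (20, 0, 65), (21, 0, 66), (22, 0, 67), (23, 0, 68),
  (24, 0, 69), (25, 0, 70), (26, 1, 64), (27, 1, 65), (28, 1, 66), (29, 2, 66), (30, 1, 67), (31, 1, 68),
  (32, 1, 69), (33, 2, 67), (34, 2, 68), (35, 3, 67), (36, 4, 68), (37, 3, 69), (38, 4, 69), (39, 2, 70),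
  (40, 3, 70), (41, 4, 70), (42, 5, 69), (43, 5, 70), (44, 6, 70), (45, 7, 70), (46, 1, 71), (47, 2, 71),
  (48, 3, 71), (49, 4, 71), (50, 5, 71), (51, 6, 71), (52, 7, 71), (53, 8, 71), (54, 9, 71), (55, 10, 71),
  (56, 16, 66), (57, 16, 69), (58, 16, 70), (59, 17, 70), (60, 18, 70), (61, 16, 71), (62, 17, 71), (63, 18, 71),
  (64, 19, 71), (65, 20, 71), (66, 21, 71), (67, 22, 71), (68, 23, 71), (69, 24, 71), (70, 25, 71), (71, 46, 70)]

/-- Single-term certificates for type E7. -/
def certE7 : List (ℕ × ℕ × ℕ) := [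
  (0, 1, 32), (1, 0, 93), (2, 0, 94), (3, 0, 95), (4, 0, 96), (5, 0, 97), (6, 0, 98), (7, 0, 99),
  (8, 0, 100), (9, 0, 101), (10, 0, 102), (11, 0, 103), (12, 0, 104), (13, 0, 105), (14, 0, 106), (15, 0, 107),
  (16, 0, 108), (17, 0, 109), (18, 0, 110), (19, 0, 111), (20, 0, 112), (21, 0, 113), (22, 0, 114), (23, 0, 115),
  (24, 0, 116), (25, 0, 117), (26, 0, 118), (27, 0, 119), (28, 0, 120), (29, 0, 121), (30, 0, 122), (31, 0, 123),
  (32, 0, 124), (33, 1, 109), (34, 1, 110), (35, 1, 111), (36, 1, 112), (37, 1, 113), (38, 1, 114), (39, 1, 115),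
  (40, 1, 116), (41, 1, 117), (42, 1, 118), (43, 2, 115), (44, 2, 116), (45, 2, 117), (46, 2, 118), (47, 3, 118),
  (48, 1, 119), (49, 1, 120), (50, 1, 121), (51, 1, 122), (52, 1, 123), (53, 2, 119), (54, 2, 120), (55, 2, 121),
  (56, 2, 122), (57, 3, 119), (58, 3, 120), (59, 3, 121), (60, 4, 119), (61, 4, 120), (62, 5, 119), (63, 6, 120),
  (64, 5, 121), (65, 6, 121), (66, 4, 122), (67, 5, 122), (68, 6, 122), (69, 3, 123), (70, 4, 123), (71, 5, 123),
  (72, 6, 123), (73, 2, 124), (74, 3, 124), (75, 4, 124), (76, 5, 124), (77, 6, 124), (78, 7, 122), (79, 7, 123),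
  (80, 8, 123), (81, 9, 123), (82, 10, 123), (83, 7, 124), (84, 8, 124), (85, 9, 124), (86, 10, 124), (87, 11, 124),
  (88, 12, 124), (89, 13, 124), (90, 14, 124), (91, 15, 124), (92, 16, 124), (93, 1, 125), (94, 2, 125), (95, 3, 125),
  (96, 4, 125), (97, 5, 125), (98, 6, 125), (99, 7, 125), (100, 8, 125), (101, 9, 125), (102, 10, 125), (103, 11, 125),
  (104, 12, 125), (105, 13, 125), (106, 14, 125), (107, 15, 125), (108, 16, 125), (109, 17, 125), (110, 18, 125), (111, 19, 125),
  (112, 20, 125), (113, 21, 125), (114, 22, 125), (115, 23, 125), (116, 24, 125), (117, 25, 125), (118, 26, 125), (119, 27, 125),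
  (120, 28, 125), (121, 29, 125), (122, 30, 125), (123, 31, 125), (124, 32, 125), (125, 93, 124)]

/-- Single-term certificates for type E8. -/
def certE8 : List (ℕ × ℕ × ℕ) := [
  (0, 1, 119), (1, 0, 120), (2, 0, 122), (3, 0, 125), (4, 0, 129), (5, 0, 134), (6, 0, 140), (7, 0, 146),
  (8, 0, 151), (9, 0, 155), (10, 0, 158), (11, 0, 160), (12, 0, 161), (13, 1, 161), (14, 0, 168), (15, 0, 173),
  (16, 0, 177), (17, 0, 180), (18, 0, 182), (19, 0, 183), (20, 1, 183), (21, 0, 187), (22, 0, 190), (23, 0, 192),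
  (24, 0, 193), (25, 1, 193), (26, 0, 196), (27, 0, 198), (28, 0, 199), (29, 1, 199), (30, 0, 201), (31, 0, 202),
  (32, 1, 202), (33, 0, 203), (34, 1, 203), (35, 2, 203), (36, 0, 206), (37, 0, 208), (38, 0, 209), (39, 1, 209),
  (40, 0, 211), (41, 0, 212), (42, 1, 212), (43, 0, 213), (44, 1, 213), (45, 2, 213), (46, 0, 215), (47, 0, 216),
  (48, 1, 216), (49, 0, 217), (50, 1, 217), (51, 2, 217), (52, 0, 218), (53, 1, 218), (54, 2, 218), (55, 3, 218),
  (56, 0, 220), (57, 0, 221), (58, 1, 221), (59, 0, 222), (60, 1, 222), (61, 2, 222), (62, 0, 223), (63, 1, 223),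
  (64, 2, 223), (65, 3, 223), (66, 0, 224), (67, 1, 224), (68, 2, 224), (69, 3, 224), (70, 4, 224), (71, 0, 225),
  (72, 1, 225), (73, 2, 225), (74, 3, 225), (75, 4, 225), (76, 5, 225), (77, 6, 225), (78, 0, 227), (79, 0, 228),
  (80, 1, 228), (81, 0, 229), (82, 1, 229), (83, 2, 229), (84, 0, 230), (85, 1, 230), (86, 2, 230), (87, 3, 230),
  (88, 0, 231), (89, 1, 231), (90, 2, 231), (91, 3, 231), (92, 4, 231), (93, 0, 232), (94, 1, 232), (95, 2, 232),
  (96, 3, 232), (97, 4, 232), (98, 5, 232), (99, 0, 233), (100, 1, 233), (101, 2, 233), (102, 3, 233), (103, 4, 233),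
  (104, 5, 233), (105, 0, 234), (106, 1, 234), (107, 2, 234), (108, 3, 234), (109, 4, 234), (110, 0, 235), (111, 1, 235),
  (112, 2, 235), (113, 3, 235), (114, 0, 236), (115, 1, 236), (116, 2, 236), (117, 0, 237), (118, 1, 237), (119, 0, 238),
  (120, 1, 239), (121, 2, 238), (122, 2, 239), (123, 3, 237), (124, 3, 238), (125, 3, 239), (126, 4, 236), (127, 4, 237),
  (128, 4, 238), (129, 4, 239), (130, 5, 235), (131, 5, 236), (132, 5, 237), (133, 5, 238), (134, 5, 239), (135, 6, 234),
  (136, 6, 235), (137, 6, 236), (138, 6, 237), (139, 6, 238), (140, 6, 239), (141, 7, 234), (142, 7, 235), (143, 7, 236),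
  (144, 7, 237), (145, 7, 238), (146, 7, 239), (147, 8, 235), (148, 8, 236), (149, 8, 237), (150, 8, 238), (151, 8, 239),
  (152, 9, 236), (153, 9, 237), (154, 9, 238), (155, 9, 239), (156, 10, 237), (157, 10, 238), (158, 10, 239), (159, 11, 238),
  (160, 11, 239), (161, 12, 239), (162, 14, 233), (163, 14, 234), (164, 14, 235), (165, 14, 236), (166, 14, 237), (167, 14, 238),
  (168, 14, 239), (169, 15, 235), (170, 15, 236), (171, 15, 237), (172, 15, 238), (173, 15, 239), (174, 16, 236), (175, 16, 237),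
  (176, 16, 238), (177, 16, 239), (178, 17, 237), (179, 17, 238), (180, 17, 239), (181, 18, 238), (182, 18, 239), (183, 19, 239),
  (184, 21, 236), (185, 21, 237), (186, 21, 238), (187, 21, 239), (188, 22, 237), (189, 22, 238), (190, 22, 239), (191, 23, 238),
  (192, 23, 239), (193, 24, 239), (194, 26, 237), (195, 26, 238), (196, 26, 239), (197, 27, 238), (198, 27, 239), (199, 28, 239),
  (200, 30, 238), (201, 30, 239), (202, 31, 239), (203, 33, 239), (204, 36, 237), (205, 36, 238), (206, 36, 239), (207, 37, 238),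
  (208, 37, 239), (209, 38, 239), (210, 40, 238), (211, 40, 239), (212, 41, 239), (213, 43, 239), (214, 46, 238), (215, 46, 239),
  (216, 47, 239), (217, 49, 239), (218, 52, 239), (219, 56, 238), (220, 56, 239), (221, 57, 239), (222, 59, 239), (223, 62, 239),
  (224, 66, 239), (225, 71, 239), (226, 78, 238), (227, 78, 239), (228, 79, 239), (229, 81, 239), (230, 84, 239), (231, 88, 239),
  (232, 93, 239), (233, 99, 239), (234, 105, 239), (235, 110, 239), (236, 114, 239), (237, 117, 239), (238, 119, 239), (239, 120, 238)]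

/-- Single-term certificates for the long roots of type G2. -/
def certG2 : List (ℕ × ℕ × ℕ) := [(0, 1, 5), (1, 0, 6), (5, 0, 10), (6, 1, 11), (10, 5, 11), (11, 6, 10)]

/-- Two-term certificates for the short roots of type G2. -/
def certG2' : List (ℕ × ℕ × ℕ × ℕ) := [(7, 3, 2, 10), (8, 4, 2, 11), (4, 2, 3, 6), (9, 7, 3, 11)]

/-- Two-term certificates for type B2. -/
def certB2' : List (ℕ × ℕ × ℕ × ℕ) := [(2, 0, 1, 4), (5, 3, 1, 7), (1, 0, 2, 3), (6, 4, 2, 7), (6, 7, 5, 4)]

set_option maxRecDepth 100000 in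
theorem chkCert_G2 : chkCert chevG2 certG2 certG2' = true := by decide +kernel
set_option maxRecDepth 100000 in
theorem chkCert_B2 : chkCert chevB2 [] certB2' = true := by decide +kernel
set_option maxRecDepth 100000 in
theorem chkCert_D4 : chkCert chevD4 certD4 [] = true := by decide +kernel
set_option maxRecDepth 100000 in
theorem chkCert_F4 : chkCert chevF4 certF4 [] = true := by decide +kernel
set_option maxRecDepth 100000 in
theorem chkCert_E6 : chkCert chevE6 certE6 [] = true := by decide +kernel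
set_option maxRecDepth 100000 in
theorem chkCert_E7 : chkCert chevE7 certE7 [] = true := by decide +kernel
set_option maxRecDepth 100000 in
theorem chkCert_E8 : chkCert chevE8 certE8 [] = true := by decide +kernel

end certs

/-- **The group presented by (R1), (R2) is perfect** for the seven tabulated types. -/
theorem steinbergCover_perfect {K : Type*} [Field K] (D : ChevalleyDatum)
    (hD : D ∈ [chevG2, chevB2, chevD4, chevF4, chevE6, chevE7, chevE8])
    (hK : D ∈ [chevB2, chevG2] → ∃ x : K, x ≠ 0 ∧ x ≠ 1) :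
    commutator (D.SteinbergCover K) = ⊤ := by
  simp only [List.mem_cons, List.not_mem_nil, or_false] at hD hK
  rcases hD with rfl | rfl | rfl | rfl | rfl | rfl | rfl
  · exact commutator_eq_top_of_chkCert _ K _ _ chkCert_G2 (fun _ => hK (Or.inr rfl))
  · exact commutator_eq_top_of_chkCert _ K _ _ chkCert_B2 (fun _ => hK (Or.inl rfl))
  · exact commutator_eq_top_of_chkCert _ K _ _ chkCert_D4 (fun h => absurd rfl h)
  · exact commutator_eq_top_of_chkCert _ K _ _ chkCert_F4 (fun h => absurd rfl h)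
  · exact commutator_eq_top_of_chkCert _ K _ _ chkCert_E6 (fun h => absurd rfl h)
  · exact commutator_eq_top_of_chkCert _ K _ _ chkCert_E7 (fun h => absurd rfl h)
  · exact commutator_eq_top_of_chkCert _ K _ _ chkCert_E8 (fun h => absurd rfl h)

end Cfsg.Agent.Lib.H12.StCover
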