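import Mathlib
import Cfsg.Agent.Lib.H12.SL2Syl2
import Cfsg.Agent.Lib.H12.DicMcKay

set_option autoImplicit false

/-!
# The McKay count of the normalizer of a Sylow 2-subgroup of `SL₂(q)`, `q` odd
-/

namespace Cfsg.Agent.Lib.H12

open Matrix Cfsg Cfsg.Agent.Lib.L0 Cfsg.Agent.Lib.H24
open scoped commutatorElement

section abstract24

variable {N : Type*} [Group N]

/-- a group of order 24 whose commutator subgroup has index three has exactly four irreducible
characters of odd degree -/
theorem mckay_two_of_card_24 [Finite N] (hcard : Nat.card N = 24) (hidx : (commutator N).index = 3) :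
    mckay 2 N = 4 := by
  classical
  have : Fintype N := Fintype.ofFinite N
  have : Fintype (Cfsg.IrrCharacter N) := Fintype.ofFinite _
  have hV : ∀ χ : Cfsg.IrrCharacter N, degN χ ∈ ({1, 2, 3, 4, 6, 8, 12, 24} : Finset ℕ) := by
    intro χ
    have h1 := degN_dvd_card χ
    rw [hcard] at h1
    have h2 : degN χ ∈ Nat.divisors 24 := Nat.mem_divisors.mpr ⟨h1, by norm_num⟩
    have h3 : Nat.divisors 24 = ({1, 2, 3, 4, 6, 8, 12, 24} : Finset ℕ) := by decide
    rwa [h3] at h2
  set c : ℕ → ℕ := fun v => Nat.card {χ : Cfsg.IrrCharacter N // (χ : N → ℂ) 1 = (v : ℂ)} with hc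
  have h2 : ∑ v ∈ ({1, 2, 3, 4, 6, 8, 12, 24} : Finset ℕ), c v * v ^ 2 = Nat.card N :=
    sum_natCard_deg_sq ({1, 2, 3, 4, 6, 8, 12, 24} : Finset ℕ) hV
  rw [hcard] at h2
  have hm : mckay 2 N = ∑ v ∈ ({1, 2, 3, 4, 6, 8, 12, 24} : Finset ℕ), if 2 ∣ v then 0 else c v :=
    mckay_eq_sum 2 ({1, 2, 3, 4, 6, 8, 12, 24} : Finset ℕ) hV
  have hlin : c 1 = 3 := by
    have := card_linear_irr (G := N)
    rw [hidx] at this
    rw [← this, hc]
    simp
  rw [Finset.sum_insert (by decide), Finset.sum_insert (by decide), Finset.sum_insert (by decide),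
    Finset.sum_insert (by decide), Finset.sum_insert (by decide), Finset.sum_insert (by decide),
    Finset.sum_insert (by decide), Finset.sum_singleton] at h2 hm
  rw [if_neg (by decide), if_pos (by decide), if_neg (by decide), if_pos (by decide),
    if_pos (by decide), if_pos (by decide), if_pos (by decide), if_pos (by decide)] at hm
  rw [hm]
  omega

end abstract24

section concrete

variable {F : Type*} [Field F]

local notation "SL2" => Matrix.SpecialLinearGroup (Fin 2) F
local notation "M2" => Matrix (Fin 2) (Fin 2) F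

/-- for a Sylow 2-subgroup of order eight there is an element of the normalizer permuting
`x, s₀, x s₀` cyclically -/
theorem Syl2Data.exists_cycle [Fintype F] {S : Sylow 2 SL2} {x s₀ : SL2}
    (h : Syl2Data (S : Subgroup SL2) x s₀) (hodd : Odd (Fintype.card F))
    (h8 : Nat.card (S : Subgroup SL2) = 8) :
    ∃ u ∈ Subgroup.normalizer ((S : Subgroup SL2) : Set SL2), u * x * u⁻¹ = s₀ ∧
      u * s₀ * u⁻¹ = x * s₀ ∧
      ∀ t ∈ ((S : Subgroup SL2) ⊓ Subgroup.centralizer ({x} : Set SL2) : Subgroup SL2),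
        t = 1 ∨ t = -1 ∨ t = x ∨ t = x⁻¹ := by
  have h2 : (2 : F) ≠ 0 := two_ne_zero_of_odd hodd
  have ht := h.ht h2
  have hxN := h.nonScalar h2
  have hss : s₀ * s₀ = -1 := mul_self_of_inverts hxN h.sx
  have hxinv : x⁻¹ = -x := inv_eq_neg_of_mul_self x h.xx
  have hsinv : s₀⁻¹ = -s₀ := inv_eq_neg_of_mul_self s₀ hss
  have hsx' : s₀ * x = -(x * s₀) := by
    calc s₀ * x = (s₀ * x * s₀⁻¹) * s₀ := by group
      _ = -(x * s₀) := by rw [h.sx, hxinv, neg_mul]
  have hii := coe_mul_self_neg_one h.xx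
  have hjj := coe_mul_self_neg_one hss
  have hji : (s₀ : M2) * (x : M2) = -((x : M2) * (s₀ : M2)) := by
    rw [← Matrix.SpecialLinearGroup.coe_mul, hsx']
    simp
  have htx := trace_eq_zero_of_mul_self x h.xx
  have hts := trace_eq_zero_of_mul_self s₀ hss
  obtain ⟨u, hu⟩ : ∃ u : SL2, (u : M2) = (2 : F)⁻¹ • ((1 + (x : M2)) * (1 + (s₀ : M2))) :=
    ⟨⟨_, quat_det h2 _ _ x.det_coe s₀.det_coe htx hts⟩, rfl⟩
  have hu1 : u * x = s₀ * u := by
    apply Subtype.ext
    rw [Matrix.SpecialLinearGroup.coe_mul, Matrix.SpecialLinearGroup.coe_mul, hu]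
    exact quat_conj₁ _ _ hii hjj hji
  have hu2 : u * s₀ = (x * s₀) * u := by
    apply Subtype.ext
    rw [Matrix.SpecialLinearGroup.coe_mul, Matrix.SpecialLinearGroup.coe_mul,
      Matrix.SpecialLinearGroup.coe_mul, hu]
    exact quat_conj₂ _ _ hii hjj hji
  have hc1 : u * x * u⁻¹ = s₀ := by rw [hu1]; group
  have hc2 : u * s₀ * u⁻¹ = x * s₀ := by rw [hu2]; group
  have hc1' : u * x⁻¹ * u⁻¹ = s₀⁻¹ := by
    rw [← hc1]; group
  have hc3 : (u * u) * x * (u * u)⁻¹ = x * s₀ := by
    calc (u * u) * x * (u * u)⁻¹ = u * (u * x * u⁻¹) * u⁻¹ := by group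
      _ = x * s₀ := by rw [hc1, hc2]
  have hc3' : (u * u) * x⁻¹ * (u * u)⁻¹ = s₀ * x := by
    calc (u * u) * x⁻¹ * (u * u)⁻¹ = ((u * u) * x * (u * u)⁻¹)⁻¹ := conj_inv_eq _ _
      _ = s₀ * x := by
        rw [hc3, _root_.mul_inv_rev, hxinv, hsinv, neg_mul_neg]
  -- the torus part has order four
  have hcardT : Nat.card ((S : Subgroup SL2) ⊓ Subgroup.centralizer ({x} : Set SL2) :
      Subgroup SL2) = 4 := by
    have h1 := h.card h2
    omega
  have hT : ∀ t ∈ ((S : Subgroup SL2) ⊓ Subgroup.centralizer ({x} : Set SL2) : Subgroup SL2),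
      t = 1 ∨ t = -1 ∨ t = x ∨ t = x⁻¹ := by
    intro t htT
    have h1 : (⟨t, htT⟩ : ((S : Subgroup SL2) ⊓ Subgroup.centralizer ({x} : Set SL2) :
        Subgroup SL2)) ^ 4 = 1 := by
      rw [← hcardT]
      exact pow_card_eq_one'
    have h3 : t ^ 4 = 1 := by
      have := congrArg Subtype.val h1
      simpa using this
    have h4 : (t * t) * (t * t) = 1 := by
      rw [← h3]
      norm_num [pow_succ, mul_assoc]
    rcases (sl2_mul_self_eq_one_iff h2 (t * t)).mp h4 with h5 | h5
    · rcases (sl2_mul_self_eq_one_iff h2 t).mp h5 with h6 | h6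
      · left; exact h6
      · right; left; exact h6
    · right; right
      apply eq_or_eq_inv_of_trace h2 ht htT.2
      rw [trace_eq_zero_of_mul_self t h5, htx]
  have hdic := h.dic h2
  have hxs : x * s₀ ∈ (S : Subgroup SL2) := (S : Subgroup SL2).mul_mem h.xS h.sS
  have hconjT : ∀ t ∈ ((S : Subgroup SL2) ⊓ Subgroup.centralizer ({x} : Set SL2) : Subgroup SL2),
      u * t * u⁻¹ ∈ (S : Subgroup SL2) := by
    intro t htT
    rcases hT t htT with h1 | h1 | h1 | h1
    · rw [h1]
      have : u * 1 * u⁻¹ = 1 := by group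
      rw [this]; exact Subgroup.one_mem _
    · rw [h1, ← h.xx]
      have : u * (x * x) * u⁻¹ = (u * x * u⁻¹) * (u * x * u⁻¹) := by group
      rw [this, hc1]
      exact (S : Subgroup SL2).mul_mem h.sS h.sS
    · rw [h1, hc1]; exact h.sS
    · rw [h1, hc1']; exact (S : Subgroup SL2).inv_mem h.sS
  have huN : u ∈ Subgroup.normalizer ((S : Subgroup SL2) : Set SL2) := by
    apply Subgroup.mem_normalizer_fintype
    intro n hn
    rcases hdic.idx n hn with h1 | h1
    · exact hconjT n h1
    · have : u * n * u⁻¹ = (u * s₀ * u⁻¹) * (u * (s₀⁻¹ * n) * u⁻¹) := by group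
      rw [this, hc2]
      exact (S : Subgroup SL2).mul_mem hxs (hconjT _ h1)
  exact ⟨u, huN, hc1, hc2, hT⟩

end concrete

section concrete2

variable {F : Type*} [Field F]

local notation "SL2" => Matrix.SpecialLinearGroup (Fin 2) F
local notation "M2" => Matrix (Fin 2) (Fin 2) F

/-- the elements of square one in the torus part -/
theorem Syl2Data.card_sq_one {S : Subgroup SL2} {x s₀ : SL2} (h : Syl2Data S x s₀) (h2 : (2 : F) ≠ 0) :
    Nat.card {t : (S ⊓ Subgroup.centralizer ({x} : Set SL2) : Subgroup SL2) // (t : SL2) * t = 1} = 2 := by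
  have hneg : (-1 : SL2) ∈ (S ⊓ Subgroup.centralizer ({x} : Set SL2) : Subgroup SL2) := by
    rw [Subgroup.mem_inf]
    refine ⟨?_, ?_⟩
    · rw [← h.xx]; exact S.mul_mem h.xS h.xS
    · rw [Subgroup.mem_centralizer_singleton_iff]
      simp
  rw [Nat.card_eq_two_iff]
  refine ⟨⟨1, by simp⟩, ⟨⟨-1, hneg⟩, by simp⟩, ?_, ?_⟩
  · intro hh
    have h' : (1 : SL2) = -1 := congrArg (fun y : {t : (S ⊓ Subgroup.centralizer ({x} : Set SL2) :
      Subgroup SL2) // (t : SL2) * t = 1} =>
      ((y : (S ⊓ Subgroup.centralizer ({x} : Set SL2) : Subgroup SL2)) : SL2)) hh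
    exact sl2_neg_one_ne_one h2 h'.symm
  · ext ⟨⟨t, ht⟩, htt⟩
    simp only [Set.mem_insert_iff, Set.mem_singleton_iff, Set.mem_univ, iff_true, Subtype.mk.injEq]
    rcases (sl2_mul_self_eq_one_iff h2 t).mp htt with h' | h'
    · left; exact Subtype.ext h'
    · right; exact h'

variable [Fintype F]

/-- **The McKay count of the normalizer of a Sylow 2-subgroup is four.** -/
theorem mckay_normalizer_sylow_two (hodd : Odd (Fintype.card F)) (S : Sylow 2 SL2) :
    mckay 2 (Subgroup.normalizer ((S : Subgroup SL2) : Set SL2)) = 4 := by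
  have h2 : (2 : F) ≠ 0 := two_ne_zero_of_odd hodd
  obtain ⟨x, s₀, h⟩ := exists_syl2Data hodd S
  have hmod : (Fintype.card F % 8 = 1 ∨ Fintype.card F % 8 = 7) ∨
      (Fintype.card F % 8 = 3 ∨ Fintype.card F % 8 = 5) := by
    obtain ⟨m, hm⟩ := hodd
    omega
  rcases hmod with hq | hq
  · have hN := h.normalizer_eq hodd (sixteen_dvd_card_sylow hq S)
    rw [mckay_congr 2 (MulEquiv.subgroupCongr hN)]
    exact ((h.dic h2).mckay (h.card_sq_one h2) 2 Nat.prime_two).1 rfl
  · have h8 := card_sylow_eq_eight hq S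
    have hcardN := h.card_normalizer hodd h8
    rw [h8] at hcardN
    obtain ⟨u, huN, hc1, hc2, hT⟩ := h.exists_cycle hodd h8
    set N := Subgroup.normalizer ((S : Subgroup SL2) : Set SL2) with hNdef
    have hSN : (S : Subgroup SL2) ≤ N := Subgroup.le_normalizer
    have hnorm : ((S : Subgroup SL2).subgroupOf N).Normal := Subgroup.normal_in_normalizer
    have hidx : ((S : Subgroup SL2).subgroupOf N).index = 3 := by
      have h1 := Subgroup.card_mul_index ((S : Subgroup SL2).subgroupOf N)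
      rw [Nat.card_congr (Subgroup.subgroupOfEquivOfLe hSN).toEquiv, h8, hcardN] at h1
      omega
    apply mckay_two_of_card_24 hcardN
    suffices hcomm : commutator N = (S : Subgroup SL2).subgroupOf N by rw [hcomm, hidx]
    apply le_antisymm
    · -- the quotient is cyclic of order three
      have hcardQ : Nat.card (N ⧸ (S : Subgroup SL2).subgroupOf N) = 3 := by
        rw [← Subgroup.index_eq_card]; exact hidx
      have : Fact (Nat.Prime 3) := ⟨by norm_num⟩
      have hcyc : IsCyclic (N ⧸ (S : Subgroup SL2).subgroupOf N) := isCyclic_of_prime_card hcardQ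
      let _ : CommGroup (N ⧸ (S : Subgroup SL2).subgroupOf N) := IsCyclic.commGroup
      have := Abelianization.commutator_subset_ker (QuotientGroup.mk' ((S : Subgroup SL2).subgroupOf N))
      rwa [QuotientGroup.ker_mk'] at this
    · -- `x` and `s₀` are commutators
      have hxN : x ∈ N := hSN h.xS
      have hsN : s₀ ∈ N := hSN h.sS
      have hx' : (⟨x, hxN⟩ : N) ∈ commutator N := by
        have : (⟨x, hxN⟩ : N) = ⁅(⟨u, huN⟩ : N), (⟨s₀, hsN⟩ : N)⁆ := by
          apply Subtype.ext
          rw [commutatorElement_def]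
          show x = u * s₀ * u⁻¹ * s₀⁻¹
          rw [hc2]; group
        rw [this, commutator_def]
        exact Subgroup.commutator_mem_commutator (Subgroup.mem_top _) (Subgroup.mem_top _)
      have hs' : (⟨s₀, hsN⟩ : N) ∈ commutator N := by
        have : (⟨s₀, hsN⟩ : N) = ⁅(⟨u, huN⟩ : N), (⟨x, hxN⟩ : N)⁆ * ⟨x, hxN⟩ := by
          apply Subtype.ext
          rw [commutatorElement_def]
          show s₀ = u * x * u⁻¹ * x⁻¹ * x
          rw [hc1]; group
        rw [this]
        apply Subgroup.mul_mem _ _ hx'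
        rw [commutator_def]
        exact Subgroup.commutator_mem_commutator (Subgroup.mem_top _) (Subgroup.mem_top _)
      have hTmem : ∀ t (ht : t ∈ N),
          t ∈ ((S : Subgroup SL2) ⊓ Subgroup.centralizer ({x} : Set SL2) : Subgroup SL2) →
          (⟨t, ht⟩ : N) ∈ commutator N := by
        intro t ht htT
        rcases hT t htT with h1 | h1 | h1 | h1
        · have : (⟨t, ht⟩ : N) = 1 := Subtype.ext h1
          rw [this]; exact Subgroup.one_mem _
        · have : (⟨t, ht⟩ : N) = ⟨x, hxN⟩ * ⟨x, hxN⟩ := by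
            apply Subtype.ext
            show t = x * x
            rw [h.xx, h1]
          rw [this]; exact Subgroup.mul_mem _ hx' hx'
        · have : (⟨t, ht⟩ : N) = ⟨x, hxN⟩ := Subtype.ext h1
          rw [this]; exact hx'
        · have : (⟨t, ht⟩ : N) = (⟨x, hxN⟩ : N)⁻¹ := Subtype.ext h1
          rw [this]; exact Subgroup.inv_mem _ hx'
      rintro ⟨s, hsN'⟩ hs
      have hsS : s ∈ (S : Subgroup SL2) := hs
      rcases (h.dic h2).idx s hsS with h1 | h1
      · exact hTmem s hsN' h1
      · have hmem : s₀⁻¹ * s ∈ N := N.mul_mem (N.inv_mem hsN) hsN'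
        have : (⟨s, hsN'⟩ : N) = ⟨s₀, hsN⟩ * ⟨s₀⁻¹ * s, hmem⟩ := by
          apply Subtype.ext
          show s = s₀ * (s₀⁻¹ * s)
          group
        rw [this]
        exact Subgroup.mul_mem _ hs' (hTmem _ hmem h1)

end concrete2

end Cfsg.Agent.Lib.H12
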