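import Mathlib

set_option autoImplicit false

/-!
# Number theory for Sylow `r`-subgroups of `GL_n(q)`, `r > n`
-/

open Polynomial Finset

namespace Cfsg.Agent.Lib.H12.SylLarge

variable (q r : ℕ) [Fact r.Prime]


theorem dvd_pow_sub_one_iff (hrq : ¬ r ∣ q) (j : ℕ) :
    r ∣ q ^ j - 1 ↔ orderOf (q : ZMod r) ∣ j := by
  have hq1 : 1 ≤ q ^ j := Nat.one_le_pow _ _ (Nat.pos_of_ne_zero (by
    rintro rfl; exact hrq (dvd_zero r)))
  rw [orderOf_dvd_iff_pow_eq_one, ← ZMod.natCast_eq_zero_iff, Nat.cast_sub hq1, sub_eq_zero]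
  push_cast
  rfl

theorem order_pos (hrq : ¬ r ∣ q) : 0 < orderOf (q : ZMod r) := by
  have hu : IsUnit (q : ZMod r) := by
    rw [isUnit_iff_ne_zero]
    intro h0
    exact hrq ((ZMod.natCast_eq_zero_iff q r).1 h0)
  obtain ⟨u, hu⟩ := hu
  rw [← hu, orderOf_units]
  exact orderOf_pos u

theorem order_lt (hrq : ¬ r ∣ q) : orderOf (q : ZMod r) < r := by
  have hu : IsUnit (q : ZMod r) := by
    rw [isUnit_iff_ne_zero]
    intro h0
    exact hrq ((ZMod.natCast_eq_zero_iff q r).1 h0)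
  obtain ⟨u, hu⟩ := hu
  rw [← hu, orderOf_units]
  have h1 := orderOf_le_card_univ (x := u)
  rw [ZMod.card_units_eq_totient, Nat.totient_prime Fact.out] at h1
  have := (Fact.out : r.Prime).pos
  omega

/-- valuation of `q^(dk) - 1` for `0 < k < r` -/
theorem val_pow_mul (hrq : ¬ r ∣ q) (k : ℕ) (hk0 : 0 < k) (hkr : k < r) :
    padicValNat r (q ^ (orderOf (q : ZMod r) * k) - 1) =
      padicValNat r (q ^ orderOf (q : ZMod r) - 1) := by
  set d := orderOf (q : ZMod r) with hd
  have hq0 : 0 < q := Nat.pos_of_ne_zero (by rintro rfl; exact hrq (dvd_zero r))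
  have hx1 : 1 ≤ q ^ d := Nat.one_le_pow _ _ hq0
  -- q^(dk) - 1 = (q^d - 1) * S
  have hgeom : q ^ (d * k) - 1 = (∑ i ∈ range k, (q ^ d) ^ i) * (q ^ d - 1) := by
    rw [pow_mul]
    zify [hx1, Nat.one_le_pow k _ (Nat.pos_of_ne_zero (by positivity : q ^ d ≠ 0))]
    exact (geom_sum_mul ((q : ℤ) ^ d) k).symm
  have hS : ¬ r ∣ ∑ i ∈ range k, (q ^ d) ^ i := by
    rw [← ZMod.natCast_eq_zero_iff]
    push_cast
    have h1 : ((q : ZMod r)) ^ d = 1 := by rw [hd]; exact pow_orderOf_eq_one _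
    simp only [h1, one_pow, sum_const, card_range, nsmul_eq_mul, mul_one]
    rw [ZMod.natCast_eq_zero_iff]
    intro hdvd
    have := Nat.le_of_dvd hk0 hdvd
    omega
  have hS0 : ∑ i ∈ range k, (q ^ d) ^ i ≠ 0 := by
    intro h0
    apply hS
    rw [h0]
    exact dvd_zero r
  by_cases hz : q ^ d - 1 = 0
  · rw [hgeom, hz, mul_zero]
  · rw [hgeom, padicValNat.mul hS0 hz, padicValNat.eq_zero_of_not_dvd hS, zero_add]

/-- valuation of `q^j - 1` for `0 < j < r` -/
theorem val_pow_sub_one (hrq : ¬ r ∣ q) (j : ℕ) (hj0 : 0 < j) (hjr : j < r) :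
    padicValNat r (q ^ j - 1) =
      if orderOf (q : ZMod r) ∣ j then padicValNat r (q ^ orderOf (q : ZMod r) - 1) else 0 := by
  split_ifs with h
  · obtain ⟨k, rfl⟩ := h
    have hd := order_pos q r hrq
    have hk0 : 0 < k := Nat.pos_of_ne_zero (by rintro rfl; simp at hj0)
    have hkr : k < r := lt_of_le_of_lt (Nat.le_mul_of_pos_left k hd) hjr
    exact val_pow_mul q r hrq k hk0 hkr
  · apply padicValNat.eq_zero_of_not_dvd
    rw [dvd_pow_sub_one_iff q r hrq]
    exact h

theorem padicValNat_prod {ι : Type*} (s : Finset ι) (f : ι → ℕ) (hf : ∀ i ∈ s, f i ≠ 0) :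
    padicValNat r (∏ i ∈ s, f i) = ∑ i ∈ s, padicValNat r (f i) := by
  classical
  induction s using Finset.induction_on with
  | empty => simp
  | insert a s ha ih =>
    rw [Finset.prod_insert ha, Finset.sum_insert ha, padicValNat.mul, ih]
    · intro i hi
      exact hf i (Finset.mem_insert_of_mem hi)
    · exact hf a (Finset.mem_insert_self a s)
    · rw [Finset.prod_ne_zero_iff]
      intro i hi
      exact hf i (Finset.mem_insert_of_mem hi)

/-- valuation of the order of `GL_n(q)` for `n < r` -/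
theorem val_card_GL (hq2 : 2 ≤ q) (hrq : ¬ r ∣ q) (n : ℕ) (hnr : n < r) :
    padicValNat r (∏ i : Fin n, (q ^ n - q ^ (i : ℕ))) =
      (n / orderOf (q : ZMod r)) * padicValNat r (q ^ orderOf (q : ZMod r) - 1) := by
  have hq0 : 0 < q := by omega
  have hrp : r.Prime := Fact.out
  set d := orderOf (q : ZMod r) with hd
  set e0 := padicValNat r (q ^ d - 1) with he0
  have hfac : ∀ i : ℕ, i < n → q ^ n - q ^ i = q ^ i * (q ^ (n - i) - 1) := by
    intro i hi
    rw [Nat.mul_sub, mul_one, ← pow_add, Nat.add_sub_cancel' hi.le]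
  have hne1 : ∀ j : ℕ, 0 < j → q ^ j - 1 ≠ 0 := by
    intro j hj
    have : 1 < q ^ j := Nat.one_lt_pow hj.ne' (by omega)
    omega
  have hval : ∀ i : ℕ, i < n → padicValNat r (q ^ n - q ^ i) = padicValNat r (q ^ (n - i) - 1) := by
    intro i hi
    rw [hfac i hi, padicValNat.mul (by positivity) (hne1 _ (by omega)), padicValNat.pow,
      padicValNat.eq_zero_of_not_dvd hrq, mul_zero, zero_add]
  rw [Fin.prod_univ_eq_prod_range (fun i => q ^ n - q ^ i) n, padicValNat_prod]
  · rw [Finset.sum_congr rfl (fun i hi => hval i (Finset.mem_range.1 hi))]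
    have hrefl := Finset.sum_range_reflect (fun j => padicValNat r (q ^ (j + 1) - 1)) n
    have e1 : ∑ i ∈ range n, padicValNat r (q ^ (n - i) - 1) =
        ∑ j ∈ range n, padicValNat r (q ^ (n - 1 - j + 1) - 1) := by
      apply Finset.sum_congr rfl
      intro i hi
      have := Finset.mem_range.1 hi
      congr 3
      omega
    rw [e1, hrefl]
    have e2 : ∀ j ∈ range n, padicValNat r (q ^ (j + 1) - 1) = if d ∣ j + 1 then e0 else 0 := by
      intro j hj
      have := Finset.mem_range.1 hj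
      exact val_pow_sub_one q r hrq (j + 1) (by omega) (by omega)
    rw [Finset.sum_congr rfl e2, ← Finset.sum_filter, Finset.sum_const, Nat.card_multiples,
      smul_eq_mul]
  · intro i hi
    have := Finset.mem_range.1 hi
    rw [hfac i this]
    exact mul_ne_zero (by positivity) (hne1 _ (by omega))

/-- `r` does not divide `Φ_c(q)` for proper divisors `c` of the order `d` of `q` mod `r` -/
theorem not_dvd_cyclotomic (hrq : ¬ r ∣ q) (c : ℕ) (hc : c ∈ (orderOf (q : ZMod r)).properDivisors) :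
    ¬ (r : ℤ) ∣ (cyclotomic c ℤ).eval (q : ℤ) := by
  intro hdvd
  have hd := order_pos q r hrq
  have hdr := order_lt q r hrq
  rw [Nat.mem_properDivisors] at hc
  have hc0 : 0 < c := Nat.pos_of_dvd_of_pos hc.1 hd
  have hcr : ¬ r ∣ c := by
    intro h
    have := Nat.le_of_dvd hc0 h
    omega
  have : NeZero (c : ZMod r) := ⟨by
    intro h0
    exact hcr ((ZMod.natCast_eq_zero_iff c r).1 h0)⟩
  have hroot : IsRoot (cyclotomic c (ZMod r)) (q : ZMod r) := by
    rw [IsRoot.def, ← map_cyclotomic_int c (ZMod r)]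
    have h1 : ((q : ℤ) : ZMod r) = (q : ZMod r) := by push_cast; rfl
    rw [← h1, show (((q : ℤ) : ZMod r)) = (Int.castRingHom (ZMod r)) (q : ℤ) from rfl,
      eval_map, eval₂_hom, eq_intCast]
    exact (ZMod.intCast_zmod_eq_zero_iff_dvd _ r).2 hdvd
  rw [isRoot_cyclotomic_iff] at hroot
  have := hroot.eq_orderOf
  omega

theorem val_cyclotomic (hq2 : 2 ≤ q) (hrq : ¬ r ∣ q) :
    padicValNat r ((cyclotomic (orderOf (q : ZMod r)) ℤ).eval (q : ℤ)).natAbs =
      padicValNat r (q ^ orderOf (q : ZMod r) - 1) := by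
  set d := orderOf (q : ZMod r) with hd
  have hd0 : 0 < d := order_pos q r hrq
  have h1 : ((q : ℤ) ^ d - 1) = ∏ c ∈ d.divisors, (cyclotomic c ℤ).eval (q : ℤ) := by
    have := congrArg (eval (q : ℤ)) (prod_cyclotomic_eq_X_pow_sub_one hd0 ℤ)
    rw [eval_prod] at this
    rw [this]
    simp
  have hx1 : 1 ≤ q ^ d := Nat.one_le_pow _ _ (by omega)
  have h2 : q ^ d - 1 = ∏ c ∈ d.divisors, ((cyclotomic c ℤ).eval (q : ℤ)).natAbs := by
    have h3 : ((q ^ d - 1 : ℕ) : ℤ) = (q : ℤ) ^ d - 1 := by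
      rw [Nat.cast_sub hx1]; push_cast; rfl
    have h4 := congrArg Int.natAbs h3
    rw [Int.natAbs_natCast, h1, ← Int.natAbsHom_apply, map_prod] at h4
    exact h4
  have hne : q ^ d - 1 ≠ 0 := by
    have : 1 < q ^ d := Nat.one_lt_pow hd0.ne' (by omega)
    omega
  have hne' : ∀ c ∈ d.divisors, ((cyclotomic c ℤ).eval (q : ℤ)).natAbs ≠ 0 := by
    rw [h2] at hne
    exact Finset.prod_ne_zero_iff.1 hne
  rw [h2, padicValNat_prod r _ _ hne', ← Nat.cons_self_properDivisors hd0.ne', Finset.sum_cons]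
  have hz : ∑ c ∈ d.properDivisors, padicValNat r ((cyclotomic c ℤ).eval (q : ℤ)).natAbs = 0 := by
    apply Finset.sum_eq_zero
    intro c hc
    apply padicValNat.eq_zero_of_not_dvd
    intro hdvd
    apply not_dvd_cyclotomic q r hrq c hc
    rw [← Int.natAbs_dvd_natAbs, Int.natAbs_natCast]
    exact hdvd
  rw [hz, add_zero]

end Cfsg.Agent.Lib.H12.SylLarge
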