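import Mathlib
import Cfsg.Agent.Lib.H12.SylLargeNT
import Cfsg.Agent.Lib.H2.Singer

set_option autoImplicit false

/-!
# Sylow `r`-subgroups of `GL_n(q)` for `r > n`: homocyclic
-/

open Matrix

namespace Cfsg.Agent.Lib.H12.SylLarge

variable {F : Type*} [Field F]

theorem blockDiagonal_const_one (d a : ℕ) :
    Matrix.blockDiagonal (fun _ : Fin a => (1 : Matrix (Fin d) (Fin d) F)) = 1 :=
  Matrix.blockDiagonal_one

theorem fromBlocks_blockDiagonal_one (d a k : ℕ) :
    Matrix.fromBlocks (Matrix.blockDiagonal (fun _ : Fin a => (1 : Matrix (Fin d) (Fin d) F)))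
      (0 : Matrix (Fin d × Fin a) (Fin k) F) (0 : Matrix (Fin k) (Fin d × Fin a) F)
      (1 : Matrix (Fin k) (Fin k) F) = 1 := by
  rw [blockDiagonal_const_one, Matrix.fromBlocks_one]

/-- block-diagonal embedding, padded by an identity block -/
def blockHom (d a k : ℕ) :
    (Fin a → GL (Fin d) F) →* GL ((Fin d × Fin a) ⊕ Fin k) F where
  toFun u := ⟨Matrix.fromBlocks (Matrix.blockDiagonal fun j => ((u j : GL (Fin d) F) : Matrix _ _ F)) 0 0 1,
    Matrix.fromBlocks (Matrix.blockDiagonal fun j => (((u j)⁻¹ : GL (Fin d) F) : Matrix _ _ F)) 0 0 1,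
    by
      rw [Matrix.fromBlocks_multiply, ← Matrix.blockDiagonal_mul]
      simp only [Matrix.mul_zero, Matrix.zero_mul, add_zero, zero_add, Matrix.mul_one,
        Units.mul_inv]
      exact fromBlocks_blockDiagonal_one d a k,
    by
      rw [Matrix.fromBlocks_multiply, ← Matrix.blockDiagonal_mul]
      simp only [Matrix.mul_zero, Matrix.zero_mul, add_zero, zero_add, Matrix.mul_one,
        Units.inv_mul]
      exact fromBlocks_blockDiagonal_one d a k⟩
  map_one' := by
    apply Units.ext
    simp only [Pi.one_apply, Units.val_one]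
    exact fromBlocks_blockDiagonal_one d a k
  map_mul' u v := by
    apply Units.ext
    simp only [Units.val_mul, Pi.mul_apply]
    rw [Matrix.fromBlocks_multiply, ← Matrix.blockDiagonal_mul]
    simp only [Matrix.mul_zero, Matrix.zero_mul, add_zero, zero_add, Matrix.mul_one]

theorem blockHom_val (d a k : ℕ) (u : Fin a → GL (Fin d) F) :
    (blockHom d a k u).val =
      Matrix.fromBlocks (Matrix.blockDiagonal fun j => (u j).val) 0 0 1 :=
  rfl

theorem blockHom_injective (d a k : ℕ) :
    Function.Injective (blockHom (F := F) d a k) := by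
  intro u v h
  have h1 : (blockHom d a k u).val = (blockHom d a k v).val := by rw [h]
  rw [blockHom_val, blockHom_val, Matrix.fromBlocks_inj] at h1
  have h2 := Matrix.blockDiagonal_injective h1.1
  funext j
  apply Units.ext
  exact congrFun h2 j

/-- an injective homomorphism `GL_d(F)^a → GL_n(F)` for `a d ≤ n` -/
theorem exists_embed (d a n : ℕ) (h : a * d ≤ n) :
    ∃ Φ : (Fin a → GL (Fin d) F) →* GL (Fin n) F, Function.Injective Φ := by
  obtain ⟨k, rfl⟩ : ∃ k, n = a * d + k := ⟨n - a * d, by omega⟩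
  have hcard : Fintype.card ((Fin d × Fin a) ⊕ Fin k) = a * d + k := by
    simp [mul_comm]
  let e : (Fin d × Fin a) ⊕ Fin k ≃ Fin (a * d + k) := Fintype.equivFinOfCardEq hcard
  let ψ : GL ((Fin d × Fin a) ⊕ Fin k) F ≃* GL (Fin (a * d + k)) F :=
    Units.mapEquiv (Matrix.reindexAlgEquiv F F e).toMulEquiv
  exact ⟨ψ.toMonoidHom.comp (blockHom d a k), ψ.injective.comp (blockHom_injective d a k)⟩


section cyclic

variable {G : Type*} [Group G]

/-- a cyclic subgroup whose order is divisible by `m` contains `ℤ/m` -/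
theorem exists_zmod_hom (C : Subgroup G) [Finite C] (hC : IsCyclic C) (m : ℕ)
    (hm : m ∣ Nat.card C) :
    ∃ θ : Multiplicative (ZMod m) →* G, Function.Injective θ := by
  obtain ⟨c, hc⟩ := hC.exists_ofOrder_eq_natCard
  set N := Nat.card C with hN
  have hN0 : N ≠ 0 := Nat.card_pos.ne'
  obtain ⟨k, hk⟩ := hm
  have hk0 : k ≠ 0 := by
    rintro rfl
    rw [mul_zero] at hk
    exact hN0 hk
  set g : G := (c : G) ^ k with hg
  have hordc : orderOf (c : G) = N := by rw [Subgroup.orderOf_coe, hc]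
  have hord : orderOf g = m := by
    rw [hg, orderOf_pow_of_dvd hk0 (by rw [hordc, hk]; exact dvd_mul_left k m), hordc, hk,
      Nat.mul_div_cancel _ (Nat.pos_of_ne_zero hk0)]
  have hcard : Nat.card (Subgroup.zpowers g) = m := by rw [Nat.card_zpowers, hord]
  have hcyc : IsCyclic (Subgroup.zpowers g) := inferInstance
  let e1 : Multiplicative (ZMod m) ≃* Multiplicative (ZMod (Nat.card (Subgroup.zpowers g))) :=
    AddEquiv.toMultiplicative (ZMod.ringEquivCongr hcard.symm).toAddEquiv
  let e2 : Multiplicative (ZMod (Nat.card (Subgroup.zpowers g))) ≃* Subgroup.zpowers g :=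
    zmodCyclicMulEquiv hcyc
  refine ⟨(Subgroup.zpowers g).subtype.comp ((e1.trans e2).toMonoidHom), ?_⟩
  exact (Subgroup.subtype_injective _).comp (e1.trans e2).injective

end cyclic

section main

variable {F : Type*} [Field F] [Fintype F]

/-- Sylow `r`-subgroups of `GL_n(q)`, `r > n`, `r ∤ q`, are homocyclic -/
theorem sylow_GL {q : ℕ} (hq : Fintype.card F = q) (n : ℕ) (r : ℕ) [Fact r.Prime]
    (hrn : n < r) (hrq : ¬ r ∣ q) (P : Sylow r (GL (Fin n) F)) :
    Nonempty (↥(P : Subgroup (GL (Fin n) F)) ≃*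
      (Fin (n / orderOf (q : ZMod r)) →
        Multiplicative (ZMod (r ^ padicValNat r
          ((Polynomial.cyclotomic (orderOf (q : ZMod r)) ℤ).eval (q : ℤ)).natAbs)))) := by
  classical
  have hq2 : 2 ≤ q := by rw [← hq]; exact Fintype.one_lt_card
  have hrp : r.Prime := Fact.out
  rw [val_cyclotomic q r hq2 hrq]
  set d := orderOf (q : ZMod r) with hd
  have hd0 : 0 < d := order_pos q r hrq
  have : NeZero d := ⟨hd0.ne'⟩
  set e0 := padicValNat r (q ^ d - 1) with he0
  set a := n / d with ha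
  set m := r ^ e0 with hm
  obtain ⟨C, hCcyc, hCcard⟩ := Cfsg.Agent.Lib.H2.Singer.exists_singer F d
  rw [hq] at hCcard
  have hmdvd : m ∣ Nat.card C := by rw [hCcard]; exact pow_padicValNat_dvd
  obtain ⟨θ, hθ⟩ := exists_zmod_hom C hCcyc m hmdvd
  obtain ⟨Φ, hΦ⟩ := exists_embed (F := F) d a n (Nat.div_mul_le_self n d)
  set Ψ : (Fin a → Multiplicative (ZMod m)) →* GL (Fin n) F := Φ.comp (θ.compLeft (Fin a)) with hΨ
  have hΨinj : Function.Injective Ψ := hΦ.comp (hθ.comp_left)
  have hcardQ : Nat.card Ψ.range = r ^ (Nat.card (GL (Fin n) F)).factorization r := by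
    rw [← Nat.card_congr (MonoidHom.ofInjective hΨinj).toEquiv, Nat.card_pi, Finset.prod_const,
      Finset.card_univ, Fintype.card_fin, Nat.card_congr (Multiplicative.toAdd), Nat.card_zmod,
      Nat.factorization_def _ hrp, Matrix.card_GL_field, hq, val_card_GL q r hq2 hrq n hrn, hm,
      ← pow_mul, mul_comm]
  let S : Sylow r (GL (Fin n) F) := Sylow.ofCard Ψ.range hcardQ
  exact ⟨(Sylow.equiv P S).trans (MonoidHom.ofInjective hΨinj).symm⟩

end main

end Cfsg.Agent.Lib.H12.SylLarge
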