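import Mathlib
import Cfsg.Agent.Lib.H12.SylLargeNT

set_option autoImplicit false

/-!
# Number theory for Sylow `r`-subgroups of classical groups, `r` large: generalized versions
-/

open Polynomial Finset

namespace Cfsg.Agent.Lib.H12.SylLarge

variable (q r : ℕ) [Fact r.Prime]

/-- valuation of `q^(dk) - 1` for `k` prime to `r` -/
theorem val_pow_mul' (hrq : ¬ r ∣ q) (k : ℕ) (hkr : ¬ r ∣ k) :
    padicValNat r (q ^ (orderOf (q : ZMod r) * k) - 1) =
      padicValNat r (q ^ orderOf (q : ZMod r) - 1) := by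
  set d := orderOf (q : ZMod r) with hd
  have hq0 : 0 < q := Nat.pos_of_ne_zero (by rintro rfl; exact hrq (dvd_zero r))
  have hx1 : 1 ≤ q ^ d := Nat.one_le_pow _ _ hq0
  have hgeom : q ^ (d * k) - 1 = (∑ i ∈ range k, (q ^ d) ^ i) * (q ^ d - 1) := by
    rw [pow_mul]
    zify [hx1, Nat.one_le_pow k _ (Nat.pos_of_ne_zero (by positivity : q ^ d ≠ 0))]
    exact (geom_sum_mul ((q : ℤ) ^ d) k).symm
  have hS : ¬ r ∣ ∑ i ∈ range k, (q ^ d) ^ i := by
    rw [← ZMod.natCast_eq_zero_iff]
    push_cast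
    have h1 : ((q : ZMod r)) ^ d = 1 := by rw [hd]; exact pow_orderOf_eq_one _
    simp only [h1, one_pow, sum_const, card_range, nsmul_eq_mul, mul_one]
    rw [ZMod.natCast_eq_zero_iff]
    exact hkr
  have hS0 : ∑ i ∈ range k, (q ^ d) ^ i ≠ 0 := by
    intro h0
    apply hS
    rw [h0]
    exact dvd_zero r
  by_cases hz : q ^ d - 1 = 0
  · rw [hgeom, hz, mul_zero]
  · rw [hgeom, padicValNat.mul hS0 hz, padicValNat.eq_zero_of_not_dvd hS, zero_add]

/-- valuation of `q^j - 1` when `j` is prime to `r` or not a multiple of the order -/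
theorem val_pow_sub_one' (hrq : ¬ r ∣ q) (j : ℕ) (hj0 : 0 < j)
    (hjr : orderOf (q : ZMod r) ∣ j → ¬ r ∣ j) :
    padicValNat r (q ^ j - 1) =
      if orderOf (q : ZMod r) ∣ j then padicValNat r (q ^ orderOf (q : ZMod r) - 1) else 0 := by
  split_ifs with h
  · have hjr' := hjr h
    obtain ⟨k, rfl⟩ := h
    have hkr : ¬ r ∣ k := fun hk => hjr' (Dvd.dvd.mul_left hk _)
    exact val_pow_mul' q r hrq k hkr
  · apply padicValNat.eq_zero_of_not_dvd
    rw [dvd_pow_sub_one_iff q r hrq]
    exact h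

/-- valuation of the order of `GL_n(q)` for `n < d r` -/
theorem val_card_GL' (hq2 : 2 ≤ q) (hrq : ¬ r ∣ q) (n : ℕ)
    (hnr : n < orderOf (q : ZMod r) * r) :
    padicValNat r (∏ i : Fin n, (q ^ n - q ^ (i : ℕ))) =
      (n / orderOf (q : ZMod r)) * padicValNat r (q ^ orderOf (q : ZMod r) - 1) := by
  have hq0 : 0 < q := by omega
  have hrp : r.Prime := Fact.out
  set d := orderOf (q : ZMod r) with hd
  have hd0 : 0 < d := order_pos q r hrq
  have hdr : d < r := order_lt q r hrq
  set e0 := padicValNat r (q ^ d - 1) with he0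
  have hfac : ∀ i : ℕ, i < n → q ^ n - q ^ i = q ^ i * (q ^ (n - i) - 1) := by
    intro i hi
    rw [Nat.mul_sub, mul_one, ← pow_add, Nat.add_sub_cancel' hi.le]
  have hne1 : ∀ j : ℕ, 0 < j → q ^ j - 1 ≠ 0 := by
    intro j hj
    have : 1 < q ^ j := Nat.one_lt_pow hj.ne' (by omega)
    omega
  have hval : ∀ i : ℕ, i < n → padicValNat r (q ^ n - q ^ i) = padicValNat r (q ^ (n - i) - 1) := by
    intro i hi
    rw [hfac i hi, padicValNat.mul (by positivity) (hne1 _ (by omega)), padicValNat.pow,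
      padicValNat.eq_zero_of_not_dvd hrq, mul_zero, zero_add]
  rw [Fin.prod_univ_eq_prod_range (fun i => q ^ n - q ^ i) n, padicValNat_prod]
  · rw [Finset.sum_congr rfl (fun i hi => hval i (Finset.mem_range.1 hi))]
    have hrefl := Finset.sum_range_reflect (fun j => padicValNat r (q ^ (j + 1) - 1)) n
    have e1 : ∑ i ∈ range n, padicValNat r (q ^ (n - i) - 1) =
        ∑ j ∈ range n, padicValNat r (q ^ (n - 1 - j + 1) - 1) := by
      apply Finset.sum_congr rfl
      intro i hi
      have := Finset.mem_range.1 hi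
      congr 3
      omega
    rw [e1, hrefl]
    have e2 : ∀ j ∈ range n, padicValNat r (q ^ (j + 1) - 1) = if d ∣ j + 1 then e0 else 0 := by
      intro j hj
      have hjn := Finset.mem_range.1 hj
      apply val_pow_sub_one' q r hrq (j + 1) (by omega)
      rintro ⟨k, hk⟩ hrj
      have hk' : j + 1 = d * k := hk
      rw [hk'] at hrj
      rcases (Nat.Prime.dvd_mul hrp).1 hrj with h | h
      · have := Nat.le_of_dvd hd0 h
        omega
      · have hk0 : 0 < k := Nat.pos_of_ne_zero (by rintro rfl; simp at hk')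
        have hkr := Nat.le_of_dvd hk0 h
        have : d * r ≤ d * k := Nat.mul_le_mul_left d hkr
        omega
    rw [Finset.sum_congr rfl e2, ← Finset.sum_filter, Finset.sum_const, Nat.card_multiples,
      smul_eq_mul]
  · intro i hi
    have := Finset.mem_range.1 hi
    rw [hfac i this]
    exact mul_ne_zero (by positivity) (hne1 _ (by omega))

/-- valuation of the order of `Sp_{2n}(q)` for `n < r`, `r` odd -/
theorem val_card_Sp (hq2 : 2 ≤ q) (hr2 : r ≠ 2) (hrq : ¬ r ∣ q) (n : ℕ) (hnr : n < r) :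
    padicValNat r (q ^ (n ^ 2) * ∏ i ∈ Finset.range n, (q ^ (2 * (i + 1)) - 1)) =
      ((Finset.Icc 1 n).filter (fun i => orderOf (q : ZMod r) ∣ 2 * i)).card *
        padicValNat r (q ^ orderOf (q : ZMod r) - 1) := by
  have hq0 : 0 < q := by omega
  have hrp : r.Prime := Fact.out
  set d := orderOf (q : ZMod r) with hd
  set e0 := padicValNat r (q ^ d - 1) with he0
  have hne1 : ∀ j : ℕ, 0 < j → q ^ j - 1 ≠ 0 := by
    intro j hj
    have : 1 < q ^ j := Nat.one_lt_pow hj.ne' (by omega)
    omega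
  have hprod0 : ∏ i ∈ Finset.range n, (q ^ (2 * (i + 1)) - 1) ≠ 0 := by
    rw [Finset.prod_ne_zero_iff]
    intro i _
    exact hne1 _ (by omega)
  rw [padicValNat.mul (by positivity) hprod0, padicValNat.pow,
    padicValNat.eq_zero_of_not_dvd hrq, mul_zero, zero_add,
    padicValNat_prod r _ _ (fun i _ => hne1 _ (by omega))]
  have e2 : ∀ i ∈ range n, padicValNat r (q ^ (2 * (i + 1)) - 1) =
      if d ∣ 2 * (i + 1) then e0 else 0 := by
    intro i hi
    have hin := Finset.mem_range.1 hi
    apply val_pow_sub_one' q r hrq (2 * (i + 1)) (by omega)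
    intro _ hrj
    rcases (Nat.Prime.dvd_mul hrp).1 hrj with h | h
    · exact hr2 ((Nat.prime_dvd_prime_iff_eq hrp Nat.prime_two).1 h)
    · have := Nat.le_of_dvd (by omega) h
      omega
  rw [Finset.sum_congr rfl e2, ← Finset.sum_filter, Finset.sum_const, smul_eq_mul]
  congr 1
  apply Finset.card_nbij' (fun i => i + 1) (fun i => i - 1)
  · intro i hi
    simp only [Finset.coe_filter, Finset.mem_range, Set.mem_ofPred_eq] at hi
    simp only [Finset.coe_filter, Finset.mem_Icc, Set.mem_ofPred_eq]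
    exact ⟨⟨by omega, by omega⟩, hi.2⟩
  · intro i hi
    simp only [Finset.coe_filter, Finset.mem_Icc, Set.mem_ofPred_eq] at hi
    simp only [Finset.coe_filter, Finset.mem_range, Set.mem_ofPred_eq]
    refine ⟨by omega, ?_⟩
    rw [Nat.sub_add_cancel hi.1.1]
    exact hi.2
  · intro i _
    simp
  · intro i hi
    simp only [Finset.coe_filter, Finset.mem_Icc, Set.mem_ofPred_eq] at hi
    exact Nat.sub_add_cancel hi.1.1

end Cfsg.Agent.Lib.H12.SylLarge
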