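import Mathlib
import Cfsg.Agent.Lib.H12.SylLargeGL
import Cfsg.Agent.Lib.H12.CardSL

set_option autoImplicit false
set_option linter.unusedSectionVars false

/-!
# Sylow `r`-subgroups of `SL_n(q)` for `r > n`: homocyclic
-/

open Matrix

namespace Cfsg.Agent.Lib.H12.SylLarge

variable {F : Type*} [Field F] [Fintype F]

/-- the diagonal torus of `SL_(k+1)` -/
def diagSL (k : ℕ) : (Fin k → Fˣ) →* Matrix.SpecialLinearGroup (Fin (k + 1)) F where
  toFun u := ⟨Matrix.diagonal (Fin.snoc (fun i => ((u i : Fˣ) : F)) (((∏ i, u i)⁻¹ : Fˣ) : F)), by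
    rw [Matrix.det_diagonal, Fin.prod_univ_castSucc]
    simp only [Fin.snoc_castSucc, Fin.snoc_last]
    rw [← Units.coe_prod, ← Units.val_mul, mul_inv_cancel, Units.val_one]⟩
  map_one' := by
    apply Subtype.ext
    show Matrix.diagonal _ = 1
    rw [← Matrix.diagonal_one]
    congr 1
    funext i
    refine Fin.lastCases ?_ (fun j => ?_) i
    · simp
    · simp
  map_mul' u v := by
    apply Subtype.ext
    show Matrix.diagonal _ = Matrix.diagonal _ * Matrix.diagonal _
    rw [Matrix.diagonal_mul_diagonal]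
    congr 1
    funext i
    refine Fin.lastCases ?_ (fun j => ?_) i
    · simp [Finset.prod_mul_distrib, mul_comm]
    · simp

theorem diagSL_val (k : ℕ) (u : Fin k → Fˣ) :
    ((diagSL k u : Matrix.SpecialLinearGroup (Fin (k + 1)) F) :
      Matrix (Fin (k + 1)) (Fin (k + 1)) F) =
      Matrix.diagonal (Fin.snoc (fun i => ((u i : Fˣ) : F)) (((∏ i, u i)⁻¹ : Fˣ) : F)) := rfl

theorem diagSL_injective (k : ℕ) : Function.Injective (diagSL (F := F) k) := by
  intro u v h
  funext j
  apply Units.ext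
  have h1 : ((diagSL k u : Matrix.SpecialLinearGroup (Fin (k + 1)) F) :
      Matrix (Fin (k + 1)) (Fin (k + 1)) F) j.castSucc j.castSucc =
      ((diagSL k v : Matrix.SpecialLinearGroup (Fin (k + 1)) F) :
      Matrix (Fin (k + 1)) (Fin (k + 1)) F) j.castSucc j.castSucc := by rw [h]
  rw [diagSL_val, diagSL_val, Matrix.diagonal_apply_eq, Matrix.diagonal_apply_eq,
    Fin.snoc_castSucc, Fin.snoc_castSucc] at h1
  exact h1

theorem card_filter_Icc_two (d n : ℕ) (hd : 2 ≤ d) :
    ((Finset.Icc 2 n).filter (fun i => d ∣ i)).card = n / d := by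
  rw [← Nat.Ioc_filter_dvd_card_eq_div]
  congr 1
  ext i
  simp only [Finset.mem_filter, Finset.mem_Icc, Finset.mem_Ioc]
  constructor
  · rintro ⟨⟨h1, h2⟩, h3⟩
    exact ⟨⟨by omega, h2⟩, h3⟩
  · rintro ⟨⟨h1, h2⟩, h3⟩
    refine ⟨⟨?_, h2⟩, h3⟩
    have := Nat.le_of_dvd h1 h3
    omega

theorem card_filter_Icc_one (n : ℕ) :
    ((Finset.Icc 2 n).filter (fun i => 1 ∣ i)).card = n - 1 := by
  rw [Finset.filter_true_of_mem (fun i _ => one_dvd i), Nat.card_Icc]
  omega

/-- Sylow `r`-subgroups of `SL_n(q)`, `r > n`, `r ∤ q`, are homocyclic -/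
theorem sylow_SL {q : ℕ} (hq : Fintype.card F = q) (n : ℕ) (r : ℕ) [Fact r.Prime]
    (hrn : n < r) (hrq : ¬ r ∣ q) (P : Sylow r (Matrix.SpecialLinearGroup (Fin n) F)) :
    Nonempty (↥(P : Subgroup (Matrix.SpecialLinearGroup (Fin n) F)) ≃*
      (Fin ((Finset.Icc 2 n).filter (fun i => orderOf (q : ZMod r) ∣ i)).card →
        Multiplicative (ZMod (r ^ padicValNat r
          ((Polynomial.cyclotomic (orderOf (q : ZMod r)) ℤ).eval (q : ℤ)).natAbs)))) := by
  classical
  have hq2 : 2 ≤ q := by rw [← hq]; exact Fintype.one_lt_card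
  have hrp : r.Prime := Fact.out
  have hd0 : 0 < orderOf (q : ZMod r) := order_pos q r hrq
  rcases Nat.eq_zero_or_pos n with hn0 | hn0
  · -- trivial group
    subst hn0
    have h1 : (Finset.Icc 2 0).filter (fun i => orderOf (q : ZMod r) ∣ i) = ∅ := by
      ext i; simp
    rw [h1, Finset.card_empty]
    have hsub : Subsingleton (Matrix.SpecialLinearGroup (Fin 0) F) :=
      ⟨fun A B => Subtype.ext (Subsingleton.elim _ _)⟩
    have : Unique ↥(P : Subgroup (Matrix.SpecialLinearGroup (Fin 0) F)) :=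
      ⟨⟨1⟩, fun x => Subsingleton.elim _ _⟩
    exact ⟨MulEquiv.ofUnique⟩
  have : Nonempty (Fin n) := ⟨⟨0, hn0⟩⟩
  have hGS := card_GL_eq_card_SL_mul (n := Fin n) (F := F)
  rw [hq] at hGS
  have hSL0 : Nat.card (Matrix.SpecialLinearGroup (Fin n) F) ≠ 0 := Nat.card_pos.ne'
  have hq10 : q - 1 ≠ 0 := by omega
  by_cases hd1 : orderOf (q : ZMod r) = 1
  · -- `r ∣ q - 1`: the diagonal torus
    rw [val_cyclotomic q r hq2 hrq, hd1, card_filter_Icc_one]
    set e0 := padicValNat r (q ^ 1 - 1) with he0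
    set m := r ^ e0 with hm
    obtain ⟨k, rfl⟩ : ∃ k, n = k + 1 := ⟨n - 1, by omega⟩
    rw [Nat.add_sub_cancel]
    have hcyc : IsCyclic (⊤ : Subgroup Fˣ) := by
      have : IsCyclic Fˣ := inferInstance
      exact isCyclic_of_surjective (Subgroup.topEquiv (G := Fˣ)).symm.toMonoidHom
        (Subgroup.topEquiv (G := Fˣ)).symm.surjective
    have hcardtop : Nat.card (⊤ : Subgroup Fˣ) = q - 1 := by
      rw [Subgroup.card_top, Nat.card_units, Nat.card_eq_fintype_card, hq]
    have hmdvd : m ∣ Nat.card (⊤ : Subgroup Fˣ) := by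
      rw [hcardtop, hm, he0, pow_one]; exact pow_padicValNat_dvd
    obtain ⟨θ, hθ⟩ := exists_zmod_hom (⊤ : Subgroup Fˣ) hcyc m hmdvd
    set Ψ : (Fin k → Multiplicative (ZMod m)) →* Matrix.SpecialLinearGroup (Fin (k + 1)) F :=
      (diagSL k).comp (θ.compLeft (Fin k)) with hΨ
    have hΨinj : Function.Injective Ψ := (diagSL_injective k).comp (hθ.comp_left)
    have hvalGL := val_card_GL q r hq2 hrq (k + 1) hrn
    rw [hd1, Nat.div_one, ← hq, ← Matrix.card_GL_field, hq, hGS,
      padicValNat.mul hSL0 hq10] at hvalGL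
    have hvalSL : padicValNat r (Nat.card (Matrix.SpecialLinearGroup (Fin (k + 1)) F)) = k * e0 := by
      have : padicValNat r (q - 1) = e0 := by rw [he0, pow_one]
      rw [this] at hvalGL
      have h2 : (k + 1) * e0 = k * e0 + e0 := by ring
      rw [h2] at hvalGL
      omega
    have hcardQ : Nat.card Ψ.range =
        r ^ (Nat.card (Matrix.SpecialLinearGroup (Fin (k + 1)) F)).factorization r := by
      rw [← Nat.card_congr (MonoidHom.ofInjective hΨinj).toEquiv, Nat.card_pi, Finset.prod_const,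
        Finset.card_univ, Fintype.card_fin, Nat.card_congr (Multiplicative.toAdd), Nat.card_zmod,
        Nat.factorization_def _ hrp, hvalSL, hm, ← pow_mul, mul_comm]
    let S : Sylow r (Matrix.SpecialLinearGroup (Fin (k + 1)) F) := Sylow.ofCard Ψ.range hcardQ
    exact ⟨(Sylow.equiv P S).trans (MonoidHom.ofInjective hΨinj).symm⟩
  · -- `r ∤ q - 1`: Sylow subgroups of `GL_n` lie in `SL_n`
    have hd2 : 2 ≤ orderOf (q : ZMod r) := by omega
    rw [card_filter_Icc_two _ n hd2]
    have hrq1 : ¬ r ∣ q - 1 := by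
      intro h
      have := (dvd_pow_sub_one_iff q r hrq 1).1 (by rwa [pow_one])
      exact hd1 (Nat.dvd_one.1 this)
    have hfac : (Nat.card (GL (Fin n) F)).factorization r =
        (Nat.card (Matrix.SpecialLinearGroup (Fin n) F)).factorization r := by
      rw [hGS, Nat.factorization_mul hSL0 hq10]
      simp [Nat.factorization_eq_zero_of_not_dvd hrq1]
    have hcardP : Nat.card ((P : Subgroup (Matrix.SpecialLinearGroup (Fin n) F)).map
        (Matrix.SpecialLinearGroup.toGL : Matrix.SpecialLinearGroup (Fin n) F →* GL (Fin n) F)) =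
        r ^ (Nat.card (GL (Fin n) F)).factorization r := by
      rw [Subgroup.card_map_of_injective Matrix.SpecialLinearGroup.toGL_injective, hfac]
      exact P.card_eq_multiplicity
    let S : Sylow r (GL (Fin n) F) := Sylow.ofCard _ hcardP
    obtain ⟨e⟩ := sylow_GL hq n r hrn hrq S
    exact ⟨((P : Subgroup (Matrix.SpecialLinearGroup (Fin n) F)).equivMapOfInjective _
      Matrix.SpecialLinearGroup.toGL_injective).trans e⟩

end Cfsg.Agent.Lib.H12.SylLarge
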