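import Mathlib
import Cfsg.Agent.Lib.H12.SylLargeGL
import Cfsg.Agent.Lib.H12.SylLargeNT2
import Cfsg.Agent.Lib.H2.SpOrder

set_option autoImplicit false
set_option linter.unusedSectionVars false

/-!
# Sylow `r`-subgroups of `Sp_{2n}(q)` for odd `r > n`: homocyclic
-/

open Matrix

namespace Cfsg.Agent.Lib.H12.SylLarge

variable {F : Type*} [Field F] [Fintype F]

/-- Sylow `r`-subgroups of `GL_N(q)`, `N < d r`, `r ∤ q`, are homocyclic -/
theorem sylow_GL' {q : ℕ} (hq : Fintype.card F = q) (n : ℕ) (r : ℕ) [Fact r.Prime]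
    (hrn : n < orderOf (q : ZMod r) * r) (hrq : ¬ r ∣ q) (P : Sylow r (GL (Fin n) F)) :
    Nonempty (↥(P : Subgroup (GL (Fin n) F)) ≃*
      (Fin (n / orderOf (q : ZMod r)) →
        Multiplicative (ZMod (r ^ padicValNat r (q ^ orderOf (q : ZMod r) - 1))))) := by
  classical
  have hq2 : 2 ≤ q := by rw [← hq]; exact Fintype.one_lt_card
  have hrp : r.Prime := Fact.out
  set d := orderOf (q : ZMod r) with hd
  have hd0 : 0 < d := order_pos q r hrq
  have : NeZero d := ⟨hd0.ne'⟩
  set e0 := padicValNat r (q ^ d - 1) with he0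
  set a := n / d with ha
  set m := r ^ e0 with hm
  obtain ⟨C, hCcyc, hCcard⟩ := Cfsg.Agent.Lib.H2.Singer.exists_singer F d
  rw [hq] at hCcard
  have hmdvd : m ∣ Nat.card C := by rw [hCcard]; exact pow_padicValNat_dvd
  obtain ⟨θ, hθ⟩ := exists_zmod_hom C hCcyc m hmdvd
  obtain ⟨Φ, hΦ⟩ := exists_embed (F := F) d a n (Nat.div_mul_le_self n d)
  set Ψ : (Fin a → Multiplicative (ZMod m)) →* GL (Fin n) F := Φ.comp (θ.compLeft (Fin a)) with hΨ
  have hΨinj : Function.Injective Ψ := hΦ.comp (hθ.comp_left)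
  have hcardQ : Nat.card Ψ.range = r ^ (Nat.card (GL (Fin n) F)).factorization r := by
    rw [← Nat.card_congr (MonoidHom.ofInjective hΨinj).toEquiv, Nat.card_pi, Finset.prod_const,
      Finset.card_univ, Fintype.card_fin, Nat.card_congr (Multiplicative.toAdd), Nat.card_zmod,
      Nat.factorization_def _ hrp, Matrix.card_GL_field, hq, val_card_GL' q r hq2 hrq n hrn, hm,
      ← pow_mul, mul_comm]
  let S : Sylow r (GL (Fin n) F) := Sylow.ofCard Ψ.range hcardQ
  exact ⟨(Sylow.equiv P S).trans (MonoidHom.ofInjective hΨinj).symm⟩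

/-- the Levi embedding `GL_n → Sp_{2n}`, `A ↦ diag(A, A⁻ᵀ)` -/
def leviSp (n : ℕ) : GL (Fin n) F →* Matrix.symplecticGroup (Fin n) F where
  toFun A := ⟨Matrix.fromBlocks (A : Matrix (Fin n) (Fin n) F) 0 0
      ((A⁻¹ : GL (Fin n) F) : Matrix (Fin n) (Fin n) F)ᵀ, by
    rw [SymplecticGroup.fromBlocks_mem_iff]
    refine ⟨by simp, by simp, ?_⟩
    rw [Matrix.transpose_zero, Matrix.zero_mul, sub_zero, ← Matrix.transpose_mul,
      ← Units.val_mul, inv_mul_cancel, Units.val_one, Matrix.transpose_one]⟩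
  map_one' := by
    apply Subtype.ext
    simp [Matrix.fromBlocks_one]
  map_mul' A B := by
    apply Subtype.ext
    simp only [Submonoid.coe_mul, Units.val_mul, _root_.mul_inv_rev, Matrix.transpose_mul]
    rw [Matrix.fromBlocks_multiply]
    simp

theorem leviSp_injective (n : ℕ) : Function.Injective (leviSp (F := F) n) := by
  intro A B h
  have h1 := congrArg Subtype.val h
  simp only [leviSp, MonoidHom.coe_mk, OneHom.coe_mk] at h1
  rw [Matrix.fromBlocks_inj] at h1
  exact Units.ext h1.1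

/-- `Sp_{2n} → GL_{2n}` -/
noncomputable def spToGL (n : ℕ) : Matrix.symplecticGroup (Fin n) F →* GL (Fin (n + n)) F :=
  (Units.mapEquiv (Matrix.reindexAlgEquiv F F finSumFinEquiv).toMulEquiv).toMonoidHom.comp
    (MonoidHom.toHomUnits (Matrix.symplecticGroup (Fin n) F).subtype)

theorem spToGL_injective (n : ℕ) : Function.Injective (spToGL (F := F) n) := by
  intro A B h
  have h1 := (Units.mapEquiv (Matrix.reindexAlgEquiv F F
    (finSumFinEquiv (m := n) (n := n))).toMulEquiv).injective h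
  have h2 := congrArg Units.val h1
  exact Subtype.ext h2

theorem card_filter_even (d' n : ℕ) :
    ((Finset.Icc 1 n).filter (fun i => 2 * d' ∣ 2 * i)).card = (n + n) / (2 * d') := by
  have h1 : (n + n) / (2 * d') = n / d' := by
    rw [← two_mul, Nat.mul_div_mul_left _ _ (by norm_num : 0 < 2)]
  rw [h1, ← Nat.Ioc_filter_dvd_card_eq_div]
  congr 1
  ext i
  simp only [Finset.mem_filter, Finset.mem_Icc, Finset.mem_Ioc]
  rw [Nat.mul_dvd_mul_iff_left (by norm_num : 0 < 2)]
  constructor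
  · rintro ⟨⟨h1, h2⟩, h3⟩
    exact ⟨⟨by omega, h2⟩, h3⟩
  · rintro ⟨⟨h1, h2⟩, h3⟩
    exact ⟨⟨by omega, h2⟩, h3⟩

theorem card_filter_odd (d n : ℕ) (hd : Odd d) :
    ((Finset.Icc 1 n).filter (fun i => d ∣ 2 * i)).card = n / d := by
  rw [← Nat.Ioc_filter_dvd_card_eq_div]
  congr 1
  ext i
  simp only [Finset.mem_filter, Finset.mem_Icc, Finset.mem_Ioc]
  have hcop : Nat.Coprime d 2 := Nat.Coprime.symm (Nat.coprime_two_left.2 hd)
  have hiff : d ∣ 2 * i ↔ d ∣ i := ⟨fun h => hcop.dvd_of_dvd_mul_left h, fun h => Dvd.dvd.mul_left h 2⟩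
  rw [hiff]
  constructor
  · rintro ⟨⟨h1, h2⟩, h3⟩
    exact ⟨⟨by omega, h2⟩, h3⟩
  · rintro ⟨⟨h1, h2⟩, h3⟩
    exact ⟨⟨by omega, h2⟩, h3⟩

/-- Sylow `r`-subgroups of `Sp_{2n}(q)`, `r > n` odd, `r ∤ q`, are homocyclic -/
theorem sylow_Sp {q : ℕ} (hq : Fintype.card F = q) (n : ℕ) (r : ℕ) [Fact r.Prime] (hr2 : r ≠ 2)
    (hrn : n < r) (hrq : ¬ r ∣ q) (P : Sylow r ↥(Matrix.symplecticGroup (Fin n) F)) :
    Nonempty (↥(P : Subgroup ↥(Matrix.symplecticGroup (Fin n) F)) ≃*
      (Fin ((Finset.Icc 1 n).filter (fun i => orderOf (q : ZMod r) ∣ 2 * i)).card →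
        Multiplicative (ZMod (r ^ padicValNat r
          ((Polynomial.cyclotomic (orderOf (q : ZMod r)) ℤ).eval (q : ℤ)).natAbs)))) := by
  classical
  have hq2 : 2 ≤ q := by rw [← hq]; exact Fintype.one_lt_card
  have hrp : r.Prime := Fact.out
  rw [val_cyclotomic q r hq2 hrq]
  have hd0 : 0 < orderOf (q : ZMod r) := order_pos q r hrq
  have hcardSp := Cfsg.Agent.Lib.H2.Sp.card_Sp (F := F) n
  rw [hq] at hcardSp
  have hvalSp := val_card_Sp q r hq2 hr2 hrq n hrn
  rw [← hcardSp] at hvalSp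
  have hcardP : Nat.card (P : Subgroup ↥(Matrix.symplecticGroup (Fin n) F)) =
      r ^ padicValNat r (Nat.card ↥(Matrix.symplecticGroup (Fin n) F)) := by
    rw [← Nat.factorization_def _ hrp]
    exact P.card_eq_multiplicity
  rcases Nat.even_or_odd (orderOf (q : ZMod r)) with hev | hodd
  · -- `d` even: a Sylow subgroup of `Sp_{2n}` is a Sylow subgroup of `GL_{2n}`
    obtain ⟨d', hd'⟩ := hev
    have hd'2 : orderOf (q : ZMod r) = 2 * d' := by rw [hd']; ring
    have hd'0 : 0 < d' := by omega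
    have hcount : ((Finset.Icc 1 n).filter (fun i => orderOf (q : ZMod r) ∣ 2 * i)).card =
        (n + n) / orderOf (q : ZMod r) := by
      rw [hd'2]; exact card_filter_even d' n
    rw [hcount] at hvalSp ⊢
    have hlt : n + n < orderOf (q : ZMod r) * r := by
      rw [hd'2]
      have : 2 * r ≤ 2 * d' * r := by
        calc 2 * r = 2 * 1 * r := by ring
          _ ≤ 2 * d' * r := by
            apply Nat.mul_le_mul_right
            omega
      omega
    have hcardQ : Nat.card ((P : Subgroup ↥(Matrix.symplecticGroup (Fin n) F)).map (spToGL n)) =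
        r ^ (Nat.card (GL (Fin (n + n)) F)).factorization r := by
      rw [Subgroup.card_map_of_injective (spToGL_injective n), hcardP, hvalSp,
        Nat.factorization_def _ hrp, Matrix.card_GL_field, hq, val_card_GL' q r hq2 hrq (n + n) hlt]
    let S : Sylow r (GL (Fin (n + n)) F) := Sylow.ofCard _ hcardQ
    obtain ⟨e⟩ := sylow_GL' hq (n + n) r hlt hrq S
    exact ⟨((P : Subgroup ↥(Matrix.symplecticGroup (Fin n) F)).equivMapOfInjective _
      (spToGL_injective n)).trans e⟩
  · -- `d` odd: the Levi subgroup `GL_n` contains a Sylow subgroup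
    have hcount : ((Finset.Icc 1 n).filter (fun i => orderOf (q : ZMod r) ∣ 2 * i)).card =
        n / orderOf (q : ZMod r) := card_filter_odd _ n hodd
    rw [hcount] at hvalSp ⊢
    let S : Sylow r (GL (Fin n) F) := default
    have hltn : n < orderOf (q : ZMod r) * r := by
      calc n < r := hrn
        _ = 1 * r := (one_mul r).symm
        _ ≤ orderOf (q : ZMod r) * r := Nat.mul_le_mul_right r hd0
    obtain ⟨e⟩ := sylow_GL' hq n r hltn hrq S
    have hcardS : Nat.card (S : Subgroup (GL (Fin n) F)) =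
        r ^ ((n / orderOf (q : ZMod r)) * padicValNat r (q ^ orderOf (q : ZMod r) - 1)) := by
      rw [S.card_eq_multiplicity, Nat.factorization_def _ hrp, Matrix.card_GL_field, hq,
        val_card_GL' q r hq2 hrq n hltn]
    have hcardQ : Nat.card ((S : Subgroup (GL (Fin n) F)).map (leviSp n)) =
        r ^ (Nat.card ↥(Matrix.symplecticGroup (Fin n) F)).factorization r := by
      rw [Subgroup.card_map_of_injective (leviSp_injective n), hcardS,
        Nat.factorization_def _ hrp, hvalSp]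
    let T : Sylow r ↥(Matrix.symplecticGroup (Fin n) F) := Sylow.ofCard _ hcardQ
    exact ⟨(Sylow.equiv P T).trans
      (((S : Subgroup (GL (Fin n) F)).equivMapOfInjective _ (leviSp_injective n)).symm.trans e)⟩

end Cfsg.Agent.Lib.H12.SylLarge
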