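import Mathlib

/-!
# Laws in Suzuki groups, I: unitriangular matrices over polynomial rings and degrees (helper12)
-/

set_option autoImplicit false
open Matrix Polynomial

namespace Cfsg.Agent.Lib.H12.SzLaw

section ring

variable {S : Type*} [CommRing S]

/-- upper unitriangular `4 × 4` matrix with prescribed entries (the last superdiagonal entry is free) -/
def UT (a c f t g a' : S) : Matrix (Fin 4) (Fin 4) S :=
  !![1, a, c, f; 0, 1, t, g; 0, 0, 1, a'; 0, 0, 0, 1]

/-- the antidiagonal permutation matrix -/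
def Wm : Matrix (Fin 4) (Fin 4) S := !![0, 0, 0, 1; 0, 0, 1, 0; 0, 1, 0, 0; 1, 0, 0, 0]

theorem UT_zero : UT (0 : S) 0 0 0 0 0 = 1 := by
  ext i j
  fin_cases i <;> fin_cases j <;> simp [UT]

theorem UT_mul (a c f t g a' b d h u k b' : S) :
    UT a c f t g a' * UT b d h u k b' =
      UT (a + b) (d + a * u + c) (h + a * k + c * b' + f) (t + u) (k + t * b' + g) (a' + b') := by
  ext i j
  fin_cases i <;> fin_cases j <;> simp [UT, Matrix.mul_apply, Fin.sum_univ_four] <;> ring

theorem Wm_mul_Wm : (Wm : Matrix (Fin 4) (Fin 4) S) * Wm = 1 := by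
  ext i j
  fin_cases i <;> fin_cases j <;> simp [Wm, Matrix.mul_apply, Fin.sum_univ_four]

theorem UT_mulVec (a c f t g a' : S) (v : Fin 4 → S) :
    UT a c f t g a' *ᵥ v =
      ![v 0 + a * v 1 + c * v 2 + f * v 3, v 1 + t * v 2 + g * v 3, v 2 + a' * v 3, v 3] := by
  ext i
  fin_cases i <;> simp [UT, Matrix.mulVec, dotProduct, Fin.sum_univ_four]

theorem Wm_mulVec (v : Fin 4 → S) : (Wm : Matrix (Fin 4) (Fin 4) S) *ᵥ v = ![v 3, v 2, v 1, v 0] := by
  ext i
  fin_cases i <;> simp [Wm, Matrix.mulVec, dotProduct, Fin.sum_univ_four]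

/-- the generic translation -/
def Um (e : ℕ) (x : S) : Matrix (Fin 4) (Fin 4) S := UT x (x ^ (e + 1)) (x ^ (e + 2)) (x ^ e) 0 x

/-- its inverse in characteristic two -/
def Um' (e : ℕ) (x : S) : Matrix (Fin 4) (Fin 4) S := UT x 0 (x ^ (e + 2)) (x ^ e) (x ^ (e + 1)) x

theorem Um_mul_Um' (e : ℕ) (x y : S) :
    Um e x * Um' e y = UT (x + y) (x * (x ^ e + y ^ e)) ((x + y) * (x ^ (e + 1) + y ^ (e + 1)))
      (x ^ e + y ^ e) (y * (x ^ e + y ^ e)) (x + y) := by
  unfold Um Um'
  rw [UT_mul]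
  congr 1 <;> ring

theorem Um'_mul_Um (e : ℕ) (x y : S) :
    Um' e x * Um e y = UT (x + y) (y ^ e * (x + y)) (x ^ (e + 2) + y ^ (e + 2))
      (x ^ e + y ^ e) (x ^ e * (x + y)) (x + y) := by
  unfold Um Um'
  rw [UT_mul]
  congr 1 <;> ring

theorem Um_mul_Um'_self (h2 : (2 : S) = 0) (e : ℕ) (x : S) : Um e x * Um' e x = 1 := by
  rw [Um_mul_Um', ← UT_zero]
  have h : ∀ z : S, z + z = 0 := fun z => by linear_combination z * h2
  simp only [h, zero_mul, mul_zero]

theorem Um'_mul_Um_self (h2 : (2 : S) = 0) (e : ℕ) (x : S) : Um' e x * Um e x = 1 := by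
  rw [Um'_mul_Um, ← UT_zero]
  have h : ∀ z : S, z + z = 0 := fun z => by linear_combination z * h2
  simp only [h, zero_mul, mul_zero]

theorem UT_map {S' : Type*} [CommRing S'] (φ : S →+* S') (a c f t g a' : S) :
    (UT a c f t g a').map φ = UT (φ a) (φ c) (φ f) (φ t) (φ g) (φ a') := by
  ext i j
  fin_cases i <;> fin_cases j <;> simp [UT]

theorem Wm_map {S' : Type*} [CommRing S'] (φ : S →+* S') :
    (Wm : Matrix (Fin 4) (Fin 4) S).map φ = Wm := by
  ext i j
  fin_cases i <;> fin_cases j <;> simp [Wm]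

theorem Um_map {S' : Type*} [CommRing S'] (φ : S →+* S') (e : ℕ) (x : S) :
    (Um e x).map φ = Um e (φ x) := by
  unfold Um
  rw [UT_map]
  simp

theorem Um'_map {S' : Type*} [CommRing S'] (φ : S →+* S') (e : ℕ) (x : S) :
    (Um' e x).map φ = Um' e (φ x) := by
  unfold Um'
  rw [UT_map]
  simp

end ring

section degrees

variable {F : Type*} [Field F]

/-- the first coordinate is non-zero of degree `d`, which bounds all degrees -/
def S1 (d : ℕ) (v : Fin 4 → F[X]) : Prop :=
  v 0 ≠ 0 ∧ (v 0).natDegree = d ∧ ∀ j, (v j).natDegree ≤ d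

/-- the last coordinate is non-zero of degree `d`, which bounds all degrees -/
def S4 (d : ℕ) (v : Fin 4 → F[X]) : Prop :=
  v 3 ≠ 0 ∧ (v 3).natDegree = d ∧ ∀ j, (v j).natDegree ≤ d

theorem S1_iff_S4_Wm (d : ℕ) (v : Fin 4 → F[X]) :
    S1 d v ↔ S4 d ((Wm : Matrix (Fin 4) (Fin 4) F[X]) *ᵥ v) := by
  rw [Wm_mulVec]
  unfold S1 S4
  simp only [Fin.forall_fin_succ]
  simp
  tauto

theorem S4_iff_S1_Wm (d : ℕ) (v : Fin 4 → F[X]) :
    S4 d v ↔ S1 d ((Wm : Matrix (Fin 4) (Fin 4) F[X]) *ᵥ v) := by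
  rw [Wm_mulVec]
  unfold S1 S4
  simp only [Fin.forall_fin_succ]
  simp
  tauto

/-- degree bounds for the entries of an upper unitriangular syllable of size `s` -/
structure UB (e s : ℕ) (a c f t g a' : F[X]) : Prop where
  ha : a.natDegree ≤ s
  ha' : a'.natDegree ≤ s
  ht : t.natDegree ≤ s * e
  hc : c.natDegree ≤ s * (e + 1)
  hg : g.natDegree ≤ s * (e + 1)
  hf0 : f ≠ 0
  hf : f.natDegree = s * (e + 2)

theorem UT_S4 {e s d : ℕ} (hs : 1 ≤ s) {a c f t g a' : F[X]} (h : UB e s a c f t g a')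
    {v : Fin 4 → F[X]} (hv : S4 d v) : S1 (d + s * (e + 2)) (UT a c f t g a' *ᵥ v) := by
  obtain ⟨hv0, hvd, hvj⟩ := hv
  rw [UT_mulVec]
  have hp0 : f * v 3 ≠ 0 := mul_ne_zero h.hf0 hv0
  have hp : (f * v 3).natDegree = s * (e + 2) + d := by
    rw [Polynomial.natDegree_mul h.hf0 hv0, h.hf, hvd]
  have hrest : (v 0 + a * v 1 + c * v 2).natDegree ≤ s * (e + 1) + d := by
    apply Polynomial.natDegree_add_le_of_degree_le
    · apply Polynomial.natDegree_add_le_of_degree_le
      · exact (hvj 0).trans (by omega)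
      · refine (Polynomial.natDegree_mul_le_of_le h.ha (hvj 1)).trans ?_
        have : s ≤ s * (e + 1) := Nat.le_mul_of_pos_right s (by omega)
        omega
    · exact Polynomial.natDegree_mul_le_of_le h.hc (hvj 2)
  have hlt : (v 0 + a * v 1 + c * v 2).natDegree < (f * v 3).natDegree := by
    rw [hp]
    have : s * (e + 1) < s * (e + 2) := Nat.mul_lt_mul_of_pos_left (by omega) (by omega)
    omega
  have hsum : (v 0 + a * v 1 + c * v 2 + f * v 3).natDegree = d + s * (e + 2) := by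
    rw [Polynomial.natDegree_add_eq_right_of_natDegree_lt hlt, hp, add_comm]
  have hse : s * (e + 1) ≤ s * (e + 2) := Nat.mul_le_mul_left s (by omega)
  have hse' : s * e ≤ s * (e + 2) := Nat.mul_le_mul_left s (by omega)
  have hs' : s ≤ s * (e + 2) := Nat.le_mul_of_pos_right s (by omega)
  refine ⟨?_, hsum, ?_⟩
  · intro h0
    have : (v 0 + a * v 1 + c * v 2 + f * v 3).natDegree = 0 := by
      simp only [Matrix.cons_val_zero] at h0
      rw [h0, Polynomial.natDegree_zero]
    rw [hsum] at this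
    have : 0 < s * (e + 2) := Nat.mul_pos (by omega) (by omega)
    omega
  · intro j
    fin_cases j
    · exact le_of_eq hsum
    · show (v 1 + t * v 2 + g * v 3).natDegree ≤ _
      apply Polynomial.natDegree_add_le_of_degree_le
      · apply Polynomial.natDegree_add_le_of_degree_le
        · exact (hvj 1).trans (by omega)
        · exact (Polynomial.natDegree_mul_le_of_le h.ht (hvj 2)).trans (by omega)
      · exact (Polynomial.natDegree_mul_le_of_le h.hg (hvj 3)).trans (by omega)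
    · show (v 2 + a' * v 3).natDegree ≤ _
      apply Polynomial.natDegree_add_le_of_degree_le
      · exact (hvj 2).trans (by omega)
      · exact (Polynomial.natDegree_mul_le_of_le h.ha' (hvj 3)).trans (by omega)
    · show (v 3).natDegree ≤ _
      exact (hvj 3).trans (by omega)

/-- the conjugate (lower unitriangular) syllables -/
theorem WUTW_S1 {e s d : ℕ} (hs : 1 ≤ s) {a c f t g a' : F[X]} (h : UB e s a c f t g a')
    {v : Fin 4 → F[X]} (hv : S1 d v) :
    S4 (d + s * (e + 2)) ((Wm * UT a c f t g a' * Wm) *ᵥ v) := by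
  rw [S4_iff_S1_Wm, Matrix.mulVec_mulVec, ← Matrix.mul_assoc, ← Matrix.mul_assoc, Wm_mul_Wm,
    Matrix.one_mul, ← Matrix.mulVec_mulVec]
  exact UT_S4 hs h ((S1_iff_S4_Wm d v).mp hv)

end degrees

end Cfsg.Agent.Lib.H12.SzLaw
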