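import Mathlib
import Cfsg.Agent.Lib.H12.SzLawA

/-!
# Laws in Suzuki groups, II: the generic elements generate a free group (helper12)
-/

set_option autoImplicit false
open Matrix Polynomial

namespace Cfsg.Agent.Lib.H12.SzLaw

variable {F : Type*} [Field F]

theorem natDegree_dom (n : ℕ) (q : F[X]) (h : q.natDegree < n) :
    (X ^ n + q : F[X]) ≠ 0 ∧ (X ^ n + q : F[X]).natDegree = n := by
  have h1 : (X ^ n + q : F[X]).natDegree = n := by
    rw [Polynomial.natDegree_add_eq_left_of_natDegree_lt (by rwa [Polynomial.natDegree_X_pow]),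
      Polynomial.natDegree_X_pow]
  refine ⟨?_, h1⟩
  intro h0
  rw [h0, Polynomial.natDegree_zero] at h1
  omega

theorem pow_add_pow {s r : ℕ} (hsr : s ≠ r) (c : ℕ) (hc : 1 ≤ c) :
    ((X ^ s) ^ c + (X ^ r) ^ c : F[X]) ≠ 0 ∧
      ((X ^ s) ^ c + (X ^ r) ^ c : F[X]).natDegree = max s r * c := by
  rw [← pow_mul, ← pow_mul]
  rcases lt_or_gt_of_ne hsr with h | h
  · rw [max_eq_right h.le, add_comm]
    apply natDegree_dom
    rw [Polynomial.natDegree_X_pow]
    exact Nat.mul_lt_mul_of_pos_right h (by omega)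
  · rw [max_eq_left h.le]
    apply natDegree_dom
    rw [Polynomial.natDegree_X_pow]
    exact Nat.mul_lt_mul_of_pos_right h (by omega)

theorem natDegree_X_pow_pow_le {s M : ℕ} (h : s ≤ M) (c : ℕ) :
    ((X ^ s) ^ c : F[X]).natDegree ≤ M * c := by
  rw [← pow_mul]
  exact (Polynomial.natDegree_X_pow_le _).trans (Nat.mul_le_mul_right c h)

theorem natDegree_X_pow_le' {s M : ℕ} (h : s ≤ M) : ((X ^ s : F[X])).natDegree ≤ M :=
  (Polynomial.natDegree_X_pow_le _).trans h

theorem UB_Um (e s : ℕ) :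
    UB e s (X ^ s : F[X]) ((X ^ s) ^ (e + 1)) ((X ^ s) ^ (e + 2)) ((X ^ s) ^ e) 0 (X ^ s) where
  ha := natDegree_X_pow_le' le_rfl
  ha' := natDegree_X_pow_le' le_rfl
  ht := natDegree_X_pow_pow_le le_rfl e
  hc := natDegree_X_pow_pow_le le_rfl (e + 1)
  hg := by simp
  hf0 := pow_ne_zero _ (pow_ne_zero _ Polynomial.X_ne_zero)
  hf := by rw [← pow_mul, Polynomial.natDegree_X_pow]

theorem UB_Um' (e s : ℕ) :
    UB e s (X ^ s : F[X]) 0 ((X ^ s) ^ (e + 2)) ((X ^ s) ^ e) ((X ^ s) ^ (e + 1)) (X ^ s) where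
  ha := natDegree_X_pow_le' le_rfl
  ha' := natDegree_X_pow_le' le_rfl
  ht := natDegree_X_pow_pow_le le_rfl e
  hc := by simp
  hg := natDegree_X_pow_pow_le le_rfl (e + 1)
  hf0 := pow_ne_zero _ (pow_ne_zero _ Polynomial.X_ne_zero)
  hf := by rw [← pow_mul, Polynomial.natDegree_X_pow]

theorem natDegree_sum_le {s r : ℕ} (c : ℕ) :
    ((X ^ s) ^ c + (X ^ r) ^ c : F[X]).natDegree ≤ max s r * c :=
  Polynomial.natDegree_add_le_of_degree_le (natDegree_X_pow_pow_le (le_max_left s r) c)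
    (natDegree_X_pow_pow_le (le_max_right s r) c)

theorem natDegree_sum_le_one {s r : ℕ} : ((X ^ s) + (X ^ r) : F[X]).natDegree ≤ max s r :=
  Polynomial.natDegree_add_le_of_degree_le (natDegree_X_pow_le' (le_max_left s r))
    (natDegree_X_pow_le' (le_max_right s r))

theorem UB_merge (e : ℕ) {s r : ℕ} (hsr : s ≠ r) :
    UB e (max s r) ((X ^ s : F[X]) + X ^ r) (X ^ s * ((X ^ s) ^ e + (X ^ r) ^ e))
      ((X ^ s + X ^ r) * ((X ^ s) ^ (e + 1) + (X ^ r) ^ (e + 1)))
      ((X ^ s) ^ e + (X ^ r) ^ e) (X ^ r * ((X ^ s) ^ e + (X ^ r) ^ e)) (X ^ s + X ^ r) where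
  ha := natDegree_sum_le_one
  ha' := natDegree_sum_le_one
  ht := natDegree_sum_le e
  hc := by
    refine (Polynomial.natDegree_mul_le_of_le (natDegree_X_pow_le' (le_max_left s r))
      (natDegree_sum_le e)).trans ?_
    rw [Nat.mul_succ, add_comm]
  hg := by
    refine (Polynomial.natDegree_mul_le_of_le (natDegree_X_pow_le' (le_max_right s r))
      (natDegree_sum_le e)).trans ?_
    rw [Nat.mul_succ, add_comm]
  hf0 := by
    have h1 := pow_add_pow (F := F) hsr 1 le_rfl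
    rw [pow_one, pow_one] at h1
    exact mul_ne_zero h1.1 (pow_add_pow hsr (e + 1) (by omega)).1
  hf := by
    have h1 := pow_add_pow (F := F) hsr 1 le_rfl
    rw [pow_one, pow_one] at h1
    have h2 := pow_add_pow (F := F) hsr (e + 1) (by omega)
    rw [Polynomial.natDegree_mul h1.1 h2.1, h1.2, h2.2]
    ring

theorem UB_merge' (e : ℕ) {s r : ℕ} (hsr : s ≠ r) :
    UB e (max s r) ((X ^ s : F[X]) + X ^ r) ((X ^ r) ^ e * (X ^ s + X ^ r))
      ((X ^ s) ^ (e + 2) + (X ^ r) ^ (e + 2))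
      ((X ^ s) ^ e + (X ^ r) ^ e) ((X ^ s) ^ e * (X ^ s + X ^ r)) (X ^ s + X ^ r) where
  ha := natDegree_sum_le_one
  ha' := natDegree_sum_le_one
  ht := natDegree_sum_le e
  hc := by
    refine (Polynomial.natDegree_mul_le_of_le (natDegree_X_pow_pow_le (le_max_right s r) e)
      natDegree_sum_le_one).trans ?_
    rw [Nat.mul_succ]
  hg := by
    refine (Polynomial.natDegree_mul_le_of_le (natDegree_X_pow_pow_le (le_max_left s r) e)
      natDegree_sum_le_one).trans ?_
    rw [Nat.mul_succ]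
  hf0 := (pow_add_pow hsr (e + 2) (by omega)).1
  hf := (pow_add_pow hsr (e + 2) (by omega)).2

/-- the generic elements -/
noncomputable def Cmat (F : Type*) [Field F] (e i : ℕ) : Matrix (Fin 4) (Fin 4) F[X] :=
  Um e (X ^ (i + 1)) * (Wm * Um e (X ^ (i + 1)) * Wm)

/-- their inverses -/
noncomputable def Cmat' (F : Type*) [Field F] (e i : ℕ) : Matrix (Fin 4) (Fin 4) F[X] :=
  (Wm * Um' e (X ^ (i + 1)) * Wm) * Um' e (X ^ (i + 1))

theorem conj_mul {S : Type*} [CommRing S] (A B : Matrix (Fin 4) (Fin 4) S) :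
    (Wm * A * Wm) * (Wm * B * Wm) = Wm * (A * B) * Wm := by
  calc (Wm * A * Wm) * (Wm * B * Wm) = Wm * A * (Wm * Wm) * B * Wm := by
        simp only [Matrix.mul_assoc]
    _ = Wm * (A * B) * Wm := by rw [Wm_mul_Wm]; simp only [Matrix.mul_assoc, Matrix.one_mul]

theorem two_eq_zero_poly (h2 : (2 : F) = 0) : (2 : F[X]) = 0 := by
  rw [← map_ofNat (Polynomial.C : F →+* F[X]) 2, h2, map_zero]

theorem Cmat_mul_Cmat' (h2 : (2 : F) = 0) (e i : ℕ) : Cmat F e i * Cmat' F e i = 1 := by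
  unfold Cmat Cmat'
  have h2' := two_eq_zero_poly h2
  calc Um e (X ^ (i + 1)) * (Wm * Um e (X ^ (i + 1)) * Wm) *
        ((Wm * Um' e (X ^ (i + 1)) * Wm) * Um' e (X ^ (i + 1)))
      = Um e (X ^ (i + 1)) * ((Wm * Um e (X ^ (i + 1)) * Wm) *
          (Wm * Um' e (X ^ (i + 1)) * Wm)) * Um' e (X ^ (i + 1)) := by
        simp only [Matrix.mul_assoc]
    _ = 1 := by
        rw [conj_mul, Um_mul_Um'_self h2', Matrix.mul_one, Wm_mul_Wm, Matrix.mul_one,
          Um_mul_Um'_self h2']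

theorem Cmat'_mul_Cmat (h2 : (2 : F) = 0) (e i : ℕ) : Cmat' F e i * Cmat F e i = 1 := by
  unfold Cmat Cmat'
  have h2' := two_eq_zero_poly h2
  calc (Wm * Um' e (X ^ (i + 1)) * Wm) * Um' e (X ^ (i + 1)) *
        (Um e (X ^ (i + 1)) * (Wm * Um e (X ^ (i + 1)) * Wm))
      = (Wm * Um' e (X ^ (i + 1)) * Wm) * (Um' e (X ^ (i + 1)) * Um e (X ^ (i + 1))) *
          (Wm * Um e (X ^ (i + 1)) * Wm) := by
        simp only [Matrix.mul_assoc]
    _ = 1 := by
        rw [Um'_mul_Um_self h2', Matrix.mul_one, conj_mul, Um'_mul_Um_self h2', Matrix.mul_one,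
          Wm_mul_Wm]

/-- the matrix of a letter -/
noncomputable def letter (F : Type*) [Field F] (e : ℕ) (a : ℕ × Bool) :
    Matrix (Fin 4) (Fin 4) F[X] :=
  cond a.2 (Cmat F e a.1) (Cmat' F e a.1)

/-- the matrix of a word -/
noncomputable def wordMat (F : Type*) [Field F] (e : ℕ) (L : List (ℕ × Bool)) :
    Matrix (Fin 4) (Fin 4) F[X] :=
  (L.map (letter F e)).prod

/-- the base vector -/
noncomputable def v0 (F : Type*) [Field F] : Fin 4 → F[X] := ![1, 0, 0, 1]

theorem v0_S1 : S1 0 (v0 F) := by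
  refine ⟨by simp [v0], by simp [v0], ?_⟩
  intro j
  fin_cases j <;> simp [v0]

theorem v0_S4 : S4 0 (v0 F) := by
  refine ⟨by simp [v0], by simp [v0], ?_⟩
  intro j
  fin_cases j <;> simp [v0]

/-- the invariant of the induction over a reduced word -/
def Inv (e : ℕ) : List (ℕ × Bool) → (Fin 4 → F[X]) → Prop
  | [], v => v = v0 F
  | (j, true) :: _, v => ∃ d u, S4 d u ∧ v = Um e (X ^ (j + 1)) *ᵥ u
  | (j, false) :: _, v => ∃ d u, S1 d u ∧ v = (Wm * Um' e (X ^ (j + 1)) * Wm) *ᵥ u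

theorem Um_S4 (e j : ℕ) {d : ℕ} {u : Fin 4 → F[X]} (hu : S4 d u) :
    S1 (d + (j + 1) * (e + 2)) (Um e (X ^ (j + 1)) *ᵥ u) :=
  UT_S4 (by omega) (UB_Um e (j + 1)) hu

theorem Um'_S4 (e j : ℕ) {d : ℕ} {u : Fin 4 → F[X]} (hu : S4 d u) :
    S1 (d + (j + 1) * (e + 2)) (Um' e (X ^ (j + 1)) *ᵥ u) :=
  UT_S4 (by omega) (UB_Um' e (j + 1)) hu

theorem WUmW_S1 (e j : ℕ) {d : ℕ} {u : Fin 4 → F[X]} (hu : S1 d u) :
    S4 (d + (j + 1) * (e + 2)) ((Wm * Um e (X ^ (j + 1)) * Wm) *ᵥ u) :=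
  WUTW_S1 (by omega) (UB_Um e (j + 1)) hu

theorem WUm'W_S1 (e j : ℕ) {d : ℕ} {u : Fin 4 → F[X]} (hu : S1 d u) :
    S4 (d + (j + 1) * (e + 2)) ((Wm * Um' e (X ^ (j + 1)) * Wm) *ᵥ u) :=
  WUTW_S1 (by omega) (UB_Um' e (j + 1)) hu

theorem inv_wordMat (e : ℕ) : ∀ L : List (ℕ × Bool), FreeGroup.IsReduced L →
    Inv e L (wordMat F e L *ᵥ v0 F) := by
  intro L
  induction L with
  | nil =>
    intro _
    show wordMat F e [] *ᵥ v0 F = v0 F
    simp [wordMat]
  | cons a L' ih =>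
    intro hred
    have hred' : FreeGroup.IsReduced L' := List.IsChain.tail hred
    have ih' := ih hred'
    have hmul : wordMat F e (a :: L') *ᵥ v0 F = letter F e a *ᵥ (wordMat F e L' *ᵥ v0 F) := by
      unfold wordMat
      rw [List.map_cons, List.prod_cons, Matrix.mulVec_mulVec]
    rw [hmul]
    set y := wordMat F e L' *ᵥ v0 F with hy
    obtain ⟨i, ε⟩ := a
    cases ε with
    | true =>
      show ∃ d u, S4 d u ∧ letter F e (i, true) *ᵥ y = Um e (X ^ (i + 1)) *ᵥ u
      have hl : letter F e (i, true) *ᵥ y =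
          Um e (X ^ (i + 1)) *ᵥ ((Wm * Um e (X ^ (i + 1)) * Wm) *ᵥ y) := by
        show Cmat F e i *ᵥ y = _
        unfold Cmat
        rw [← Matrix.mulVec_mulVec]
      rw [hl]
      cases L' with
      | nil =>
        have hy0 : y = v0 F := ih'
        exact ⟨_, _, WUmW_S1 e i (hy0 ▸ v0_S1), rfl⟩
      | cons b L'' =>
        obtain ⟨j, δ⟩ := b
        cases δ with
        | true =>
          obtain ⟨d, u, hu, hyu⟩ := ih'
          have hy1 : S1 _ y := hyu ▸ Um_S4 e j hu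
          exact ⟨_, _, WUmW_S1 e i hy1, rfl⟩
        | false =>
          obtain ⟨d, u, hu, hyu⟩ := ih'
          have hij : i ≠ j := by
            intro h
            have := (FreeGroup.isReduced_cons_cons.mp hred).1 h
            simp at this
          have hm : (Wm * Um e (X ^ (i + 1)) * Wm) *ᵥ y =
              (Wm * (Um e (X ^ (i + 1)) * Um' e (X ^ (j + 1))) * Wm) *ᵥ u := by
            rw [hyu, Matrix.mulVec_mulVec, conj_mul]
          rw [hm, Um_mul_Um']
          exact ⟨_, _, WUTW_S1 (by have := le_max_left (i + 1) (j + 1); omega)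
            (UB_merge e (by omega : i + 1 ≠ j + 1)) hu, rfl⟩
    | false =>
      show ∃ d u, S1 d u ∧ letter F e (i, false) *ᵥ y = (Wm * Um' e (X ^ (i + 1)) * Wm) *ᵥ u
      have hl : letter F e (i, false) *ᵥ y =
          (Wm * Um' e (X ^ (i + 1)) * Wm) *ᵥ (Um' e (X ^ (i + 1)) *ᵥ y) := by
        show Cmat' F e i *ᵥ y = _
        unfold Cmat'
        rw [← Matrix.mulVec_mulVec]
      rw [hl]
      cases L' with
      | nil =>
        have hy0 : y = v0 F := ih'
        exact ⟨_, _, Um'_S4 e i (hy0 ▸ v0_S4), rfl⟩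
      | cons b L'' =>
        obtain ⟨j, δ⟩ := b
        cases δ with
        | false =>
          obtain ⟨d, u, hu, hyu⟩ := ih'
          have hy1 : S4 _ y := hyu ▸ WUm'W_S1 e j hu
          exact ⟨_, _, Um'_S4 e i hy1, rfl⟩
        | true =>
          obtain ⟨d, u, hu, hyu⟩ := ih'
          have hij : i ≠ j := by
            intro h
            have := (FreeGroup.isReduced_cons_cons.mp hred).1 h
            simp at this
          have hm : Um' e (X ^ (i + 1)) *ᵥ y =
              (Um' e (X ^ (i + 1)) * Um e (X ^ (j + 1))) *ᵥ u := by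
            rw [hyu, Matrix.mulVec_mulVec]
          rw [hm, Um'_mul_Um]
          exact ⟨_, _, UT_S4 (by have := le_max_left (i + 1) (j + 1); omega)
            (UB_merge' e (by omega : i + 1 ≠ j + 1)) hu, rfl⟩

theorem wordMat_ne_one (e : ℕ) (L : List (ℕ × Bool)) (hred : FreeGroup.IsReduced L)
    (hne : L ≠ []) : wordMat F e L ≠ 1 := by
  intro h1
  have hinv := inv_wordMat (F := F) e L hred
  rw [h1, Matrix.one_mulVec] at hinv
  cases L with
  | nil => exact hne rfl
  | cons a L' =>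
    obtain ⟨j, δ⟩ := a
    cases δ with
    | true =>
      obtain ⟨d, u, hu, hv⟩ := hinv
      have h := Um_S4 e j hu
      rw [← hv] at h
      have h2 := h.2.1
      have : (v0 F 0).natDegree = 0 := by simp [v0]
      rw [this] at h2
      have : 0 < (j + 1) * (e + 2) := Nat.mul_pos (by omega) (by omega)
      omega
    | false =>
      obtain ⟨d, u, hu, hv⟩ := hinv
      have h := WUm'W_S1 e j hu
      rw [← hv] at h
      have h2 := h.2.1
      have : (v0 F 3).natDegree = 0 := by simp [v0]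
      rw [this] at h2
      have : 0 < (j + 1) * (e + 2) := Nat.mul_pos (by omega) (by omega)
      omega

end Cfsg.Agent.Lib.H12.SzLaw
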