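import Mathlib
import Cfsg.Agent.Lib.H12.SzLawB
import Cfsg.Agent.Lib.H2.SzB3

/-!
# Laws in Suzuki groups, III: degree bounds, specialisation and the theorem (helper12)
-/

set_option autoImplicit false
open Matrix Polynomial

namespace Cfsg.Agent.Lib.H12.SzLaw

section bounds

variable {F : Type*} [Field F]

/-- all entries have degree at most `n` -/
def MB (n : ℕ) (M : Matrix (Fin 4) (Fin 4) F[X]) : Prop := ∀ i j, (M i j).natDegree ≤ n

theorem MB.mono {n n' : ℕ} (h : n ≤ n') {M : Matrix (Fin 4) (Fin 4) F[X]} (hM : MB n M) :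
    MB n' M := fun i j => (hM i j).trans h

theorem MB_mul {n n' : ℕ} {M N : Matrix (Fin 4) (Fin 4) F[X]} (hM : MB n M) (hN : MB n' N) :
    MB (n + n') (M * N) := by
  intro i j
  rw [Matrix.mul_apply]
  apply Polynomial.natDegree_sum_le_of_forall_le
  intro k _
  exact Polynomial.natDegree_mul_le_of_le (hM i k) (hN k j)

theorem MB_one : MB 0 (1 : Matrix (Fin 4) (Fin 4) F[X]) := by
  intro i j
  by_cases h : i = j
  · subst h
    simp
  · simp [Matrix.one_apply_ne h]

theorem MB_Wm : MB 0 (Wm : Matrix (Fin 4) (Fin 4) F[X]) := by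
  intro i j
  fin_cases i <;> fin_cases j <;> simp [Wm]

theorem MB_UT {n : ℕ} {a c f t g a' : F[X]} (ha : a.natDegree ≤ n) (hc : c.natDegree ≤ n)
    (hf : f.natDegree ≤ n) (ht : t.natDegree ≤ n) (hg : g.natDegree ≤ n)
    (ha' : a'.natDegree ≤ n) : MB n (UT a c f t g a') := by
  intro i j
  fin_cases i <;> fin_cases j <;> simp [UT] <;> assumption

theorem MB_of_UB {e s : ℕ} {a c f t g a' : F[X]} (h : UB e s a c f t g a') :
    MB (s * (e + 2)) (UT a c f t g a') := by
  have h1 : s ≤ s * (e + 2) := Nat.le_mul_of_pos_right s (by omega)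
  have h2 : s * e ≤ s * (e + 2) := Nat.mul_le_mul_left s (by omega)
  have h3 : s * (e + 1) ≤ s * (e + 2) := Nat.mul_le_mul_left s (by omega)
  exact MB_UT (h.ha.trans h1) (h.hc.trans h3) (le_of_eq h.hf) (h.ht.trans h2) (h.hg.trans h3)
    (h.ha'.trans h1)

theorem MB_conj {n : ℕ} {M : Matrix (Fin 4) (Fin 4) F[X]} (h : MB n M) : MB n (Wm * M * Wm) := by
  have := MB_mul (MB_mul MB_Wm h) MB_Wm
  simpa using this

theorem MB_letter (e K : ℕ) (a : ℕ × Bool) (ha : a.1 < K) :
    MB (2 * (K * (e + 2))) (letter F e a) := by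
  obtain ⟨i, ε⟩ := a
  have hi : (i + 1) * (e + 2) ≤ K * (e + 2) := Nat.mul_le_mul_right _ (by simpa using ha)
  have h1 : MB (K * (e + 2)) (Um e (X ^ (i + 1) : F[X])) := (MB_of_UB (UB_Um e (i + 1))).mono hi
  have h2 : MB (K * (e + 2)) (Um' e (X ^ (i + 1) : F[X])) :=
    (MB_of_UB (UB_Um' e (i + 1))).mono hi
  cases ε with
  | true =>
    show MB _ (Cmat F e i)
    unfold Cmat
    exact (MB_mul h1 (MB_conj h1)).mono (by omega)
  | false =>
    show MB _ (Cmat' F e i)
    unfold Cmat'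
    exact (MB_mul (MB_conj h2) h2).mono (by omega)

theorem MB_wordMat (e K : ℕ) : ∀ L : List (ℕ × Bool), (∀ a ∈ L, a.1 < K) →
    MB (L.length * (2 * (K * (e + 2)))) (wordMat F e L) := by
  intro L
  induction L with
  | nil =>
    intro _
    simpa [wordMat] using (MB_one (F := F))
  | cons a L' ih =>
    intro h
    have h1 := MB_letter (F := F) e K a (h a (List.mem_cons_self))
    have h2 := ih (fun b hb => h b (List.mem_cons_of_mem _ hb))
    have : wordMat F e (a :: L') = letter F e a * wordMat F e L' := by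
      unfold wordMat
      rw [List.map_cons, List.prod_cons]
    rw [this]
    exact (MB_mul h1 h2).mono (by rw [List.length_cons]; ring_nf; omega)

end bounds

section special

open Cfsg.Agent.Lib.H2.Sz

variable {F : Type*} [Field F] {m : ℕ}

theorem Um_eq_Tm (a : F) : Um (2 ^ (m + 1)) a = Tm m a 0 := by
  ext i j
  fin_cases i <;> fin_cases j <;> simp [Um, UT, Tm, θ, f, pow_succ]

theorem Wm_eq : (Wm : Matrix (Fin 4) (Fin 4) F) = Cfsg.Agent.Lib.H2.Sz.Wm := by
  ext i j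
  fin_cases i <;> fin_cases j <;> simp [Wm, Cfsg.Agent.Lib.H2.Sz.Wm]

/-- the units of the generic elements -/
noncomputable def Cu (h2 : (2 : F) = 0) (e i : ℕ) : (Matrix (Fin 4) (Fin 4) F[X])ˣ :=
  ⟨Cmat F e i, Cmat' F e i, Cmat_mul_Cmat' h2 e i, Cmat'_mul_Cmat h2 e i⟩

theorem coe_lift_mk (h2 : (2 : F) = 0) (e : ℕ) : ∀ L : List (ℕ × Bool),
    ((List.prod (L.map fun x => cond x.2 (Cu h2 e x.1) (Cu h2 e x.1)⁻¹) :
      (Matrix (Fin 4) (Fin 4) F[X])ˣ) : Matrix (Fin 4) (Fin 4) F[X]) = wordMat F e L := by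
  intro L
  induction L with
  | nil => simp [wordMat]
  | cons a L' ih =>
    rw [List.map_cons, List.prod_cons, Units.val_mul, ih]
    unfold wordMat
    rw [List.map_cons, List.prod_cons]
    congr 1
    obtain ⟨i, ε⟩ := a
    cases ε <;> rfl

theorem coe_lift (h2 : (2 : F) = 0) (e : ℕ) (w : FreeGroup ℕ) :
    ((FreeGroup.lift (Cu h2 e) w : (Matrix (Fin 4) (Fin 4) F[X])ˣ) :
      Matrix (Fin 4) (Fin 4) F[X]) = wordMat F e w.toWord := by
  conv_lhs => rw [← FreeGroup.mk_toWord (x := w)]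
  rw [FreeGroup.lift_mk]
  exact coe_lift_mk h2 e _

/-- evaluation of polynomial matrices -/
noncomputable def evalHom (a : F) : (Matrix (Fin 4) (Fin 4) F[X])ˣ →* GL (Fin 4) F :=
  Units.map ((RingHom.mapMatrix (Polynomial.evalRingHom a)).toMonoidHom)

theorem coe_evalHom (a : F) (u : (Matrix (Fin 4) (Fin 4) F[X])ˣ) :
    ((evalHom a u : GL (Fin 4) F) : Matrix (Fin 4) (Fin 4) F) =
      (u : Matrix (Fin 4) (Fin 4) F[X]).map (Polynomial.eval a) := rfl

variable (h : Fld F m)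

/-- the specialised elements -/
noncomputable def gi (m : ℕ) (a : F) (i : ℕ) : GL (Fin 4) F :=
  SpecialLinearGroup.toGL (T m (a ^ (i + 1)) 0) *
    (SpecialLinearGroup.toGL (W : SpecialLinearGroup (Fin 4) F) *
      SpecialLinearGroup.toGL (T m (a ^ (i + 1)) 0) *
        SpecialLinearGroup.toGL (W : SpecialLinearGroup (Fin 4) F))

include h in
theorem gi_mem (a : F) (i : ℕ) : gi m a i ∈ Cfsg.Lie.Sz F (2 ^ (m + 1)) := by
  rw [Cfsg.Agent.Lib.H2.SzB.lieSz_eq]
  have h1 := Subgroup.subset_closure (Cfsg.Agent.Lib.H2.SzB.toGL_T_mem h (a ^ (i + 1)) 0)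
  have h2 := Subgroup.subset_closure (Cfsg.Agent.Lib.H2.SzB.toGL_W_mem h)
  exact Subgroup.mul_mem _ h1 (Subgroup.mul_mem _ (Subgroup.mul_mem _ h2 h1) h2)

theorem coe_gi (a : F) (i : ℕ) :
    ((gi m a i : GL (Fin 4) F) : Matrix (Fin 4) (Fin 4) F) =
      (Cmat F (2 ^ (m + 1)) i).map (Polynomial.eval a) := by
  have hmap : ∀ M N : Matrix (Fin 4) (Fin 4) F[X],
      (M * N).map (Polynomial.eval a) = M.map (Polynomial.eval a) * N.map (Polynomial.eval a) :=
    fun M N => Matrix.map_mul (f := Polynomial.evalRingHom a)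
  unfold Cmat
  rw [hmap, hmap, hmap]
  have h1 : (Um (2 ^ (m + 1)) (X ^ (i + 1) : F[X])).map (Polynomial.eval a) =
      Tm m (a ^ (i + 1)) 0 := by
    have := Um_map (Polynomial.evalRingHom a) (2 ^ (m + 1)) (X ^ (i + 1) : F[X])
    rw [← Um_eq_Tm]
    simpa using this
  have h2 : (Wm : Matrix (Fin 4) (Fin 4) F[X]).map (Polynomial.eval a) =
      Cfsg.Agent.Lib.H2.Sz.Wm := by
    rw [← Wm_eq]
    exact Wm_map (Polynomial.evalRingHom a)
  rw [h1, h2]
  rfl

end special

end Cfsg.Agent.Lib.H12.SzLaw
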