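import Mathlib
import Cfsg.Agent.Lib.H12.SzLawC

/-!
# Laws in Suzuki groups, IV: a non-trivial word is a law in only finitely many Suzuki groups
(helper12)
-/

set_option autoImplicit false
open Matrix Polynomial

namespace Cfsg.Agent.Lib.H12.SzLaw

open Cfsg.Agent.Lib.H2.Sz

theorem lift_eq_evalHom {F : Type*} [Field F] {m : ℕ} (h : Fld F m) (a : F) (w : FreeGroup ℕ) :
    ((FreeGroup.lift (fun i => (⟨gi m a i, gi_mem h a i⟩ : ↥(Cfsg.Lie.Sz F (2 ^ (m + 1))))) w :
      ↥(Cfsg.Lie.Sz F (2 ^ (m + 1)))) : GL (Fin 4) F) =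
      evalHom a (FreeGroup.lift (Cu h.two (2 ^ (m + 1))) w) := by
  have key : (Cfsg.Lie.Sz F (2 ^ (m + 1))).subtype.comp
      (FreeGroup.lift (fun i => (⟨gi m a i, gi_mem h a i⟩ : ↥(Cfsg.Lie.Sz F (2 ^ (m + 1)))))) =
      (evalHom a).comp (FreeGroup.lift (Cu h.two (2 ^ (m + 1)))) := by
    apply FreeGroup.ext_hom
    intro i
    rw [MonoidHom.comp_apply, MonoidHom.comp_apply, FreeGroup.lift_apply_of,
      FreeGroup.lift_apply_of]
    apply Units.ext
    rw [coe_evalHom]
    exact coe_gi a i
  exact DFunLike.congr_fun key w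

theorem arith (A e q : ℕ) (hA : 1 ≤ A) (he : 8 * A < e) (hq : 2 * q = e * e) :
    A * (2 * (e + 2)) < q := by
  nlinarith

theorem exists_nonlaw (w : FreeGroup ℕ) (hw : w ≠ 1) :
    ∃ N : ℕ, ∀ (F : Type*) [Field F] [Fintype F] (m : ℕ), N ≤ m →
      Fintype.card F = 2 ^ (2 * m + 1) →
      ∃ f : ℕ → ↥(Cfsg.Lie.Sz F (2 ^ (m + 1))), FreeGroup.lift f w ≠ 1 := by
  classical
  set L := w.toWord with hL
  have hLne : L ≠ [] := fun h0 => hw (FreeGroup.toWord_eq_nil_iff.mp h0)
  have hLred : FreeGroup.IsReduced L := FreeGroup.isReduced_toWord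
  set K := (L.map Prod.fst).toFinset.sup id + 1 with hK
  have hLK : ∀ a ∈ L, a.1 < K := by
    intro a ha
    have h1 : a.1 ∈ (L.map Prod.fst).toFinset := by
      rw [List.mem_toFinset]
      exact List.mem_map_of_mem ha
    have h2 : id a.1 ≤ (L.map Prod.fst).toFinset.sup id := Finset.le_sup h1
    simp only [id] at h2
    omega
  have hlen : 1 ≤ L.length := List.length_pos_iff.mpr hLne
  refine ⟨8 * (L.length * K), ?_⟩
  intro F _ _ m hm hF
  have h : Fld F m := fld_of_card hF
  set e := 2 ^ (m + 1) with he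
  by_contra hcon
  push Not at hcon
  -- every specialisation kills the word
  have hall : ∀ a : F, (wordMat F e L).map (Polynomial.eval a) = 1 := by
    intro a
    have h1 := hcon (fun i => (⟨gi m a i, gi_mem h a i⟩ : ↥(Cfsg.Lie.Sz F (2 ^ (m + 1)))))
    have h2 := lift_eq_evalHom h a w
    rw [h1] at h2
    have h3 : ((evalHom a (FreeGroup.lift (Cu h.two (2 ^ (m + 1))) w) : GL (Fin 4) F) :
        Matrix (Fin 4) (Fin 4) F) = 1 := by
      rw [← h2]
      rfl
    rw [coe_evalHom, coe_lift] at h3
    exact h3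
  -- the degrees are small
  have hdeg := MB_wordMat (F := F) e K L hLK
  have hcard : L.length * (2 * (K * (e + 2))) < Fintype.card F := by
    rw [hF]
    have h1 : m + 1 < 2 ^ (m + 1) := Nat.lt_two_pow_self
    have h2 : 2 * 2 ^ (2 * m + 1) = e * e := by
      rw [he, ← pow_add, ← pow_succ']
      congr 1
      omega
    have h3 : 1 ≤ L.length * K := Nat.mul_pos hlen (by omega)
    have h4 := arith (L.length * K) e (2 ^ (2 * m + 1)) h3 (by omega) h2
    calc L.length * (2 * (K * (e + 2))) = L.length * K * (2 * (e + 2)) := by ring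
      _ < 2 ^ (2 * m + 1) := h4
  -- hence the word matrix is the identity
  have hone : wordMat F e L = 1 := by
    refine Matrix.ext fun i j => ?_
    have hp : (wordMat F e L i j - (1 : Matrix (Fin 4) (Fin 4) F[X]) i j) = 0 := by
      apply Polynomial.eq_zero_of_natDegree_lt_card_of_eval_eq_zero _
        (f := fun a : F => a) (fun _ _ hab => hab)
      · intro a
        have h1 := congrFun (congrFun (hall a) i) j
        rw [Matrix.map_apply] at h1
        rw [Polynomial.eval_sub, h1]
        by_cases hij : i = j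
        · subst hij
          simp
        · simp [Matrix.one_apply_ne hij]
      · refine lt_of_le_of_lt ?_ hcard
        refine (Polynomial.natDegree_sub_le_of_le (hdeg i j) (MB_one i j)).trans ?_
        simp
    exact sub_eq_zero.mp hp
  exact wordMat_ne_one e L hLred hLne hone

end Cfsg.Agent.Lib.H12.SzLaw
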