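import Mathlib
import Cfsg.Agent.Lib.H14.ThetaDefs

/-!
# S1632, piece IND (twin, helper12): the `n`-dimensional Gaussian Poisson summation formula

`gauss_poisson_of_pieces`: the induction on the dimension, with the LA (Schur complement) and SUMM
(summability) pieces of helper14's blueprint packaged as hypotheses (`Pieces`), so that this file only
needs Mathlib and `ThetaDefs`.
-/

set_option autoImplicit false

namespace Cfsg.Agent.Lib.H12.Theta

open Complex Matrix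
open Cfsg.Agent.Lib.H14.Theta

/-- The LA and SUMM pieces of the blueprint, as one bundle of hypotheses. -/
structure Pieces : Prop where
  schur_pos : ∀ (n : ℕ) (A : Matrix (Fin (n + 1)) (Fin (n + 1)) ℝ), IsPD A → 0 < A 0 0
  schur_isPD : ∀ (n : ℕ) (A : Matrix (Fin (n + 1)) (Fin (n + 1)) ℝ), IsPD A → IsPD (schurA A)
  schur_inv : ∀ (n : ℕ) (A C : Matrix (Fin (n + 1)) (Fin (n + 1)) ℝ), IsPD A → A * C = 1 →
    schurA A * lowerC C = 1
  isPD_inv : ∀ (m : ℕ) (A C : Matrix (Fin m) (Fin m) ℝ), IsPD A → A * C = 1 → IsPD C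
  qf_cons : ∀ (n : ℕ) (A : Matrix (Fin (n + 1)) (Fin (n + 1)) ℝ), IsPD A →
    ∀ (x₀ : ℂ) (x' : Fin n → ℂ),
      qf A (Fin.cons x₀ x') =
        (A 0 0 : ℂ) * x₀ ^ 2 + 2 * x₀ * (∑ j, (A 0 j.succ : ℂ) * x' j) +
          (qf (schurA A) x' + (∑ j, (A 0 j.succ : ℂ) * x' j) ^ 2 / (A 0 0 : ℂ))
  qf_inv_cons : ∀ (n : ℕ) (A C : Matrix (Fin (n + 1)) (Fin (n + 1)) ℝ), IsPD A → A * C = 1 →
    ∀ (v₀ : ℂ) (v' : Fin n → ℂ),
      qf C (Fin.cons v₀ v') =
        v₀ ^ 2 / (A 0 0 : ℂ) +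
          qf (lowerC C) (fun j => v' j - v₀ * (A 0 j.succ : ℂ) / (A 0 0 : ℂ))
  summable_gterm : ∀ (n : ℕ) (A : Matrix (Fin n) (Fin n) ℝ), IsPD A → ∀ s : ℂ, 0 < s.re →
    ∀ u : Fin n → ℂ, Summable (fun x : Fin n → ℤ => ‖gterm A s u x‖)
  summable_dterm : ∀ (n : ℕ) (C : Matrix (Fin n) (Fin n) ℝ), IsPD C → ∀ s : ℂ, 0 < s.re →
    ∀ u : Fin n → ℂ, Summable (fun y : Fin n → ℤ => ‖dterm C s u y‖)

/-! ## small lemmas -/

theorem zc_cons {n : ℕ} (x₀ : ℤ) (x' : Fin n → ℤ) :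
    zc (Fin.cons x₀ x' : Fin (n + 1) → ℤ) = Fin.cons (x₀ : ℂ) (zc x') := by
  funext i
  refine Fin.cases ?_ (fun j => ?_) i
  · simp [zc]
  · simp [zc]

theorem shift_cons {n : ℕ} (m : ℤ) (y' : Fin n → ℤ) (u : Fin (n + 1) → ℂ) :
    (fun i => (((Fin.cons m y' : Fin (n + 1) → ℤ) i : ℤ) : ℂ) + I * u i) =
      Fin.cons ((m : ℂ) + I * u 0) (fun j => ((y' j : ℤ) : ℂ) + I * u j.succ) := by
  funext i
  refine Fin.cases ?_ (fun j => ?_) i
  · simp
  · simp

/-- `(s a)^(1/2) = s^(1/2) a^(1/2)` for real `a > 0`. -/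
theorem sqrt_mul_ofReal (s : ℂ) (hs : s ≠ 0) (a : ℝ) (ha : 0 < a) :
    (s * (a : ℂ)) ^ (1 / 2 : ℂ) = s ^ (1 / 2 : ℂ) * (a : ℂ) ^ (1 / 2 : ℂ) := by
  have ha0 : (a : ℂ) ≠ 0 := by exact_mod_cast ha.ne'
  rw [Complex.cpow_def_of_ne_zero (mul_ne_zero hs ha0), Complex.cpow_def_of_ne_zero hs,
    Complex.cpow_def_of_ne_zero ha0, Complex.log_mul_ofReal a ha s hs, ← Complex.exp_add,
    Complex.ofReal_log ha.le]
  congr 1
  ring

/-- summability of the one-dimensional dual terms -/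
theorem summable_D (c u₀ : ℂ) (hc : 0 < (1 / c).re) :
    Summable (fun m : ℤ => ‖cexp (-(Real.pi : ℂ) / c * ((m : ℂ) + I * u₀) ^ 2)‖) := by
  have hc0 : c ≠ 0 := by
    rintro rfl
    simp at hc
  have h1 : Summable (fun m : ℤ => jacobiTheta₂_term m (-u₀ / c) (I / c)) := by
    rw [summable_jacobiTheta₂_term_iff]
    have : (I / c) = I * (1 / c) := by ring
    rw [this, Complex.I_mul_im]
    exact hc
  have h2 : ∀ m : ℤ, cexp (-(Real.pi : ℂ) / c * ((m : ℂ) + I * u₀) ^ 2) =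
      cexp ((Real.pi : ℂ) * u₀ ^ 2 / c) * jacobiTheta₂_term m (-u₀ / c) (I / c) := by
    intro m
    rw [jacobiTheta₂_term, ← Complex.exp_add]
    congr 1
    field_simp
    linear_combination (-(m : ℂ) ^ 2 - u₀ ^ 2) * Complex.I_sq
  simp_rw [h2]
  exact (h1.mul_left _).norm


/-! ## pointwise identities -/

section Pointwise

variable {n : ℕ} (A C : Matrix (Fin (n + 1)) (Fin (n + 1)) ℝ) (s : ℂ) (u : Fin (n + 1) → ℂ)

/-- the real linear form `β(x') = Σ b j x' j`, as a complex number -/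
noncomputable def bet (x' : Fin n → ℤ) : ℂ := ∑ j, (A 0 j.succ : ℂ) * zc x' j

theorem bet_real (x' : Fin n → ℤ) :
    bet A x' = ((∑ j, A 0 j.succ * (x' j : ℝ) : ℝ) : ℂ) := by
  unfold bet zc
  push_cast
  rfl

/-- the `x'`-part of the split term -/
noncomputable def Et (x' : Fin n → ℤ) : ℂ :=
  cexp (-(Real.pi : ℂ) * s * (qf (schurA A) (zc x') + bet A x' ^ 2 / (A 0 0 : ℂ)) +
    2 * (Real.pi : ℂ) * ∑ j, u j.succ * (x' j : ℂ))

/-- the one-dimensional dual term -/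
noncomputable def Dt (m : ℤ) : ℂ :=
  cexp (-(Real.pi : ℂ) / (s * (A 0 0 : ℂ)) * ((m : ℂ) + I * u 0) ^ 2)

/-- the shifted linear term -/
noncomputable def upp (m : ℤ) : Fin n → ℂ :=
  fun j => u j.succ + I * ((m : ℂ) + I * u 0) * (A 0 j.succ : ℂ) / (A 0 0 : ℂ)

theorem gterm_cons (P : Pieces) (hA : IsPD A) (x₀ : ℤ) (x' : Fin n → ℤ) :
    gterm A s u (Fin.cons x₀ x') =
      cexp (-(Real.pi : ℂ) * (s * (A 0 0 : ℂ)) * (x₀ : ℂ) ^ 2 +
        2 * (Real.pi : ℂ) * (u 0 - s * bet A x') * (x₀ : ℂ)) * Et A s u x' := by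
  unfold gterm Et
  rw [zc_cons, P.qf_cons n A hA, Fin.sum_univ_succ, ← Complex.exp_add]
  simp only [Fin.cons_zero, Fin.cons_succ]
  unfold bet
  congr 1
  ring

theorem dual_mul_Et (ha : (A 0 0 : ℂ) ≠ 0) (hs : s ≠ 0) (m : ℤ) (x' : Fin n → ℤ) :
    cexp (-(Real.pi : ℂ) / (s * (A 0 0 : ℂ)) * ((m : ℂ) + I * (u 0 - s * bet A x')) ^ 2) *
        Et A s u x' =
      Dt A s u m * gterm (schurA A) s (upp A u m) x' := by
  unfold Et Dt gterm upp
  rw [← Complex.exp_add, ← Complex.exp_add]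
  congr 1
  have hsum : ∑ j, (u j.succ + I * ((m : ℂ) + I * u 0) * (A 0 j.succ : ℂ) / (A 0 0 : ℂ)) *
      (x' j : ℂ) = (∑ j, u j.succ * (x' j : ℂ)) +
        I * ((m : ℂ) + I * u 0) / (A 0 0 : ℂ) * bet A x' := by
    unfold bet zc
    rw [Finset.mul_sum, ← Finset.sum_add_distrib]
    refine Finset.sum_congr rfl (fun j _ => ?_)
    ring
  rw [hsum]
  field_simp
  linear_combination (-(s ^ 2 * bet A x' ^ 2)) * Complex.I_sq

theorem Dt_mul_dterm (P : Pieces) (hA : IsPD A) (hAC : A * C = 1) (ha : (A 0 0 : ℂ) ≠ 0)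
    (hs : s ≠ 0) (m : ℤ) (y' : Fin n → ℤ) :
    Dt A s u m * dterm (lowerC C) s (upp A u m) y' = dterm C s u (Fin.cons m y') := by
  unfold Dt dterm
  rw [shift_cons, P.qf_inv_cons n A C hA hAC, ← Complex.exp_add]
  congr 1
  have hfun : (fun j => ((y' j : ℤ) : ℂ) + I * upp A u m j) =
      (fun j => (((y' j : ℤ) : ℂ) + I * u j.succ) -
        ((m : ℂ) + I * u 0) * (A 0 j.succ : ℂ) / (A 0 0 : ℂ)) := by
    funext j
    unfold upp
    field_simp
    linear_combination (((m : ℂ) + I * u 0) * (A 0 j.succ : ℂ)) * Complex.I_sq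
  rw [hfun]
  field_simp
  ring

theorem norm_gterm_upp (m : ℤ) (x' : Fin n → ℤ) :
    ‖gterm (schurA A) s (upp A u m) x'‖ = ‖gterm (schurA A) s (upp A u 0) x'‖ := by
  have h : gterm (schurA A) s (upp A u m) x' =
      gterm (schurA A) s (upp A u 0) x' *
        cexp (((2 * Real.pi * (m : ℝ) * (∑ j, A 0 j.succ * (x' j : ℝ)) / A 0 0 : ℝ) : ℂ) * I) := by
    unfold gterm
    rw [← Complex.exp_add]
    congr 1
    have hsum : ∀ k : ℤ, ∑ j, upp A u k j * (x' j : ℂ) = (∑ j, u j.succ * (x' j : ℂ)) +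
        I * ((k : ℂ) + I * u 0) / (A 0 0 : ℂ) * bet A x' := by
      intro k
      unfold upp bet zc
      rw [Finset.mul_sum, ← Finset.sum_add_distrib]
      refine Finset.sum_congr rfl (fun j _ => ?_)
      ring
    rw [hsum m, hsum 0, bet_real]
    push_cast
    ring
  rw [h, norm_mul, Complex.norm_exp_ofReal_mul_I, mul_one]

end Pointwise

/-! ## the induction step -/

section Step

variable {n : ℕ} (A C : Matrix (Fin (n + 1)) (Fin (n + 1)) ℝ)

theorem step (P : Pieces) (hA : IsPD A) (hAC : A * C = 1) (κ'' : ℂ)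
    (hκ : ∀ s : ℂ, 0 < s.re → ∀ u : Fin n → ℂ,
      ∑' x : Fin n → ℤ, gterm (schurA A) s u x =
        κ'' * (1 / (s ^ (1 / 2 : ℂ)) ^ n) * ∑' y : Fin n → ℤ, dterm (lowerC C) s u y)
    (s : ℂ) (hs : 0 < s.re) (u : Fin (n + 1) → ℂ) :
    ∑' x : Fin (n + 1) → ℤ, gterm A s u x =
      (κ'' / ((A 0 0 : ℝ) : ℂ) ^ (1 / 2 : ℂ)) * (1 / (s ^ (1 / 2 : ℂ)) ^ (n + 1)) *
        ∑' y : Fin (n + 1) → ℤ, dterm C s u y := by
  have ha : 0 < A 0 0 := P.schur_pos n A hA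
  have haC : ((A 0 0 : ℝ) : ℂ) ≠ 0 := by exact_mod_cast ha.ne'
  have hs0 : s ≠ 0 := by
    rintro rfl
    simp at hs
  have hsa : 0 < (s * (A 0 0 : ℂ)).re := by
    rw [Complex.re_mul_ofReal]
    exact mul_pos hs ha
  have hsa' : 0 < (1 / (s * (A 0 0 : ℂ))).re := by
    rw [one_div, Complex.inv_re]
    exact div_pos hsa (Complex.normSq_pos.2 (mul_ne_zero hs0 haC))
  have hPD'' : IsPD (schurA A) := P.schur_isPD n A hA
  have hPDC : IsPD C := P.isPD_inv (n + 1) A C hA hAC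
  -- (1) split off the first coordinate
  have hS1 : Summable (fun p : (Fin n → ℤ) × ℤ => gterm A s u (Fin.cons p.2 p.1)) := by
    have h0 : Summable (fun x : Fin (n + 1) → ℤ => gterm A s u x) :=
      (P.summable_gterm (n + 1) A hA s hs u).of_norm
    have h1 := (Fin.consEquiv (fun _ : Fin (n + 1) => ℤ)).summable_iff.mpr h0
    exact (Equiv.prodComm (Fin n → ℤ) ℤ).summable_iff.mpr h1
  have h1 : ∑' x : Fin (n + 1) → ℤ, gterm A s u x =
      ∑' x' : Fin n → ℤ, ∑' x₀ : ℤ, gterm A s u (Fin.cons x₀ x') := by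
    rw [← (Fin.consEquiv (fun _ : Fin (n + 1) => ℤ)).tsum_eq,
      ← (Equiv.prodComm (Fin n → ℤ) ℤ).tsum_eq]
    exact hS1.tsum_prod
  -- (2) one-dimensional Poisson summation in the first coordinate
  have h2 : ∀ x' : Fin n → ℤ, ∑' x₀ : ℤ, gterm A s u (Fin.cons x₀ x') =
      1 / (s * (A 0 0 : ℂ)) ^ (1 / 2 : ℂ) *
        ∑' m : ℤ, Dt A s u m * gterm (schurA A) s (upp A u m) x' := by
    intro x'
    simp_rw [gterm_cons A s u P hA]
    rw [tsum_mul_right, Complex.tsum_exp_neg_quadratic hsa (u 0 - s * bet A x'), mul_assoc,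
      ← tsum_mul_right]
    congr 1
    refine tsum_congr (fun m => ?_)
    exact dual_mul_Et A s u haC hs0 m x'
  -- (3) the double family is absolutely summable
  have hS2 : Summable (Function.uncurry
      (fun (x' : Fin n → ℤ) (m : ℤ) => Dt A s u m * gterm (schurA A) s (upp A u m) x')) := by
    have hψ : Summable (fun x' : Fin n → ℤ => ‖gterm (schurA A) s (upp A u 0) x'‖) :=
      P.summable_gterm n (schurA A) hPD'' s hs (upp A u 0)
    have hφ : Summable (fun m : ℤ => ‖Dt A s u m‖) := summable_D (s * (A 0 0 : ℂ)) (u 0) hsa'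
    have h := Summable.mul_of_nonneg hψ hφ (fun _ => norm_nonneg _) (fun _ => norm_nonneg _)
    refine Summable.of_norm ?_
    refine h.congr (fun p => ?_)
    rw [Function.uncurry_apply_pair, norm_mul, norm_gterm_upp A s u p.2 p.1, mul_comm]
  -- (4) induction hypothesis
  have h4 : ∀ m : ℤ, ∑' x' : Fin n → ℤ, Dt A s u m * gterm (schurA A) s (upp A u m) x' =
      κ'' * (1 / (s ^ (1 / 2 : ℂ)) ^ n) * ∑' y' : Fin n → ℤ, dterm C s u (Fin.cons m y') := by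
    intro m
    rw [tsum_mul_left, hκ s hs (upp A u m)]
    have : ∀ y' : Fin n → ℤ, dterm C s u (Fin.cons m y') =
        Dt A s u m * dterm (lowerC C) s (upp A u m) y' :=
      fun y' => (Dt_mul_dterm A C s u P hA hAC haC hs0 m y').symm
    simp_rw [this]
    rw [tsum_mul_left]
    ring
  -- (5) recombine the dual sum
  have hS3 : Summable (fun p : ℤ × (Fin n → ℤ) => dterm C s u (Fin.cons p.1 p.2)) := by
    have h0 : Summable (fun y : Fin (n + 1) → ℤ => dterm C s u y) :=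
      (P.summable_dterm (n + 1) C hPDC s hs u).of_norm
    exact (Fin.consEquiv (fun _ : Fin (n + 1) => ℤ)).summable_iff.mpr h0
  have h5 : ∑' m : ℤ, ∑' y' : Fin n → ℤ, dterm C s u (Fin.cons m y') =
      ∑' y : Fin (n + 1) → ℤ, dterm C s u y := by
    rw [← (Fin.consEquiv (fun _ : Fin (n + 1) => ℤ)).tsum_eq]
    exact hS3.tsum_prod.symm
  -- assembly
  have hsq : s ^ (1 / 2 : ℂ) ≠ 0 := by
    rw [Ne, Complex.cpow_eq_zero_iff]
    exact fun h => hs0 h.1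
  have haq : ((A 0 0 : ℝ) : ℂ) ^ (1 / 2 : ℂ) ≠ 0 := by
    rw [Ne, Complex.cpow_eq_zero_iff]
    exact fun h => haC h.1
  rw [h1]
  simp_rw [h2]
  rw [tsum_mul_left, ← hS2.tsum_comm]
  simp_rw [h4]
  rw [tsum_mul_left, h5, sqrt_mul_ofReal s hs0 (A 0 0) ha]
  field_simp
  ring

end Step

/-! ## the induction -/

theorem gauss_poisson_of_pieces (P : Pieces) :
    ∀ (n : ℕ) (A C : Matrix (Fin n) (Fin n) ℝ), IsPD A → A * C = 1 →
      ∃ κ : ℂ, ∀ s : ℂ, 0 < s.re → ∀ u : Fin n → ℂ,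
        ∑' x : Fin n → ℤ, gterm A s u x =
          κ * (1 / (s ^ (1 / 2 : ℂ)) ^ n) * ∑' y : Fin n → ℤ, dterm C s u y := by
  intro n
  induction n with
  | zero =>
    intro A C _ _
    refine ⟨1, fun s _ u => ?_⟩
    rw [tsum_eq_single (fun _ => 0 : Fin 0 → ℤ) (fun b hb => absurd (Subsingleton.elim _ _) hb),
      tsum_eq_single (fun _ => 0 : Fin 0 → ℤ) (fun b hb => absurd (Subsingleton.elim _ _) hb)]
    simp [gterm, dterm, qf]
  | succ n ih =>
    intro A C hA hAC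
    obtain ⟨κ'', hκ⟩ := ih (schurA A) (lowerC C) (P.schur_isPD n A hA) (P.schur_inv n A C hA hAC)
    exact ⟨κ'' / ((A 0 0 : ℝ) : ℂ) ^ (1 / 2 : ℂ), fun s hs u => step A C P hA hAC κ'' hκ s hs u⟩

end Cfsg.Agent.Lib.H12.Theta
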