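import Mathlib
import Cfsg.Agent.Lib.H14.ThetaDefs
import Cfsg.Agent.Lib.H12.ThetaINDa
import Cfsg.Agent.Lib.H22.ThetaLA
import Cfsg.Agent.Lib.H26.ThetaSUMM1
import Cfsg.Agent.Lib.H11.ThetaSUMM2
import Cfsg.Agent.Lib.H11.ThetaSUMM3

/-!
# S1632, piece IND (helper12): the `n`-dimensional Gaussian Poisson summation formula, exact signature

`gauss_poisson_lin` = `gauss_poisson_of_pieces` fed with the landed LA pieces (helper22) and SUMM pieces
(helper26: SUMM1, helper11: SUMM2/SUMM3).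
-/

set_option autoImplicit false

namespace Cfsg.Agent.Lib.H12.Theta

open Complex Matrix UpperHalfPlane ModularForm ModularFormClass MatrixGroups EisensteinSeries
open Cfsg.Agent.Lib.H14.Theta

/-- the landed LA and SUMM pieces -/
theorem pieces : Pieces where
  schur_pos := fun _ A hA => Cfsg.Agent.Lib.H22.Theta.schur_pos A hA
  schur_isPD := fun _ A hA => Cfsg.Agent.Lib.H22.Theta.schur_isPD A hA
  schur_inv := fun _ A C hA hAC => Cfsg.Agent.Lib.H22.Theta.schur_inv A C hA hAC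
  isPD_inv := fun _ A C hA hAC => Cfsg.Agent.Lib.H22.Theta.isPD_inv A C hA hAC
  qf_cons := fun _ A hA x₀ x' => Cfsg.Agent.Lib.H22.Theta.qf_cons A hA x₀ x'
  qf_inv_cons := fun _ A C hA hAC v₀ v' => Cfsg.Agent.Lib.H22.Theta.qf_inv_cons A C hA hAC v₀ v'
  summable_gterm := fun _ A hA s hs u =>
    Cfsg.Agent.Lib.H11.Theta.summable_gterm
      (fun A hA σ hσ β => Cfsg.Agent.Lib.H26.Theta.summable_real_gauss A hA σ hσ β) A hA s hs u
  summable_dterm := fun _ C hC s hs u =>
    Cfsg.Agent.Lib.H11.Theta.summable_dterm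
      (fun A hA σ hσ β => Cfsg.Agent.Lib.H26.Theta.summable_real_gauss A hA σ hσ β) C hC s hs u

/-- **IND**: the `n`-dimensional Gaussian Poisson summation formula (exact signature of the blueprint). -/
theorem gauss_poisson_lin (n : ℕ) (A C : Matrix (Fin n) (Fin n) ℝ) (hA : IsPD A) (hAC : A * C = 1) :
    ∃ κ : ℂ, ∀ s : ℂ, 0 < s.re → ∀ u : Fin n → ℂ,
      ∑' x : Fin n → ℤ, gterm A s u x =
        κ * (1 / (s ^ (1 / 2 : ℂ)) ^ n) * ∑' y : Fin n → ℤ, dterm C s u y :=
  gauss_poisson_of_pieces pieces n A C hA hAC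

end Cfsg.Agent.Lib.H12.Theta
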