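import Mathlib
import Cfsg.Agent.Lib.H12.PGraphC
import Cfsg.Agent.Lib.H12.SpecB

/-!
# Elements of `SL_n(q)` with irreducible characteristic polynomial (helper12)

* an element of prime order `r` with `ord_r(q) = dim V` acts irreducibly;
* an operator without proper invariant subspaces has irreducible characteristic polynomial;
* a matrix of determinant one with irreducible characteristic polynomial has a scalar power
  `g ^ (M / d)`, `M = 1 + q + … + q^(n-1)`, `d ∣ gcd(M, q - 1)`.
-/

set_option autoImplicit false
set_option linter.unusedSectionVars false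
open Polynomial Module

namespace Cfsg.Agent.Lib.H12.Torus

variable {F : Type*} [Field F] {V : Type*} [AddCommGroup V] [Module F V]

section simple

variable [Fintype F] [FiniteDimensional F V]

/-- an operator of prime order `r` with `ord_r(q) = dim V` has no proper invariant subspaces -/
theorem eq_bot_or_top_of_invariant (T : V →ₗ[F] V) (r : ℕ) [Fact r.Prime] (hT : T ^ r = 1)
    (hT1 : T ≠ 1) (hr : (r : F) ≠ 0)
    (hord : orderOf ((Fintype.card F : ℕ) : ZMod r) = finrank F V)
    (W : Submodule F V) (hinv : ∀ w ∈ W, T w ∈ W) : W = ⊥ ∨ W = ⊤ := by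
  -- the range of `T - 1` is everything
  have hrange : LinearMap.range (T - 1) = ⊤ := by
    have h1 := PGraph.orderOf_dvd_finrank T r hT hr (LinearMap.range (T - 1)) le_rfl (by
      rintro _ ⟨v, rfl⟩
      refine ⟨T v, ?_⟩
      simp [map_sub])
    have h2 : 0 < finrank F (LinearMap.range (T - 1)) := by
      rw [Module.finrank_pos_iff_exists_ne_zero]
      have : T - 1 ≠ 0 := sub_ne_zero.2 hT1
      obtain ⟨v, hv⟩ : ∃ v, (T - 1) v ≠ 0 := by
        by_contra hcon
        push Not at hcon
        exact this (LinearMap.ext hcon)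
      exact ⟨⟨(T - 1) v, v, rfl⟩, fun h => hv (congrArg Subtype.val h)⟩
    have h3 : finrank F (LinearMap.range (T - 1)) ≤ finrank F V := Submodule.finrank_le _
    apply Submodule.eq_top_of_finrank_eq
    rw [hord] at h1
    exact le_antisymm h3 (Nat.le_of_dvd h2 h1)
  have h1 := PGraph.orderOf_dvd_finrank T r hT hr W (by rw [hrange]; exact le_top) hinv
  rw [hord] at h1
  rcases Nat.eq_zero_or_pos (finrank F W) with h0 | hpos
  · left
    exact Submodule.finrank_eq_zero.mp h0
  · right
    apply Submodule.eq_top_of_finrank_eq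
    exact le_antisymm (Submodule.finrank_le _) (Nat.le_of_dvd hpos h1)

end simple

section irr

variable [FiniteDimensional F V]

/-- evaluation of polynomials in `g` at a vector -/
noncomputable def evAt (g : V →ₗ[F] V) (v : V) : F[X] →ₗ[F] V :=
  (LinearMap.applyₗ v).comp (Polynomial.aeval g).toLinearMap

theorem evAt_apply (g : V →ₗ[F] V) (v : V) (p : F[X]) : evAt g v p = (Polynomial.aeval g p) v := rfl

/-- without proper invariant subspaces, the minimal polynomial has degree `dim V` -/
theorem natDegree_minpoly_of_simple (g : V →ₗ[F] V) (hV : 0 < finrank F V)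
    (hs : ∀ W : Submodule F V, (∀ w ∈ W, g w ∈ W) → W = ⊥ ∨ W = ⊤) :
    (minpoly F g).natDegree = finrank F V := by
  have hmonic : (minpoly F g).Monic := minpoly.monic (Algebra.IsIntegral.isIntegral g)
  apply le_antisymm
  · have h1 := LinearMap.minpoly_dvd_charpoly g
    have h2 := Polynomial.natDegree_le_of_dvd h1 (LinearMap.charpoly_monic g).ne_zero
    rwa [LinearMap.charpoly_natDegree] at h2
  · obtain ⟨v, hv⟩ : ∃ v : V, v ≠ 0 := by
      have : Nontrivial V := Module.finrank_pos_iff.mp hV
      exact exists_ne 0
    -- the cyclic subspace of `v` is everything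
    have hW : LinearMap.range (evAt g v) = ⊤ := by
      rcases hs (LinearMap.range (evAt g v)) (by
        rintro _ ⟨p, rfl⟩
        refine ⟨X * p, ?_⟩
        rw [evAt_apply, evAt_apply, map_mul, aeval_X, Module.End.mul_apply]) with h | h
      · exfalso
        apply hv
        have : v ∈ LinearMap.range (evAt g v) := ⟨1, by rw [evAt_apply, map_one, Module.End.one_apply]⟩
        rw [h] at this
        exact (Submodule.mem_bot F).mp this
      · exact h
    -- polynomials of degree `< deg minpoly` suffice
    set k := (minpoly F g).natDegree with hk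
    have hsurj : LinearMap.range ((evAt g v).comp (Polynomial.degreeLT F k).subtype) = ⊤ := by
      rw [eq_top_iff]
      intro w _
      have hw : w ∈ LinearMap.range (evAt g v) := by rw [hW]; trivial
      obtain ⟨p, rfl⟩ := hw
      have hmod : (p %ₘ minpoly F g) ∈ Polynomial.degreeLT F k := by
        rw [Polynomial.mem_degreeLT]
        have h1 := Polynomial.degree_modByMonic_lt p hmonic
        rwa [Polynomial.degree_eq_natDegree hmonic.ne_zero] at h1
      refine ⟨⟨p %ₘ minpoly F g, hmod⟩, ?_⟩
      rw [LinearMap.comp_apply, Submodule.subtype_apply, evAt_apply, evAt_apply]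
      have h2 : p = minpoly F g * (p /ₘ minpoly F g) + p %ₘ minpoly F g :=
        (Polynomial.modByMonic_add_div p (minpoly F g)).symm.trans (add_comm _ _)
      conv_rhs => rw [h2]
      rw [map_add, map_mul, minpoly.aeval, zero_mul, zero_add]
    have h4 : finrank F (Polynomial.degreeLT F k) = k := by
      rw [LinearEquiv.finrank_eq (Polynomial.degreeLTEquiv F k), Module.finrank_fin_fun]
    have h5 := LinearMap.finrank_range_le ((evAt g v).comp (Polynomial.degreeLT F k).subtype)
    rw [hsurj, finrank_top, h4] at h5
    exact h5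

/-- without proper invariant subspaces, the characteristic polynomial is irreducible -/
theorem charpoly_irreducible_of_simple (g : V →ₗ[F] V) (hV : 0 < finrank F V)
    (hs : ∀ W : Submodule F V, (∀ w ∈ W, g w ∈ W) → W = ⊥ ∨ W = ⊤) :
    Irreducible g.charpoly := by
  have hdeg := natDegree_minpoly_of_simple g hV hs
  have hχ : g.charpoly.natDegree = finrank F V := LinearMap.charpoly_natDegree g
  have hχ0 : g.charpoly ≠ 0 := (LinearMap.charpoly_monic g).ne_zero
  rw [irreducible_iff]
  constructor
  · intro hu
    have := Polynomial.natDegree_eq_zero_of_isUnit hu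
    omega
  · intro a b hab
    have ha0 : a ≠ 0 := by rintro rfl; rw [zero_mul] at hab; exact hχ0 hab
    have hb0 : b ≠ 0 := by rintro rfl; rw [mul_zero] at hab; exact hχ0 hab
    have hdegab : a.natDegree + b.natDegree = finrank F V := by
      rw [← Polynomial.natDegree_mul ha0 hb0, ← hab, hχ]
    have hprod : Polynomial.aeval g a * Polynomial.aeval g b = 0 := by
      rw [← map_mul, ← hab, LinearMap.aeval_self_charpoly]
    -- the kernel of `a(g)` is invariant
    rcases hs (LinearMap.ker (Polynomial.aeval g a)) (by
      intro w hw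
      rw [LinearMap.mem_ker] at hw ⊢
      have hc : Polynomial.aeval g a * g = g * Polynomial.aeval g a := by
        have h1 : Polynomial.aeval g (a * X) = Polynomial.aeval g (X * a) := by rw [mul_comm]
        rw [map_mul, map_mul, aeval_X] at h1
        exact h1
      have := congrArg (fun f : V →ₗ[F] V => f w) hc
      simp only [Module.End.mul_apply] at this
      rw [this, hw, map_zero]) with h | h
    · -- `a(g)` injective, so `b(g) = 0`
      left
      have hb : Polynomial.aeval g b = 0 := by
        apply LinearMap.ext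
        intro w
        have h1 : (Polynomial.aeval g a) ((Polynomial.aeval g b) w) = 0 := by
          rw [← Module.End.mul_apply, hprod, LinearMap.zero_apply]
        have h2 : (Polynomial.aeval g b) w ∈ LinearMap.ker (Polynomial.aeval g a) := h1
        rw [h] at h2
        rw [(Submodule.mem_bot F).mp h2, LinearMap.zero_apply]
      have h3 := Polynomial.natDegree_le_of_dvd (minpoly.dvd F g hb) hb0
      have h4 : a.natDegree = 0 := by omega
      rw [Polynomial.isUnit_iff]
      obtain ⟨c, hc⟩ := Polynomial.natDegree_eq_zero.mp h4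
      refine ⟨c, ?_, hc⟩
      rw [isUnit_iff_ne_zero]
      rintro rfl
      rw [map_zero] at hc
      exact ha0 hc.symm
    · -- `a(g) = 0`
      right
      have ha : Polynomial.aeval g a = 0 := LinearMap.ker_eq_top.mp h
      have h3 := Polynomial.natDegree_le_of_dvd (minpoly.dvd F g ha) ha0
      have h4 : b.natDegree = 0 := by omega
      rw [Polynomial.isUnit_iff]
      obtain ⟨c, hc⟩ := Polynomial.natDegree_eq_zero.mp h4
      refine ⟨c, ?_, hc⟩
      rw [isUnit_iff_ne_zero]
      rintro rfl
      rw [map_zero] at hc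
      exact hb0 hc.symm

end irr

section matrix

variable [Fintype F] {n : ℕ}

/-- `1 + q + … + q^(n-1) ≡ n (mod q - 1)` -/
theorem geom_sum_sub (q n : ℕ) (hq : 1 ≤ q) :
    q - 1 ∣ (∑ i ∈ Finset.range n, q ^ i) - n ∧ n ≤ ∑ i ∈ Finset.range n, q ^ i := by
  induction n with
  | zero => simp
  | succ n ih =>
    obtain ⟨h1, h2⟩ := ih
    rw [Finset.sum_range_succ]
    have h3 : 1 ≤ q ^ n := Nat.one_le_pow _ _ hq
    have h4 : q - 1 ∣ q ^ n - 1 := by
      have := Nat.sub_dvd_pow_sub_pow q 1 n
      rwa [one_pow] at this
    refine ⟨?_, by omega⟩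
    have e : (∑ i ∈ Finset.range n, q ^ i) + q ^ n - (n + 1) =
        ((∑ i ∈ Finset.range n, q ^ i) - n) + (q ^ n - 1) := by omega
    rw [e]
    exact dvd_add h1 h4

theorem dvd_geom_sum (q n d : ℕ) (hq : 1 ≤ q) (hdn : d ∣ n) (hdq : d ∣ q - 1) :
    d ∣ ∑ i ∈ Finset.range n, q ^ i := by
  obtain ⟨h1, h2⟩ := geom_sum_sub q n hq
  have : (∑ i ∈ Finset.range n, q ^ i) = ((∑ i ∈ Finset.range n, q ^ i) - n) + n := by omega
  rw [this]
  exact dvd_add (hdq.trans h1) hdn

/-- a matrix of determinant one with irreducible characteristic polynomial: the power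
`g ^ (M / d)` is scalar -/
theorem exists_pow_eq_smul (g : Matrix (Fin n) (Fin n) F) (hirr : Irreducible g.charpoly)
    (hdet : g.det = 1) (d : ℕ) (hd0 : 0 < d) (hdn : d ∣ n) (hdq : d ∣ Fintype.card F - 1) :
    ∃ s : F, g ^ ((∑ i ∈ Finset.range n, Fintype.card F ^ i) / d) = s • (1 : Matrix (Fin n) (Fin n) F) := by
  have : Fact (Irreducible g.charpoly) := ⟨hirr⟩
  have hmonic : g.charpoly.Monic := Matrix.charpoly_monic g
  have hq : 1 ≤ Fintype.card F := Fintype.card_pos
  set M := ∑ i ∈ Finset.range n, Fintype.card F ^ i with hM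
  have hdM : d ∣ M := dvd_geom_sum _ n d hq hdn hdq
  have hnd : g.charpoly.natDegree = n := by
    rw [Matrix.charpoly_natDegree_eq_dim, Fintype.card_fin]
  have h1 := Spec.root_pow_geom g.charpoly hmonic
  rw [hnd, ← hM] at h1
  have h2 : (-1 : F) ^ n * g.charpoly.coeff 0 = 1 := by
    have := Matrix.det_eq_sign_charpoly_coeff g
    rw [Fintype.card_fin] at this
    rw [← this, hdet]
  rw [h2, map_one] at h1
  -- the power `root ^ (M / d)` lies in `F`
  have hfinK : Finite (AdjoinRoot g.charpoly) := by
    have : Module.Finite F (AdjoinRoot g.charpoly) := hmonic.finite_adjoinRoot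
    exact Module.finite_of_finite F
  have h3 : ((AdjoinRoot.root g.charpoly) ^ (M / d)) ^ (Fintype.card F - 1) = 1 := by
    obtain ⟨e, he⟩ := hdq
    rw [← pow_mul, he, ← mul_assoc, Nat.div_mul_cancel hdM, pow_mul, h1, one_pow]
  obtain ⟨s, hs⟩ := Spec.mem_range_of_pow_card_sub_one_eq (F := F) _ h3
  refine ⟨s, ?_⟩
  exact Spec.pow_eq_smul_of_charpoly_dvd g _ s (Spec.dvd_of_root_pow g.charpoly _ s hs.symm)

end matrix

end Cfsg.Agent.Lib.H12.Torus
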