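import Mathlib
import Cfsg.Agent.Lib.H12.TorusA
import Cfsg.Agent.Lib.H12.PGraphB

/-!
# Half-torus elements of `PSL_n(q)`: number theory and the irreducibility criterion (helper12)
-/

set_option autoImplicit false
set_option linter.unusedSectionVars false
set_option linter.unusedVariables false
open Polynomial Module

namespace Cfsg.Agent.Lib.H12.Torus

section nt

theorem geom_sum_double (q m : ℕ) :
    ∑ i ∈ Finset.range (m + m), q ^ i = (q ^ m + 1) * ∑ i ∈ Finset.range m, q ^ i := by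
  rw [Finset.sum_range_add, add_mul, one_mul, Finset.mul_sum, add_comm]
  congr 1
  apply Finset.sum_congr rfl
  intro i _
  rw [pow_add]

theorem geom_sum_mul_pred (q n : ℕ) (hq : 1 ≤ q) :
    (∑ i ∈ Finset.range n, q ^ i) * (q - 1) = q ^ n - 1 := by
  obtain ⟨k, rfl⟩ : ∃ k, q = k + 1 := ⟨q - 1, by omega⟩
  have := geom_sum_mul_add k n
  simp only [Nat.add_sub_cancel]
  omega

theorem gcd_dvd_half_of_lt (q m : ℕ) (hq : 1 < q) (hm : 0 < m)
    (h : padicValNat 2 (q - 1) < padicValNat 2 (m + m)) : Nat.gcd (m + m) (q - 1) ∣ m := by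
  set e := padicValNat 2 (q - 1) with he
  have hq1 : q - 1 ≠ 0 := by omega
  have h2m : m + m ≠ 0 := by omega
  have h1 : 2 ^ (e + 1) ∣ m + m := (padicValNat_dvd_iff_le h2m).2 h
  have h2 : 2 ^ e ∣ m := by
    rw [pow_succ] at h1
    have : 2 ^ e * 2 ∣ m * 2 := by
      have e2 : m * 2 = m + m := mul_two m
      rw [e2]; exact h1
    exact (Nat.mul_dvd_mul_iff_right (by norm_num)).1 this
  have h3 : 2 ^ e * (ordCompl[2] (q - 1)) = q - 1 := by
    have := Nat.ordProj_mul_ordCompl_eq_self (q - 1) 2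
    rwa [Nat.factorization_def _ Nat.prime_two] at this
  have hw : Nat.Coprime 2 (ordCompl[2] (q - 1)) := Nat.coprime_ordCompl Nat.prime_two hq1
  have hd : Nat.gcd (m + m) (q - 1) ∣ 2 ^ e * (ordCompl[2] (q - 1)) := by
    rw [h3]; exact Nat.gcd_dvd_right _ _
  obtain ⟨y, z, hy, hz, hyz⟩ := (Nat.dvd_mul).1 hd
  rw [← hyz]
  have hz2 : Nat.Coprime z 2 := (Nat.Coprime.coprime_dvd_right hz hw).symm
  have hzm : z ∣ m := by
    have h5 : z ∣ m * 2 := by
      rw [mul_two]
      exact (Dvd.intro_left y hyz).trans (Nat.gcd_dvd_left _ _)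
    exact Nat.Coprime.dvd_of_dvd_mul_right hz2 h5
  have hym : y ∣ m := hy.trans h2
  have hyz' : Nat.Coprime y z :=
    Nat.Coprime.coprime_dvd_left hy (Nat.Coprime.coprime_dvd_right hz (Nat.Coprime.pow_left e hw))
  exact Nat.Coprime.mul_dvd_of_dvd_of_dvd hyz' hym hzm

theorem lt_of_gcd_dvd_half (q m : ℕ) (hq : 1 < q) (hm : 0 < m)
    (h : Nat.gcd (m + m) (q - 1) ∣ m) : padicValNat 2 (q - 1) < padicValNat 2 (m + m) := by
  by_contra hcon
  push Not at hcon
  set b := padicValNat 2 (m + m) with hb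
  have hq1 : q - 1 ≠ 0 := by omega
  have h2m : m + m ≠ 0 := by omega
  have h1 : 2 ^ b ∣ m + m := (padicValNat_dvd_iff_le h2m).2 le_rfl
  have h2 : 2 ^ b ∣ q - 1 := (padicValNat_dvd_iff_le hq1).2 hcon
  have h3 : 2 ^ b ∣ m := (Nat.dvd_gcd h1 h2).trans h
  have h4 : 2 ^ (b + 1) ∣ m + m := by
    rw [pow_succ, ← mul_two]
    exact Nat.mul_dvd_mul_right h3 2
  have := (padicValNat_dvd_iff_le h2m).1 h4
  omega

end nt

section mat

variable {F : Type*} [Field F] [Fintype F] {n : ℕ}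

/-- a matrix some power of which has prime order `r` with `ord_r(q) = n` has irreducible
characteristic polynomial -/
theorem charpoly_irreducible_of_pow (hn : 0 < n) (g : Matrix (Fin n) (Fin n) F) (k r : ℕ)
    [Fact r.Prime] (h1 : (g ^ k) ^ r = 1) (h2 : g ^ k ≠ 1) (hr : (r : F) ≠ 0)
    (hord : orderOf ((Fintype.card F : ℕ) : ZMod r) = n) : Irreducible g.charpoly := by
  classical
  set φ := (Matrix.toLinAlgEquiv' : Matrix (Fin n) (Fin n) F ≃ₐ[F] _) with hφ
  have hfr : finrank F (Fin n → F) = n := Module.finrank_fin_fun F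
  have hT : (φ (g ^ k)) ^ r = 1 := by rw [← map_pow, h1, map_one]
  have hT1 : φ (g ^ k) ≠ 1 := fun h => h2 (φ.injective (by rw [h, map_one]))
  have hs : ∀ W : Submodule F (Fin n → F), (∀ w ∈ W, φ g w ∈ W) → W = ⊥ ∨ W = ⊤ := by
    intro W hW
    apply eq_bot_or_top_of_invariant (φ (g ^ k)) r hT hT1 hr (by rw [hord, hfr]) W
    rw [map_pow]
    exact PGraph.pow_mem_of_invariant (φ g) W hW k
  have := charpoly_irreducible_of_simple (φ g) (by rw [hfr]; exact hn) hs
  have e : (φ g).charpoly = g.charpoly := Matrix.charpoly_toLin' g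
  rwa [e] at this

end mat

end Cfsg.Agent.Lib.H12.Torus
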