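import Mathlib
import Cfsg.Agent.Lib.H12.TorusB
import Cfsg.Agent.Lib.H12.PGraphD
import Cfsg.Agent.Lib.H29.Zsigmondy

/-!
# Half-torus elements of `PSL_n(q)`: necessity of the 2-adic criterion (helper12)
-/

set_option autoImplicit false
set_option linter.unusedSectionVars false
set_option linter.unusedVariables false
open Polynomial Module

namespace Cfsg.Agent.Lib.H12.Torus

section psl

variable {F : Type*} [Field F] [Fintype F]

theorem natCast_prime_ne_zero (r n : ℕ) (hn : 0 < n) (hr : r ∣ Fintype.card F ^ n - 1) :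
    (r : F) ≠ 0 := by
  intro h0
  have hq : 1 ≤ Fintype.card F ^ n := Nat.one_le_pow _ _ Fintype.card_pos
  obtain ⟨c, hc⟩ := hr
  have h1 : Fintype.card F ^ n = r * c + 1 := by omega
  have h2 := congrArg (Nat.cast : ℕ → F) h1
  rw [Nat.cast_pow, FiniteField.cast_card_eq_zero, zero_pow hn.ne', Nat.cast_add, Nat.cast_mul,
    h0, zero_mul, zero_add, Nat.cast_one] at h2
  exact zero_ne_one h2

theorem pow_sub_one_double (a : ℕ) (ha : 1 ≤ a) : a * a - 1 = (a - 1) * (a + 1) := by
  obtain ⟨b, rfl⟩ : ∃ b, a = b + 1 := ⟨a - 1, by omega⟩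
  simp only [Nat.add_sub_cancel]
  have : (b + 1) * (b + 1) = b * (b + 1 + 1) + 1 := by ring
  rw [this, Nat.add_sub_cancel]

/-- necessity: an element of order `q^m + 1` in `PSL_{2m}(q)` forces `gcd(2m, q-1) ∣ m` -/
theorem gcd_dvd_of_orderOf (m : ℕ) (hm : 2 ≤ m) (hodd : Odd (Fintype.card F))
    (x : Matrix.ProjectiveSpecialLinearGroup (Fin (m + m)) F)
    (hx : orderOf x = Fintype.card F ^ m + 1) :
    Nat.gcd (m + m) (Fintype.card F - 1) ∣ m := by
  classical
  set q := Fintype.card F with hq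
  have hq1 : 1 < q := Fintype.one_lt_card
  obtain ⟨g, rfl⟩ := QuotientGroup.mk_surjective x
  -- Zsigmondy prime
  obtain ⟨r, hrp, hr1, hr2⟩ := Cfsg.Agent.Lib.H29.Zsig.zsigmondy q (m + m) hq1 (by omega)
    (by
      rintro ⟨h, _⟩
      rw [h] at hodd
      exact absurd hodd (by decide))
    (by rintro ⟨h, _⟩; omega)
  have : Fact r.Prime := ⟨hrp⟩
  have hqm : 1 ≤ q ^ m := Nat.one_le_pow _ _ (by omega)
  have hfac : q ^ (m + m) - 1 = (q ^ m - 1) * (q ^ m + 1) := by
    rw [pow_add]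
    exact pow_sub_one_double _ hqm
  have hrN : r ∣ q ^ m + 1 := by
    rw [hfac] at hr1
    rcases (Nat.Prime.dvd_mul hrp).1 hr1 with h | h
    · exact absurd h (hr2 m (by omega) (by omega))
    · exact h
  have hord : orderOf ((q : ℕ) : ZMod r) = m + m := by
    have h1 : orderOf ((q : ℕ) : ZMod r) ∣ m + m :=
      (PGraph.dvd_pow_sub_one_iff' q r (by omega) (m + m)).1 hr1
    have h2 : 0 < orderOf ((q : ℕ) : ZMod r) := Nat.pos_of_dvd_of_pos h1 (by omega)
    have h3 : orderOf ((q : ℕ) : ZMod r) ≤ m + m := Nat.le_of_dvd (by omega) h1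
    by_contra hne
    have h4 : orderOf ((q : ℕ) : ZMod r) < m + m := lt_of_le_of_ne h3 hne
    exact hr2 _ h2 h4 ((PGraph.dvd_pow_sub_one_iff' q r (by omega) _).2 dvd_rfl)
  have hrF : (r : F) ≠ 0 := natCast_prime_ne_zero r (m + m) (by omega) hr1
  have hNg : q ^ m + 1 ∣ orderOf g := by
    rw [← hx]
    exact orderOf_map_dvd (QuotientGroup.mk' _) g
  have hrg : r ∣ orderOf g := hrN.trans hNg
  set k := orderOf g / r with hk
  have hkr : orderOf (g ^ k) = r := orderOf_pow_orderOf_div (orderOf_pos g).ne' hrg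
  have h1 : (g.val ^ k) ^ r = 1 := by
    have h : (g ^ k) ^ r = 1 := by
      conv_lhs => rw [← hkr]
      exact pow_orderOf_eq_one _
    have := congrArg Subtype.val h
    simpa [Matrix.SpecialLinearGroup.coe_pow] using this
  have h2 : g.val ^ k ≠ 1 := by
    intro h
    have h' : g ^ k = 1 := Subtype.ext (by rw [Matrix.SpecialLinearGroup.coe_pow, h]; rfl)
    rw [h', orderOf_one] at hkr
    exact hrp.one_lt.ne hkr
  have hirr := charpoly_irreducible_of_pow (by omega) g.val k r h1 h2 hrF hord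
  set d := Nat.gcd (m + m) (q - 1) with hd
  have hd0 : 0 < d := Nat.gcd_pos_of_pos_left _ (by omega)
  obtain ⟨s, hs⟩ := exists_pow_eq_smul g.val hirr g.property d hd0 (Nat.gcd_dvd_left _ _)
    (Nat.gcd_dvd_right _ _)
  set M := ∑ i ∈ Finset.range (m + m), q ^ i with hM
  have hcen : g ^ (M / d) ∈ Subgroup.center (Matrix.SpecialLinearGroup (Fin (m + m)) F) := by
    rw [Matrix.SpecialLinearGroup.mem_center_iff]
    refine ⟨s, ?_, ?_⟩
    · have := congrArg Matrix.det hs
      rw [Matrix.det_pow, g.property, one_pow, Matrix.det_smul, Matrix.det_one, mul_one] at this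
      exact this.symm
    · rw [Matrix.SpecialLinearGroup.coe_pow, hs, Matrix.smul_one_eq_diagonal]
      rfl
  have hdiv : q ^ m + 1 ∣ M / d := by
    rw [← hx]
    exact Spec.orderOf_mk_dvd _ g _ hcen
  have hM2 : M = (q ^ m + 1) * ∑ i ∈ Finset.range m, q ^ i := geom_sum_double q m
  have hdM : d ∣ M := dvd_geom_sum q (m + m) d (by omega) (Nat.gcd_dvd_left _ _)
    (Nat.gcd_dvd_right _ _)
  have hdX : d ∣ ∑ i ∈ Finset.range m, q ^ i := by
    obtain ⟨c, hc⟩ := hdiv
    have h3 : M = (q ^ m + 1) * c * d := by rw [← hc, Nat.div_mul_cancel hdM]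
    rw [hM2, mul_assoc] at h3
    have h4 := Nat.eq_of_mul_eq_mul_left (by positivity : 0 < q ^ m + 1) h3
    exact Dvd.intro_left c h4.symm
  obtain ⟨h3, h4⟩ := geom_sum_sub q m (by omega)
  have h5 : d ∣ (∑ i ∈ Finset.range m, q ^ i) - m := (Nat.gcd_dvd_right _ _).trans h3
  have h6 : m = (∑ i ∈ Finset.range m, q ^ i) - ((∑ i ∈ Finset.range m, q ^ i) - m) := by omega
  rw [h6]
  exact Nat.dvd_sub hdX h5

end psl

end Cfsg.Agent.Lib.H12.Torus
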