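import Mathlib
import Cfsg.Agent.Lib.H12.TorusB
import Cfsg.Agent.Lib.H2.Singer
import Cfsg.Agent.Lib.H2.SLCenterCard

/-!
# Half-torus elements of `PSL_n(q)`: sufficiency of the 2-adic criterion (helper12)
-/

set_option autoImplicit false
set_option linter.unusedSectionVars false
set_option linter.unusedVariables false
open Polynomial Module

namespace Cfsg.Agent.Lib.H12.Torus

section psl

variable {F : Type*} [Field F] [Fintype F]

/-- sufficiency: if `gcd(2m, q-1) ∣ m` then `PSL_{2m}(q)` has an element of order `q^m + 1` -/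
theorem exists_orderOf_of_gcd_dvd (m : ℕ) (hm : 1 ≤ m)
    (hd : Nat.gcd (m + m) (Fintype.card F - 1) ∣ m) :
    ∃ x : Matrix.ProjectiveSpecialLinearGroup (Fin (m + m)) F,
      orderOf x = Fintype.card F ^ m + 1 := by
  classical
  set q := Fintype.card F with hq
  have hq1 : 1 < q := Fintype.one_lt_card
  have : NeZero (m + m) := ⟨by omega⟩
  obtain ⟨C, hcyc, hcard⟩ := Cfsg.Agent.Lib.H2.Singer.exists_singer F (m + m)
  obtain ⟨c, hc⟩ := hcyc.exists_generator
  have hoc : orderOf c = q ^ (m + m) - 1 := by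
    rw [orderOf_eq_card_of_forall_mem_zpowers hc, hcard]
  have hoc' : orderOf (c : GL (Fin (m + m)) F) = q ^ (m + m) - 1 := by
    rw [Subgroup.orderOf_coe, hoc]
  set M := ∑ i ∈ Finset.range (m + m), q ^ i with hM
  have hMq : M * (q - 1) = q ^ (m + m) - 1 := geom_sum_mul_pred q (m + m) (by omega)
  set g₁ : GL (Fin (m + m)) F := (c : GL (Fin (m + m)) F) ^ (q - 1) with hg₁
  have hog₁ : orderOf g₁ = M := by
    rw [hg₁, orderOf_pow_of_dvd (by omega : q - 1 ≠ 0) (by rw [hoc']; exact Dvd.intro_left M hMq),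
      hoc', ← hMq, Nat.mul_div_cancel _ (by omega)]
  have hdet : Matrix.det g₁.val = 1 := by
    rw [hg₁, Units.val_pow_eq_pow_val, Matrix.det_pow]
    apply FiniteField.pow_card_sub_one_eq_one
    have := (Matrix.GeneralLinearGroup.det (c : GL (Fin (m + m)) F)).ne_zero
    rwa [Matrix.GeneralLinearGroup.val_det_apply] at this
  set g₀ : Matrix.SpecialLinearGroup (Fin (m + m)) F := ⟨g₁.val, hdet⟩ with hg₀
  have hog₀ : orderOf g₀ = M := by
    rw [← hog₁, ← orderOf_injective _ Matrix.SpecialLinearGroup.toGL_injective g₀]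
    congr 1
    apply Units.ext
    rfl
  set X := ∑ i ∈ Finset.range m, q ^ i with hX
  have hMX : M = (q ^ m + 1) * X := geom_sum_double q m
  set d := Nat.gcd (m + m) (q - 1) with hdd
  have hd0 : 0 < d := Nat.gcd_pos_of_pos_left _ (by omega)
  have hdX : d ∣ X := dvd_geom_sum q m d (by omega) hd (Nat.gcd_dvd_right _ _)
  have hZ : Nat.card (Subgroup.center (Matrix.SpecialLinearGroup (Fin (m + m)) F)) = d := by
    rw [Cfsg.Agent.Lib.H2.card_center_SL (m + m) (by omega), Nat.card_eq_fintype_card]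
  have hN : q ^ m + 1 ∣ orderOf (QuotientGroup.mk g₀ :
      Matrix.ProjectiveSpecialLinearGroup (Fin (m + m)) F) := by
    apply Spec.dvd_orderOf_mk
    intro k hk
    have h1 : (g₀ ^ k) ^ d = 1 := by
      have h := pow_card_eq_one' (G := Subgroup.center
        (Matrix.SpecialLinearGroup (Fin (m + m)) F)) (x := ⟨g₀ ^ k, hk⟩)
      rw [hZ] at h
      have := congrArg Subtype.val h
      simpa using this
    rw [← pow_mul] at h1
    have h2 : M ∣ k * d := by
      rw [← hog₀]
      exact orderOf_dvd_of_pow_eq_one h1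
    obtain ⟨X', hX'⟩ := hdX
    rw [hMX, hX'] at h2
    have h3 : (q ^ m + 1) * X' * d ∣ k * d := by
      have e : (q ^ m + 1) * X' * d = (q ^ m + 1) * (d * X') := by ring
      rw [e]
      exact h2
    have h4 := (Nat.mul_dvd_mul_iff_right hd0).1 h3
    exact (Dvd.intro _ rfl).trans h4
  exact Spec.exists_orderOf_eq _ _ hN

end psl

end Cfsg.Agent.Lib.H12.Torus
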