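import Mathlib
import Cfsg.Agent.Lib.H12.TorusB
import Cfsg.Agent.Lib.H12.SpecPSUA

set_option autoImplicit false

/-!
# Half-torus orders in `PSU_{2m}(q)`: number theory
-/

namespace Cfsg.Agent.Lib.H12.Torus

open Cfsg.Agent.Lib.H12.SpecPSU

/-- `q^m + (-1)^m` -/
def NN (q m : ℕ) : ℕ := if Even m then q ^ m + 1 else q ^ m - 1

theorem NN_pos (q m : ℕ) (hq : 2 ≤ q) (hm : 1 ≤ m) : 0 < NN q m := by
  unfold NN
  split_ifs
  · omega
  · have : 2 ^ 1 ≤ q ^ m := by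
      calc 2 ^ 1 ≤ q ^ 1 := by simpa using hq
        _ ≤ q ^ m := Nat.pow_le_pow_right (by omega) hm
    omega

theorem AU_double (q m : ℕ) (hq : 1 ≤ q) : AU q (2 * m) = AU q m * NN q m := by
  have h1 : 1 ≤ q ^ m := Nat.one_le_pow _ _ hq
  have hsq : q ^ (2 * m) = q ^ m * q ^ m := by rw [two_mul, pow_add]
  have hev : Even (2 * m) := even_two_mul m
  unfold AU NN
  rw [if_pos hev, hsq]
  obtain ⟨b, hb⟩ : ∃ b, q ^ m = b + 1 := ⟨q ^ m - 1, by omega⟩
  rw [hb]
  split_ifs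
  · simp only [Nat.add_sub_cancel]
    have : (b + 1) * (b + 1) = b * (b + 1 + 1) + 1 := by ring
    rw [this, Nat.add_sub_cancel]
  · simp only [Nat.add_sub_cancel]
    have : (b + 1) * (b + 1) = (b + 1 + 1) * b + 1 := by ring
    rw [this, Nat.add_sub_cancel]

theorem hU_double (q m : ℕ) (hq : 1 ≤ q) : hU q (2 * m) = hU q m * NN q m := by
  have h1 := hU_mul_succ q (2 * m) hq
  have h2 := hU_mul_succ q m hq
  rw [AU_double q m hq, ← h2] at h1
  have h3 : hU q (2 * m) * (q + 1) = hU q m * NN q m * (q + 1) := by rw [h1]; ring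
  exact Nat.eq_of_mul_eq_mul_right (by omega) h3

/-- the criterion for `q^m + (-1)^m ∣ MU q (2m)` -/
theorem NN_dvd_MU_iff (q m : ℕ) (hq : 2 ≤ q) (hm : 1 ≤ m) :
    NN q m ∣ MU q (2 * m) ↔ Nat.gcd (2 * m) (q + 1) ∣ m := by
  have hN := NN_pos q m hq hm
  set d := Nat.gcd (2 * m) (q + 1) with hd
  have hd0 : 0 < d := Nat.gcd_pos_of_pos_right _ (by omega)
  have hMU : MU q (2 * m) * d = hU q m * NN q m := by
    rw [MU_mul, hU_double q m (by omega)]
  have hg : Nat.gcd (hU q m) (q + 1) = Nat.gcd m (q + 1) := gcd_hU q m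
  constructor
  · rintro ⟨k, hk⟩
    rw [hk] at hMU
    have h1 : NN q m * (k * d) = NN q m * hU q m := by rw [← mul_assoc, hMU, mul_comm]
    have h2 : k * d = hU q m := Nat.eq_of_mul_eq_mul_left hN h1
    have h3 : d ∣ hU q m := ⟨k, by rw [← h2, mul_comm]⟩
    have h4 : d ∣ q + 1 := Nat.gcd_dvd_right _ _
    have h5 : d ∣ Nat.gcd m (q + 1) := by rw [← hg]; exact Nat.dvd_gcd h3 h4
    exact h5.trans (Nat.gcd_dvd_left _ _)
  · intro h
    have h4 : d ∣ q + 1 := Nat.gcd_dvd_right _ _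
    have h5 : d ∣ Nat.gcd (hU q m) (q + 1) := by rw [hg]; exact Nat.dvd_gcd h h4
    obtain ⟨k, hk⟩ := h5.trans (Nat.gcd_dvd_left _ _)
    refine ⟨k, ?_⟩
    rw [hk] at hMU
    have : d * MU q (2 * m) = d * (NN q m * k) := by rw [mul_comm, hMU]; ring
    exact Nat.eq_of_mul_eq_mul_left hd0 this

/-- the `2`-adic form of the criterion -/
theorem gcd_succ_dvd_half_iff (q m : ℕ) (hm : 0 < m) :
    Nat.gcd (2 * m) (q + 1) ∣ m ↔ padicValNat 2 (q + 1) < padicValNat 2 (2 * m) := by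
  have e1 : q + 2 - 1 = q + 1 := by omega
  have e2 : 2 * m = m + m := two_mul m
  constructor
  · intro h
    have := lt_of_gcd_dvd_half (q + 2) m (by omega) hm (by rw [e1, ← e2]; exact h)
    rwa [e1, ← e2] at this
  · intro h
    have := gcd_dvd_half_of_lt (q + 2) m (by omega) hm (by rw [e1, ← e2]; exact h)
    rwa [e1, ← e2] at this

end Cfsg.Agent.Lib.H12.Torus
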