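import Mathlib
import Cfsg.Agent.Lib.H12.TorusE
import Cfsg.Agent.Lib.H29.Zsigmondy

set_option autoImplicit false

/-!
# Half-torus orders in `PSU_{2m}(q)`: the primitive prime divisor
-/

namespace Cfsg.Agent.Lib.H12.Torus

open Cfsg.Agent.Lib.H29.Zsig

/-- order of `q` modulo a primitive prime divisor -/
theorem orderOf_of_primitive {q n r : ℕ} (hq : 0 < q) (hn : 0 < n) (hr : r.Prime)
    (h1 : r ∣ q ^ n - 1) (h2 : ∀ k : ℕ, 0 < k → k < n → ¬ r ∣ q ^ k - 1) :
    orderOf (q : ZMod r) = n := by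
  rw [orderOf_eq_iff hn]
  refine ⟨(natCast_pow_sub_one_eq_zero_iff hq).2 h1, ?_⟩
  intro k hkn hk hone
  exact h2 k hk hkn ((natCast_pow_sub_one_eq_zero_iff hq).1 hone)

/-- the primitive prime divisor adapted to `NN q m` -/
theorem exists_ppd (q m : ℕ) (hq : 2 ≤ q) (hodd : Odd q) (hm : 2 ≤ m) :
    ∃ r : ℕ, r.Prime ∧ r ∣ NN q m ∧ (∀ k : ℕ, r ∣ q ^ (2 * k) - 1 → m ∣ k) ∧
      (Odd m → ¬ r ∣ q ^ m + 1) := by
  have hq0 : 0 < q := by omega
  have hq2 : q ≠ 2 := by
    rintro rfl
    exact absurd hodd (by decide)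
  rcases Nat.even_or_odd m with hev | hmo
  · obtain ⟨r, hr, h1, h2⟩ := zsigmondy q (2 * m) (by omega) (by omega)
      (fun h => hq2 h.1) (fun h => by omega)
    have hord := orderOf_of_primitive hq0 (by omega) hr h1 h2
    refine ⟨r, hr, ?_, ?_, fun ho => absurd hev (Nat.not_even_iff_odd.2 ho)⟩
    · have hfac : q ^ (2 * m) - 1 = (q ^ m - 1) * (q ^ m + 1) := by
        have h1' : 1 ≤ q ^ m := Nat.one_le_pow _ _ hq0
        obtain ⟨b, hb⟩ : ∃ b, q ^ m = b + 1 := ⟨q ^ m - 1, by omega⟩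
        rw [two_mul, pow_add, hb]
        simp only [Nat.add_sub_cancel]
        have : (b + 1) * (b + 1) = b * (b + 1 + 1) + 1 := by ring
        rw [this, Nat.add_sub_cancel]
      rw [hfac] at h1
      rcases (Nat.Prime.dvd_mul hr).1 h1 with h | h
      · exact absurd h (h2 m (by omega) (by omega))
      · unfold NN; rw [if_pos hev]; exact h
    · intro k hk
      have := (natCast_pow_sub_one_eq_zero_iff hq0).2 hk
      have hd := orderOf_dvd_of_pow_eq_one this
      rw [hord] at hd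
      exact Nat.dvd_of_mul_dvd_mul_left (by norm_num) hd
  · have hm3 : 3 ≤ m := by
      obtain ⟨j, hj⟩ := hmo
      omega
    obtain ⟨r, hr, h1, h2⟩ := zsigmondy q m (by omega) (by omega)
      (fun h => hq2 h.1) (fun h => by omega)
    have hord := orderOf_of_primitive hq0 (by omega) hr h1 h2
    refine ⟨r, hr, ?_, ?_, ?_⟩
    · unfold NN; rw [if_neg (Nat.not_even_iff_odd.2 hmo)]; exact h1
    · intro k hk
      have := (natCast_pow_sub_one_eq_zero_iff hq0).2 hk
      have hd := orderOf_dvd_of_pow_eq_one this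
      rw [hord] at hd
      have hcop : Nat.Coprime m 2 := Nat.coprime_two_right.2 hmo
      exact hcop.dvd_of_dvd_mul_left hd
    · intro _ hplus
      have h1' : 1 ≤ q ^ m := Nat.one_le_pow _ _ hq0
      have h2' : r ∣ 2 := by
        have : q ^ m + 1 = (q ^ m - 1) + 2 := by omega
        rw [this] at hplus
        exact (Nat.dvd_add_right h1).1 hplus
      have hr2 : r = 2 := (Nat.prime_dvd_prime_iff_eq hr Nat.prime_two).1 h2'
      apply h2 1 (by omega) (by omega)
      rw [hr2, pow_one]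
      obtain ⟨j, hj⟩ := hodd
      exact ⟨j, by omega⟩

end Cfsg.Agent.Lib.H12.Torus
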