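import Mathlib
import Cfsg.Agent.Lib.H12.TorusF
import Cfsg.Agent.Lib.H12.SpecPSUE
import Cfsg.Agent.Lib.H12.SpecPSUG

set_option autoImplicit false

/-!
# Half-torus orders in `PSU_{2m}(q)`: an element of order `q^m + (-1)^m` lies in the Singer torus
-/

namespace Cfsg.Agent.Lib.H12.Torus

open Matrix Polynomial Cfsg.Agent.Lib.H12.SpecPSU Cfsg.Agent.Lib.H12.USemi
  Cfsg.Agent.Lib.H12.Semi

universe u
variable {F : Type u} [Field F]

/-- a squarefree polynomial not dividing `P` has an irreducible factor not dividing `P` -/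
theorem exists_irreducible_factor_not_dvd {μ P : F[X]} (hsq : Squarefree μ) (hμ0 : μ ≠ 0)
    (hnd : ¬ μ ∣ P) : ∃ h : F[X], h.Monic ∧ Irreducible h ∧ h ∣ μ ∧ ¬ h ∣ P := by
  classical
  set d := EuclideanDomain.gcd μ P with hd
  obtain ⟨e, he⟩ : d ∣ μ := EuclideanDomain.gcd_dvd_left μ P
  have he0 : e ≠ 0 := by
    rintro rfl
    rw [mul_zero] at he
    exact hμ0 he
  have heu : ¬ IsUnit e := by
    intro hu
    apply hnd
    have h1 : μ ∣ d := by
      obtain ⟨e', he'⟩ := hu.exists_right_inv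
      exact ⟨e', by rw [he, mul_assoc, he', mul_one]⟩
    exact h1.trans (EuclideanDomain.gcd_dvd_right μ P)
  have hdeg : 0 < e.natDegree := by
    rw [Polynomial.natDegree_pos_iff_degree_pos]
    exact Polynomial.degree_pos_of_ne_zero_of_nonunit he0 heu
  obtain ⟨h, hm, hi, hhe⟩ := exists_monic_irreducible_factor hdeg
  refine ⟨h, hm, hi, hhe.trans ⟨d, by rw [he, mul_comm]⟩, ?_⟩
  intro hP
  have h1 : h ∣ μ := hhe.trans ⟨d, by rw [he, mul_comm]⟩
  have h2 : h ∣ d := EuclideanDomain.dvd_gcd h1 hP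
  have h3 : h * h ∣ μ := by rw [he]; exact mul_dvd_mul h2 hhe
  exact hi.not_isUnit (hsq h h3)

variable [Fintype F]

/-- an element of order `q^m + (-1)^m` of `PSU_{2m}(q)` has order dividing the order of the Singer
torus -/
theorem NN_dvd_MU_of_orderOf {q : ℕ} (hF : Fintype.card F = q ^ 2) (hodd : Odd q) (p a : ℕ)
    [Fact p.Prime] [CharP F p] (hq : q = p ^ a) (m : ℕ) (hm : 2 ≤ m) {n : ℕ} (hn : n = 2 * m)
    (x : Cfsg.PSU n F q) (hx : orderOf x = NN q m) : NN q m ∣ MU q n := by
  classical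
  have hp : p.Prime := Fact.out
  have hq2 : 2 ≤ q := two_le_of_card hF
  have ha : 1 ≤ a := by
    rcases Nat.eq_zero_or_pos a with h | h
    · rw [h, pow_zero] at hq; omega
    · exact h
  have hpq : p ∣ q := by rw [hq]; exact dvd_pow_self p (by omega)
  have hn1 : 1 ≤ n := by omega
  -- the Frobenius involution
  set σ : F →+* F := iterateFrobenius F p a with hσdef
  have hσ : ∀ x, σ x = x ^ q := by
    intro x
    rw [hσdef, iterateFrobenius_def, hq]
  have hσ2 : ∀ x, σ (σ x) = x := by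
    intro x
    rw [hσ, hσ, ← pow_mul, ← sq, ← hF, FiniteField.pow_card]
  have hne : ∃ x, σ x ≠ x := by
    obtain ⟨x, hx⟩ := frob_ne_id hF
    exact ⟨x, by rw [hσ]; exact hx⟩
  obtain ⟨g, hgx⟩ := QuotientGroup.mk_surjective x
  rw [← hgx] at hx
  set G : Matrix (Fin n) (Fin n) F := smat g with hG
  have hdet : G.det = 1 := smat_det g
  have hGpres := smat_pres g
  rw [← hG] at hGpres
  have hpres : ∀ u v : Fin n → F, stdHerm n σ (G.mulVec u) (G.mulVec v) = stdHerm n σ u v := by
    intro u v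
    rw [stdHerm_eq_hermForm n σ q hσ, stdHerm_eq_hermForm n σ q hσ]
    exact hGpres v u
  set N := NN q m with hNdef
  have hN0 : 0 < N := NN_pos q m hq2 (by omega)
  -- `G ^ N` is scalar
  obtain ⟨s, hs⟩ : ∃ s : F, G ^ N = s • (1 : Matrix (Fin n) (Fin n) F) := by
    have h1 : (QuotientGroup.mk g : Cfsg.PSU n F q) ^ N = 1 := by
      rw [← hx]; exact pow_orderOf_eq_one (QuotientGroup.mk g : Cfsg.PSU n F q)
    rw [← QuotientGroup.mk_pow] at h1
    obtain ⟨s, hs⟩ := exists_smul_of_mem_center hF hn1 (g ^ N) ((QuotientGroup.eq_one_iff _).1 h1)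
    rw [smat_pow] at hs
    exact ⟨s, hs⟩
  have hs0 : s ≠ 0 := by
    rintro rfl
    have h1 := congrArg Matrix.det hs
    have : Nonempty (Fin n) := ⟨⟨0, by omega⟩⟩
    rw [Matrix.det_pow, hdet, one_pow, zero_smul, Matrix.det_zero] at h1
    exact one_ne_zero h1
  have hsn : σ s * s = 1 := by
    apply norm_of_scalar_pres hn1
    rw [← hs]
    exact pres_pow G hpres N
  have hsq1 : s ^ (q + 1) = 1 := by rw [pow_succ, ← hσ]; exact hsn
  -- the primitive prime divisor
  obtain ⟨r, hr, hrN, hP2, hP4⟩ := exists_ppd q m hq2 hodd hm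
  have hrq : ¬ r ∣ q + 1 := by
    intro h
    have h1 : r ∣ q ^ (2 * 1) - 1 := by
      have : q ^ (2 * 1) - 1 = (q - 1) * (q + 1) := by
        obtain ⟨b, rfl⟩ : ∃ b, q = b + 1 := ⟨q - 1, by omega⟩
        simp only [Nat.add_sub_cancel, mul_one]
        have : (b + 1) ^ 2 = b * (b + 1 + 1) + 1 := by ring
        rw [this, Nat.add_sub_cancel]
      rw [this]; exact h.mul_left _
    have := hP2 1 h1
    have := Nat.le_of_dvd (by omega) this
    omega
  obtain ⟨N', hN''⟩ := hrN
  have hN' : N = r * N' := by rw [hNdef]; exact hN''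
  set K := N' * (q + 1) with hK
  have hKr : K * r = N * (q + 1) := by rw [hK, hN']; ring
  have hN'0 : 0 < N' := by
    rcases Nat.eq_zero_or_pos N' with h | h
    · rw [h, mul_zero] at hN'; omega
    · exact h
  -- `G ^ K ≠ 1`
  have hGK : G ^ K ≠ 1 := by
    intro h
    have h1 := orderOf_PSU_dvd g K 1 (by rw [← hG, h, one_smul])
    rw [hx, hN', hK] at h1
    have h2 : r ∣ q + 1 := by
      have h3 : N' * r ∣ N' * (q + 1) := by rw [mul_comm N' r]; exact h1
      exact Nat.dvd_of_mul_dvd_mul_left hN'0 h3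
    exact hrq h2
  -- the minimal polynomial
  have hint : IsIntegral F G := Matrix.isIntegral G
  set μ := minpoly F G with hμ
  have hμ0 : μ ≠ 0 := minpoly.ne_zero hint
  have hμdvd : μ ∣ X ^ N - C s := by
    apply minpoly.dvd
    rw [map_sub, map_pow, aeval_X, aeval_C, hs, Algebra.algebraMap_eq_smul_one, sub_self]
  have hNp : Nat.Coprime N p := by
    apply Nat.Coprime.coprime_dvd_left _ (coprime_AU q (2 * m) p hp hpq (by omega) (by omega))
    rw [AU_double q m (by omega)]
    exact dvd_mul_left _ _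
  have hNF : (N : F) ≠ 0 := by
    rw [Ne, CharP.cast_eq_zero_iff F p]
    intro h
    have := Nat.Coprime.eq_one_of_dvd hNp.symm h
    exact hp.one_lt.ne' this
  have hsep : (X ^ N - C s : F[X]).Separable := Polynomial.separable_X_pow_sub_C s hNF hs0
  have hsq : Squarefree μ := (hsep.of_dvd hμdvd).squarefree
  have hnd : ¬ μ ∣ X ^ K - C (1 : F) := by
    intro h
    apply hGK
    obtain ⟨R, hR⟩ := h
    have h1 := congrArg (Polynomial.aeval G) hR
    rw [map_mul, minpoly.aeval, zero_mul, map_sub, map_pow, aeval_X, aeval_C, map_one,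
      sub_eq_zero] at h1
    exact h1
  obtain ⟨h, hhm, hhi, hhμ, hhP⟩ := exists_irreducible_factor_not_dvd hsq hμ0 hnd
  have hhχ : h ∣ G.charpoly := hhμ.trans (Matrix.minpoly_dvd_charpoly G)
  have : Fact (Irreducible h) := ⟨hhi⟩
  set θ := AdjoinRoot.root h with hθ
  have hθN : θ ^ N = algebraMap F (AdjoinRoot h) s := by
    have h1 : AdjoinRoot.mk h (X ^ N - C s) = 0 := AdjoinRoot.mk_eq_zero.2 (hhμ.trans hμdvd)
    rw [map_sub, map_pow, AdjoinRoot.mk_X, AdjoinRoot.mk_C, sub_eq_zero] at h1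
    exact h1
  set ζ := θ ^ K with hζ
  have hζ1 : ζ ≠ 1 := by
    intro h1
    apply hhP
    apply Cfsg.Agent.Lib.H12.Spec.dvd_of_root_pow h K 1
    rw [map_one]; exact h1
  have hζr : ζ ^ r = 1 := by
    rw [hζ, ← pow_mul, hKr, pow_mul, hθN, ← map_pow, hsq1, map_one]
  have : Fact r.Prime := ⟨hr⟩
  have hordζ : orderOf ζ = r := orderOf_eq_prime hζr hζ1
  -- the field `F[θ]`
  have hfin : Module.Finite F (AdjoinRoot h) := hhm.finite_adjoinRoot
  have : Finite (AdjoinRoot h) := Module.finite_of_finite F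
  have : Fintype (AdjoinRoot h) := Fintype.ofFinite _
  have hrank : Module.finrank F (AdjoinRoot h) = h.natDegree := by
    rw [(AdjoinRoot.powerBasis' hhm).finrank, AdjoinRoot.powerBasis'_dim]
  have hcard : Fintype.card (AdjoinRoot h) = q ^ (2 * h.natDegree) := by
    rw [Module.card_eq_pow_finrank (K := F) (V := AdjoinRoot h), hrank, hF, ← pow_mul]
  have hζ0 : ζ ≠ 0 := by
    intro h0
    rw [h0, zero_pow hr.ne_zero] at hζr
    exact zero_ne_one hζr
  have hrdvd : r ∣ q ^ (2 * h.natDegree) - 1 := by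
    rw [← hcard, ← hordζ]
    exact orderOf_dvd_of_pow_eq_one (FiniteField.pow_card_sub_one_eq_one ζ hζ0)
  have hmdeg : m ∣ h.natDegree := hP2 _ hrdvd
  have hdegle : h.natDegree ≤ n := by
    have h1 := Polynomial.natDegree_le_of_dvd hhχ (Matrix.charpoly_monic G).ne_zero
    rwa [Matrix.charpoly_natDegree_eq_dim, Fintype.card_fin] at h1
  have hdeg1 : 1 ≤ h.natDegree := hhi.natDegree_pos
  have hχ0 : G.charpoly.coeff 0 ≠ 0 := by
    intro h0
    have h1 := Matrix.det_eq_sign_charpoly_coeff G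
    rw [h0, mul_zero, hdet] at h1
    exact one_ne_zero h1
  have hh0 : h.coeff 0 ≠ 0 := by
    intro h0
    obtain ⟨k, hk⟩ := hhχ
    apply hχ0
    rw [hk, mul_coeff_zero, h0, zero_mul]
  rcases dual_dichotomy (σ := σ) hhi hhm with hco | ⟨c, hc, hdual⟩
  · -- the hyperbolic case
    have hSD := dualP_charpoly_of_preserve n G hpres
    have hh' : dualP σ h ∣ G.charpoly := by
      obtain ⟨w, hw⟩ := hhχ
      have h1 : dualP σ h ∣ dualP σ G.charpoly := by
        rw [hw, dualP_mul]; exact dvd_mul_right _ _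
      rw [hSD] at h1
      have hu : IsUnit (C (σ G.det * (-1) ^ n) : F[X]) := by
        rw [Polynomial.isUnit_C, hdet, map_one, one_mul]
        exact (isUnit_neg_one (α := F)).pow n
      exact (hu.dvd_mul_left).1 h1
    have hprod : h * dualP σ h ∣ G.charpoly := hco.mul_dvd hhχ hh'
    have hd' : (dualP σ h).natDegree = h.natDegree := dualP_natDegree h hh0
    have hh'0 : dualP σ h ≠ 0 := by
      intro h0
      rw [h0, natDegree_zero] at hd'
      omega
    have hdegprod : (h * dualP σ h).natDegree = 2 * h.natDegree := by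
      rw [natDegree_mul hhi.ne_zero hh'0, hd']; ring
    have hχdeg : G.charpoly.natDegree = n := by
      rw [Matrix.charpoly_natDegree_eq_dim, Fintype.card_fin]
    have hle : 2 * h.natDegree ≤ n := by
      rw [← hdegprod, ← hχdeg]
      exact Polynomial.natDegree_le_of_dvd hprod (Matrix.charpoly_monic G).ne_zero
    have hdeg : h.natDegree = m := by
      obtain ⟨j, hj⟩ := hmdeg
      have hj1 : j = 1 := by
        rcases Nat.lt_or_ge j 1 with h0 | h1
        · have : j = 0 := by omega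
          rw [this, mul_zero] at hj; omega
        · rcases Nat.lt_or_ge j 2 with h2 | h2
          · omega
          · have : m * 2 ≤ m * j := Nat.mul_le_mul_left m h2
            omega
      rw [hj, hj1, mul_one]
    obtain ⟨w, hw⟩ := hprod
    have hw0 : w ≠ 0 := by
      rintro rfl
      rw [mul_zero] at hw
      exact (Matrix.charpoly_monic G).ne_zero hw
    have hwdeg : w.natDegree = 0 := by
      have h1 := congrArg natDegree hw
      rw [natDegree_mul (mul_ne_zero hhi.ne_zero hh'0) hw0, hdegprod, hχdeg, hdeg] at h1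
      omega
    obtain ⟨w0, hw0'⟩ := Polynomial.natDegree_eq_zero.1 hwdeg
    have hw00 : w0 ≠ 0 := by
      rintro rfl
      rw [map_zero] at hw0'
      exact hw0 hw0'.symm
    have hassoc : Associated G.charpoly (h ^ 1 * dualP σ h ^ 1) := by
      rw [pow_one, pow_one]
      refine ⟨(Polynomial.isUnit_C.2 (IsUnit.mk0 w0⁻¹ (inv_ne_zero hw00))).unit, ?_⟩
      rw [IsUnit.unit_spec, hw, ← hw0', mul_assoc, ← C_mul, mul_inv_cancel₀ hw00, C_1, mul_one]
    set T := Nat.clog p n with hT
    have hTn : n ≤ p ^ T := Nat.le_pow_clog hp.one_lt n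
    obtain ⟨l, hl⟩ := primary_hyp_pow_scalar hF p σ hσ hσ2 hn1 G hdet hGpres h hhm hhi hh0 hco 1 1
      hassoc T hTn
    have h1 := orderOf_PSU_dvd g _ l hl
    rw [hx] at h1
    exact (Nat.Coprime.pow_right T hNp).dvd_of_dvd_mul_right h1
  · -- the self-dual case is impossible
    exfalso
    have hSD : SelfDual σ h c := ⟨hσ2, hne, hhm, hc, hdual⟩
    obtain ⟨hoddeg, hθQ⟩ := SelfDual.root_pow hF hSD
    obtain ⟨j, hj⟩ := hmdeg
    have hj1 : j = 1 := by
      rcases Nat.lt_or_ge j 1 with h0 | h1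
      · have : j = 0 := by omega
        rw [this, mul_zero] at hj; omega
      · rcases Nat.lt_or_ge j 2 with h2 | h2
        · omega
        · rcases Nat.lt_or_ge j 3 with h3 | h3
          · have : j = 2 := by omega
            rw [this] at hj
            rw [hj] at hoddeg
            exact absurd hoddeg (Nat.not_odd_iff_even.2 ⟨m, by ring⟩)
          · have : m * 3 ≤ m * j := Nat.mul_le_mul_left m h3
            omega
    rw [hj1, mul_one] at hj
    rw [hj] at hoddeg hθQ
    apply hP4 hoddeg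
    rw [← hordζ]
    apply orderOf_dvd_of_pow_eq_one
    rw [hζ, ← pow_mul, mul_comm, pow_mul, hθQ, one_pow]

end Cfsg.Agent.Lib.H12.Torus
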