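import Mathlib
import Cfsg.Agent.Lib.H12.DicMcKay
import Cfsg.Agent.Lib.H12.SL2Reg
import Cfsg.Agent.S2430

set_option autoImplicit false

/-!
# The McKay count of the normalizer of a Sylow `ℓ`-subgroup of `SL₂(q)`, `ℓ` odd, `ℓ ∤ q`
-/

namespace Cfsg.Agent.Lib.H12

open Matrix Cfsg

section torus

variable {F : Type*} [Field F] [Fintype F]

local notation "SL2" => Matrix.SpecialLinearGroup (Fin 2) F
local notation "M2" => Matrix (Fin 2) (Fin 2) F

theorem mckay_normalizer_sylow_odd (hodd : Odd (Fintype.card F)) (ℓ : ℕ) [Fact ℓ.Prime]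
    (hℓ2 : ℓ ≠ 2) (hq : ¬ ℓ ∣ Fintype.card F) (P : Sylow ℓ SL2) :
    (ℓ ∣ Fintype.card F - 1 →
      2 * mckay ℓ (Subgroup.normalizer ((P : Subgroup SL2) : Set SL2)) = Fintype.card F + 5) ∧
    (ℓ ∣ Fintype.card F + 1 →
      2 * mckay ℓ (Subgroup.normalizer ((P : Subgroup SL2) : Set SL2)) = Fintype.card F + 7) := by
  have h2 : (2 : F) ≠ 0 := two_ne_zero_of_odd hodd
  have hℓ : ℓ.Prime := Fact.out
  have hq1 : 1 < Fintype.card F := Fintype.one_lt_card
  have key : ∀ c : ℕ, ℓ ∣ Nat.card SL2 →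
      Nat.card (Subgroup.centralizer ((P : Subgroup SL2) : Set SL2)) = c →
      2 * mckay ℓ (Subgroup.normalizer ((P : Subgroup SL2) : Set SL2)) = c + 6 := by
    intro c hdvd hc
    obtain ⟨x, ht, hCx, -, hN⟩ := Cfsg.Agent.S2430.main hodd ℓ hℓ2 P hdvd hq
    obtain ⟨w, hw⟩ := exists_inverting hodd ht
    have hD := dicData_of_inverting h2 ht hw
    have hfin : Finite (Subgroup.normalizer (Subgroup.centralizer ({x} : Set SL2) : Set SL2)) :=
      inferInstance
    have hm := (hD.mckay (card_mul_self_eq_one h2 x) ℓ hℓ).2 hℓ2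
    rw [mckay_congr ℓ (MulEquiv.subgroupCongr hN), hm, ← hCx, hc]
  have hcard : Nat.card SL2 = Fintype.card F * (Fintype.card F ^ 2 - 1) := card_SL2
  have hfac : Fintype.card F ^ 2 - 1 = (Fintype.card F - 1) * (Fintype.card F + 1) := by
    obtain ⟨k, hk⟩ : ∃ k, Fintype.card F = k + 1 := ⟨Fintype.card F - 1, by omega⟩
    rw [hk]
    have : (k + 1) ^ 2 - 1 = k * (k + 2) := by
      have : (k + 1) ^ 2 = k * (k + 2) + 1 := by ring
      omega
    rw [this]
    rfl
  have hres := Cfsg.Agent.S2430.result hodd ℓ hℓ2 P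
  constructor
  · intro hd
    have hdvd : ℓ ∣ Nat.card SL2 := by
      rw [hcard, hfac]
      exact Dvd.dvd.mul_left (Dvd.dvd.mul_right hd _) _
    have := key _ hdvd (hres.1 hd).1
    omega
  · intro hd
    have hdvd : ℓ ∣ Nat.card SL2 := by
      rw [hcard, hfac]
      exact Dvd.dvd.mul_left (Dvd.dvd.mul_left hd _) _
    have := key _ hdvd (hres.2 hd).1
    omega

end torus

end Cfsg.Agent.Lib.H12
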