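import Mathlib

/-!
# Eigen-decomposition of a representation of `(κ → F, +)` by additive characters (helper12)
-/

set_option autoImplicit false
open Matrix

namespace Cfsg.Agent.Lib.H12.XChar

variable {F : Type*} [Field F] [Fintype F] {L : Type*} [Field L] {κ : Type*} [Fintype κ]
  [DecidableEq κ]

/-- orthogonality for the characters `η ↦ ψ (η ⬝ᵥ w)` of `κ → F`, nonzero case. -/
theorem sum_char_dot_ne (ψ : AddChar F L) (hψ : ψ ≠ 1) {w : κ → F} (h : w ≠ 0) :
    ∑ η : κ → F, ψ (η ⬝ᵥ w) = 0 := by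
  classical
  have hne : ∃ i, w i ≠ 0 := by
    by_contra hcon
    push Not at hcon
    exact h (funext hcon)
  obtain ⟨i, hi⟩ := hne
  obtain ⟨t, ht⟩ := AddChar.ne_one_iff.mp hψ
  let f : (κ → F) →+ F :=
    { toFun := fun η => η ⬝ᵥ w
      map_zero' := zero_dotProduct w
      map_add' := fun a b => add_dotProduct a b w }
  have hne1 : ψ.compAddMonoidHom f ≠ 1 := by
    rw [AddChar.ne_one_iff]
    refine ⟨Pi.single i (t / w i), ?_⟩
    show ψ ((Pi.single i (t / w i) : κ → F) ⬝ᵥ w) ≠ 1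
    rw [single_dotProduct, div_mul_cancel₀ _ hi]
    exact ht
  exact AddChar.sum_eq_zero_of_ne_one hne1

theorem sum_char_dot_ne' (ψ : AddChar F L) (hψ : ψ ≠ 1) {η : κ → F} (h : η ≠ 0) :
    ∑ w : κ → F, ψ (η ⬝ᵥ w) = 0 := by
  simp_rw [dotProduct_comm η]
  exact sum_char_dot_ne ψ hψ h

theorem sum_char_dot_zero (ψ : AddChar F L) :
    ∑ η : κ → F, ψ (η ⬝ᵥ (0 : κ → F)) = ((Fintype.card F ^ Fintype.card κ : ℕ) : L) := by
  simp

variable {V : Type*} [AddCommGroup V] [Module L V]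

/-- the projection onto the `η`-eigenspace. -/
noncomputable def proj (ψ : AddChar F L) (R : (κ → F) → Module.End L V) (η : κ → F) :
    Module.End L V :=
  ((Fintype.card F ^ Fintype.card κ : ℕ) : L)⁻¹ • ∑ w : κ → F, ψ (-(η ⬝ᵥ w)) • R w

theorem sum_proj (ψ : AddChar F L) (hψ : ψ ≠ 1) (R : (κ → F) → Module.End L V) (hR0 : R 0 = 1)
    (hN : ((Fintype.card F ^ Fintype.card κ : ℕ) : L) ≠ 0) :
    ∑ η : κ → F, proj ψ R η = 1 := by
  classical
  unfold proj
  rw [← Finset.smul_sum, Finset.sum_comm]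
  have h1 : ∀ w : κ → F, ∑ η : κ → F, ψ (-(η ⬝ᵥ w)) • R w =
      if w = 0 then ((Fintype.card F ^ Fintype.card κ : ℕ) : L) • R w else 0 := by
    intro w
    rw [← Finset.sum_smul]
    have h2 : ∑ η : κ → F, ψ (-(η ⬝ᵥ w)) = ∑ η : κ → F, ψ (η ⬝ᵥ (-w)) := by
      apply Finset.sum_congr rfl
      intro η _
      rw [dotProduct_neg]
    rw [h2]
    split_ifs with h
    · subst h
      rw [neg_zero, sum_char_dot_zero]
    · rw [sum_char_dot_ne ψ hψ (neg_ne_zero.mpr h), zero_smul]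
  rw [Finset.sum_congr rfl (fun w _ => h1 w), Finset.sum_ite_eq' Finset.univ (0 : κ → F)]
  simp only [Finset.mem_univ, if_true]
  rw [hR0, smul_smul, inv_mul_cancel₀ hN, one_smul]

theorem apply_proj (ψ : AddChar F L) (R : (κ → F) → Module.End L V)
    (hRadd : ∀ w w', R (w + w') = R w * R w') (η w' : κ → F) :
    R w' * proj ψ R η = ψ (η ⬝ᵥ w') • proj ψ R η := by
  have key : R w' * ∑ w : κ → F, ψ (-(η ⬝ᵥ w)) • R w =
      ψ (η ⬝ᵥ w') • ∑ w : κ → F, ψ (-(η ⬝ᵥ w)) • R w := by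
    rw [Finset.mul_sum, Finset.smul_sum]
    rw [← Equiv.sum_comp (Equiv.addLeft w') (fun w => ψ (η ⬝ᵥ w') • ψ (-(η ⬝ᵥ w)) • R w)]
    apply Finset.sum_congr rfl
    intro w _
    rw [mul_smul_comm, ← hRadd, Equiv.coe_addLeft, smul_smul, ← AddChar.map_add_eq_mul]
    congr 2
    rw [dotProduct_add]
    ring
  unfold proj
  rw [mul_smul_comm, key, smul_comm]

theorem proj_apply_eigen (ψ : AddChar F L) (R : (κ → F) → Module.End L V)
    (hN : ((Fintype.card F ^ Fintype.card κ : ℕ) : L) ≠ 0) (η : κ → F) (v : V)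
    (hv : ∀ w, R w v = ψ (η ⬝ᵥ w) • v) :
    proj ψ R η v = v := by
  unfold proj
  rw [LinearMap.smul_apply, LinearMap.sum_apply]
  have h1 : ∀ w : κ → F, (ψ (-(η ⬝ᵥ w)) • R w) v = v := by
    intro w
    rw [LinearMap.smul_apply, hv, smul_smul, ← AddChar.map_add_eq_mul, neg_add_cancel,
      AddChar.map_zero_eq_one, one_smul]
  rw [Finset.sum_congr rfl (fun w _ => h1 w)]
  simp only [Finset.sum_const, Finset.card_univ, Fintype.card_fun]
  rw [← Nat.cast_smul_eq_nsmul L, smul_smul, inv_mul_cancel₀ hN, one_smul]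

theorem proj_apply_eigen_ne (ψ : AddChar F L) (hψ : ψ ≠ 1) (R : (κ → F) → Module.End L V)
    {η η' : κ → F} (h : η ≠ η') (v : V)
    (hv : ∀ w, R w v = ψ (η' ⬝ᵥ w) • v) :
    proj ψ R η v = 0 := by
  unfold proj
  rw [LinearMap.smul_apply, LinearMap.sum_apply]
  have h1 : ∀ w : κ → F, (ψ (-(η ⬝ᵥ w)) • R w) v = ψ ((η' - η) ⬝ᵥ w) • v := by
    intro w
    rw [LinearMap.smul_apply, hv, smul_smul, ← AddChar.map_add_eq_mul]
    congr 2
    rw [sub_dotProduct]
    ring
  rw [Finset.sum_congr rfl (fun w _ => h1 w), ← Finset.sum_smul,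
    sum_char_dot_ne' ψ hψ (sub_ne_zero.mpr (Ne.symm h)), zero_smul, smul_zero]

theorem proj_isEigen (ψ : AddChar F L) (R : (κ → F) → Module.End L V)
    (hRadd : ∀ w w', R (w + w') = R w * R w') (η : κ → F) (v : V) (w : κ → F) :
    R w (proj ψ R η v) = ψ (η ⬝ᵥ w) • proj ψ R η v := by
  rw [← Module.End.mul_apply, apply_proj ψ R hRadd, LinearMap.smul_apply]

theorem action_trivial_of_no_eigen (ψ : AddChar F L) (hψ : ψ ≠ 1) (R : (κ → F) → Module.End L V)
    (hR0 : R 0 = 1) (hRadd : ∀ w w', R (w + w') = R w * R w')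
    (hN : ((Fintype.card F ^ Fintype.card κ : ℕ) : L) ≠ 0)
    (h : ∀ η : κ → F, η ≠ 0 → ∀ v : V, (∀ w, R w v = ψ (η ⬝ᵥ w) • v) → v = 0) :
    ∀ w, R w = 1 := by
  classical
  intro w
  apply LinearMap.ext
  intro v
  have h1 : v = proj ψ R 0 v := by
    have h2 := congrArg (fun f : Module.End L V => f v) (sum_proj ψ hψ R hR0 hN)
    simp only [LinearMap.sum_apply, Module.End.one_apply] at h2
    rw [Finset.sum_eq_single (0 : κ → F)] at h2
    · exact h2.symm
    · intro η _ hη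
      exact h η hη _ (proj_isEigen ψ R hRadd η v)
    · intro h0; exact absurd (Finset.mem_univ _) h0
  rw [Module.End.one_apply]
  conv_lhs => rw [h1]
  rw [proj_isEigen ψ R hRadd, zero_dotProduct, AddChar.map_zero_eq_one, one_smul, ← h1]

theorem card_le_finrank [FiniteDimensional L V] (ψ : AddChar F L) (hψ : ψ ≠ 1)
    (R : (κ → F) → Module.End L V)
    (hN : ((Fintype.card F ^ Fintype.card κ : ℕ) : L) ≠ 0) (S : Finset (κ → F))
    (h : ∀ η ∈ S, ∃ v : V, v ≠ 0 ∧ ∀ w, R w v = ψ (η ⬝ᵥ w) • v) :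
    S.card ≤ Module.finrank L V := by
  classical
  choose! f hf0 hf using h
  have hli : LinearIndependent L (fun η : S => f η.1) := by
    rw [linearIndependent_iff']
    intro s g hg i hi
    have h1 := congrArg (proj ψ R i.1) hg
    rw [map_sum, map_zero, Finset.sum_eq_single i] at h1
    · rw [map_smul, proj_apply_eigen ψ R hN i.1 _ (hf i.1 i.2)] at h1
      exact (smul_eq_zero.mp h1).resolve_right (hf0 i.1 i.2)
    · intro j _ hji
      rw [map_smul, proj_apply_eigen_ne ψ hψ R (fun hh => hji (Subtype.ext hh.symm)) _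
        (hf j.1 j.2), smul_zero]
    · intro hni; exact absurd hi hni
  have := hli.fintype_card_le_finrank
  rwa [Fintype.card_coe] at this

end Cfsg.Agent.Lib.H12.XChar
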