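import Mathlib

set_option autoImplicit false

namespace Cfsg.Agent.Lib.H12.XChar

variable {F : Type*} [Field F] {κ : Type*} [Fintype κ] [DecidableEq κ]

theorem moves_pivot (X : Set (κ → F))
    (hmove : ∀ η ∈ X, ∀ i j : κ, i ≠ j → ∀ c : F, η + Pi.single j (c * η i) ∈ X)
    {η : κ → F} (hη : η ∈ X) {i : κ} (hi : η i ≠ 0) (τ : κ → F) (hτ : τ i = η i) : τ ∈ X := by
  classical
  have key : ∀ S : Finset κ, i ∉ S → (fun k => if k ∈ S then τ k else η k) ∈ X := by
    intro S
    induction S using Finset.induction_on with
    | empty => intro _; simpa using hη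
    | insert j S hj ih =>
      intro hiS
      have hij : i ≠ j := fun h => hiS (h ▸ Finset.mem_insert_self _ _)
      have hiS' : i ∉ S := fun h => hiS (Finset.mem_insert_of_mem h)
      have h1 := hmove _ (ih hiS') i j hij ((τ j - η j) / η i)
      convert h1 using 1
      funext k
      simp only [Pi.add_apply, Pi.single_apply, if_neg hiS', div_mul_cancel₀ _ hi]
      by_cases hk : k = j
      · subst hk
        simp [hj]
      · simp [hk, Finset.mem_insert]
  have h2 := key (Finset.univ.erase i) (Finset.notMem_erase i _)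
  convert h2 using 1
  funext k
  by_cases hk : k = i
  · subst hk; simp [hτ]
  · simp [hk]

theorem moves_transitive (hκ : 2 ≤ Fintype.card κ) (X : Set (κ → F))
    (hmove : ∀ η ∈ X, ∀ i j : κ, i ≠ j → ∀ c : F, η + Pi.single j (c * η i) ∈ X)
    {η : κ → F} (hη : η ∈ X) (hη0 : η ≠ 0) (τ : κ → F) (hτ0 : τ ≠ 0) : τ ∈ X := by
  classical
  have hne : ∃ i, η i ≠ 0 := by
    by_contra hcon
    push Not at hcon
    exact hη0 (funext hcon)
  obtain ⟨i, hi⟩ := hne
  have hne' : ∃ k, τ k ≠ 0 := by
    by_contra hcon
    push Not at hcon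
    exact hτ0 (funext hcon)
  obtain ⟨k, hk⟩ := hne'
  by_cases hki : k = i
  · subst hki
    obtain ⟨j, hj⟩ : ∃ j, j ≠ k := by
      by_contra hcon
      push Not at hcon
      have : Fintype.card κ ≤ 1 := Fintype.card_le_one_iff.mpr (fun a b => (hcon a).trans (hcon b).symm)
      omega
    -- step 1: make coordinate j equal to 1
    have h1 : Function.update η j 1 ∈ X :=
      moves_pivot X hmove hη hi _ (by rw [Function.update_of_ne (Ne.symm hj)])
    -- step 2: with pivot j set coordinate k to τ k
    have h2 : Function.update (Function.update η j 1) k (τ k) ∈ X :=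
      moves_pivot X hmove h1 (i := j) (by simp) _
        (by rw [Function.update_of_ne hj])
    -- step 3: pivot k
    exact moves_pivot X hmove h2 (i := k) (by simpa using hk) τ (by simp)
  · have h1 : Function.update η k (τ k) ∈ X :=
      moves_pivot X hmove hη hi _ (by rw [Function.update_of_ne (Ne.symm hki)])
    exact moves_pivot X hmove h1 (i := k) (by simpa using hk) τ (by simp)

end Cfsg.Agent.Lib.H12.XChar
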