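import Cfsg.Agent.Lib.H12.XCharA
import Cfsg.Agent.Lib.H12.XCharC

/-!
# The abelian unipotent radical of `SL_{m+1}` and elementary transvections acting on it (helper12)
-/

set_option autoImplicit false
open Matrix

namespace Cfsg.Agent.Lib.H12.XChar

section tvsec
variable {F : Type*} [Field F] {ι : Type*} [Fintype ι] [DecidableEq ι]

theorem det_one_add_vecMulVec' (v φ : ι → F) : det (1 + vecMulVec v φ) = 1 + φ ⬝ᵥ v := by
  rw [vecMulVec_eq Unit, det_one_add_replicateCol_mul_replicateRow]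

/-- the transvection `1 + v φᵀ` as an element of `SL`. -/
def tv (v φ : ι → F) (h : φ ⬝ᵥ v = 0) : SpecialLinearGroup ι F :=
  ⟨1 + vecMulVec v φ, by rw [det_one_add_vecMulVec', h, add_zero]⟩

theorem tv_val (v φ : ι → F) (h : φ ⬝ᵥ v = 0) : (tv v φ h).1 = 1 + vecMulVec v φ := rfl

theorem tv_congr {v v' φ : ι → F} (hv : v = v') (h : φ ⬝ᵥ v = 0) (h' : φ ⬝ᵥ v' = 0) :
    tv v φ h = tv v' φ h' := by
  subst hv; rfl

theorem tv_mul_tv (v v' φ : ι → F) (h : φ ⬝ᵥ v = 0) (h' : φ ⬝ᵥ v' = 0) :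
    tv v φ h * tv v' φ h' = tv (v + v') φ (by rw [dotProduct_add, h, h', add_zero]) := by
  apply Subtype.ext
  change (tv v φ h).1 * (tv v' φ h').1 = (tv (v + v') φ _).1
  rw [tv_val, tv_val, tv_val, add_mul, mul_add, mul_add, one_mul,
    mul_one, one_mul, vecMulVec_mul_vecMulVec, h', zero_smul, vecMulVec_zero, add_zero,
    add_vecMulVec]
  abel

theorem tv_zero (φ : ι → F) : tv (0 : ι → F) φ (dotProduct_zero φ) = 1 := by
  apply Subtype.ext
  rw [tv_val, zero_vecMulVec, add_zero]; rfl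

/-- semiconjugation of transvections. -/
theorem tv_semiconj (a b v φ : ι → F) (hab : b ⬝ᵥ a = 0) (hv : φ ⬝ᵥ v = 0) (hφa : φ ⬝ᵥ a = 0) :
    tv a b hab * tv v φ hv =
      tv (v + (b ⬝ᵥ v) • a) φ (by rw [dotProduct_add, dotProduct_smul, hv, hφa, smul_zero,
        add_zero]) * tv a b hab := by
  apply Subtype.ext
  change (tv a b hab).1 * (tv v φ hv).1 = (tv (v + (b ⬝ᵥ v) • a) φ _).1 * (tv a b hab).1
  rw [tv_val, tv_val, tv_val]
  rw [add_mul, mul_add, mul_add, one_mul, mul_one, one_mul, vecMulVec_mul_vecMulVec]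
  rw [add_mul, mul_add, mul_add, one_mul, mul_one, one_mul, vecMulVec_mul_vecMulVec, hφa,
    zero_smul, vecMulVec_zero, add_zero, add_vecMulVec, vecMulVec_smul, smul_vecMulVec]
  abel

end tvsec

section usec
variable {F : Type*} [Field F] {m : ℕ}

/-- extend a vector by a zero first coordinate. -/
def hat (w : Fin m → F) : Fin (m + 1) → F := Fin.cons 0 w

theorem hat_zero' (w : Fin m → F) : hat w 0 = 0 := rfl

theorem hat_succ (w : Fin m → F) (i : Fin m) : hat w i.succ = w i := rfl

theorem hat_add (w w' : Fin m → F) : hat (w + w') = hat w + hat w' := by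
  funext k
  refine Fin.cases ?_ (fun i => ?_) k
  · simp [hat]
  · simp [hat]

theorem hat_single (i : Fin m) (x : F) : hat (Pi.single i x) = Pi.single i.succ x := by
  funext k
  refine Fin.cases ?_ (fun j => ?_) k
  · simp [hat, (Fin.succ_ne_zero i).symm]
  · simp [hat, Pi.single_apply]

theorem e0_dot_hat (w : Fin m → F) : (Pi.single 0 1 : Fin (m + 1) → F) ⬝ᵥ hat w = 0 := by
  rw [single_dotProduct, one_mul, hat_zero']

/-- the abelian unipotent radical. -/
def uu (w : Fin m → F) : SpecialLinearGroup (Fin (m + 1)) F :=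
  tv (hat w) (Pi.single 0 1) (e0_dot_hat w)

theorem uu_zero : uu (0 : Fin m → F) = 1 := by
  rw [uu, tv_congr (by funext k; refine Fin.cases ?_ (fun i => ?_) k <;> simp [hat])
    (e0_dot_hat 0) (dotProduct_zero _), tv_zero]

theorem uu_add (w w' : Fin m → F) : uu (w + w') = uu w * uu w' := by
  rw [uu, uu, uu, tv_mul_tv]
  exact tv_congr (hat_add w w') _ _

theorem el_aux {i j : Fin m} (hij : i ≠ j) (c : F) :
    (Pi.single j.succ 1 : Fin (m + 1) → F) ⬝ᵥ (c • Pi.single i.succ 1) = 0 := by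
  rw [single_dotProduct, one_mul, Pi.smul_apply, Pi.single_apply,
    if_neg (fun h => hij (Fin.succ_injective _ h).symm), smul_zero]

/-- elementary transvections of the Levi factor. -/
def el (i j : Fin m) (hij : i ≠ j) (c : F) : SpecialLinearGroup (Fin (m + 1)) F :=
  tv (c • Pi.single i.succ 1) (Pi.single j.succ 1) (el_aux hij c)

theorem el_mul_uu {i j : Fin m} (hij : i ≠ j) (c : F) (w : Fin m → F) :
    el i j hij c * uu w = uu (w + Pi.single i (c * w j)) * el i j hij c := by
  have h0 : (Pi.single 0 1 : Fin (m + 1) → F) ⬝ᵥ (c • Pi.single i.succ 1) = 0 := by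
    rw [single_dotProduct, one_mul, Pi.smul_apply, Pi.single_apply,
      if_neg (Fin.succ_ne_zero i).symm, smul_zero]
  rw [el, uu, tv_semiconj _ _ _ _ (el_aux hij c) (e0_dot_hat w) h0]
  congr 1
  apply tv_congr
  rw [hat_add, hat_single, single_dotProduct, one_mul, hat_succ]
  congr 1
  funext k
  simp [Pi.single_apply, mul_comm]

theorem uu_not_central {w : Fin m → F}
    (h : uu w ∈ Subgroup.center (SpecialLinearGroup (Fin (m + 1)) F)) : w = 0 := by
  funext i
  have h1 := SpecialLinearGroup.scalar_eq_self_of_mem_center h 0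
  have h2 := congrFun (congrFun h1 i.succ) 0
  have h3 : (uu w).1 i.succ 0 = w i := by
    rw [uu, tv_val]
    simp [vecMulVec_apply, hat_succ, (Fin.succ_ne_zero i)]
  have h4 : (scalar (Fin (m + 1)) ((uu w).1 0 0)) i.succ 0 = 0 := by
    simp [Matrix.scalar_apply, (Fin.succ_ne_zero i)]
  change _ = (uu w).1 i.succ 0 at h2
  rw [h3, h4] at h2
  exact h2.symm

end usec

end Cfsg.Agent.Lib.H12.XChar
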