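import Cfsg.Agent.Lib.H12.XCharB

/-!
# Cross-characteristic representations of `SL_{m+1}(q)` with central kernel have degree `≥ q^m - 1` (helper12)
-/

set_option autoImplicit false
open Matrix

namespace Cfsg.Agent.Lib.H12.XChar

variable {F : Type*} [Field F] [Fintype F] {L : Type*} [Field L]

theorem card_le_of_rep (ψ : AddChar F L) (hψ : ψ ≠ 1) (m : ℕ) (hm : 2 ≤ m)
    (hq : ((Fintype.card F : ℕ) : L) ≠ 0) {d : ℕ}
    (ρ : SpecialLinearGroup (Fin (m + 1)) F →* GL (Fin d) L)
    (hker : ρ.ker ≤ Subgroup.center (SpecialLinearGroup (Fin (m + 1)) F)) :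
    Fintype.card F ^ m - 1 ≤ d := by
  classical
  set R : (Fin m → F) → Module.End L (Fin d → L) :=
    fun w => Matrix.toLin' ((ρ (uu w) : GL (Fin d) L) : Matrix (Fin d) (Fin d) L) with hR
  have hR0 : R 0 = 1 := by
    simp only [hR, uu_zero, map_one, Units.val_one, Matrix.toLin'_one]
    rfl
  have hRadd : ∀ w w', R (w + w') = R w * R w' := by
    intro w w'
    simp only [hR, uu_add, map_mul, Units.val_mul, Matrix.toLin'_mul]
    rfl
  have hN : ((Fintype.card F ^ Fintype.card (Fin m) : ℕ) : L) ≠ 0 := by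
    rw [Nat.cast_pow]
    exact pow_ne_zero _ hq
  set X : Set (Fin m → F) :=
    {η | ∃ v : Fin d → L, v ≠ 0 ∧ ∀ w, R w v = ψ (η ⬝ᵥ w) • v} with hX
  have hmove : ∀ η ∈ X, ∀ i j : Fin m, i ≠ j → ∀ c : F, η + Pi.single j (c * η i) ∈ X := by
    rintro η ⟨v, hv0, hv⟩ i j hij c
    set g := el i j hij c with hg
    refine ⟨Matrix.toLin' ((ρ g⁻¹ : GL (Fin d) L) : Matrix (Fin d) (Fin d) L) v, ?_, ?_⟩
    · intro h0
      apply hv0
      have h1 := congrArg (Matrix.toLin' ((ρ g : GL (Fin d) L) : Matrix (Fin d) (Fin d) L)) h0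
      rw [map_zero, ← LinearMap.comp_apply, ← Matrix.toLin'_mul, ← Units.val_mul, ← map_mul,
        mul_inv_cancel, map_one, Units.val_one, Matrix.toLin'_one] at h1
      exact h1
    · intro w
      have h1 : uu w * g⁻¹ = g⁻¹ * uu (w + Pi.single i (c * w j)) := by
        rw [eq_inv_mul_iff_mul_eq, ← mul_assoc, hg, el_mul_uu, mul_assoc, mul_inv_cancel, mul_one]
      show Matrix.toLin' ((ρ (uu w) : GL (Fin d) L) : Matrix (Fin d) (Fin d) L)
        (Matrix.toLin' ((ρ g⁻¹ : GL (Fin d) L) : Matrix (Fin d) (Fin d) L) v) = _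
      rw [← LinearMap.comp_apply, ← Matrix.toLin'_mul, ← Units.val_mul, ← map_mul, h1, map_mul,
        Units.val_mul, Matrix.toLin'_mul, LinearMap.comp_apply]
      have h2 := hv (w + Pi.single i (c * w j))
      simp only [hR] at h2
      rw [h2, map_smul]
      congr 2
      rw [add_dotProduct, dotProduct_add, single_dotProduct, dotProduct_single]
      ring
  have hex : ∃ η ∈ X, η ≠ 0 := by
    by_contra hcon
    push Not at hcon
    have h1 : ∀ w, R w = 1 := by
      apply action_trivial_of_no_eigen ψ hψ R hR0 hRadd hN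
      intro η hη v hv
      by_contra hv0
      exact hη (hcon η ⟨v, hv0, hv⟩)
    have h2 : ∀ w : Fin m → F, w = 0 := by
      intro w
      apply uu_not_central
      apply hker
      rw [MonoidHom.mem_ker]
      apply Units.ext
      have := h1 w
      simp only [hR] at this
      have h3 : Matrix.toLin' ((ρ (uu w) : GL (Fin d) L) : Matrix (Fin d) (Fin d) L) =
          Matrix.toLin' (1 : Matrix (Fin d) (Fin d) L) := by
        rw [this, Matrix.toLin'_one]; rfl
      exact Matrix.toLin'.injective h3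
    have h3 := h2 (Pi.single ⟨0, by omega⟩ 1)
    have h4 := congrFun h3 ⟨0, by omega⟩
    simp at h4
  obtain ⟨η0, hη0, hη0ne⟩ := hex
  have hall : ∀ τ : Fin m → F, τ ≠ 0 → τ ∈ X := fun τ hτ =>
    moves_transitive (by rw [Fintype.card_fin]; exact hm) X hmove hη0 hη0ne τ hτ
  have h5 := card_le_finrank ψ hψ R hN (Finset.univ.filter fun τ : Fin m → F => τ ≠ 0)
    (fun η hη => hall η (Finset.mem_filter.mp hη).2)
  rw [Module.finrank_fin_fun, Finset.filter_ne', Finset.card_erase_of_mem (Finset.mem_univ _),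
    Finset.card_univ, Fintype.card_fun, Fintype.card_fin] at h5
  exact h5

theorem GL_map_injective {K L : Type*} [Field K] [Field L] (f : K →+* L) {d : ℕ} :
    Function.Injective (Matrix.GeneralLinearGroup.map (n := Fin d) f) := by
  intro A B h
  apply Units.ext
  ext i j
  have h1 := congrArg (fun g : GL (Fin d) L => g i j) h
  simp only [Matrix.GeneralLinearGroup.map_apply] at h1
  exact f.injective h1

theorem cast_card_ne_zero {K : Type*} [Field K] (hK : ringChar K ≠ ringChar F) :
    ((Fintype.card F : ℕ) : K) ≠ 0 := by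
  intro h0
  rw [CharP.cast_eq_zero_iff K (ringChar K)] at h0
  obtain ⟨k, hp, hk⟩ := FiniteField.card F (ringChar F)
  rcases CharP.char_is_prime_or_zero K (ringChar K) with hr | hr
  · rw [hk] at h0
    have h1 := hr.dvd_of_dvd_pow h0
    exact hK ((Nat.prime_dvd_prime_iff_eq hr hp).mp h1)
  · rw [hr, zero_dvd_iff] at h0
    exact Fintype.card_ne_zero h0

theorem sl_rep_bound {q : ℕ} (hq : Fintype.card F = q) (n : ℕ) (hn : 3 ≤ n)
    {K : Type*} [Field K] (hK : ringChar K ≠ ringChar F) {d : ℕ}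
    (ρ : SpecialLinearGroup (Fin n) F →* GL (Fin d) K)
    (hker : ρ.ker ≤ Subgroup.center (SpecialLinearGroup (Fin n) F)) :
    q ^ (n - 1) - 1 ≤ d := by
  obtain ⟨m, rfl⟩ : ∃ m, n = m + 1 := ⟨n - 1, by omega⟩
  subst hq
  rw [Nat.add_sub_cancel]
  set P := AddChar.FiniteField.primitiveChar F K hK with hP
  have hψ : P.char ≠ 1 := by
    intro h1
    apply P.prim (one_ne_zero (α := F))
    rw [h1]
    ext x
    simp
  have hq' : ((Fintype.card F : ℕ) : CyclotomicField P.n K) ≠ 0 := by
    have := cast_card_ne_zero (F := F) hK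
    intro h0
    apply this
    apply (algebraMap K (CyclotomicField P.n K)).injective
    rw [map_natCast, h0, map_zero]
  refine card_le_of_rep P.char hψ m (by omega) hq'
    ((Matrix.GeneralLinearGroup.map (algebraMap K (CyclotomicField P.n K))).comp ρ) ?_
  intro g hg
  apply hker
  rw [MonoidHom.mem_ker] at hg ⊢
  rw [MonoidHom.comp_apply] at hg
  apply GL_map_injective (algebraMap K (CyclotomicField P.n K))
  rw [hg, map_one]

end Cfsg.Agent.Lib.H12.XChar
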