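import Cfsg.Agent.Lib.H12.XCharA

/-!
# A vector acting trivially on all occurring eigen-characters acts trivially (helper12)
-/

set_option autoImplicit false
open Matrix

namespace Cfsg.Agent.Lib.H12.XChar

variable {F : Type*} [Field F] [Fintype F] {L : Type*} [Field L] {κ : Type*} [Fintype κ]
  [DecidableEq κ] {V : Type*} [AddCommGroup V] [Module L V]

theorem apply_eq_one_of_eigen (ψ : AddChar F L) (hψ : ψ ≠ 1) (R : (κ → F) → Module.End L V)
    (hR0 : R 0 = 1) (hRadd : ∀ w w', R (w + w') = R w * R w')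
    (hN : ((Fintype.card F ^ Fintype.card κ : ℕ) : L) ≠ 0) (w0 : κ → F)
    (h : ∀ η : κ → F, (∃ v : V, v ≠ 0 ∧ ∀ w, R w v = ψ (η ⬝ᵥ w) • v) → ψ (η ⬝ᵥ w0) = 1) :
    R w0 = 1 := by
  classical
  apply LinearMap.ext
  intro v
  have h2 := congrArg (fun f : Module.End L V => f v) (sum_proj ψ hψ R hR0 hN)
  simp only [LinearMap.sum_apply, Module.End.one_apply] at h2
  rw [Module.End.one_apply]
  conv_lhs => rw [← h2]
  conv_rhs => rw [← h2]
  rw [map_sum]
  apply Finset.sum_congr rfl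
  intro η _
  rw [proj_isEigen ψ R hRadd]
  by_cases hv0 : proj ψ R η v = 0
  · rw [hv0, smul_zero]
  · rw [h η ⟨_, hv0, proj_isEigen ψ R hRadd η v⟩, one_smul]

end Cfsg.Agent.Lib.H12.XChar
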