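import Cfsg.Agent.Lib.H12.XCharE

/-!
# A Heisenberg-type abelian subgroup `[[1, e₀wᵀ + we₀ᵀ],[0,1]]` of `Sp_{2(m+1)}` and Levi elements acting on it (helper12)
-/

set_option autoImplicit false
open Matrix

namespace Cfsg.Agent.Lib.H12.XChar

variable {F : Type*} [Field F] {m : ℕ}

/-- first basis vector. -/
def ee0 : Fin (m + 1) → F := Pi.single 0 1

/-- the symmetric matrix `e₀ wᵀ + w e₀ᵀ`. -/
def symOf (w : Fin (m + 1) → F) : Matrix (Fin (m + 1)) (Fin (m + 1)) F :=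
  vecMulVec ee0 w + vecMulVec w ee0

theorem symOf_transpose (w : Fin (m + 1) → F) : (symOf w)ᵀ = symOf w := by
  rw [symOf, transpose_add, transpose_vecMulVec, transpose_vecMulVec]
  exact add_comm _ _

theorem symOf_add (w w' : Fin (m + 1) → F) : symOf (w + w') = symOf w + symOf w' := by
  rw [symOf, symOf, symOf, vecMulVec_add, add_vecMulVec]
  abel

theorem symOf_zero : symOf (0 : Fin (m + 1) → F) = 0 := by
  rw [symOf, vecMulVec_zero, zero_vecMulVec, add_zero]

theorem symOf_conj (A : Matrix (Fin (m + 1)) (Fin (m + 1)) F) (c : F)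
    (hA : A *ᵥ ee0 = c • ee0) (w : Fin (m + 1) → F) :
    A * symOf w * Aᵀ = symOf (c • (A *ᵥ w)) := by
  rw [symOf, symOf, mul_add, add_mul, mul_vecMulVec, mul_vecMulVec, vecMulVec_mul, vecMulVec_mul,
    vecMul_transpose, vecMul_transpose, hA, smul_vecMulVec, vecMulVec_smul, vecMulVec_smul,
    smul_vecMulVec]

/-- the unipotent elements `[[1, S_w], [0, 1]]`. -/
def uS (w : Fin (m + 1) → F) : Matrix.symplecticGroup (Fin (m + 1)) F :=
  ⟨fromBlocks 1 (symOf w) 0 1, by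
    rw [SymplecticGroup.fromBlocks_mem_iff]
    refine ⟨by simp, ?_, by simp⟩
    rw [symOf_transpose, transpose_one, mul_one, one_mul]⟩

theorem uS_val (w : Fin (m + 1) → F) :
    (uS w : Matrix (Fin (m + 1) ⊕ Fin (m + 1)) (Fin (m + 1) ⊕ Fin (m + 1)) F) =
      fromBlocks 1 (symOf w) 0 1 := rfl

theorem uS_zero : uS (0 : Fin (m + 1) → F) = 1 := by
  apply Subtype.ext
  rw [uS_val, symOf_zero, fromBlocks_one]; rfl

theorem uS_add (w w' : Fin (m + 1) → F) : uS (w + w') = uS w * uS w' := by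
  apply Subtype.ext
  rw [Submonoid.coe_mul, uS_val, uS_val, uS_val, fromBlocks_multiply, symOf_add]
  simp [add_comm]

/-- the Levi elements `[[A, 0], [0, A⁻ᵀ]]`. -/
def lev (A : GL (Fin (m + 1)) F) : Matrix.symplecticGroup (Fin (m + 1)) F :=
  ⟨fromBlocks (A : Matrix (Fin (m + 1)) (Fin (m + 1)) F) 0 0
      ((A⁻¹ : GL (Fin (m + 1)) F) : Matrix (Fin (m + 1)) (Fin (m + 1)) F)ᵀ, by
    rw [SymplecticGroup.fromBlocks_mem_iff]
    refine ⟨by simp, by simp, ?_⟩
    rw [transpose_zero, zero_mul, sub_zero, ← transpose_mul, ← Units.val_mul, inv_mul_cancel,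
      Units.val_one, transpose_one]⟩

theorem lev_val (A : GL (Fin (m + 1)) F) :
    (lev A : Matrix (Fin (m + 1) ⊕ Fin (m + 1)) (Fin (m + 1) ⊕ Fin (m + 1)) F) =
      fromBlocks (A : Matrix (Fin (m + 1)) (Fin (m + 1)) F) 0 0
      ((A⁻¹ : GL (Fin (m + 1)) F) : Matrix (Fin (m + 1)) (Fin (m + 1)) F)ᵀ := rfl

theorem lev_mul_uS (A : GL (Fin (m + 1)) F) (c : F)
    (hA : (A : Matrix (Fin (m + 1)) (Fin (m + 1)) F) *ᵥ ee0 = c • ee0) (w : Fin (m + 1) → F) :
    lev A * uS w = uS (c • ((A : Matrix (Fin (m + 1)) (Fin (m + 1)) F) *ᵥ w)) * lev A := by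
  apply Subtype.ext
  rw [Submonoid.coe_mul, Submonoid.coe_mul, lev_val, uS_val, uS_val, fromBlocks_multiply,
    fromBlocks_multiply, ← symOf_conj _ c hA]
  have h1 : (A : Matrix (Fin (m + 1)) (Fin (m + 1)) F)ᵀ *
      ((A⁻¹ : GL (Fin (m + 1)) F) : Matrix (Fin (m + 1)) (Fin (m + 1)) F)ᵀ = 1 := by
    rw [← transpose_mul, ← Units.val_mul, inv_mul_cancel, Units.val_one, transpose_one]
  simp only [mul_one, mul_zero, add_zero, zero_mul, zero_add, one_mul]
  rw [mul_assoc, mul_assoc, h1, mul_one]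

theorem uS_central {w : Fin (m + 1) → F}
    (h : uS w ∈ Subgroup.center (Matrix.symplecticGroup (Fin (m + 1)) F)) : symOf w = 0 := by
  have h1 := Subgroup.mem_center_iff.mp h (SymplecticGroup.symJ (Fin (m + 1)) F)
  have h2 := congrArg Subtype.val h1
  rw [Submonoid.coe_mul, Submonoid.coe_mul, SymplecticGroup.coe_J, uS_val, J,
    fromBlocks_multiply, fromBlocks_multiply] at h2
  have h3 := (fromBlocks_inj.mp h2).2.2.2
  simpa using h3

theorem symOf_ee0_apply : symOf (ee0 : Fin (m + 1) → F) 0 0 = 2 := by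
  simp [symOf, ee0, vecMulVec_apply]
  norm_num

end Cfsg.Agent.Lib.H12.XChar
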