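import Cfsg.Agent.Lib.H12.XSpA
import Cfsg.Agent.Lib.H12.XCharD
import Cfsg.Agent.Lib.H12.SemiF

/-!
# Cross-characteristic representations of `Sp_{2n}(q)`, `q` odd, with central kernel have degree
`≥ q^(n-1)(q-1)/2` (helper12)
-/

set_option autoImplicit false
open Matrix

namespace Cfsg.Agent.Lib.H12.XChar

variable {F : Type*} [Field F] {m : ℕ}

/-- the diagonal matrix `diag(t, 1, …, 1)` in `GL`. -/
noncomputable def dgl (t : F) (ht : t ≠ 0) : GL (Fin (m + 1)) F :=
  Matrix.GeneralLinearGroup.mkOfDetNeZero (diagonal (Function.update (1 : Fin (m + 1) → F) 0 t))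
    (by
      rw [det_diagonal, Finset.prod_eq_single (0 : Fin (m + 1))]
      · simpa using ht
      · intro j _ hj
        rw [Function.update_of_ne hj]; rfl
      · intro h; exact absurd (Finset.mem_univ _) h)

theorem dgl_val (t : F) (ht : t ≠ 0) :
    ((dgl t ht : GL (Fin (m + 1)) F) : Matrix (Fin (m + 1)) (Fin (m + 1)) F) =
      diagonal (Function.update (1 : Fin (m + 1) → F) 0 t) := rfl

theorem dgl_mulVec_ee0 (t : F) (ht : t ≠ 0) :
    ((dgl t ht : GL (Fin (m + 1)) F) : Matrix (Fin (m + 1)) (Fin (m + 1)) F) *ᵥ ee0 = t • ee0 := by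
  rw [dgl_val]
  funext j
  rw [mulVec_diagonal, Pi.smul_apply, ee0, Pi.single_apply]
  by_cases hj : j = 0
  · subst hj; simp
  · simp [hj]

theorem vecMul_dgl (t : F) (ht : t ≠ 0) (η : Fin (m + 1) → F) (j : Fin (m + 1)) :
    (η ᵥ* ((dgl t ht : GL (Fin (m + 1)) F) : Matrix (Fin (m + 1)) (Fin (m + 1)) F)) j =
      if j = 0 then η 0 * t else η j := by
  rw [dgl_val, vecMul_diagonal]
  by_cases hj : j = 0
  · subst hj; simp
  · simp [hj]

/-- the unipotent `1 + e₀ yᵀ` in `GL`, for `y 0 = 0`. -/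
noncomputable def ugl (y : Fin (m + 1) → F) (hy : y 0 = 0) : GL (Fin (m + 1)) F :=
  Matrix.GeneralLinearGroup.mkOfDetNeZero (1 + vecMulVec ee0 y)
    (by
      rw [vecMulVec_eq Unit, det_one_add_replicateCol_mul_replicateRow, ee0, dotProduct_single,
        mul_one, hy, add_zero]
      exact one_ne_zero)

theorem ugl_val (y : Fin (m + 1) → F) (hy : y 0 = 0) :
    ((ugl y hy : GL (Fin (m + 1)) F) : Matrix (Fin (m + 1)) (Fin (m + 1)) F) =
      1 + vecMulVec ee0 y := rfl

theorem ugl_mulVec_ee0 (y : Fin (m + 1) → F) (hy : y 0 = 0) :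
    ((ugl y hy : GL (Fin (m + 1)) F) : Matrix (Fin (m + 1)) (Fin (m + 1)) F) *ᵥ ee0 =
      (1 : F) • ee0 := by
  rw [ugl_val, add_mulVec, one_mulVec, vecMulVec_mulVec, one_smul]
  have : y ⬝ᵥ (ee0 : Fin (m + 1) → F) = 0 := by rw [ee0, dotProduct_single, mul_one, hy]
  rw [this]
  simp

theorem vecMul_ugl (y : Fin (m + 1) → F) (hy : y 0 = 0) (η : Fin (m + 1) → F) :
    η ᵥ* ((ugl y hy : GL (Fin (m + 1)) F) : Matrix (Fin (m + 1)) (Fin (m + 1)) F) =
      η + η 0 • y := by
  rw [ugl_val, vecMul_add, vecMul_one, vecMul_vecMulVec, ee0, dotProduct_single, mul_one]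

theorem two_mul_card_image_sq [Fintype F] [DecidableEq F] (a : F) (ha : a ≠ 0) :
    Fintype.card F - 1 ≤
      2 * ((Finset.univ.erase (0 : F)).image (fun t => t * (a * t))).card := by
  have h1 := Finset.card_le_mul_card_image (f := fun t : F => t * (a * t))
    (Finset.univ.erase (0 : F)) 2 ?_
  · rwa [Finset.card_erase_of_mem (Finset.mem_univ _), Finset.card_univ] at h1
  · intro b hb
    obtain ⟨s, hs, rfl⟩ := Finset.mem_image.mp hb
    have hsub : (Finset.univ.erase (0 : F)).filter (fun t => t * (a * t) = s * (a * s)) ⊆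
        {s, -s} := by
      intro t ht
      rw [Finset.mem_filter] at ht
      have h2 : (t - s) * (t + s) = 0 := by
        have h3 : a * ((t - s) * (t + s)) = 0 := by linear_combination ht.2
        exact (mul_eq_zero.mp h3).resolve_left ha
      rw [Finset.mem_insert, Finset.mem_singleton]
      rcases mul_eq_zero.mp h2 with h | h
      · left; exact sub_eq_zero.mp h
      · right; exact eq_neg_of_add_eq_zero_left h
    exact (Finset.card_le_card hsub).trans Finset.card_le_two

theorem card_le_of_rep_sp [Fintype F] {L : Type*} [Field L] (ψ : AddChar F L) (hψ : ψ ≠ 1)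
    (m : ℕ) (h2 : (2 : F) ≠ 0)
    (hq : ((Fintype.card F : ℕ) : L) ≠ 0) {d : ℕ}
    (ρ : Matrix.symplecticGroup (Fin (m + 1)) F →* GL (Fin d) L)
    (hker : ρ.ker ≤ Subgroup.center (Matrix.symplecticGroup (Fin (m + 1)) F)) :
    Fintype.card F ^ m * (Fintype.card F - 1) / 2 ≤ d := by
  classical
  set R : (Fin (m + 1) → F) → Module.End L (Fin d → L) :=
    fun w => Matrix.toLin' ((ρ (uS w) : GL (Fin d) L) : Matrix (Fin d) (Fin d) L) with hR
  have hR0 : R 0 = 1 := by
    simp only [hR, uS_zero, map_one, Units.val_one, Matrix.toLin'_one]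
    rfl
  have hRadd : ∀ w w', R (w + w') = R w * R w' := by
    intro w w'
    simp only [hR, uS_add, map_mul, Units.val_mul, Matrix.toLin'_mul]
    rfl
  have hN : ((Fintype.card F ^ Fintype.card (Fin (m + 1)) : ℕ) : L) ≠ 0 := by
    rw [Nat.cast_pow]
    exact pow_ne_zero _ hq
  set X : Set (Fin (m + 1) → F) :=
    {η | ∃ v : Fin d → L, v ≠ 0 ∧ ∀ w, R w v = ψ (η ⬝ᵥ w) • v} with hX
  have hmove : ∀ η ∈ X, ∀ (A : GL (Fin (m + 1)) F) (c : F),
      (A : Matrix (Fin (m + 1)) (Fin (m + 1)) F) *ᵥ ee0 = c • ee0 →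
      c • (η ᵥ* (A : Matrix (Fin (m + 1)) (Fin (m + 1)) F)) ∈ X := by
    rintro η ⟨v, hv0, hv⟩ A c hA
    set g := lev A with hg
    refine ⟨Matrix.toLin' ((ρ g⁻¹ : GL (Fin d) L) : Matrix (Fin d) (Fin d) L) v, ?_, ?_⟩
    · intro h0
      apply hv0
      have h1 := congrArg (Matrix.toLin' ((ρ g : GL (Fin d) L) : Matrix (Fin d) (Fin d) L)) h0
      rw [map_zero, ← LinearMap.comp_apply, ← Matrix.toLin'_mul, ← Units.val_mul, ← map_mul,
        mul_inv_cancel, map_one, Units.val_one, Matrix.toLin'_one] at h1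
      exact h1
    · intro w
      have h1 : uS w * g⁻¹ =
          g⁻¹ * uS (c • ((A : Matrix (Fin (m + 1)) (Fin (m + 1)) F) *ᵥ w)) := by
        rw [eq_inv_mul_iff_mul_eq, ← mul_assoc, hg, lev_mul_uS A c hA, mul_assoc, mul_inv_cancel,
          mul_one]
      show Matrix.toLin' ((ρ (uS w) : GL (Fin d) L) : Matrix (Fin d) (Fin d) L)
        (Matrix.toLin' ((ρ g⁻¹ : GL (Fin d) L) : Matrix (Fin d) (Fin d) L) v) = _
      rw [← LinearMap.comp_apply, ← Matrix.toLin'_mul, ← Units.val_mul, ← map_mul, h1, map_mul,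
        Units.val_mul, Matrix.toLin'_mul, LinearMap.comp_apply]
      have h2 := hv (c • ((A : Matrix (Fin (m + 1)) (Fin (m + 1)) F) *ᵥ w))
      simp only [hR] at h2
      rw [h2, map_smul]
      congr 2
      rw [dotProduct_smul, smul_dotProduct, dotProduct_mulVec]
  have hex : ∃ η ∈ X, η 0 ≠ 0 := by
    by_contra hcon
    push Not at hcon
    have h1 : R ee0 = 1 := by
      apply apply_eq_one_of_eigen ψ hψ R hR0 hRadd hN
      intro η hη
      rw [ee0, dotProduct_single, mul_one, hcon η hη, AddChar.map_zero_eq_one]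
    have h3 : uS (ee0 : Fin (m + 1) → F) ∈
        Subgroup.center (Matrix.symplecticGroup (Fin (m + 1)) F) := by
      apply hker
      rw [MonoidHom.mem_ker]
      apply Units.ext
      simp only [hR] at h1
      have h4 : Matrix.toLin' ((ρ (uS ee0) : GL (Fin d) L) : Matrix (Fin d) (Fin d) L) =
          Matrix.toLin' (1 : Matrix (Fin d) (Fin d) L) := by
        rw [h1, Matrix.toLin'_one]; rfl
      exact Matrix.toLin'.injective h4
    have h5 := congrFun (congrFun (uS_central h3) 0) 0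
    rw [symOf_ee0_apply] at h5
    exact h2 h5
  obtain ⟨η0, hη0, ha⟩ := hex
  set a := η0 0 with hadef
  set T : Finset F := (Finset.univ.erase (0 : F)).image (fun t => t * (a * t)) with hT
  have hall : ∀ τ : Fin (m + 1) → F, τ 0 ∈ T → τ ∈ X := by
    intro τ hτ
    obtain ⟨t, ht, hτt⟩ := Finset.mem_image.mp hτ
    have ht0 : t ≠ 0 := (Finset.mem_erase.mp ht).1
    have h1 := hmove η0 hη0 (dgl t ht0) t (dgl_mulVec_ee0 t ht0)
    set η1 := t • (η0 ᵥ* ((dgl t ht0 : GL (Fin (m + 1)) F) :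
      Matrix (Fin (m + 1)) (Fin (m + 1)) F)) with hη1
    have hη10 : η1 0 = τ 0 := by
      rw [hη1, Pi.smul_apply, vecMul_dgl, if_pos rfl, smul_eq_mul, ← hτt]
    have hne : η1 0 ≠ 0 := by
      rw [hη10, ← hτt]
      exact mul_ne_zero ht0 (mul_ne_zero ha ht0)
    have hy : ((η1 0)⁻¹ • (τ - η1)) 0 = 0 := by
      rw [Pi.smul_apply, Pi.sub_apply, hη10, sub_self, smul_zero]
    have h3 := hmove η1 h1 (ugl _ hy) 1 (ugl_mulVec_ee0 _ hy)
    rw [one_smul, vecMul_ugl, smul_smul, mul_inv_cancel₀ hne, one_smul, add_sub_cancel] at h3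
    exact h3
  have h5 := card_le_finrank ψ hψ R hN (Finset.univ.filter fun τ : Fin (m + 1) → F => τ 0 ∈ T)
    (fun η hη => hall η (Finset.mem_filter.mp hη).2)
  rw [Module.finrank_fin_fun] at h5
  have h6 : (Finset.univ.filter fun τ : Fin (m + 1) → F => τ 0 ∈ T).card =
      T.card * Fintype.card F ^ m := by
    have := Cfsg.Agent.Lib.H12.Semi.card_fun_constrained (F := F) (n := m + 1) 0 T
    rw [Nat.card_eq_fintype_card, Fintype.card_subtype, Nat.add_sub_cancel] at this
    exact this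
  rw [h6] at h5
  have h7 := two_mul_card_image_sq a ha
  rw [← hT] at h7
  apply Nat.div_le_of_le_mul
  calc Fintype.card F ^ m * (Fintype.card F - 1)
      ≤ Fintype.card F ^ m * (2 * T.card) := Nat.mul_le_mul_left _ h7
    _ = 2 * (T.card * Fintype.card F ^ m) := by ring
    _ ≤ 2 * d := Nat.mul_le_mul_left _ h5

theorem two_ne_zero_of_odd_card [Fintype F] (hodd : Odd (Fintype.card F)) : (2 : F) ≠ 0 := by
  intro h
  have h1 : ((2 : ℕ) : F) = 0 := by exact_mod_cast h
  rw [CharP.cast_eq_zero_iff F (ringChar F)] at h1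
  have hp : (ringChar F).Prime := CharP.char_is_prime F _
  have h2 : ringChar F = 2 := (Nat.prime_dvd_prime_iff_eq hp Nat.prime_two).mp h1
  have h3 := FiniteField.even_card_iff_char_two.mp h2
  rw [Nat.odd_iff] at hodd
  omega

theorem sp_rep_bound [Fintype F] {q : ℕ} (hq : Fintype.card F = q) (hodd : Odd q) (n : ℕ)
    (hn : 2 ≤ n) {K : Type*} [Field K] (hK : ringChar K ≠ ringChar F) {d : ℕ}
    (ρ : Matrix.symplecticGroup (Fin n) F →* GL (Fin d) K)
    (hker : ρ.ker ≤ Subgroup.center (Matrix.symplecticGroup (Fin n) F)) :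
    q ^ (n - 1) * (q - 1) / 2 ≤ d := by
  obtain ⟨m, rfl⟩ : ∃ m, n = m + 1 := ⟨n - 1, by omega⟩
  subst hq
  rw [Nat.add_sub_cancel]
  set P := AddChar.FiniteField.primitiveChar F K hK with hP
  have hψ : P.char ≠ 1 := by
    intro h1
    apply P.prim (one_ne_zero (α := F))
    rw [h1]
    ext x
    simp
  have hq' : ((Fintype.card F : ℕ) : CyclotomicField P.n K) ≠ 0 := by
    have := cast_card_ne_zero (F := F) hK
    intro h0
    apply this
    apply (algebraMap K (CyclotomicField P.n K)).injective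
    rw [map_natCast, h0, map_zero]
  refine card_le_of_rep_sp P.char hψ m (two_ne_zero_of_odd_card hodd) hq'
    ((Matrix.GeneralLinearGroup.map (algebraMap K (CyclotomicField P.n K))).comp ρ) ?_
  intro g hg
  apply hker
  rw [MonoidHom.mem_ker] at hg ⊢
  rw [MonoidHom.comp_apply] at hg
  apply GL_map_injective (algebraMap K (CyclotomicField P.n K))
  rw [hg, map_one]

end Cfsg.Agent.Lib.H12.XChar
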